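import Mathlib
import Groth.Agent.Lib.Helper7.QCohAffine

/-! Support of a quasi-coherent module on an affine open vs. stalks (helper28). Uses helper7's QCohAffine. -/

universe u
open AlgebraicGeometry CategoryTheory TopologicalSpace Opposite

namespace Groth.Agent.Lib.helper28
open Groth.Agent.Lib.helper7

theorem germ_eq_zero_of_smul_eq_zero {X : Scheme.{u}} (F : X.Modules) {V : X.Opens} (g : Γ(X, V))
    (m : Γ(F, V)) (x : X) (hx : x ∈ X.basicOpen g) (h : g • m = 0) :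
    F.presheaf.germ V x (X.basicOpen_le g hx) m = 0 := by
  have hu : IsUnit (X.presheaf.map (homOfLE (X.basicOpen_le g)).op g) :=
    RingedSpace.isUnit_res_basicOpen _ g
  have h1 : F.presheaf.map (homOfLE (X.basicOpen_le g)).op m = 0 := by
    have := Scheme.Modules.map_smul F (homOfLE (X.basicOpen_le g)) g m
    rw [h, map_zero] at this
    exact (hu.smul_eq_zero).mp this.symm
  rw [← TopCat.Presheaf.germ_res_apply F.presheaf (homOfLE (X.basicOpen_le g)) x hx m, h1, map_zero]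

theorem exists_smul_eq_zero_of_germ_eq_zero {X : Scheme.{u}} (F : X.Modules) [F.IsQuasicoherent]
    {U : X.Opens} (hU : IsAffineOpen U) (m : Γ(F, U)) (x : X) (hx : x ∈ U)
    (h : F.presheaf.germ U x hx m = 0) :
    ∃ f : Γ(X, U), x ∈ X.basicOpen f ∧ f • m = 0 := by
  have h0 : F.presheaf.germ U x hx m = F.presheaf.germ U x hx 0 := by rw [h, map_zero]
  obtain ⟨W, hxW, iU, iV, e⟩ := TopCat.Presheaf.germ_eq F.presheaf x hx hx m 0 h0
  rw [map_zero] at e
  obtain ⟨f, hfW, hxf⟩ := hU.exists_basicOpen_le (V := W) ⟨x, hxW⟩ hx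
  have h1 : F.presheaf.map (homOfLE (X.basicOpen_le f)).op m = 0 := by
    have : F.presheaf.map (homOfLE hfW).op (F.presheaf.map iU.op m) = 0 := by rw [e, map_zero]
    rw [← this]
    exact (map_map F iU.le hfW m).symm
  obtain ⟨n, hn⟩ := exists_pow_smul_eq_zero_of_isAffineOpen hU F f m h1
  refine ⟨f ^ (n+1), ?_, ?_⟩
  · rw [Scheme.basicOpen_pow _ _ (Nat.succ_pos n)]; exact hxf
  · rw [pow_succ', mul_smul, hn, smul_zero]

theorem exists_section_of_stalk {X : Scheme.{u}} (F : X.Modules) [F.IsQuasicoherent]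
    {U : X.Opens} (hU : IsAffineOpen U) (x : X) (hx : x ∈ U) (t : ToType (F.presheaf.stalk x)) :
    ∃ (f : Γ(X, U)) (hxf : x ∈ X.basicOpen f) (t₁ : Γ(F, X.basicOpen f)) (n : ℕ) (s : Γ(F, U)),
      F.presheaf.germ (X.basicOpen f) x hxf t₁ = t ∧
      F.presheaf.map (homOfLE (X.basicOpen_le f)).op s =
        (X.presheaf.map (homOfLE (X.basicOpen_le f)).op f) ^ n • t₁ := by
  obtain ⟨V, hxV, t₀, rfl⟩ := F.presheaf.exists_germ_eq t
  obtain ⟨f, hfV, hxf⟩ := hU.exists_basicOpen_le (V := V) ⟨x, hxV⟩ hx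
  let t₁ : Γ(F, X.basicOpen f) := F.presheaf.map (homOfLE hfV).op t₀
  obtain ⟨n, s, hs⟩ := exists_pow_smul_eq_map_of_isAffineOpen hU F f t₁
  refine ⟨f, hxf, t₁, n, s, ?_, hs⟩
  exact TopCat.Presheaf.germ_res_apply F.presheaf (homOfLE hfV) x hxf t₀

theorem mem_basicOpen_iff {X : Scheme.{u}} {U : X.Opens} (hU : IsAffineOpen U) (x : X) (hx : x ∈ U)
    (f : Γ(X, U)) :
    x ∈ X.basicOpen f ↔ f ∉ (hU.primeIdealOf ⟨x, hx⟩).asIdeal := by
  have h1 := hU.fromSpec_primeIdealOf ⟨x, hx⟩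
  have h2 := hU.fromSpec_preimage_basicOpen f
  have h3 : hU.primeIdealOf ⟨x, hx⟩ ∈ hU.fromSpec ⁻¹ᵁ X.basicOpen f ↔ x ∈ X.basicOpen f := by
    change hU.fromSpec (hU.primeIdealOf ⟨x, hx⟩) ∈ X.basicOpen f ↔ _
    rw [h1]
  rw [← h3, h2]
  rfl

theorem primeIdealOf_mem_support_iff {X : Scheme.{u}} (F : X.Modules) [F.IsQuasicoherent] {U : X.Opens}
    (hU : IsAffineOpen U) (x : X) (hx : x ∈ U) :
    hU.primeIdealOf ⟨x, hx⟩ ∈ Module.support Γ(X, U) Γ(F, U) ↔
      ¬ Subsingleton (ToType (F.presheaf.stalk x)) := by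
  rw [Module.mem_support_iff_exists_annihilator]
  constructor
  · rintro ⟨m, hm⟩ hsub
    have h0 : F.presheaf.germ U x hx m = 0 := Subsingleton.elim _ _
    obtain ⟨f, hxf, hfm⟩ := exists_smul_eq_zero_of_germ_eq_zero F hU m x hx h0
    have : f ∈ (hU.primeIdealOf ⟨x, hx⟩).asIdeal :=
      hm ((Submodule.mem_annihilator_span_singleton _ _).mpr hfm)
    exact (mem_basicOpen_iff hU x hx f).mp hxf this
  · intro hns
    rw [not_subsingleton_iff_nontrivial] at hns
    obtain ⟨t, ht⟩ := exists_ne (0 : ToType (F.presheaf.stalk x))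
    obtain ⟨f, hxf, t₁, n, s, ht₁, hs⟩ := exists_section_of_stalk F hU x hx t
    refine ⟨s, fun r hr => ?_⟩
    rw [Submodule.mem_annihilator_span_singleton] at hr
    by_contra hrp
    have hxr : x ∈ X.basicOpen r := (mem_basicOpen_iff hU x hx r).mpr hrp
    have hu : IsUnit (X.presheaf.map (homOfLE (X.basicOpen_le f)).op f) :=
      RingedSpace.isUnit_res_basicOpen _ f
    let g : Γ(X, X.basicOpen f) := X.presheaf.map (homOfLE (X.basicOpen_le f)).op r *
      (X.presheaf.map (homOfLE (X.basicOpen_le f)).op f) ^ n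
    have hg : g • t₁ = 0 := by
      rw [mul_smul, ← hs, ← Scheme.Modules.map_smul, hr, map_zero]
    have hxg : x ∈ X.basicOpen g := by
      rw [Scheme.basicOpen_mul, Scheme.basicOpen_res, Scheme.basicOpen_of_isUnit _ (hu.pow n)]
      exact ⟨⟨hxf, hxr⟩, hxf⟩
    have := germ_eq_zero_of_smul_eq_zero F g t₁ x hxg hg
    exact ht (ht₁ ▸ this)

end Groth.Agent.Lib.helper28
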