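import Mathlib
import Groth.Prelude.Def_Grpd
import Groth.Agent.S7457
import Groth.Agent.S1889
import Groth.Agent.S1891

/-!
# Points of groupoid schemes: the relation `g₃ ∈ g₁ ∘ g₂` on the underlying space of `R`
-/

set_option autoImplicit false
universe u
open CategoryTheory CategoryTheory.Limits AlgebraicGeometry
open Groth.Agent.S7457

namespace Groth.Agent.Lib.helper28.GrpdPts

variable {S : Scheme.{u}}

/-- `g₃ ∈ g₁ ∘ g₂` -/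
def Mul3 (G : Grpd.GroupoidScheme S) (g₁ g₂ g₃ : G.R) : Prop :=
  ∃ (T : Scheme.{u}) (x : T) (α β : T ⟶ G.R) (h : α ≫ G.s = β ≫ G.t),
    α x = g₁ ∧ β x = g₂ ∧ cmp G α β h x = g₃

lemma Mul3.rot_right {G : Grpd.GroupoidScheme S} {g₁ g₂ g₃ : G.R} (h : Mul3 G g₁ g₂ g₃) :
    Mul3 G g₃ (G.i g₂) g₁ := by
  obtain ⟨T, x, α, β, hc, h1, h2, h3⟩ := h
  have hc' : cmp G α β hc ≫ G.s = (β ≫ G.i) ≫ G.t := by rw [cmp_s, Category.assoc, G.i_t]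
  refine ⟨T, x, cmp G α β hc, β ≫ G.i, hc', h3, ?_, ?_⟩
  · rw [Scheme.Hom.comp_apply, h2]
  · rw [L4 G α β hc hc', h1]

lemma Mul3.rot_left {G : Grpd.GroupoidScheme S} {g₁ g₂ g₃ : G.R} (h : Mul3 G g₁ g₂ g₃) :
    Mul3 G (G.i g₁) g₃ g₂ := by
  obtain ⟨T, x, α, β, hc, h1, h2, h3⟩ := h
  have hc' : (α ≫ G.i) ≫ G.s = cmp G α β hc ≫ G.t := by rw [cmp_t, Category.assoc, G.i_s]
  refine ⟨T, x, α ≫ G.i, cmp G α β hc, hc', ?_, h3, ?_⟩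
  · rw [Scheme.Hom.comp_apply, h1]
  · rw [L2 G α β hc hc', h2]

lemma i_i (G : Grpd.GroupoidScheme S) : G.i ≫ G.i = 𝟙 G.R := by
  have h1 : G.i ≫ G.s = 𝟙 G.R ≫ G.t := by rw [G.i_s, Category.id_comp]
  have h2 : G.i ≫ G.s = (G.i ≫ G.i) ≫ G.t := by rw [Category.assoc, G.i_t]
  have e1 : cmp G G.i (𝟙 G.R) h1 = G.s ≫ G.e :=
    (cmp_congr G h1 (Category.id_comp G.i).symm rfl).trans
      ((G.i_comp (𝟙 G.R)).trans (Category.id_comp _))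
  have e2 : cmp G G.i (G.i ≫ G.i) h2 = G.s ≫ G.e :=
    (G.comp_i G.i).trans (by rw [← Category.assoc, G.i_t])
  have l1 := L2 G G.i (𝟙 G.R) h1 (by rw [cmp_t, Category.assoc, G.i_s])
  have l2 := L2 G G.i (G.i ≫ G.i) h2 (by rw [cmp_t, Category.assoc, G.i_s])
  rw [← l2]
  conv_rhs => rw [← l1]
  exact cmp_congr G _ rfl (e2.trans e1.symm)

lemma i_i_apply (G : Grpd.GroupoidScheme S) (g : G.R) : G.i (G.i g) = g := by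
  rw [← Scheme.Hom.comp_apply, i_i]
  rfl

/-- common refinement of two points with the same image -/
lemma refine_pt {X Y B : Scheme.{u}} (a : X ⟶ B) (b : Y ⟶ B) (x : X) (y : Y) (h : a x = b y) :
    ∃ (Z : Scheme.{u}) (z : Z) (p : Z ⟶ X) (q : Z ⟶ Y), p ≫ a = q ≫ b ∧ p z = x ∧ q z = y := by
  obtain ⟨t, ht1, ht2⟩ := Scheme.Pullback.exists_preimage_pullback (f := a) (g := b) x y h
  exact ⟨_, t, pullback.fst a b, pullback.snd a b, pullback.condition, ht1, ht2⟩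

/-- the range of a morphism of groupoid schemes (iso on objects) is stable under composition -/
lemma Mul3.mem_range {G₁ G₂ : Grpd.GroupoidScheme S} (a : Grpd.GroupoidScheme.Hom G₁ G₂)
    [IsIso a.fU] {g₁ g₂ g₃ : G₂.R} (h : Mul3 G₂ g₁ g₂ g₃) (hg₁ : g₁ ∈ Set.range a.fR)
    (hg₂ : g₂ ∈ Set.range a.fR) : g₃ ∈ Set.range a.fR := by
  obtain ⟨T, x, α, β, hc, h1, h2, h3⟩ := h
  obtain ⟨k₁, hk₁⟩ := hg₁
  obtain ⟨k₂, hk₂⟩ := hg₂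
  obtain ⟨Z₁, z₁, p₁, q₁, e₁, hp₁, -⟩ := refine_pt α a.fR x k₁ (h1.trans hk₁.symm)
  obtain ⟨Z₂, z₂, p₂, q₂, e₂, hp₂, -⟩ := refine_pt (p₁ ≫ β) a.fR z₁ k₂ (by
    rw [Scheme.Hom.comp_apply, hp₁, h2, hk₂])
  have hα : (p₂ ≫ q₁) ≫ a.fR = (p₂ ≫ p₁) ≫ α := by
    rw [Category.assoc, ← e₁, Category.assoc]
  have hβ : q₂ ≫ a.fR = (p₂ ≫ p₁) ≫ β := by
    rw [← e₂, Category.assoc]
  have hc₂ : ((p₂ ≫ q₁) ≫ a.fR) ≫ G₂.s = (q₂ ≫ a.fR) ≫ G₂.t := by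
    rw [hα, hβ]
    simp only [Category.assoc]
    rw [hc]
  have hc₁ : (p₂ ≫ q₁) ≫ G₁.s = q₂ ≫ G₁.t := by
    have h4 : ((p₂ ≫ q₁) ≫ G₁.s) ≫ a.fU = (q₂ ≫ G₁.t) ≫ a.fU := by
      rw [Category.assoc, ← a.comm_s, Category.assoc (f := q₂), ← a.comm_t, ← Category.assoc,
        ← Category.assoc]
      exact hc₂
    exact (cancel_mono a.fU).mp h4
  refine ⟨cmp G₁ (p₂ ≫ q₁) q₂ hc₁ z₂, ?_⟩
  rw [← Scheme.Hom.comp_apply, Groth.Agent.S1891.homC a _ _ hc₁ hc₂, cmp_congr G₂ hc₂ hα hβ,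
    ← pre_cmp G₂ (p₂ ≫ p₁) α β hc, Scheme.Hom.comp_apply, Scheme.Hom.comp_apply, hp₂, hp₁, h3]

lemma inv_mem_range {G₁ G₂ : Grpd.GroupoidScheme S} (a : Grpd.GroupoidScheme.Hom G₁ G₂)
    {g : G₂.R} (hg : g ∈ Set.range a.fR) : G₂.i g ∈ Set.range a.fR := by
  obtain ⟨k, rfl⟩ := hg
  refine ⟨G₁.i k, ?_⟩
  have := Groth.Agent.S1891.homI a (𝟙 G₁.R)
  rw [Category.id_comp, Category.id_comp] at this
  rw [← Scheme.Hom.comp_apply, ← Scheme.Hom.comp_apply, this]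

lemma Mul3.exists_unit (G : Grpd.GroupoidScheme S) (r : G.R) :
    ∃ e ∈ Set.range G.e, Mul3 G r e r := by
  have hc : 𝟙 G.R ≫ G.s = (G.s ≫ G.e) ≫ G.t := by
    rw [Category.assoc, G.e_t, Category.comp_id, Category.id_comp]
  refine ⟨(G.s ≫ G.e) r, ⟨G.s r, by rw [Scheme.Hom.comp_apply]⟩,
    ⟨G.R, r, 𝟙 G.R, G.s ≫ G.e, hc, rfl, rfl, ?_⟩⟩
  have := G.comp_e (𝟙 G.R)
  have e1 : cmp G (𝟙 G.R) (G.s ≫ G.e) hc = 𝟙 G.R := by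
    rw [cmp_congr G hc rfl (Category.id_comp (G.s ≫ G.e)).symm]
    exact this
  rw [e1]
  rfl

lemma unit_mem_range {G₁ G₂ : Grpd.GroupoidScheme S} (a : Grpd.GroupoidScheme.Hom G₁ G₂)
    [IsIso a.fU] : Set.range G₂.e ⊆ Set.range a.fR := by
  have he : G₂.e = inv a.fU ≫ G₁.e ≫ a.fR := by
    rw [IsIso.eq_inv_comp]
    exact (Groth.Agent.S1891.homE a).symm
  rintro _ ⟨x, rfl⟩
  rw [he]
  simp only [Scheme.Hom.comp_apply]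
  exact ⟨_, rfl⟩

/-- left translates of opens are open when `U` is the spectrum of a field -/
lemma translate_open (G : Grpd.GroupoidScheme S) (k : Type u) [Field k]
    (eU : G.U ≅ Spec (CommRingCat.of k)) (W : G.R.Opens) (r : G.R) :
    IsOpen {g₃ | ∃ g₂ ∈ W, Mul3 G r g₂ g₃} := by
  obtain ⟨ζ, hζ⟩ : ∃ ζ : Spec (G.R.residueField r) ⟶ G.R, ∀ x, ζ x = r :=
    ⟨G.R.fromSpecResidueField r, fun x => Scheme.fromSpecResidueField_apply r x⟩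
  have h := Groth.Agent.S1889.result S G k eU W _ ζ
  have h0 : (pullback.fst (ζ ≫ G.s) (W.ι ≫ G.t) ≫ ζ) ≫ G.s =
      (pullback.snd (ζ ≫ G.s) (W.ι ≫ G.t) ≫ W.ι) ≫ G.t := by
    rw [Category.assoc, Category.assoc, pullback.condition]
  convert h using 1
  ext g₃
  simp only [Set.mem_setOf_eq, Set.mem_range]
  constructor
  · rintro ⟨g₂, hg₂, T, x, α, β, hc, h1, h2, h3⟩
    obtain ⟨Z₁, z₁, p₁, q₁, e₁, hp₁, -⟩ := refine_pt α ζ x (IsLocalRing.closedPoint _)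
      (h1.trans (hζ _).symm)
    obtain ⟨Z₂, z₂, p₂, q₂, e₂, hp₂, -⟩ := refine_pt (p₁ ≫ β) W.ι z₁ ⟨g₂, hg₂⟩ (by
      rw [Scheme.Hom.comp_apply, hp₁, h2]; rfl)
    have hα : (p₂ ≫ q₁) ≫ ζ = (p₂ ≫ p₁) ≫ α := by
      rw [Category.assoc, ← e₁, Category.assoc]
    have hβ : q₂ ≫ W.ι = (p₂ ≫ p₁) ≫ β := by
      rw [← e₂, Category.assoc]
    have hl : (p₂ ≫ q₁) ≫ ζ ≫ G.s = q₂ ≫ W.ι ≫ G.t := by
      rw [← Category.assoc, ← Category.assoc, hα, hβ]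
      simp only [Category.assoc]
      rw [hc]
    refine ⟨pullback.lift (p₂ ≫ q₁) q₂ hl z₂, ?_⟩
    rw [← Scheme.Hom.comp_apply]
    have e3 : pullback.lift (p₂ ≫ q₁) q₂ hl ≫
        cmp G (pullback.fst (ζ ≫ G.s) (W.ι ≫ G.t) ≫ ζ)
          (pullback.snd (ζ ≫ G.s) (W.ι ≫ G.t) ≫ W.ι) h0 = (p₂ ≫ p₁) ≫ cmp G α β hc := by
      rw [pre_cmp, pre_cmp]
      refine cmp_congr G _ ?_ ?_
      · rw [← Category.assoc, pullback.lift_fst, hα]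
      · rw [← Category.assoc, pullback.lift_snd, hβ]
    have e4 : (pullback.lift (p₂ ≫ q₁) q₂ hl ≫
        cmp G (pullback.fst (ζ ≫ G.s) (W.ι ≫ G.t) ≫ ζ)
          (pullback.snd (ζ ≫ G.s) (W.ι ≫ G.t) ≫ W.ι) h0) z₂ = g₃ := by
      rw [e3, Scheme.Hom.comp_apply, Scheme.Hom.comp_apply, hp₂, hp₁, h3]
    exact e4
  · rintro ⟨q, hq⟩
    refine ⟨(pullback.snd (ζ ≫ G.s) (W.ι ≫ G.t) ≫ W.ι) q, ?_, _, q,
      pullback.fst (ζ ≫ G.s) (W.ι ≫ G.t) ≫ ζ, pullback.snd (ζ ≫ G.s) (W.ι ≫ G.t) ≫ W.ι, h0,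
      ?_, rfl, hq⟩
    · rw [Scheme.Hom.comp_apply]
      exact (pullback.snd (ζ ≫ G.s) (W.ι ≫ G.t) q).2
    · rw [Scheme.Hom.comp_apply, hζ]

/-- `(α ∘ β)⁻¹ = β⁻¹ ∘ α⁻¹` -/
lemma cmp_inv (G : Grpd.GroupoidScheme S) {T : Scheme.{u}} (α β : T ⟶ G.R)
    (h : α ≫ G.s = β ≫ G.t) (h' : (β ≫ G.i) ≫ G.s = (α ≫ G.i) ≫ G.t) :
    cmp G (β ≫ G.i) (α ≫ G.i) h' = cmp G α β h ≫ G.i := by
  have hx : cmp G (β ≫ G.i) (α ≫ G.i) h' ≫ G.s = cmp G α β h ≫ G.t := by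
    rw [cmp_s, cmp_t, Category.assoc, G.i_s]
  have hαi : (α ≫ G.i) ≫ G.s = cmp G α β h ≫ G.t := by rw [cmp_t, Category.assoc, G.i_s]
  have s1 : cmp G (cmp G (β ≫ G.i) (α ≫ G.i) h') (cmp G α β h) hx = β ≫ G.s ≫ G.e := by
    rw [cmp_assoc G (β ≫ G.i) (α ≫ G.i) (cmp G α β h) h' hαi]
    rw [cmp_congr G _ rfl (L2 G α β h hαi)]
    exact G.i_comp β
  have h2 : cmp G (cmp G (β ≫ G.i) (α ≫ G.i) h') (cmp G α β h) hx ≫ G.s =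
      ((cmp G α β h) ≫ G.i) ≫ G.t := by
    rw [cmp_s, Category.assoc, G.i_t]
  have l4 := L4 G (cmp G (β ≫ G.i) (α ≫ G.i) h') (cmp G α β h) hx h2
  rw [← l4]
  have e5 : β ≫ G.s ≫ G.e = ((cmp G α β h) ≫ G.i) ≫ G.t ≫ G.e := by
    rw [Category.assoc, ← Category.assoc G.i, G.i_t, ← Category.assoc (cmp G α β h), cmp_s,
      Category.assoc]
  rw [cmp_congr G _ (s1.trans e5) rfl]
  exact G.e_comp _

lemma Mul3.mirror {G : Grpd.GroupoidScheme S} {g₁ g₂ g₃ : G.R} (h : Mul3 G g₁ g₂ g₃) :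
    Mul3 G (G.i g₂) (G.i g₁) (G.i g₃) := by
  obtain ⟨T, x, α, β, hc, h1, h2, h3⟩ := h
  have hc' : (β ≫ G.i) ≫ G.s = (α ≫ G.i) ≫ G.t := by
    rw [Category.assoc, Category.assoc, G.i_s, G.i_t, hc]
  refine ⟨T, x, β ≫ G.i, α ≫ G.i, hc', by rw [Scheme.Hom.comp_apply, h2],
    by rw [Scheme.Hom.comp_apply, h1], ?_⟩
  rw [cmp_inv G α β hc hc', Scheme.Hom.comp_apply, h3]

/-- the closure of the range of a morphism of groupoids over a field is stable under composition -/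
lemma Mul3.mem_closure_range {G₁ G₂ : Grpd.GroupoidScheme S} (a : Grpd.GroupoidScheme.Hom G₁ G₂)
    [IsIso a.fU] (k : Type u) [Field k] (eU : G₂.U ≅ Spec (CommRingCat.of k))
    {g₁ g₂ g₃ : G₂.R} (h : Mul3 G₂ g₁ g₂ g₃) (hg₁ : g₁ ∈ closure (Set.range a.fR))
    (hg₂ : g₂ ∈ closure (Set.range a.fR)) : g₃ ∈ closure (Set.range a.fR) := by
  have hinv : ∀ g, g ∈ closure (Set.range a.fR) → G₂.i g ∈ closure (Set.range a.fR) :=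
    fun g hg => map_mem_closure (Scheme.Hom.continuous G₂.i) hg
      (fun x hx => inv_mem_range a hx)
  obtain ⟨W, hW⟩ : ∃ W : G₂.R.Opens, ∀ g, g ∈ W ↔ g ∉ closure (Set.range a.fR) :=
    ⟨⟨(closure (Set.range a.fR))ᶜ, isClosed_closure.isOpen_compl⟩, fun g => Iff.rfl⟩
  -- Step A
  have stepA : ∀ a₁ g₂ g₃, a₁ ∈ Set.range a.fR → g₂ ∈ closure (Set.range a.fR) →
      Mul3 G₂ a₁ g₂ g₃ → g₃ ∈ closure (Set.range a.fR) := by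
    intro a₁ g₂ g₃ ha₁ hg₂ hm
    by_contra hg₃
    have hO := translate_open G₂ k eU W (G₂.i a₁)
    have hg₂O : g₂ ∈ {g | ∃ w ∈ W, Mul3 G₂ (G₂.i a₁) w g} := ⟨g₃, (hW g₃).mpr hg₃, hm.rot_left⟩
    obtain ⟨a₂, ⟨w, hwW, hw⟩, ha₂⟩ := mem_closure_iff.mp hg₂ _ hO hg₂O
    have h3 := hw.rot_left
    rw [i_i_apply] at h3
    exact (hW w).mp hwW (subset_closure (h3.mem_range a ha₁ ha₂))
  -- Step A'
  have stepA' : ∀ g₁ a₂ g₃, g₁ ∈ closure (Set.range a.fR) → a₂ ∈ Set.range a.fR →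
      Mul3 G₂ g₁ a₂ g₃ → g₃ ∈ closure (Set.range a.fR) := by
    intro g₁ a₂ g₃ hg₁ ha₂ hm
    have := hinv _ (stepA _ _ _ (inv_mem_range a ha₂) (hinv _ hg₁) hm.mirror)
    rwa [i_i_apply] at this
  by_contra hg₃
  have hO := translate_open G₂ k eU W (G₂.i g₁)
  have hg₂O : g₂ ∈ {g | ∃ w ∈ W, Mul3 G₂ (G₂.i g₁) w g} := ⟨g₃, (hW g₃).mpr hg₃, h.rot_left⟩
  obtain ⟨a₂, ⟨w, hwW, hw⟩, ha₂⟩ := mem_closure_iff.mp hg₂ _ hO hg₂O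
  have h3 := hw.rot_left
  rw [i_i_apply] at h3
  exact (hW w).mp hwW (stepA' _ _ _ hg₁ ha₂ h3)

end Groth.Agent.Lib.helper28.GrpdPts
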