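import Mathlib

/-!
# Characteristic polynomials for finite projective algebras via dual bases (helper28)

`DualBasis f n` : dual-basis data (`n` elements `b j` of `S` and `f`-linear coordinates `c j : S → R`
with `s = ∑ f (c j s) * b j`) for a ring hom `f : R →+* S`; it exists iff `S` is finite projective over `R`.
`mat x` is the matrix of multiplication by `x` in these coordinates, `cp x` its characteristic polynomial.
* `cp_indep` : `X ^ n' * D.cp x = X ^ n * D'.cp x` (independence of the data up to powers of `X`).
* `eval₂_cp` : Cayley–Hamilton, `eval₂ f x (D.cp x) = 0`.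
* `exists_baseChange` : base change of dual-basis data along an `IsBaseChange`.
* `exists_of_projective` : existence for finite projective algebras.
-/

namespace Groth.Agent.Lib.helper28.FinProjCharpoly

open Polynomial Matrix

universe u

/-- Dual-basis data for a ring hom `f : R →+* S`. -/
structure DualBasis {R S : Type*} [CommRing R] [CommRing S] (f : R →+* S) (n : ℕ) where
  b : Fin n → S
  c : Fin n → S →+ R
  lin : ∀ j r s, c j (f r * s) = r * c j s
  sum : ∀ s, ∑ j, f (c j s) * b j = s

namespace DualBasis

variable {R S : Type*} [CommRing R] [CommRing S] {f : R →+* S} {n n' : ℕ}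

/-- matrix of multiplication by `x`. -/
def mat (D : DualBasis f n) (x : S) : Matrix (Fin n) (Fin n) R :=
  Matrix.of fun j k => D.c j (x * D.b k)

/-- its characteristic polynomial. -/
noncomputable def cp (D : DualBasis f n) (x : S) : R[X] := (D.mat x).charpoly

lemma cp_monic (D : DualBasis f n) (x : S) : (D.cp x).Monic := Matrix.charpoly_monic _

lemma c_sum (D : DualBasis f n) (j : Fin n) {ι : Type*} (t : Finset ι) (r : ι → R) (s : ι → S) :
    D.c j (∑ k ∈ t, f (r k) * s k) = ∑ k ∈ t, r k * D.c j (s k) := by
  rw [map_sum]
  exact Finset.sum_congr rfl fun k _ => D.lin j _ _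

lemma cp_indep (D : DualBasis f n) (D' : DualBasis f n') (x : S) :
    X ^ n' * D.cp x = X ^ n * D'.cp x := by
  let A : Matrix (Fin n) (Fin n') R := Matrix.of fun j k' => D.c j (x * D'.b k')
  let B : Matrix (Fin n') (Fin n) R := Matrix.of fun j' k => D'.c j' (D.b k)
  have h1 : A * B = D.mat x := by
    ext j k
    rw [Matrix.mul_apply]
    simp only [A, B, mat, Matrix.of_apply]
    have e : x * D.b k = ∑ k', f (D'.c k' (D.b k)) * (x * D'.b k') := by
      conv_lhs => rw [← D'.sum (D.b k), Finset.mul_sum]
      exact Finset.sum_congr rfl fun k' _ => by ring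
    conv_rhs => rw [e, D.c_sum]
    exact Finset.sum_congr rfl fun k' _ => mul_comm _ _
  have h2 : B * A = D'.mat x := by
    ext j' k'
    rw [Matrix.mul_apply]
    simp only [A, B, mat, Matrix.of_apply]
    have e : x * D'.b k' = ∑ k, f (D.c k (x * D'.b k')) * D.b k := (D.sum _).symm
    conv_rhs => rw [e, D'.c_sum]
    exact Finset.sum_congr rfl fun k _ => mul_comm _ _
  have := Matrix.charpoly_mul_comm' A B
  rw [h1, h2] at this
  simpa [cp] using this

lemma cp_eq (D D' : DualBasis f n) (x : S) : D.cp x = D'.cp x :=
  (isRegular_X_pow n).left (D.cp_indep D' x)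

/-- Cayley–Hamilton. -/
lemma eval₂_cp (D : DualBasis f n) (x : S) : eval₂ f x (D.cp x) = 0 := by
  letI := f.toAlgebra
  have hsm : ∀ (r : R) (s : S), r • s = f r * s := fun r s => Algebra.smul_def r s
  let i : S →ₗ[R] (Fin n → R) :=
    { toFun := fun s j => D.c j s
      map_add' := fun s s' => by ext j; simp
      map_smul' := fun r s => by ext j; simp [hsm, D.lin] }
  let p : (Fin n → R) →ₗ[R] S := Fintype.linearCombination R D.b
  have hp : ∀ v, p v = ∑ j, f (v j) * D.b j := fun v => by
    simp [p, Fintype.linearCombination_apply, hsm]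
  have hpi : ∀ s, p (i s) = s := fun s => by rw [hp]; exact D.sum s
  let φ : S →ₗ[R] S := LinearMap.mulLeft R x
  let ψ : (Fin n → R) →ₗ[R] (Fin n → R) := i ∘ₗ φ ∘ₗ p
  have hpow : ∀ k : ℕ, ∀ s, p ((ψ ^ k) (i s)) = x ^ k * s := by
    intro k
    induction k with
    | zero => intro s; simp [hpi]
    | succ k ih =>
      intro s
      rw [pow_succ, Module.End.mul_apply]
      have : ψ (i s) = i (x * s) := by simp [ψ, φ, hpi]
      rw [this, ih, pow_succ]; ring
  have key : ∀ q : R[X], ∀ s, p ((aeval ψ q) (i s)) = (aeval x q) * s := by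
    intro q
    induction q using Polynomial.induction_on' with
    | add q₁ q₂ h₁ h₂ => intro s; simp [h₁, h₂, add_mul]
    | monomial k a =>
      intro s
      rw [aeval_monomial, aeval_monomial, Module.End.mul_apply, Module.algebraMap_end_apply,
        map_smul, hpow, hsm]
      change f a * (x ^ k * s) = f a * x ^ k * s
      ring
  have hmat : LinearMap.toMatrix' ψ = D.mat x := by
    ext j k
    rw [LinearMap.toMatrix'_apply]
    simp only [ψ, φ, mat, Matrix.of_apply, LinearMap.comp_apply]
    change D.c j (x * p (Pi.single k 1)) = _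
    rw [hp]
    congr 2
    rw [Finset.sum_eq_single k]
    · simp
    · intro j' _ hj'; simp [Pi.single_apply, hj']
    · simp
  have hcp : ψ.charpoly = D.cp x := by
    rw [cp, ← hmat, ← LinearMap.toMatrix_eq_toMatrix', LinearMap.charpoly_toMatrix]
  have h0 := key ψ.charpoly 1
  rw [LinearMap.aeval_self_charpoly, LinearMap.zero_apply, map_zero, mul_one, hcp] at h0
  exact h0.symm

/-- Existence for finite projective algebras. -/
lemma exists_of_projective (f : R →+* S)
    (hfin : letI := f.toAlgebra; Module.Finite R S)
    (hproj : letI := f.toAlgebra; Module.Projective R S) :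
    ∃ n, Nonempty (DualBasis f n) := by
  letI := f.toAlgebra
  obtain ⟨n, p, hp⟩ := Module.Finite.exists_fin' R S
  obtain ⟨i, hi⟩ := Module.projective_lifting_property p LinearMap.id hp
  have hsm : ∀ (r : R) (s : S), r • s = f r * s := fun r s => Algebra.smul_def r s
  refine ⟨n, ⟨{
    b := fun j => p (Pi.single j 1)
    c := fun j => ((LinearMap.proj j).comp i).toAddMonoidHom
    lin := fun j r s => by
      change (i (f r * s)) j = r * (i s) j
      rw [← hsm, map_smul]; rfl
    sum := fun s => by
      change ∑ j, f ((i s) j) * p (Pi.single j 1) = s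
      have h1 : p (i s) = s := congrArg (fun m => m s) hi
      conv_rhs => rw [← h1, LinearMap.pi_apply_eq_sum_univ p (i s)]
      refine Finset.sum_congr rfl fun j _ => ?_
      rw [hsm]
      congr 2
      ext k
      simp [Pi.single_apply, eq_comm] }⟩⟩

/-- Base change of dual-basis data. -/
lemma exists_baseChange {R S T P : Type*} [CommRing R] [CommRing S] [CommRing T] [CommRing P]
    [Algebra R S] [Algebra R T] [Algebra S P] [Algebra T P] [Algebra R P]
    [IsScalarTower R S P] [IsScalarTower R T P]
    (h : IsBaseChange T (IsScalarTower.toAlgHom R S P).toLinearMap)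
    (D : DualBasis (algebraMap R S) n) :
    ∃ D' : DualBasis (algebraMap T P) n,
      ∀ x, D'.mat (algebraMap S P x) = (D.mat x).map (algebraMap R T) := by
  let cl : Fin n → S →ₗ[R] R := fun j =>
    { toFun := D.c j
      map_add' := map_add _
      map_smul' := fun r s => by
        rw [Algebra.smul_def, D.lin]; rfl }
  let c' : Fin n → P →ₗ[T] T := fun j => h.lift ((Algebra.linearMap R T).comp (cl j))
  have hc' : ∀ j s, c' j (algebraMap S P s) = algebraMap R T (D.c j s) := fun j s =>
    h.lift_eq _ s
  have hsum : (∑ j, (c' j).smulRight (algebraMap S P (D.b j)) : P →ₗ[T] P) = LinearMap.id := by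
    apply h.algHom_ext
    intro s
    simp only [AlgHom.toLinearMap_apply, IsScalarTower.coe_toAlgHom', LinearMap.coe_sum,
      Finset.sum_apply, LinearMap.smulRight_apply, LinearMap.id_coe, id_eq]
    conv_rhs => rw [← D.sum s, map_sum]
    refine Finset.sum_congr rfl fun j _ => ?_
    rw [hc', Algebra.smul_def, map_mul, ← IsScalarTower.algebraMap_apply,
      ← IsScalarTower.algebraMap_apply]
  refine ⟨{
    b := fun j => algebraMap S P (D.b j)
    c := fun j => (c' j).toAddMonoidHom
    lin := fun j t y => by
      change c' j (algebraMap T P t * y) = t * c' j y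
      rw [← Algebra.smul_def, map_smul, smul_eq_mul]
    sum := fun y => by
      have := congrArg (fun m => m y) hsum
      simp only [LinearMap.coe_sum, Finset.sum_apply, LinearMap.smulRight_apply,
        LinearMap.id_coe, id_eq] at this
      conv_rhs => rw [← this]
      exact Finset.sum_congr rfl fun j _ => (Algebra.smul_def _ _).symm }, ?_⟩
  intro x
  ext j k
  simp only [mat, Matrix.of_apply, Matrix.map_apply]
  change c' j (algebraMap S P x * algebraMap S P (D.b k)) = _
  rw [← map_mul, hc']

end DualBasis

end Groth.Agent.Lib.helper28.FinProjCharpoly
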