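import Mathlib
import Groth.Agent.Lib.Helper28.FinProjCharpoly

/-!
# Norms for finite projective algebras via dual bases (helper28)

`DualBasis.nm x = det (1 + (mat x - mat 1))` : the norm of `x` (determinant of multiplication by `x`
on the projective module `S`, computed as `det (mul_x ⊕ 1_Q)` on a free module `S ⊕ Q`).
* `nm_one`, `nm_mul`, `nm_indep` (independence of the dual basis), `dvd_nm` (`x ∣ f (nm x)`),
* `nm_mem_iff` : for a prime `𝔭` of `R`, `nm x ∈ 𝔭 ↔ ∃ 𝔮` prime of `S` over `𝔭` with `x ∈ 𝔮`.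
-/

namespace Groth.Agent.Lib.helper28.FinProjCharpoly

open Polynomial Matrix

namespace DualBasis

variable {R S : Type*} [CommRing R] [CommRing S] {f : R →+* S} {n n' : ℕ}

lemma mat_apply (D : DualBasis f n) (x : S) (j k : Fin n) : D.mat x j k = D.c j (x * D.b k) := rfl

lemma mat_add (D : DualBasis f n) (x y : S) : D.mat (x + y) = D.mat x + D.mat y := by
  ext j k; simp [mat_apply, add_mul]

lemma mat_sub (D : DualBasis f n) (x y : S) : D.mat (x - y) = D.mat x - D.mat y := by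
  ext j k; simp [mat_apply, sub_mul]

lemma mat_smul (D : DualBasis f n) (r : R) (x : S) : D.mat (f r * x) = r • D.mat x := by
  ext j k; simp [mat_apply, mul_assoc, D.lin]

lemma mat_mul (D : DualBasis f n) (x y : S) : D.mat (x * y) = D.mat x * D.mat y := by
  ext j k
  rw [Matrix.mul_apply]
  simp only [mat_apply]
  have e : x * y * D.b k = ∑ l, f (D.c l (y * D.b k)) * (x * D.b l) := by
    conv_lhs => rw [mul_assoc, ← D.sum (y * D.b k), Finset.mul_sum]
    exact Finset.sum_congr rfl fun l _ => by ring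
  rw [e, D.c_sum]
  exact Finset.sum_congr rfl fun l _ => mul_comm _ _

lemma mat_one_mul (D : DualBasis f n) (x : S) : D.mat 1 * D.mat x = D.mat x := by
  rw [← mat_mul, one_mul]

lemma mat_mul_one (D : DualBasis f n) (x : S) : D.mat x * D.mat 1 = D.mat x := by
  rw [← mat_mul, mul_one]

/-- The norm. -/
noncomputable def nm (D : DualBasis f n) (x : S) : R := (1 + (D.mat x - D.mat 1)).det

lemma nm_one (D : DualBasis f n) : D.nm 1 = 1 := by simp [nm]

lemma nm_mul (D : DualBasis f n) (x y : S) : D.nm (x * y) = D.nm x * D.nm y := by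
  unfold nm
  rw [← Matrix.det_mul]
  congr 1
  have h1 := D.mat_mul x y
  have h2 := D.mat_mul_one x
  have h3 := D.mat_one_mul y
  have h4 := D.mat_one_mul 1
  simp only [mul_add, add_mul, mul_sub, sub_mul, mul_one, one_mul]
  rw [← h1, h2, h3, h4]
  abel

lemma nm_indep (D : DualBasis f n) (D' : DualBasis f n') (x : S) : D.nm x = D'.nm x := by
  let A : Matrix (Fin n) (Fin n') R := Matrix.of fun j k' => D.c j ((x - 1) * D'.b k')
  let B : Matrix (Fin n') (Fin n) R := Matrix.of fun j' k => D'.c j' (D.b k)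
  have h1 : A * B = D.mat x - D.mat 1 := by
    rw [← mat_sub]
    ext j k
    rw [Matrix.mul_apply]
    simp only [A, B, mat_apply, Matrix.of_apply]
    have e : (x - 1) * D.b k = ∑ k', f (D'.c k' (D.b k)) * ((x - 1) * D'.b k') := by
      conv_lhs => rw [← D'.sum (D.b k), Finset.mul_sum]
      exact Finset.sum_congr rfl fun k' _ => by ring
    conv_rhs => rw [e, D.c_sum]
    exact Finset.sum_congr rfl fun k' _ => mul_comm _ _
  have h2 : B * A = D'.mat x - D'.mat 1 := by
    rw [← mat_sub]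
    ext j' k'
    rw [Matrix.mul_apply]
    simp only [A, B, mat_apply, Matrix.of_apply]
    have e : (x - 1) * D'.b k' = ∑ k, f (D.c k ((x - 1) * D'.b k')) * D.b k := (D.sum _).symm
    conv_rhs => rw [e, D'.c_sum]
    exact Finset.sum_congr rfl fun k _ => mul_comm _ _
  unfold nm
  rw [← h1, ← h2, Matrix.det_one_add_mul_comm]

/-- the "evaluation" map `Rⁿ → S`. -/
def ev (D : DualBasis f n) (u : Fin n → R) : S := ∑ k, f (u k) * D.b k

lemma ev_add (D : DualBasis f n) (u v : Fin n → R) : D.ev (u + v) = D.ev u + D.ev v := by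
  simp [ev, add_mul, Finset.sum_add_distrib]

lemma ev_sub (D : DualBasis f n) (u v : Fin n → R) : D.ev (u - v) = D.ev u - D.ev v := by
  simp [ev, sub_mul, Finset.sum_sub_distrib]

lemma ev_smul (D : DualBasis f n) (r : R) (u : Fin n → R) : D.ev (r • u) = f r * D.ev u := by
  simp [ev, Finset.mul_sum, mul_assoc]

lemma ev_mat_mulVec (D : DualBasis f n) (z : S) (u : Fin n → R) :
    D.ev ((D.mat z).mulVec u) = z * D.ev u := by
  simp only [ev, Matrix.mulVec, dotProduct, mat_apply, map_sum, map_mul, Finset.sum_mul,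
    Finset.mul_sum]
  rw [Finset.sum_comm]
  refine Finset.sum_congr rfl fun k _ => ?_
  have := D.sum (z * D.b k)
  calc ∑ j, f (D.c j (z * D.b k)) * f (u k) * D.b j
      = f (u k) * ∑ j, f (D.c j (z * D.b k)) * D.b j := by
        rw [Finset.mul_sum]; exact Finset.sum_congr rfl fun j _ => by ring
    _ = z * (f (u k) * D.b k) := by rw [this]; ring

lemma dvd_nm (D : DualBasis f n) (x : S) : ∃ y, x * y = f (D.nm x) := by
  set N : Matrix (Fin n) (Fin n) R := 1 + (D.mat x - D.mat 1) with hN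
  let w : Fin n → R := fun k => D.c k 1
  have hw : D.ev w = 1 := by simpa [ev, w] using D.sum 1
  let v := N.adjugate.mulVec w
  have hNv : N.mulVec v = D.nm x • w := by
    simp only [v, Matrix.mulVec_mulVec, Matrix.mul_adjugate, Matrix.smul_mulVec,
      Matrix.one_mulVec]
    rfl
  have hev : ∀ u, D.ev (N.mulVec u) = x * D.ev u := by
    intro u
    rw [hN, Matrix.add_mulVec, Matrix.sub_mulVec, Matrix.one_mulVec, ev_add, ev_sub,
      ev_mat_mulVec, ev_mat_mulVec]
    ring
  refine ⟨D.ev v, ?_⟩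
  rw [← hev, hNv, ev_smul, hw, mul_one]

lemma isUnit_nm_iff (D : DualBasis f n) (x : S) : IsUnit (D.nm x) ↔ IsUnit x := by
  constructor
  · intro h
    obtain ⟨y, hy⟩ := D.dvd_nm x
    exact isUnit_of_mul_isUnit_left (hy ▸ h.map f)
  · rintro ⟨u, rfl⟩
    refine IsUnit.of_mul_eq_one (D.nm ↑u⁻¹) ?_
    rw [← nm_mul, Units.mul_inv, nm_one]

lemma det_one_add_smul_idem {k : Type*} [Field k] {m : Type*} [Fintype m] [DecidableEq m]
    (E : Matrix m m k) (hE : E * E = E) (ρ : k) (hρ : ρ ≠ 0) : (1 + (ρ • E - E)).det ≠ 0 := by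
  have h1 : (1 + (ρ • E - E)) * (1 + (ρ⁻¹ • E - E)) = 1 := by
    simp only [mul_add, add_mul, mul_sub, sub_mul, mul_one, one_mul, Matrix.smul_mul,
      Matrix.mul_smul, hE, smul_smul]
    rw [inv_mul_cancel₀ hρ, one_smul]
    abel
  intro h
  have := congrArg Matrix.det h1
  rw [Matrix.det_mul, h, zero_mul, Matrix.det_one] at this
  exact zero_ne_one this

lemma c_mul_mem (D : DualBasis f n) (I : Ideal R) {y : S} (hy : y ∈ I.map f) (j : Fin n) (s : S) :
    D.c j (s * y) ∈ I := by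
  induction hy using Submodule.span_induction generalizing s with
  | mem y hy =>
    obtain ⟨π, hπ, rfl⟩ := hy
    rw [mul_comm, D.lin]
    exact I.mul_mem_right _ hπ
  | zero => simp
  | add y z _ _ hy hz => rw [mul_add, map_add]; exact I.add_mem (hy s) (hz s)
  | smul a y _ hy => rw [smul_eq_mul, ← mul_assoc]; exact hy (s * a)

lemma nm_add_sub_mem (D : DualBasis f n) (I : Ideal R) (y : S) {p : S} (hp : p ∈ I.map f) :
    D.nm (y + p) - D.nm y ∈ I := by
  rw [← Ideal.Quotient.eq]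
  unfold nm
  rw [RingHom.map_det, RingHom.map_det]
  congr 1
  ext j k
  simp only [RingHom.mapMatrix_apply, Matrix.map_apply, Matrix.add_apply, Matrix.sub_apply,
    mat_apply, add_mul, map_add, map_sub]
  have : Ideal.Quotient.mk I (D.c j (p * D.b k)) = 0 := by
    rw [Ideal.Quotient.eq_zero_iff_mem, mul_comm]
    exact D.c_mul_mem I hp j _
  rw [this, add_zero]

lemma nm_scalar_not_mem (D : DualBasis f n) (𝔭 : Ideal R) [𝔭.IsPrime] {r : R} (hr : r ∉ 𝔭) :
    D.nm (f r) ∉ 𝔭 := by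
  let k := FractionRing (R ⧸ 𝔭)
  let φ : R →+* k := (algebraMap (R ⧸ 𝔭) k).comp (Ideal.Quotient.mk 𝔭)
  have hφ : ∀ a, φ a = 0 ↔ a ∈ 𝔭 := fun a => by
    simp only [φ, RingHom.comp_apply]
    rw [map_eq_zero_iff _ (IsFractionRing.injective (R ⧸ 𝔭) k), Ideal.Quotient.eq_zero_iff_mem]
  intro hmem
  have h0 : φ (D.nm (f r)) = 0 := (hφ _).mpr hmem
  have hmat : D.mat (f r) = r • D.mat 1 := by simpa using D.mat_smul r 1
  rw [nm, hmat, RingHom.map_det] at h0
  have hE : (D.mat 1).map φ * (D.mat 1).map φ = (D.mat 1).map φ := by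
    rw [← Matrix.map_mul, mat_one_mul]
  have hN : φ.mapMatrix (1 + (r • D.mat 1 - D.mat 1)) =
      1 + (φ r • (D.mat 1).map φ - (D.mat 1).map φ) := by
    ext j k
    simp [Matrix.one_apply, apply_ite]
  rw [hN] at h0
  exact det_one_add_smul_idem _ hE (φ r) (fun h => hr ((hφ r).mp h)) h0

/-- Prime-level characterisation of the vanishing of the norm. -/
lemma nm_mem_iff (D : DualBasis f n) (x : S) (𝔭 : Ideal R) [𝔭.IsPrime] :
    D.nm x ∈ 𝔭 ↔ ∃ 𝔮 : Ideal S, 𝔮.IsPrime ∧ 𝔮.comap f = 𝔭 ∧ x ∈ 𝔮 := by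
  constructor
  · intro hx
    by_contra hne
    apply (show D.nm x ∉ 𝔭 from ?_) hx
    have hdisj : ¬ Disjoint ((𝔭.map f ⊔ Ideal.span {x} : Ideal S) : Set S)
        ((𝔭.primeCompl.map f : Submonoid S) : Set S) := by
      intro hd
      obtain ⟨𝔮, h𝔮, hle, hd'⟩ := Ideal.exists_le_prime_disjoint _ _ hd
      refine hne ⟨𝔮, h𝔮, ?_, hle (Ideal.mem_sup_right (Ideal.mem_span_singleton_self x))⟩
      apply le_antisymm
      · intro a ha
        by_contra ha'
        exact Set.disjoint_left.mp hd' ha ⟨a, ha', rfl⟩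
      · intro a ha
        exact hle (Ideal.mem_sup_left (Ideal.mem_map_of_mem f ha))
    rw [Set.not_disjoint_iff] at hdisj
    obtain ⟨_, hJ, ⟨r, hr, rfl⟩⟩ := hdisj
    obtain ⟨p, hp, z', hz', hsum⟩ := Submodule.mem_sup.mp hJ
    obtain ⟨z, rfl⟩ := Ideal.mem_span_singleton'.mp hz'
    have h1 := D.nm_add_sub_mem 𝔭 (z * x) hp
    rw [add_comm, hsum, nm_mul] at h1
    intro hx'
    have h2 : D.nm (f r) ∈ 𝔭 := by
      have := 𝔭.add_mem h1 (𝔭.mul_mem_left (D.nm z) hx')
      simpa using this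
    exact D.nm_scalar_not_mem 𝔭 hr h2
  · rintro ⟨𝔮, h𝔮, hc, hx⟩
    obtain ⟨y, hy⟩ := D.dvd_nm x
    rw [← hc, Ideal.mem_comap, ← hy]
    exact 𝔮.mul_mem_right _ hx

end DualBasis

end Groth.Agent.Lib.helper28.FinProjCharpoly
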