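import Mathlib
import Groth.Agent.Lib.Helper28.FinProjNorm

/-!
# Invariance of norms / characteristic polynomials for ring-level groupoid data (helper28)

* `DualBasis.exists_poly`, `mat_poly_map`, `nm_map`, `cp_map` : base change of dual-basis data to polynomial rings.
* `InvData s t D` : ring-level shadow of the cartesian squares of a groupoid scheme with `U, R` affine.
* `InvData.nm_inv`, `cp_inv`, `poly` : norms / char. polynomials of `t a` have invariant coefficients,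
  also after adjoining polynomial variables.
* `InvData.exists_hom` : `k` algebraically closed, `ξ₀ ξ₁ : A →+* k` agreeing on invariants
  ⇒ `∃ ρ : B →+* k, ρ ∘ t = ξ₀ ∧ ρ ∘ s = ξ₁`.
* `InvData.exists_prime_orbit`, `exists_prime_over`, `exists_extend`.
-/

namespace Groth.Agent.Lib.helper28.FinProjCharpoly

open Polynomial Matrix

lemma exists_lift_of_isIntegral {R S k : Type*} [CommRing R] [CommRing S] [Field k] [IsAlgClosed k]
    (f : R →+* S) (hf : f.IsIntegral) (𝔔 : Ideal S) [𝔔.IsPrime] (φ : R →+* k)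
    (hker : 𝔔.comap f = RingHom.ker φ) :
    ∃ ψ : S →+* k, ψ.comp f = φ ∧ 𝔔 ≤ RingHom.ker ψ := by
  let g : R ⧸ 𝔔.comap f →+* S ⧸ 𝔔 := Ideal.quotientMap 𝔔 f le_rfl
  have hg : Function.Injective g := Ideal.quotientMap_injective
  have hgi : g.IsIntegral := RingHom.IsIntegral.quotient f hf
  let φ' : R ⧸ 𝔔.comap f →+* k := Ideal.Quotient.lift _ φ (fun a ha => by
    rw [hker] at ha; exact ha)
  have hφ' : Function.Injective φ' := by
    rw [injective_iff_map_eq_zero]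
    intro x hx
    obtain ⟨a, rfl⟩ := Ideal.Quotient.mk_surjective x
    rw [Ideal.Quotient.eq_zero_iff_mem, hker]
    exact hx
  letI := g.toAlgebra
  letI := φ'.toAlgebra
  haveI : Algebra.IsIntegral (R ⧸ 𝔔.comap f) (S ⧸ 𝔔) := ⟨hgi⟩
  haveI : Module.IsTorsionFree (R ⧸ 𝔔.comap f) (S ⧸ 𝔔) :=
    Module.isTorsionFree_iff_algebraMap_injective.mpr hg
  haveI : Module.IsTorsionFree (R ⧸ 𝔔.comap f) k :=
    Module.isTorsionFree_iff_algebraMap_injective.mpr hφ'
  let L : (S ⧸ 𝔔) →ₐ[R ⧸ 𝔔.comap f] k := IsAlgClosed.lift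
  refine ⟨L.toRingHom.comp (Ideal.Quotient.mk 𝔔), ?_, ?_⟩
  · ext a
    have := L.commutes (Ideal.Quotient.mk _ a)
    simpa [RingHom.algebraMap_toAlgebra, g, φ'] using this
  · intro x hx
    rw [RingHom.mem_ker, RingHom.comp_apply, Ideal.Quotient.eq_zero_iff_mem.mpr hx, map_zero]


namespace DualBasis

variable {R S : Type*} [CommRing R] [CommRing S] {f : R →+* S} {n n' : ℕ}

lemma exists_poly (σ : Type*) (D : DualBasis f n) :
    ∃ D' : DualBasis (MvPolynomial.map f : MvPolynomial σ R →+* MvPolynomial σ S) n,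
      ∀ x, D'.mat (MvPolynomial.C x) = (D.mat x).map MvPolynomial.C := by
  letI := f.toAlgebra
  letI := MvPolynomial.algebraMvPolynomial (σ := σ) (R := R) (S := S)
  have hp : Algebra.IsPushout R S (MvPolynomial σ R) (MvPolynomial σ S) := inferInstance
  have ibc : IsBaseChange (MvPolynomial σ R)
      (IsScalarTower.toAlgHom R S (MvPolynomial σ S)).toLinearMap := hp.symm.out
  have := DualBasis.exists_baseChange ibc (D : DualBasis (algebraMap R S) n)
  exact this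

/-- compatibility of `mat` with base change passes to polynomial rings. -/
lemma mat_poly_map {T P : Type*} [CommRing T] [CommRing P] {f' : T →+* P} (g : R →+* T)
    (g' : S →+* P) {σ : Type*} (D : DualBasis f n) (D' : DualBasis f' n)
    (h : ∀ x, D'.mat (g' x) = (D.mat x).map g)
    (Dσ : DualBasis (MvPolynomial.map f : MvPolynomial σ R →+* MvPolynomial σ S) n)
    (hσ : ∀ x, Dσ.mat (MvPolynomial.C x) = (D.mat x).map MvPolynomial.C)
    (Dσ' : DualBasis (MvPolynomial.map f' : MvPolynomial σ T →+* MvPolynomial σ P) n)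
    (hσ' : ∀ x, Dσ'.mat (MvPolynomial.C x) = (D'.mat x).map MvPolynomial.C)
    (F : MvPolynomial σ S) :
    Dσ'.mat (MvPolynomial.map g' F) = (Dσ.mat F).map (MvPolynomial.map g) := by
  induction F using MvPolynomial.induction_on with
  | C x =>
    rw [MvPolynomial.map_C, hσ', h, hσ]
    ext j k
    simp
  | add p q hp hq =>
    rw [map_add, mat_add, mat_add, hp, hq]
    ext j k
    simp
  | mul_X p i hp =>
    have e1 : p * MvPolynomial.X i = MvPolynomial.map f (MvPolynomial.X i) * p := by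
      rw [MvPolynomial.map_X, mul_comm]
    have e2 : MvPolynomial.map g' (p * MvPolynomial.X i) =
        MvPolynomial.map f' (MvPolynomial.X i) * MvPolynomial.map g' p := by
      rw [map_mul, MvPolynomial.map_X, MvPolynomial.map_X, mul_comm]
    rw [e2, mat_smul, hp, e1, mat_smul]
    ext j k
    simp

/-- the norm commutes with base change. -/
lemma nm_map {T P : Type*} [CommRing T] [CommRing P] {f' : T →+* P} (g : R →+* T)
    (g' : S →+* P) (D : DualBasis f n) (D' : DualBasis f' n)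
    (h : ∀ x, D'.mat (g' x) = (D.mat x).map g) (x : S) :
    g (D.nm x) = D'.nm (g' x) := by
  unfold nm
  rw [RingHom.map_det]
  congr 1
  have h1 := h 1
  rw [map_one] at h1
  rw [h, h1]
  ext j k
  simp [Matrix.one_apply, apply_ite]

/-- the characteristic polynomial commutes with base change. -/
lemma cp_map {T P : Type*} [CommRing T] [CommRing P] {f' : T →+* P} (g : R →+* T)
    (g' : S →+* P) (D : DualBasis f n) (D' : DualBasis f' n)
    (h : ∀ x, D'.mat (g' x) = (D.mat x).map g) (x : S) :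
    (D.cp x).map g = D'.cp (g' x) := by
  unfold cp
  rw [h, Matrix.charpoly_map]

end DualBasis

universe u

/-- the ring-level shadow of the two cartesian squares of a groupoid: the dual basis `D` of `s`
base changes along `t` and along `s` to dual bases of a common ring map, compatibly. -/
def InvData {A B : Type u} [CommRing A] [CommRing B] (s t : A →+* B) {n : ℕ}
    (D : DualBasis s n) : Prop :=
  ∃ (B₂ : Type u) (_ : CommRing B₂) (q u₁ u₂ : B →+* B₂) (D₁ D₂ : DualBasis q n),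
    (∀ x, D₁.mat (u₁ x) = (D.mat x).map t) ∧ (∀ x, D₂.mat (u₂ x) = (D.mat x).map s) ∧
      ∀ a, u₁ (t a) = u₂ (t a)

namespace InvData

variable {A B : Type u} [CommRing A] [CommRing B] {s t : A →+* B} {n : ℕ} {D : DualBasis s n}

lemma nm_inv (H : InvData s t D) (a : A) : s (D.nm (t a)) = t (D.nm (t a)) := by
  obtain ⟨B₂, _, q, u₁, u₂, D₁, D₂, h₁, h₂, h₃⟩ := H
  rw [DualBasis.nm_map s u₂ D D₂ h₂, DualBasis.nm_map t u₁ D D₁ h₁, h₃]
  exact D₂.nm_indep D₁ _

lemma cp_inv (H : InvData s t D) (a : A) : (D.cp (t a)).map s = (D.cp (t a)).map t := by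
  obtain ⟨B₂, _, q, u₁, u₂, D₁, D₂, h₁, h₂, h₃⟩ := H
  rw [DualBasis.cp_map s u₂ D D₂ h₂, DualBasis.cp_map t u₁ D D₁ h₁, h₃]
  exact D₂.cp_eq D₁ _

/-- `InvData` passes to polynomial rings. -/
lemma poly (H : InvData s t D) (σ : Type u)
    (Dσ : DualBasis (MvPolynomial.map s : MvPolynomial σ A →+* MvPolynomial σ B) n)
    (hσ : ∀ x, Dσ.mat (MvPolynomial.C x) = (D.mat x).map MvPolynomial.C) :
    InvData (MvPolynomial.map s) (MvPolynomial.map t) Dσ := by
  obtain ⟨B₂, _, q, u₁, u₂, D₁, D₂, h₁, h₂, h₃⟩ := H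
  obtain ⟨D₁σ, hD₁σ⟩ := D₁.exists_poly σ
  obtain ⟨D₂σ, hD₂σ⟩ := D₂.exists_poly σ
  refine ⟨MvPolynomial σ B₂, inferInstance, MvPolynomial.map q, MvPolynomial.map u₁,
    MvPolynomial.map u₂, D₁σ, D₂σ, ?_, ?_, ?_⟩
  · exact DualBasis.mat_poly_map t u₁ D D₁ h₁ Dσ hσ D₁σ hD₁σ
  · exact DualBasis.mat_poly_map s u₂ D D₂ h₂ Dσ hσ D₂σ hD₂σ
  · intro F
    rw [MvPolynomial.map_map, MvPolynomial.map_map]
    have : u₁.comp t = u₂.comp t := RingHom.ext h₃
    rw [this]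


lemma finite_homs {k : Type*} [Field k] (D : DualBasis s n) (ξ₁ : A →+* k) : {ρ : B →+* k | ρ.comp s = ξ₁}.Finite := by
  let Φ : (B →+* k) → (Fin n → k) := fun ρ j => ρ (D.b j)
  have hroots : ∀ j : Fin n, {z : k | ((D.cp (D.b j)).map ξ₁).IsRoot z}.Finite := fun j =>
    Polynomial.finite_setOfPred_isRoot ((D.cp_monic _).map ξ₁).ne_zero
  refine Set.Finite.of_injOn (f := Φ) (t := Set.pi Set.univ fun j => {z : k | ((D.cp (D.b j)).map ξ₁).IsRoot z})
    ?_ ?_ (Set.Finite.pi hroots)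
  · intro ρ hρ j _
    simp only [Set.mem_ofPred_eq] at hρ ⊢
    rw [Polynomial.IsRoot.def, Polynomial.eval_map, ← hρ]
    have := congrArg ρ (D.eval₂_cp (D.b j))
    rwa [Polynomial.hom_eval₂, map_zero] at this
  · intro ρ hρ ρ' hρ' hΦ
    simp only [Set.mem_ofPred_eq] at hρ hρ'
    ext x
    rw [← D.sum x, map_sum, map_sum]
    refine Finset.sum_congr rfl fun j _ => ?_
    rw [map_mul, map_mul]
    have h1 : ρ (s (D.c j x)) = ρ' (s (D.c j x)) := by
      change (ρ.comp s) _ = (ρ'.comp s) _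
      rw [hρ, hρ']
    rw [h1, show ρ (D.b j) = ρ' (D.b j) from congrFun hΦ j]

variable (H : InvData s t D) (e : B →+* A) (hes : ∀ a, e (s a) = a) (het : ∀ a, e (t a) = a)
  {k : Type u} [Field k] [IsAlgClosed k] (ξ₀ ξ₁ : A →+* k) (hξ : ∀ a, s a = t a → ξ₀ a = ξ₁ a)

include H hes het hξ in
lemma exists_hom_of_eval_eq_zero (σ : Type u) (lam : σ → k) (F : MvPolynomial σ A)
    (hF : MvPolynomial.eval₂ ξ₀ lam F = 0) :
    ∃ ρ : B →+* k, ρ.comp s = ξ₁ ∧ MvPolynomial.eval₂ (ρ.comp t) lam F = 0 := by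
  obtain ⟨Dσ, hσ⟩ := D.exists_poly σ
  have Hσ := H.poly σ Dσ hσ
  set Ft := MvPolynomial.map t F with hFt
  set G := Dσ.nm Ft with hGdef
  have hG : MvPolynomial.map s G = MvPolynomial.map t G := Hσ.nm_inv F
  have hmapG : MvPolynomial.map ξ₀ G = MvPolynomial.map ξ₁ G := by
    ext m
    rw [MvPolynomial.coeff_map, MvPolynomial.coeff_map]
    apply hξ
    have := congrArg (MvPolynomial.coeff m) hG
    rwa [MvPolynomial.coeff_map, MvPolynomial.coeff_map] at this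
  have hevalG : MvPolynomial.eval₂ ξ₀ lam G = MvPolynomial.eval₂ ξ₁ lam G := by
    rw [MvPolynomial.eval₂_eq_eval_map, MvPolynomial.eval₂_eq_eval_map, hmapG]
  have hes' : (ξ₀.comp e).comp s = ξ₀ := by ext a; simp [hes]
  have het' : (ξ₀.comp e).comp t = ξ₀ := by ext a; simp [het]
  -- the `ξ₀` side
  have h0 : MvPolynomial.eval₂ ξ₀ lam G = 0 := by
    let 𝔔₀ : Ideal (MvPolynomial σ B) := RingHom.ker (MvPolynomial.eval₂Hom (ξ₀.comp e) lam)
    let 𝔓₀ : Ideal (MvPolynomial σ A) := RingHom.ker (MvPolynomial.eval₂Hom ξ₀ lam)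
    haveI : 𝔓₀.IsPrime := RingHom.ker_isPrime _
    have hmem : G ∈ 𝔓₀ := by
      rw [hGdef, DualBasis.nm_mem_iff]
      refine ⟨𝔔₀, RingHom.ker_isPrime _, ?_, ?_⟩
      · ext p
        simp only [𝔔₀, 𝔓₀, Ideal.mem_comap, RingHom.mem_ker, MvPolynomial.coe_eval₂Hom]
        rw [MvPolynomial.eval₂_map, hes']
      · simp only [𝔔₀, RingHom.mem_ker, MvPolynomial.coe_eval₂Hom, hFt]
        rw [MvPolynomial.eval₂_map, het']
        exact hF
    exact hmem
  rw [hevalG] at h0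
  let 𝔓₁ : Ideal (MvPolynomial σ A) := RingHom.ker (MvPolynomial.eval₂Hom ξ₁ lam)
  haveI : 𝔓₁.IsPrime := RingHom.ker_isPrime _
  have hmem : Dσ.nm Ft ∈ 𝔓₁ := h0
  rw [DualBasis.nm_mem_iff] at hmem
  obtain ⟨𝔔, h𝔔, hco, hFt𝔔⟩ := hmem
  have hint : (MvPolynomial.map s : MvPolynomial σ A →+* MvPolynomial σ B).IsIntegral :=
    fun x => ⟨Dσ.cp x, Dσ.cp_monic x, Dσ.eval₂_cp x⟩
  obtain ⟨ψ, hψ, hle⟩ := exists_lift_of_isIntegral _ hint 𝔔 (MvPolynomial.eval₂Hom ξ₁ lam) hco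
  let ρ : B →+* k := ψ.comp MvPolynomial.C
  have hρs : ρ.comp s = ξ₁ := by
    ext a
    have := congrArg (fun m => m (MvPolynomial.C a)) hψ
    simpa [ρ] using this
  have hψe : ψ = MvPolynomial.eval₂Hom ρ lam := by
    apply MvPolynomial.ringHom_ext
    · intro r; simp [ρ]
    · intro i
      have := congrArg (fun m => m (MvPolynomial.X i)) hψ
      simpa using this
  refine ⟨ρ, hρs, ?_⟩
  have h1 : ψ Ft = 0 := hle hFt𝔔
  rw [hψe, MvPolynomial.coe_eval₂Hom, hFt, MvPolynomial.eval₂_map] at h1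
  exact h1

include H hes het hξ in
theorem exists_hom : ∃ ρ : B →+* k, ρ.comp t = ξ₀ ∧ ρ.comp s = ξ₁ := by
  by_contra hne
  have hfin := finite_homs D ξ₁
  let Θ : (A →+* k) → (MvPolynomial k A →+* k) := fun ζ => MvPolynomial.eval₂Hom ζ id
  let 𝔪 : (B →+* k) → Ideal (MvPolynomial k A) := fun ρ => RingHom.ker (Θ (ρ.comp t))
  let 𝔪₀ : Ideal (MvPolynomial k A) := RingHom.ker (Θ ξ₀)
  have hsub : ¬ ((𝔪₀ : Set (MvPolynomial k A)) ⊆ ⋃ ρ ∈ (↑hfin.toFinset : Set (B →+* k)), 𝔪 ρ) := by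
    rw [Ideal.subset_union_prime (ξ₀.comp e) (ξ₀.comp e) (fun ρ _ _ _ => RingHom.ker_isPrime _)]
    rintro ⟨ρ, hρ, hle⟩
    apply hne
    refine ⟨ρ, ?_, (hfin.mem_toFinset.mp hρ)⟩
    ext a
    have hmem : (MvPolynomial.C a - MvPolynomial.X (ξ₀ a) : MvPolynomial k A) ∈ 𝔪₀ := by
      simp [𝔪₀, Θ, RingHom.mem_ker]
    have := hle hmem
    simp only [Θ, RingHom.mem_ker, MvPolynomial.coe_eval₂Hom, MvPolynomial.eval₂_sub,
      MvPolynomial.eval₂_C, MvPolynomial.eval₂_X, id_eq, sub_eq_zero] at this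
    exact this
  rw [Set.not_subset] at hsub
  obtain ⟨F, hF0, hFn⟩ := hsub
  obtain ⟨ρ, hρs, hρF⟩ := exists_hom_of_eval_eq_zero H e hes het ξ₀ ξ₁ hξ k id F hF0
  apply hFn
  simp only [Set.mem_iUnion]
  exact ⟨ρ, hfin.mem_toFinset.mpr hρs, hρF⟩

section eqLocus

variable (hint : (RingHom.eqLocus s t).subtype.IsIntegral)

include hint in
omit H hes het hξ in
theorem exists_prime_over (𝔠 : Ideal (RingHom.eqLocus s t)) [𝔠.IsPrime] :
    ∃ 𝔭 : Ideal A, 𝔭.IsPrime ∧ 𝔭.comap (RingHom.eqLocus s t).subtype = 𝔠 := by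
  letI := (RingHom.eqLocus s t).subtype.toAlgebra
  haveI : Algebra.IsIntegral (RingHom.eqLocus s t) A := ⟨hint⟩
  have hk : RingHom.ker (algebraMap (RingHom.eqLocus s t) A) = ⊥ :=
    (RingHom.injective_iff_ker_eq_bot _).mp Subtype.val_injective
  obtain ⟨Q, -, hQ, hQ'⟩ := Ideal.exists_ideal_over_prime_of_isIntegral 𝔠 (⊥ : Ideal A)
    (by rw [← RingHom.ker_eq_comap_bot, hk]; exact bot_le)
  exact ⟨Q, hQ, hQ'⟩

include hint in
omit H hes het hξ in
theorem exists_extend (μ : RingHom.eqLocus s t →+* k) :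
    ∃ ξ : A →+* k, ξ.comp (RingHom.eqLocus s t).subtype = μ := by
  haveI : (RingHom.ker μ).IsPrime := RingHom.ker_isPrime μ
  obtain ⟨𝔭, h𝔭, hco⟩ := exists_prime_over (s := s) (t := t) hint (RingHom.ker μ)
  obtain ⟨ξ, hξ, -⟩ := exists_lift_of_isIntegral _ hint 𝔭 μ hco
  exact ⟨ξ, hξ⟩

include H hes het hint in
omit hξ in
theorem exists_prime_orbit (𝔭₀ 𝔭₁ : Ideal A) [𝔭₀.IsPrime] [𝔭₁.IsPrime]
    (h : 𝔭₀.comap (RingHom.eqLocus s t).subtype = 𝔭₁.comap (RingHom.eqLocus s t).subtype) :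
    ∃ 𝔮 : Ideal B, 𝔮.IsPrime ∧ 𝔮.comap t = 𝔭₀ ∧ 𝔮.comap s = 𝔭₁ := by
  let K := AlgebraicClosure (FractionRing (A ⧸ 𝔭₀))
  let ξ₀ : A →+* K := ((algebraMap (FractionRing (A ⧸ 𝔭₀)) K).comp
    (algebraMap (A ⧸ 𝔭₀) (FractionRing (A ⧸ 𝔭₀)))).comp (Ideal.Quotient.mk 𝔭₀)
  have hker₀ : RingHom.ker ξ₀ = 𝔭₀ := by
    ext a
    simp only [ξ₀, RingHom.mem_ker, RingHom.comp_apply]
    rw [map_eq_zero_iff _ (algebraMap (FractionRing (A ⧸ 𝔭₀)) K).injective,
      map_eq_zero_iff _ (IsFractionRing.injective (A ⧸ 𝔭₀) _), Ideal.Quotient.eq_zero_iff_mem]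
  let ι := (RingHom.eqLocus s t).subtype
  have hco : 𝔭₁.comap ι = RingHom.ker (ξ₀.comp ι) := by
    rw [← RingHom.comap_ker, hker₀, h]
  obtain ⟨ξ₁, hξ₁, hle⟩ := exists_lift_of_isIntegral ι hint 𝔭₁ (ξ₀.comp ι) hco
  have hker₁ : RingHom.ker ξ₁ = 𝔭₁ := by
    by_contra hne
    have hlt : 𝔭₁ < RingHom.ker ξ₁ := lt_of_le_of_ne hle (Ne.symm hne)
    letI := ι.toAlgebra
    haveI : Algebra.IsIntegral (RingHom.eqLocus s t) A := ⟨hint⟩
    have := Ideal.IsIntegral.comap_lt_comap (R := RingHom.eqLocus s t) hlt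
    have h2 : (RingHom.ker ξ₁).comap ι = 𝔭₁.comap ι := by
      rw [RingHom.comap_ker, hξ₁, hco]
    exact (ne_of_lt this) h2.symm
  have hagree : ∀ a, s a = t a → ξ₀ a = ξ₁ a := by
    intro a ha
    have := congrArg (fun m => m (⟨a, ha⟩ : RingHom.eqLocus s t)) hξ₁
    exact this.symm
  obtain ⟨ρ, hρt, hρs⟩ := exists_hom H e hes het ξ₀ ξ₁ hagree
  refine ⟨RingHom.ker ρ, RingHom.ker_isPrime ρ, ?_, ?_⟩
  · rw [RingHom.comap_ker, hρt, hker₀]
  · rw [RingHom.comap_ker, hρs, hker₁]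

end eqLocus

end InvData

end Groth.Agent.Lib.helper28.FinProjCharpoly
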