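import Groth.Prelude.Def_Found
import Mathlib

/-! Transfer of the catenary condition along order embeddings with order-connected range
(helper28). -/

set_option autoImplicit false
universe u

namespace Groth.Agent.Lib.helper28

/-- Order-theoretic form of `CAlg.IsCatenary`. -/
def OrderCat (Z : Type u) [PartialOrder Z] : Prop :=
  (∀ p q : Z, p ≤ q → ∃ n : ℕ, ∀ s : LTSeries Z, s.head = p → s.last = q → s.length ≤ n) ∧
  ∀ s t : LTSeries Z, s.head = t.head → s.last = t.last →
    (∀ i : Fin s.length, s (Fin.castSucc i) ⋖ s (Fin.succ i)) →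
    (∀ i : Fin t.length, t (Fin.castSucc i) ⋖ t (Fin.succ i)) →
    s.length = t.length

theorem isCatenary_iff_orderCat (R : Type u) [CommRing R] :
    CAlg.IsCatenary R ↔ OrderCat (PrimeSpectrum R) := Iff.rfl

theorem OrderCat.of_embedding {X Y : Type u} [PartialOrder X] [PartialOrder Y] (e : X ↪o Y)
    (h : (Set.range e).OrdConnected) (hY : OrderCat Y) : OrderCat X := by
  constructor
  · intro p q hpq
    obtain ⟨n, hn⟩ := hY.1 (e p) (e q) (e.monotone hpq)
    refine ⟨n, fun s hs hl => ?_⟩
    have := hn (s.map e e.strictMono) (by rw [LTSeries.head_map, hs]) (by rw [LTSeries.last_map, hl])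
    exact this
  · intro s t hhead hlast hs ht
    have := hY.2 (s.map e e.strictMono) (t.map e e.strictMono)
      (by rw [LTSeries.head_map, LTSeries.head_map, hhead])
      (by rw [LTSeries.last_map, LTSeries.last_map, hlast])
      (fun i => (hs i).image e h) (fun i => (ht i).image e h)
    exact this

end Groth.Agent.Lib.helper28

namespace Groth.Agent.Lib.helper28

/-- Pull back an `LTSeries` along an order embedding whose range contains all its terms. -/
noncomputable def ltSeriesPullback {X Y : Type u} [PartialOrder X] [PartialOrder Y] (e : X ↪o Y)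
    (s : LTSeries Y) (h : ∀ i, s i ∈ Set.range e) : LTSeries X :=
  LTSeries.mk s.length (fun i => Classical.choose (h i)) (by
    intro i j hij
    have hi := Classical.choose_spec (h i)
    have hj := Classical.choose_spec (h j)
    rw [← e.lt_iff_lt, hi, hj]
    exact s.strictMono hij)

theorem ltSeriesPullback_length {X Y : Type u} [PartialOrder X] [PartialOrder Y] (e : X ↪o Y)
    (s : LTSeries Y) (h : ∀ i, s i ∈ Set.range e) : (ltSeriesPullback e s h).length = s.length := rfl

theorem ltSeriesPullback_apply {X Y : Type u} [PartialOrder X] [PartialOrder Y] (e : X ↪o Y)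
    (s : LTSeries Y) (h : ∀ i, s i ∈ Set.range e) (i : Fin (s.length + 1)) :
    e ((ltSeriesPullback e s h) i) = s i := Classical.choose_spec (h i)

/-- If every point lies in the (upper-set) range of an order embedding from an `OrderCat` poset,
the poset is `OrderCat`. -/
theorem OrderCat.of_cover {Y : Type u} [PartialOrder Y]
    (H : ∀ p : Y, ∃ (X : Type u) (_ : PartialOrder X) (e : X ↪o Y),
      IsUpperSet (Set.range e) ∧ p ∈ Set.range e ∧ OrderCat X) : OrderCat Y := by
  constructor
  · intro p q hpq
    obtain ⟨X, _, e, hup, hp, hX⟩ := H p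
    obtain ⟨p', rfl⟩ := hp
    obtain ⟨q', rfl⟩ := hup hpq ⟨p', rfl⟩
    obtain ⟨n, hn⟩ := hX.1 p' q' (e.le_iff_le.mp hpq)
    refine ⟨n, fun s hs hl => ?_⟩
    have hmem : ∀ i, s i ∈ Set.range e := by
      intro i
      apply hup (a := e p')
      · rw [← hs]; exact LTSeries.head_le s i
      · exact ⟨p', rfl⟩
    have := hn (ltSeriesPullback e s hmem)
      (e.injective (by
        show e ((ltSeriesPullback e s hmem) 0) = e p'
        rw [ltSeriesPullback_apply]; exact hs))
      (e.injective (by
        show e ((ltSeriesPullback e s hmem) (Fin.last _)) = e q'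
        rw [ltSeriesPullback_apply]; exact hl))
    exact this
  · intro s t hhead hlast hs ht
    obtain ⟨X, _, e, hup, hp, hX⟩ := H s.head
    have hmems : ∀ i, s i ∈ Set.range e := fun i => hup (LTSeries.head_le s i) hp
    have hmemt : ∀ i, t i ∈ Set.range e := fun i => hup (hhead ▸ LTSeries.head_le t i) hp
    have := hX.2 (ltSeriesPullback e s hmems) (ltSeriesPullback e t hmemt)
      (e.injective (by
        show e ((ltSeriesPullback e s hmems) 0) = e ((ltSeriesPullback e t hmemt) 0)
        rw [ltSeriesPullback_apply, ltSeriesPullback_apply]; exact hhead))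
      (e.injective (by
        show e ((ltSeriesPullback e s hmems) (Fin.last _)) = e ((ltSeriesPullback e t hmemt) (Fin.last _))
        rw [ltSeriesPullback_apply, ltSeriesPullback_apply]; exact hlast))
      (fun i => CovBy.of_image e (by
        rw [ltSeriesPullback_apply, ltSeriesPullback_apply]; exact hs i))
      (fun i => CovBy.of_image e (by
        rw [ltSeriesPullback_apply, ltSeriesPullback_apply]; exact ht i))
    exact this

end Groth.Agent.Lib.helper28

namespace Groth.Agent.Lib.helper28

/-- The order embedding `Spec (A ⧸ I) ↪o Spec A`. -/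
noncomputable def quotEmb {A : Type u} [CommRing A] (I : Ideal A) :
    PrimeSpectrum (A ⧸ I) ↪o PrimeSpectrum A :=
  (I.primeSpectrumQuotientOrderIsoZeroLocus).toOrderEmbedding.trans
    (OrderEmbedding.subtype (· ∈ PrimeSpectrum.zeroLocus (I : Set A)))

theorem range_quotEmb {A : Type u} [CommRing A] (I : Ideal A) :
    Set.range (quotEmb I) = PrimeSpectrum.zeroLocus (I : Set A) := by
  ext p
  constructor
  · rintro ⟨q, rfl⟩
    exact ((I.primeSpectrumQuotientOrderIsoZeroLocus) q).2
  · intro hp
    refine ⟨(I.primeSpectrumQuotientOrderIsoZeroLocus).symm ⟨p, hp⟩, ?_⟩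
    show ((I.primeSpectrumQuotientOrderIsoZeroLocus)
      ((I.primeSpectrumQuotientOrderIsoZeroLocus).symm ⟨p, hp⟩)).1 = p
    rw [OrderIso.apply_symm_apply]

theorem isUpperSet_zeroLocus {A : Type u} [CommRing A] (I : Ideal A) :
    IsUpperSet (PrimeSpectrum.zeroLocus (I : Set A)) := by
  intro p q hpq hp
  exact fun x hx => hpq (hp hx)

end Groth.Agent.Lib.helper28

namespace Groth.Agent.Lib.helper28

theorem ltSeries_le_last {Z : Type u} [PartialOrder Z] (x : LTSeries Z) (n : Fin (x.length + 1)) :
    x n ≤ x.last :=
  x.strictMono.monotone (Fin.le_last n)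

/-- Lower-set variant of `OrderCat.of_cover`. -/
theorem OrderCat.of_cover_lower {Y : Type u} [PartialOrder Y]
    (H : ∀ p : Y, ∃ (X : Type u) (_ : PartialOrder X) (e : X ↪o Y),
      IsLowerSet (Set.range e) ∧ p ∈ Set.range e ∧ OrderCat X) : OrderCat Y := by
  constructor
  · intro p q hpq
    obtain ⟨X, _, e, hlow, hq, hX⟩ := H q
    obtain ⟨q', rfl⟩ := hq
    obtain ⟨p', rfl⟩ := hlow hpq ⟨q', rfl⟩
    obtain ⟨n, hn⟩ := hX.1 p' q' (e.le_iff_le.mp hpq)
    refine ⟨n, fun s hs hl => ?_⟩
    have hmem : ∀ i, s i ∈ Set.range e := by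
      intro i
      apply hlow (a := e q')
      · rw [← hl]; exact ltSeries_le_last s i
      · exact ⟨q', rfl⟩
    have := hn (ltSeriesPullback e s hmem)
      (e.injective (by
        show e ((ltSeriesPullback e s hmem) 0) = e p'
        rw [ltSeriesPullback_apply]; exact hs))
      (e.injective (by
        show e ((ltSeriesPullback e s hmem) (Fin.last _)) = e q'
        rw [ltSeriesPullback_apply]; exact hl))
    exact this
  · intro s t hhead hlast hs ht
    obtain ⟨X, _, e, hlow, hp, hX⟩ := H s.last
    have hmems : ∀ i, s i ∈ Set.range e := fun i => hlow (ltSeries_le_last s i) hp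
    have hmemt : ∀ i, t i ∈ Set.range e := fun i => hlow (hlast ▸ ltSeries_le_last t i) hp
    have := hX.2 (ltSeriesPullback e s hmems) (ltSeriesPullback e t hmemt)
      (e.injective (by
        show e ((ltSeriesPullback e s hmems) 0) = e ((ltSeriesPullback e t hmemt) 0)
        rw [ltSeriesPullback_apply, ltSeriesPullback_apply]; exact hhead))
      (e.injective (by
        show e ((ltSeriesPullback e s hmems) (Fin.last _)) = e ((ltSeriesPullback e t hmemt) (Fin.last _))
        rw [ltSeriesPullback_apply, ltSeriesPullback_apply]; exact hlast))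
      (fun i => CovBy.of_image e (by
        rw [ltSeriesPullback_apply, ltSeriesPullback_apply]; exact hs i))
      (fun i => CovBy.of_image e (by
        rw [ltSeriesPullback_apply, ltSeriesPullback_apply]; exact ht i))
    exact this

/-- The order embedding `Spec B ↪o Spec A` for a localization `B` of `A`. -/
noncomputable def locEmb {A : Type u} [CommRing A] (S : Submonoid A) (B : Type u) [CommRing B]
    [Algebra A B] [IsLocalization S B] : PrimeSpectrum B ↪o PrimeSpectrum A :=
  OrderEmbedding.ofMapLEIff (PrimeSpectrum.comap (algebraMap A B)) (by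
    intro p q
    constructor
    · intro h
      have h' : p.asIdeal.comap (algebraMap A B) ≤ q.asIdeal.comap (algebraMap A B) := h
      have := Ideal.map_mono (f := algebraMap A B) h'
      rw [IsLocalization.map_comap S B, IsLocalization.map_comap S B] at this
      exact this
    · intro h
      exact Ideal.comap_mono (f := algebraMap A B) h)

theorem range_locEmb {A : Type u} [CommRing A] (S : Submonoid A) (B : Type u) [CommRing B]
    [Algebra A B] [IsLocalization S B] :
    Set.range (locEmb S B) = {p : PrimeSpectrum A | Disjoint (S : Set A) (p.asIdeal : Set A)} :=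
  PrimeSpectrum.localization_comap_range B S

theorem isLowerSet_disjoint {A : Type u} [CommRing A] (S : Submonoid A) :
    IsLowerSet {p : PrimeSpectrum A | Disjoint (S : Set A) (p.asIdeal : Set A)} := by
  intro p q hqp hp
  exact Set.disjoint_of_subset_right (show (q.asIdeal : Set A) ⊆ p.asIdeal from hqp) hp

end Groth.Agent.Lib.helper28
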