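import Groth.Agent.Lib.Helper28.SecEpi
import Groth.Agent.Lib.Helper28.TwistSecHom
import Groth.Agent.Lib.Helper28.TildeQCoh

set_option autoImplicit false
set_option linter.style.haveILetI false
universe u

open CategoryTheory CategoryTheory.Limits AlgebraicGeometry Opposite TopologicalSpace
open Scheme.Modules

namespace Groth.Agent.Lib.helper28.TwistEpi

open Groth.Agent.Lib.helper28.TwistSecHom Groth.Agent.Lib.helper28.TwistFree

noncomputable section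

/-- Finitely many sections `O ⟶ L` which locally generate `L` give an epimorphism `O^k ⟶ L`. -/
theorem epi_desc_of_locally_generated {Y : Scheme.{u}} {L : Y.Modules} {k : ℕ}
    (φ : Fin k → (Coh.structureModule Y ⟶ L))
    (H : ∀ (V : Y.Opens) (s : Γ(L, V)) (y : Y), y ∈ V →
      ∃ (W : Y.Opens) (hW : W ≤ V), y ∈ W ∧ ∃ (j : Fin k) (c : Γ(Coh.structureModule Y, W)),
        (φ j).app W c = L.presheaf.map (homOfLE hW).op s) :
    Epi (Sigma.desc φ : FlatMod.freeMod Y k ⟶ L) := by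
  refine Groth.Agent.Lib.helper28.SecEpi.epi_of_locally_surjective _ fun V s y hy => ?_
  obtain ⟨W, hW, hyW, j, c, hc⟩ := H V s y hy
  refine ⟨W, hW, hyW, (Sigma.ι (fun _ : Fin k => Coh.structureModule Y) j).app W c, ?_⟩
  have h1 : (Sigma.ι (fun _ : Fin k => Coh.structureModule Y) j ≫ Sigma.desc φ).app W c =
      (φ j).app W c := by rw [Sigma.ι_desc]
  exact h1.trans hc

variable {R A : Type u} [CommRing R] [CommRing A] [Algebra R A] (𝒜 : ℕ → Submodule R A)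
  [GradedAlgebra 𝒜]

/-- Near a point where `g ∉ y`, every section of `O(d)` is a multiple of `g / 1`. -/
theorem exists_local_generator {d : ℕ} (g : 𝒜 d) (V : (Proj 𝒜).Opens)
    (t : Γ(Twist.twist 𝒜 (d : ℤ), V)) (y : ProjectiveSpectrum 𝒜) (hy : y ∈ V)
    (hgy : g.1 ∉ y.asHomogeneousIdeal) :
    ∃ (W : (Proj 𝒜).Opens) (hW : W ≤ V), (show ↥(Proj 𝒜) from y) ∈ W ∧
      ∃ c : Γ(Coh.structureModule (Proj 𝒜), W),
        (secHom 𝒜 g).app W c = (Twist.twist 𝒜 (d : ℤ)).presheaf.map (homOfLE hW).op t := by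
  let G : Opens (ProjectiveSpectrum.top 𝒜) := V ⊓ ProjectiveSpectrum.basicOpen 𝒜 g.1
  have hxG : y ∈ G := ⟨hy, (ProjectiveSpectrum.mem_basicOpen 𝒜 _ y).mpr hgy⟩
  obtain ⟨k, h, hh, hhx, hhG⟩ :=
    Groth.Agent.Lib.helper28.GrTildeSec.exists_homogeneous_basicOpen 𝒜 G y hxG
  -- a homogeneous element of positive degree outside `y`
  obtain ⟨⟨e, f⟩, hfy⟩ : ∃ i : (Σ i : PNat, 𝒜 i), (show ↥(Proj 𝒜) from y) ∈
      Proj.basicOpen 𝒜 (i.2 : A) := by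
    have h := Groth.Agent.Lib.helper28.TildeQCoh.iSup_basicOpen_eq_top 𝒜
    have hx : (show ↥(Proj 𝒜) from y) ∈ (⊤ : (Proj 𝒜).Opens) := trivial
    rw [← h, Opens.mem_iSup] at hx
    exact hx
  have hfy' : f.1 ∉ y.asHomogeneousIdeal := (ProjectiveSpectrum.mem_basicOpen 𝒜 _ y).mp hfy
  let W : (Proj 𝒜).Opens := ProjectiveSpectrum.basicOpen 𝒜 (f.1 * g.1 * h)
  have hWG : W ≤ G := fun z hz => hhG z fun hmem =>
    (ProjectiveSpectrum.mem_basicOpen 𝒜 (f.1 * g.1 * h) z).mp hz (Ideal.mul_mem_left _ _ hmem)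
  have hWV : W ≤ V := fun z hz => (hWG hz).1
  have hxW : y ∈ W := (ProjectiveSpectrum.mem_basicOpen 𝒜 (f.1 * g.1 * h) y).mpr fun hmem =>
    (y.isPrime.mem_or_mem hmem).elim
      (fun h' => (y.isPrime.mem_or_mem h').elim hfy' hgy) hhx
  have hgW : ∀ z : W, g.1 ∉ z.1.asHomogeneousIdeal := fun z hmem =>
    (ProjectiveSpectrum.mem_basicOpen 𝒜 (f.1 * g.1 * h) z.1).mp z.2
      (Ideal.mul_mem_right _ _ (Ideal.mul_mem_left _ _ hmem))
  have hF : f.1 * g.1 * h ∈ 𝒜 ((e : ℕ) + d + k) :=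
    SetLike.mul_mem_graded (SetLike.mul_mem_graded f.2 g.2) hh
  have hpos : 0 < (e : ℕ) + d + k := by have := e.pos; omega
  have hbij := bijective_smul_fracSectN 𝒜 (d : ℤ) hpos hF W rfl g
    (⟨1, SetLike.GradedOne.one_mem⟩ : 𝒜 0) hgW (fun z => one_notMem 𝒜 z.1) (by simp)
  obtain ⟨c, hc⟩ := hbij.2 ((Twist.twist 𝒜 (d : ℤ)).presheaf.map (homOfLE hWV).op t)
  exact ⟨W, hWV, hxW, c, hc⟩

/-- Finitely many `g j ∈ 𝒜 d` whose `D₊(g j)` cover `Proj` give an epimorphism `O^k ⟶ O(d)`. -/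
theorem epi_desc_secHom {d k : ℕ} (g : Fin k → 𝒜 d)
    (hcov : ∀ x : ProjectiveSpectrum 𝒜, ∃ j, (g j).1 ∉ x.asHomogeneousIdeal) :
    Epi (Sigma.desc (fun j => secHom 𝒜 (g j)) :
      FlatMod.freeMod (Proj 𝒜) k ⟶ Twist.twist 𝒜 (d : ℤ)) := by
  refine epi_desc_of_locally_generated _ fun V t y hy => ?_
  obtain ⟨j, hj⟩ := hcov y
  obtain ⟨W, hW, hyW, c, hc⟩ := exists_local_generator 𝒜 (g j) V t y hy hj
  exact ⟨W, hW, hyW, j, c, hc⟩

/-- If the `D₊(f)`, `f ∈ s ⊆ 𝒜 1`, cover `Proj`, then `O(n)` is a quotient of a finite free module. -/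
theorem exists_epi_free_twist (s : Finset A) (hs1 : ∀ f ∈ s, f ∈ 𝒜 1)
    (hcov : ∀ x : ProjectiveSpectrum 𝒜, ∃ f ∈ s, f ∉ x.asHomogeneousIdeal) (n : ℕ) :
    ∃ (k : ℕ) (p : FlatMod.freeMod (Proj 𝒜) k ⟶ Twist.twist 𝒜 (n : ℤ)), Epi p := by
  let e : Fin s.card ≃ s := s.equivFin.symm
  have hmem : ∀ j : Fin s.card, (e j).1 ^ n ∈ 𝒜 n := fun j => by
    have := SetLike.pow_mem_graded n (hs1 _ (e j).2)
    simpa [smul_eq_mul] using this
  refine ⟨s.card, _, epi_desc_secHom 𝒜 (fun j => (⟨(e j).1 ^ n, hmem j⟩ : 𝒜 n)) fun x => ?_⟩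
  obtain ⟨f, hf, hfx⟩ := hcov x
  refine ⟨e.symm ⟨f, hf⟩, fun h => hfx ?_⟩
  have h' : f ^ n ∈ x.asHomogeneousIdeal := by simpa using h
  exact x.isPrime.mem_of_pow_mem n h'

end

end Groth.Agent.Lib.helper28.TwistEpi
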