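import Groth.Agent.Lib.Helper28.TwistAmple
import Groth.Agent.Lib.Helper28.TwistEpi

/-!
# Serre twists on projective space `P^n_R`: specialisation of the `Proj` library
-/

set_option autoImplicit false
universe u

open CategoryTheory CategoryTheory.Limits AlgebraicGeometry Opposite TopologicalSpace MvPolynomial

namespace Groth.Agent.Lib.helper28.TwistPn

noncomputable section

variable (n : ℕ) (R : Type u) [CommRing R]

theorem X_mem (i : Fin (n + 1)) :
    (X i : MvPolynomial (Fin (n + 1)) R) ∈ CohB1.polyGrading n R 1 :=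
  MvPolynomial.isHomogeneous_X R i

theorem irrelevant_le :
    (HomogeneousIdeal.irrelevant (CohB1.polyGrading n R)).toIdeal ≤
      Ideal.span (Set.range (X : Fin (n + 1) → MvPolynomial (Fin (n + 1)) R)) := by
  intro z hz
  have h0 : GradedRing.proj (CohB1.polyGrading n R) 0 z = 0 :=
    (HomogeneousIdeal.mem_irrelevant_iff _ z).mp hz
  have h1 : homogeneousComponent 0 z = 0 := by
    rw [← h0, GradedRing.proj_apply]
    exact (decomposition.decompose'_apply z 0).symm
  rw [homogeneousComponent_zero, C_eq_zero] at h1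
  rw [← Set.image_univ, mem_ideal_span_X_image]
  intro m hm
  have hm0 : m ≠ 0 := by
    rintro rfl
    exact (mem_support_iff.mp hm) h1
  obtain ⟨i, hi⟩ := Finsupp.ne_iff.mp hm0
  exact ⟨i, Set.mem_univ _, by simpa using hi⟩

/-- Every point of `P^n_R` lies in some `D₊(X i)`. -/
theorem exists_X_notMem (x : ProjectiveSpectrum (CohB1.polyGrading n R)) :
    ∃ i : Fin (n + 1), (X i : MvPolynomial (Fin (n + 1)) R) ∉ x.asHomogeneousIdeal := by
  by_contra hcon
  simp only [not_exists, not_not] at hcon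
  apply x.not_irrelevant_le
  intro z hz
  have hle : Ideal.span (Set.range (X : Fin (n + 1) → MvPolynomial (Fin (n + 1)) R)) ≤
      x.asHomogeneousIdeal.toIdeal :=
    Ideal.span_le.mpr (by rintro _ ⟨i, rfl⟩; exact hcon i)
  exact hle (irrelevant_le n R hz)

theorem hcov (x : ProjectiveSpectrum (CohB1.polyGrading n R)) :
    ∃ f ∈ CohB1.polyGrading n R 1, f ∉ x.asHomogeneousIdeal := by
  obtain ⟨i, hi⟩ := exists_X_notMem n R x
  exact ⟨X i, X_mem n R i, hi⟩

instance compactSpace' : CompactSpace (Proj (CohB1.polyGrading n R)) := by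
  classical
  refine Groth.Agent.Lib.helper28.TwistSecHom.compactSpace_of_finset (CohB1.polyGrading n R)
    (Finset.univ.image (X : Fin (n + 1) → MvPolynomial (Fin (n + 1)) R)) ?_ ?_
  · intro g hg
    obtain ⟨i, -, rfl⟩ := Finset.mem_image.mp hg
    exact ⟨1, Nat.one_pos, X_mem n R i⟩
  · intro x
    obtain ⟨i, hi⟩ := exists_X_notMem n R x
    exact ⟨X i, Finset.mem_image.mpr ⟨i, Finset.mem_univ i, rfl⟩, hi⟩

instance compactSpace : CompactSpace (CohB1.ProjSpace n R) := compactSpace' n R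

instance isQuasicoherent (d : ℤ) : (Twist.twistProjSpace n R d).IsQuasicoherent :=
  Groth.Agent.Lib.helper28.TwistQCoh.twist_isQuasicoherent (CohB1.polyGrading n R) d

theorem isInvertible (d : ℤ) : PicF.IsInvertible (Twist.twistProjSpace n R d) :=
  Groth.Agent.Lib.helper28.TwistAll.isInvertible_twist (CohB1.polyGrading n R) (hcov n R) d

/-- `O(a) ⊗ O(b) ≅ O(a + b)` on `P^n_R`. -/
def tensorIso (a b : ℤ) :
    CohB1.tensorMod (Twist.twistProjSpace n R a) (Twist.twistProjSpace n R b) ≅
      Twist.twistProjSpace n R (a + b) :=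
  Groth.Agent.Lib.helper28.TwistTensor.twistTensorIso (CohB1.polyGrading n R) (hcov n R) a b

/-- `O ≅ O(0)` on `P^n_R`. -/
def zeroIso : Coh.structureModule (CohB1.ProjSpace n R) ≅ Twist.twistProjSpace n R 0 :=
  Groth.Agent.Lib.helper28.TwistZero.twistZeroIso (CohB1.polyGrading n R)

/-- `O(d) ≅ O(1)^{⊗ d}` on `P^n_R`. -/
def powIso (d : ℕ) :
    Twist.twistProjSpace n R (d : ℤ) ≅ CohB1.tensorPow (Twist.twistProjSpace n R 1) d :=
  Groth.Agent.Lib.helper28.TwistAll.twistPowIso (CohB1.polyGrading n R) (hcov n R) d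

/-- `O(d)`, `d > 0`, is ample on `P^n_R`. -/
theorem isAmple (d : ℕ) (hd : 0 < d) : CohB1.IsAmple (Twist.twistProjSpace n R (d : ℤ)) :=
  Groth.Agent.Lib.helper28.TwistAmple.isAmple_twist (CohB1.polyGrading n R) (hcov n R) d hd

/-- `O(d)`, `d ≥ 0`, is a quotient of a finite free module on `P^n_R`. -/
theorem exists_epi_free (d : ℕ) :
    ∃ (k : ℕ) (p : FlatMod.freeMod (CohB1.ProjSpace n R) k ⟶ Twist.twistProjSpace n R (d : ℤ)),
      Epi p := by
  classical
  refine Groth.Agent.Lib.helper28.TwistEpi.exists_epi_free_twist (CohB1.polyGrading n R)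
    (Finset.univ.image (X : Fin (n + 1) → MvPolynomial (Fin (n + 1)) R)) ?_ ?_ d
  · intro g hg
    obtain ⟨i, -, rfl⟩ := Finset.mem_image.mp hg
    exact X_mem n R i
  · intro x
    obtain ⟨i, hi⟩ := exists_X_notMem n R x
    exact ⟨X i, Finset.mem_image.mpr ⟨i, Finset.mem_univ i, rfl⟩, hi⟩

/-- `O(d)` is trivial on `D₊(X i)`. -/
theorem isTrivOn (d : ℤ) (i : Fin (n + 1)) :
    Groth.Agent.Lib.helper11.InvMod.IsTrivOn (Twist.twistProjSpace n R d)
      (Proj.basicOpen (CohB1.polyGrading n R) (X i)) := by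
  have h := Groth.Agent.Lib.helper28.TwistInv.isTrivOn_twist_mul (CohB1.polyGrading n R)
    Nat.one_pos (X_mem n R i) d
  have h2 : d * ((1 : ℕ) : ℤ) = d := by simp
  rw [h2] at h
  exact h

end

end Groth.Agent.Lib.helper28.TwistPn
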