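import Groth.Agent.Lib.Helper7.LocalLift

set_option autoImplicit false
universe u
open CategoryTheory CategoryTheory.Limits AlgebraicGeometry TopologicalSpace Opposite
open Scheme.Modules

namespace Groth.Agent.Lib.helper28.SecEpi

variable {Y : Scheme.{u}}

/-- A morphism of `O`-modules that is locally surjective on sections is an epimorphism. -/
theorem epi_of_locally_surjective {G F : Y.Modules} (q : G ⟶ F)
    (H : ∀ (V : Y.Opens) (s : Γ(F, V)) (y : Y), y ∈ V →
      ∃ (W : Y.Opens) (hW : W ≤ V), y ∈ W ∧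
        ∃ t : Γ(G, W), q.app W t = F.presheaf.map (homOfLE hW).op s) : Epi q := by
  have h3 : TopCat.Presheaf.IsLocallySurjective
      ((SheafOfModules.toSheaf.{u} Y.ringCatSheaf).map q).hom := by
    rw [TopCat.Presheaf.isLocallySurjective_iff]
    intro V s y hy
    obtain ⟨W, hW, hyW, t, ht⟩ := H V s y hy
    exact ⟨W, hW, ⟨t, ht⟩, hyW⟩
  have h2 : Epi ((SheafOfModules.toSheaf.{u} Y.ringCatSheaf).map q) :=
    (TopCat.Sheaf.isLocallySurjective_iff_epi (C := AddCommGrpCat.{u}) (X := Y.toTopCat)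
      ((SheafOfModules.toSheaf.{u} Y.ringCatSheaf).map q)).mp h3
  have hq' : Epi (C := SheafOfModules.{u} Y.ringCatSheaf) q :=
    (SheafOfModules.toSheaf.{u} Y.ringCatSheaf).epi_of_epi_map h2
  exact ⟨fun g h w => (cancel_epi (C := SheafOfModules.{u} Y.ringCatSheaf) q).1 w⟩

end Groth.Agent.Lib.helper28.SecEpi
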