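import Groth.Agent.Lib.Helper16.QCohPullback
import Groth.Agent.Lib.Helper11.InvMod

/-!
# Quasi-coherence and invertibility are local for covers by open immersions (helper28)

* `restrictRangeIso`: restrictions along open immersions with the same range agree.
* `isQuasicoherent_of_restrict_cover`: `F` is quasi-coherent if `F.restrict (j i)` is for a jointly
  surjective family of open immersions `j i`.
* `isTrivOn_of_restrict_iso`, `isTrivOn_image`, `isInvertible_of_restrict_cover`.
-/

set_option autoImplicit false
universe u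
open CategoryTheory CategoryTheory.Limits AlgebraicGeometry TopologicalSpace Opposite
open Scheme.Modules

namespace Groth.Agent.Lib.helper28.RestrictCover

open Groth.Agent.Lib.helper11.InvMod

variable {X : Scheme.{u}}

/-- Restrictions along two open immersions with the same range agree up to the canonical
isomorphism of the sources. -/
noncomputable def restrictRangeIso {U U' : Scheme.{u}} (j : U ⟶ X) (j' : U' ⟶ X)
    [IsOpenImmersion j] [IsOpenImmersion j'] (h : Set.range j = Set.range j') (L : X.Modules) :
    L.restrict j ≅ (L.restrict j').restrict (IsOpenImmersion.isoOfRangeEq j j' h).hom :=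
  (restrictFunctorCongr (IsOpenImmersion.isoOfRangeEq_hom_fac j j' h).symm).app L ≪≫
    (restrictFunctorComp (IsOpenImmersion.isoOfRangeEq j j' h).hom j').app L

set_option backward.isDefEq.respectTransparency false in
/-- Transfer of a presentation along an equality of ranges. -/
noncomputable def presentationOfRangeEq {U U' : Scheme.{u}} (j : U ⟶ X) (j' : U' ⟶ X)
    [IsOpenImmersion j] [IsOpenImmersion j'] (h : Set.range j = Set.range j') (L : X.Modules)
    (P : (L.restrict j').Presentation) : (L.restrict j).Presentation :=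
  SheafOfModules.Presentation.ofIsIso.{u, u, u} (restrictRangeIso j j' h L).inv
    (presentationRestrict (IsOpenImmersion.isoOfRangeEq j j' h).hom P)

theorem isQuasicoherent_restrict_of_range_eq {U U' : Scheme.{u}} (j : U ⟶ X) (j' : U' ⟶ X)
    [IsOpenImmersion j] [IsOpenImmersion j'] (h : Set.range j = Set.range j') (L : X.Modules)
    [(L.restrict j').IsQuasicoherent] : (L.restrict j).IsQuasicoherent := by
  have h1 : ((L.restrict j').restrict
      (IsOpenImmersion.isoOfRangeEq j j' h).hom).IsQuasicoherent := inferInstance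
  exact (SheafOfModules.isQuasicoherent U.ringCatSheaf).prop_of_iso
    (restrictRangeIso j j' h L).symm h1

set_option backward.isDefEq.respectTransparency false in
/-- **Quasi-coherence is local for covers by open immersions.** -/
theorem isQuasicoherent_of_restrict_cover (F : X.Modules) {ι : Type u} (Z : ι → Scheme.{u})
    (j : ∀ i, Z i ⟶ X) [∀ i, IsOpenImmersion (j i)]
    (hcov : ∀ x : X, ∃ i, x ∈ Set.range (j i))
    (h : ∀ i, (F.restrict (j i)).IsQuasicoherent) : F.IsQuasicoherent := by
  choose κ V pres hV _ using fun i => (F.restrict (j i)).exists_isOpenCover_presentation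
  refine Groth.Agent.Lib.helper16.QCohPullback.isQuasicoherent_of_cover F
    (ι := Σ i, κ i) (fun ik => (j ik.1) ''ᵁ (V ik.1 ik.2)) ?_ (fun ik => ⟨?_⟩)
  · rw [eq_top_iff]
    intro x _
    obtain ⟨i, y, rfl⟩ := hcov x
    have hy : y ∈ (⨆ k, V i k : (Z i).Opens) := by rw [(hV i).iSup_eq_top]; trivial
    obtain ⟨k, hk⟩ := Opens.mem_iSup.mp hy
    exact Opens.mem_iSup.mpr ⟨⟨i, k⟩, ⟨y, hk, rfl⟩⟩
  · have hr : Set.range ((j ik.1) ''ᵁ (V ik.1 ik.2)).ι =
        Set.range ((V ik.1 ik.2).ι ≫ j ik.1) := by
      rw [Scheme.Opens.range_ι, Scheme.Hom.comp_base, TopCat.coe_comp, Set.range_comp,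
        Scheme.Opens.range_ι]
      rfl
    refine presentationOfRangeEq _ ((V ik.1 ik.2).ι ≫ j ik.1) hr F ?_
    exact SheafOfModules.Presentation.ofIsIso.{u, u, u}
      ((restrictFunctorComp (V ik.1 ik.2).ι (j ik.1)).app F).inv (pres ik.1 ik.2)

/-- If `L` restricted along an open immersion `j` is trivial, then `L` is trivial on the range
of `j`. -/
theorem isTrivOn_of_restrict_iso {Z : Scheme.{u}} (j : Z ⟶ X) [IsOpenImmersion j] (L : X.Modules)
    (e : L.restrict j ≅ Coh.structureModule Z) (W : X.Opens) (hW : Set.range j = (W : Set X)) :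
    IsTrivOn L W := by
  have hr : Set.range W.ι = Set.range j := by rw [Scheme.Opens.range_ι, hW]
  exact ⟨restrictRangeIso W.ι j hr L ≪≫
    (restrictFunctor (IsOpenImmersion.isoOfRangeEq W.ι j hr).hom).mapIso e ≪≫
    restrictUnitIso _⟩

/-- Triviality on an open of the source of an open immersion gives triviality on the image. -/
theorem isTrivOn_image {Z : Scheme.{u}} (j : Z ⟶ X) [IsOpenImmersion j] {L : X.Modules}
    {V : Z.Opens} (h : IsTrivOn (L.restrict j) V) : IsTrivOn L (j ''ᵁ V) := by
  obtain ⟨e⟩ := h
  refine isTrivOn_of_restrict_iso (V.ι ≫ j) L ((restrictFunctorComp V.ι j).app L ≪≫ e) _ ?_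
  rw [Scheme.Hom.comp_base, TopCat.coe_comp, Set.range_comp, Scheme.Opens.range_ι]
  rfl

/-- **Invertibility is local for covers by open immersions.** -/
theorem isInvertible_of_restrict_cover (L : X.Modules) {ι : Type*} (Z : ι → Scheme.{u})
    (j : ∀ i, Z i ⟶ X) [∀ i, IsOpenImmersion (j i)]
    (hcov : ∀ x : X, ∃ i, x ∈ Set.range (j i))
    (h : ∀ i, PicF.IsInvertible (L.restrict (j i))) : PicF.IsInvertible L := by
  intro x
  obtain ⟨i, y, rfl⟩ := hcov x
  obtain ⟨V, hyV, hV⟩ := h i y
  exact ⟨(j i) ''ᵁ V, ⟨y, hyV, rfl⟩, isTrivOn_image (j i) hV⟩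

end Groth.Agent.Lib.helper28.RestrictCover
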