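import Mathlib

set_option autoImplicit false

universe w u

/-! Sections of a limit of `O_X`-modules are the compatible families of sections (helper28). -/

namespace Groth.Agent.Lib.helper28.LimitSections

open AlgebraicGeometry CategoryTheory CategoryTheory.Limits Opposite TopologicalSpace

variable {X : Scheme.{u}} {J : Type u} [Category.{w} J] (Φ : J ⥤ X.Modules)

instance : HasLimitsOfSize.{w, u} X.Modules :=
  inferInstanceAs (HasLimitsOfSize.{w, u} (SheafOfModules.{u} X.ringCatSheaf))

/-- The sections functor over `W`, with values in types. -/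
noncomputable def secFunctor (W : X.Opens) : X.Modules ⥤ Type u :=
  (SheafOfModules.evaluation X.ringCatSheaf (op W) ⋙ forget (ModuleCat _) :
    SheafOfModules.{u} X.ringCatSheaf ⥤ Type u)

noncomputable instance (W : X.Opens) : PreservesLimitsOfSize.{w, u} (secFunctor (X := X) W) := by
  unfold secFunctor
  exact inferInstanceAs (PreservesLimitsOfSize.{w, u}
    ((SheafOfModules.evaluation X.ringCatSheaf (op W) ⋙ forget (ModuleCat _) :
    SheafOfModules.{u} X.ringCatSheaf ⥤ Type u)))

theorem existsUnique_section (W : X.Opens) (s : ∀ j, Γ(Φ.obj j, W))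
    (hs : ∀ {j j' : J} (f : j ⟶ j'), ((Φ.map f).app W).hom (s j) = s j') :
    ∃! l : Γ(limit Φ, W), ∀ j, ((limit.π Φ j).app W).hom l = s j := by
  let hc := isLimitOfPreserves (secFunctor W) (limit.isLimit Φ)
  let e := Types.isLimitEquivSections hc
  let σ : (Φ ⋙ secFunctor W).sections := ⟨fun j => s j, fun {j j'} f => hs f⟩
  refine ⟨e.symm σ, ?_, ?_⟩
  · intro j
    exact Types.isLimitEquivSections_symm_apply hc σ j
  · intro l hl
    apply e.injective
    rw [Equiv.apply_symm_apply]
    apply Subtype.ext
    funext j
    exact hl j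

end Groth.Agent.Lib.helper28.LimitSections
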