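import Groth.Agent.Lib.Helper2.ModSec

/-!
# Morphisms of `O_X`-modules from data on a basis of opens (helper28)

* `hom_ext_of_basis`: two morphisms of modules agreeing on a basis of opens are equal.
* `exists_hom_of_basis`: additive maps `Γ(F, B i) → Γ(G, B i)` over a basis `B`, compatible with
  restrictions and linear over the functions, extend (uniquely) to a morphism `F ⟶ G`.
-/

set_option autoImplicit false
universe u
open CategoryTheory CategoryTheory.Limits AlgebraicGeometry TopologicalSpace Opposite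

namespace Groth.Agent.Lib.helper28.HomOfBasis

open Groth.Agent.Lib.helper2

variable {X : Scheme.{u}} {F G : X.Modules} {ι : Type*} (B : ι → X.Opens)

theorem hom_ext_of_basis (hB : Opens.IsBasis (Set.range B)) (φ ψ : F ⟶ G)
    (h : ∀ (i : ι) (s : Γ(F, B i)), φ.app (B i) s = ψ.app (B i) s) : φ = ψ := by
  apply (Scheme.Modules.toPresheaf X).map_injective
  refine TopCat.Sheaf.hom_ext (F := F.presheaf) (F' := ModSec.sheaf G) hB ?_
  intro i
  ext s
  exact h i s

/-- Restriction of a scalar multiple. -/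
theorem map_smul' (M : X.Modules) {U V : X.Opens} (i : U ⟶ V) (r : Γ(X, V)) (s : Γ(M, V)) :
    M.presheaf.map i.op (r • s) = (X.presheaf.map i.op).hom r • M.presheaf.map i.op s :=
  M.val.map_smul i.op r s

theorem exists_hom_of_basis (hB : Opens.IsBasis (Set.range B))
    (φ : ∀ i, Γ(F, B i) →+ Γ(G, B i))
    (hnat : ∀ (i j : ι) (hij : B i ≤ B j) (s : Γ(F, B j)),
      φ i (F.presheaf.map (homOfLE hij).op s) = G.presheaf.map (homOfLE hij).op (φ j s))
    (hlin : ∀ (i : ι) (r : Γ(X, B i)) (s : Γ(F, B i)), φ i (r • s) = r • φ i s) :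
    ∃ ψ : F ⟶ G, ∀ (i : ι) (s : Γ(F, B i)), ψ.app (B i) s = φ i s := by
  let α : (inducedFunctor B).op ⋙ F.presheaf ⟶ (inducedFunctor B).op ⋙ (ModSec.sheaf G).1 :=
    { app := fun i => AddCommGrpCat.ofHom (φ i.unop)
      naturality := by
        intro i j f
        ext s
        exact hnat j.unop i.unop (leOfHom f.unop.hom) s }
  let β : F.presheaf ⟶ G.presheaf :=
    TopCat.Sheaf.restrictHomEquivHom F.presheaf (ModSec.sheaf G) hB α
  have hβ : ∀ (i : ι) (s : Γ(F, B i)), β.app (op (B i)) s = φ i s := by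
    intro i s
    have := TopCat.Sheaf.extend_hom_app F.presheaf (ModSec.sheaf G) hB α i
    exact congr($this s)
  have hβnat : ∀ {U V : X.Opens} (i : U ⟶ V) (s : Γ(F, V)),
      G.presheaf.map i.op (β.app (op V) s) = β.app (op U) (F.presheaf.map i.op s) := by
    intro U V i s
    have := β.naturality i.op
    exact (congr($this s)).symm
  have hlinβ : ∀ (W : X.Opens) (r : Γ(X, W)) (s : Γ(F, W)),
      (β.app (op W) (r • s) : Γ(G, W)) = r • (β.app (op W) s : Γ(G, W)) := by
    intro W r s
    let κ := {i : ι // B i ≤ W}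
    refine (ModSec.sheaf G).eq_of_locally_eq' (fun k : κ => B k.1) W
      (fun k => homOfLE k.2) ?_ _ _ ?_
    · intro x hx
      obtain ⟨_, ⟨i, rfl⟩, hxi, hiW⟩ := (Opens.isBasis_iff_nbhd.mp hB) hx
      exact Opens.mem_iSup.mpr ⟨⟨i, hiW⟩, hxi⟩
    · intro k
      change G.presheaf.map (homOfLE k.2).op (β.app (op W) (r • s)) =
        G.presheaf.map (homOfLE k.2).op (r • (β.app (op W) s : Γ(G, W)))
      rw [hβnat, map_smul' G, map_smul' F, hβ, hlin, ← hβ, ← hβnat]
  exact ⟨⟨PresheafOfModules.homMk β (fun W r s => hlinβ W.unop r s)⟩, fun i s => hβ i s⟩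

end Groth.Agent.Lib.helper28.HomOfBasis
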