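import Mathlib
import Groth.Agent.Lib.Helper28.HomOfBasis

/-!
# Morphisms of `O_X`-modules from data on the small affine Zariski site (helper28)

`exists_hom_of_affine`: additive maps `Γ(F, U) → Γ(G, U)` over the affine opens `U`, compatible
with the restrictions to basic opens (the arrows of `X.AffineZariskiSite`) and linear over the
functions, extend to a morphism `F ⟶ G`.
-/

set_option autoImplicit false
universe u
open CategoryTheory CategoryTheory.Limits AlgebraicGeometry TopologicalSpace Opposite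

namespace Groth.Agent.Lib.helper28.HomOfAffine

open Groth.Agent.Lib.helper2 Groth.Agent.Lib.helper28.HomOfBasis

variable {X : Scheme.{u}} {F G : X.Modules}

theorem hom_ext_of_affine (φ ψ : F ⟶ G)
    (h : ∀ (U : X.AffineZariskiSite) (s : Γ(F, U.1)), φ.app U.1 s = ψ.app U.1 s) : φ = ψ := by
  refine hom_ext_of_basis (fun U : X.AffineZariskiSite => U.1) ?_ φ ψ h
  have : Set.range (fun U : X.AffineZariskiSite => U.1) = X.affineOpens := by
    ext U
    constructor
    · rintro ⟨V, rfl⟩
      exact V.2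
    · intro hU
      exact ⟨⟨U, hU⟩, rfl⟩
  rw [this]
  exact X.isBasis_affineOpens

theorem exists_hom_of_affine
    (φ : ∀ U : X.AffineZariskiSite, Γ(F, U.1) →+ Γ(G, U.1))
    (hnat : ∀ (U V : X.AffineZariskiSite) (hVU : V ≤ U) (s : Γ(F, U.1)),
      φ V (F.presheaf.map (homOfLE (Scheme.AffineZariskiSite.toOpens_mono hVU)).op s) =
        G.presheaf.map (homOfLE (Scheme.AffineZariskiSite.toOpens_mono hVU)).op (φ U s))
    (hlin : ∀ (U : X.AffineZariskiSite) (r : Γ(X, U.1)) (s : Γ(F, U.1)),
      φ U (r • s) = r • φ U s) :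
    ∃ ψ : F ⟶ G, ∀ (U : X.AffineZariskiSite) (s : Γ(F, U.1)), ψ.app U.1 s = φ U s := by
  let α : (Scheme.AffineZariskiSite.toOpensFunctor X).op ⋙ F.presheaf ⟶
      (Scheme.AffineZariskiSite.toOpensFunctor X).op ⋙ (ModSec.sheaf G).1 :=
    { app := fun U => AddCommGrpCat.ofHom (φ U.unop)
      naturality := by
        intro U V f
        ext s
        exact hnat U.unop V.unop f.unop.le s }
  let β : F.presheaf ⟶ G.presheaf :=
    Functor.IsCoverDense.restrictHomEquivHom (G := Scheme.AffineZariskiSite.toOpensFunctor X)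
      (K := Opens.grothendieckTopology X) (ℱ := F.presheaf) (ℱ' := ModSec.sheaf G) α
  have hβ0 : (Scheme.AffineZariskiSite.toOpensFunctor X).op.whiskerLeft β = α :=
    (Functor.IsCoverDense.restrictHomEquivHom (G := Scheme.AffineZariskiSite.toOpensFunctor X)
      (K := Opens.grothendieckTopology X) (ℱ := F.presheaf)
      (ℱ' := ModSec.sheaf G)).symm_apply_apply α
  have hβ : ∀ (U : X.AffineZariskiSite) (s : Γ(F, U.1)), β.app (op U.1) s = φ U s := by
    intro U s
    have := NatTrans.congr_app hβ0 (op U)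
    exact congr($this s)
  have hβnat : ∀ {U V : X.Opens} (i : U ⟶ V) (s : Γ(F, V)),
      G.presheaf.map i.op (β.app (op V) s) = β.app (op U) (F.presheaf.map i.op s) := by
    intro U V i s
    have := β.naturality i.op
    exact (congr($this s)).symm
  have hlinβ : ∀ (W : X.Opens) (r : Γ(X, W)) (s : Γ(F, W)),
      (β.app (op W) (r • s) : Γ(G, W)) = r • (β.app (op W) s : Γ(G, W)) := by
    intro W r s
    let κ := {U : X.AffineZariskiSite // U.1 ≤ W}
    refine (ModSec.sheaf G).eq_of_locally_eq' (fun k : κ => k.1.1) W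
      (fun k => homOfLE k.2) ?_ _ _ ?_
    · intro x hx
      obtain ⟨_, ⟨U, hU, rfl⟩, hxU, hUW⟩ :=
        X.isBasis_affineOpens.exists_subset_of_mem_open hx W.2
      exact Opens.mem_iSup.mpr ⟨⟨⟨U, hU⟩, hUW⟩, hxU⟩
    · intro k
      change G.presheaf.map (homOfLE k.2).op (β.app (op W) (r • s)) =
        G.presheaf.map (homOfLE k.2).op (r • (β.app (op W) s : Γ(G, W)))
      rw [hβnat, map_smul' G, map_smul' F, hβ k.1, hlin, ← hβ k.1, ← hβnat]
  exact ⟨⟨PresheafOfModules.homMk β (fun W r s => hlinβ W.unop r s)⟩, fun U s => hβ U s⟩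

end Groth.Agent.Lib.helper28.HomOfAffine
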