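import Groth.Agent.Lib.Helper28.TrivOfGen
import Groth.Agent.Lib.Helper7.KerSections
import Groth.Agent.Lib.Helper2.ModSec

/-!
# A quasi-coherent module with a section generating it freely on an affine cover of `W` is trivial
on `W` (helper28)
-/

set_option autoImplicit false
set_option linter.style.haveILetI false
universe u
open CategoryTheory CategoryTheory.Limits AlgebraicGeometry TopologicalSpace Opposite
open Scheme.Modules Groth.Agent.Lib.helper7

namespace Groth.Agent.Lib.helper28.LocalGen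

variable {X : Scheme.{u}}

/-- The action of functions on sections of a direct image. -/
theorem smul_pushforward {Z : Scheme.{u}} (j : Z ⟶ X) (T : Z.Modules) (N : X.Opens)
    (r : Γ(X, N)) (x : Γ((Scheme.Modules.pushforward j).obj T, N)) :
    r • x = ((j.app N).hom r • (show Γ(T, j ⁻¹ᵁ N) from x) : Γ(T, j ⁻¹ᵁ N)) := rfl

/-- Transport of "`a ↦ a • t` is bijective" along an equality of opens. -/
theorem bijective_smul_of_eq (L : X.Modules) {N N' : X.Opens} (h : N' = N) (t : Γ(L, N))
    (ht : Function.Bijective (fun a : Γ(X, N) => a • t)) :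
    Function.Bijective (fun a : Γ(X, N') => a • L.presheaf.map (eqToHom h).op t) := by
  subst h
  have : L.presheaf.map (eqToHom (rfl : N' = N')).op t = t := by
    rw [eqToHom_refl, op_id, L.presheaf.map_id]; rfl
  rw [this]
  exact ht

/-- A morphism out of the structure module is multiplication by the image of `1`. -/
theorem unit_hom_app (L : X.Modules) (s : Coh.structureModule X ⟶ L) (N : X.Opens)
    (r : Γ(X, N)) :
    (s.app N).hom (show Γ(Coh.structureModule X, N) from r) =
      r • L.presheaf.map (homOfLE (le_top : N ≤ ⊤)).op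
        ((s.app ⊤).hom (show Γ(Coh.structureModule X, ⊤) from (1 : Γ(X, ⊤)))) := by
  have h1 : (show Γ(Coh.structureModule X, N) from r) =
      r • (show Γ(Coh.structureModule X, N) from (1 : Γ(X, N))) := by
    rw [IdealCartier.structure_smul, mul_one]
  rw [h1, Scheme.Modules.Hom.app_smul]
  congr 1
  have h2 := Groth.Agent.Lib.helper2.ModSec.map_app_apply s (homOfLE (le_top : N ≤ ⊤))
    (show Γ(Coh.structureModule X, ⊤) from (1 : Γ(X, ⊤)))
  refine Eq.trans ?_ h2.symm
  congr 1
  exact (map_one (X.presheaf.map (homOfLE (le_top : N ≤ ⊤)).op).hom).symm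

open Groth.Agent.Lib.helper11.InvMod Groth.Agent.Lib.helper11.IsoLocus

/-- The global section attached to a morphism out of the structure module. -/
noncomputable def secOf (L : X.Modules) (s : Coh.structureModule X ⟶ L) : Γ(L, ⊤) :=
  (s.app ⊤).hom (show Γ(Coh.structureModule X, ⊤) from (1 : Γ(X, ⊤)))

theorem map_map (L : X.Modules) {A B C : X.Opens} (h₁ : B ≤ A) (h₂ : C ≤ B) (x : Γ(L, A)) :
    L.presheaf.map (homOfLE h₂).op (L.presheaf.map (homOfLE h₁).op x) =
      L.presheaf.map (homOfLE (h₂.trans h₁)).op x := by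
  rw [← ConcreteCategory.comp_apply, ← Functor.map_comp]
  rfl

/-- If `a ↦ a • σ|_N` is bijective on the affine open `N`, where `σ` is the section attached to
`s : O_X ⟶ L` (`L` quasi-coherent), then `N ≤ X_s`. -/
theorem le_genLocus_of_bijective (L : X.Modules) [L.IsQuasicoherent]
    (s : Coh.structureModule X ⟶ L) (N : X.Opens) (hN : IsAffineOpen N)
    (h : Function.Bijective (fun a : Γ(X, N) =>
      a • L.presheaf.map (homOfLE (le_top : N ≤ ⊤)).op (secOf L s))) :
    N ≤ CohB1.genLocus L s := by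
  rw [le_genLocus_iff]
  haveI : IsAffine (↑N : Scheme.{u}) := hN
  haveI h1 : ((Coh.structureModule X).restrict N.ι).IsQuasicoherent := by
    haveI : (Coh.structureModule X).IsQuasicoherent := by
      change (SheafOfModules.unit X.ringCatSheaf).IsQuasicoherent
      infer_instance
    infer_instance
  haveI h2 : (L.restrict N.ι).IsQuasicoherent := inferInstance
  refine KerSections.isIso_of_bijective_top _ ?_
  have hNe : N.ι ''ᵁ ⊤ = N := Scheme.Opens.ι_image_top N
  have h3 := bijective_smul_of_eq L hNe _ h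
  have h4 : L.presheaf.map (eqToHom hNe).op
      (L.presheaf.map (homOfLE (le_top : N ≤ ⊤)).op (secOf L s)) =
      L.presheaf.map (homOfLE (le_top : N.ι ''ᵁ ⊤ ≤ ⊤)).op (secOf L s) := by
    rw [← ConcreteCategory.comp_apply, ← Functor.map_comp]
    rfl
  rw [h4] at h3
  have h5 : ∀ a : Γ(X, N.ι ''ᵁ ⊤),
      (s.app (N.ι ''ᵁ ⊤)).hom (show Γ(Coh.structureModule X, N.ι ''ᵁ ⊤) from a) =
        a • L.presheaf.map (homOfLE (le_top : N.ι ''ᵁ ⊤ ≤ ⊤)).op (secOf L s) :=
    fun a => unit_hom_app L s _ a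
  constructor
  · intro a b hab
    exact h3.1 ((h5 a).symm.trans (hab.trans (h5 b)))
  · intro y
    obtain ⟨a, ha⟩ := h3.2 y
    exact ⟨a, (h5 a).trans ha⟩

/-- **A quasi-coherent module with a section over `W` generating it freely on an affine open
cover of `W` is trivial on `W`.** -/
theorem isTrivOn_of_local_generator (L : X.Modules) [L.IsQuasicoherent] (W : X.Opens)
    (g : Γ(L, W)) {ι : Type*} (N : ι → X.Opens) (hN : ∀ i, IsAffineOpen (N i))
    (hle : ∀ i, N i ≤ W) (hcov : W ≤ ⨆ i, N i)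
    (hg : ∀ i, Function.Bijective
      (fun a : Γ(X, N i) => a • L.presheaf.map (homOfLE (hle i)).op g)) :
    IsTrivOn L W := by
  let M := L.restrict W.ι
  haveI hMq : M.IsQuasicoherent := by
    change (L.restrict W.ι).IsQuasicoherent
    infer_instance
  have hWe : W.ι ''ᵁ ⊤ = W := Scheme.Opens.ι_image_top W
  let g₀ : Γ(M, ⊤) := L.presheaf.map (eqToHom hWe).op g
  let ψ : Coh.structureModule (↑W : Scheme.{u}) ⟶ M :=
    (SheafOfModules.unitHomEquiv (R := (↑W : Scheme.{u}).ringCatSheaf) M).symm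
      (LocalLift.secOfTop M g₀)
  have hψ1 : secOf M ψ = g₀ := by
    change (1 : Γ((↑W : Scheme.{u}), ⊤)) •
      (M.presheaf.map (homOfLE (le_top : (⊤ : (↑W : Scheme.{u}).Opens) ≤ ⊤)).op g₀) = g₀
    rw [one_smul]
    have : (homOfLE (le_top : (⊤ : (↑W : Scheme.{u}).Opens) ≤ ⊤)).op = 𝟙 _ := rfl
    rw [this, M.presheaf.map_id]
    rfl
  have htop : CohB1.genLocus M ψ = ⊤ := by
    rw [eq_top_iff]
    intro x _
    obtain ⟨i, hi⟩ := Opens.mem_iSup.mp (hcov x.2)
    have he : W.ι ''ᵁ (W.ι ⁻¹ᵁ N i) = N i := by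
      rw [Scheme.Hom.image_preimage_eq_opensRange_inf, Scheme.Opens.opensRange_ι]
      exact inf_eq_right.mpr (hle i)
    have haff : IsAffineOpen (W.ι ⁻¹ᵁ N i) := by
      rw [← W.ι.isAffineOpen_iff_of_isOpenImmersion, he]
      exact hN i
    have hle' : W.ι ''ᵁ (W.ι ⁻¹ᵁ N i) ≤ W := he.le.trans (hle i)
    have hbij := bijective_smul_of_eq L he _ (hg i)
    have h4 : L.presheaf.map (eqToHom he).op (L.presheaf.map (homOfLE (hle i)).op g) =
        L.presheaf.map (homOfLE hle').op g := by
      rw [← ConcreteCategory.comp_apply, ← Functor.map_comp]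
      rfl
    rw [h4] at hbij
    have h5 : M.presheaf.map (homOfLE (le_top : W.ι ⁻¹ᵁ N i ≤ ⊤)).op (secOf M ψ) =
        (show Γ(M, W.ι ⁻¹ᵁ N i) from L.presheaf.map (homOfLE hle').op g) := by
      rw [hψ1]
      change L.presheaf.map _ (L.presheaf.map (eqToHom hWe).op g) = _
      rw [← ConcreteCategory.comp_apply, ← Functor.map_comp]
      rfl
    refine le_genLocus_of_bijective M ψ (W.ι ⁻¹ᵁ N i) haff ?_ hi
    rw [h5]
    constructor
    · intro a b hab
      have hab' : (show Γ(X, W.ι ''ᵁ (W.ι ⁻¹ᵁ N i)) from a) • L.presheaf.map (homOfLE hle').op g =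
          (show Γ(X, W.ι ''ᵁ (W.ι ⁻¹ᵁ N i)) from b) • L.presheaf.map (homOfLE hle').op g := by
        rw [← IdealCartier.restrict_smul W L, ← IdealCartier.restrict_smul W L]
        exact hab
      exact hbij.1 hab'
    · intro y
      obtain ⟨a, ha⟩ := hbij.2 (show Γ(L, W.ι ''ᵁ (W.ι ⁻¹ᵁ N i)) from y)
      refine ⟨(show Γ((↑W : Scheme.{u}), W.ι ⁻¹ᵁ N i) from a), ?_⟩
      refine (IdealCartier.restrict_smul W L _ _ _).trans ?_
      exact ha
  haveI := (genLocus_eq_top_iff M ψ).mp htop
  exact ⟨(asIso ψ).symm⟩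

end Groth.Agent.Lib.helper28.LocalGen
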