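import Groth.Agent.Lib.Helper28.RelTwistSec
import Groth.Agent.Lib.Helper28.RestrictCover

/-!
# Local freeness of relative twisting sheaves on standard opens; quasi-coherence (helper28)
-/

set_option autoImplicit false
set_option linter.style.haveILetI false
universe u
open CategoryTheory CategoryTheory.Limits AlgebraicGeometry TopologicalSpace Opposite
open Scheme.Modules

namespace Groth.Agent.Lib.helper28.RelTwistFree

open Groth.Agent.Lib.helper28.RelTwistChart

variable {Y P : Scheme.{u}} {𝒮 : RelProj.QCGrAlg Y} {p : P ⟶ Y}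
  {chart : ∀ (U : Y.Opens) (hU : IsAffineOpen U),
    (((p ⁻¹ᵁ U : P.Opens) : Scheme.{u}) ≅ Proj (𝒮.deg U hU))}
  {n : ℤ} {L : P.Modules}
  (lam : ∀ (U : Y.Opens) (hU : IsAffineOpen U),
    L ⟶ (Scheme.Modules.pushforward (RelProj.emb p chart U hU)).obj
      (GrTwist.twist (𝒮.deg U hU) n))

/-- Quasi-coherence of `O_P(n)`. -/
theorem isQuasicoherent (hL : RelProj.IsRelTwist 𝒮 p chart n L lam) : L.IsQuasicoherent := by
  have : ∀ i : {U : Y.Opens // IsAffineOpen U}, IsOpenImmersion (RelProj.emb p chart i.1 i.2) :=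
    fun i => RelProj.isOpenImmersion_emb p chart i.1 i.2
  refine Groth.Agent.Lib.helper28.RestrictCover.isQuasicoherent_of_restrict_cover L
    (ι := {U : Y.Opens // IsAffineOpen U}) (fun i => Proj (𝒮.deg i.1 i.2))
    (fun i => RelProj.emb p chart i.1 i.2)
    (Groth.Agent.Lib.helper28.RelTwistChart.exists_mem_range_emb p chart) (fun i => ?_)
  exact (SheafOfModules.isQuasicoherent (Proj (𝒮.deg i.1 i.2)).ringCatSheaf).prop_of_iso
    (Groth.Agent.Lib.helper28.RelTwistChart.adjIso (RelProj.emb p chart i.1 i.2) (lam i.1 i.2)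
      (fun V => hL.bijective i.1 i.2 _
        (Groth.Agent.Lib.helper28.RelTwistChart.image_emb_le p chart i.1 i.2 V))).symm
    (Groth.Agent.Lib.helper28.GTwistQCoh.twist_isQuasicoherent (𝒮.deg i.1 i.2) n)

open Groth.Agent.Lib.helper28.GTwistFree Groth.Agent.Lib.helper28.LocalGen in
/-- A section reading as a unit fraction `a / b` on the chart over `U` generates `O_P(n)` freely
over an open `W ≤ p⁻¹(U)` whose chart preimage is a `D₊(F)`. -/
theorem bijective_smul_of_lam_eq (hL : RelProj.IsRelTwist 𝒮 p chart n L lam)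
    (U : Y.Opens) (hU : IsAffineOpen U) (W : P.Opens) (hWU : W ≤ p ⁻¹ᵁ U)
    {d : ℕ} (hd : 0 < d) {F : 𝒮.presheaf.obj (op U)} (hF : F ∈ 𝒮.deg U hU d)
    (hV : (RelProj.emb p chart U hU ⁻¹ᵁ W : (Proj (𝒮.deg U hU)).Opens) =
      ProjectiveSpectrum.basicOpen (𝒮.deg U hU) F)
    {i j : ℕ} (a : 𝒮.deg U hU i) (b : 𝒮.deg U hU j)
    (ha : ∀ x : (RelProj.emb p chart U hU ⁻¹ᵁ W : (Proj (𝒮.deg U hU)).Opens),
      a.1 ∉ x.1.asHomogeneousIdeal)
    (hb : ∀ x : (RelProj.emb p chart U hU ⁻¹ᵁ W : (Proj (𝒮.deg U hU)).Opens),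
      b.1 ∉ x.1.asHomogeneousIdeal)
    (hdeg : (i : ℤ) = j + n) (t : Γ(L, W))
    (ht : (lam U hU).app W t =
      fracSectN (𝒮.deg U hU) n (RelProj.emb p chart U hU ⁻¹ᵁ W) a b hb hdeg) :
    Function.Bijective (fun r : Γ(P, W) => r • t) := by
  have hbij := bijective_smul_fracSectN (𝒮.deg U hU) n hd hF _ hV a b ha hb hdeg
  have hiso : Function.Bijective ((RelProj.emb p chart U hU).app W).hom := by
    haveI := Scheme.Hom.isIso_app (RelProj.emb p chart U hU) W (by
      intro x hx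
      change x ∈ Set.range (RelProj.emb p chart U hU)
      rw [range_emb]
      exact hWU hx)
    exact (ConcreteCategory.isIso_iff_bijective ((RelProj.emb p chart U hU).app W)).mp inferInstance
  have hlam := hL.bijective U hU W hWU
  let s₀ : Γ(GrTwist.twist (𝒮.deg U hU) n, RelProj.emb p chart U hU ⁻¹ᵁ W) :=
    fracSectN (𝒮.deg U hU) n (RelProj.emb p chart U hU ⁻¹ᵁ W) a b hb hdeg
  have ht' : (lam U hU).app W t = s₀ := ht
  have key : ∀ r : Γ(P, W), (lam U hU).app W (r • t) =
      (((RelProj.emb p chart U hU).app W).hom r • s₀ :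
        Γ(GrTwist.twist (𝒮.deg U hU) n, RelProj.emb p chart U hU ⁻¹ᵁ W)) := by
    intro r
    rw [Scheme.Modules.Hom.app_smul, smul_pushforward, ht']
  constructor
  · intro r r' h
    apply hiso.1
    apply hbij.1
    exact (key r).symm.trans ((congrArg _ h).trans (key r'))
  · intro y
    obtain ⟨c, hc⟩ := hbij.2 ((lam U hU).app W y)
    obtain ⟨r, rfl⟩ := hiso.2 c
    exact ⟨r, hlam.1 ((key r).trans hc)⟩

end Groth.Agent.Lib.helper28.RelTwistFree
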