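import Groth.Agent.Lib.Helper28.SymGraded
import Groth.Agent.Lib.Helper28.RelTwistFree
import Groth.Agent.Lib.Helper28.HomOfBasis

set_option autoImplicit false

universe u

/-! On a projective bundle `P(E)`, the canonical map `p^*E ⟶ O(1)` is an epimorphism
(helper28). -/

namespace Groth.Agent.Lib.helper28.ProjBundleEpi

open CategoryTheory CategoryTheory.Limits AlgebraicGeometry TopologicalSpace Opposite
open Groth.Agent.Lib.helper28.SymAlg Groth.Agent.Lib.helper28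
open Groth.Agent.Lib.helper28.RelTwistChart
open scoped HomogeneousIdeal

section adj

variable {C D : Type*} [Category C] [Category D] {F : C ⥤ D} {G : D ⥤ C} (adj : F ⊣ G)

/-- The adjunct `F X ⟶ Y` of `f : X ⟶ G Y` is an epimorphism as soon as morphisms out of `Y` are
determined by their composite with `f`. -/
theorem epi_homEquiv_symm {X : C} {Y : D} (f : X ⟶ G.obj Y)
    (h : ∀ (Z : D) (u v : Y ⟶ Z), f ≫ G.map u = f ≫ G.map v → u = v) :
    Epi ((adj.homEquiv X Y).symm f) := by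
  constructor
  intro Z u v huv
  apply h
  apply (adj.homEquiv X Z).symm.injective
  rw [Adjunction.homEquiv_naturality_right_symm, Adjunction.homEquiv_naturality_right_symm, huv]

end adj

variable {Y P : Scheme.{u}} (E : Y.Modules) [E.IsQuasicoherent]
  (𝒮 : RelProj.QCGrAlg Y) (j : E ⟶ 𝒮.toModule) (hj : RelProj.IsGrSymAlg E 𝒮 j) (p : P ⟶ Y)
  (chart : ∀ (U : Y.Opens) (hU : IsAffineOpen U),
    ((p ⁻¹ᵁ U : P.Opens) : Scheme.{u}) ≅ Proj (𝒮.deg U hU))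
  (hP : RelProj.IsRelProj 𝒮 p chart) (O1 : P.Modules)
  (lam : ∀ (U : Y.Opens) (hU : IsAffineOpen U),
    O1 ⟶ (Scheme.Modules.pushforward (RelProj.emb p chart U hU)).obj
      (GrTwist.twist (𝒮.deg U hU) 1))
  (hO1 : RelProj.IsRelTwist 𝒮 p chart 1 O1 lam)
  (φ : E ⟶ (Scheme.Modules.pushforward p).obj O1)
  (hφ : ∀ (U : Y.Opens) (hU : IsAffineOpen U) (e : Γ(E, U))
    (y : ↥(RelProj.emb p chart U hU ⁻¹ᵁ (p ⁻¹ᵁ U))),
    GrTwist.val (V := RelProj.emb p chart U hU ⁻¹ᵁ (p ⁻¹ᵁ U))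
        ((lam U hU).app (p ⁻¹ᵁ U) ((φ.app U) e)) y =
      algebraMap (𝒮.presheaf.obj (op U)) (GrTwist.Loc (𝒮.deg U hU) y.1)
        ((j.app U) e : 𝒮.presheaf.obj (op U)))

/-- the section `j(e)` of `𝒮` over `U` -/
noncomputable abbrev jE (U : Y.Opens) (e : Γ(E, U)) : 𝒮.presheaf.obj (op U) := (j.app U) e

/-- the standard open of `P` attached to `e` and a homogeneous `g` -/
noncomputable def stdOpen (U : Y.Opens) (hU : IsAffineOpen U) (e : Γ(E, U))
    (g : 𝒮.presheaf.obj (op U)) : P.Opens :=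
  (RelProj.emb p chart U hU) ''ᵁ (Proj.basicOpen (𝒮.deg U hU) (jE E 𝒮 j U e * g))

theorem stdOpen_le (U : Y.Opens) (hU : IsAffineOpen U) (e : Γ(E, U))
    (g : 𝒮.presheaf.obj (op U)) : stdOpen E 𝒮 j p chart U hU e g ≤ p ⁻¹ᵁ U :=
  image_emb_le p chart U hU _

/-- the restriction of `φ(e)` to the standard open -/
noncomputable def σ (U : Y.Opens) (hU : IsAffineOpen U) (e : Γ(E, U))
    (g : 𝒮.presheaf.obj (op U)) : Γ(O1, stdOpen E 𝒮 j p chart U hU e g) :=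
  O1.presheaf.map (homOfLE (stdOpen_le E 𝒮 j p chart U hU e g)).op
    (show Γ(O1, p ⁻¹ᵁ U) from (φ.app U) e)

include hj hO1 hφ in
open Groth.Agent.Lib.helper28.GTwistFree in
theorem bijective_smul_σ (U : Y.Opens) (hU : IsAffineOpen U) (e : Γ(E, U))
    {i : ℕ} (g : 𝒮.presheaf.obj (op U)) (hg : g ∈ 𝒮.deg U hU i) :
    Function.Bijective (fun r : Γ(P, stdOpen E 𝒮 j p chart U hU e g) =>
      r • σ E 𝒮 j p chart O1 φ U hU e g) := by
  have hf : jE E 𝒮 j U e ∈ 𝒮.deg U hU 1 := hj.2 U hU e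
  have hF : jE E 𝒮 j U e * g ∈ 𝒮.deg U hU (1 + i) := SetLike.mul_mem_graded hf hg
  have hV : (RelProj.emb p chart U hU ⁻¹ᵁ stdOpen E 𝒮 j p chart U hU e g :
      (Proj (𝒮.deg U hU)).Opens) =
      ProjectiveSpectrum.basicOpen (𝒮.deg U hU) (jE E 𝒮 j U e * g) :=
    (RelProj.emb p chart U hU).preimage_image_eq _
  have hmem : ∀ x : (RelProj.emb p chart U hU ⁻¹ᵁ stdOpen E 𝒮 j p chart U hU e g :
      (Proj (𝒮.deg U hU)).Opens), jE E 𝒮 j U e * g ∉ x.1.asHomogeneousIdeal := by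
    rintro ⟨x, hx⟩
    have hx' : x ∈ ProjectiveSpectrum.basicOpen (𝒮.deg U hU) (jE E 𝒮 j U e * g) := hV ▸ hx
    exact (ProjectiveSpectrum.mem_basicOpen _ _ _).mp hx'
  refine RelTwistFree.bijective_smul_of_lam_eq lam hO1 U hU _
    (stdOpen_le E 𝒮 j p chart U hU e g) (d := 1 + i) (by omega) hF hV
    (i := 1) (j := 0) ⟨jE E 𝒮 j U e, hf⟩ ⟨1, SetLike.GradedOne.one_mem⟩
    (fun x h => hmem x (Ideal.mul_mem_right _ _ h))
    (fun x h => x.1.isPrime.ne_top ((Ideal.eq_top_iff_one _).mpr h))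
    (by norm_num) _ ?_
  refine sectN_ext' (𝒮.deg U hU) _ _ fun x => ?_
  rw [fracSectN_val]
  have h1 := Groth.Agent.Lib.helper2.ModSec.map_app_apply (lam U hU)
    (homOfLE (stdOpen_le E 𝒮 j p chart U hU e g)) (show Γ(O1, p ⁻¹ᵁ U) from (φ.app U) e)
  unfold σ
  rw [← h1]
  have h2 := hφ U hU e ⟨x.1, stdOpen_le E 𝒮 j p chart U hU e g x.2⟩
  refine h2.trans ?_
  rw [← Localization.mk_one_eq_algebraMap]
  rfl

include hj in
/-- Every point of `Proj 𝒮(U)` lies in some `D₊(j(e))`. -/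
theorem exists_notMem (U : Y.Opens) (hU : IsAffineOpen U) (y : Proj (𝒮.deg U hU)) :
    ∃ e : Γ(E, U), jE E 𝒮 j U e ∉ y.asHomogeneousIdeal := by
  by_contra hcon
  apply y.not_irrelevant_le
  change ((𝒮.deg U hU)₊).toIdeal ≤ y.asHomogeneousIdeal.toIdeal
  refine (SymGraded.irrelevant_le_span E 𝒮 j hj U hU).trans (Ideal.span_le.mpr ?_)
  rintro _ ⟨e, rfl⟩
  by_contra he
  exact hcon ⟨e, he⟩

/-- The index type of the standard opens. -/
abbrev Idx : Type u :=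
  Σ (U : Y.affineOpens) (_ : Γ(E, U.1)) (i : ℕ), 𝒮.deg U.1 U.2 i

/-- The family of standard opens. -/
noncomputable def stdFamily (k : Idx E 𝒮) : P.Opens :=
  stdOpen E 𝒮 j p chart k.1.1 k.1.2 k.2.1 k.2.2.2.1

include hj in
theorem isBasis_stdFamily : Opens.IsBasis (Set.range (stdFamily E 𝒮 j p chart)) := by
  rw [Opens.isBasis_iff_nbhd]
  intro N x hx
  obtain ⟨⟨U, hU⟩, y0, rfl⟩ := exists_mem_range_emb p chart x
  obtain ⟨y, rfl⟩ : ∃ y : ProjectiveSpectrum (𝒮.deg U hU), y = y0 := ⟨y0, rfl⟩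
  obtain ⟨e, he⟩ := exists_notMem E 𝒮 j hj U hU y
  obtain ⟨N', hN'⟩ : ∃ N' : Opens (ProjectiveSpectrum (𝒮.deg U hU)),
      N' = (RelProj.emb p chart U hU ⁻¹ᵁ N : (Proj (𝒮.deg U hU)).Opens) := ⟨_, rfl⟩
  have hy : y ∈ (N' : Set (ProjectiveSpectrum (𝒮.deg U hU))) := by
    rw [hN']
    exact hx
  obtain ⟨_, ⟨r, rfl⟩, hyr, hrN⟩ :=
    (ProjectiveSpectrum.isTopologicalBasis_basic_opens (𝒮.deg U hU)).exists_subset_of_mem_open hy
      N'.isOpen
  have hyr' : y ∈ ProjectiveSpectrum.basicOpen (𝒮.deg U hU) r := hyr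
  rw [ProjectiveSpectrum.basicOpen_eq_union_of_projection, Opens.mem_iSup] at hyr'
  obtain ⟨i, hi⟩ := hyr'
  have hle : ProjectiveSpectrum.basicOpen (𝒮.deg U hU) (GradedRing.proj (𝒮.deg U hU) i r) ≤
      ProjectiveSpectrum.basicOpen (𝒮.deg U hU) r := by
    conv_rhs => rw [ProjectiveSpectrum.basicOpen_eq_union_of_projection]
    exact le_iSup (fun i => ProjectiveSpectrum.basicOpen (𝒮.deg U hU)
      (GradedRing.proj (𝒮.deg U hU) i r)) i
  refine ⟨_, ⟨⟨⟨U, hU⟩, e, i, ⟨GradedRing.proj (𝒮.deg U hU) i r, ?_⟩⟩, rfl⟩, ?_, ?_⟩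
  · rw [GradedRing.proj_apply]
    exact SetLike.coe_mem _
  · refine ⟨y, ?_, rfl⟩
    change y ∈ ProjectiveSpectrum.basicOpen (𝒮.deg U hU) (jE E 𝒮 j U e * _)
    rw [ProjectiveSpectrum.basicOpen_mul]
    exact ⟨he, hi⟩
  · rintro _ ⟨y', hy', rfl⟩
    have hy'' : y' ∈ ProjectiveSpectrum.basicOpen (𝒮.deg U hU)
        (jE E 𝒮 j U e * GradedRing.proj (𝒮.deg U hU) i r) := hy'
    rw [ProjectiveSpectrum.basicOpen_mul] at hy''
    have h5 := hrN (hle hy''.2)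
    rw [hN'] at h5
    exact h5

include hj hO1 hφ in
/-- Morphisms out of `O_P(1)` are determined by their values on the sections `φ(e)`. -/
theorem hom_ext_of_φ {T : P.Modules} (u v : O1 ⟶ T)
    (h : φ ≫ (Scheme.Modules.pushforward p).map u = φ ≫ (Scheme.Modules.pushforward p).map v) :
    u = v := by
  refine HomOfBasis.hom_ext_of_basis (stdFamily E 𝒮 j p chart)
    (isBasis_stdFamily E 𝒮 j hj p chart) u v ?_
  rintro ⟨⟨U, hU⟩, e, i, ⟨g, hg⟩⟩ t
  obtain ⟨r, rfl⟩ := (bijective_smul_σ E 𝒮 j hj p chart O1 lam hO1 φ hφ U hU e g hg).2 t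
  change u.app (stdOpen E 𝒮 j p chart U hU e g) (r • σ E 𝒮 j p chart O1 φ U hU e g) =
    v.app (stdOpen E 𝒮 j p chart U hU e g) (r • σ E 𝒮 j p chart O1 φ U hU e g)
  rw [Scheme.Modules.Hom.app_smul, Scheme.Modules.Hom.app_smul]
  congr 1
  unfold σ
  rw [← Groth.Agent.Lib.helper2.ModSec.map_app_apply u, ← Groth.Agent.Lib.helper2.ModSec.map_app_apply v]
  congr 1
  exact congrArg (fun k : E ⟶ (Scheme.Modules.pushforward p).obj T => (k.app U) e) h

include hj hO1 hφ in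
theorem epi_adj : Epi (((Scheme.Modules.pullbackPushforwardAdjunction p).homEquiv E O1).symm φ) :=
  epi_homEquiv_symm _ φ fun _ u v h => hom_ext_of_φ E 𝒮 j hj p chart O1 lam hO1 φ hφ u v h

end Groth.Agent.Lib.helper28.ProjBundleEpi
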