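import Groth.Agent.Lib.Helper28.SymGradedExists

/-!
# The grading of a graded symmetric algebra is the grading by symmetric powers (helper28)
-/

set_option autoImplicit false
universe u

namespace Groth.Agent.Lib.helper28.SymDegEq

open CategoryTheory CategoryTheory.Limits AlgebraicGeometry TopologicalSpace Opposite DirectSum
open Groth.Agent.Lib.helper28.SymAlg Groth.Agent.Lib.helper28.SymLoc
  Groth.Agent.Lib.helper28.SymSheaf Groth.Agent.Lib.helper28
open Groth.Agent.Lib.helper28.SymAlgGrading Groth.Agent.Lib.helper28.GradedTransport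
open Groth.Agent.Lib.helper28.SymGradedExists

section Grading

variable {A : Type*} [CommRing A] (𝒜 ℬ : ℕ → AddSubgroup A) [GradedRing 𝒜] [GradedRing ℬ]

theorem coe_decompose_eq_of_le (h : ∀ n, 𝒜 n ≤ ℬ n) (b : A) (i : ℕ) :
    (decompose ℬ b i : A) = (decompose 𝒜 b i : A) := by
  let incl : ∀ i, 𝒜 i →+ ℬ i := fun i => AddSubgroup.inclusion (h i)
  have hcoe : (DirectSum.coeAddMonoidHom ℬ).comp (DirectSum.map incl) =
      DirectSum.coeAddMonoidHom 𝒜 := by
    apply DirectSum.addHom_ext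
    intro i x
    rw [AddMonoidHom.comp_apply, DirectSum.map_of, DirectSum.coeAddMonoidHom_of,
      DirectSum.coeAddMonoidHom_of]
    rfl
  have h1 : (decompose ℬ).symm (DirectSum.map incl (decompose 𝒜 b)) = b := by
    change (DirectSum.coeAddMonoidHom ℬ) (DirectSum.map incl (decompose 𝒜 b)) = b
    rw [← AddMonoidHom.comp_apply, hcoe]
    exact (decompose 𝒜).symm_apply_apply b
  have h2 : decompose ℬ b = DirectSum.map incl (decompose 𝒜 b) :=
    (Equiv.symm_apply_eq _).mp h1 |>.symm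
  rw [h2, DirectSum.map_apply]
  rfl

theorem grading_eq_of_le (h : ∀ n, 𝒜 n ≤ ℬ n) (n : ℕ) : 𝒜 n = ℬ n := by
  refine le_antisymm (h n) fun b hb => ?_
  have := coe_decompose_eq_of_le 𝒜 ℬ h b n
  rw [decompose_of_mem_same ℬ hb] at this
  rw [this]
  exact SetLike.coe_mem _

end Grading

variable {S : Scheme.{u}} (E : S.Modules) [E.IsQuasicoherent]
  (𝒮 : RelProj.QCGrAlg S) (j : E ⟶ 𝒮.toModule) (hj : RelProj.IsGrSymAlg E 𝒮 j)

include hj in
theorem liftU_mem (U : S.Opens) (hU : IsAffineOpen U) {n : ℕ} {x : SymU E U}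
    (hx : x ∈ symPow Γ(S, U) Γ(E, U) n) : liftU E 𝒮.toQCAlg j U x ∈ 𝒮.deg U hU n := by
  induction hx using Submodule.pow_induction_on_left' with
  | algebraMap r =>
    rw [liftU_algebraMap]
    exact 𝒮.str_mem U hU r
  | add x y i hx hy ihx ihy =>
    rw [map_add]
    exact add_mem ihx ihy
  | mem_mul m hm i x hx ih =>
    obtain ⟨m₀, rfl⟩ := hm
    rw [map_mul, liftU_ι]
    have := SetLike.mul_mem_graded (A := 𝒮.deg U hU) (hj.2 U hU m₀) ih
    rw [Nat.add_comm] at this
    exact this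

include hj in
/-- The grading of a graded symmetric algebra is the grading by the symmetric powers. -/
theorem deg_eq (U : S.Opens) (hU : IsAffineOpen U) (n : ℕ) :
    𝒮.deg U hU n = SymGradedExists.deg E 𝒮.toQCAlg j hj.1 U hU n := by
  have inst : GradedRing (SymGradedExists.deg E 𝒮.toQCAlg j hj.1 U hU) :=
    gradedRing (eU E 𝒮.toQCAlg j hj.1 U hU) (symPow Γ(S, U) Γ(E, U))
  refine (grading_eq_of_le (SymGradedExists.deg E 𝒮.toQCAlg j hj.1 U hU) (𝒮.deg U hU) ?_ n).symm
  rintro n _ ⟨x, hx, rfl⟩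
  exact liftU_mem E 𝒮 j hj U hU hx

include hj in
theorem mem_deg_iff (U : S.Opens) (hU : IsAffineOpen U) (n : ℕ) (y : 𝒮.presheaf.obj (op U)) :
    y ∈ 𝒮.deg U hU n ↔ ∃ x ∈ symPow Γ(S, U) Γ(E, U) n, liftU E 𝒮.toQCAlg j U x = y := by
  rw [deg_eq E 𝒮 j hj U hU n]
  rfl

end Groth.Agent.Lib.helper28.SymDegEq
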