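import Groth.Agent.Lib.Helper28.VeryAmpleGen
import Groth.Agent.Lib.Helper28.SymDegEq

/-!
# `Proj 𝒮 ⟶ P(E)` for `E ↠ 𝒮_1`, with `O(1)` pulling back to `O(1)` (helper28)

* `isGenDegOne_of_isGrSymAlg`, `exists_of_mem_deg_one`: a graded symmetric algebra is generated in
  degree one, its degree-one part is the image of `j`.
* `exists_closedImmersion_pullback_iso`: the closed immersion `Proj 𝒮 ⟶ P(E)` of
  `VeryAmpleGen`, for given realisations of both sides, with `h^* O_{P(E)}(1) ≅ O_{Proj 𝒮}(1)`.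
-/

set_option autoImplicit false
universe u
open CategoryTheory CategoryTheory.Limits AlgebraicGeometry TopologicalSpace Opposite
open scoped HomogeneousIdeal

namespace Groth.Agent.Lib.helper28.ProjBundleQuot

open Groth.Agent.Lib.helper28.SymGradedExists Groth.Agent.Lib.helper28.SymGradedProps
open Groth.Agent.Lib.helper28.SymAlg Groth.Agent.Lib.helper28.SymAlgGrading

variable {Y : Scheme.{u}}

theorem isGenDegOne_of_isGrSymAlg (F : Y.Modules) [F.IsQuasicoherent] (𝒮 : RelProj.QCGrAlg Y)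
    (j : F ⟶ 𝒮.toModule) (hj : RelProj.IsGrSymAlg F 𝒮 j) : 𝒮.IsGenDegOne := by
  intro U hU
  have h := isGenDegOne F 𝒮.toQCAlg j hj.1 U hU
  rw [SymDegEq.deg_eq F 𝒮 j hj U hU 0, SymDegEq.deg_eq F 𝒮 j hj U hU 1]
  exact h

theorem exists_of_mem_deg_one (F : Y.Modules) [F.IsQuasicoherent] (𝒮 : RelProj.QCGrAlg Y)
    (j : F ⟶ 𝒮.toModule) (hj : RelProj.IsGrSymAlg F 𝒮 j) (U : Y.Opens) (hU : IsAffineOpen U)
    (s : 𝒮.presheaf.obj (op U)) (hs : s ∈ 𝒮.deg U hU 1) :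
    ∃ y : Γ(F, U), (j.app U).hom y = s := by
  obtain ⟨x, hx, rfl⟩ := (SymDegEq.mem_deg_iff F 𝒮 j hj U hU 1 s).mp hs
  rw [symPow, pow_one] at hx
  obtain ⟨m, rfl⟩ := hx
  exact ⟨m, (liftU_ι F 𝒮.toQCAlg j U m).symm⟩

theorem exists_closedImmersion_pullback_iso {P P' : Scheme.{u}}
    (𝒮 : RelProj.QCGrAlg Y) (h𝒮 : 𝒮.IsGenDegOne)
    (E : Y.Modules) [E.IsQuasicoherent] (A : RelSpec.QCAlg Y) (jA : E ⟶ A.toModule)
    (hA : RelSpec.IsSymAlg E A jA) (u : E ⟶ 𝒮.toModule)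
    (hu1 : ∀ (U : Y.Opens) (hU : IsAffineOpen U) (x : Γ(E, U)), (u.app U) x ∈ 𝒮.deg U hU 1)
    (husurj : ∀ (U : Y.Opens) (hU : IsAffineOpen U) (s : 𝒮.presheaf.obj (op U)),
      s ∈ 𝒮.deg U hU 1 → ∃ x : Γ(E, U), (u.app U) x = s)
    (p : P ⟶ Y)
    (chart : ∀ (U : Y.Opens) (hU : IsAffineOpen U),
      ((p ⁻¹ᵁ U : P.Opens) : Scheme.{u}) ≅ Proj (𝒮.deg U hU))
    (hP : RelProj.IsRelProj 𝒮 p chart) (O1 : P.Modules)
    (lam : ∀ (U : Y.Opens) (hU : IsAffineOpen U),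
      O1 ⟶ (Scheme.Modules.pushforward (RelProj.emb p chart U hU)).obj
        (GrTwist.twist (𝒮.deg U hU) 1))
    (hO1 : RelProj.IsRelTwist 𝒮 p chart 1 O1 lam)
    (p' : P' ⟶ Y)
    (chart' : ∀ (U : Y.Opens) (hU : IsAffineOpen U),
      ((p' ⁻¹ᵁ U : P'.Opens) : Scheme.{u}) ≅ Proj ((grAlg E A jA hA).deg U hU))
    (hP' : RelProj.IsRelProj (grAlg E A jA hA) p' chart') (O1' : P'.Modules)
    (lam' : ∀ (U : Y.Opens) (hU : IsAffineOpen U),
      O1' ⟶ (Scheme.Modules.pushforward (RelProj.emb p' chart' U hU)).obj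
        (GrTwist.twist ((grAlg E A jA hA).deg U hU) 1))
    (hO1' : RelProj.IsRelTwist (grAlg E A jA hA) p' chart' 1 O1' lam') :
    ∃ h : P ⟶ P', IsClosedImmersion h ∧ h ≫ p' = p ∧
      Nonempty ((Scheme.Modules.pullback h).obj O1' ≅ O1) := by
  have hqc : Coh.IsQCoh E := inferInstance
  have hT : RelProj.IsGrSymAlg E (grAlg E A jA hA) jA := isGrSymAlg E A jA hA
  obtain ⟨ubar, hubar, -⟩ := hA 𝒮.toQCAlg u
  have hval : ∀ (U : Y.Opens) (m : Γ(E, U)),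
      (ubar.hom.app (op U)).hom ((jA.app U).hom m) = (u.app U).hom m := by
    intro U m
    exact congrArg (fun k : E ⟶ 𝒮.toModule => (k.app U).hom m) hubar
  have h1 : ∀ (U : Y.Opens) (hU : IsAffineOpen U) (m : Γ(E, U)),
      (ubar.hom.app (op U)).hom ((jA.app U).hom m) ∈ 𝒮.deg U hU 1 := by
    intro U hU m
    rw [hval U m]
    exact hu1 U hU m
  have hsurj : ∀ (U : Y.Opens) (hU : IsAffineOpen U) (s : 𝒮.presheaf.obj (op U)),
      s ∈ 𝒮.deg U hU 1 → ∃ m : Γ(E, U), (ubar.hom.app (op U)).hom ((jA.app U).hom m) = s := by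
    intro U hU s hs
    obtain ⟨m, hm⟩ := husurj U hU s hs
    exact ⟨m, (hval U m).trans hm⟩
  have hgr : RelProj.IsGradedHom (𝒜 := grAlg E A jA hA) (ℬ := 𝒮) ubar :=
    isGradedHom_of_deg_one E A jA hA 𝒮 ubar h1
  have hirr : ∀ (U : Y.Opens) (hU : IsAffineOpen U), (𝒮.deg U hU)₊ ≤
      (((grAlg E A jA hA).deg U hU)₊).map
        (RelProj.gradedHomAt (𝒜 := grAlg E A jA hA) (ℬ := 𝒮) ubar hgr U hU) :=
    irrelevant_le_map E A jA hA 𝒮 ubar h𝒮 h1 hsurj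
  have hgenT : (grAlg E A jA hA).IsGenDegOne := isGenDegOne E A jA hA
  obtain ⟨⟨h, hh, -⟩, hover⟩ := Groth.Agent.S8262.result (𝒜 := grAlg E A jA hA) (ℬ := 𝒮)
    ubar hgr hirr p' p chart' chart hP' hP
  have hcl : IsClosedImmersion h :=
    Groth.Agent.S8292.result 𝒮 (grAlg E A jA hA) h𝒮 E hqc u hu1 husurj jA hT ubar hgr hubar hirr
      p' p chart' chart hP' hP h hh
  have e2 := Groth.Agent.Lib.helper28.RelTwistPull.nonempty_pullback_iso
    (𝒜 := grAlg E A jA hA) (ℬ := 𝒮) hirr lam' lam hgenT hP' hP hO1' hO1 hh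
  exact ⟨h, hcl, hover h hh, e2⟩

end Groth.Agent.Lib.helper28.ProjBundleQuot
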