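import Groth.Agent.Lib.Helper28.RelTwistSec
import Groth.Agent.Lib.Helper28.HomOfAffine

/-!
# The canonical map `𝒮_d ⟶ p_* O_P(d)` of a relative Proj (helper28)

* `toSpecZero_val`: the function on `Proj 𝒜` pulled back from `a₀ ∈ 𝒜₀` has value `a₀ / 1`.
* `val_emb_p`: on a relative Proj, `p^♯ a` read on the chart over `U` has value `str a / 1`.
* `IsCanon lam U hU s N t`: the section `t` of `O_P(n)` over `N` reads `s / 1` on the chart over `U`;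
  `isCanon_unique`, `exists_isCanon`, `isCanon_descend`, `isCanon_add`, `isCanon_smul`.
* `exists_canon_hom`: for `j : E ⟶ 𝒮` landing in degree `d = n`, the module map
  `φ : E ⟶ p_* O_P(n)` with `φ(x)` reading `j(x) / 1` on every chart.
-/

set_option autoImplicit false
set_option linter.style.haveILetI false
universe u
open CategoryTheory CategoryTheory.Limits AlgebraicGeometry TopologicalSpace Opposite
open Scheme.Modules

namespace Groth.Agent.Lib.helper28.RelTwistCanon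

open Groth.Agent.Lib.helper28.GProjSec Groth.Agent.Lib.helper28.RelTwistChart
  Groth.Agent.Lib.helper28.RelTwistSec

section ring

variable {A σ : Type u} [CommRing A] [SetLike σ A] [AddSubgroupClass σ A] (𝒜 : ℕ → σ)
  [GradedRing 𝒜]

theorem ι_toSpecZero : (Proj.basicOpen 𝒜 1).ι ≫ Proj.toSpecZero 𝒜 =
    Proj.basicOpenToSpec 𝒜 1 ≫
      Spec.map (CommRingCat.ofHom (HomogeneousLocalization.fromZeroRingHom 𝒜 (Submonoid.powers 1))) := by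
  unfold Proj.toSpecZero
  rw [← Scheme.isoOfEq_hom_ι (Proj 𝒜) (Proj.basicOpen_one 𝒜), ← Scheme.topIso_hom]
  simp only [Category.assoc, Iso.hom_inv_id_assoc]

theorem toSpecZero_appTop_ι : (Scheme.ΓSpecIso (.of (𝒜 0))).inv ≫ (Proj.toSpecZero 𝒜).appTop ≫
      (Proj.basicOpen 𝒜 1).ι.appTop =
    CommRingCat.ofHom (HomogeneousLocalization.fromZeroRingHom 𝒜 (Submonoid.powers 1)) ≫
      Proj.awayToSection 𝒜 1 ≫ (Proj.basicOpen 𝒜 1).topIso.inv := by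
  have h := congrArg Scheme.Hom.appTop (ι_toSpecZero 𝒜)
  rw [Scheme.Hom.comp_appTop, Scheme.Hom.comp_appTop] at h
  rw [h, ← Category.assoc, ← Scheme.ΓSpecIso_inv_naturality]
  simp only [Scheme.Hom.appTop, Proj.basicOpenToSpec_app_top, Category.assoc, Iso.inv_hom_id_assoc]

/-- The function on `Proj 𝒜` pulled back from `a₀ ∈ 𝒜₀` has value `a₀ / 1` at every point. -/
theorem toSpecZero_val (a₀ : 𝒜 0) (x : Proj 𝒜) :
    ((toO 𝒜 ((Proj.toSpecZero 𝒜).appTop ((Scheme.ΓSpecIso (.of (𝒜 0))).inv a₀))).1 ⟨x, trivial⟩).val =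
      algebraMap A (GrTwist.Loc 𝒜 x) a₀ := by
  have h := congrArg (fun k => k.hom a₀) (toSpecZero_appTop_ι 𝒜)
  simp only [CommRingCat.hom_comp, RingHom.comp_apply, CommRingCat.hom_ofHom] at h
  have hx : x ∈ Proj.basicOpen 𝒜 1 := by rw [Proj.basicOpen_one]; trivial
  have hx' : x ∈ (Proj.basicOpen 𝒜 1).ι ''ᵁ ⊤ := ⟨⟨x, hx⟩, trivial, rfl⟩
  have h2 := congrArg (fun s : Γ(Proj 𝒜, (Proj.basicOpen 𝒜 1).ι ''ᵁ ⊤) => ((toO 𝒜 s).1 ⟨x, hx'⟩).val) h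
  refine h2.trans ?_
  change (HomogeneousLocalization.mapId 𝒜 _ (HomogeneousLocalization.fromZeroRingHom 𝒜 (Submonoid.powers 1) a₀)).val = _
  change Localization.mk (a₀ : A) _ = _
  rw [← Localization.mk_one_eq_algebraMap]
  rfl

theorem val_congr {Y : Scheme.{u}} {f g : Proj 𝒜 ⟶ Y} (h : f = g) (U : Y.Opens) (a : Γ(Y, U))
    (z : Proj 𝒜) (hz : f.base z ∈ U) :
    ((toO 𝒜 ((f.app U).hom a)).1 ⟨z, hz⟩).val = ((toO 𝒜 ((g.app U).hom a)).1 ⟨z, h ▸ hz⟩).val := by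
  subst h; rfl

theorem val_appLE {Y : Scheme.{u}} (f : Proj 𝒜 ⟶ Y) (U : Y.Opens) (V : (Proj 𝒜).Opens)
    (e : V ≤ f ⁻¹ᵁ U) (a : Γ(Y, U)) (z : Proj 𝒜) (hz : z ∈ V) :
    ((toO 𝒜 ((f.appLE U V e).hom a)).1 ⟨z, hz⟩).val = ((toO 𝒜 ((f.app U).hom a)).1 ⟨z, e hz⟩).val :=
  rfl

/-- A function pulled back along `Proj 𝒜 ⟶ Spec 𝒜₀ ⟶ Spec R ⟶ U ⊆ Y`. -/
theorem val_structure {Y : Scheme.{u}} (U : Y.Opens) (hU : IsAffineOpen U)
    (ρ : Γ(Y, U) ⟶ CommRingCat.of (𝒜 0)) (a : Γ(Y, U)) (z : Proj 𝒜)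
    (hz : (Proj.toSpecZero 𝒜 ≫ Spec.map ρ ≫ hU.fromSpec).base z ∈ U) :
    ((toO 𝒜 (((Proj.toSpecZero 𝒜 ≫ Spec.map ρ ≫ hU.fromSpec).app U).hom a)).1 ⟨z, hz⟩).val =
      algebraMap A (GrTwist.Loc 𝒜 z) (ρ.hom a) := by
  have e1 : (⊤ : (Spec Γ(Y, U)).Opens) ≤ hU.fromSpec ⁻¹ᵁ U := by
    rw [hU.fromSpec_preimage_self]
  have e2 : (⊤ : (Spec (CommRingCat.of (𝒜 0))).Opens) ≤ (Spec.map ρ) ⁻¹ᵁ ⊤ := le_rfl
  have e3 : (⊤ : (Proj 𝒜).Opens) ≤ (Proj.toSpecZero 𝒜) ⁻¹ᵁ ⊤ := le_rfl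
  have h1 : hU.fromSpec.appLE U ⊤ e1 = (Scheme.ΓSpecIso Γ(Y, U)).inv := by
    rw [Scheme.Hom.appLE, hU.fromSpec_app_self, Category.assoc, ← Functor.map_comp]
    convert Category.comp_id _
    exact (Spec Γ(Y, U)).presheaf.map_id _
  have e12 : (⊤ : (Spec (CommRingCat.of (𝒜 0))).Opens) ≤ (Spec.map ρ ≫ hU.fromSpec) ⁻¹ᵁ U :=
    e2.trans ((Opens.map (Spec.map ρ).base).map (homOfLE e1)).le
  have e123 : (⊤ : (Proj 𝒜).Opens) ≤ (Proj.toSpecZero 𝒜 ≫ Spec.map ρ ≫ hU.fromSpec) ⁻¹ᵁ U :=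
    e3.trans ((Opens.map (Proj.toSpecZero 𝒜).base).map (homOfLE e12)).le
  have h2 : hU.fromSpec.appLE U ⊤ e1 ≫ (Spec.map ρ).appLE ⊤ ⊤ e2 =
      (Spec.map ρ ≫ hU.fromSpec).appLE U ⊤ e12 :=
    Scheme.Hom.appLE_comp_appLE (Spec.map ρ) hU.fromSpec U ⊤ ⊤ e1 e2
  have h3 : (Spec.map ρ ≫ hU.fromSpec).appLE U ⊤ e12 ≫ (Proj.toSpecZero 𝒜).appLE ⊤ ⊤ e3 =
      (Proj.toSpecZero 𝒜 ≫ Spec.map ρ ≫ hU.fromSpec).appLE U ⊤ e123 :=
    Scheme.Hom.appLE_comp_appLE (Proj.toSpecZero 𝒜) (Spec.map ρ ≫ hU.fromSpec) U ⊤ ⊤ e12 e3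
  have hz' : z ∈ (⊤ : (Proj 𝒜).Opens) := trivial
  refine (val_appLE 𝒜 _ U ⊤ e123 a z hz').symm.trans ?_
  have h4 : (Spec.map ρ).appLE ⊤ ⊤ e2 = (Spec.map ρ).appTop := by
    change (Spec.map ρ).app ⊤ ≫ (Spec (CommRingCat.of (𝒜 0))).presheaf.map (𝟙 _) = _
    rw [(Spec (CommRingCat.of (𝒜 0))).presheaf.map_id, Category.comp_id]
  have h5 : (Proj.toSpecZero 𝒜).appLE ⊤ ⊤ e3 = (Proj.toSpecZero 𝒜).appTop := by
    change (Proj.toSpecZero 𝒜).app ⊤ ≫ (Proj 𝒜).presheaf.map (𝟙 _) = _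
    rw [(Proj 𝒜).presheaf.map_id, Category.comp_id]
  have h6 : (Proj.toSpecZero 𝒜 ≫ Spec.map ρ ≫ hU.fromSpec).appLE U ⊤ e123 =
      ρ ≫ (Scheme.ΓSpecIso (CommRingCat.of (𝒜 0))).inv ≫ (Proj.toSpecZero 𝒜).appTop := by
    rw [← h3, ← h2, h1, h4, h5, ← Category.assoc, ← Scheme.ΓSpecIso_inv_naturality, Category.assoc]
  rw [h6]
  exact toSpecZero_val 𝒜 (ρ.hom a) z

end ring

section rel

variable {Y P : Scheme.{u}} {𝒮 : RelProj.QCGrAlg Y} {p : P ⟶ Y}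
  {chart : ∀ (U : Y.Opens) (hU : IsAffineOpen U),
    (((p ⁻¹ᵁ U : P.Opens) : Scheme.{u}) ≅ Proj (𝒮.deg U hU))}

theorem emb_comp_p (hP : RelProj.IsRelProj 𝒮 p chart) (U : Y.Opens) (hU : IsAffineOpen U) :
    RelProj.emb p chart U hU ≫ p =
      Proj.toSpecZero (𝒮.deg U hU) ≫ Spec.map (𝒮.strZero U hU) ≫ hU.fromSpec := by
  have h1 := hP.chart_over U hU
  unfold RelProj.emb
  rw [Category.assoc, ← h1, Iso.inv_hom_id_assoc]

/-- The function `p^♯ a`, read on the chart over `U`, has the value `a / 1` everywhere. -/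
theorem val_emb_p (hP : RelProj.IsRelProj 𝒮 p chart) (U : Y.Opens) (hU : IsAffineOpen U)
    (a : Γ(Y, U)) (z : Proj (𝒮.deg U hU)) (hz : (RelProj.emb p chart U hU).base z ∈ p ⁻¹ᵁ U) :
    ((toO (𝒮.deg U hU) (((RelProj.emb p chart U hU).app (p ⁻¹ᵁ U)).hom
      ((p.app U).hom a))).1 ⟨z, hz⟩).val =
      algebraMap (𝒮.presheaf.obj (op U)) (GrTwist.Loc (𝒮.deg U hU) z)
        ((𝒮.str.app (op U)).hom a) := by
  have h1 := val_congr (𝒮.deg U hU) (emb_comp_p hP U hU) U a z hz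
  have h2 := val_structure (𝒮.deg U hU) U hU (𝒮.strZero U hU) a z (emb_comp_p hP U hU ▸ hz)
  exact h1.trans h2

variable {n : ℤ} {L : P.Modules}
  (lam : ∀ (U : Y.Opens) (hU : IsAffineOpen U),
    L ⟶ (Scheme.Modules.pushforward (RelProj.emb p chart U hU)).obj
      (GrTwist.twist (𝒮.deg U hU) n))

/-- The section `t` of `L` over `N` reads `s / 1` on the chart over `U`. -/
def IsCanon (U : Y.Opens) (hU : IsAffineOpen U) (s : 𝒮.presheaf.obj (op U)) (N : P.Opens)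
    (t : Γ(L, N)) : Prop :=
  ∀ (z : Proj (𝒮.deg U hU)) (hz : (RelProj.emb p chart U hU).base z ∈ N),
    GrTwist.val (V := RelProj.emb p chart U hU ⁻¹ᵁ N) ((lam U hU).app N t) ⟨z, hz⟩ =
      algebraMap (𝒮.presheaf.obj (op U)) (GrTwist.Loc (𝒮.deg U hU) z) s

theorem isCanon_res (U : Y.Opens) (hU : IsAffineOpen U) (s : 𝒮.presheaf.obj (op U))
    {N N' : P.Opens} (i : N' ≤ N) (t : Γ(L, N)) (h : IsCanon lam U hU s N t) :
    IsCanon lam U hU s N' (L.presheaf.map (homOfLE i).op t) := by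
  intro z hz
  have h1 := Groth.Agent.Lib.helper2.ModSec.map_app_apply (lam U hU) (homOfLE i) t
  rw [← h1]
  exact h z (i hz)

theorem isCanon_unique (hL : RelProj.IsRelTwist 𝒮 p chart n L lam) (U : Y.Opens)
    (hU : IsAffineOpen U) (s : 𝒮.presheaf.obj (op U)) (N : P.Opens) (hN : N ≤ p ⁻¹ᵁ U)
    (t t' : Γ(L, N)) (h : IsCanon lam U hU s N t) (h' : IsCanon lam U hU s N t') : t = t' := by
  apply (hL.bijective U hU N hN).1
  refine Groth.Agent.Lib.helper28.GTwistQCoh.sectN_ext _ _ _ fun x => ?_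
  exact (h x.1 x.2).trans (h' x.1 x.2).symm

open Groth.Agent.Lib.helper28.GTwistFree in
theorem exists_isCanon (hL : RelProj.IsRelTwist 𝒮 p chart n L lam) (U : Y.Opens)
    (hU : IsAffineOpen U) {d : ℕ} (hd : (d : ℤ) = n) (s : 𝒮.presheaf.obj (op U))
    (hs : s ∈ 𝒮.deg U hU d) (N : P.Opens) (hN : N ≤ p ⁻¹ᵁ U) :
    ∃ t : Γ(L, N), IsCanon lam U hU s N t := by
  have hW : ∀ x : (RelProj.emb p chart U hU ⁻¹ᵁ N : (Proj (𝒮.deg U hU)).Opens),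
      ((⟨1, SetLike.GradedOne.one_mem⟩ : 𝒮.deg U hU 0) : 𝒮.presheaf.obj (op U)) ∉
        x.1.asHomogeneousIdeal := fun x hmem =>
    x.1.isPrime.ne_top ((Ideal.eq_top_iff_one _).mpr hmem)
  obtain ⟨t, ht⟩ := (hL.bijective U hU N hN).2
    (fracSectN (𝒮.deg U hU) n (RelProj.emb p chart U hU ⁻¹ᵁ N)
      ⟨s, hs⟩ ⟨1, SetLike.GradedOne.one_mem⟩ hW (by simpa using hd))
  refine ⟨t, fun z hz => ?_⟩
  rw [ht]
  change Localization.mk s ⟨1, hW ⟨z, hz⟩⟩ = _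
  rw [← Localization.mk_one_eq_algebraMap]
  rfl

theorem isCanon_descend (hP : RelProj.IsRelProj 𝒮 p chart)
    (hL : RelProj.IsRelTwist 𝒮 p chart n L lam) (U : Y.Opens) (hU : IsAffineOpen U)
    (s : 𝒮.presheaf.obj (op U)) (r : Γ(Y, U)) (V : Y.Opens) (hV : IsAffineOpen V)
    (hVr : V = Y.basicOpen r) (N : P.Opens) (t : Γ(L, N)) (h : IsCanon lam U hU s N t) :
    IsCanon lam V hV ((𝒮.presheaf.map (homOfLE (hVr.le.trans (Y.basicOpen_le r))).op).hom s) N t := by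
  subst hVr
  intro z hz
  have hy' : (RelProj.emb p chart U hU).base (ProjectiveSpectrum.comap
      (𝒮.res hU (hU.basicOpen r) (Y.basicOpen_le r)) (𝒮.irrelevant_le_map U hU r) z) ∈ N := by
    rw [emb_comap hP]
    exact hz
  have hc := hL.compat U hU r N t z hz hy'
  have h2 := congrArg (GrTwist.locMap (𝒮.res hU (hU.basicOpen r) (Y.basicOpen_le r))
    (𝒮.irrelevant_le_map U hU r) z) (h _ hy')
  rw [locMap_algebraMap] at h2
  rw [hc]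
  exact h2

theorem isCanon_add (U : Y.Opens) (hU : IsAffineOpen U) (s s' : 𝒮.presheaf.obj (op U))
    (N : P.Opens) (t t' : Γ(L, N)) (h : IsCanon lam U hU s N t) (h' : IsCanon lam U hU s' N t') :
    IsCanon lam U hU (s + s') N (t + t') := by
  intro z hz
  have key : GrTwist.val (V := RelProj.emb p chart U hU ⁻¹ᵁ N) ((lam U hU).app N (t + t')) ⟨z, hz⟩ =
      GrTwist.val (V := RelProj.emb p chart U hU ⁻¹ᵁ N) ((lam U hU).app N t) ⟨z, hz⟩ +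
        GrTwist.val (V := RelProj.emb p chart U hU ⁻¹ᵁ N) ((lam U hU).app N t') ⟨z, hz⟩ := by
    rw [map_add]
    rfl
  rw [key, h z hz, h' z hz, map_add]

open Groth.Agent.Lib.helper28.GTwistFree Groth.Agent.Lib.helper28.LocalGen in
theorem isCanon_smul (hP : RelProj.IsRelProj 𝒮 p chart) (U : Y.Opens) (hU : IsAffineOpen U)
    (s : 𝒮.presheaf.obj (op U)) (a : Γ(Y, U)) (t : Γ(L, p ⁻¹ᵁ U))
    (h : IsCanon lam U hU s (p ⁻¹ᵁ U) t) :
    IsCanon lam U hU ((𝒮.str.app (op U)).hom a * s) (p ⁻¹ᵁ U) ((p.app U).hom a • t) := by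
  intro z hz
  have hL : (lam U hU).app (p ⁻¹ᵁ U) ((p.app U).hom a • t) =
      ((((RelProj.emb p chart U hU).app (p ⁻¹ᵁ U)).hom ((p.app U).hom a) •
        (show Γ(GrTwist.twist (𝒮.deg U hU) n, RelProj.emb p chart U hU ⁻¹ᵁ (p ⁻¹ᵁ U)) from
          (lam U hU).app (p ⁻¹ᵁ U) t)) :
        Γ(GrTwist.twist (𝒮.deg U hU) n, RelProj.emb p chart U hU ⁻¹ᵁ (p ⁻¹ᵁ U))) := by
    rw [Scheme.Modules.Hom.app_smul, smul_pushforward]
  rw [hL]
  let c : GrTwist.O (𝒜 := 𝒮.deg U hU) (op (RelProj.emb p chart U hU ⁻¹ᵁ (p ⁻¹ᵁ U))) :=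
    ((RelProj.emb p chart U hU).app (p ⁻¹ᵁ U)).hom ((p.app U).hom a)
  let σ : GrTwist.sectN (𝒜 := 𝒮.deg U hU) n (op (RelProj.emb p chart U hU ⁻¹ᵁ (p ⁻¹ᵁ U))) :=
    (lam U hU).app (p ⁻¹ᵁ U) t
  change ((((c • σ : GrTwist.sectN (𝒜 := 𝒮.deg U hU) n _)).1 ⟨z, hz⟩ :
      GrTwist.twistAt (𝒮.deg U hU) n z) : GrTwist.Loc (𝒮.deg U hU) z) = _
  rw [smul_val, map_mul]
  exact congrArg₂ (· * ·) (val_emb_p hP U hU a z hz) (h z hz)

open Groth.Agent.Lib.helper28.LocalGen in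
/-- **The canonical map** `𝒮_d ⟶ p_* O_P(d)`, precomposed with a module map `j : E ⟶ 𝒮` landing in
degree `d`: the section `φ(x)` reads `j(x) / 1` on every chart. -/
theorem exists_canon_hom (hP : RelProj.IsRelProj 𝒮 p chart)
    (hL : RelProj.IsRelTwist 𝒮 p chart n L lam) {d : ℕ} (hd : (d : ℤ) = n)
    (E : Y.Modules) (j : E ⟶ 𝒮.toModule)
    (hj : ∀ (U : Y.Opens) (hU : IsAffineOpen U) (x : Γ(E, U)), (j.app U) x ∈ 𝒮.deg U hU d) :
    ∃ φ : E ⟶ (Scheme.Modules.pushforward p).obj L,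
      ∀ (U : Y.Opens) (hU : IsAffineOpen U) (x : Γ(E, U)),
        IsCanon lam U hU ((j.app U) x) (p ⁻¹ᵁ U) (φ.app U x) := by
  have hex : ∀ (U : Y.AffineZariskiSite) (x : Γ(E, U.1)),
      ∃ t : Γ(L, p ⁻¹ᵁ U.1), IsCanon lam U.1 U.2 ((j.app U.1) x) (p ⁻¹ᵁ U.1) t := fun U x =>
    exists_isCanon lam hL U.1 U.2 hd _ (hj U.1 U.2 x) _ le_rfl
  choose f hf using hex
  have hadd : ∀ (U : Y.AffineZariskiSite) (x y : Γ(E, U.1)), f U (x + y) = f U x + f U y := by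
    intro U x y
    refine isCanon_unique lam hL U.1 U.2 _ _ le_rfl _ _ (hf U (x + y)) ?_
    have h0 := isCanon_add lam U.1 U.2 _ _ _ _ _ (hf U x) (hf U y)
    have e : (j.app U.1) (x + y) = (j.app U.1) x + (j.app U.1) y := map_add _ _ _
    rw [e]
    exact h0
  let φ : ∀ U : Y.AffineZariskiSite, Γ(E, U.1) →+ Γ((Scheme.Modules.pushforward p).obj L, U.1) :=
    fun U => AddMonoidHom.mk' (f U) (hadd U)
  have hnat : ∀ (U V : Y.AffineZariskiSite) (hVU : V ≤ U) (x : Γ(E, U.1)),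
      φ V (E.presheaf.map (homOfLE (Scheme.AffineZariskiSite.toOpens_mono hVU)).op x) =
        ((Scheme.Modules.pushforward p).obj L).presheaf.map
          (homOfLE (Scheme.AffineZariskiSite.toOpens_mono hVU)).op (φ U x) := by
    intro U V hVU x
    obtain ⟨r, hr⟩ := hVU
    have h1 := isCanon_res lam V.1 V.2 _
      (p.preimage_mono (Scheme.AffineZariskiSite.toOpens_mono ⟨r, hr⟩))
      _ (isCanon_descend lam hP hL U.1 U.2 _ r V.1 V.2 hr.symm _ _ (hf U x))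
    refine isCanon_unique lam hL V.1 V.2 _ _ le_rfl _ _ (hf V _) ?_
    have h2 : (j.app V.1) (E.presheaf.map
        (homOfLE (Scheme.AffineZariskiSite.toOpens_mono ⟨r, hr⟩)).op x) =
        (𝒮.presheaf.map (homOfLE (hr.symm.le.trans (Y.basicOpen_le r))).op).hom ((j.app U.1) x) :=
      (Groth.Agent.Lib.helper2.ModSec.map_app_apply j _ x).symm
    rw [h2]
    exact h1
  have hlin : ∀ (U : Y.AffineZariskiSite) (r : Γ(Y, U.1)) (x : Γ(E, U.1)),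
      φ U (r • x) = r • φ U x := by
    intro U r x
    have h1 := isCanon_smul lam hP U.1 U.2 _ r _ (hf U x)
    have h3 : (r • (φ U x) : Γ((Scheme.Modules.pushforward p).obj L, U.1)) =
        ((p.app U.1).hom r • f U x : Γ(L, p ⁻¹ᵁ U.1)) := smul_pushforward p L U.1 r _
    rw [h3]
    refine isCanon_unique lam hL U.1 U.2 _ _ le_rfl _ _ (hf U _) ?_
    have h2 : (j.app U.1) (r • x) = r • (j.app U.1) x := Scheme.Modules.Hom.app_smul j r x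
    rw [h2]
    exact h1
  obtain ⟨ψ, hψ⟩ := Groth.Agent.Lib.helper28.HomOfAffine.exists_hom_of_affine φ hnat hlin
  refine ⟨ψ, fun U hU x => ?_⟩
  rw [hψ ⟨U, hU⟩ x]
  exact hf ⟨U, hU⟩ x

end rel

end Groth.Agent.Lib.helper28.RelTwistCanon
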