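import Groth.Agent.Lib.Helper28.GTwistInv
import Groth.Agent.Lib.Lead.GenDegOne

/-!
# Invertibility of `GrTwist.twist 𝒜 n` when `Proj 𝒜` is covered by the `D₊(f)`, `f ∈ 𝒜 1` (helper28)
-/

set_option autoImplicit false
universe u

open CategoryTheory CategoryTheory.Limits AlgebraicGeometry Opposite TopologicalSpace

namespace Groth.Agent.Lib.helper28.GTwistAll

variable {A σ : Type u} [CommRing A] [SetLike σ A] [AddSubgroupClass σ A] (𝒜 : ℕ → σ)
  [GradedRing 𝒜]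

/-- If `A` is generated by `𝒜 0` and `𝒜 1` then the `D₊(f)`, `f ∈ 𝒜 1`, cover `Proj 𝒜`. -/
theorem hcov_of_closure
    (hgen : Subring.closure ((𝒜 0 : Set A) ∪ (𝒜 1 : Set A)) = ⊤)
    (x : ProjectiveSpectrum 𝒜) : ∃ f ∈ 𝒜 1, f ∉ x.asHomogeneousIdeal := by
  by_contra hcon
  simp only [not_exists, not_and, not_not] at hcon
  apply x.not_irrelevant_le
  intro z hz
  have hz' : z ∈ (HomogeneousIdeal.irrelevant 𝒜).toIdeal := hz
  have h1 := Groth.Agent.Lib.Lead.GenDegOne.irrelevant_le_span (𝒜 := 𝒜) hgen (𝒜 1 : Set A)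
    (fun y hy => Ideal.subset_span hy)
  have hle : Ideal.span (𝒜 1 : Set A) ≤ x.asHomogeneousIdeal.toIdeal :=
    Ideal.span_le.mpr fun g hg => hcon g hg
  exact hle (h1 hz')

theorem isInvertible_twist
    (hcov : ∀ x : ProjectiveSpectrum 𝒜, ∃ f ∈ 𝒜 1, f ∉ x.asHomogeneousIdeal) (n : ℤ) :
    PicF.IsInvertible (GrTwist.twist 𝒜 n) := by
  intro y
  obtain ⟨f, hf, hfy⟩ := hcov y
  have h1 := Groth.Agent.Lib.helper28.GTwistInv.isTrivOn_twist_mul 𝒜 Nat.one_pos hf n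
  have h2 : n * ((1 : ℕ) : ℤ) = n := by simp
  rw [h2] at h1
  exact ⟨Proj.basicOpen 𝒜 f, (ProjectiveSpectrum.mem_basicOpen 𝒜 f y).mpr hfy, h1⟩

end Groth.Agent.Lib.helper28.GTwistAll
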