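import Groth.Agent.Lib.Helper7.IdealCartier
import Groth.Agent.Lib.Helper11.InvMod

/-!
# A quasi-coherent module with a free generator over an affine open is trivial there
-/

set_option autoImplicit false
set_option linter.style.haveILetI false
universe u
open CategoryTheory CategoryTheory.Limits AlgebraicGeometry TopologicalSpace Opposite
open Scheme.Modules Groth.Agent.Lib.helper7

namespace Groth.Agent.Lib.helper28.TrivOfGen

variable {X : Scheme.{u}}

/-- If `L` is quasi-coherent, `U` is an affine open and `g` is a section of `L` over `U`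
(written over `U.ι ''ᵁ ⊤`) such that `a ↦ a • g` is bijective, then `L|_U ≅ O_U`. -/
theorem isTrivOn_of_generator (L : X.Modules) [L.IsQuasicoherent] (U : X.Opens)
    (hU : IsAffineOpen U) (g : Γ(L, U.ι ''ᵁ ⊤))
    (hg : Function.Bijective (fun a : Γ(X, U.ι ''ᵁ ⊤) => a • g)) :
    Groth.Agent.Lib.helper11.InvMod.IsTrivOn L U := by
  haveI : IsAffine (↑U : Scheme.{u}) := hU
  let M := L.restrict U.ι
  let O := Coh.structureModule (↑U : Scheme.{u})
  let g₀ : Γ(M, ⊤) := g
  let ψ : O ⟶ M := (SheafOfModules.unitHomEquiv (R := (↑U : Scheme.{u}).ringCatSheaf) M).symm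
    (LocalLift.secOfTop M g₀)
  have hψ : ∀ a : Γ((↑U : Scheme.{u}), ⊤), (ψ.app ⊤).hom (show Γ(O, ⊤) from a) = a • g₀ := by
    intro a
    change a • (M.presheaf.map (homOfLE (le_top : (⊤ : (↑U : Scheme.{u}).Opens) ≤ ⊤)).op g₀) = a • g₀
    rw [map_self]
  have hsm : ∀ a : Γ((↑U : Scheme.{u}), ⊤), (a • g₀ : Γ(M, ⊤)) =
      ((show Γ(X, U.ι ''ᵁ ⊤) from a) • g : Γ(L, U.ι ''ᵁ ⊤)) := fun a =>
    IdealCartier.restrict_smul U L ⊤ a g₀
  have hbij : Function.Bijective (ψ.app ⊤).hom := by
    constructor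
    · intro a b hab
      have h1 : (show Γ((↑U : Scheme.{u}), ⊤) from a) • g₀ =
          (show Γ((↑U : Scheme.{u}), ⊤) from b) • g₀ := (hψ a).symm.trans (hab.trans (hψ b))
      rw [hsm, hsm] at h1
      exact hg.1 h1
    · intro t
      obtain ⟨c, hc⟩ := hg.2 (show Γ(L, U.ι ''ᵁ ⊤) from t)
      refine ⟨(show Γ((↑U : Scheme.{u}), ⊤) from c), ?_⟩
      refine (hψ _).trans ?_
      exact (hsm (show Γ((↑U : Scheme.{u}), ⊤) from c)).trans hc
  haveI hMq : M.IsQuasicoherent := by
    change (L.restrict U.ι).IsQuasicoherent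
    infer_instance
  haveI hOq : O.IsQuasicoherent := by
    change (Coh.structureModule (↑U : Scheme.{u})).IsQuasicoherent
    infer_instance
  haveI := KerSections.isIso_of_bijective_top ψ hbij
  exact ⟨(asIso ψ).symm⟩

end Groth.Agent.Lib.helper28.TrivOfGen
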