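import Groth.Agent.Lib.Helper28.RelTwistPull
import Groth.Agent.Lib.Helper28.TrivOfGen
import Groth.Agent.Lib.Helper28.GTwistAll

/-!
# The twisting sheaves of a relative Proj generated in degree one are invertible (helper28)
-/

set_option autoImplicit false
set_option linter.style.haveILetI false
universe u
open CategoryTheory CategoryTheory.Limits AlgebraicGeometry TopologicalSpace Opposite
open Scheme.Modules
open scoped HomogeneousIdeal

namespace Groth.Agent.Lib.helper28.RelTwistInvertible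

open Groth.Agent.Lib.helper28.RelTwistChart Groth.Agent.Lib.helper28.GTwistFree
  Groth.Agent.Lib.helper28.RelTwistTensor Groth.Agent.Lib.helper28.RelTwistFree

variable {Y P : Scheme.{u}} {𝒮 : RelProj.QCGrAlg Y} {p : P ⟶ Y}
  {chart : ∀ (U : Y.Opens) (hU : IsAffineOpen U),
    (((p ⁻¹ᵁ U : P.Opens) : Scheme.{u}) ≅ Proj (𝒮.deg U hU))}
  {n : ℤ} {L : P.Modules}
  (lam : ∀ (U : Y.Opens) (hU : IsAffineOpen U),
    L ⟶ (Scheme.Modules.pushforward (RelProj.emb p chart U hU)).obj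
      (GrTwist.twist (𝒮.deg U hU) n))

theorem isInvertible (hgen : 𝒮.IsGenDegOne) (hL : RelProj.IsRelTwist 𝒮 p chart n L lam) :
    PicF.IsInvertible L := by
  haveI := isQuasicoherent lam hL
  intro x
  obtain ⟨⟨U, hU⟩, y, rfl⟩ := exists_mem_range_emb p chart x
  obtain ⟨g, hg, hgy⟩ :=
    Groth.Agent.Lib.helper28.GTwistAll.hcov_of_closure (𝒮.deg U hU) (hgen U hU) y
  let V₀ : P.Opens := (RelProj.emb p chart U hU) ''ᵁ (Proj.basicOpen (𝒮.deg U hU) g)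
  have hV₀aff : IsAffineOpen V₀ :=
    (Proj.isAffineOpen_basicOpen (𝒮.deg U hU) g hg Nat.one_pos).image_of_isOpenImmersion _
  have hx : (RelProj.emb p chart U hU) y ∈ V₀ :=
    ⟨y, (ProjectiveSpectrum.mem_basicOpen _ _ y).mpr hgy, rfl⟩
  refine ⟨V₀, hx, ?_⟩
  have hW : V₀.ι ''ᵁ ⊤ = V₀ := Scheme.Opens.ι_image_top _
  have hWU : V₀.ι ''ᵁ ⊤ ≤ p ⁻¹ᵁ U := by
    rw [hW]
    exact image_emb_le p chart U hU _
  have hVA : (RelProj.emb p chart U hU ⁻¹ᵁ (V₀.ι ''ᵁ ⊤) : (Proj (𝒮.deg U hU)).Opens) =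
      ProjectiveSpectrum.basicOpen (𝒮.deg U hU) g := by
    rw [hW]
    exact (RelProj.emb p chart U hU).preimage_image_eq _
  have hgW : ∀ (c : ℕ)
      (x : (RelProj.emb p chart U hU ⁻¹ᵁ (V₀.ι ''ᵁ ⊤) : (Proj (𝒮.deg U hU)).Opens)),
      g ^ c ∉ x.1.asHomogeneousIdeal := fun c x hmem => by
    have hx : x.1 ∈ ProjectiveSpectrum.basicOpen (𝒮.deg U hU) g := hVA ▸ x.2
    exact (ProjectiveSpectrum.mem_basicOpen (𝒮.deg U hU) g x.1).mp hx
      (x.1.isPrime.mem_of_pow_mem c hmem)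
  obtain ⟨um, hum⟩ := (hL.bijective U hU (V₀.ι ''ᵁ ⊤) hWU).2
    (fracSectN (𝒮.deg U hU) n (RelProj.emb p chart U hU ⁻¹ᵁ (V₀.ι ''ᵁ ⊤))
      ⟨g ^ n.toNat, pow_mem_one hg _⟩ ⟨g ^ (-n).toNat, pow_mem_one hg _⟩ (hgW _) (toNat_eq n))
  exact Groth.Agent.Lib.helper28.TrivOfGen.isTrivOn_of_generator L V₀ hV₀aff um
    (bijective_smul_of_lam_eq lam hL U hU (V₀.ι ''ᵁ ⊤) hWU Nat.one_pos hg hVA
      ⟨g ^ n.toNat, pow_mem_one hg _⟩ ⟨g ^ (-n).toNat, pow_mem_one hg _⟩ (hgW _) (hgW _)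
      (toNat_eq n) um hum)

end Groth.Agent.Lib.helper28.RelTwistInvertible
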