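import Groth.Agent.Lib.Helper12.InvDual2
import Groth.Agent.Lib.Helper28.RelTwistInvertible
import Groth.Agent.Lib.Helper28.RelTwistCanon
import Groth.Agent.Lib.Helper28.ProjBundleEpi
import Groth.Agent.Lib.Helper28.ProjBundleQuot

/-!
# `O_{P(L)}(1) ≅ p^* L` for an invertible module `L` (helper28)

* `isIso_of_epi_of_isInvertible'`: an epimorphism between invertible modules is an isomorphism.
* `nonempty_pullback_iso_twist_one`: on the projective bundle `p : P(L) ⟶ X` of an invertible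
  module `L`, the canonical epimorphism `p^*L ⟶ O(1)` is an isomorphism.
-/

set_option autoImplicit false
universe u
open CategoryTheory CategoryTheory.Limits AlgebraicGeometry TopologicalSpace Opposite
open Scheme.Modules

namespace Groth.Agent.Lib.helper28.SymLineTwist

open Groth.Agent.Lib.helper11.InvMod Groth.Agent.Lib.helper11.IsoLocus
  Groth.Agent.Lib.helper11.GenLocus Groth.Agent.Lib.helper11.InvHom
  Groth.Agent.Lib.helper12.InvDual

/-- An epimorphism between invertible modules is an isomorphism. -/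
theorem isIso_of_epi_of_isInvertible' {X : Scheme.{u}} {M N : X.Modules}
    (hM : PicF.IsInvertible M) (hN : PicF.IsInvertible N) (φ : M ⟶ N) [Epi φ] : IsIso φ := by
  refine isIso_of_forall_restrict φ fun x => ?_
  obtain ⟨U, hxU, hU⟩ := hM x
  obtain ⟨V, hxV, hV⟩ := hN x
  obtain ⟨eM⟩ := IsTrivOn.of_le (inf_le_left : U ⊓ V ≤ U) hU
  obtain ⟨eN⟩ := IsTrivOn.of_le (inf_le_right : U ⊓ V ≤ V) hV
  refine ⟨U ⊓ V, ⟨hxU, hxV⟩, ?_⟩
  rw [← isIso_localEnd_iff φ eM eN]
  have : Epi ((restrictFunctor (U ⊓ V).ι).map φ) := inferInstance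
  have : Epi (localEnd φ eM eN) := by
    unfold localEnd
    infer_instance
  exact isIso_of_epi_end _

variable {X PL : Scheme.{u}} (L : X.Modules) [L.IsQuasicoherent]
  (𝒮L : RelProj.QCGrAlg X) (jL : L ⟶ 𝒮L.toModule) (hjL : RelProj.IsGrSymAlg L 𝒮L jL)
  (pL : PL ⟶ X)
  (chartL : ∀ (U : X.Opens) (hU : IsAffineOpen U),
    (((pL ⁻¹ᵁ U : PL.Opens) : Scheme.{u}) ≅ Proj (𝒮L.deg U hU)))
  (hPL : RelProj.IsRelProj 𝒮L pL chartL) (O1 : PL.Modules)
  (lam : ∀ (U : X.Opens) (hU : IsAffineOpen U),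
    O1 ⟶ (Scheme.Modules.pushforward (RelProj.emb pL chartL U hU)).obj
      (GrTwist.twist (𝒮L.deg U hU) 1))
  (hO1 : RelProj.IsRelTwist 𝒮L pL chartL 1 O1 lam)

include hjL hPL hO1 in
theorem nonempty_pullback_iso_twist_one (hL : PicF.IsInvertible L) :
    Nonempty ((Scheme.Modules.pullback pL).obj L ≅ O1) := by
  obtain ⟨φ, hφ⟩ := Groth.Agent.Lib.helper28.RelTwistCanon.exists_canon_hom lam hPL hO1
    (d := 1) (by simp) L jL hjL.2
  have hepi : Epi (((Scheme.Modules.pullbackPushforwardAdjunction pL).homEquiv L O1).symm φ) :=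
    Groth.Agent.Lib.helper28.ProjBundleEpi.epi_adj L 𝒮L jL hjL pL chartL O1 lam hO1 φ
      (fun U hU e y => hφ U hU e y.1 y.2)
  have hgen := Groth.Agent.Lib.helper28.ProjBundleQuot.isGenDegOne_of_isGrSymAlg L 𝒮L jL hjL
  have hinv1 : PicF.IsInvertible O1 :=
    Groth.Agent.Lib.helper28.RelTwistInvertible.isInvertible lam hgen hO1
  have hinv2 : PicF.IsInvertible ((Scheme.Modules.pullback pL).obj L) :=
    isInvertible_pullback pL hL
  have := isIso_of_epi_of_isInvertible' hinv2 hinv1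
    (((Scheme.Modules.pullbackPushforwardAdjunction pL).homEquiv L O1).symm φ)
  exact ⟨asIso (((Scheme.Modules.pullbackPushforwardAdjunction pL).homEquiv L O1).symm φ)⟩

end Groth.Agent.Lib.helper28.SymLineTwist
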