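import Groth.Agent.Lib.Helper28.SymLineGenLocus
import Groth.Agent.Lib.Helper12.AmpleRestrict

/-!
# Sections over an open `W` versus morphisms `O_W ⟶ M|_W`; sections from ampleness (helper28)

* `homOfSec_val`, `exists_secHom_eq`: every `O_W ⟶ M|_W` is `secHom M W t`.
* `exists_sec_of_isAmple`: if `L|_W` is ample, every point of `W` lies in an affine `W_t`,
  `t ∈ Γ(W, L^{⊗ (n+1)})`.
-/

set_option autoImplicit false
set_option linter.style.haveILetI false
universe u
open CategoryTheory AlgebraicGeometry TopologicalSpace Opposite TensorProduct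

namespace Groth.Agent.Lib.helper28.SymLineSec

open Groth.Agent.Lib.helper28.SymLineGenLocus
open Groth.Agent.Lib.helper12.TwistExtend Groth.Agent.Lib.helper12.AmpleBasis
  Groth.Agent.Lib.helper11.IsoLocus Groth.Agent.Lib.helper11.GenLocus
  Groth.Agent.Lib.helper12.AmplePow

variable {X : Scheme.{u}}

/-- A morphism `O ⟶ M` is named by its global section. -/
theorem homOfSec_val (M : X.Modules) (s : Coh.structureModule X ⟶ M) :
    homOfSec M (SecTwist.val s ⊤) = s := by
  unfold homOfSec
  refine (Equiv.symm_apply_eq M.unitHomEquiv).mpr ?_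
  refine PresheafOfModules.sections_ext _ _ (fun U => ?_)
  change res M (le_top : U.unop ≤ ⊤) (SecTwist.val s ⊤) = SecTwist.val s U.unop
  exact SecTwist.map_val s (homOfLE (le_top : U.unop ≤ ⊤))

theorem res_bijective_of_eq (M : X.Modules) {O W : X.Opens} (h : O = W) (hle : O ≤ W) :
    Function.Bijective (res M hle) := by
  subst h
  have h2 : (res M hle : M.val.obj (op O) → M.val.obj (op O)) = id := by
    funext x
    change M.val.map (homOfLE hle).op x = x
    have h1 : homOfLE hle = 𝟙 O := rfl
    rw [h1, op_id]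
    exact congrArg (fun φ => φ.hom x) (M.val.map_id (op O))
  rw [h2]
  exact Function.bijective_id

/-- Every morphism `O_W ⟶ M|_W` is `secHom` of a section of `M` over `W`. -/
theorem exists_secHom_eq (M : X.Modules) (W : X.Opens)
    (s : Coh.structureModule (↑W : Scheme.{u}) ⟶ M.restrict W.ι) :
    ∃ t : M.val.obj (op W), secHom M W t = s := by
  obtain ⟨t, ht⟩ := (res_bijective_of_eq M (Scheme.Opens.ι_image_top W)
    (le_of_eq (Scheme.Opens.ι_image_top W))).2 (SecTwist.val s ⊤)
  refine ⟨t, ?_⟩
  exact (congrArg (homOfSec (M.restrict W.ι)) ht).trans (homOfSec_val _ s)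

/-- From ampleness of `L|_W`: every point of `W` lies in an affine `W_t`, `t` a section over `W`
of a positive tensor power of `L`. -/
theorem exists_sec_of_isAmple {L : X.Modules} (W : X.Opens)
    (h : CohB1.IsAmple (L.restrict W.ι)) (x' : (↑W : Scheme.{u})) :
    ∃ (n : ℕ) (t : (CohB1.tensorPow L (n + 1)).val.obj (op W)),
      x' ∈ CohB1.genLocus _ (secHom (CohB1.tensorPow L (n + 1)) W t) ∧
      IsAffineOpen (CohB1.genLocus _ (secHom (CohB1.tensorPow L (n + 1)) W t)) := by
  obtain ⟨n, s, hx, haff⟩ := h.2.2 x'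
  obtain ⟨t, ht⟩ := exists_secHom_eq (CohB1.tensorPow L (n + 1)) W
    (s ≫ (restrictTensorPowIso W.ι L (n + 1)).inv)
  have hg : CohB1.genLocus _ (s ≫ (restrictTensorPowIso W.ι L (n + 1)).inv) =
      CohB1.genLocus _ s := genLocus_comp_iso s (restrictTensorPowIso W.ι L (n + 1)).symm
  refine ⟨n, t, ?_, ?_⟩
  · rw [ht, hg]
    exact hx
  · rw [ht, hg]
    exact haff

end Groth.Agent.Lib.helper28.SymLineSec
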