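import Groth.Prelude.Def_GrTwist
import Groth.Agent.Lib.Helper28.GFrac

/-!
# Sections of `M(n)~` and `O(n)` over `D₊(f)` are single fractions
-/

set_option autoImplicit false
universe u

open CategoryTheory AlgebraicGeometry Opposite TopologicalSpace

namespace Groth.Agent.Lib.helper28.GTildeSec

open Groth.Agent.Lib.helper28.GFrac

variable {A σ : Type u} [CommRing A] [SetLike σ A] [AddSubgroupClass σ A] (𝒜 : ℕ → σ)
  [GradedRing 𝒜]

/-- A homogeneous basic open neighbourhood inside a given open. -/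
theorem exists_homogeneous_basicOpen (V : Opens (ProjectiveSpectrum.top 𝒜))
    (y : ProjectiveSpectrum 𝒜) (hy : y ∈ V) :
    ∃ (k : ℕ) (h : A), h ∈ 𝒜 k ∧ h ∉ y.asHomogeneousIdeal ∧
      ∀ z : ProjectiveSpectrum 𝒜, h ∉ z.asHomogeneousIdeal → z ∈ V := by
  obtain ⟨_, ⟨r, rfl⟩, hyr, hrV⟩ :=
    (ProjectiveSpectrum.isTopologicalBasis_basic_opens 𝒜).exists_subset_of_mem_open hy V.2
  have hyr' : y ∈ ProjectiveSpectrum.basicOpen 𝒜 r := hyr
  rw [ProjectiveSpectrum.basicOpen_eq_union_of_projection, Opens.mem_iSup] at hyr'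
  obtain ⟨k, hk⟩ := hyr'
  refine ⟨k, GradedRing.proj 𝒜 k r, SetLike.coe_mem _, hk, fun z hz => hrV ?_⟩
  have : z ∈ ProjectiveSpectrum.basicOpen 𝒜 r := by
    rw [ProjectiveSpectrum.basicOpen_eq_union_of_projection, Opens.mem_iSup]
    exact ⟨k, hz⟩
  exact this

end Groth.Agent.Lib.helper28.GTildeSec
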