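import Groth.Agent.Lib.Helper28.RelTwistProd
import Groth.Agent.Lib.Helper28.GTwistAll
import Groth.Agent.Lib.Helper28.GTildeSec
import Groth.Agent.Lib.Helper2.TildeTensor

/-!
# `O_P(m) ⊗ O_P(n) ≅ O_P(m + n)` on a relative `Proj` generated in degree one (helper28)
-/

set_option autoImplicit false
set_option linter.style.haveILetI false
universe u
open CategoryTheory CategoryTheory.Limits AlgebraicGeometry TopologicalSpace Opposite
open Scheme.Modules TensorProduct MonoidalCategory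
open scoped HomogeneousIdeal

namespace Groth.Agent.Lib.helper28.RelTwistTensor

open Groth.Agent.Lib.helper28.RelTwistChart Groth.Agent.Lib.helper2
  Groth.Agent.Lib.helper28.RelTwistProd

noncomputable section

variable {Y P : Scheme.{u}} {𝒮 : RelProj.QCGrAlg Y} {p : P ⟶ Y}
  {chart : ∀ (U : Y.Opens) (hU : IsAffineOpen U),
    (((p ⁻¹ᵁ U : P.Opens) : Scheme.{u}) ≅ Proj (𝒮.deg U hU))}
  {m n : ℤ} {L L' L'' : P.Modules}
  (lam : ∀ (U : Y.Opens) (hU : IsAffineOpen U),
    L ⟶ (Scheme.Modules.pushforward (RelProj.emb p chart U hU)).obj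
      (GrTwist.twist (𝒮.deg U hU) m))
  (lam' : ∀ (U : Y.Opens) (hU : IsAffineOpen U),
    L' ⟶ (Scheme.Modules.pushforward (RelProj.emb p chart U hU)).obj
      (GrTwist.twist (𝒮.deg U hU) n))
  (lam'' : ∀ (U : Y.Opens) (hU : IsAffineOpen U),
    L'' ⟶ (Scheme.Modules.pushforward (RelProj.emb p chart U hU)).obj
      (GrTwist.twist (𝒮.deg U hU) (m + n)))
  (hP : RelProj.IsRelProj 𝒮 p chart)
  (hL : RelProj.IsRelTwist 𝒮 p chart m L lam)
  (hL' : RelProj.IsRelTwist 𝒮 p chart n L' lam')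
  (hL'' : RelProj.IsRelTwist 𝒮 p chart (m + n) L'' lam'')

def mulHomApp (W : (P.Opens)ᵒᵖ) :
    (CohB1.tensorPre L L').obj W ⟶ (CohB1.toPMod L'').obj W :=
  ModuleCat.MonoidalCategory.tensorLift (M₁ := (CohB1.toPMod L).obj W)
    (M₂ := (CohB1.toPMod L').obj W)
    (fun s t => mul lam lam' lam'' hP hL hL' hL'' W.unop s t)
    (fun s s' t => mul_add_left lam lam' lam'' hP hL hL' hL'' W.unop s s' t)
    (fun r s t => mul_smul_left lam lam' lam'' hP hL hL' hL'' W.unop r s t)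
    (fun s t t' => mul_add_right lam lam' lam'' hP hL hL' hL'' W.unop s t t')
    (fun r s t => mul_smul_right lam lam' lam'' hP hL hL' hL'' W.unop r s t)

lemma mulHomApp_tmul (W : (P.Opens)ᵒᵖ)
    (s : (CohB1.toPMod L).obj W) (t : (CohB1.toPMod L').obj W) :
    (mulHomApp lam lam' lam'' hP hL hL' hL'' W).hom (s ⊗ₜ t) =
      mul lam lam' lam'' hP hL hL' hL'' W.unop s t := rfl

def mulHom : (CohB1.tensorPre L L' : P.PresheafOfModules) ⟶ L''.val where
  app W := mulHomApp lam lam' lam'' hP hL hL' hL'' W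
  naturality {W W₂} f := by
    refine ModuleCat.MonoidalCategory.tensor_ext (fun s t => ?_)
    exact mul_res lam lam' lam'' hP hL hL' hL'' W.unop W₂.unop (leOfHom f.unop) s t

section Bij

variable (𝒮 p chart) in
/-- The opens `emb_U(D₊(g * h))`, `U` affine, `g` of degree one, `h` homogeneous. -/
def basisSet : Set P.Opens :=
  {W | ∃ (U : Y.Opens) (hU : IsAffineOpen U) (g h : 𝒮.presheaf.obj (op U)) (k : ℕ),
      g ∈ 𝒮.deg U hU 1 ∧ h ∈ 𝒮.deg U hU k ∧
      W = (RelProj.emb p chart U hU) ''ᵁ (Proj.basicOpen (𝒮.deg U hU) (g * h))}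

theorem isBasis_basisSet (hgen : 𝒮.IsGenDegOne) : Opens.IsBasis (basisSet 𝒮 p chart) := by
  rw [Opens.isBasis_iff_nbhd]
  intro O x hx
  obtain ⟨⟨U, hU⟩, z, rfl⟩ := exists_mem_range_emb p chart x
  obtain ⟨k, h, hh, hhz, hhO⟩ :=
    Groth.Agent.Lib.helper28.GTildeSec.exists_homogeneous_basicOpen (𝒮.deg U hU)
      (RelProj.emb p chart U hU ⁻¹ᵁ O) z hx
  obtain ⟨g, hg, hgz⟩ :=
    Groth.Agent.Lib.helper28.GTwistAll.hcov_of_closure (𝒮.deg U hU) (hgen U hU) z
  refine ⟨_, ⟨U, hU, g, h, k, hg, hh, rfl⟩, ⟨z, ?_, rfl⟩, ?_⟩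
  · exact (ProjectiveSpectrum.mem_basicOpen _ (g * h) z).mpr fun hmem =>
      (z.isPrime.mem_or_mem hmem).elim hgz hhz
  · rintro _ ⟨w, hw, rfl⟩
    exact hhO w fun hmem => ((ProjectiveSpectrum.mem_basicOpen _ (g * h) w).mp hw)
      (Ideal.mul_mem_left _ _ hmem)

theorem pow_mem_one {U : Y.Opens} {hU : IsAffineOpen U} {g : 𝒮.presheaf.obj (op U)}
    (hg : g ∈ 𝒮.deg U hU 1) (e : ℕ) : g ^ e ∈ 𝒮.deg U hU e := by
  have := SetLike.pow_mem_graded (A := 𝒮.deg U hU) e hg
  simpa [smul_eq_mul] using this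

theorem toNat_eq (m : ℤ) : ((m.toNat : ℕ) : ℤ) = ((-m).toNat : ℕ) + m := by
  have := Int.toNat_sub_toNat_neg m
  omega

open Groth.Agent.Lib.helper28.GTwistFree Groth.Agent.Lib.helper28.GTwistMul
  Groth.Agent.Lib.helper28.LocalGen in
theorem mulHomApp_bijective (U : Y.Opens) (hU : IsAffineOpen U) (g h : 𝒮.presheaf.obj (op U))
    (k : ℕ) (hg : g ∈ 𝒮.deg U hU 1) (hh : h ∈ 𝒮.deg U hU k) :
    Function.Bijective (mulHomApp lam lam' lam'' hP hL hL' hL''
      (op ((RelProj.emb p chart U hU) ''ᵁ (Proj.basicOpen (𝒮.deg U hU) (g * h))))).hom := by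
  let W : P.Opens := (RelProj.emb p chart U hU) ''ᵁ (Proj.basicOpen (𝒮.deg U hU) (g * h))
  have hWU : W ≤ p ⁻¹ᵁ U := image_emb_le p chart U hU _
  let V : (Proj (𝒮.deg U hU)).Opens := RelProj.emb p chart U hU ⁻¹ᵁ W
  have hV : V = ProjectiveSpectrum.basicOpen (𝒮.deg U hU) (g * h) :=
    (RelProj.emb p chart U hU).preimage_image_eq _
  have hF : g * h ∈ 𝒮.deg U hU (1 + k) := SetLike.mul_mem_graded hg hh
  have hgV : ∀ (e : ℕ) (x : V), g ^ e ∉ x.1.asHomogeneousIdeal := fun e x hmem => by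
    have hx : x.1 ∈ ProjectiveSpectrum.basicOpen (𝒮.deg U hU) (g * h) := hV ▸ x.2
    exact (ProjectiveSpectrum.mem_basicOpen (𝒮.deg U hU) (g * h) x.1).mp hx
      (Ideal.mul_mem_right h _ (x.1.isPrime.mem_of_pow_mem e hmem))
  let fr : Γ(GrTwist.twist (𝒮.deg U hU) m, V) :=
    fracSectN (𝒮.deg U hU) m V ⟨g ^ m.toNat, pow_mem_one hg _⟩ ⟨g ^ (-m).toNat, pow_mem_one hg _⟩
      (hgV _) (toNat_eq m)
  obtain ⟨um, hum⟩ := (hL.bijective U hU W hWU).2 fr
  have bm := bijective_smul_fracSectN (𝒮.deg U hU) m (by omega : 0 < 1 + k) hF V hV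
    ⟨g ^ m.toNat, pow_mem_one hg _⟩ ⟨g ^ (-m).toNat, pow_mem_one hg _⟩ (hgV _) (hgV _)
    (toNat_eq m)
  have bmul := bijective_mulFun_fracSectN (𝒮.deg U hU) m n V
    ⟨g ^ m.toNat, pow_mem_one hg _⟩ ⟨g ^ (-m).toNat, pow_mem_one hg _⟩ (hgV _) (hgV _)
    (toNat_eq m)
  have hiso : Function.Bijective ((RelProj.emb p chart U hU).app W).hom := by
    haveI := Scheme.Hom.isIso_app (RelProj.emb p chart U hU) W (by
      intro x hx
      change x ∈ Set.range (RelProj.emb p chart U hU)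
      rw [range_emb]
      exact hWU hx)
    exact (ConcreteCategory.isIso_iff_bijective ((RelProj.emb p chart U hU).app W)).mp inferInstance
  refine bijective_of_free_left (M := (CohB1.toPMod L).obj (op W))
    (N := (CohB1.toPMod L').obj (op W)) (K := (CohB1.toPMod L'').obj (op W))
    (mulHomApp lam lam' lam'' hP hL hL' hL'' (op W)).hom um ?_ ?_
  · intro y
    obtain ⟨c, hc⟩ := bm.2 ((lam U hU).app W y)
    obtain ⟨r, rfl⟩ := hiso.2 c
    refine ⟨r, (hL.bijective U hU W hWU).1 ?_⟩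
    have key : (lam U hU).app W (r • um) =
        (((RelProj.emb p chart U hU).app W).hom r • fr : Γ(GrTwist.twist (𝒮.deg U hU) m, V)) := by
      rw [Scheme.Modules.Hom.app_smul, smul_pushforward, hum]
    exact key.trans hc
  · have key : ∀ t : Γ(L', W), (lam'' U hU).app W (mul lam lam' lam'' hP hL hL' hL'' W um t) =
        mulFun (𝒮.deg U hU) m n V fr ((lam' U hU).app W t) := by
      intro t
      refine Groth.Agent.Lib.helper28.GTwistQCoh.sectN_ext _ _ _ fun x => ?_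
      have h1 := isProd_mul lam lam' lam'' hP hL hL' hL'' W um t U hU x.1 x.2 x.2
      rw [hum] at h1
      exact h1
    constructor
    · intro t t' htt
      have htt' : mul lam lam' lam'' hP hL hL' hL'' W um t =
          mul lam lam' lam'' hP hL hL' hL'' W um t' := htt
      apply (hL'.bijective U hU W hWU).1
      apply bmul.1
      exact (key t).symm.trans ((congrArg _ htt').trans (key t'))
    · intro κ
      obtain ⟨τ, hτ⟩ := bmul.2 ((lam'' U hU).app W κ)
      obtain ⟨t, rfl⟩ := (hL'.bijective U hU W hWU).2 τ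
      exact ⟨t, (hL''.bijective U hU W hWU).1 ((key t).trans hτ)⟩

end Bij

section Iso

theorem isIso_sheafify_mulHom (hgen : 𝒮.IsGenDegOne) :
    IsIso ((CohB1.sheafifyMod P).map (mulHom lam lam' lam'' hP hL hL' hL'')) := by
  refine Groth.Agent.Lib.helper2.TildeTensor.isIso_sheafify_map_of_bijective_on_basis
    (X := P) (mulHom lam lam' lam'' hP hL hL' hL'') (basisSet 𝒮 p chart)
    (isBasis_basisSet hgen) ?_
  rintro _ ⟨U, hU, g, h, k, hg, hh, rfl⟩
  exact mulHomApp_bijective lam lam' lam'' hP hL hL' hL'' U hU g h k hg hh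

/-- `O_P(m) ⊗ O_P(n) ≅ O_P(m + n)` when `𝒮` is generated in degree one. -/
def twistTensorIso (hgen : 𝒮.IsGenDegOne) : CohB1.tensorMod L L' ≅ L'' :=
  @asIso _ _ _ _ _ (isIso_sheafify_mulHom lam lam' lam'' hP hL hL' hL'' hgen) ≪≫
    (asIso (PresheafOfModules.sheafificationAdjunction.{u, u, u, u}
      (J := Opens.grothendieckTopology P) (𝟙 P.ringCatSheaf.obj)).counit).app L''

end Iso

end

end Groth.Agent.Lib.helper28.RelTwistTensor
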