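import Groth.Agent.Lib.Helper28.RelTwistMap
import Groth.Agent.Lib.Helper28.RelTwistFree
import Groth.Agent.Lib.Helper28.RelTwistTensor
import Groth.Agent.Lib.Helper8.PullbackUnit2
import Groth.Agent.Lib.Helper28.HomOfBasis

/-!
# `h^* O_{Proj 𝒜}(n) ≅ O_{Proj ℬ}(n)` for `𝒜` generated in degree one (helper28)
-/

set_option autoImplicit false
set_option linter.style.haveILetI false
universe u
open CategoryTheory CategoryTheory.Limits AlgebraicGeometry TopologicalSpace Opposite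
open Scheme.Modules
open scoped HomogeneousIdeal

namespace Groth.Agent.Lib.helper28.RelTwistPull

open Groth.Agent.Lib.helper28.RelTwistChart Groth.Agent.Lib.helper2
  Groth.Agent.Lib.helper28.RelTwistMap Groth.Agent.Lib.helper8.PullbackUnit

/-- A semilinear map between modules free of rank one, sending generator to generator, is a base
change. -/
theorem isBC_of_free {R R' : Type u} [CommRing R] [CommRing R'] (φ : R →+* R') {N P : Type u}
    [AddCommGroup N] [Module R N] [AddCommGroup P] [Module R' P] (k : N →+ P)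
    (hk : ∀ (r : R) (x : N), k (r • x) = φ r • k x) (m : N)
    (hm : Function.Surjective (fun c : R => c • m))
    (hm' : Function.Bijective (fun c : R' => c • k m)) : IsBC φ k := by
  refine ⟨hk, fun T _ _ f hf => ?_⟩
  let E : R' ≃ₗ[R'] P := LinearEquiv.ofBijective (LinearMap.toSpanSingleton R' P (k m)) hm'
  have hE : ∀ c : R', E c = c • k m := fun c => rfl
  refine ⟨(LinearMap.toSpanSingleton R' T (f m)) ∘ₗ E.symm.toLinearMap, ?_, ?_⟩
  · intro x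
    obtain ⟨r, rfl⟩ := hm x
    change LinearMap.toSpanSingleton R' T (f m) (E.symm (k (r • m))) = f (r • m)
    have h1 : k (r • m) = E (φ r) := by rw [hk, hE]
    rw [h1, LinearEquiv.symm_apply_apply, LinearMap.toSpanSingleton_apply, hf]
  · intro g hg
    apply LinearMap.ext
    intro y
    obtain ⟨c, rfl⟩ := E.surjective y
    change g (E c) = LinearMap.toSpanSingleton R' T (f m) (E.symm (E c))
    rw [LinearEquiv.symm_apply_apply, LinearMap.toSpanSingleton_apply, hE, LinearMap.map_smul, hg]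

variable {Y PA PB : Scheme.{u}} {𝒜 ℬ : RelProj.QCGrAlg Y}
  {φ : 𝒜.toQCAlg ⟶ ℬ.toQCAlg} {hφ : RelProj.IsGradedHom φ}
  {hirr : ∀ (U : Y.Opens) (hU : IsAffineOpen U),
    (ℬ.deg U hU)₊ ≤ ((𝒜.deg U hU)₊).map (RelProj.gradedHomAt φ hφ U hU)}
  {pA : PA ⟶ Y} {pB : PB ⟶ Y}
  {chartA : ∀ (U : Y.Opens) (hU : IsAffineOpen U),
    (((pA ⁻¹ᵁ U : PA.Opens) : Scheme.{u}) ≅ Proj (𝒜.deg U hU))}
  {chartB : ∀ (U : Y.Opens) (hU : IsAffineOpen U),
    (((pB ⁻¹ᵁ U : PB.Opens) : Scheme.{u}) ≅ Proj (ℬ.deg U hU))}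
  {h : PB ⟶ PA}

variable (φ hφ pB chartB) in
/-- The opens `emb_U(D₊(φ(g) * h'))` of `Proj ℬ`. -/
def basisSet : Set PB.Opens :=
  {V | ∃ (U : Y.Opens) (hU : IsAffineOpen U) (g : 𝒜.presheaf.obj (op U))
      (h' : ℬ.presheaf.obj (op U)) (k : ℕ),
      g ∈ 𝒜.deg U hU 1 ∧ h' ∈ ℬ.deg U hU k ∧
      V = (RelProj.emb pB chartB U hU) ''ᵁ
        (Proj.basicOpen (ℬ.deg U hU) (RelProj.gradedHomAt φ hφ U hU g * h'))}

include hirr in
theorem isBasis_basisSet (hgen : 𝒜.IsGenDegOne) :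
    Opens.IsBasis (basisSet φ hφ pB chartB) := by
  rw [Opens.isBasis_iff_nbhd]
  intro O x hx
  obtain ⟨⟨U, hU⟩, z, rfl⟩ := exists_mem_range_emb pB chartB x
  obtain ⟨k, h', hh, hhz, hhO⟩ :=
    Groth.Agent.Lib.helper28.GTildeSec.exists_homogeneous_basicOpen (ℬ.deg U hU)
      (RelProj.emb pB chartB U hU ⁻¹ᵁ O) z hx
  obtain ⟨g, hg, hgz⟩ :=
    Groth.Agent.Lib.helper28.GTwistAll.hcov_of_closure (𝒜.deg U hU) (hgen U hU)
      (ProjectiveSpectrum.comap (RelProj.gradedHomAt φ hφ U hU) (hirr U hU) z)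
  have hgz' : RelProj.gradedHomAt φ hφ U hU g ∉ z.asHomogeneousIdeal := hgz
  refine ⟨_, ⟨U, hU, g, h', k, hg, hh, rfl⟩, ⟨z, ?_, rfl⟩, ?_⟩
  · exact (ProjectiveSpectrum.mem_basicOpen _ _ z).mpr fun hmem =>
      (z.isPrime.mem_or_mem hmem).elim hgz' hhz
  · rintro _ ⟨w, hw, rfl⟩
    exact hhO w fun hmem => ((ProjectiveSpectrum.mem_basicOpen _ _ w).mp hw)
      (Ideal.mul_mem_left _ _ hmem)

section Main

variable {n : ℤ} {LA : PA.Modules} {LB : PB.Modules}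
  (hirr)
  (lamA : ∀ (U : Y.Opens) (hU : IsAffineOpen U),
    LA ⟶ (Scheme.Modules.pushforward (RelProj.emb pA chartA U hU)).obj
      (GrTwist.twist (𝒜.deg U hU) n))
  (lamB : ∀ (U : Y.Opens) (hU : IsAffineOpen U),
    LB ⟶ (Scheme.Modules.pushforward (RelProj.emb pB chartB U hU)).obj
      (GrTwist.twist (ℬ.deg U hU) n))

open Groth.Agent.Lib.helper28.GTwistFree Groth.Agent.Lib.helper28.LocalGen
  Groth.Agent.Lib.helper28.RelTwistTensor Groth.Agent.Lib.helper28.RelTwistFree in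
theorem isBC_theta
    (hLA : RelProj.IsRelTwist 𝒜 pA chartA n LA lamA)
    (hLB : RelProj.IsRelTwist ℬ pB chartB n LB lamB)
    (hh : RelProj.IsRelProjMap φ hφ hirr chartA chartB h)
    (θ : LA ⟶ (Scheme.Modules.pushforward h).obj LB)
    (hθ : ∀ (W : PA.Opens) (s : Γ(LA, W)), IsImg hirr lamA lamB W s (θ.app W s))
    (U : Y.Opens) (hU : IsAffineOpen U) (g : 𝒜.presheaf.obj (op U))
    (h' : ℬ.presheaf.obj (op U)) (k : ℕ) (hg : g ∈ 𝒜.deg U hU 1) (hh' : h' ∈ ℬ.deg U hU k) :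
    IsAffineOpen ((RelProj.emb pB chartB U hU) ''ᵁ
        (Proj.basicOpen (ℬ.deg U hU) (RelProj.gradedHomAt φ hφ U hU g * h'))) ∧
      ∃ (U' : PA.Opens) (_ : IsAffineOpen U')
        (e : (RelProj.emb pB chartB U hU) ''ᵁ
          (Proj.basicOpen (ℬ.deg U hU) (RelProj.gradedHomAt φ hφ U hU g * h')) ≤ h ⁻¹ᵁ U'),
        IsBC (h.appLE U' _ e).hom (ρv h e θ) := by
  let ψ := RelProj.gradedHomAt φ hφ U hU
  have hg' : ψ g ∈ ℬ.deg U hU 1 := ψ.map_mem hg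
  have hF' : ψ g * h' ∈ ℬ.deg U hU (1 + k) := SetLike.mul_mem_graded hg' hh'
  let V : PB.Opens := (RelProj.emb pB chartB U hU) ''ᵁ (Proj.basicOpen (ℬ.deg U hU) (ψ g * h'))
  let U' : PA.Opens := (RelProj.emb pA chartA U hU) ''ᵁ (Proj.basicOpen (𝒜.deg U hU) g)
  have hVU : V ≤ pB ⁻¹ᵁ U := image_emb_le pB chartB U hU _
  have hU'U : U' ≤ pA ⁻¹ᵁ U := image_emb_le pA chartA U hU _
  have hVB : (RelProj.emb pB chartB U hU ⁻¹ᵁ V : (Proj (ℬ.deg U hU)).Opens) =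
      ProjectiveSpectrum.basicOpen (ℬ.deg U hU) (ψ g * h') :=
    (RelProj.emb pB chartB U hU).preimage_image_eq _
  have hVA : (RelProj.emb pA chartA U hU ⁻¹ᵁ U' : (Proj (𝒜.deg U hU)).Opens) =
      ProjectiveSpectrum.basicOpen (𝒜.deg U hU) g :=
    (RelProj.emb pA chartA U hU).preimage_image_eq _
  have hVaff : IsAffineOpen V :=
    (Proj.isAffineOpen_basicOpen (ℬ.deg U hU) (ψ g * h') hF' (by omega)).image_of_isOpenImmersion _
  have hU'aff : IsAffineOpen U' :=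
    (Proj.isAffineOpen_basicOpen (𝒜.deg U hU) g hg Nat.one_pos).image_of_isOpenImmersion _
  have e : V ≤ h ⁻¹ᵁ U' := by
    rintro _ ⟨z, hz, rfl⟩
    change h.base ((RelProj.emb pB chartB U hU).base z) ∈ U'
    rw [h_emb hh U hU z]
    refine ⟨ProjectiveSpectrum.comap ψ (hirr U hU) z, ?_, rfl⟩
    refine (ProjectiveSpectrum.mem_basicOpen (𝒜.deg U hU) g _).mpr fun hmem => ?_
    have hmem' : ψ g ∈ z.asHomogeneousIdeal := hmem
    exact (ProjectiveSpectrum.mem_basicOpen (ℬ.deg U hU) (ψ g * h') z).mp hz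
      (Ideal.mul_mem_right _ _ hmem')
  refine ⟨hVaff, U', hU'aff, e, ?_⟩
  have hgU' : ∀ (c : ℕ) (x : (RelProj.emb pA chartA U hU ⁻¹ᵁ U' : (Proj (𝒜.deg U hU)).Opens)),
      g ^ c ∉ x.1.asHomogeneousIdeal := fun c x hmem => by
    have hx : x.1 ∈ ProjectiveSpectrum.basicOpen (𝒜.deg U hU) g := hVA ▸ x.2
    exact (ProjectiveSpectrum.mem_basicOpen (𝒜.deg U hU) g x.1).mp hx
      (x.1.isPrime.mem_of_pow_mem c hmem)
  have hgV : ∀ (c : ℕ) (x : (RelProj.emb pB chartB U hU ⁻¹ᵁ V : (Proj (ℬ.deg U hU)).Opens)),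
      (ψ g) ^ c ∉ x.1.asHomogeneousIdeal := fun c x hmem => by
    have hx : x.1 ∈ ProjectiveSpectrum.basicOpen (ℬ.deg U hU) (ψ g * h') := hVB ▸ x.2
    exact (ProjectiveSpectrum.mem_basicOpen (ℬ.deg U hU) (ψ g * h') x.1).mp hx
      (Ideal.mul_mem_right h' _ (x.1.isPrime.mem_of_pow_mem c hmem))
  obtain ⟨um, hum⟩ := (hLA.bijective U hU U' hU'U).2
    (fracSectN (𝒜.deg U hU) n (RelProj.emb pA chartA U hU ⁻¹ᵁ U')
      ⟨g ^ n.toNat, pow_mem_one hg _⟩ ⟨g ^ (-n).toNat, pow_mem_one hg _⟩ (hgU' _) (toNat_eq n))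
  have hm := bijective_smul_of_lam_eq lamA hLA U hU U' hU'U Nat.one_pos hg hVA
    ⟨g ^ n.toNat, pow_mem_one hg _⟩ ⟨g ^ (-n).toNat, pow_mem_one hg _⟩ (hgU' _) (hgU' _)
    (toNat_eq n) um hum
  have ht' : (lamB U hU).app V (ρv h e θ um) =
      fracSectN (ℬ.deg U hU) n (RelProj.emb pB chartB U hU ⁻¹ᵁ V)
        ⟨(ψ g) ^ n.toNat, pow_mem_one hg' _⟩ ⟨(ψ g) ^ (-n).toNat, pow_mem_one hg' _⟩ (hgV _)
        (toNat_eq n) := by
    refine Groth.Agent.Lib.helper28.GTwistQCoh.sectN_ext _ _ _ fun x => ?_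
    have hy' : (RelProj.emb pA chartA U hU).base
        (ProjectiveSpectrum.comap ψ (hirr U hU) x.1) ∈ U' := by
      rw [← h_emb hh U hU x.1]
      exact e x.2
    have h1 := hθ U' um U hU x.1 (e x.2) hy'
    rw [ρv_apply, ← ModSec.map_app_apply (lamB U hU) (homOfLE e) (θ.app U' um)]
    refine h1.trans ?_
    rw [hum]
    change GrTwist.locMap ψ (hirr U hU) x.1 (Localization.mk _ _) = Localization.mk _ _
    rw [GrTwist.locMap_mk]
    exact mk_congr _ _ (map_pow ψ g _) (map_pow ψ g _)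
  have hm' := bijective_smul_of_lam_eq lamB hLB U hU V hVU (by omega : 0 < 1 + k) hF' hVB
    ⟨(ψ g) ^ n.toNat, pow_mem_one hg' _⟩ ⟨(ψ g) ^ (-n).toNat, pow_mem_one hg' _⟩ (hgV _) (hgV _)
    (toNat_eq n) (ρv h e θ um) ht'
  refine isBC_of_free (h.appLE U' V e).hom (ρv h e θ) ?_ um hm.2 hm'
  intro r x
  rw [ρv_apply, ρv_apply]
  have h1 : θ.app U' (r • x) = ((h.app U').hom r • (show Γ(LB, h ⁻¹ᵁ U') from θ.app U' x) :
      Γ(LB, h ⁻¹ᵁ U')) := by
    rw [Scheme.Modules.Hom.app_smul, smul_pushforward]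
  rw [h1]
  exact Groth.Agent.Lib.helper28.HomOfBasis.map_smul' LB (homOfLE e) ((h.app U').hom r) _

open Groth.Agent.Lib.helper28.RelTwistFree in
/-- `h^* O_{Proj 𝒜}(n) ≅ O_{Proj ℬ}(n)` when `𝒜` is generated in degree one. -/
theorem nonempty_pullback_iso (hgen : 𝒜.IsGenDegOne)
    (hA : RelProj.IsRelProj 𝒜 pA chartA) (hB : RelProj.IsRelProj ℬ pB chartB)
    (hLA : RelProj.IsRelTwist 𝒜 pA chartA n LA lamA)
    (hLB : RelProj.IsRelTwist ℬ pB chartB n LB lamB)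
    (hh : RelProj.IsRelProjMap φ hφ hirr chartA chartB h) :
    Nonempty ((Scheme.Modules.pullback h).obj LA ≅ LB) := by
  obtain ⟨θ, hθ, -⟩ := existsUnique_theta hirr lamA lamB hA hB hLA hLB hh
  haveI := isQuasicoherent lamA hLA
  haveI := isIso_homEquiv_symm_of_isBC h θ (basisSet φ hφ pB chartB)
    (isBasis_basisSet (hirr := hirr) hgen) (by
      rintro _ ⟨U, hU, g, h', k, hg, hh', rfl⟩
      exact isBC_theta hirr lamA lamB hLA hLB hh θ hθ U hU g h' k hg hh')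
  exact ⟨asIso (((pullbackPushforwardAdjunction h).homEquiv LA LB).symm θ)⟩

end Main

end Groth.Agent.Lib.helper28.RelTwistPull
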