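import Groth.Agent.Lib.Helper28.AwayBaseChange2
import Groth.Agent.Lib.Lead.ProjChart

/-!
# `Proj` commutes with base change (helper28)

For a pushout square of rings `R → R'`, `𝒜 → 𝒜'` with `ψ : 𝒜 → 𝒜'` graded, structure maps in
degree zero, and `𝒜'₊ ≤ 𝒜₊.map ψ`: `Proj 𝒜' = Proj 𝒜 ×_{Spec R} Spec R'`.
-/

set_option autoImplicit false
universe u

namespace Groth.Agent.Lib.helper28.ProjBaseChange

open CategoryTheory CategoryTheory.Limits AlgebraicGeometry HomogeneousLocalization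
open scoped HomogeneousIdeal
open Groth.Agent.Lib.helper28.AwayBaseChange Groth.Agent.Lib.Lead.ProjChart

variable {R R' A A' : Type u} [CommRing R] [CommRing R'] [CommRing A] [CommRing A']
  {σ τ : Type u} [SetLike σ A] [AddSubgroupClass σ A] [SetLike τ A'] [AddSubgroupClass τ A']
  (𝒜 : ℕ → σ) [GradedRing 𝒜] (𝒜' : ℕ → τ) [GradedRing 𝒜']
  (φ : R →+* R') (α : R →+* A) (β : R' →+* A') (ψ : 𝒜 →+*ᵍ 𝒜')
  (hα : ∀ r, α r ∈ 𝒜 0) (hβ : ∀ r', β r' ∈ 𝒜' 0)

theorem covers_of_irrelevant_le (hirr : 𝒜'₊ ≤ 𝒜₊.map ψ) : Covers ψ := by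
  intro y
  have h1 := (ProjectiveSpectrum.comap ψ hirr y).not_irrelevant_le
  rw [HomogeneousIdeal.irrelevant_le] at h1
  push Not at h1
  obtain ⟨i, hi, h2⟩ := h1
  obtain ⟨b, hb, hby⟩ := SetLike.not_le_iff_exists.mp h2
  exact ⟨i, hi, b, hb, hby⟩

theorem isChartMap_map (hirr : 𝒜'₊ ≤ 𝒜₊.map ψ) : IsChartMap ψ (Proj.map ψ hirr) :=
  fun _ hd f hf => Proj.awayι_comp_map ψ hirr hd f hf

/-- **`Proj` commutes with base change** (ring level). -/
theorem isPullback_proj_map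
    (hpo : IsPushout (CommRingCat.ofHom φ) (CommRingCat.ofHom α) (CommRingCat.ofHom β)
      (CommRingCat.ofHom (ψ : A →+* A')))
    (hirr : 𝒜'₊ ≤ 𝒜₊.map ψ) :
    IsPullback (Proj.map ψ hirr)
      (Proj.toSpecZero 𝒜' ≫ Spec.map (CommRingCat.ofHom (zeroHom 𝒜' β hβ)))
      (Proj.toSpecZero 𝒜 ≫ Spec.map (CommRingCat.ofHom (zeroHom 𝒜 α hα)))
      (Spec.map (CommRingCat.ofHom φ)) := by
  have hc := covers_of_irrelevant_le 𝒜 𝒜' ψ hirr
  have hg := isChartMap_map 𝒜 𝒜' ψ hirr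
  refine Scheme.isPullback_of_openCover (Proj.map ψ hirr) _ _ _
    (Proj.affineOpenCover 𝒜).openCover ?_
  intro s
  have sq := (isPullback hg hc s.1.2 s.2.1 s.2.2).flip
  have hpo' := isPushout_awayMap 𝒜 𝒜' φ α β ψ hα hβ hpo s.2.2
  have sqR := isPullback_SpecMap_of_isPushout _ _ _ _ hpo'
  have e1 : Proj.awayι 𝒜 (s.2 : A) s.2.2 s.1.2 ≫ Proj.toSpecZero 𝒜 ≫
      Spec.map (CommRingCat.ofHom (zeroHom 𝒜 α hα)) =
      Spec.map (CommRingCat.ofHom (awayStr 𝒜 α hα (s.2 : A))) := by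
    rw [Proj.awayι_toSpecZero_assoc, ← Spec.map_comp]
    rfl
  have e2 : Proj.awayι 𝒜' (ψ (s.2 : A)) (ψ.map_mem s.2.2) s.1.2 ≫ Proj.toSpecZero 𝒜' ≫
      Spec.map (CommRingCat.ofHom (zeroHom 𝒜' β hβ)) =
      Spec.map (CommRingCat.ofHom (awayStr 𝒜' β hβ (ψ (s.2 : A)))) := by
    rw [Proj.awayι_toSpecZero_assoc, ← Spec.map_comp]
    rfl
  refine IsPullback.of_iso sqR.flip sq.isoPullback (Iso.refl _) (Iso.refl _) (Iso.refl _)
    ?_ ?_ ?_ ?_
  · change _ = sq.isoPullback.hom ≫ pullback.snd _ _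
    rw [sq.isoPullback_hom_snd]
    exact Category.comp_id _
  · change _ = sq.isoPullback.hom ≫ pullback.fst _ _ ≫ _
    rw [← Category.assoc, sq.isoPullback_hom_fst]
    exact (Category.comp_id _).trans e2.symm
  · refine (Category.comp_id _).trans ((Category.id_comp _).trans ?_).symm
    exact e1
  · exact (Category.comp_id _).trans (Category.id_comp _).symm

end Groth.Agent.Lib.helper28.ProjBaseChange
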