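import Groth.Agent.Lib.Helper28.GProjSec
import Groth.Agent.Lib.Helper16.QCohPushLoc

/-!
# Quasi-coherence of `O(n)` on `Proj`
-/

set_option autoImplicit false
universe u

open CategoryTheory AlgebraicGeometry Opposite TopologicalSpace

namespace Groth.Agent.Lib.helper28.GTwistQCoh

open Groth.Agent.Lib.helper28.GFrac Groth.Agent.Lib.helper28.GTildeSec
  Groth.Agent.Lib.helper28.GProjSec Groth.Agent.Lib.helper28.GTwistSec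

variable {A σ : Type u} [CommRing A] [SetLike σ A] [AddSubgroupClass σ A] (𝒜 : ℕ → σ)
  [GradedRing 𝒜]

/-- The basic opens `D₊(f)`, `f` homogeneous of positive degree, cover `Proj`. -/
theorem iSup_basicOpen_eq_top :
    ⨆ i : (Σ i : PNat, 𝒜 i), Proj.basicOpen 𝒜 (i.2 : A) = ⊤ := by
  classical
  apply Proj.iSup_basicOpen_eq_top
  intro z hz
  rw [← DirectSum.sum_support_decompose 𝒜 z]
  refine Ideal.sum_mem _ fun c hc ↦ if hc0 : c = 0 then ?_ else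
    Ideal.subset_span ⟨⟨⟨c, Nat.pos_iff_ne_zero.mpr hc0⟩, _⟩, rfl⟩
  convert Ideal.zero_mem _
  subst hc0
  exact hz

/-- A section of `O(n)`, as a dependent function. -/
def toSectN {n : ℤ} {U : (Proj 𝒜).Opens} (s : Γ(GrTwist.twist 𝒜 n, U)) :
    GrTwist.sectN (𝒜 := 𝒜) n (op U) := s

theorem sectN_ext {n : ℤ} {U : (Proj 𝒜).Opens} (s t : Γ(GrTwist.twist 𝒜 n, U))
    (h : ∀ x : U, (((toSectN 𝒜 s).1 x : GrTwist.twistAt 𝒜 n x.1) : GrTwist.Loc 𝒜 x.1) =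
      ((toSectN 𝒜 t).1 x : GrTwist.twistAt 𝒜 n x.1)) : s = t := by
  apply Subtype.ext
  funext x
  exact Subtype.ext (h x)

theorem val_pow_smulN {n : ℤ} {U : (Proj 𝒜).Opens} (g : Γ(Proj 𝒜, U)) (N : ℕ)
    (s : Γ(GrTwist.twist 𝒜 n, U)) (x : U) :
    (((toSectN 𝒜 (g ^ N • s)).1 x : GrTwist.twistAt 𝒜 n x.1) : GrTwist.Loc 𝒜 x.1) =
      (((toO 𝒜 g).1 x).val ^ N) * (((toSectN 𝒜 s).1 x : GrTwist.twistAt 𝒜 n x.1) :
        GrTwist.Loc 𝒜 x.1) := by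
  refine (GrTwist.coe_smul_val n x.1 ((toO 𝒜 (g ^ N)).1 x) ((toSectN 𝒜 s).1 x)).trans ?_
  change ((((toO 𝒜 g).1 x) ^ N).val) * _ = _
  rw [HomogeneousLocalization.val_pow]

/-- The section `a / h` over an open on which `h` vanishes nowhere. -/
def fracSectN (n : ℤ) (U : Opens (ProjectiveSpectrum.top 𝒜)) {i j : ℕ} (a : 𝒜 i) (h : 𝒜 j)
    (hU : ∀ x : U, h.1 ∉ x.1.asHomogeneousIdeal) (hdeg : (i : ℤ) = j + n) :
    GrTwist.sectN (𝒜 := 𝒜) n (op U) :=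
  ⟨fun x => ⟨Localization.mk a.1 ⟨h.1, hU x⟩,
      Submodule.subset_span ⟨i, j, a, h, hU x, hdeg, rfl⟩⟩,
    fun x => ⟨U, x.2, 𝟙 _, i, j, a, h, hU, Or.inl hdeg, fun _ => rfl⟩⟩

theorem fracSectN_val (n : ℤ) (U : Opens (ProjectiveSpectrum.top 𝒜)) {i j : ℕ} (a : 𝒜 i) (h : 𝒜 j)
    (hU : ∀ x : U, h.1 ∉ x.1.asHomogeneousIdeal) (hdeg : (i : ℤ) = j + n) (x : U) :
    (((fracSectN 𝒜 n U a h hU hdeg).1 x : GrTwist.twistAt 𝒜 n x.1) : GrTwist.Loc 𝒜 x.1) =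
      Localization.mk a.1 ⟨h.1, hU x⟩ := rfl

theorem mk_eq_zero_iff' {S : Submonoid A} (m : A) (s : S) :
    Localization.mk m s = 0 ↔ ∃ u : S, (u : A) * m = 0 := by
  rw [← Localization.mk_zero s, mk_eq_mk_iff']
  constructor
  · rintro ⟨u, hu⟩
    refine ⟨u * s, ?_⟩
    rw [mul_zero, mul_zero] at hu
    rw [Submonoid.coe_mul, mul_assoc]
    exact hu
  · rintro ⟨u, hu⟩
    refine ⟨u, ?_⟩
    rw [mul_zero, mul_zero, mul_left_comm, hu, mul_zero]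

theorem twist_hinj (n : ℤ) {d : ℕ} (hd : 0 < d) {f : A} (hf : f ∈ 𝒜 d)
    (g : Γ(Proj 𝒜, Proj.basicOpen 𝒜 f)) (s : Γ(GrTwist.twist 𝒜 n, Proj.basicOpen 𝒜 f))
    (hs : (GrTwist.twist 𝒜 n).presheaf.map (homOfLE ((Proj 𝒜).basicOpen_le g)).op s = 0) :
    ∃ N : ℕ, g ^ N • s = 0 := by
  obtain ⟨k, a, ha, hga⟩ := O_eq_fraction 𝒜 hd hf g
  have hbo := basicOpen_eq 𝒜 g k a hga
  obtain ⟨k', i', m, hi', hsm⟩ := sectN_eq_fraction 𝒜 n hd hf (toSectN 𝒜 s)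
  have hfa : f * a ∈ 𝒜 (d + k * d) := SetLike.mul_mem_graded hf ha
  have hdpos : 0 < d + k * d := by omega
  obtain ⟨N, hN⟩ := exists_pow_smul_eq_zero 𝒜 𝒜 hdpos hfa m.2 (fun y hy => by
    have hy' : y ∈ (Proj 𝒜).basicOpen g := by rw [hbo]; exact hy
    have hyf : y ∈ Proj.basicOpen 𝒜 f := (Proj 𝒜).basicOpen_le g hy'
    have h0 : (((toSectN 𝒜 s).1 ⟨y, hyf⟩ : GrTwist.twistAt 𝒜 n y) : GrTwist.Loc 𝒜 y) = 0 :=
      congrArg (fun t : Γ(GrTwist.twist 𝒜 n, (Proj 𝒜).basicOpen g) =>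
        (((toSectN 𝒜 t).1 ⟨y, hy'⟩ : GrTwist.twistAt 𝒜 n y) : GrTwist.Loc 𝒜 y)) hs
    have h1 := (hsm ⟨y, hyf⟩).symm.trans h0
    rw [mk_eq_zero_iff'] at h1
    obtain ⟨u, hu⟩ := h1
    exact ⟨u.1, u.2, hu⟩)
  refine ⟨N, sectN_ext 𝒜 _ _ fun x => ?_⟩
  refine (val_pow_smulN 𝒜 g N s x).trans ?_
  refine (congrArg₂ (fun (c : GrTwist.Loc 𝒜 x.1) (q : GrTwist.Loc 𝒜 x.1) => c ^ N * q)
    (hga x) (hsm x)).trans ?_
  change (Localization.mk a _ ^ N * Localization.mk m.1 _ : GrTwist.Loc 𝒜 x.1) = 0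
  rw [Localization.mk_pow, Localization.mk_mul, mk_eq_zero_iff']
  refine ⟨⟨f ^ N, notMem_pow_of_mem 𝒜 x.2 N⟩, ?_⟩
  change f ^ N * (a ^ N * m.1) = 0
  rw [← mul_assoc, ← mul_pow]
  exact hN

theorem twist_hsurj (n : ℤ) {d : ℕ} (hd : 0 < d) {f : A} (hf : f ∈ 𝒜 d)
    (g : Γ(Proj 𝒜, Proj.basicOpen 𝒜 f))
    (t : Γ(GrTwist.twist 𝒜 n, (Proj 𝒜).basicOpen g)) :
    ∃ (N : ℕ) (s : Γ(GrTwist.twist 𝒜 n, Proj.basicOpen 𝒜 f)),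
      (GrTwist.twist 𝒜 n).presheaf.map (homOfLE ((Proj 𝒜).basicOpen_le g)).op s =
        ((Proj 𝒜).presheaf.map (homOfLE ((Proj 𝒜).basicOpen_le g)).op g) ^ N • t := by
  obtain ⟨k, a, ha, hga⟩ := O_eq_fraction 𝒜 hd hf g
  have hbo := basicOpen_eq 𝒜 g k a hga
  have hfa : f * a ∈ 𝒜 (d + k * d) := SetLike.mul_mem_graded hf ha
  have hdpos : 0 < d + k * d := by omega
  have hle : ProjectiveSpectrum.basicOpen 𝒜 (f * a) ≤ (Proj 𝒜).basicOpen g := hbo.ge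
  let t' : GrTwist.sectN (𝒜 := 𝒜) n (op (ProjectiveSpectrum.basicOpen 𝒜 (f * a))) :=
    GrTwist.resN n (U := op ((Proj 𝒜).basicOpen g)) (homOfLE hle).op (toSectN 𝒜 t)
  obtain ⟨k'', i'', m, hi'', htm⟩ := sectN_eq_fraction 𝒜 n hdpos hfa t'
  have hfK : f ^ (k'' * (k + 1)) ∈ 𝒜 (k'' * (k + 1) * d) := by
    have := SetLike.pow_mem_graded (k'' * (k + 1)) hf
    simpa [smul_eq_mul] using this
  have hdeg : (i'' : ℤ) = ((k'' * (k + 1) * d : ℕ) : ℤ) + n := by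
    rw [hi'']; push_cast; ring
  refine ⟨k'', fracSectN 𝒜 n (ProjectiveSpectrum.basicOpen 𝒜 f) m ⟨f ^ (k'' * (k + 1)), hfK⟩
    (fun x => notMem_pow_of_mem 𝒜 x.2 _) hdeg, sectN_ext 𝒜 _ _ fun x => ?_⟩
  have hxf : x.1 ∈ Proj.basicOpen 𝒜 f := (Proj 𝒜).basicOpen_le g x.2
  have hxfa : x.1 ∈ ProjectiveSpectrum.basicOpen 𝒜 (f * a) := hbo.le x.2
  refine Eq.trans ?_ (val_pow_smulN 𝒜 _ k'' t x).symm
  refine Eq.trans ?_ (congrArg₂ (fun (c : GrTwist.Loc 𝒜 x.1) (q : GrTwist.Loc 𝒜 x.1) =>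
    c ^ k'' * q) (hga ⟨x.1, hxf⟩) (htm ⟨x.1, hxfa⟩)).symm
  change (Localization.mk m.1 _ : GrTwist.Loc 𝒜 x.1) =
    (Localization.mk a _ ^ k'' * Localization.mk m.1 _ : GrTwist.Loc 𝒜 x.1)
  rw [Localization.mk_pow, Localization.mk_mul, mk_eq_mk_iff']
  refine ⟨1, ?_⟩
  rw [OneMemClass.coe_one, one_mul, one_mul]
  change ((f ^ k) ^ k'' * (f * a) ^ k'') * m.1 = f ^ (k'' * (k + 1)) * (a ^ k'' * m.1)
  ring

theorem twist_isQuasicoherent (n : ℤ) : (GrTwist.twist 𝒜 n).IsQuasicoherent :=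
  Groth.Agent.Lib.helper16.QCohPushLoc.isQuasicoherent_of_loc_cover (X := Proj 𝒜) _
    (ι := Σ i : PNat, 𝒜 i) (fun i => Proj.basicOpen 𝒜 (i.2 : A))
    (fun i => Proj.isAffineOpen_basicOpen 𝒜 _ i.2.2 i.1.2) (iSup_basicOpen_eq_top 𝒜)
    (fun i g s hs => twist_hinj 𝒜 n i.1.2 i.2.2 g s hs)
    (fun i g t => twist_hsurj 𝒜 n i.1.2 i.2.2 g t)

end Groth.Agent.Lib.helper28.GTwistQCoh
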