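import Groth.Prelude.Def_Found
import Groth.Prelude.Def_CAlgX
import Mathlib.LinearAlgebra.TensorProduct.Pi
import Mathlib.LinearAlgebra.TensorProduct.RightExactness

/-! Helper lemmas on `TensorProduct.piRightHom` for the Mittag-Leffler statements (helper28). -/

set_option autoImplicit false
universe u

namespace Groth.Agent.Lib.helper28

open TensorProduct

/-- Naturality of `piRightHom` in the left tensor factor. -/
theorem piRightHom_rTensor {R : Type u} [CommRing R] {N₁ N₂ : Type u} [AddCommGroup N₁] [Module R N₁]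
    [AddCommGroup N₂] [Module R N₂] (f : N₁ →ₗ[R] N₂) {ι : Type u} (Q : ι → Type u)
    [∀ i, AddCommGroup (Q i)] [∀ i, Module R (Q i)] (x : N₁ ⊗[R] (∀ i, Q i)) :
    TensorProduct.piRightHom R R N₂ Q (f.rTensor (∀ i, Q i) x) =
      fun i => f.rTensor (Q i) (TensorProduct.piRightHom R R N₁ Q x i) := by
  induction x using TensorProduct.induction_on with
  | zero => simp; rfl
  | tmul n q => rfl
  | add a b ha hb =>
    rw [map_add, map_add, ha, hb, map_add]
    funext i
    simp

end Groth.Agent.Lib.helper28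

namespace Groth.Agent.Lib.helper28

open TensorProduct

/-- If `n : Fin k → N` spans `N`, every element of `N ⊗ Q` is of the form `∑ n_j ⊗ q_j`. -/
theorem exists_sum_tmul_of_span_eq_top {R : Type u} [CommRing R] {N : Type u} [AddCommGroup N]
    [Module R N] {k : ℕ} (n : Fin k → N) (hn : Submodule.span R (Set.range n) = ⊤)
    (Q : Type u) [AddCommGroup Q] [Module R Q] (t : N ⊗[R] Q) :
    ∃ q : Fin k → Q, t = ∑ j, n j ⊗ₜ[R] q j := by
  induction t using TensorProduct.induction_on with
  | zero => exact ⟨0, by simp⟩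
  | tmul x y =>
    have hx : x ∈ Submodule.span R (Set.range n) := by rw [hn]; trivial
    obtain ⟨c, rfl⟩ := (Submodule.mem_span_range_iff_exists_fun R).mp hx
    refine ⟨fun j => c j • y, ?_⟩
    rw [TensorProduct.sum_tmul]
    refine Finset.sum_congr rfl fun j _ => ?_
    rw [TensorProduct.smul_tmul]
  | add a b ha hb =>
    obtain ⟨qa, rfl⟩ := ha
    obtain ⟨qb, rfl⟩ := hb
    refine ⟨qa + qb, ?_⟩
    rw [← Finset.sum_add_distrib]
    refine Finset.sum_congr rfl fun j _ => ?_
    rw [Pi.add_apply, TensorProduct.tmul_add]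

/-- For a finitely generated module `N`, the map `N ⊗ ∏ Qᵢ → ∏ (N ⊗ Qᵢ)` is surjective. -/
theorem piRightHom_surjective_of_fg {R : Type u} [CommRing R] {N : Type u} [AddCommGroup N]
    [Module R N] (hN : (⊤ : Submodule R N).FG) {ι : Type u} (Q : ι → Type u)
    [∀ i, AddCommGroup (Q i)] [∀ i, Module R (Q i)] :
    Function.Surjective (TensorProduct.piRightHom R R N Q) := by
  obtain ⟨k, n, hn⟩ := Submodule.fg_iff_exists_fin_generating_family.mp hN
  intro t
  have h := fun i => exists_sum_tmul_of_span_eq_top n hn (Q i) (t i)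
  choose q hq using h
  refine ⟨∑ j, n j ⊗ₜ[R] (fun i => q i j), ?_⟩
  funext i
  rw [map_sum, Finset.sum_apply, hq i]
  rfl

end Groth.Agent.Lib.helper28
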