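import Groth.Agent.Lib.Helper28.GTwistSec

/-!
# `O(n)` is free of rank one over `D₊(F)` when a unit fraction of degree `n` exists
-/

set_option autoImplicit false
universe u

open CategoryTheory AlgebraicGeometry Opposite TopologicalSpace

namespace Groth.Agent.Lib.helper28.GTwistFree

open Groth.Agent.Lib.helper28.GFrac Groth.Agent.Lib.helper28.GTildeSec
  Groth.Agent.Lib.helper28.GTwistSec

variable {A σ : Type u} [CommRing A] [SetLike σ A] [AddSubgroupClass σ A] (𝒜 : ℕ → σ)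
  [GradedRing 𝒜]

/-- Shortcut instances (the generic search diverges through `Pi` instances). -/
noncomputable instance (priority := high) sectNModule (n : ℤ)
    (W : Opens (ProjectiveSpectrum.top 𝒜)) :
    Module (GrTwist.O (𝒜 := 𝒜) (op W)) (GrTwist.sectN (𝒜 := 𝒜) n (op W)) :=
  Submodule.module (GrTwist.sectN (𝒜 := 𝒜) n (op W))

noncomputable instance (priority := high) sectNSMul (n : ℤ)
    (W : Opens (ProjectiveSpectrum.top 𝒜)) :
    SMul (GrTwist.O (𝒜 := 𝒜) (op W)) (GrTwist.sectN (𝒜 := 𝒜) n (op W)) :=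
  (sectNModule 𝒜 n W).toSMul

/-- The section `a / b` of `O` over an open on which `b` vanishes nowhere. -/
def fracSectO (W : Opens (ProjectiveSpectrum.top 𝒜)) {i : ℕ} (a b : 𝒜 i)
    (hW : ∀ x : W, b.1 ∉ x.1.asHomogeneousIdeal) : GrTwist.O (𝒜 := 𝒜) (op W) :=
  ⟨fun x => HomogeneousLocalization.mk ⟨i, a, b, hW x⟩,
    fun x => ⟨W, x.2, 𝟙 _, i, a, b, fun y => hW y, fun _ => rfl⟩⟩

theorem fracSectO_val (W : Opens (ProjectiveSpectrum.top 𝒜)) {i : ℕ} (a b : 𝒜 i)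
    (hW : ∀ x : W, b.1 ∉ x.1.asHomogeneousIdeal) (x : W) :
    ((fracSectO 𝒜 W a b hW).1 x).val = Localization.mk a.1 ⟨b.1, hW x⟩ := rfl

/-- The section `a / h` of `O(n)` over an open on which `h` vanishes nowhere. -/
def fracSectN (n : ℤ) (W : Opens (ProjectiveSpectrum.top 𝒜)) {i j : ℕ} (a : 𝒜 i) (h : 𝒜 j)
    (hW : ∀ x : W, h.1 ∉ x.1.asHomogeneousIdeal) (hdeg : (i : ℤ) = j + n) :
    GrTwist.sectN (𝒜 := 𝒜) n (op W) :=
  ⟨fun x => ⟨Localization.mk a.1 ⟨h.1, hW x⟩,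
      Submodule.subset_span ⟨i, j, a, h, hW x, hdeg, rfl⟩⟩,
    fun x => ⟨W, x.2, 𝟙 _, i, j, a, h, hW, Or.inl hdeg, fun _ => rfl⟩⟩

theorem fracSectN_val (n : ℤ) (W : Opens (ProjectiveSpectrum.top 𝒜)) {i j : ℕ} (a : 𝒜 i) (h : 𝒜 j)
    (hW : ∀ x : W, h.1 ∉ x.1.asHomogeneousIdeal) (hdeg : (i : ℤ) = j + n) (x : W) :
    (((fracSectN 𝒜 n W a h hW hdeg).1 x : GrTwist.twistAt 𝒜 n x.1) : GrTwist.Loc 𝒜 x.1) =
      Localization.mk a.1 ⟨h.1, hW x⟩ := rfl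

theorem sectN_ext' {n : ℤ} {W : Opens (ProjectiveSpectrum.top 𝒜)}
    (s t : GrTwist.sectN (𝒜 := 𝒜) n (op W))
    (h : ∀ x : W, ((s.1 x : GrTwist.twistAt 𝒜 n x.1) : GrTwist.Loc 𝒜 x.1) =
      (t.1 x : GrTwist.twistAt 𝒜 n x.1)) : s = t := by
  apply Subtype.ext
  funext x
  exact Subtype.ext (h x)

theorem O_ext' {W : Opens (ProjectiveSpectrum.top 𝒜)} (s t : GrTwist.O (𝒜 := 𝒜) (op W))
    (h : ∀ x : W, (s.1 x).val = (t.1 x).val) : s = t := by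
  apply Subtype.ext
  funext x
  exact HomogeneousLocalization.val_injective _ (h x)

theorem smul_val {n : ℤ} {W : Opens (ProjectiveSpectrum.top 𝒜)} (c : GrTwist.O (𝒜 := 𝒜) (op W))
    (s : GrTwist.sectN (𝒜 := 𝒜) n (op W)) (x : W) :
    ((((c • s : GrTwist.sectN (𝒜 := 𝒜) n (op W))).1 x : GrTwist.twistAt 𝒜 n x.1) : GrTwist.Loc 𝒜 x.1) =
      (c.1 x).val * ((s.1 x : GrTwist.twistAt 𝒜 n x.1) : GrTwist.Loc 𝒜 x.1) :=
  GrTwist.coe_smul_val n x.1 (c.1 x) (s.1 x)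

/-- Sections of `O(n)` over (an open equal to) `D₊(F)` are single fractions. -/
theorem sectN_eq_fraction' (n : ℤ) {d : ℕ} (hd : 0 < d) {F : A} (hF : F ∈ 𝒜 d)
    (W : Opens (ProjectiveSpectrum.top 𝒜)) (hW : W = ProjectiveSpectrum.basicOpen 𝒜 F)
    (s : GrTwist.sectN (𝒜 := 𝒜) n (op W)) :
    ∃ (k i : ℕ) (m : 𝒜 i) (hk : ∀ x : W, F ^ k ∉ x.1.asHomogeneousIdeal), (i : ℤ) = k * d + n ∧
      ∀ x : W, ((s.1 x : GrTwist.twistAt 𝒜 n x.1) : GrTwist.Loc 𝒜 x.1) =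
          (Localization.mk m.1 ⟨F ^ k, hk x⟩ : GrTwist.Loc 𝒜 x.1) := by
  subst hW
  obtain ⟨k, i, m, hi, h⟩ := sectN_eq_fraction 𝒜 n hd hF s
  exact ⟨k, i, m, _, hi, h⟩

/-- If `a / b` is a fraction of degree `n` with `a`, `b` invertible on `W = D₊(F)`, then
`c ↦ c • (a / b)` is a bijection from `Γ(W, O)` onto `Γ(W, O(n))`. -/
theorem bijective_smul_fracSectN (n : ℤ) {d : ℕ} (hd : 0 < d) {F : A} (hF : F ∈ 𝒜 d)
    (W : Opens (ProjectiveSpectrum.top 𝒜)) (hW : W = ProjectiveSpectrum.basicOpen 𝒜 F)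
    {i j : ℕ} (a : 𝒜 i) (b : 𝒜 j) (ha : ∀ x : W, a.1 ∉ x.1.asHomogeneousIdeal)
    (hb : ∀ x : W, b.1 ∉ x.1.asHomogeneousIdeal) (hdeg : (i : ℤ) = j + n) :
    Function.Bijective (fun c : GrTwist.O (𝒜 := 𝒜) (op W) =>
      (c • fracSectN 𝒜 n W a b hb hdeg : GrTwist.sectN (𝒜 := 𝒜) n (op W))) := by
  constructor
  · intro c c' hcc
    refine O_ext' 𝒜 c c' fun x => ?_
    have h1 := congrArg (fun s : GrTwist.sectN (𝒜 := 𝒜) n (op W) =>
      ((s.1 x : GrTwist.twistAt 𝒜 n x.1) : GrTwist.Loc 𝒜 x.1)) hcc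
    simp only [smul_val, fracSectN_val] at h1
    have hu : IsUnit (Localization.mk a.1 ⟨b.1, hb x⟩ : GrTwist.Loc 𝒜 x.1) := by
      rw [Localization.mk_eq_mk', IsLocalization.AtPrime.isUnit_mk'_iff]
      exact ha x
    exact hu.mul_left_injective h1
  · intro t
    obtain ⟨k, l, m, hk, hl, ht⟩ := sectN_eq_fraction' 𝒜 n hd hF W hW t
    have hFk : F ^ k ∈ 𝒜 (k * d) := by
      have := SetLike.pow_mem_graded k hF
      simpa [smul_eq_mul] using this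
    have hdeg' : l + j = k * d + i := by
      have : ((l + j : ℕ) : ℤ) = ((k * d + i : ℕ) : ℤ) := by
        push_cast; rw [hl, hdeg]; ring
      exact_mod_cast this
    have hden : ∀ x : W, F ^ k * a.1 ∉ x.1.asHomogeneousIdeal := fun x hmem =>
      (x.1.isPrime.mem_or_mem hmem).elim (hk x) (ha x)
    refine ⟨fracSectO 𝒜 W ⟨m.1 * b.1, SetLike.mul_mem_graded m.2 b.2⟩
      ⟨F ^ k * a.1, hdeg' ▸ SetLike.mul_mem_graded hFk a.2⟩ hden, ?_⟩
    refine sectN_ext' 𝒜 _ _ fun x => ?_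
    rw [smul_val, fracSectN_val, fracSectO_val, ht x, Localization.mk_mul, mk_eq_mk_iff']
    refine ⟨1, ?_⟩
    simp only [OneMemClass.coe_one, one_mul, Submonoid.coe_mul]
    ring

end Groth.Agent.Lib.helper28.GTwistFree
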