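import Groth.Agent.Lib.Helper28.GMTildeQCoh
import Groth.Agent.Lib.Helper28.GTwistFree

/-!
# Finite generation of the sections of `M~` over `D₊(g)`, `g` of degree one, under (TF) (helper28)
-/

set_option autoImplicit false
universe u

open CategoryTheory AlgebraicGeometry Opposite TopologicalSpace

namespace Groth.Agent.Lib.helper28.GMTildeFT

open Groth.Agent.Lib.helper28.GFrac Groth.Agent.Lib.helper28.GMTildeSec
  Groth.Agent.Lib.helper28.GMTildeQCoh Groth.Agent.Lib.helper28.GTwistFree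
  Groth.Agent.Lib.helper28.GProjSec

variable {A σ : Type u} [CommRing A] [SetLike σ A] [AddSubgroupClass σ A] (𝒜 : ℕ → σ)
  [GradedRing 𝒜]
variable {M τ : Type u} [AddCommGroup M] [Module A M] [SetLike τ M] [AddSubgroupClass τ M]
  (ℳ : ℕ → τ) [DirectSum.Decomposition ℳ] [SetLike.GradedSMul 𝒜 ℳ]

/-- The degree-`j` component of `a • t`, `t` homogeneous of degree `e ≤ j`. -/
theorem decompose_smul_of_mem (a : A) {e : ℕ} {t : M} (ht : t ∈ ℳ e) {j : ℕ} (hej : e ≤ j) :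
    ((DirectSum.decompose ℳ (a • t)) j : M) = (DirectSum.decompose 𝒜 a (j - e) : A) • t := by
  classical
  conv_lhs => rw [← DirectSum.sum_support_decompose 𝒜 a, Finset.sum_smul, DirectSum.decompose_sum]
  rw [DFinsupp.finset_sum_apply, AddSubmonoidClass.coe_finset_sum]
  have hterm : ∀ l : ℕ, ((DirectSum.decompose ℳ ((DirectSum.decompose 𝒜 a l : A) • t)) j : M) =
      if l = j - e then (DirectSum.decompose 𝒜 a l : A) • t else 0 := by
    intro l
    have hmem : (DirectSum.decompose 𝒜 a l : A) • t ∈ ℳ (l + e) := by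
      have := SetLike.GradedSMul.smul_mem (A := 𝒜) (B := ℳ)
        (SetLike.coe_mem (DirectSum.decompose 𝒜 a l)) ht
      simpa [vadd_eq_add] using this
    by_cases hl : l = j - e
    · rw [if_pos hl]
      have hle : l + e = j := by omega
      rw [DirectSum.decompose_of_mem_same ℳ (hle ▸ hmem)]
    · rw [if_neg hl]
      have hne : l + e ≠ j := by omega
      rw [DirectSum.decompose_of_mem_ne ℳ hmem hne]
  rw [Finset.sum_congr rfl (fun l _ => hterm l), Finset.sum_ite_eq']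
  split_ifs with h
  · rfl
  · have h0 : (DirectSum.decompose 𝒜 a (j - e) : A) = 0 := by
      have := DFinsupp.notMem_support_iff.mp h
      rw [this]; rfl
    rw [h0, zero_smul]

/-- An element of `ℳ j` in the span of homogeneous `t`'s of degrees `e t ≤ j` is a combination
with homogeneous coefficients. -/
theorem exists_homogeneous_coeffs {ι : Type*} (T : Finset ι) (t : ι → M) (e : ι → ℕ)
    (ht : ∀ i ∈ T, t i ∈ ℳ (e i)) {j : ℕ} (hej : ∀ i ∈ T, e i ≤ j) {m : M} (hm : m ∈ ℳ j)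
    (hspan : m ∈ Submodule.span A (t '' (T : Set ι))) :
    ∃ c : ι → A, (∀ i ∈ T, c i ∈ 𝒜 (j - e i)) ∧ m = ∑ i ∈ T, c i • t i := by
  classical
  obtain ⟨a, ha⟩ := (Submodule.mem_span_image_finset_iff_exists_fun' A).mp hspan
  refine ⟨fun i => (DirectSum.decompose 𝒜 (a i) (j - e i) : A), fun i _ => SetLike.coe_mem _, ?_⟩
  have h1 : ((DirectSum.decompose ℳ m) j : M) = m := DirectSum.decompose_of_mem_same ℳ hm
  rw [← h1, ← ha, DirectSum.decompose_sum, DFinsupp.finset_sum_apply,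
    AddSubmonoidClass.coe_finset_sum]
  exact Finset.sum_congr rfl fun i hi => decompose_smul_of_mem 𝒜 ℳ (a i) (ht i hi) (hej i hi)

section LocMk

variable {S : Submonoid A}

theorem mk_add_same (a b : M) (s : S) :
    LocalizedModule.mk (a + b) s = LocalizedModule.mk a s + LocalizedModule.mk b s := by
  rw [LocalizedModule.mk_add_mk, ← smul_add, LocalizedModule.mk_cancel_common_left]

theorem mk_sum_same {ι : Type*} (T : Finset ι) (f : ι → M) (s : S) :
    LocalizedModule.mk (∑ i ∈ T, f i) s = ∑ i ∈ T, LocalizedModule.mk (f i) s := by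
  classical
  induction T using Finset.induction_on with
  | empty => simp
  | insert a T ha ih => rw [Finset.sum_insert ha, Finset.sum_insert ha, mk_add_same, ih]

end LocMk

/-- Evaluation of a section at a point, as an additive map. -/
def evalAt {n : ℤ} {U : (Proj 𝒜).Opens} (x : U) :
    Γ(GrMod.tilde 𝒜 ℳ n, U) →+ GrMod.LocMod 𝒜 (M := M) x.1 where
  toFun s := (((toSect 𝒜 ℳ s).1 x : GrMod.tildeAt 𝒜 ℳ n x.1) : GrMod.LocMod 𝒜 (M := M) x.1)
  map_zero' := rfl
  map_add' _ _ := rfl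

theorem evalAt_smul {n : ℤ} {U : (Proj 𝒜).Opens} (x : U) (c : Γ(Proj 𝒜, U))
    (s : Γ(GrMod.tilde 𝒜 ℳ n, U)) :
    evalAt 𝒜 ℳ x (c • s) = ((toO 𝒜 c).1 x).val • evalAt 𝒜 ℳ x s :=
  GrMod.coe_smul_val n x.1 ((toO 𝒜 c).1 x) ((toSect 𝒜 ℳ s).1 x)

/-- **Under (TF), the sections of `M~` over `D₊(g)`, `g` of degree one, are finitely generated.** -/
theorem finite_sections_basicOpen
    (hTF : ∃ k : ℕ, (Submodule.span A (⋃ i ∈ Set.Ici k, (ℳ i : Set M))).FG) {g : A}
    (hg : g ∈ 𝒜 1) :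
    Module.Finite Γ(Proj 𝒜, Proj.basicOpen 𝒜 g) Γ(GrMod.tilde 𝒜 ℳ 0, Proj.basicOpen 𝒜 g) := by
  classical
  obtain ⟨k, hk⟩ := hTF
  obtain ⟨T, hTsub, hTspan⟩ := (Submodule.fg_span_iff_fg_span_finset_subset _).mp hk
  have hdeg : ∀ t : M, t ∈ T → ∃ e : ℕ, k ≤ e ∧ t ∈ ℳ e := by
    intro t ht
    have := hTsub ht
    simp only [Set.mem_iUnion, Set.mem_Ici, SetLike.mem_coe, exists_prop] at this
    exact this
  choose! e he1 he2 using hdeg
  have hgpow : ∀ l : ℕ, g ^ l ∈ 𝒜 l := fun l => by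
    have := SetLike.pow_mem_graded l hg
    simpa [smul_eq_mul] using this
  have hD : ∀ (l : ℕ) (x : ProjectiveSpectrum.basicOpen 𝒜 g), g ^ l ∉ x.1.asHomogeneousIdeal :=
    fun l x => pow_notMem 𝒜 x.1 ((ProjectiveSpectrum.mem_basicOpen 𝒜 g x.1).mp x.2) l
  -- the generators
  let σ : T → Γ(GrMod.tilde 𝒜 ℳ 0, Proj.basicOpen 𝒜 g) := fun t =>
    fracSect 𝒜 ℳ 0 (ProjectiveSpectrum.basicOpen 𝒜 g) ⟨t.1, he2 t.1 t.2⟩ ⟨g ^ e t.1, hgpow _⟩
      (hD _) (by simp)
  refine Module.finite_def.mpr (Submodule.fg_def.mpr ⟨Set.range σ, Set.finite_range σ, ?_⟩)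
  rw [eq_top_iff]
  intro s _
  obtain ⟨j, i, m, hi, hsm⟩ := sect_eq_fraction 𝒜 ℳ 0 Nat.one_pos hg (toSect 𝒜 ℳ s)
  have hij : i = j := by
    have : (i : ℤ) = j := by rw [hi]; push_cast; ring
    exact_mod_cast this
  subst hij
  set E : ℕ := k + ∑ t ∈ T, e t with hE
  have hEe : ∀ t ∈ T, e t ≤ i + E := fun t ht => by
    have := Finset.single_le_sum (f := e) (fun _ _ => Nat.zero_le _) ht
    omega
  have hm' : g ^ E • m.1 ∈ ℳ (i + E) := by
    have := SetLike.GradedSMul.smul_mem (A := 𝒜) (B := ℳ) (hgpow E) m.2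
    rw [vadd_eq_add, add_comm] at this
    exact this
  have hspan : g ^ E • m.1 ∈ Submodule.span A (id '' (T : Set M)) := by
    rw [Set.image_id, ← hTspan]
    refine Submodule.subset_span ?_
    simp only [Set.mem_iUnion, Set.mem_Ici, SetLike.mem_coe, exists_prop]
    exact ⟨i + E, by omega, hm'⟩
  obtain ⟨c, hc, hsum⟩ := exists_homogeneous_coeffs 𝒜 ℳ T id e (fun t ht => he2 t ht) hEe hm' hspan
  -- the coefficient sections
  let γ : T → Γ(Proj 𝒜, Proj.basicOpen 𝒜 g) := fun t =>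
    fracSectO 𝒜 (ProjectiveSpectrum.basicOpen 𝒜 g) ⟨c t.1, hc t.1 t.2⟩
      ⟨g ^ (i + E - e t.1), hgpow _⟩ (hD _)
  have hs : s = ∑ t : T, γ t • σ t := by
    refine sect_ext 𝒜 ℳ _ _ fun x => ?_
    change evalAt 𝒜 ℳ x s = evalAt 𝒜 ℳ x (∑ t : T, γ t • σ t)
    rw [map_sum]
    have h1 : ∀ t : T, evalAt 𝒜 ℳ x (γ t • σ t) =
        LocalizedModule.mk (c t.1 • t.1) ⟨g ^ (i + E), hD _ x⟩ := by
      intro t
      rw [evalAt_smul]
      change (Localization.mk (c t.1) ⟨g ^ (i + E - e t.1), hD _ x⟩ : GrTwist.Loc 𝒜 x.1) •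
        (LocalizedModule.mk t.1 ⟨g ^ e t.1, hD _ x⟩ : GrMod.LocMod 𝒜 (M := M) x.1) = _
      rw [LocalizedModule.mk_smul_mk]
      congr 1
      refine Subtype.ext ?_
      change g ^ (i + E - e t.1) * g ^ e t.1 = g ^ (i + E)
      rw [← pow_add, Nat.sub_add_cancel (hEe t.1 t.2)]
    rw [Finset.sum_congr rfl (fun t _ => h1 t), ← mk_sum_same]
    have h2 : ∑ t : T, c t.1 • t.1 = g ^ E • m.1 := by
      rw [hsum, ← Finset.sum_coe_sort T (fun t => c t • id t)]
      rfl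
    rw [h2]
    refine (hsm x).trans ?_
    rw [LocalizedModule.mk_eq]
    refine ⟨1, ?_⟩
    rw [one_smul, one_smul]
    change g ^ (i + E) • m.1 = g ^ i • g ^ E • m.1
    rw [← mul_smul, ← pow_add]
  rw [hs]
  exact Submodule.sum_mem _ fun t _ => Submodule.smul_mem _ _ (Submodule.subset_span ⟨t, rfl⟩)

end Groth.Agent.Lib.helper28.GMTildeFT
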