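import Groth.Agent.Lib.Helper28.GTwistSec

/-!
# Sections of the structure sheaf of `Proj` over `D₊(f)` and their basic opens
-/

set_option autoImplicit false
universe u

open CategoryTheory AlgebraicGeometry Opposite TopologicalSpace

namespace Groth.Agent.Lib.helper28.GProjSec

open Groth.Agent.Lib.helper28.GFrac

variable {A σ : Type u} [CommRing A] [SetLike σ A] [AddSubgroupClass σ A] (𝒜 : ℕ → σ)
  [GradedRing 𝒜]

/-- A section of the structure sheaf of `Proj`, as a dependent function. -/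
def toO {U : (Proj 𝒜).Opens} (g : Γ(Proj 𝒜, U)) : GrTwist.O (𝒜 := 𝒜) (op U) := g

theorem notMem_pow_of_mem {f : A} {x : ProjectiveSpectrum 𝒜}
    (hx : x ∈ ProjectiveSpectrum.basicOpen 𝒜 f) (k : ℕ) :
    f ^ k ∈ x.asHomogeneousIdeal.toIdeal.primeCompl := fun h =>
  (ProjectiveSpectrum.mem_basicOpen 𝒜 f x).mp hx (x.isPrime.mem_of_pow_mem k h)

/-- Every section of `O` over `D₊(f)` is a fraction `a / f ^ k`. -/
theorem O_eq_fraction {d : ℕ} (hd : 0 < d) {f : A} (hf : f ∈ 𝒜 d)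
    (g : Γ(Proj 𝒜, Proj.basicOpen 𝒜 f)) :
    ∃ (k : ℕ) (a : A), a ∈ 𝒜 (k * d) ∧ ∀ x : Proj.basicOpen 𝒜 f,
      ((toO 𝒜 g).1 x).val = Localization.mk a ⟨f ^ k, notMem_pow_of_mem 𝒜 x.2 k⟩ := by
  have hsurj : Function.Surjective (Proj.basicOpenIsoAway 𝒜 f hf hd).hom :=
    (ConcreteCategory.bijective_of_isIso (Proj.basicOpenIsoAway 𝒜 f hf hd).hom).2
  obtain ⟨z, rfl⟩ := hsurj g
  obtain ⟨k, a, ha, rfl⟩ := HomogeneousLocalization.Away.mk_surjective 𝒜 hf z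
  refine ⟨k, a, by simpa [smul_eq_mul] using ha, fun x => ?_⟩
  rfl

/-- Membership in the scheme-theoretic basic open of a section of `O` on `Proj`: the value at
the point is a unit. -/
theorem mem_basicOpen_iff {U : (Proj 𝒜).Opens} (g : Γ(Proj 𝒜, U)) (x : Proj 𝒜) :
    x ∈ (Proj 𝒜).basicOpen g ↔ ∃ hx : x ∈ U, IsUnit ((toO 𝒜 g).1 ⟨x, hx⟩).val := by
  rw [Scheme.mem_basicOpen'']
  refine exists_congr fun hx => ?_
  rw [HomogeneousLocalization.isUnit_iff_isUnit_val]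
  have := Proj.stalkIso'_germ 𝒜 U x hx g
  have h2 : IsUnit (Proj.stalkIso' 𝒜 x ((ProjectiveSpectrum.Proj.structureSheaf 𝒜).presheaf.germ _ x hx g)) ↔
      IsUnit ((ProjectiveSpectrum.Proj.structureSheaf 𝒜).presheaf.germ _ x hx g) :=
    MulEquiv.isUnit_map (Proj.stalkIso' 𝒜 x)
  rw [this] at h2
  exact h2.symm

theorem basicOpen_eq {f : A} (g : Γ(Proj 𝒜, Proj.basicOpen 𝒜 f)) (k : ℕ) (a : A)
    (ha : ∀ x : Proj.basicOpen 𝒜 f,
      ((toO 𝒜 g).1 x).val = Localization.mk a ⟨f ^ k, notMem_pow_of_mem 𝒜 x.2 k⟩) :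
    (Proj 𝒜).basicOpen g = Proj.basicOpen 𝒜 (f * a) := by
  ext x
  rw [SetLike.mem_coe, SetLike.mem_coe, mem_basicOpen_iff, Proj.basicOpen_mul]
  constructor
  · rintro ⟨hx, hu⟩
    refine ⟨hx, ?_⟩
    have hu' := (congrArg IsUnit (ha ⟨x, hx⟩)).mp hu
    rw [Localization.mk_eq_mk', IsLocalization.AtPrime.isUnit_mk'_iff] at hu'
    exact hu'
  · rintro ⟨hx, hax⟩
    refine ⟨hx, ?_⟩
    refine (congrArg IsUnit (ha ⟨x, hx⟩)).mpr ?_
    rw [Localization.mk_eq_mk', IsLocalization.AtPrime.isUnit_mk'_iff]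
    exact hax

end Groth.Agent.Lib.helper28.GProjSec
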