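import Groth.Agent.Lib.Helper28.GMTildeSec
import Groth.Agent.Lib.Helper28.GProjSec
import Groth.Agent.Lib.Helper16.QCohPushLoc

/-!
# Quasi-coherence of `M(n)~` and `O(n)` on `Proj`
-/

set_option autoImplicit false
universe u

open CategoryTheory AlgebraicGeometry Opposite TopologicalSpace

namespace Groth.Agent.Lib.helper28.GMTildeQCoh

open Groth.Agent.Lib.helper28.GFrac Groth.Agent.Lib.helper28.GMTildeSec
  Groth.Agent.Lib.helper28.GProjSec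

variable {A σ : Type u} [CommRing A] [SetLike σ A] [AddSubgroupClass σ A] (𝒜 : ℕ → σ)
  [GradedRing 𝒜]

/-- The basic opens `D₊(f)`, `f` homogeneous of positive degree, cover `Proj`. -/
theorem iSup_basicOpen_eq_top :
    ⨆ i : (Σ i : PNat, 𝒜 i), Proj.basicOpen 𝒜 (i.2 : A) = ⊤ := by
  classical
  apply Proj.iSup_basicOpen_eq_top
  intro z hz
  rw [← DirectSum.sum_support_decompose 𝒜 z]
  refine Ideal.sum_mem _ fun c hc ↦ if hc0 : c = 0 then ?_ else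
    Ideal.subset_span ⟨⟨⟨c, Nat.pos_iff_ne_zero.mpr hc0⟩, _⟩, rfl⟩
  convert Ideal.zero_mem _
  subst hc0
  exact hz

variable {M τ : Type u} [AddCommGroup M] [Module A M] [SetLike τ M] [AddSubgroupClass τ M]
  (ℳ : ℕ → τ) [DirectSum.Decomposition ℳ] [SetLike.GradedSMul 𝒜 ℳ]

/-- A section of `M(n)~`, as a dependent function. -/
def toSect {n : ℤ} {U : (Proj 𝒜).Opens} (s : Γ(GrMod.tilde 𝒜 ℳ n, U)) :
    GrMod.sect 𝒜 ℳ n (op U) := s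

theorem sect_ext {n : ℤ} {U : (Proj 𝒜).Opens} (s t : Γ(GrMod.tilde 𝒜 ℳ n, U))
    (h : ∀ x : U, (((toSect 𝒜 ℳ s).1 x : GrMod.tildeAt 𝒜 ℳ n x.1) : GrMod.LocMod 𝒜 (M := M) x.1) =
      ((toSect 𝒜 ℳ t).1 x : GrMod.tildeAt 𝒜 ℳ n x.1)) : s = t := by
  apply Subtype.ext
  funext x
  exact Subtype.ext (h x)

theorem val_pow_smul {n : ℤ} {U : (Proj 𝒜).Opens} (g : Γ(Proj 𝒜, U)) (N : ℕ)
    (s : Γ(GrMod.tilde 𝒜 ℳ n, U)) (x : U) :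
    (((toSect 𝒜 ℳ (g ^ N • s)).1 x : GrMod.tildeAt 𝒜 ℳ n x.1) : GrMod.LocMod 𝒜 (M := M) x.1) =
      (((toO 𝒜 g).1 x).val ^ N) • (((toSect 𝒜 ℳ s).1 x : GrMod.tildeAt 𝒜 ℳ n x.1) :
        GrMod.LocMod 𝒜 (M := M) x.1) := by
  refine (GrMod.coe_smul_val n x.1 ((toO 𝒜 (g ^ N)).1 x) ((toSect 𝒜 ℳ s).1 x)).trans ?_
  change ((((toO 𝒜 g).1 x) ^ N).val) • _ = _
  rw [HomogeneousLocalization.val_pow]

/-- Instance for points of an open subset (the frozen instance is stated for terms of type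
`ProjectiveSpectrum 𝒜`). -/
instance modLoc' (U : Opens (ProjectiveSpectrum.top 𝒜)) (x : U) :
    Module (GrTwist.A0 𝒜 x.1) (GrMod.LocMod 𝒜 (M := M) x.1) :=
  GrMod.modLoc 𝒜 (x.1 : ProjectiveSpectrum 𝒜)

/-- The section `m / h` over an open on which `h` vanishes nowhere. -/
def fracSect (n : ℤ) (U : Opens (ProjectiveSpectrum.top 𝒜)) {i j : ℕ} (m : ℳ i) (h : 𝒜 j)
    (hU : ∀ x : U, h.1 ∉ x.1.asHomogeneousIdeal) (hdeg : (i : ℤ) = j + n) :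
    GrMod.sect 𝒜 ℳ n (op U) :=
  ⟨fun x => ⟨LocalizedModule.mk m.1 ⟨h.1, hU x⟩,
      Submodule.subset_span ⟨i, j, m, h, hU x, hdeg, rfl⟩⟩,
    fun x => ⟨U, x.2, 𝟙 _, i, j, m, h, hU, Or.inl hdeg, fun _ => rfl⟩⟩

theorem fracSect_val (n : ℤ) (U : Opens (ProjectiveSpectrum.top 𝒜)) {i j : ℕ} (m : ℳ i) (h : 𝒜 j)
    (hU : ∀ x : U, h.1 ∉ x.1.asHomogeneousIdeal) (hdeg : (i : ℤ) = j + n) (x : U) :
    (((fracSect 𝒜 ℳ n U m h hU hdeg).1 x : GrMod.tildeAt 𝒜 ℳ n x.1) :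
      GrMod.LocMod 𝒜 (M := M) x.1) = LocalizedModule.mk m.1 ⟨h.1, hU x⟩ := rfl

theorem mk_eq_zero_iff {S : Submonoid A} (m : M) (s : S) :
    LocalizedModule.mk m s = 0 ↔ ∃ u : S, u • m = 0 := by
  rw [← LocalizedModule.zero_mk s, LocalizedModule.mk_eq]
  constructor
  · rintro ⟨u, hu⟩
    refine ⟨u * s, ?_⟩
    rw [smul_zero, smul_zero] at hu
    rw [mul_smul]
    exact hu
  · rintro ⟨u, hu⟩
    refine ⟨u, ?_⟩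
    rw [smul_zero, smul_zero, smul_comm, hu, smul_zero]

theorem tilde_hinj (n : ℤ) {d : ℕ} (hd : 0 < d) {f : A} (hf : f ∈ 𝒜 d)
    (g : Γ(Proj 𝒜, Proj.basicOpen 𝒜 f)) (s : Γ(GrMod.tilde 𝒜 ℳ n, Proj.basicOpen 𝒜 f))
    (hs : (GrMod.tilde 𝒜 ℳ n).presheaf.map (homOfLE ((Proj 𝒜).basicOpen_le g)).op s = 0) :
    ∃ N : ℕ, g ^ N • s = 0 := by
  obtain ⟨k, a, ha, hga⟩ := O_eq_fraction 𝒜 hd hf g
  have hbo := basicOpen_eq 𝒜 g k a hga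
  obtain ⟨k', i', m, hi', hsm⟩ := sect_eq_fraction 𝒜 ℳ n hd hf (toSect 𝒜 ℳ s)
  have hfa : f * a ∈ 𝒜 (d + k * d) := SetLike.mul_mem_graded hf ha
  have hdpos : 0 < d + k * d := by omega
  obtain ⟨N, hN⟩ := exists_pow_smul_eq_zero 𝒜 ℳ hdpos hfa m.2 (fun y hy => by
    have hy' : y ∈ (Proj 𝒜).basicOpen g := by rw [hbo]; exact hy
    have hyf : y ∈ Proj.basicOpen 𝒜 f := (Proj 𝒜).basicOpen_le g hy'
    have h0 : (((toSect 𝒜 ℳ s).1 ⟨y, hyf⟩ : GrMod.tildeAt 𝒜 ℳ n y) :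
        GrMod.LocMod 𝒜 (M := M) y) = 0 :=
      congrArg (fun t : Γ(GrMod.tilde 𝒜 ℳ n, (Proj 𝒜).basicOpen g) =>
        (((toSect 𝒜 ℳ t).1 ⟨y, hy'⟩ : GrMod.tildeAt 𝒜 ℳ n y) :
          GrMod.LocMod 𝒜 (M := M) y)) hs
    have h1 := (hsm ⟨y, hyf⟩).symm.trans h0
    rw [mk_eq_zero_iff] at h1
    obtain ⟨u, hu⟩ := h1
    exact ⟨u.1, u.2, hu⟩)
  refine ⟨N, sect_ext 𝒜 ℳ _ _ fun x => ?_⟩
  refine (val_pow_smul 𝒜 ℳ g N s x).trans ?_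
  refine (congrArg₂ (fun (c : GrTwist.Loc 𝒜 x.1) (q : GrMod.LocMod 𝒜 (M := M) x.1) => c ^ N • q)
    (hga x) (hsm x)).trans ?_
  change (Localization.mk a _ ^ N • LocalizedModule.mk m.1 _ : GrMod.LocMod 𝒜 (M := M) x.1) = 0
  rw [Localization.mk_pow, LocalizedModule.mk_smul_mk, mk_eq_zero_iff]
  refine ⟨⟨f ^ N, notMem_pow_of_mem 𝒜 x.2 N⟩, ?_⟩
  change f ^ N • a ^ N • m.1 = 0
  rw [← mul_smul, ← mul_pow, hN]

theorem tilde_hsurj (n : ℤ) {d : ℕ} (hd : 0 < d) {f : A} (hf : f ∈ 𝒜 d)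
    (g : Γ(Proj 𝒜, Proj.basicOpen 𝒜 f))
    (t : Γ(GrMod.tilde 𝒜 ℳ n, (Proj 𝒜).basicOpen g)) :
    ∃ (N : ℕ) (s : Γ(GrMod.tilde 𝒜 ℳ n, Proj.basicOpen 𝒜 f)),
      (GrMod.tilde 𝒜 ℳ n).presheaf.map (homOfLE ((Proj 𝒜).basicOpen_le g)).op s =
        ((Proj 𝒜).presheaf.map (homOfLE ((Proj 𝒜).basicOpen_le g)).op g) ^ N • t := by
  obtain ⟨k, a, ha, hga⟩ := O_eq_fraction 𝒜 hd hf g
  have hbo := basicOpen_eq 𝒜 g k a hga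
  have hfa : f * a ∈ 𝒜 (d + k * d) := SetLike.mul_mem_graded hf ha
  have hdpos : 0 < d + k * d := by omega
  have hle : ProjectiveSpectrum.basicOpen 𝒜 (f * a) ≤ (Proj 𝒜).basicOpen g := hbo.ge
  let t' : GrMod.sect 𝒜 ℳ n (op (ProjectiveSpectrum.basicOpen 𝒜 (f * a))) :=
    GrMod.res 𝒜 ℳ n (U := op ((Proj 𝒜).basicOpen g)) (homOfLE hle).op (toSect 𝒜 ℳ t)
  obtain ⟨k'', i'', m, hi'', htm⟩ := sect_eq_fraction 𝒜 ℳ n hdpos hfa t'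
  have hfK : f ^ (k'' * (k + 1)) ∈ 𝒜 (k'' * (k + 1) * d) := by
    have := SetLike.pow_mem_graded (k'' * (k + 1)) hf
    simpa [smul_eq_mul] using this
  have hdeg : (i'' : ℤ) = ((k'' * (k + 1) * d : ℕ) : ℤ) + n := by
    rw [hi'']; push_cast; ring
  refine ⟨k'', fracSect 𝒜 ℳ n (ProjectiveSpectrum.basicOpen 𝒜 f) m ⟨f ^ (k'' * (k + 1)), hfK⟩
    (fun x => notMem_pow_of_mem 𝒜 x.2 _) hdeg, sect_ext 𝒜 ℳ _ _ fun x => ?_⟩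
  have hxf : x.1 ∈ Proj.basicOpen 𝒜 f := (Proj 𝒜).basicOpen_le g x.2
  have hxfa : x.1 ∈ ProjectiveSpectrum.basicOpen 𝒜 (f * a) := hbo.le x.2
  refine Eq.trans ?_ (val_pow_smul 𝒜 ℳ _ k'' t x).symm
  refine Eq.trans ?_ (congrArg₂ (fun (c : GrTwist.Loc 𝒜 x.1) (q : GrMod.LocMod 𝒜 (M := M) x.1) =>
    c ^ k'' • q) (hga ⟨x.1, hxf⟩) (htm ⟨x.1, hxfa⟩)).symm
  change (LocalizedModule.mk m.1 _ : GrMod.LocMod 𝒜 (M := M) x.1) =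
    (Localization.mk a _ ^ k'' • LocalizedModule.mk m.1 _ : GrMod.LocMod 𝒜 (M := M) x.1)
  rw [Localization.mk_pow, LocalizedModule.mk_smul_mk, LocalizedModule.mk_eq]
  refine ⟨1, ?_⟩
  rw [one_smul, one_smul]
  change ((f ^ k) ^ k'' * (f * a) ^ k'') • m.1 = f ^ (k'' * (k + 1)) • a ^ k'' • m.1
  rw [← mul_smul]
  congr 1
  ring

theorem tilde_isQuasicoherent (n : ℤ) : (GrMod.tilde 𝒜 ℳ n).IsQuasicoherent :=
  Groth.Agent.Lib.helper16.QCohPushLoc.isQuasicoherent_of_loc_cover (X := Proj 𝒜) _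
    (ι := Σ i : PNat, 𝒜 i) (fun i => Proj.basicOpen 𝒜 (i.2 : A))
    (fun i => Proj.isAffineOpen_basicOpen 𝒜 _ i.2.2 i.1.2) (iSup_basicOpen_eq_top 𝒜)
    (fun i g s hs => tilde_hinj 𝒜 ℳ n i.1.2 i.2.2 g s hs)
    (fun i g t => tilde_hsurj 𝒜 ℳ n i.1.2 i.2.2 g t)

end Groth.Agent.Lib.helper28.GMTildeQCoh
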