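import Groth.Prelude.Def_GrMod3
import Groth.Agent.Lib.Helper28.GFrac

/-!
# Sections of `M(n)~` and `O(n)` over `D₊(f)` are single fractions
-/

set_option autoImplicit false
universe u

open CategoryTheory AlgebraicGeometry Opposite TopologicalSpace

namespace Groth.Agent.Lib.helper28.GMTildeSec

open Groth.Agent.Lib.helper28.GFrac

variable {A σ : Type u} [CommRing A] [SetLike σ A] [AddSubgroupClass σ A] (𝒜 : ℕ → σ)
  [GradedRing 𝒜]

/-- A homogeneous basic open neighbourhood inside a given open. -/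
theorem exists_homogeneous_basicOpen (V : Opens (ProjectiveSpectrum.top 𝒜))
    (y : ProjectiveSpectrum 𝒜) (hy : y ∈ V) :
    ∃ (k : ℕ) (h : A), h ∈ 𝒜 k ∧ h ∉ y.asHomogeneousIdeal ∧
      ∀ z : ProjectiveSpectrum 𝒜, h ∉ z.asHomogeneousIdeal → z ∈ V := by
  obtain ⟨_, ⟨r, rfl⟩, hyr, hrV⟩ :=
    (ProjectiveSpectrum.isTopologicalBasis_basic_opens 𝒜).exists_subset_of_mem_open hy V.2
  have hyr' : y ∈ ProjectiveSpectrum.basicOpen 𝒜 r := hyr
  rw [ProjectiveSpectrum.basicOpen_eq_union_of_projection, Opens.mem_iSup] at hyr'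
  obtain ⟨k, hk⟩ := hyr'
  refine ⟨k, GradedRing.proj 𝒜 k r, SetLike.coe_mem _, hk, fun z hz => hrV ?_⟩
  have : z ∈ ProjectiveSpectrum.basicOpen 𝒜 r := by
    rw [ProjectiveSpectrum.basicOpen_eq_union_of_projection, Opens.mem_iSup]
    exact ⟨k, hz⟩
  exact this

variable {M τ : Type u} [AddCommGroup M] [Module A M] [SetLike τ M] [AddSubgroupClass τ M]
  (ℳ : ℕ → τ) [DirectSum.Decomposition ℳ] [SetLike.GradedSMul 𝒜 ℳ]

theorem sect_eq_fraction (n : ℤ) {d : ℕ} (hd : 0 < d) {f : A} (hf : f ∈ 𝒜 d)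
    (s : GrMod.sect 𝒜 ℳ n (op (ProjectiveSpectrum.basicOpen 𝒜 f))) :
    ∃ (k i : ℕ) (m : ℳ i), (i : ℤ) = k * d + n ∧
      ∀ x : ProjectiveSpectrum.basicOpen 𝒜 f,
        ((s.1 x : GrMod.tildeAt 𝒜 ℳ n x.1) : GrMod.LocMod 𝒜 (M := M) x.1) =
          (LocalizedModule.mk m.1 ⟨f ^ k, fun h => (ProjectiveSpectrum.mem_basicOpen 𝒜 f x.1).mp x.2
            (x.1.isPrime.mem_of_pow_mem k h)⟩ : GrMod.LocMod 𝒜 (M := M) x.1) := by
  classical
  let P : A → M → Prop := fun h m => ∀ (z : ProjectiveSpectrum 𝒜)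
    (hz : z ∈ ProjectiveSpectrum.basicOpen 𝒜 f) (hhz : h ∉ z.asHomogeneousIdeal),
    ((s.1 ⟨z, hz⟩ : GrMod.tildeAt 𝒜 ℳ n z) : GrMod.LocMod 𝒜 (M := M) z) =
      LocalizedModule.mk m ⟨h, hhz⟩
  have key := glue 𝒜 ℳ hd hf n P ?_ ?_
  · obtain ⟨k, i, m, hm, hi, hfin⟩ := key
    refine ⟨k, i, ⟨m, hm⟩, hi, fun x => ?_⟩
    obtain ⟨h, m', hP, hhx, u, hu, huu⟩ := hfin x.1 ((ProjectiveSpectrum.mem_basicOpen 𝒜 f x.1).mp x.2)
    refine (hP x.1 x.2 hhx).trans ?_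
    symm
    rw [LocalizedModule.mk_eq]
    exact ⟨⟨u, hu⟩, huu⟩
  · -- local data
    intro y hy
    have hyf : y ∈ ProjectiveSpectrum.basicOpen 𝒜 f := (ProjectiveSpectrum.mem_basicOpen 𝒜 f y).mpr hy
    obtain ⟨V, hyV, iV, i, j, m, g, g_nin, hdeg, hs⟩ := s.2 ⟨y, hyf⟩
    obtain ⟨k, h₁, hh₁, hh₁y, hh₁V⟩ := exists_homogeneous_basicOpen 𝒜 V y hyV
    rcases hdeg with hdeg | hm0
    · refine ⟨k + j, k + i, h₁ * g.1, h₁ • m.1, SetLike.mul_mem_graded hh₁ g.2,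
        SetLike.GradedSMul.smul_mem hh₁ m.2, by push_cast; rw [hdeg]; ring, ?_, ?_⟩
      · intro hmem
        exact (y.isPrime.mem_or_mem hmem).elim hh₁y (g_nin ⟨y, hyV⟩)
      · intro z hz hhz
        have hzV : z ∈ V := hh₁V z (notMem_of_mul_notMem_left 𝒜 z hhz)
        have := hs ⟨z, hzV⟩
        refine this.trans ?_
        have hh₁z : h₁ ∈ z.asHomogeneousIdeal.toIdeal.primeCompl :=
          notMem_of_mul_notMem_left 𝒜 z hhz
        exact (LocalizedModule.mk_cancel_common_left (⟨h₁, hh₁z⟩ :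
          z.asHomogeneousIdeal.toIdeal.primeCompl) ⟨g.1, g_nin ⟨z, hzV⟩⟩ m.1).symm
    · have hpos : (0 : ℤ) ≤ ((k + n.natAbs * d : ℕ) : ℤ) + n := by
        have h1 : n.natAbs ≤ n.natAbs * d := Nat.le_mul_of_pos_right _ hd
        generalize n.natAbs * d = X at h1 ⊢
        omega
      obtain ⟨i', hi'⟩ := Int.eq_ofNat_of_zero_le hpos
      refine ⟨k + n.natAbs * d, i', h₁ * f ^ n.natAbs, 0, ?_, zero_mem _, hi'.symm, ?_, ?_⟩
      · refine SetLike.mul_mem_graded hh₁ ?_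
        have := SetLike.pow_mem_graded n.natAbs hf
        simpa [smul_eq_mul] using this
      · intro hmem
        exact (y.isPrime.mem_or_mem hmem).elim hh₁y (pow_notMem 𝒜 y hy _)
      · intro z hz hhz
        have hzV : z ∈ V := hh₁V z (notMem_of_mul_notMem_left 𝒜 z hhz)
        have := hs ⟨z, hzV⟩
        refine this.trans ?_
        rw [hm0, LocalizedModule.zero_mk, LocalizedModule.zero_mk]
  · -- compatibility
    intro h m h' m' hP hP' y hy hhy hh'y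
    have hyf : y ∈ ProjectiveSpectrum.basicOpen 𝒜 f := (ProjectiveSpectrum.mem_basicOpen 𝒜 f y).mpr hy
    have h1 := hP y hyf hhy
    have h2 := hP' y hyf hh'y
    rw [h1, LocalizedModule.mk_eq] at h2
    obtain ⟨u, hu⟩ := h2
    exact ⟨u.1, u.2, hu⟩

end Groth.Agent.Lib.helper28.GMTildeSec
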