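import Mathlib
import Groth.Agent.Lib.Lead.ProjMapG

set_option autoImplicit false
set_option backward.isDefEq.respectTransparency false
set_option backward.isDefEq.respectTransparency.types false

universe u

/-! `Proj` of the localization of a graded ring at an element of degree zero (helper28). -/

namespace Groth.Agent.Lib.helper28.ProjLocAway

open AlgebraicGeometry CategoryTheory CategoryTheory.Limits HomogeneousLocalization
open scoped HomogeneousIdeal

variable {A B σ τ : Type u} [CommRing A] [SetLike σ A] [AddSubgroupClass σ A]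
  [CommRing B] [SetLike τ B] [AddSubgroupClass τ B]
  {𝒜 : ℕ → σ} {ℬ : ℕ → τ} [GradedRing 𝒜] [GradedRing ℬ]

/-- `ψ : A → B` is the localization of `A` at the degree-zero element `c`, in elementary form. -/
structure IsLocAt (ψ : 𝒜 →+*ᵍ ℬ) (c : A) : Prop where
  mem : c ∈ 𝒜 0
  unit : IsUnit (ψ c)
  surj : ∀ b : B, ∃ (a : A) (k : ℕ), b * ψ c ^ k = ψ a
  inj : ∀ a a' : A, ψ a = ψ a' → ∃ k : ℕ, c ^ k * a = c ^ k * a'

/-- The inverse of a unit of degree zero has degree zero. -/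
theorem inv_mem_zero {u v : B} (hu : u ∈ ℬ 0) (huv : u * v = 1) : v ∈ ℬ 0 := by
  classical
  have h1 : u * (DirectSum.decompose ℬ v 0 : B) = 1 := by
    rw [← DirectSum.coe_decompose_mul_of_left_mem_zero ℬ hu, huv]
    exact DirectSum.decompose_of_mem_same ℬ SetLike.GradedOne.one_mem
  have h2 : v = (DirectSum.decompose ℬ v 0 : B) := by
    calc v = (u * (DirectSum.decompose ℬ v 0 : B)) * v := by rw [h1, one_mul]
      _ = (u * v) * (DirectSum.decompose ℬ v 0 : B) := by ring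
      _ = _ := by rw [huv, one_mul]
  rw [h2]
  exact SetLike.coe_mem _

variable {ψ : 𝒜 →+*ᵍ ℬ} {c : A}

theorem IsLocAt.surj_homogeneous (h : IsLocAt ψ c) {n : ℕ} {b : B} (hb : b ∈ ℬ n) :
    ∃ (a : A) (k : ℕ), a ∈ 𝒜 n ∧ b * ψ c ^ k = ψ a := by
  classical
  obtain ⟨a, k, hak⟩ := h.surj b
  refine ⟨(DirectSum.decompose 𝒜 a n : A), k, SetLike.coe_mem _, ?_⟩
  have hc0 : ψ c ^ k ∈ ℬ 0 := by
    have := SetLike.pow_mem_graded k (ψ.map_mem h.mem)
    simpa using this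
  have hbn : b * ψ c ^ k ∈ ℬ n := by
    simpa only [add_zero] using SetLike.mul_mem_graded (A := ℬ) hb hc0
  rw [GradedRingHom.map_directSumDecompose, ← hak, DirectSum.decompose_of_mem_same _ hbn]

/-- `Away.map` commutes with the maps from the degree-zero parts. -/
theorem map_fromZero (ψ : 𝒜 →+*ᵍ ℬ) (s : A) (a : 𝒜 0) :
    Away.map ψ s (fromZeroRingHom 𝒜 (Submonoid.powers s) a) =
      fromZeroRingHom ℬ (Submonoid.powers (ψ s)) ⟨ψ a, ψ.map_mem a.2⟩ := by
  simp [fromZeroRingHom, Away.map, HomogeneousLocalization.map_mk]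
  rfl

theorem val_fromZero (s : A) (a : 𝒜 0) :
    (fromZeroRingHom 𝒜 (Submonoid.powers s) a).val = Localization.mk (a : A) 1 := rfl

/-- The homogeneous localization of `A[1/c]` away from `ψ s` is the localization of the
homogeneous localization of `A` away from `s` at `c / 1`. -/
theorem isLocalization_away_map (h : IsLocAt ψ c) {i : ℕ} (s : A) (hs : s ∈ 𝒜 i) :
    letI := (Away.map ψ s).toAlgebra
    IsLocalization.Away (fromZeroRingHom 𝒜 (Submonoid.powers s) ⟨c, h.mem⟩) (Away ℬ (ψ s)) := by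
  letI := (Away.map ψ s).toAlgebra
  have halg : ∀ x : Away 𝒜 s, algebraMap (Away 𝒜 s) (Away ℬ (ψ s)) x = Away.map ψ s x :=
    fun _ => rfl
  refine ⟨?_, ?_, ?_⟩
  · rintro ⟨_, k, rfl⟩
    rw [map_pow, halg, map_fromZero]
    refine IsUnit.pow k ?_
    obtain ⟨v, hv⟩ := h.unit
    have hvmem : ((↑v⁻¹ : B)) ∈ ℬ 0 :=
      inv_mem_zero (ψ.map_mem h.mem)
        ((congrArg (· * (↑v⁻¹ : B)) hv.symm).trans (Units.mul_inv v))
    refine IsUnit.of_mul_eq_one (fromZeroRingHom ℬ (Submonoid.powers (ψ s)) ⟨_, hvmem⟩) ?_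
    rw [← map_mul]
    have : (⟨ψ c, ψ.map_mem h.mem⟩ : ℬ 0) * ⟨_, hvmem⟩ = 1 := by
      apply Subtype.ext
      exact (congrArg (· * (↑v⁻¹ : B)) hv.symm).trans (Units.mul_inv v)
    rw [this, map_one]
  · intro z
    obtain ⟨n, b, hb, rfl⟩ := Away.mk_surjective ℬ (ψ.map_mem hs) z
    obtain ⟨a, k, ha, hak⟩ := h.surj_homogeneous hb
    refine ⟨(Away.mk 𝒜 hs n a ha, ⟨_, k, rfl⟩), ?_⟩
    change Away.mk ℬ (ψ.map_mem hs) n b hb *
        Away.map ψ s ((fromZeroRingHom 𝒜 (Submonoid.powers s) ⟨c, h.mem⟩) ^ k) =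
      Away.map ψ s (Away.mk 𝒜 hs n a ha)
    rw [map_pow, map_fromZero, Away.map_mk ψ s hs n a ha, HomogeneousLocalization.ext_iff_val,
      val_mul, val_pow, Away.val_mk, Away.val_mk, val_fromZero, Localization.mk_pow,
      Localization.mk_mul, one_pow, mul_one, ← hak]
    rfl
  · intro x y hxy
    obtain ⟨n, a, ha, rfl⟩ := Away.mk_surjective 𝒜 hs x
    obtain ⟨n', a', ha', rfl⟩ := Away.mk_surjective 𝒜 hs y
    have hxy' : Away.map ψ s (Away.mk 𝒜 hs n a ha) = Away.map ψ s (Away.mk 𝒜 hs n' a' ha') :=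
      hxy
    rw [Away.map_mk ψ s hs n a ha, Away.map_mk ψ s hs n' a' ha',
      HomogeneousLocalization.ext_iff_val, Away.val_mk, Away.val_mk, Localization.mk_eq_mk_iff,
      Localization.r_iff_exists] at hxy'
    obtain ⟨⟨_, m, rfl⟩, hm⟩ := hxy'
    simp only at hm
    have hm' : ψ (s ^ m * (s ^ n' * a)) = ψ (s ^ m * (s ^ n * a')) := by
      simp only [map_mul, map_pow]
      exact hm
    obtain ⟨k, hk⟩ := h.inj _ _ hm'
    refine ⟨⟨_, k, rfl⟩, ?_⟩
    change (fromZeroRingHom 𝒜 (Submonoid.powers s) ⟨c, h.mem⟩) ^ k * Away.mk 𝒜 hs n a ha =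
      (fromZeroRingHom 𝒜 (Submonoid.powers s) ⟨c, h.mem⟩) ^ k * Away.mk 𝒜 hs n' a' ha'
    rw [HomogeneousLocalization.ext_iff_val, val_mul, val_mul, val_pow, Away.val_mk, Away.val_mk,
      val_fromZero, Localization.mk_pow, Localization.mk_mul, Localization.mk_mul, one_pow,
      one_mul, one_mul, Localization.mk_eq_mk_iff, Localization.r_iff_exists]
    refine ⟨⟨s ^ m, m, rfl⟩, ?_⟩
    simp only
    linear_combination hk

/-- A point of `Proj` avoids some homogeneous element of positive degree. -/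
theorem exists_pos_notMem' (x : Proj 𝒜) :
    ∃ (e : ℕ) (g : A), 0 < e ∧ g ∈ 𝒜 e ∧ g ∉ x.asHomogeneousIdeal := by
  classical
  by_contra hcon
  simp only [not_exists, not_and, not_not] at hcon
  apply x.not_irrelevant_le
  rw [HomogeneousIdeal.irrelevant_le]
  intro i hi a ha
  exact hcon i a hi ha

/-- `Proj A[1/c] ⟶ Proj A` is an open immersion. -/
theorem isOpenImmersion_map (h : IsLocAt ψ c) (hψ : ℬ₊ ≤ (𝒜₊).map ψ) :
    IsOpenImmersion (Proj.map ψ hψ) := by
  refine Groth.Agent.Lib.Lead.ProjMapG.map_of_forall_away @IsOpenImmersion ψ hψ ?_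
  intro i _ s hs
  letI := (Away.map ψ s).toAlgebra
  haveI := isLocalization_away_map h s hs
  exact IsOpenImmersion.of_isLocalization
    (fromZeroRingHom 𝒜 (Submonoid.powers s) ⟨c, h.mem⟩)

/-- The range of `Proj A[1/c] ⟶ Proj A` is the locus where `c` does not vanish. -/
theorem mem_range_map_iff (h : IsLocAt ψ c) (hψ : ℬ₊ ≤ (𝒜₊).map ψ) (x : Proj 𝒜) :
    x ∈ Set.range (Proj.map ψ hψ).base ↔
      (⟨c, h.mem⟩ : 𝒜 0) ∉ ((Proj.toSpecZero 𝒜).base x).asIdeal := by
  constructor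
  · rintro ⟨y, rfl⟩
    rw [← Scheme.Hom.comp_apply, Groth.Agent.Lib.Lead.ProjMapG.map_toSpecZero,
      Scheme.Hom.comp_apply]
    change (⟨c, h.mem⟩ : 𝒜 0) ∉
      (PrimeSpectrum.comap ψ.gradedZeroRingHom ((Proj.toSpecZero ℬ).base y)).asIdeal
    intro hmem
    have hmem' : ψ.gradedZeroRingHom ⟨c, h.mem⟩ ∈ ((Proj.toSpecZero ℬ).base y).asIdeal := hmem
    obtain ⟨v, hv⟩ := h.unit
    have hvmem : ((↑v⁻¹ : B)) ∈ ℬ 0 :=
      inv_mem_zero (ψ.map_mem h.mem)
        ((congrArg (· * (↑v⁻¹ : B)) hv.symm).trans (Units.mul_inv v))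
    have h1 : ψ.gradedZeroRingHom ⟨c, h.mem⟩ * (⟨_, hvmem⟩ : ℬ 0) = 1 := by
      apply Subtype.ext
      exact (congrArg (· * (↑v⁻¹ : B)) hv.symm).trans (Units.mul_inv v)
    have h2 := Ideal.mul_mem_right (⟨_, hvmem⟩ : ℬ 0) _ hmem'
    rw [h1] at h2
    exact ((Proj.toSpecZero ℬ).base y).isPrime.ne_top ((Ideal.eq_top_iff_one _).mpr h2)
  · intro hx
    -- a chart containing `x`
    obtain ⟨i, s, hi, hs, hsx⟩ := exists_pos_notMem' x
    have hxr : x ∈ (Proj.awayι 𝒜 s hs hi).opensRange := by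
      rw [Proj.opensRange_awayι]
      exact (ProjectiveSpectrum.mem_basicOpen 𝒜 s x).mpr hsx
    obtain ⟨q, rfl⟩ := hxr
    letI := (Away.map ψ s).toAlgebra
    haveI := isLocalization_away_map h s hs
    have hq : q ∈ Set.range (PrimeSpectrum.comap (algebraMap (Away 𝒜 s) (Away ℬ (ψ s)))) := by
      rw [PrimeSpectrum.localization_away_comap_range (Away ℬ (ψ s))
        (fromZeroRingHom 𝒜 (Submonoid.powers s) ⟨c, h.mem⟩)]
      rw [← Scheme.Hom.comp_apply, Proj.awayι_toSpecZero] at hx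
      exact hx
    obtain ⟨q', rfl⟩ := hq
    refine ⟨(Proj.awayι ℬ (ψ s) (ψ.map_mem hs) hi).base q', ?_⟩
    rw [← Scheme.Hom.comp_apply, Proj.awayι_comp_map ψ hψ hi s hs, Scheme.Hom.comp_apply]
    rfl

end Groth.Agent.Lib.helper28.ProjLocAway
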