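import Groth.Agent.Lib.Helper28.GTwistQCoh
import Groth.Agent.Lib.Helper28.ProjLocAway
import Groth.Agent.Lib.Helper2.ModSec

set_option autoImplicit false

universe u

/-! The comparison map `GrTwist.comap` of twisting sheaves for the localization of a graded ring
at an element of degree zero is bijective on sections over opens inside the image (helper28). -/

namespace Groth.Agent.Lib.helper28.GTwistLoc

open AlgebraicGeometry CategoryTheory Opposite TopologicalSpace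
open Groth.Agent.Lib.helper2 Groth.Agent.Lib.helper28.ProjLocAway
  Groth.Agent.Lib.helper28.GTwistQCoh
open scoped HomogeneousIdeal

section generic

variable {X : Scheme.{u}} {F G : X.Modules} (φ : F ⟶ G)

/-- A morphism of modules that is injective on sections over the opens inside `N` and locally
surjective there is surjective on sections over `N`. -/
theorem surjective_of_locally (N : X.Opens)
    (hinj : ∀ W : X.Opens, W ≤ N → Function.Injective (φ.app W))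
    (hloc : ∀ (t : Γ(G, N)) (x : X), x ∈ N → ∃ (W : X.Opens) (hW : W ≤ N), x ∈ W ∧
      ∃ s : Γ(F, W), φ.app W s = G.presheaf.map (homOfLE hW).op t) :
    Function.Surjective (φ.app N) := by
  intro t
  choose W hW hxW s hs using fun x : {y : X // y ∈ N} => hloc t x.1 x.2
  have hcov : N ≤ ⨆ x, W x := fun y hy => Opens.mem_iSup.mpr ⟨⟨y, hy⟩, hxW ⟨y, hy⟩⟩
  have hcompat : TopCat.Presheaf.IsCompatible F.presheaf W s := by
    intro x x'
    apply hinj _ (inf_le_left.trans (hW x))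
    erw [← ModSec.map_app_apply φ, ← ModSec.map_app_apply φ, hs, hs]
    rw [← ConcreteCategory.comp_apply, ← ConcreteCategory.comp_apply, ← Functor.map_comp,
      ← Functor.map_comp]
    rfl
  obtain ⟨s₀, hs₀, -⟩ := (ModSec.sheaf F).existsUnique_gluing' W N
    (fun x => homOfLE (hW x)) hcov s hcompat
  refine ⟨s₀, ?_⟩
  refine (ModSec.sheaf G).eq_of_locally_eq' W N (fun x => homOfLE (hW x)) hcov _ _ ?_
  intro x
  have h1 : F.presheaf.map (homOfLE (hW x)).op s₀ = s x := hs₀ x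
  change G.presheaf.map (homOfLE (hW x)).op (φ.app N s₀) = G.presheaf.map (homOfLE (hW x)).op t
  rw [ModSec.map_app_apply φ, h1, hs]

end generic

section ring

variable {A B σ τ : Type u} [CommRing A] [SetLike σ A] [AddSubgroupClass σ A]
  [CommRing B] [SetLike τ B] [AddSubgroupClass τ B]
  {𝒜 : ℕ → σ} {ℬ : ℕ → τ} [GradedRing 𝒜] [GradedRing ℬ]
  {ψ : 𝒜 →+*ᵍ ℬ} {c : A}

theorem IsLocAt.map_pow_notMem (h : IsLocAt ψ c) (y : ProjectiveSpectrum ℬ) (k : ℕ) {u : B}
    (hu : u ∉ y.asHomogeneousIdeal) : u * ψ c ^ k ∉ y.asHomogeneousIdeal := by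
  intro hmem
  have hunit : IsUnit (ψ c ^ k) := h.unit.pow k
  obtain ⟨v, hv⟩ := hunit
  have := Ideal.mul_mem_right (↑v⁻¹ : B) y.asHomogeneousIdeal.toIdeal hmem
  rw [← hv, mul_assoc, Units.mul_inv, mul_one] at this
  exact hu this

/-- The map of localizations induced by a localization at a degree-zero element is injective. -/
theorem locMap_injective (h : IsLocAt ψ c) (hψ : ℬ₊ ≤ (𝒜₊).map ψ) (y : ProjectiveSpectrum ℬ) :
    Function.Injective (GrTwist.locMap ψ hψ y) := by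
  rw [injective_iff_map_eq_zero]
  intro q hq
  induction q using Localization.induction_on with | _ as => ?_
  obtain ⟨a, s⟩ := as
  simp only at hq ⊢
  rw [GrTwist.locMap_mk, mk_eq_zero_iff'] at hq
  obtain ⟨⟨u, hu⟩, hua⟩ := hq
  obtain ⟨w, k, hw⟩ := h.surj u
  have hwy : w ∉ (ProjectiveSpectrum.comap ψ hψ y).asHomogeneousIdeal := by
    intro hmem
    have : ψ w ∈ y.asHomogeneousIdeal := hmem
    rw [← hw] at this
    exact IsLocAt.map_pow_notMem h y k hu this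
  have h0 : ψ (w * a) = ψ 0 := by
    rw [map_mul, ← hw, map_zero]
    simp only at hua
    rw [mul_right_comm, hua, zero_mul]
  obtain ⟨l, hl⟩ := h.inj _ _ h0
  rw [mul_zero] at hl
  have hcy : c ^ l ∉ (ProjectiveSpectrum.comap ψ hψ y).asHomogeneousIdeal := by
    intro hmem
    have h1 : ψ (c ^ l) ∈ y.asHomogeneousIdeal := hmem
    rw [map_pow] at h1
    have h2 := IsLocAt.map_pow_notMem h y l (u := 1)
      (fun h1' => y.isPrime.ne_top ((Ideal.eq_top_iff_one _).mpr h1'))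
    rw [one_mul] at h2
    exact h2 h1
  rw [mk_eq_zero_iff']
  refine ⟨⟨c ^ l * w, ?_⟩, ?_⟩
  · intro hmem
    rcases (ProjectiveSpectrum.comap ψ hψ y).isPrime.mem_or_mem hmem with h1 | h1
    · exact hcy h1
    · exact hwy h1
  · simp only
    rw [mul_assoc]
    exact hl

theorem comap_app_injective (h : IsLocAt ψ c) (hψ : ℬ₊ ≤ (𝒜₊).map ψ) (n : ℤ)
    (N : (Proj 𝒜).Opens) (hN : (N : Set (Proj 𝒜)) ⊆ Set.range (Proj.map ψ hψ).base) :
    Function.Injective ((GrTwist.comap ψ hψ n).app N) := by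
  rw [injective_iff_map_eq_zero]
  intro s hs
  apply sectN_ext
  rintro ⟨x, hx⟩
  obtain ⟨y, rfl⟩ := hN hx
  change _ = (0 : GrTwist.Loc 𝒜 _)
  apply locMap_injective h hψ y
  refine Eq.trans ?_ (map_zero _).symm
  refine (GrTwist.comap_app_val ψ hψ n N (toSectN 𝒜 s) ⟨y, hx⟩).symm.trans ?_
  have h0 : (GrTwist.comap ψ hψ n).app N (toSectN 𝒜 s) = 0 := hs
  rw [h0]
  rfl

theorem comap_app_surjective (h : IsLocAt ψ c) (hψ : ℬ₊ ≤ (𝒜₊).map ψ) (n : ℤ)
    (N : (Proj 𝒜).Opens) (hN : (N : Set (Proj 𝒜)) ⊆ Set.range (Proj.map ψ hψ).base) :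
    Function.Surjective ((GrTwist.comap ψ hψ n).app N) := by
  have := isOpenImmersion_map h hψ
  refine surjective_of_locally _ N
    (fun W hW => comap_app_injective h hψ n W (fun x hx => hN (hW hx))) ?_
  intro t x hx
  obtain ⟨y, rfl⟩ := hN hx
  obtain ⟨V', hyV', iV', i, j, b, g, hg, hij, hfrac⟩ :=
    (toSectN ℬ (U := Proj.map ψ hψ ⁻¹ᵁ N) t).2 ⟨y, hx⟩
  have hinjm : Function.Injective (Proj.map ψ hψ).base :=
    (Proj.map ψ hψ).isOpenEmbedding.injective
  have hW : (Proj.map ψ hψ) ''ᵁ V' ≤ N := by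
    rintro _ ⟨z, hz, rfl⟩
    exact iV'.le hz
  have hpre : ∀ z : Proj ℬ, (Proj.map ψ hψ).base z ∈ (Proj.map ψ hψ) ''ᵁ V' → z ∈ V' := by
    rintro z ⟨z', hz', hzz'⟩
    rw [← hinjm hzz']
    exact hz'
  refine ⟨(Proj.map ψ hψ) ''ᵁ V', hW, ⟨y, hyV', rfl⟩, ?_⟩
  rcases hij with hij | hb0
  · obtain ⟨a, k, ha, hak⟩ := h.surj_homogeneous b.2
    obtain ⟨f, l, hf, hfl⟩ := h.surj_homogeneous g.2
    have hcl : ∀ m : ℕ, c ^ m ∈ 𝒜 0 := fun m => by
      simpa using SetLike.pow_mem_graded m h.mem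
    have ha' : a * c ^ l ∈ 𝒜 i := by
      simpa only [add_zero] using SetLike.mul_mem_graded (A := 𝒜) ha (hcl l)
    have hf' : f * c ^ k ∈ 𝒜 j := by
      simpa only [add_zero] using SetLike.mul_mem_graded (A := 𝒜) hf (hcl k)
    have hψf : ψ (f * c ^ k) = (g : B) * ψ c ^ (l + k) := by
      rw [map_mul, map_pow, ← hfl, pow_add, mul_assoc]
    have hnin : ∀ x' : ((Proj.map ψ hψ) ''ᵁ V' : (Proj 𝒜).Opens),
        f * c ^ k ∉ x'.1.asHomogeneousIdeal := by
      rintro ⟨_, z, hz, rfl⟩ hmem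
      have h1 : ψ (f * c ^ k) ∈ z.asHomogeneousIdeal := hmem
      rw [hψf] at h1
      exact IsLocAt.map_pow_notMem h z (l + k) (hg ⟨z, hz⟩) h1
    refine ⟨fracSectN 𝒜 n _ ⟨a * c ^ l, ha'⟩ ⟨f * c ^ k, hf'⟩ hnin hij, ?_⟩
    refine sectN_ext ℬ (U := Proj.map ψ hψ ⁻¹ᵁ ((Proj.map ψ hψ) ''ᵁ V')) _ _ ?_
    rintro ⟨z, hz⟩
    have hzV' : z ∈ V' := hpre z hz
    refine (GrTwist.comap_app_val ψ hψ n _ (fracSectN 𝒜 n _ ⟨a * c ^ l, ha'⟩ ⟨f * c ^ k, hf'⟩
      hnin hij) ⟨z, hz⟩).trans ?_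
    rw [fracSectN_val, GrTwist.locMap_mk]
    refine Eq.trans ?_ (hfrac ⟨z, hzV'⟩).symm
    rw [Localization.mk_eq_mk_iff, Localization.r_iff_exists]
    refine ⟨1, ?_⟩
    simp only [OneMemClass.coe_one, one_mul, map_mul, map_pow]
    rw [← hak, ← hfl]
    ring
  · refine ⟨0, ?_⟩
    rw [map_zero]
    refine sectN_ext ℬ (U := Proj.map ψ hψ ⁻¹ᵁ ((Proj.map ψ hψ) ''ᵁ V')) _ _ ?_
    rintro ⟨z, hz⟩
    have hzV' : z ∈ V' := hpre z hz
    change (0 : GrTwist.Loc ℬ z) = _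
    refine ((hfrac ⟨z, hzV'⟩).trans ?_).symm
    rw [hb0, Localization.mk_zero]

theorem comap_app_bijective (h : IsLocAt ψ c) (hψ : ℬ₊ ≤ (𝒜₊).map ψ) (n : ℤ)
    (N : (Proj 𝒜).Opens) (hN : (N : Set (Proj 𝒜)) ⊆ Set.range (Proj.map ψ hψ).base) :
    Function.Bijective ((GrTwist.comap ψ hψ n).app N) :=
  ⟨comap_app_injective h hψ n N hN, comap_app_surjective h hψ n N hN⟩

end ring

end Groth.Agent.Lib.helper28.GTwistLoc
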