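import Groth.Agent.Lib.Helper28.GMTildeQCoh
import Groth.Agent.Lib.Helper28.GTwistLoc
import Groth.Prelude.Def_RelProj3

set_option autoImplicit false

universe u

/-! The comparison map `GrMod.comap` of the modules `M(n)~` for the localization of a graded ring
and a graded module at an element of degree zero is bijective on sections over opens inside the
image (helper28). -/

namespace Groth.Agent.Lib.helper28.GMTildeLoc

open AlgebraicGeometry CategoryTheory Opposite TopologicalSpace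
open Groth.Agent.Lib.helper2 Groth.Agent.Lib.helper28.ProjLocAway
  Groth.Agent.Lib.helper28.GMTildeQCoh Groth.Agent.Lib.helper28.GTwistLoc
open scoped HomogeneousIdeal

variable {A σ : Type u} [CommRing A] [SetLike σ A] [AddSubgroupClass σ A] {𝒜 : ℕ → σ}
  [GradedRing 𝒜]
variable {M τ : Type u} [AddCommGroup M] [Module A M] [SetLike τ M] [AddSubgroupClass τ M]
  {ℳ : ℕ → τ} [DirectSum.Decomposition ℳ] [SetLike.GradedSMul 𝒜 ℳ]
variable {B σ' : Type u} [CommRing B] [SetLike σ' B] [AddSubgroupClass σ' B] {ℬ : ℕ → σ'}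
  [GradedRing ℬ]
variable {N τ' : Type u} [AddCommGroup N] [Module B N] [SetLike τ' N] [AddSubgroupClass τ' N]
  {𝒩 : ℕ → τ'} [DirectSum.Decomposition 𝒩] [SetLike.GradedSMul ℬ 𝒩]
variable {ψ : 𝒜 →+*ᵍ ℬ} {c : A} (v : M →ₛₗ[ψ.toRingHom] N)
  (hv : ∀ (i : ℕ) (m : M), m ∈ ℳ i → v m ∈ 𝒩 i)

/-- The map of localized modules induced by a localization at a degree-zero element is
injective. -/
theorem locModMap_injective (h : IsLocAt ψ c) (hψ : ℬ₊ ≤ (𝒜₊).map ψ)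
    (hinj : ∀ m : M, v m = 0 → ∃ k : ℕ, c ^ k • m = 0) (y : ProjectiveSpectrum ℬ) :
    Function.Injective (GrMod.locModMap ψ hψ v y) := by
  rw [injective_iff_map_eq_zero]
  intro q hq
  induction q using LocalizedModule.induction_on with | h m s => ?_
  rw [GrMod.locModMap_mk, mk_eq_zero_iff] at hq
  obtain ⟨⟨u, hu⟩, hua⟩ := hq
  obtain ⟨w, k, hw⟩ := h.surj u
  have hwy : w ∉ (ProjectiveSpectrum.comap ψ hψ y).asHomogeneousIdeal := by
    intro hmem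
    have : ψ w ∈ y.asHomogeneousIdeal := hmem
    rw [← hw] at this
    exact IsLocAt.map_pow_notMem h y k hu this
  have h0 : v (w • m) = 0 := by
    rw [LinearMap.map_smulₛₗ]
    change ψ w • v m = 0
    rw [← hw, mul_comm, mul_smul]
    have : u • v m = 0 := hua
    rw [this, smul_zero]
  obtain ⟨l, hl⟩ := hinj _ h0
  have hcy : c ^ l ∉ (ProjectiveSpectrum.comap ψ hψ y).asHomogeneousIdeal := by
    intro hmem
    have h1 : ψ (c ^ l) ∈ y.asHomogeneousIdeal := hmem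
    rw [map_pow] at h1
    have h2 := IsLocAt.map_pow_notMem h y l (u := 1)
      (fun h1' => y.isPrime.ne_top ((Ideal.eq_top_iff_one _).mpr h1'))
    rw [one_mul] at h2
    exact h2 h1
  rw [mk_eq_zero_iff]
  refine ⟨⟨c ^ l * w, ?_⟩, ?_⟩
  · intro hmem
    rcases (ProjectiveSpectrum.comap ψ hψ y).isPrime.mem_or_mem hmem with h1 | h1
    · exact hcy h1
    · exact hwy h1
  · change (c ^ l * w) • m = 0
    rw [mul_smul]
    exact hl

theorem comap_app_injective (h : IsLocAt ψ c) (hψ : ℬ₊ ≤ (𝒜₊).map ψ)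
    (hinj : ∀ m : M, v m = 0 → ∃ k : ℕ, c ^ k • m = 0) (n : ℤ)
    (W : (Proj 𝒜).Opens) (hW : (W : Set (Proj 𝒜)) ⊆ Set.range (Proj.map ψ hψ).base) :
    Function.Injective ((GrMod.comap (ℳ := ℳ) (𝒩 := 𝒩) ψ hψ v hv n).app W) := by
  rw [injective_iff_map_eq_zero]
  intro s hs
  apply sect_ext
  rintro ⟨x, hx⟩
  obtain ⟨y, rfl⟩ := hW hx
  change _ = (0 : GrMod.LocMod 𝒜 (M := M) _)
  apply locModMap_injective v h hψ hinj y
  refine Eq.trans ?_ (map_zero _).symm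
  refine (GrMod.comap_app_val (ℳ := ℳ) (𝒩 := 𝒩) ψ hψ v hv n W s ⟨y, hx⟩).symm.trans ?_
  have h0 : (GrMod.comap (ℳ := ℳ) (𝒩 := 𝒩) ψ hψ v hv n).app W s = 0 := hs
  rw [h0]
  rfl

theorem comap_app_surjective (h : IsLocAt ψ c) (hψ : ℬ₊ ≤ (𝒜₊).map ψ)
    (hinj : ∀ m : M, v m = 0 → ∃ k : ℕ, c ^ k • m = 0)
    (hsurj : ∀ (i : ℕ) (b : N), b ∈ 𝒩 i → ∃ (m : M) (k : ℕ), m ∈ ℳ i ∧ ψ c ^ k • b = v m) (n : ℤ)
    (W : (Proj 𝒜).Opens) (hW : (W : Set (Proj 𝒜)) ⊆ Set.range (Proj.map ψ hψ).base) :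
    Function.Surjective ((GrMod.comap (ℳ := ℳ) (𝒩 := 𝒩) ψ hψ v hv n).app W) := by
  have := isOpenImmersion_map h hψ
  refine surjective_of_locally _ W
    (fun W' hW' => comap_app_injective v hv h hψ hinj n W' (fun x hx => hW (hW' hx))) ?_
  intro t x hx
  obtain ⟨y, rfl⟩ := hW hx
  obtain ⟨V', hyV', iV', i, j, b, g, hg, hij, hfrac⟩ :=
    (toSect ℬ 𝒩 (U := Proj.map ψ hψ ⁻¹ᵁ W) t).2 ⟨y, hx⟩
  have hinjm : Function.Injective (Proj.map ψ hψ).base :=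
    (Proj.map ψ hψ).isOpenEmbedding.injective
  have hW' : (Proj.map ψ hψ) ''ᵁ V' ≤ W := by
    rintro _ ⟨z, hz, rfl⟩
    exact iV'.le hz
  have hpre : ∀ z : Proj ℬ, (Proj.map ψ hψ).base z ∈ (Proj.map ψ hψ) ''ᵁ V' → z ∈ V' := by
    rintro z ⟨z', hz', hzz'⟩
    rw [← hinjm hzz']
    exact hz'
  refine ⟨(Proj.map ψ hψ) ''ᵁ V', hW', ⟨y, hyV', rfl⟩, ?_⟩
  rcases hij with hij | hb0
  · obtain ⟨m, k, hm, hmk⟩ := hsurj i b.1 b.2
    obtain ⟨f, l, hf, hfl⟩ := h.surj_homogeneous g.2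
    have hcl : ∀ e : ℕ, c ^ e ∈ 𝒜 0 := fun e => by
      simpa using SetLike.pow_mem_graded e h.mem
    have hm' : c ^ l • m ∈ ℳ i := by
      have := SetLike.GradedSMul.smul_mem (A := 𝒜) (B := ℳ) (hcl l) hm
      rw [vadd_eq_add, zero_add] at this
      exact this
    have hf' : f * c ^ k ∈ 𝒜 j := by
      simpa only [add_zero] using SetLike.mul_mem_graded (A := 𝒜) hf (hcl k)
    have hψf : ψ (f * c ^ k) = (g : B) * ψ c ^ (l + k) := by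
      rw [map_mul, map_pow, ← hfl, pow_add, mul_assoc]
    have hnin : ∀ x' : ((Proj.map ψ hψ) ''ᵁ V' : (Proj 𝒜).Opens),
        f * c ^ k ∉ x'.1.asHomogeneousIdeal := by
      rintro ⟨_, z, hz, rfl⟩ hmem
      have h1 : ψ (f * c ^ k) ∈ z.asHomogeneousIdeal := hmem
      rw [hψf] at h1
      exact IsLocAt.map_pow_notMem h z (l + k) (hg ⟨z, hz⟩) h1
    refine ⟨fracSect 𝒜 ℳ n _ ⟨c ^ l • m, hm'⟩ ⟨f * c ^ k, hf'⟩ hnin hij, ?_⟩
    refine sect_ext ℬ 𝒩 (U := Proj.map ψ hψ ⁻¹ᵁ ((Proj.map ψ hψ) ''ᵁ V')) _ _ ?_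
    rintro ⟨z, hz⟩
    have hzV' : z ∈ V' := hpre z hz
    refine (GrMod.comap_app_val (ℳ := ℳ) (𝒩 := 𝒩) ψ hψ v hv n _
      (fracSect 𝒜 ℳ n _ ⟨c ^ l • m, hm'⟩ ⟨f * c ^ k, hf'⟩ hnin hij) ⟨z, hz⟩).trans ?_
    change GrMod.locModMap ψ hψ v z (LocalizedModule.mk (c ^ l • m) ⟨f * c ^ k, _⟩) = _
    rw [GrMod.locModMap_mk]
    refine Eq.trans ?_ (hfrac ⟨z, hzV'⟩).symm
    rw [LocalizedModule.mk_eq]
    refine ⟨1, ?_⟩
    rw [one_smul, one_smul, LinearMap.map_smulₛₗ, ← hmk]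
    change (g : B) • (ψ (c ^ l) • (ψ c ^ k • (b : N))) = ψ (f * c ^ k) • (b : N)
    rw [hψf, map_pow, smul_smul, smul_smul, pow_add]
    congr 1
    ring
  · refine ⟨0, ?_⟩
    rw [map_zero]
    refine sect_ext ℬ 𝒩 (U := Proj.map ψ hψ ⁻¹ᵁ ((Proj.map ψ hψ) ''ᵁ V')) _ _ ?_
    rintro ⟨z, hz⟩
    have hzV' : z ∈ V' := hpre z hz
    change (0 : GrMod.LocMod ℬ (M := N) z) = _
    refine ((hfrac ⟨z, hzV'⟩).trans ?_).symm
    rw [hb0, LocalizedModule.zero_mk]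

theorem comap_app_bijective (h : IsLocAt ψ c) (hψ : ℬ₊ ≤ (𝒜₊).map ψ)
    (hinj : ∀ m : M, v m = 0 → ∃ k : ℕ, c ^ k • m = 0)
    (hsurj : ∀ (i : ℕ) (b : N), b ∈ 𝒩 i → ∃ (m : M) (k : ℕ), m ∈ ℳ i ∧ ψ c ^ k • b = v m) (n : ℤ)
    (W : (Proj 𝒜).Opens) (hW : (W : Set (Proj 𝒜)) ⊆ Set.range (Proj.map ψ hψ).base) :
    Function.Bijective ((GrMod.comap (ℳ := ℳ) (𝒩 := 𝒩) ψ hψ v hv n).app W) :=
  ⟨comap_app_injective v hv h hψ hinj n W hW, comap_app_surjective v hv h hψ hinj hsurj n W hW⟩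

end Groth.Agent.Lib.helper28.GMTildeLoc
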