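import Mathlib
import Groth.Agent.Lib.Helper28.FinProjInv

/-!
# The rank polynomial of a finite projective algebra (helper28)

`DualBasis.rk D = det (1 + (X • E - E))`, `E = D.mat 1` : on the locus where the rank is `r` this is
`X ^ r`; its coefficients are orthogonal idempotents with sum `1`.
-/

namespace Groth.Agent.Lib.helper28.FinProjCharpoly

open Polynomial Matrix

namespace DualBasis

variable {R S : Type*} [CommRing R] [CommRing S] {f : R →+* S} {n n' : ℕ}

lemma mat_factor (D : DualBasis f n) (D' : DualBasis f n') (x : S) :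
    ∃ (A : Matrix (Fin n) (Fin n') R) (B : Matrix (Fin n') (Fin n) R),
      A * B = D.mat x ∧ B * A = D'.mat x := by
  refine ⟨Matrix.of fun j k' => D.c j (x * D'.b k'), Matrix.of fun j' k => D'.c j' (D.b k), ?_, ?_⟩
  · ext j k
    rw [Matrix.mul_apply]
    simp only [mat, Matrix.of_apply]
    have e : x * D.b k = ∑ k', f (D'.c k' (D.b k)) * (x * D'.b k') := by
      conv_lhs => rw [← D'.sum (D.b k), Finset.mul_sum]
      exact Finset.sum_congr rfl fun k' _ => by ring
    conv_rhs => rw [e, D.c_sum]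
    exact Finset.sum_congr rfl fun k' _ => mul_comm _ _
  · ext j' k'
    rw [Matrix.mul_apply]
    simp only [mat, Matrix.of_apply]
    have e : x * D'.b k' = ∑ k, f (D.c k (x * D'.b k')) * D.b k := (D.sum _).symm
    conv_rhs => rw [e, D'.c_sum]
    exact Finset.sum_congr rfl fun k _ => mul_comm _ _

/-- the rank polynomial. -/
noncomputable def rk (D : DualBasis f n) : R[X] :=
  (1 + ((X : R[X]) • (D.mat 1).map C - (D.mat 1).map C)).det

lemma rk_indep (D : DualBasis f n) (D' : DualBasis f n') : D.rk = D'.rk := by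
  obtain ⟨A, B, h1, h2⟩ := D.mat_factor D' 1
  unfold rk
  rw [← h1, ← h2]
  have e1 : (X : R[X]) • (A * B).map C - (A * B).map C = ((X - 1 : R[X]) • A.map C) * B.map C := by
    rw [Matrix.map_mul, Matrix.smul_mul, sub_smul, one_smul]
  have e2 : (X : R[X]) • (B * A).map C - (B * A).map C = B.map C * ((X - 1 : R[X]) • A.map C) := by
    rw [Matrix.map_mul, Matrix.mul_smul, sub_smul, one_smul]
  rw [e1, e2, Matrix.det_one_add_mul_comm]

lemma eval₂_rk {Λ : Type*} [CommRing Λ] (D : DualBasis f n) (φ : R →+* Λ) (y : Λ) :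
    D.rk.eval₂ φ y = (1 + (y • (D.mat 1).map φ - (D.mat 1).map φ)).det := by
  unfold rk
  have := RingHom.map_det (Polynomial.eval₂RingHom φ y)
    (1 + ((X : R[X]) • (D.mat 1).map C - (D.mat 1).map C))
  rw [Polynomial.coe_eval₂RingHom] at this
  rw [this]
  congr 1
  ext j k
  simp [Matrix.one_apply, apply_ite]
  exact mul_comm _ _

lemma rk_map {T P : Type*} [CommRing T] [CommRing P] {f' : T →+* P} (g : R →+* T)
    (D : DualBasis f n) (D' : DualBasis f' n) (h : D'.mat 1 = (D.mat 1).map g) :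
    D.rk.map g = D'.rk := by
  have h1 : D.rk.map g = D.rk.eval₂ (C.comp g) X := rfl
  rw [h1, eval₂_rk]
  unfold rk
  rw [h]
  congr 1

lemma eval₂_rk_mul {Λ : Type*} [CommRing Λ] (D : DualBasis f n) (φ : R →+* Λ) (y z : Λ) :
    D.rk.eval₂ φ (y * z) = D.rk.eval₂ φ y * D.rk.eval₂ φ z := by
  rw [eval₂_rk, eval₂_rk, eval₂_rk, ← Matrix.det_mul]
  congr 1
  have hE : (D.mat 1).map φ * (D.mat 1).map φ = (D.mat 1).map φ := by
    rw [← Matrix.map_mul, mat_one_mul]
  simp only [mul_add, add_mul, mul_sub, sub_mul, mul_one, one_mul, Matrix.smul_mul,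
    Matrix.mul_smul, hE, smul_smul]
  rw [mul_comm z y]
  abel

lemma eval₂_rk_one {Λ : Type*} [CommRing Λ] (D : DualBasis f n) (φ : R →+* Λ) :
    D.rk.eval₂ φ 1 = 1 := by
  rw [eval₂_rk]
  simp

lemma eval₂_rk_mul_coeff {Λ : Type*} [CommRing Λ] (D : DualBasis f n) (φ : R →+* Λ) (c : Λ)
    (j : ℕ) : D.rk.eval₂ φ c * φ (D.rk.coeff j) = c ^ j * φ (D.rk.coeff j) := by
  have h := D.eval₂_rk_mul (C.comp φ) (X : Λ[X]) (C c)
  have h1 : D.rk.eval₂ (C.comp φ) (X : Λ[X]) = D.rk.map φ := rfl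
  have h2 : D.rk.eval₂ (C.comp φ) (C c) = C (D.rk.eval₂ φ c) := (Polynomial.hom_eval₂ _ _ _ _).symm
  have h3 : D.rk.eval₂ (C.comp φ) ((X : Λ[X]) * C c) = (D.rk.map φ).comp (C c * X) := by
    rw [Polynomial.comp, Polynomial.eval₂_map, mul_comm]
  rw [h1, h2, h3] at h
  have := congrArg (fun p => p.coeff j) h
  simp only [Polynomial.comp_C_mul_X_coeff, Polynomial.coeff_mul_C, Polynomial.coeff_map] at this
  rw [mul_comm, ← this, mul_comm]

lemma rk_coeff_mul (D : DualBasis f n) (i j : ℕ) :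
    D.rk.coeff i * D.rk.coeff j = if i = j then D.rk.coeff j else 0 := by
  have h := D.eval₂_rk_mul_coeff (C : R →+* R[X]) X j
  rw [Polynomial.eval₂_C_X] at h
  have := congrArg (fun p => p.coeff i) h
  simp only [Polynomial.coeff_mul_C] at this
  rw [this, Polynomial.coeff_X_pow]
  split_ifs <;> simp

lemma sum_rk_coeff (D : DualBasis f n) :
    ∑ i ∈ Finset.range (D.rk.natDegree + 1), D.rk.coeff i = 1 := by
  have h := D.eval₂_rk_one (RingHom.id R)
  rw [Polynomial.eval₂_eq_sum_range] at h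
  simpa using h

lemma rk_coeff_zero (D : DualBasis f n) (e : S →+* R) (he : ∀ r, e (f r) = r) :
    D.rk.coeff 0 = 0 := by
  have h1 : D.rk.coeff 0 = D.nm 0 := by
    rw [Polynomial.coeff_zero_eq_eval_zero, ← Polynomial.eval₂_id, eval₂_rk]
    unfold nm
    congr 1
    ext j k
    simp [mat_apply]
  obtain ⟨y, hy⟩ := D.dvd_nm 0
  rw [zero_mul] at hy
  rw [h1, ← he (D.nm 0), ← hy, map_zero]

end DualBasis

/-- powers of a sum of orthogonal idempotent pieces. -/
lemma idem_mul_pow {Λ : Type*} [CommRing Λ] (e : ℕ → Λ)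
    (he : ∀ i j, e i * e j = if i = j then e j else 0) (m : ℕ) (y : Λ) (r : ℕ) (hr : r < m)
    (k : ℕ) : e r * (∑ j ∈ Finset.range m, e j * y ^ j) ^ k = e r * y ^ (r * k) := by
  induction k with
  | zero => simp
  | succ k ih =>
    rw [pow_succ, ← mul_assoc, ih, mul_assoc, Finset.mul_sum, Finset.mul_sum]
    rw [Finset.sum_eq_single r]
    · rw [← mul_assoc, ← mul_assoc, mul_comm (e r) (y ^ (r * k)), mul_assoc (y ^ (r * k)), he,
        if_pos rfl, mul_comm (y ^ (r * k)), mul_assoc, ← pow_add, Nat.mul_succ]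
    · intro j _ hj
      rw [← mul_assoc, ← mul_assoc, mul_comm (e r) (y ^ (r * k)), mul_assoc (y ^ (r * k)), he,
        if_neg (Ne.symm hj)]
      simp
    · intro h
      exact absurd (Finset.mem_range.mpr hr) h

namespace InvData

universe u

variable {A B : Type u} [CommRing A] [CommRing B] {s t : A →+* B} {n : ℕ} {D : DualBasis s n}

lemma rk_inv (H : InvData s t D) : D.rk.map s = D.rk.map t := by
  obtain ⟨B₂, _, q, u₁, u₂, D₁, D₂, h₁, h₂, h₃⟩ := H
  have e1 := h₁ 1
  have e2 := h₂ 1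
  rw [map_one] at e1 e2
  rw [DualBasis.rk_map s D D₂ e2, DualBasis.rk_map t D D₁ e1]
  exact D₂.rk_indep D₁

end InvData

end Groth.Agent.Lib.helper28.FinProjCharpoly
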