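import Groth.Agent.Lib.Helper28.TwistFree

/-!
# Pointwise multiplication `O(m) × O(n) → O(m + n)` on `Proj`
-/

set_option autoImplicit false
universe u

open CategoryTheory AlgebraicGeometry Opposite TopologicalSpace

namespace Groth.Agent.Lib.helper28.TwistMul

open Groth.Agent.Lib.helper28.GrFrac Groth.Agent.Lib.helper28.TwistSec
  Groth.Agent.Lib.helper28.TwistFree

variable {R A : Type u} [CommRing R] [CommRing A] [Algebra R A] (𝒜 : ℕ → Submodule R A)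
  [GradedAlgebra 𝒜]

/-- Every element of `twistAt n x` is a single fraction `a / s` (with `deg a = deg s + n`, or
`a = 0`). -/
theorem exists_fraction_of_mem (n : ℤ) (x : ProjectiveSpectrum 𝒜) (q : Twist.Loc 𝒜 x)
    (hq : q ∈ Twist.twistAt 𝒜 n x) :
    ∃ (i j : ℕ) (a : 𝒜 i) (s : 𝒜 j) (hs : s.1 ∉ x.asHomogeneousIdeal),
      ((i : ℤ) = j + n ∨ a.1 = 0) ∧ q = Localization.mk a.1 ⟨s.1, hs⟩ := by
  have h1x : (1 : A) ∉ x.asHomogeneousIdeal := fun h =>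
    x.isPrime.ne_top ((Ideal.eq_top_iff_one _).mpr h)
  induction hq using Submodule.span_induction with
  | mem z hz =>
    obtain ⟨i, j, a, s, hs, hij, rfl⟩ := hz
    exact ⟨i, j, a, s, hs, Or.inl hij, rfl⟩
  | zero =>
    exact ⟨0, 0, 0, ⟨1, SetLike.GradedOne.one_mem⟩, h1x, Or.inr rfl, by
      simp [Localization.mk_zero]⟩
  | add y z _ _ hy hz =>
    obtain ⟨i, j, a, s, hs, hij, rfl⟩ := hy
    obtain ⟨i', j', a', s', hs', hij', rfl⟩ := hz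
    have hss' : s.1 * s'.1 ∉ x.asHomogeneousIdeal := fun h =>
      (x.isPrime.mem_or_mem h).elim hs hs'
    have key : (Localization.mk a.1 ⟨s.1, hs⟩ + Localization.mk a'.1 ⟨s'.1, hs'⟩ : Twist.Loc 𝒜 x) =
        Localization.mk (s.1 * a'.1 + s'.1 * a.1) ⟨s.1 * s'.1, hss'⟩ := by
      rw [Localization.add_mk]
      rfl
    rcases hij with hij | ha
    · rcases hij' with hij' | ha'
      · refine ⟨j + i', j + j', ⟨s.1 * a'.1 + s'.1 * a.1, add_mem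
          (SetLike.mul_mem_graded s.2 a'.2) ?_⟩, ⟨s.1 * s'.1, SetLike.mul_mem_graded s.2 s'.2⟩,
          hss', Or.inl (by push_cast; omega), key⟩
        have e : j' + i = j + i' := by omega
        exact e ▸ SetLike.mul_mem_graded s'.2 a.2
      · refine ⟨j' + i, j + j', ⟨s.1 * a'.1 + s'.1 * a.1, ?_⟩,
          ⟨s.1 * s'.1, SetLike.mul_mem_graded s.2 s'.2⟩, hss', Or.inl (by push_cast; omega), key⟩
        rw [ha', mul_zero, zero_add]
        exact SetLike.mul_mem_graded s'.2 a.2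
    · refine ⟨j + i', j + j', ⟨s.1 * a'.1 + s'.1 * a.1, ?_⟩,
        ⟨s.1 * s'.1, SetLike.mul_mem_graded s.2 s'.2⟩, hss', ?_, key⟩
      · rw [ha, mul_zero, add_zero]
        exact SetLike.mul_mem_graded s.2 a'.2
      · rcases hij' with hij' | ha'
        · exact Or.inl (by push_cast; omega)
        · exact Or.inr (show s.1 * a'.1 + s'.1 * a.1 = 0 by rw [ha, ha', mul_zero, mul_zero, add_zero])
  | smul c y _ hy =>
    obtain ⟨i, j, a, s, hs, hij, rfl⟩ := hy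
    obtain ⟨⟨e, r, t, ht⟩, rfl⟩ := HomogeneousLocalization.mk_surjective c
    have hts : t.1 * s.1 ∉ x.asHomogeneousIdeal := fun h =>
      (x.isPrime.mem_or_mem h).elim ht hs
    refine ⟨e + i, e + j, ⟨r.1 * a.1, SetLike.mul_mem_graded r.2 a.2⟩,
      ⟨t.1 * s.1, SetLike.mul_mem_graded t.2 s.2⟩, hts, ?_, ?_⟩
    · rcases hij with hij | ha
      · exact Or.inl (by push_cast; omega)
      · exact Or.inr (show r.1 * a.1 = 0 by rw [ha, mul_zero])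
    · rw [Algebra.smul_def, HomogeneousLocalization.algebraMap_apply,
        HomogeneousLocalization.val_mk, Localization.mk_mul]
      rfl

/-- A fraction of the right degree (or zero) lies in `twistAt`. -/
theorem mk_mem_twistAt (n : ℤ) (x : ProjectiveSpectrum 𝒜) {i j : ℕ} (a : 𝒜 i) (s : 𝒜 j)
    (hs : s.1 ∉ x.asHomogeneousIdeal) (h : (i : ℤ) = j + n ∨ a.1 = 0) :
    (Localization.mk a.1 ⟨s.1, hs⟩ : Twist.Loc 𝒜 x) ∈ Twist.twistAt 𝒜 n x := by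
  rcases h with h | h
  · exact Submodule.subset_span ⟨i, j, a, s, hs, h, rfl⟩
  · rw [h, Localization.mk_zero]
    exact zero_mem _

theorem mul_mem_twistAt (m n : ℤ) (x : ProjectiveSpectrum 𝒜) {q q' : Twist.Loc 𝒜 x}
    (hq : q ∈ Twist.twistAt 𝒜 m x) (hq' : q' ∈ Twist.twistAt 𝒜 n x) :
    q * q' ∈ Twist.twistAt 𝒜 (m + n) x := by
  obtain ⟨i, j, a, s, hs, hij, rfl⟩ := exists_fraction_of_mem 𝒜 m x q hq
  obtain ⟨i', j', a', s', hs', hij', rfl⟩ := exists_fraction_of_mem 𝒜 n x q' hq'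
  have hss' : s.1 * s'.1 ∉ x.asHomogeneousIdeal := fun h =>
    (x.isPrime.mem_or_mem h).elim hs hs'
  rw [Localization.mk_mul]
  refine mk_mem_twistAt 𝒜 (m + n) x ⟨a.1 * a'.1, SetLike.mul_mem_graded a.2 a'.2⟩
    ⟨s.1 * s'.1, SetLike.mul_mem_graded s.2 s'.2⟩ hss' ?_
  rcases hij with hij | ha
  · rcases hij' with hij' | ha'
    · exact Or.inl (by push_cast; omega)
    · exact Or.inr (show a.1 * a'.1 = 0 by rw [ha', mul_zero])
  · exact Or.inr (show a.1 * a'.1 = 0 by rw [ha, zero_mul])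

/-- Pointwise product of a section of `O(m)` and a section of `O(n)`. -/
def mulFun (m n : ℤ) (U : Opens (ProjectiveSpectrum.top 𝒜)) (s : Twist.sectN (𝒜 := 𝒜) m (op U))
    (t : Twist.sectN (𝒜 := 𝒜) n (op U)) : Twist.sectN (𝒜 := 𝒜) (m + n) (op U) :=
  ⟨fun x => ⟨(s.1 x).1 * (t.1 x).1, mul_mem_twistAt 𝒜 m n x.1 (s.1 x).2 (t.1 x).2⟩, fun x => by
    obtain ⟨Va, ma, ia, i, j, a, g, nina, ca, wa⟩ := s.2 x
    obtain ⟨Vb, mb, ib, i', j', a', g', ninb, cb, wb⟩ := t.2 x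
    have nin : ∀ y : (Va ⊓ Vb : Opens _), g.1 * g'.1 ∉ y.1.asHomogeneousIdeal := fun y h =>
      ((y.1.isPrime.mem_or_mem h).elim (nina ⟨y.1, y.2.1⟩)) (ninb ⟨y.1, y.2.2⟩)
    refine ⟨Va ⊓ Vb, ⟨ma, mb⟩, Opens.infLELeft _ _ ≫ ia, i + i', j + j',
      ⟨a.1 * a'.1, SetLike.mul_mem_graded a.2 a'.2⟩, ⟨g.1 * g'.1, SetLike.mul_mem_graded g.2 g'.2⟩,
      nin, ?_, fun y => ?_⟩
    · rcases ca with ca | ca
      · rcases cb with cb | cb
        · exact Or.inl (by push_cast; omega)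
        · exact Or.inr (show a.1 * a'.1 = 0 by rw [cb, mul_zero])
      · exact Or.inr (show a.1 * a'.1 = 0 by rw [ca, zero_mul])
    · have e1 := wa ⟨y.1, y.2.1⟩
      have e2 := wb ⟨y.1, y.2.2⟩
      change ((s.1 ⟨y.1, _⟩).1 * (t.1 ⟨y.1, _⟩).1 : Twist.Loc 𝒜 y.1) = _
      refine (congrArg₂ (· * ·) e1 e2).trans ?_
      rw [Localization.mk_mul]
      rfl⟩

theorem mulFun_val (m n : ℤ) (U : Opens (ProjectiveSpectrum.top 𝒜))
    (s : Twist.sectN (𝒜 := 𝒜) m (op U)) (t : Twist.sectN (𝒜 := 𝒜) n (op U)) (x : U) :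
    (((mulFun 𝒜 m n U s t).1 x : Twist.twistAt 𝒜 (m + n) x.1) : Twist.Loc 𝒜 x.1) =
      ((s.1 x : Twist.twistAt 𝒜 m x.1) : Twist.Loc 𝒜 x.1) *
        ((t.1 x : Twist.twistAt 𝒜 n x.1) : Twist.Loc 𝒜 x.1) := rfl

theorem mulFun_add_left (m n : ℤ) (U : Opens (ProjectiveSpectrum.top 𝒜))
    (s s' : Twist.sectN (𝒜 := 𝒜) m (op U)) (t : Twist.sectN (𝒜 := 𝒜) n (op U)) :
    mulFun 𝒜 m n U (s + s') t = mulFun 𝒜 m n U s t + mulFun 𝒜 m n U s' t :=
  sectN_ext' 𝒜 _ _ fun x => by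
    change ((s.1 x).1 + (s'.1 x).1) * (t.1 x).1 = (s.1 x).1 * (t.1 x).1 + (s'.1 x).1 * (t.1 x).1
    exact add_mul _ _ _

theorem mulFun_add_right (m n : ℤ) (U : Opens (ProjectiveSpectrum.top 𝒜))
    (s : Twist.sectN (𝒜 := 𝒜) m (op U)) (t t' : Twist.sectN (𝒜 := 𝒜) n (op U)) :
    mulFun 𝒜 m n U s (t + t') = mulFun 𝒜 m n U s t + mulFun 𝒜 m n U s t' :=
  sectN_ext' 𝒜 _ _ fun x => by
    change (s.1 x).1 * ((t.1 x).1 + (t'.1 x).1) = (s.1 x).1 * (t.1 x).1 + (s.1 x).1 * (t'.1 x).1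
    exact mul_add _ _ _

theorem mulFun_smul_left (m n : ℤ) (U : Opens (ProjectiveSpectrum.top 𝒜))
    (r : Twist.O (𝒜 := 𝒜) (op U))
    (s : Twist.sectN (𝒜 := 𝒜) m (op U)) (t : Twist.sectN (𝒜 := 𝒜) n (op U)) :
    mulFun 𝒜 m n U (r • s) t = r • mulFun 𝒜 m n U s t :=
  sectN_ext' 𝒜 _ _ fun x => by
    rw [mulFun_val, smul_val, smul_val, mulFun_val, mul_assoc]

theorem mulFun_smul_right (m n : ℤ) (U : Opens (ProjectiveSpectrum.top 𝒜))
    (r : Twist.O (𝒜 := 𝒜) (op U))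
    (s : Twist.sectN (𝒜 := 𝒜) m (op U)) (t : Twist.sectN (𝒜 := 𝒜) n (op U)) :
    mulFun 𝒜 m n U s (r • t) = r • mulFun 𝒜 m n U s t :=
  sectN_ext' 𝒜 _ _ fun x => by
    rw [mulFun_val, smul_val, smul_val, mulFun_val, mul_left_comm]

end Groth.Agent.Lib.helper28.TwistMul
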