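import Mathlib
import Groth.Prelude.Def_RelSpec

set_option autoImplicit false

universe u

/-! A quasi-coherent algebra from a "quasi-coherent algebra on the affine opens" (helper28):
given a functor `F` on the small affine Zariski site of `S` with a structure map
`α : O_S ⟶ F` which is coequifibered (`F(D(f)) = F(U)[1/f]`), the scheme glued from the
`Spec F(U)` is affine over `S`, and its direct-image algebra `alg H` is a quasi-coherent algebra
whose sections over every affine open `U` are identified with `F(U)` (`gammaAff`, natural in `U`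
and compatible with the structure maps). -/

namespace Groth.Agent.Lib.helper28.AffAlgGlue

open CategoryTheory CategoryTheory.Limits AlgebraicGeometry TopologicalSpace Opposite

variable {S : Scheme.{u}} {F : S.AffineZariskiSiteᵒᵖ ⥤ CommRingCat.{u}}
  {α : (Scheme.AffineZariskiSite.toOpensFunctor S).op ⋙ S.presheaf ⟶ F} (H : α.Coequifibered)

/-- The relative gluing datum. -/
noncomputable def glueData : (Scheme.AffineZariskiSite.directedCover S).RelativeGluingData :=
  Scheme.AffineZariskiSite.relativeGluingData H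

instance : ((glueData H).functor ⋙ Scheme.forget).IsLocallyDirected :=
  Scheme.Cover.RelativeGluingData.instIsLocallyDirectedI₀CompFunctorForgetOfIsThin ..

/-- The glued scheme. -/
noncomputable def spec : Scheme.{u} := (glueData H).glued

/-- Its structure morphism. -/
noncomputable def π : spec H ⟶ S := (glueData H).toBase

/-- The charts. -/
noncomputable def ι (U : S.AffineZariskiSite) : Spec (F.obj (op U)) ⟶ spec H :=
  (glueData H).cover.f U

instance (U : S.AffineZariskiSite) : IsOpenImmersion (ι H U) := (glueData H).cover.map_prop _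

/-- The structure map over an affine open, with its source written as sections of `O_S`. -/
abbrev str (U : S.AffineZariskiSite) : Γ(S, U.1) ⟶ F.obj (op U) := α.app (op U)

theorem ι_π (U : S.AffineZariskiSite) :
    ι H U ≫ π H = Spec.map (str (α := α) U) ≫ U.2.fromSpec :=
  colimit.ι_desc _ _

theorem π_preimage (U : S.AffineZariskiSite) : π H ⁻¹ᵁ U.1 = (ι H U).opensRange := by
  simpa using! (glueData H).toBase_preimage_eq_opensRange_ι U

theorem ι_res {U V : S.AffineZariskiSite} (i : V ⟶ U) :
    Spec.map (F.map i.op) ≫ ι H U = ι H V :=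
  colimit.w (glueData H).functor i

theorem top_le_preimage (U : S.AffineZariskiSite) :
    (⊤ : (Spec (F.obj (op U))).Opens) ≤ ι H U ⁻¹ᵁ (π H ⁻¹ᵁ U.1) := by
  rw [← Scheme.Hom.comp_preimage, ι_π, Scheme.Hom.comp_preimage, U.2.fromSpec_preimage_self]
  exact le_top

instance isAffineHom_π : IsAffineHom (π H) where
  isAffine_preimage U hU := by
    have := π_preimage H ⟨U, hU⟩
    change IsAffineOpen (π H ⁻¹ᵁ U)
    rw [this]
    exact isAffineOpen_opensRange (ι H ⟨U, hU⟩)

/-- Functions over the preimage of an affine open `U` are `F(U)`. -/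
noncomputable def gammaAff (U : S.AffineZariskiSite) :
    Γ(spec H, π H ⁻¹ᵁ U.1) ⟶ F.obj (op U) :=
  (ι H U).appLE (π H ⁻¹ᵁ U.1) ⊤ (top_le_preimage H U) ≫ (Scheme.ΓSpecIso (F.obj (op U))).hom

theorem gammaAff_eq (U : S.AffineZariskiSite) {W : (spec H).Opens} (hW : W = π H ⁻¹ᵁ U.1)
    (e : ⊤ ≤ ι H U ⁻¹ᵁ W) :
    (spec H).presheaf.map (eqToHom hW).op ≫ (ι H U).appLE W ⊤ e ≫
      (Scheme.ΓSpecIso (F.obj (op U))).hom = gammaAff H U := by
  subst hW; simp [gammaAff]

theorem isIso_gammaAff (U : S.AffineZariskiSite) : IsIso (gammaAff H U) := by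
  have hW : (ι H U) ''ᵁ ⊤ = π H ⁻¹ᵁ U.1 := by
    rw [π_preimage H U, Scheme.Hom.image_top_eq_opensRange]
  have e : ⊤ ≤ ι H U ⁻¹ᵁ ((ι H U) ''ᵁ ⊤) := by
    rw [Scheme.Hom.preimage_image_eq]
  rw [← gammaAff_eq H U hW e]
  have : IsIso ((ι H U).appLE ((ι H U) ''ᵁ ⊤) ⊤ e) := by
    have := (Scheme.Hom.appIso_hom' (ι H U) ⊤)
    rw [← this]
    infer_instance
  infer_instance

set_option backward.isDefEq.respectTransparency false in
/-- `gammaAff` is natural in the affine open. -/
theorem gammaAff_naturality {U V : S.AffineZariskiSite} (i : V ⟶ U) :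
    (spec H).presheaf.map
        (homOfLE ((π H).preimage_mono (Scheme.AffineZariskiSite.toOpens_mono i.le))).op ≫
      gammaAff H V = gammaAff H U ≫ F.map i.op := by
  simp only [gammaAff, Category.assoc, ← Scheme.ΓSpecIso_naturality]
  simp only [← Category.assoc]
  congr 1
  simp only [Scheme.Hom.appTop, Scheme.Hom.appLE, Category.assoc]
  have h1 := (Scheme.Hom.comp_app (Spec.map (F.map i.op)) (ι H U) (π H ⁻¹ᵁ U.1)).symm
  rw [Scheme.Hom.naturality_assoc, Scheme.Hom.naturality, reassoc_of% h1,
    Scheme.Hom.congr_app (ι_res H i), Category.assoc, ← Functor.map_comp, ← Functor.map_comp]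
  rfl

set_option backward.isDefEq.respectTransparency false in
/-- `gammaAff` is compatible with the structure maps. -/
theorem π_app_gammaAff (U : S.AffineZariskiSite) :
    (π H).app U.1 ≫ gammaAff H U = str (α := α) U := by
  have h1 := Scheme.Hom.congr_app (ι_π H U) U.1
  have h2 := (Scheme.Hom.comp_app (ι H U) (π H) U.1).symm
  have hk : ∀ k : (op ⊤ : (Spec (F.obj (op U))).Opensᵒᵖ) ⟶ op ⊤,
      (Spec (F.obj (op U))).presheaf.map k = 𝟙 _ := fun k => by
    rw [Subsingleton.elim k (𝟙 _)]; exact CategoryTheory.Functor.map_id _ _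
  simp only [gammaAff, Scheme.Hom.appLE, Category.assoc]
  rw [reassoc_of% h2, h1, Scheme.Hom.comp_app, U.2.fromSpec_app_self]
  simp only [Category.assoc]
  rw [Scheme.Hom.naturality_assoc]
  simp only [← Functor.map_comp_assoc]
  erw [hk, Category.id_comp]
  rw [← cancel_epi (Scheme.ΓSpecIso Γ(S, U.1)).hom, Iso.hom_inv_id_assoc]
  erw [Scheme.ΓSpecIso_naturality]

/-- The quasi-coherent algebra glued from `F`. -/
noncomputable def alg : RelSpec.QCAlg S := RelSpec.QCAlg.directImage (π H)

/-- The sections of `alg H` over an affine open are `F(U)`. -/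
noncomputable def gammaIso (U : S.AffineZariskiSite) : (alg H).presheaf.obj (op U.1) ≅ F.obj (op U) :=
  @asIso _ _ (Γ(spec H, π H ⁻¹ᵁ U.1)) (F.obj (op U)) (gammaAff H U) (isIso_gammaAff H U)

theorem gammaIso_hom (U : S.AffineZariskiSite) : (gammaIso H U).hom = gammaAff H U := rfl

theorem str_gammaIso (U : S.AffineZariskiSite) :
    (alg H).str.app (op U.1) ≫ (gammaIso H U).hom = str (α := α) U :=
  π_app_gammaAff H U

theorem gammaIso_naturality {U V : S.AffineZariskiSite} (i : V ⟶ U) :
    (alg H).presheaf.map (homOfLE (Scheme.AffineZariskiSite.toOpens_mono i.le)).op ≫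
      (gammaIso H V).hom = (gammaIso H U).hom ≫ F.map i.op :=
  gammaAff_naturality H i

end Groth.Agent.Lib.helper28.AffAlgGlue
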