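import Mathlib

set_option autoImplicit false

/-! Transport of a grading along a ring isomorphism, as a grading by additive subgroups
(helper28). -/

namespace Groth.Agent.Lib.helper28.GradedTransport

open scoped DirectSum

variable {A B σ : Type*} [CommRing A] [CommRing B] [SetLike σ A] [AddSubgroupClass σ A]
  (e : A ≃+* B) (𝒜 : ℕ → σ)

/-- The image grading. -/
def mapDeg (n : ℕ) : AddSubgroup B :=
  (AddSubgroup.ofClass (𝒜 n)).map e.toRingHom.toAddMonoidHom

theorem mem_mapDeg {n : ℕ} {b : B} : b ∈ mapDeg e 𝒜 n ↔ ∃ a ∈ 𝒜 n, e a = b := Iff.rfl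

theorem map_mem_mapDeg {n : ℕ} {a : A} (ha : a ∈ 𝒜 n) : e a ∈ mapDeg e 𝒜 n := ⟨a, ha, rfl⟩

/-- The map on pieces. -/
def pieceMap (n : ℕ) : 𝒜 n →+ mapDeg e 𝒜 n where
  toFun x := ⟨e (x : A), map_mem_mapDeg e 𝒜 x.2⟩
  map_zero' := Subtype.ext (map_zero e)
  map_add' x y := Subtype.ext (map_add e (x : A) (y : A))

variable [GradedRing 𝒜]

instance gradedMonoid : SetLike.GradedMonoid (mapDeg e 𝒜) where
  one_mem := ⟨1, SetLike.GradedOne.one_mem, map_one e⟩
  mul_mem := by
    rintro i j _ _ ⟨a, ha, rfl⟩ ⟨a', ha', rfl⟩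
    exact ⟨a * a', SetLike.mul_mem_graded ha ha', map_mul e a a'⟩

/-- The decomposition map of the image grading. -/
noncomputable def decomp : B →+ ⨁ n, mapDeg e 𝒜 n :=
  (DirectSum.map (pieceMap e 𝒜)).comp
    ((DirectSum.decomposeAddEquiv 𝒜).toAddMonoidHom.comp e.symm.toRingHom.toAddMonoidHom)

theorem coe_map (x : ⨁ n, 𝒜 n) :
    DirectSum.coeAddMonoidHom (mapDeg e 𝒜) (DirectSum.map (pieceMap e 𝒜) x) =
      e (DirectSum.coeAddMonoidHom 𝒜 x) := by
  induction x using DirectSum.induction_on with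
  | zero => simp
  | of i x =>
    rw [DirectSum.map_of, DirectSum.coeAddMonoidHom_of, DirectSum.coeAddMonoidHom_of]
    rfl
  | add x y hx hy => rw [map_add, map_add, map_add, map_add, hx, hy]

noncomputable instance decomposition : DirectSum.Decomposition (mapDeg e 𝒜) :=
  DirectSum.Decomposition.ofAddHom (mapDeg e 𝒜) (decomp e 𝒜)
    (by
      ext b
      change DirectSum.coeAddMonoidHom (mapDeg e 𝒜)
        (DirectSum.map (pieceMap e 𝒜) (DirectSum.decompose 𝒜 (e.symm b))) = b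
      rw [coe_map]
      change e ((DirectSum.decompose 𝒜).symm (DirectSum.decompose 𝒜 (e.symm b))) = b
      rw [Equiv.symm_apply_apply, RingEquiv.apply_symm_apply])
    (by
      ext n ⟨b, a, ha, rfl⟩ : 2
      change DirectSum.map (pieceMap e 𝒜) (DirectSum.decompose 𝒜 (e.symm
        (DirectSum.coeAddMonoidHom (mapDeg e 𝒜) (DirectSum.of (fun n => mapDeg e 𝒜 n) n
          ⟨e a, _⟩)))) = DirectSum.of (fun n => mapDeg e 𝒜 n) n ⟨e a, _⟩
      rw [DirectSum.coeAddMonoidHom_of]
      change DirectSum.map (pieceMap e 𝒜) (DirectSum.decompose 𝒜 (e.symm (e a))) = _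
      rw [RingEquiv.symm_apply_apply, DirectSum.decompose_of_mem 𝒜 ha, DirectSum.map_of]
      rfl)

noncomputable instance gradedRing : GradedRing (mapDeg e 𝒜) :=
  { gradedMonoid e 𝒜, decomposition e 𝒜 with }

end Groth.Agent.Lib.helper28.GradedTransport
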