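import Groth.Agent.Lib.Helper28.PolyGrade

set_option autoImplicit false

universe u

/-! For `B = A₀[z]` graded with `A₀` in degree zero and `z` of degree one, the homomorphism
`A₀ → B_(z)`, `a ↦ a/1`, is bijective, and `Proj B ⟶ Spec A₀` is an isomorphism (helper28). -/

namespace Groth.Agent.Lib.helper28.PolyGrade

open HomogeneousLocalization AlgebraicGeometry CategoryTheory

variable {A₀ B : Type u} [CommRing A₀] [CommRing B] (ℬ : ℕ → AddSubgroup B) [GradedRing ℬ]
  (ι : A₀ →+* B) (z : B)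

theorem bijective_fromZero (hι : ∀ a, ι a ∈ ℬ 0) (hz : z ∈ ℬ 1)
    (hpoly : Function.Bijective (Polynomial.eval₂RingHom ι z))
    (σ : A₀ →+* ℬ 0) (hσ : ∀ a, ((σ a : ℬ 0) : B) = ι a) :
    Function.Bijective ((fromZeroRingHom ℬ (Submonoid.powers z)).comp σ) := by
  have hval : ∀ a, ((fromZeroRingHom ℬ (Submonoid.powers z)).comp σ a).val =
      Localization.mk (ι a) 1 := by
    intro a
    change (fromZeroRingHom ℬ (Submonoid.powers z) (σ a)).val = _
    rw [fromZeroRingHom]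
    change Localization.mk ((σ a : ℬ 0) : B) ⟨1, one_mem _⟩ = _
    rw [hσ]
    rfl
  constructor
  · rw [injective_iff_map_eq_zero]
    intro a ha
    have h1 := hval a
    rw [ha, val_zero] at h1
    have h2 : Localization.mk (ι a) (1 : Submonoid.powers z) = 0 := h1.symm
    rw [Localization.mk_eq_mk', IsLocalization.mk'_eq_zero_iff] at h2
    obtain ⟨⟨_, n, rfl⟩, hn⟩ := h2
    have hn' : ι a * z ^ n = 0 := by
      rw [mul_comm]
      exact hn
    exact eq_zero_of_term_eq_zero ι z hpoly.1 hn'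
  · intro q
    obtain ⟨n, x, hx, rfl⟩ := Away.mk_surjective ℬ hz q
    have hx' : x ∈ ℬ n := by simpa using hx
    obtain ⟨a, rfl⟩ := exists_eq_of_mem_deg ℬ ι z hι hz hpoly.2 hx'
    refine ⟨a, ?_⟩
    apply HomogeneousLocalization.val_injective
    rw [hval, Away.val_mk, Localization.mk_eq_mk_iff, Localization.r_iff_exists]
    refine ⟨1, ?_⟩
    simp only [OneMemClass.coe_one, one_mul]
    ring

/-- `Proj A₀[z] ⟶ Spec A₀` is an isomorphism. -/
theorem isIso_toSpec {R : CommRingCat.{u}} (ιR : R →+* B) (hι : ∀ a, ιR a ∈ ℬ 0) (hz : z ∈ ℬ 1)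
    (hpoly : Function.Bijective (Polynomial.eval₂RingHom ιR z))
    (σ : R ⟶ CommRingCat.of (ℬ 0)) (hσ : ∀ a, ((σ.hom a : ℬ 0) : B) = ιR a) :
    IsIso (Proj.toSpecZero ℬ ≫ Spec.map σ) := by
  have haw := isIso_awayι ℬ ιR z hι hz hpoly.2
  have h1 : Proj.awayι ℬ z hz one_pos ≫ (Proj.toSpecZero ℬ ≫ Spec.map σ) =
      Spec.map (σ ≫ CommRingCat.ofHom (fromZeroRingHom ℬ (Submonoid.powers z))) := by
    rw [← Category.assoc, Proj.awayι_toSpecZero, ← Spec.map_comp]
  have h2 : IsIso (σ ≫ CommRingCat.ofHom (fromZeroRingHom ℬ (Submonoid.powers z))) :=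
    (ConcreteCategory.isIso_iff_bijective _).mpr
      (bijective_fromZero ℬ ιR z hι hz hpoly σ.hom hσ)
  have h3 : IsIso (Proj.awayι ℬ z hz one_pos ≫ (Proj.toSpecZero ℬ ≫ Spec.map σ)) := by
    rw [h1]
    infer_instance
  exact IsIso.of_isIso_comp_left (Proj.awayι ℬ z hz one_pos) _

end Groth.Agent.Lib.helper28.PolyGrade
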