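import Mathlib

set_option autoImplicit false

universe u

/-! A graded ring `B = A₀[z]` with `A₀` in degree `0` and `z` in degree `1`: its pieces are
`A₀ zᵏ`, `D₊(z)` is all of `Proj B`, and `B_(z) ≅ A₀` (helper28). -/

namespace Groth.Agent.Lib.helper28.PolyGrade

open AlgebraicGeometry HomogeneousLocalization
open scoped HomogeneousIdeal

variable {A₀ B : Type u} [CommRing A₀] [CommRing B] (ℬ : ℕ → AddSubgroup B) [GradedRing ℬ]
  (ι : A₀ →+* B) (z : B)

theorem term_mem (hι : ∀ a, ι a ∈ ℬ 0) (hz : z ∈ ℬ 1) (a : A₀) (j : ℕ) : ι a * z ^ j ∈ ℬ j := by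
  have := SetLike.mul_mem_graded (hι a) (SetLike.pow_mem_graded j hz)
  simpa using this

theorem proj_eval₂ (hι : ∀ a, ι a ∈ ℬ 0) (hz : z ∈ ℬ 1) (k : ℕ) (P : Polynomial A₀) :
    GradedRing.proj ℬ k (Polynomial.eval₂ ι z P) = ι (P.coeff k) * z ^ k := by
  classical
  induction P using Polynomial.induction_on' with
  | add p q hp hq =>
    rw [Polynomial.eval₂_add, map_add, hp, hq, Polynomial.coeff_add, map_add, add_mul]
  | monomial j a =>
    rw [Polynomial.eval₂_monomial, Polynomial.coeff_monomial, GradedRing.proj_apply]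
    by_cases hjk : j = k
    · subst hjk
      rw [DirectSum.decompose_of_mem_same _ (term_mem ℬ ι z hι hz a j), if_pos rfl]
    · rw [DirectSum.decompose_of_mem_ne _ (term_mem ℬ ι z hι hz a j) hjk, if_neg hjk, map_zero,
        zero_mul]

theorem exists_eq_of_mem_deg (hι : ∀ a, ι a ∈ ℬ 0) (hz : z ∈ ℬ 1)
    (hpoly : Function.Surjective (Polynomial.eval₂RingHom ι z)) {k : ℕ} {x : B} (hx : x ∈ ℬ k) :
    ∃ a : A₀, x = ι a * z ^ k := by
  classical
  obtain ⟨P, rfl⟩ := hpoly x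
  refine ⟨P.coeff k, ?_⟩
  have h1 := proj_eval₂ ℬ ι z hι hz k P
  rw [GradedRing.proj_apply] at h1
  rw [← h1]
  exact (DirectSum.decompose_of_mem_same _ hx).symm

theorem eq_zero_of_term_eq_zero (hpoly : Function.Injective (Polynomial.eval₂RingHom ι z))
    {a : A₀} {k : ℕ} (h : ι a * z ^ k = 0) : a = 0 := by
  have h1 : Polynomial.eval₂RingHom ι z (Polynomial.monomial k a) = 0 := by
    rw [Polynomial.coe_eval₂RingHom, Polynomial.eval₂_monomial]
    exact h
  have h2 := hpoly (h1.trans (map_zero _).symm)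
  exact (Polynomial.monomial_eq_zero_iff a k).mp h2

theorem notMem_of_poly (hι : ∀ a, ι a ∈ ℬ 0) (hz : z ∈ ℬ 1)
    (hpoly : Function.Surjective (Polynomial.eval₂RingHom ι z)) (y : ProjectiveSpectrum ℬ) :
    z ∉ y.asHomogeneousIdeal := by
  intro hzy
  apply y.not_irrelevant_le
  rw [HomogeneousIdeal.irrelevant_le]
  intro i hi x hx
  obtain ⟨a, rfl⟩ := exists_eq_of_mem_deg ℬ ι z hι hz hpoly hx
  obtain ⟨j, rfl⟩ : ∃ j, i = j + 1 := ⟨i - 1, by omega⟩
  rw [pow_succ, ← mul_assoc]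
  exact Ideal.mul_mem_left _ _ hzy

theorem basicOpen_eq_top (hι : ∀ a, ι a ∈ ℬ 0) (hz : z ∈ ℬ 1)
    (hpoly : Function.Surjective (Polynomial.eval₂RingHom ι z)) :
    Proj.basicOpen ℬ z = ⊤ := by
  ext y
  simp only [TopologicalSpace.Opens.coe_top, Set.mem_univ, iff_true]
  exact (ProjectiveSpectrum.mem_basicOpen ℬ z y).mpr (notMem_of_poly ℬ ι z hι hz hpoly y)

theorem isIso_awayι (hι : ∀ a, ι a ∈ ℬ 0) (hz : z ∈ ℬ 1)
    (hpoly : Function.Surjective (Polynomial.eval₂RingHom ι z)) :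
    CategoryTheory.IsIso (Proj.awayι ℬ z hz one_pos) := by
  rw [isIso_iff_isOpenImmersion_and_surjective]
  refine ⟨inferInstance, ⟨?_⟩⟩
  rw [← Set.range_eq_univ]
  have h1 := Proj.opensRange_awayι ℬ z hz one_pos
  rw [basicOpen_eq_top ℬ ι z hι hz hpoly] at h1
  exact congrArg (fun V : (Proj ℬ).Opens => (V : Set (Proj ℬ))) h1

theorem bijective_of_spec (hι : ∀ a, ι a ∈ ℬ 0) (hz : z ∈ ℬ 1)
    (hpoly : Function.Bijective (Polynomial.eval₂RingHom ι z))
    (θ : Away ℬ z →+* A₀)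
    (hθ : ∀ (q : Away ℬ z) (k : ℕ) (a : A₀),
      q.val = Localization.mk (ι a * z ^ k) ⟨z ^ k, pow_mem (Submonoid.mem_powers z) k⟩ →
        θ q = a) :
    Function.Bijective θ := by
  constructor
  · rw [injective_iff_map_eq_zero]
    intro q hq
    obtain ⟨n, x, hx, rfl⟩ := Away.mk_surjective ℬ hz q
    have hx' : x ∈ ℬ n := by simpa using hx
    obtain ⟨a, rfl⟩ := exists_eq_of_mem_deg ℬ ι z hι hz hpoly.2 hx'
    have h1 := hθ (Away.mk ℬ hz n (ι a * z ^ n) hx) n a (Away.val_mk _ _ _ _ _)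
    rw [hq] at h1
    rw [HomogeneousLocalization.ext_iff_val, Away.val_mk, val_zero, ← h1, map_zero, zero_mul,
      Localization.mk_zero]
  · intro a
    have hmem : ι a * z ^ 0 ∈ ℬ (0 • 1) := by
      simpa using term_mem ℬ ι z hι hz a 0
    exact ⟨Away.mk ℬ hz 0 (ι a * z ^ 0) hmem, hθ _ 0 a (Away.val_mk _ _ _ _ _)⟩

end Groth.Agent.Lib.helper28.PolyGrade
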