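import Groth.Prelude.Def_RelProj2

/-!
# The twisting sheaf of a relative Proj on a chart (helper28)

For `(L, lam)` with `RelProj.IsRelTwist 𝒮 p chart n L lam`, the restriction of `L` along the chart
immersion `emb U : Proj 𝒮(U) ⟶ P` is isomorphic to `GrTwist.twist (𝒮.deg U hU) n`.
-/

set_option autoImplicit false
universe u
open CategoryTheory CategoryTheory.Limits AlgebraicGeometry TopologicalSpace Opposite
open Scheme.Modules

namespace Groth.Agent.Lib.helper28.RelTwistChart

section Generic

variable {X Z : Scheme.{u}} (j : Z ⟶ X) [IsOpenImmersion j] {L : X.Modules} {T : Z.Modules}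
  (lam : L ⟶ (Scheme.Modules.pushforward j).obj T)

/-- The adjunct `L|_Z ⟶ T` of a morphism `L ⟶ j_* T`, for an open immersion `j : Z ⟶ X`. -/
noncomputable def adjHom : L.restrict j ⟶ T :=
  (restrictFunctor j).map lam ≫ (restrictAdjunction j).counit.app T

theorem adjHom_app (V : Z.Opens) :
    (adjHom j lam).app V = lam.app (j ''ᵁ V) ≫
      T.presheaf.map (eqToHom (j.preimage_image_eq V).symm).op := rfl

/-- If `lam : L ⟶ j_* T` is bijective on sections over the opens inside the range of `j`, its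
adjunct `L|_Z ⟶ T` is an isomorphism. -/
theorem isIso_adjHom (h : ∀ V : Z.Opens, Function.Bijective (lam.app (j ''ᵁ V))) :
    IsIso (adjHom j lam) := by
  rw [Scheme.Modules.Hom.isIso_iff_isIso_app]
  intro V
  rw [adjHom_app]
  have h1 : IsIso (lam.app (j ''ᵁ V)) := (ConcreteCategory.isIso_iff_bijective _).mpr (h V)
  have h2 : IsIso (T.presheaf.map (eqToHom (j.preimage_image_eq V).symm).op) := inferInstance
  exact @IsIso.comp_isIso _ _ _ _ _ _ _ h1 h2

/-- The isomorphism `L|_Z ≅ T` attached to `lam : L ⟶ j_* T` bijective on sections over the opens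
inside the range of `j`. -/
noncomputable def adjIso (h : ∀ V : Z.Opens, Function.Bijective (lam.app (j ''ᵁ V))) :
    L.restrict j ≅ T :=
  haveI := isIso_adjHom j lam h
  asIso (adjHom j lam)

end Generic

variable {S : Scheme.{u}} {𝒮 : RelProj.QCGrAlg S} {P : Scheme.{u}} (p : P ⟶ S)
  (chart : ∀ (U : S.Opens) (hU : IsAffineOpen U),
    (((p ⁻¹ᵁ U : P.Opens) : Scheme.{u}) ≅ Proj (𝒮.deg U hU)))

theorem range_emb (U : S.Opens) (hU : IsAffineOpen U) :
    Set.range (RelProj.emb p chart U hU) = ((p ⁻¹ᵁ U : P.Opens) : Set P) := by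
  unfold RelProj.emb
  rw [Scheme.Hom.comp_base, TopCat.coe_comp, Set.range_comp,
    Set.range_eq_univ.mpr (chart U hU).inv.surjective, Set.image_univ, Scheme.Opens.range_ι]

theorem image_emb_le (U : S.Opens) (hU : IsAffineOpen U) (V : (Proj (𝒮.deg U hU)).Opens) :
    (RelProj.emb p chart U hU) ''ᵁ V ≤ p ⁻¹ᵁ U := by
  rintro _ ⟨y, _, rfl⟩
  have : (RelProj.emb p chart U hU) y ∈ Set.range (RelProj.emb p chart U hU) := ⟨y, rfl⟩
  rw [range_emb] at this
  exact this

theorem exists_mem_range_emb (x : P) :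
    ∃ i : {U : S.Opens // IsAffineOpen U}, x ∈ Set.range (RelProj.emb p chart i.1 i.2) := by
  obtain ⟨U, hU, hxU, -⟩ := (Opens.isBasis_iff_nbhd.mp S.isBasis_affineOpens)
    (show p x ∈ (⊤ : S.Opens) from trivial)
  refine ⟨⟨U, hU⟩, ?_⟩
  have := range_emb p chart U hU
  rw [this]
  exact hxU

variable {p chart} {n : ℤ} {L : P.Modules}
  (lam : ∀ (U : S.Opens) (hU : IsAffineOpen U),
    L ⟶ (Scheme.Modules.pushforward (RelProj.emb p chart U hU)).obj
      (GrTwist.twist (𝒮.deg U hU) n))

/-- The adjunct of `lam U hU`: a morphism from the restriction of `L` to the chart to `O(n)`. -/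
noncomputable def chartHom (U : S.Opens) (hU : IsAffineOpen U) :
    L.restrict (RelProj.emb p chart U hU) ⟶ GrTwist.twist (𝒮.deg U hU) n :=
  (restrictFunctor (RelProj.emb p chart U hU)).map (lam U hU) ≫
    (restrictAdjunction (RelProj.emb p chart U hU)).counit.app _

theorem chartHom_app (U : S.Opens) (hU : IsAffineOpen U) (V : (Proj (𝒮.deg U hU)).Opens) :
    (chartHom lam U hU).app V = (lam U hU).app ((RelProj.emb p chart U hU) ''ᵁ V) ≫
      (GrTwist.twist (𝒮.deg U hU) n).presheaf.map
        (eqToHom ((RelProj.emb p chart U hU).preimage_image_eq V).symm).op := rfl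

theorem isIso_chartHom (hL : RelProj.IsRelTwist 𝒮 p chart n L lam) (U : S.Opens)
    (hU : IsAffineOpen U) : IsIso (chartHom lam U hU) := by
  rw [Scheme.Modules.Hom.isIso_iff_isIso_app]
  intro V
  rw [chartHom_app]
  have h1 : IsIso ((lam U hU).app ((RelProj.emb p chart U hU) ''ᵁ V)) :=
    (ConcreteCategory.isIso_iff_bijective _).mpr
      (hL.bijective U hU _ (image_emb_le p chart U hU V))
  have h2 : IsIso ((GrTwist.twist (𝒮.deg U hU) n).presheaf.map
      (eqToHom ((RelProj.emb p chart U hU).preimage_image_eq V).symm).op) := inferInstance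
  exact @IsIso.comp_isIso _ _ _ _ _ _ _ h1 h2

/-- On the chart over `U`, the relative twisting sheaf is `O(n)` of `Proj 𝒮(U)`. -/
noncomputable def chartIso (hL : RelProj.IsRelTwist 𝒮 p chart n L lam) (U : S.Opens)
    (hU : IsAffineOpen U) :
    L.restrict (RelProj.emb p chart U hU) ≅ GrTwist.twist (𝒮.deg U hU) n :=
  haveI := isIso_chartHom lam hL U hU
  asIso (chartHom lam U hU)

end Groth.Agent.Lib.helper28.RelTwistChart
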