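import Groth.Agent.Lib.Helper28.RelSpecMap
import Groth.Agent.Lib.Helper28.PolyGrade
import Groth.Agent.Lib.Helper28.RelTwistChart

set_option autoImplicit false

universe u

/-! `Proj(𝒜[T]) = Spec(𝒜)` over a general base (helper28). -/

namespace Groth.Agent.Lib.helper28.ProjPolySpec

open CategoryTheory CategoryTheory.Limits AlgebraicGeometry TopologicalSpace Opposite
open Groth.Agent.Lib.helper28.RelSpecMap Groth.Agent.Lib.helper28.PolyGrade
open scoped HomogeneousIdeal

variable {S : Scheme.{u}}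

/-- Morphisms out of a relative spectrum are given by compatible families on the charts. -/
theorem existsUnique_desc (A : RelSpec.QCAlg S) {Z : Scheme.{u}}
    (f : ∀ (U : S.Opens) (_ : IsAffineOpen U), Spec (A.presheaf.obj (op U)) ⟶ Z)
    (hf : ∀ (U : S.Opens) (hU : IsAffineOpen U) (r : Γ(S, U)),
      Spec.map (A.presheaf.map (homOfLE (S.basicOpen_le r)).op) ≫ f U hU =
        f (S.basicOpen r) (hU.basicOpen r)) :
    ∃! i : A.spec ⟶ Z, ∀ (U : S.Opens) (hU : IsAffineOpen U), A.ι U hU ≫ i = f U hU := by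
  let c : Cocone A.glueData.functor := {
    pt := Z
    ι := { app := fun U => f U.1 U.2
           naturality := by
             intro V U i
             obtain ⟨r, hr⟩ := i.le
             obtain ⟨V, hV⟩ := V
             obtain ⟨U, hU⟩ := U
             change S.basicOpen r = V at hr
             subst hr
             refine Eq.trans ?_ (Category.comp_id _).symm
             exact hf U hU r } }
  refine ⟨colimit.desc _ c, fun U hU => colimit.ι_desc c ⟨U, hU⟩, ?_⟩
  intro w hw
  apply colimit.hom_ext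
  intro U
  rw [colimit.ι_desc]
  exact hw U.1 U.2

section Main

variable {Y P : Scheme.{u}} (𝒜 : RelSpec.QCAlg Y) (Sh : RelProj.QCGrAlg Y)
  (ι : 𝒜 ⟶ Sh.toQCAlg)
  (p : P ⟶ Y)
  (chart : ∀ (U : Y.Opens) (hU : IsAffineOpen U),
    (((p ⁻¹ᵁ U : P.Opens) : Scheme.{u}) ≅ Proj (Sh.deg U hU)))

/-- Compatibility of the chartwise morphisms `Spec 𝒜(U) ⟶ Proj Sh(U) ⟶ P` with restriction to a
basic open, in a form general enough to allow transport of the degree one element. -/
theorem compat_gen (hP : RelProj.IsRelProj Sh p chart)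
    (hι : ∀ (U : Y.Opens) (hU : IsAffineOpen U) (a : 𝒜.presheaf.obj (op U)),
      (ι.hom.app (op U)).hom a ∈ Sh.deg U hU 0)
    (U : Y.Opens) (hU : IsAffineOpen U) (r : Γ(Y, U))
    (s : Sh.presheaf.obj (op U)) (hs : s ∈ Sh.deg U hU 1)
    (t : Sh.presheaf.obj (op (Y.basicOpen r))) (ht : t ∈ Sh.deg (Y.basicOpen r) (hU.basicOpen r) 1)
    (e : (Sh.presheaf.map (homOfLE (Y.basicOpen_le r)).op).hom s = t)
    (hpoly : Function.Surjective (Polynomial.eval₂RingHom (ι.hom.app (op U)).hom s))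
    (θU : CommRingCat.of (HomogeneousLocalization.Away (Sh.deg U hU) s) ⟶ 𝒜.presheaf.obj (op U))
    (hθU : ∀ (q : HomogeneousLocalization.Away (Sh.deg U hU) s) (k : ℕ)
      (a : 𝒜.presheaf.obj (op U)),
        q.val = Localization.mk ((ι.hom.app (op U)).hom a * s ^ k)
          ⟨s ^ k, pow_mem (Submonoid.mem_powers s) k⟩ → θU.hom q = a)
    (θW : CommRingCat.of (HomogeneousLocalization.Away (Sh.deg (Y.basicOpen r) (hU.basicOpen r)) t) ⟶
      𝒜.presheaf.obj (op (Y.basicOpen r)))
    (hθW : ∀ (q : HomogeneousLocalization.Away (Sh.deg (Y.basicOpen r) (hU.basicOpen r)) t) (k : ℕ)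
      (a : 𝒜.presheaf.obj (op (Y.basicOpen r))),
        q.val = Localization.mk ((ι.hom.app (op (Y.basicOpen r))).hom a * t ^ k)
          ⟨t ^ k, pow_mem (Submonoid.mem_powers t) k⟩ → θW.hom q = a) :
    Spec.map (𝒜.presheaf.map (homOfLE (Y.basicOpen_le r)).op) ≫ Spec.map θU ≫
        Proj.awayι (Sh.deg U hU) s hs one_pos ≫ RelProj.emb p chart U hU =
      Spec.map θW ≫ Proj.awayι (Sh.deg (Y.basicOpen r) (hU.basicOpen r)) t ht one_pos ≫
        RelProj.emb p chart (Y.basicOpen r) (hU.basicOpen r) := by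
  subst e
  rw [← RelProj.map_res_emb hP U hU r]
  have h1 := Proj.awayι_comp_map (Sh.res hU (hU.basicOpen r) (Y.basicOpen_le r))
    (Sh.irrelevant_le_map U hU r) one_pos s hs
  have h2 : θU ≫ 𝒜.presheaf.map (homOfLE (Y.basicOpen_le r)).op =
      CommRingCat.ofHom (HomogeneousLocalization.Away.map
        (Sh.res hU (hU.basicOpen r) (Y.basicOpen_le r)) s) ≫ θW := by
    ext q
    obtain ⟨n, x, hx, rfl⟩ := HomogeneousLocalization.Away.mk_surjective (Sh.deg U hU) hs q
    have hx' : x ∈ Sh.deg U hU n := by simpa using hx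
    obtain ⟨a, rfl⟩ := exists_eq_of_mem_deg (Sh.deg U hU) (ι.hom.app (op U)).hom s (hι U hU) hs
      hpoly hx'
    have e1 : θU.hom (HomogeneousLocalization.Away.mk (Sh.deg U hU) hs n
        ((ι.hom.app (op U)).hom a * s ^ n) hx) = a :=
      hθU _ n a (HomogeneousLocalization.Away.val_mk _ _ _ _ _)
    have e2 : θW.hom (HomogeneousLocalization.Away.map
        (Sh.res hU (hU.basicOpen r) (Y.basicOpen_le r)) s
        (HomogeneousLocalization.Away.mk (Sh.deg U hU) hs n
          ((ι.hom.app (op U)).hom a * s ^ n) hx)) =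
        (𝒜.presheaf.map (homOfLE (Y.basicOpen_le r)).op).hom a := by
      apply hθW _ n
      rw [HomogeneousLocalization.Away.map_mk (Sh.res hU (hU.basicOpen r) (Y.basicOpen_le r)) s hs n
        _ hx]
      refine (HomogeneousLocalization.Away.val_mk _ _ _ _ _).trans ?_
      have e3 : (Sh.res hU (hU.basicOpen r) (Y.basicOpen_le r))
          ((ι.hom.app (op U)).hom a * s ^ n) =
          (ι.hom.app (op (Y.basicOpen r))).hom
            ((𝒜.presheaf.map (homOfLE (Y.basicOpen_le r)).op).hom a) *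
            (Sh.presheaf.map (homOfLE (Y.basicOpen_le r)).op).hom s ^ n := by
        rw [map_mul, map_pow]
        have hn := congrArg (fun k => k.hom a) (ι.hom.naturality (homOfLE (Y.basicOpen_le r)).op)
        exact congrArg (· * _) hn.symm
      exact congrArg (fun y => Localization.mk y _) e3
    change (𝒜.presheaf.map (homOfLE (Y.basicOpen_le r)).op).hom (θU.hom _) = θW.hom _
    rw [e1]
    exact e2.symm
  have h1' : Proj.awayι (Sh.deg (Y.basicOpen r) (hU.basicOpen r))
      ((Sh.presheaf.map (homOfLE (Y.basicOpen_le r)).op).hom s) ht one_pos ≫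
      Proj.map (Sh.res hU (hU.basicOpen r) (Y.basicOpen_le r)) (Sh.irrelevant_le_map U hU r) =
      Spec.map (CommRingCat.ofHom (HomogeneousLocalization.Away.map
        (Sh.res hU (hU.basicOpen r) (Y.basicOpen_le r)) s)) ≫
        Proj.awayι (Sh.deg U hU) s hs one_pos := h1
  have hAB : Spec.map (𝒜.presheaf.map (homOfLE (Y.basicOpen_le r)).op) ≫ Spec.map θU =
      Spec.map θW ≫ Spec.map (CommRingCat.ofHom (HomogeneousLocalization.Away.map
        (Sh.res hU (hU.basicOpen r) (Y.basicOpen_le r)) s)) := by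
    rw [← Spec.map_comp, ← Spec.map_comp, h2]
    rfl
  refine Eq.trans ?_ (Eq.trans (congrArg (fun k => Spec.map θW ≫ k ≫ RelProj.emb p chart U hU)
    h1'.symm) ?_)
  · exact (Category.assoc _ _ _).symm.trans ((congrArg
      (· ≫ (Proj.awayι (Sh.deg U hU) s hs one_pos ≫ RelProj.emb p chart U hU)) hAB).trans
      ((Category.assoc _ _ _).trans (congrArg (Spec.map θW ≫ ·) (Category.assoc _ _ _).symm)))
  · exact congrArg (Spec.map θW ≫ ·) (Category.assoc _ _ _)

section Poly

variable (hι : ∀ (U : Y.Opens) (hU : IsAffineOpen U) (a : 𝒜.presheaf.obj (op U)),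
    (ι.hom.app (op U)).hom a ∈ Sh.deg U hU 0)
  (z : Sh.presheaf.obj (op ⊤))
  (hz : ∀ (U : Y.Opens) (hU : IsAffineOpen U),
    (Sh.presheaf.map (homOfLE le_top).op).hom z ∈ Sh.deg U hU 1)
  (hpoly : ∀ (U : Y.Opens) (_ : IsAffineOpen U),
    Function.Bijective (Polynomial.eval₂RingHom (ι.hom.app (op U)).hom
      ((Sh.presheaf.map (homOfLE le_top).op).hom z)))
  (hP : RelProj.IsRelProj Sh p chart)
  (θ : ∀ (U : Y.Opens) (hU : IsAffineOpen U),
    CommRingCat.of (HomogeneousLocalization.Away (Sh.deg U hU)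
      ((Sh.presheaf.map (homOfLE le_top).op).hom z)) ⟶ 𝒜.presheaf.obj (op U))
  (hθ : ∀ (U : Y.Opens) (hU : IsAffineOpen U)
    (q : HomogeneousLocalization.Away (Sh.deg U hU) ((Sh.presheaf.map (homOfLE le_top).op).hom z))
    (k : ℕ) (a : 𝒜.presheaf.obj (op U)),
      q.val = Localization.mk ((ι.hom.app (op U)).hom a *
          (Sh.presheaf.map (homOfLE le_top).op).hom z ^ k)
        ⟨(Sh.presheaf.map (homOfLE le_top).op).hom z ^ k,
          pow_mem (Submonoid.mem_powers ((Sh.presheaf.map (homOfLE le_top).op).hom z)) k⟩ →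
      (θ U hU).hom q = a)

/-- The chartwise morphism `Spec 𝒜(U) ⟶ P`. -/
noncomputable def fU (U : Y.Opens) (hU : IsAffineOpen U) : Spec (𝒜.presheaf.obj (op U)) ⟶ P :=
  Spec.map (θ U hU) ≫
    Proj.awayι (Sh.deg U hU) ((Sh.presheaf.map (homOfLE le_top).op).hom z) (hz U hU) one_pos ≫
      RelProj.emb p chart U hU

include hι hpoly hP hθ in
theorem existsUnique_map :
    ∃! i : 𝒜.spec ⟶ P, ∀ (U : Y.Opens) (hU : IsAffineOpen U),
      𝒜.ι U hU ≫ i = fU 𝒜 Sh p chart z hz θ U hU := by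
  refine existsUnique_desc 𝒜 (fU 𝒜 Sh p chart z hz θ) ?_
  intro U hU r
  refine compat_gen 𝒜 Sh ι p chart hP hι U hU r _ (hz U hU) _ (hz _ (hU.basicOpen r)) ?_
    (hpoly U hU).2 (θ U hU) (hθ U hU) (θ _ (hU.basicOpen r)) (hθ _ (hU.basicOpen r))
  rw [← CommRingCat.comp_apply, ← Functor.map_comp]
  rfl

include hι hP hθ in
theorem map_comp_p (i : 𝒜.spec ⟶ P)
    (hi : ∀ (U : Y.Opens) (hU : IsAffineOpen U), 𝒜.ι U hU ≫ i = fU 𝒜 Sh p chart z hz θ U hU) :
    i ≫ p = 𝒜.π := by
  apply hom_ext_of_local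
  intro x
  obtain ⟨U, hU, hxU⟩ : ∃ U : Y.Opens, IsAffineOpen U ∧ 𝒜.π.base x ∈ U := by
    obtain ⟨_, ⟨U, hU, rfl⟩, hxU, -⟩ := Y.isBasis_affineOpens.exists_subset_of_mem_open
      (Set.mem_univ (𝒜.π.base x)) isOpen_univ
    exact ⟨U, hU, hxU⟩
  refine ⟨_, 𝒜.ι U hU, inferInstance, ?_, ?_⟩
  · rw [range_ι]
    exact hxU
  · have h1 : RelProj.emb p chart U hU ≫ p =
        Proj.toSpecZero (Sh.deg U hU) ≫ Spec.map (Sh.strZero U hU) ≫ hU.fromSpec := by
      rw [RelProj.emb, Category.assoc, ← hP.chart_over U hU, Iso.inv_hom_id_assoc]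
    have h2 : Sh.strZero U hU ≫ CommRingCat.ofHom (HomogeneousLocalization.fromZeroRingHom
        (Sh.deg U hU) (Submonoid.powers ((Sh.presheaf.map (homOfLE le_top).op).hom z))) ≫
        θ U hU = 𝒜.str.app (op U) := by
      ext r
      change (θ U hU).hom (HomogeneousLocalization.fromZeroRingHom (Sh.deg U hU) _
        ((Sh.strZero U hU).hom r)) = _
      apply hθ U hU _ 0
      have hc : (Sh.str.app (op U)).hom r = (ι.hom.app (op U)).hom ((𝒜.str.app (op U)).hom r) := by
        have := congrArg (fun k => (k.app (op U)).hom r) ι.comm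
        exact this.symm
      change Localization.mk ((Sh.str.app (op U)).hom r) 1 = _
      rw [hc, Localization.mk_eq_mk_iff, Localization.r_iff_exists]
      exact ⟨1, by simp⟩
    rw [← Category.assoc, hi U hU, fU, Category.assoc, Category.assoc, h1,
      Proj.awayι_toSpecZero_assoc, ← Spec.map_comp_assoc, ← Spec.map_comp_assoc,
      h2, 𝒜.ι_π]

include hι hpoly hP hθ in
theorem isIso_map (i : 𝒜.spec ⟶ P)
    (hi : ∀ (U : Y.Opens) (hU : IsAffineOpen U), 𝒜.ι U hU ≫ i = fU 𝒜 Sh p chart z hz θ U hU) :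
    IsIso i := by
  have hip := map_comp_p 𝒜 Sh ι p chart hι z hz hP θ hθ i hi
  let 𝒰 : P.OpenCover := {
    I₀ := {U : Y.Opens // IsAffineOpen U}
    X := fun U => Proj (Sh.deg U.1 U.2)
    f := fun U => RelProj.emb p chart U.1 U.2
    mem₀ := by
      rw [Scheme.presieve₀_mem_precoverage_iff]
      refine ⟨fun x => ?_, fun U => inferInstance⟩
      obtain ⟨U, hU⟩ := Groth.Agent.Lib.helper28.RelTwistChart.exists_mem_range_emb p chart x
      exact ⟨U, hU⟩ }
  refine (IsZariskiLocalAtTarget.iff_of_openCover (P := MorphismProperty.isomorphisms Scheme)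
    𝒰).mpr ?_
  intro U
  change IsIso (pullback.snd i (RelProj.emb p chart U.1 U.2))
  obtain ⟨U, hU⟩ := U
  have hrange : (RelProj.emb p chart U hU).opensRange = p ⁻¹ᵁ U :=
    Opens.ext (Groth.Agent.Lib.helper28.RelTwistChart.range_emb p chart U hU)
  have sq : IsPullback (Spec.map (θ U hU) ≫ Proj.awayι (Sh.deg U hU)
      ((Sh.presheaf.map (homOfLE le_top).op).hom z) (hz U hU) one_pos) (𝒜.ι U hU)
      (RelProj.emb p chart U hU) i := by
    refine IsOpenImmersion.isPullback _ _ _ _ ?_ ?_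
    · rw [hi U hU, fU, Category.assoc]
    · rw [hrange, ← Scheme.Hom.comp_preimage, hip, 𝒜.π_preimage U hU]
  have hθiso : IsIso (θ U hU) :=
    (ConcreteCategory.isIso_iff_bijective (θ U hU)).mpr
      (bijective_of_spec (Sh.deg U hU) (ι.hom.app (op U)).hom _ (hι U hU) (hz U hU) (hpoly U hU)
        (θ U hU).hom (hθ U hU))
  have haw := isIso_awayι (Sh.deg U hU) (ι.hom.app (op U)).hom _ (hι U hU) (hz U hU) (hpoly U hU).2
  have e := sq.flip.isoPullback_hom_snd
  have e' : pullback.snd i (RelProj.emb p chart U hU) = sq.flip.isoPullback.inv ≫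
      (Spec.map (θ U hU) ≫ Proj.awayι (Sh.deg U hU)
      ((Sh.presheaf.map (homOfLE le_top).op).hom z) (hz U hU) one_pos) := by
    exact ((Iso.inv_comp_eq _).mpr e.symm).symm
  rw [e']
  infer_instance

end Poly

end Main

end Groth.Agent.Lib.helper28.ProjPolySpec
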