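import Mathlib
import Groth.Prelude.Def_RelProj
import Groth.Agent.Lib.Helper28.ProjLocAway
import Groth.Agent.Lib.Lead.RelProjGlue

set_option autoImplicit false
set_option backward.isDefEq.respectTransparency false
set_option backward.isDefEq.respectTransparency.types false

universe u

/-! Existence of the relative homogeneous spectrum of a quasi-coherent graded algebra (helper28). -/

noncomputable section

namespace Groth.Agent.Lib.helper28.RelProjExists

open AlgebraicGeometry CategoryTheory CategoryTheory.Limits Opposite TopologicalSpace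
open scoped HomogeneousIdeal
open Groth.Agent.Lib.helper28.ProjLocAway

variable {Y : Scheme.{u}}

section basic

/-- A basic open of a basic open of an affine open `U` is a basic open of `U`. -/
theorem basicOpen_trans {U : Y.Opens} (hU : IsAffineOpen U) (r : Γ(Y, U))
    (s : Γ(Y, Y.basicOpen r)) : ∃ t : Γ(Y, U), Y.basicOpen s = Y.basicOpen t := by
  haveI := hU.isLocalization_basicOpen r
  obtain ⟨⟨a, ⟨_, n, rfl⟩⟩, han⟩ := IsLocalization.surj (Submonoid.powers r) s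
  refine ⟨r * a, ?_⟩
  have hres : ∀ x : Γ(Y, U), algebraMap Γ(Y, U) Γ(Y, Y.basicOpen r) x =
      (Y.presheaf.map (homOfLE (Y.basicOpen_le r)).op).hom x := fun _ => rfl
  simp only at han
  rw [hres, hres] at han
  have hunit : IsUnit ((Y.presheaf.map (homOfLE (Y.basicOpen_le r)).op).hom (r ^ n)) := by
    rw [map_pow]
    exact (RingedSpace.isUnit_res_basicOpen Y.toRingedSpace r).pow n
  have h1 : Y.basicOpen (s * (Y.presheaf.map (homOfLE (Y.basicOpen_le r)).op).hom (r ^ n)) =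
      Y.basicOpen s := by
    rw [Scheme.basicOpen_mul, Scheme.basicOpen_of_isUnit _ hunit]
    exact inf_eq_left.mpr (Y.basicOpen_le s)
  rw [← h1, han, Scheme.basicOpen_res, Scheme.basicOpen_mul]

end basic

/-- The affine opens of `Y`, to be made a category with the inclusions of basic opens as
morphisms. -/
def BIdx (Y : Scheme.{u}) : Type u := Y.affineOpens

instance : Category (BIdx Y) where
  Hom V U := PLift (∃ r : Γ(Y, U.1), V.1 = Y.basicOpen r)
  id U := ⟨⟨1, (Scheme.basicOpen_of_isUnit _ isUnit_one).symm⟩⟩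
  comp {W V U} f g := ⟨by
    obtain ⟨W, hW⟩ := W
    obtain ⟨V, hV⟩ := V
    obtain ⟨r, hr⟩ := g.down
    obtain ⟨s, hs⟩ := f.down
    change V = Y.basicOpen r at hr
    subst hr
    change W = Y.basicOpen s at hs
    subst hs
    exact basicOpen_trans U.2 r s⟩

instance : Quiver.IsThin (BIdx Y) := fun V U =>
  ⟨fun (a b : PLift (∃ r : Γ(Y, U.1), V.1 = Y.basicOpen r)) => by
    obtain ⟨a⟩ := a
    obtain ⟨b⟩ := b
    rfl⟩

/-- Constructor for the objects of `BIdx`. -/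
def BIdx.mk (U : Y.Opens) (hU : IsAffineOpen U) : BIdx Y := (⟨U, hU⟩ : Y.affineOpens)

theorem le_of_bhom {V U : BIdx Y} (f : V ⟶ U) : V.1 ≤ U.1 := by
  obtain ⟨r, hr⟩ := f.down
  rw [hr]
  exact Y.basicOpen_le r

/-- The morphism of `BIdx` attached to a basic open. -/
def bhom (U : Y.Opens) (hU : IsAffineOpen U) (r : Γ(Y, U)) :
    BIdx.mk (Y.basicOpen r) (hU.basicOpen r) ⟶ BIdx.mk U hU := ⟨⟨r, rfl⟩⟩

variable (Y) in
/-- The cover of `Y` by all its affine opens, indexed by `BIdx`. -/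
def cov : Y.OpenCover where
  I₀ := BIdx Y
  X U := U.1
  f U := U.1.ι
  mem₀ := by
    rw [Scheme.presieve₀_mem_precoverage_iff]
    refine ⟨fun x ↦ ?_, inferInstance⟩
    obtain ⟨U, hU, hxU, -⟩ := (Opens.isBasis_iff_nbhd.mp Y.isBasis_affineOpens)
      (show x ∈ (⊤ : Y.Opens) from trivial)
    exact ⟨BIdx.mk U hU, ⟨x, hxU⟩, rfl⟩

instance : Category (cov Y).I₀ := inferInstanceAs (Category (BIdx Y))

instance : Quiver.IsThin (cov Y).I₀ := inferInstanceAs (Quiver.IsThin (BIdx Y))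

instance : (cov Y).LocallyDirected where
  trans {V U} f := Y.homOfLE (le_of_bhom f)
  trans_id U := Scheme.homOfLE_rfl _ _
  trans_comp f g := (Scheme.homOfLE_homOfLE _ _ _).symm
  w f := Scheme.homOfLE_ι _ _
  directed {V U} x := by
    let z : Y := (pullback.fst ((cov Y).f V) ((cov Y).f U) ≫ (cov Y).f V).base x
    have hzV : z ∈ V.1 := ((pullback.fst ((cov Y).f V) ((cov Y).f U)).base x).2
    have hzU : z ∈ U.1 := by
      have : z = (pullback.snd ((cov Y).f V) ((cov Y).f U) ≫ (cov Y).f U).base x := by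
        rw [← pullback.condition]
      rw [this]
      exact ((pullback.snd ((cov Y).f V) ((cov Y).f U)).base x).2
    obtain ⟨a, b, hab, hza⟩ := exists_basicOpen_le_affine_inter V.2 U.2 z ⟨hzV, hzU⟩
    refine ⟨BIdx.mk (Y.basicOpen a) (V.2.basicOpen a), ⟨⟨a, rfl⟩⟩, ⟨⟨b, hab⟩⟩, ⟨z, hza⟩, ?_⟩
    apply (pullback.fst ((cov Y).f V) ((cov Y).f U) ≫ (cov Y).f V).isOpenEmbedding.injective
    rw [← Scheme.Hom.comp_apply, pullback.lift_fst_assoc]
    change (Y.homOfLE _ ≫ V.1.ι).base ⟨z, hza⟩ = z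
    rw [Scheme.homOfLE_ι]
    rfl
  property_trans f := by
    change IsOpenImmersion (Y.homOfLE (le_of_bhom f))
    infer_instance

variable (𝒮 : RelProj.QCGrAlg Y)

/-- The restriction to a basic open is the localization at the function, in elementary form. -/
theorem isLocAt_res (U : Y.Opens) (hU : IsAffineOpen U) (r : Γ(Y, U)) :
    IsLocAt (𝒮.res hU (hU.basicOpen r) (Y.basicOpen_le r)) ((𝒮.str.app (op U)).hom r) := by
  let ψ := 𝒮.res hU (hU.basicOpen r) (Y.basicOpen_le r)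
  let _inst := (𝒮.presheaf.map (homOfLE (Y.basicOpen_le r)).op).hom.toAlgebra
  let c := (𝒮.str.app (op U)).hom r
  have hloc : IsLocalization.Away c (𝒮.presheaf.obj (op (Y.basicOpen r))) := 𝒮.isQC U hU r
  refine ⟨𝒮.str_mem U hU r, ?_, ?_, ?_⟩
  · exact IsLocalization.map_units (M := Submonoid.powers c)
      (𝒮.presheaf.obj (op (Y.basicOpen r))) ⟨c, 1, pow_one c⟩
  · intro b
    obtain ⟨⟨x, s, hs⟩, hxs⟩ := IsLocalization.surj (Submonoid.powers c) b
    obtain ⟨k, rfl⟩ := (Submonoid.mem_powers_iff _ _).mp hs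
    refine ⟨x, k, ?_⟩
    change b * ψ (c ^ k) = ψ x at hxs
    rw [map_pow] at hxs
    exact hxs
  · intro a a' haa
    obtain ⟨⟨_, k, rfl⟩, hk⟩ := (IsLocalization.eq_iff_exists (Submonoid.powers c)
      (𝒮.presheaf.obj (op (Y.basicOpen r)))).mp (show algebraMap _ _ a = algebraMap _ _ a' from haa)
    exact ⟨k, hk⟩

/-- The irrelevant ideal condition for a morphism of `BIdx`. -/
theorem irr_of_bhom {V U : BIdx Y} (f : V ⟶ U) :
    (𝒮.deg V.1 V.2)₊ ≤ ((𝒮.deg U.1 U.2)₊).map (𝒮.res U.2 V.2 (le_of_bhom f)) := by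
  obtain ⟨V, hV⟩ := V
  obtain ⟨U, hU⟩ := U
  obtain ⟨r, hr⟩ := f.down
  change V = Y.basicOpen r at hr
  subst hr
  exact 𝒮.irrelevant_le_map U hU r

theorem isLocAt_of_bhom {V U : BIdx Y} (f : V ⟶ U) :
    ∃ r : Γ(Y, U.1), V.1 = Y.basicOpen r ∧
      IsLocAt (𝒮.res U.2 V.2 (le_of_bhom f)) ((𝒮.str.app (op U.1)).hom r) := by
  obtain ⟨V, hV⟩ := V
  obtain ⟨U, hU⟩ := U
  obtain ⟨r, hr⟩ := f.down
  change V = Y.basicOpen r at hr
  subst hr
  exact ⟨r, rfl, isLocAt_res 𝒮 U hU r⟩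

theorem res_id (U : Y.Opens) (hU : IsAffineOpen U) :
    𝒮.res hU hU le_rfl = GradedRingHom.id (𝒮.deg U hU) := by
  apply GradedRingHom.ext
  intro x
  rw [RelProj.QCGrAlg.res_apply]
  have : (homOfLE (le_refl U)).op = 𝟙 (op U) := rfl
  rw [this, 𝒮.presheaf.map_id]
  rfl

theorem res_comp {U V W : Y.Opens} (hU : IsAffineOpen U) (hV : IsAffineOpen V)
    (hW : IsAffineOpen W) (i : V ≤ U) (j : W ≤ V) :
    𝒮.res hU hW (j.trans i) = (𝒮.res hV hW j).comp (𝒮.res hU hV i) := by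
  apply GradedRingHom.ext
  intro x
  change (𝒮.presheaf.map (homOfLE (j.trans i)).op).hom x =
    (𝒮.presheaf.map (homOfLE j).op).hom ((𝒮.presheaf.map (homOfLE i).op).hom x)
  rw [← CommRingCat.comp_apply, ← Functor.map_comp]
  rfl

/-- The functor `U ↦ Proj 𝒮(U)` on `BIdx`. -/
def projFunctor : BIdx Y ⥤ Scheme.{u} where
  obj U := Proj (𝒮.deg U.1 U.2)
  map {V U} f := Proj.map (𝒮.res U.2 V.2 (le_of_bhom f)) (irr_of_bhom 𝒮 f)
  map_id U := by
    rw [← Proj.map_id]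
    exact Groth.Agent.Lib.Lead.RelProjGlue.proj_map_congr (res_id 𝒮 U.1 U.2) _ _
  map_comp {W V U} f g := by
    rw [← Proj.map_comp]
    exact Groth.Agent.Lib.Lead.RelProjGlue.proj_map_congr
      (res_comp 𝒮 U.2 V.2 W.2 (le_of_bhom g) (le_of_bhom f)) _ _

/-- The structure morphism `Proj 𝒮(U) ⟶ U`. -/
def piU (U : Y.Opens) (hU : IsAffineOpen U) : Proj (𝒮.deg U hU) ⟶ (U : Scheme.{u}) :=
  Proj.toSpecZero (𝒮.deg U hU) ≫ Spec.map (𝒮.strZero U hU) ≫ hU.isoSpec.inv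

theorem piU_ι (U : Y.Opens) (hU : IsAffineOpen U) :
    piU 𝒮 U hU ≫ U.ι =
      Proj.toSpecZero (𝒮.deg U hU) ≫ Spec.map (𝒮.strZero U hU) ≫ hU.fromSpec := by
  unfold piU
  rw [Category.assoc, Category.assoc, IsAffineOpen.isoSpec_inv_ι]

theorem strZero_res {U V : Y.Opens} (hU : IsAffineOpen U) (hV : IsAffineOpen V) (i : V ≤ U) :
    𝒮.strZero U hU ≫ CommRingCat.ofHom (𝒮.res hU hV i).gradedZeroRingHom =
      Y.presheaf.map (homOfLE i).op ≫ 𝒮.strZero V hV := by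
  ext r
  change (𝒮.presheaf.map (homOfLE i).op).hom ((𝒮.str.app (op U)).hom r) =
    (𝒮.str.app (op V)).hom ((Y.presheaf.map (homOfLE i).op).hom r)
  have := 𝒮.str.naturality (homOfLE i).op
  exact (congr($this r)).symm

/-- Naturality of the structure morphisms `Proj 𝒮(U) ⟶ U`. -/
theorem map_piU {U V : Y.Opens} (hU : IsAffineOpen U) (hV : IsAffineOpen V) (i : V ≤ U)
    (hirr : (𝒮.deg V hV)₊ ≤ ((𝒮.deg U hU)₊).map (𝒮.res hU hV i)) :
    Proj.map (𝒮.res hU hV i) hirr ≫ piU 𝒮 U hU = piU 𝒮 V hV ≫ Y.homOfLE i := by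
  rw [← cancel_mono U.ι, Category.assoc, Category.assoc, Scheme.homOfLE_ι, piU_ι, piU_ι,
    ← Category.assoc (Proj.map _ _), Groth.Agent.Lib.Lead.ProjMapG.map_toSpecZero,
    Category.assoc, ← Spec.map_comp_assoc, strZero_res,
    Spec.map_comp_assoc, IsAffineOpen.map_fromSpec hU hV]

/-- Membership in the preimage of a basic open under the structure morphism. -/
theorem piU_mem_iff (U : Y.Opens) (hU : IsAffineOpen U) (r : Γ(Y, U)) (x : Proj (𝒮.deg U hU)) :
    ((piU 𝒮 U hU).base x).1 ∈ Y.basicOpen r ↔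
      (𝒮.strZero U hU).hom r ∉ ((Proj.toSpecZero (𝒮.deg U hU)).base x).asIdeal := by
  have h1 : ((piU 𝒮 U hU).base x).1 = (piU 𝒮 U hU ≫ U.ι).base x := rfl
  rw [h1, piU_ι]
  have h2 : (Proj.toSpecZero (𝒮.deg U hU) ≫ Spec.map (𝒮.strZero U hU) ≫ hU.fromSpec).base x =
      hU.fromSpec.base ((Spec.map (𝒮.strZero U hU)).base
        ((Proj.toSpecZero (𝒮.deg U hU)).base x)) := rfl
  rw [h2]
  change (Spec.map (𝒮.strZero U hU)).base ((Proj.toSpecZero (𝒮.deg U hU)).base x) ∈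
    hU.fromSpec ⁻¹ᵁ Y.basicOpen r ↔ _
  rw [hU.fromSpec_preimage_basicOpen]
  rfl

/-- The squares of the relative gluing datum are cartesian. -/
theorem isPullback_proj {V U : BIdx Y} (f : V ⟶ U) :
    IsPullback ((projFunctor 𝒮).map f) (piU 𝒮 V.1 V.2) (piU 𝒮 U.1 U.2)
      (Y.homOfLE (le_of_bhom f)) := by
  obtain ⟨r, hr, hloc⟩ := isLocAt_of_bhom 𝒮 f
  haveI : IsOpenImmersion ((projFunctor 𝒮).map f) :=
    isOpenImmersion_map hloc (irr_of_bhom 𝒮 f)
  refine (IsOpenImmersion.isPullback (piU 𝒮 V.1 V.2) ((projFunctor 𝒮).map f)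
    (Y.homOfLE (le_of_bhom f)) (piU 𝒮 U.1 U.2)
    (map_piU 𝒮 U.2 V.2 (le_of_bhom f) (irr_of_bhom 𝒮 f)) ?_).flip
  ext x
  rw [Scheme.opensRange_homOfLE]
  change ((piU 𝒮 U.1 U.2).base x).1 ∈ V.1 ↔ x ∈ Set.range ((projFunctor 𝒮).map f).base
  rw [hr, piU_mem_iff]
  exact (mem_range_map_iff hloc (irr_of_bhom 𝒮 f) x).symm

/-- The relative gluing datum `U ↦ Proj 𝒮(U)`. -/
def gluingData : (cov Y).RelativeGluingData where
  functor := projFunctor 𝒮
  natTrans :=
    { app := fun U => piU 𝒮 U.1 U.2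
      naturality := fun V U f => map_piU 𝒮 U.2 V.2 (le_of_bhom f) (irr_of_bhom 𝒮 f) }
  equifibered := fun V U f => isPullback_proj 𝒮 f

/-- The relative homogeneous spectrum. -/
def relProj : Scheme.{u} := (gluingData 𝒮).glued

/-- Its structure morphism. -/
def relProjHom : relProj 𝒮 ⟶ Y := (gluingData 𝒮).toBase

/-- The inclusion of the chart over `U`. -/
def chartι (U : Y.Opens) (hU : IsAffineOpen U) : Proj (𝒮.deg U hU) ⟶ relProj 𝒮 :=
  colimit.ι (gluingData 𝒮).functor (BIdx.mk U hU)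

instance (U : Y.Opens) (hU : IsAffineOpen U) : IsOpenImmersion (chartι 𝒮 U hU) :=
  inferInstanceAs (IsOpenImmersion ((gluingData 𝒮).cover.f (BIdx.mk U hU)))

theorem chartι_hom (U : Y.Opens) (hU : IsAffineOpen U) :
    chartι 𝒮 U hU ≫ relProjHom 𝒮 = piU 𝒮 U hU ≫ U.ι :=
  (gluingData 𝒮).ι_toBase (BIdx.mk U hU)

theorem range_chartι (U : Y.Opens) (hU : IsAffineOpen U) :
    Set.range (relProjHom 𝒮 ⁻¹ᵁ U).ι.base = Set.range (chartι 𝒮 U hU).base := by
  have h := (gluingData 𝒮).toBase_preimage_eq_opensRange_ι (BIdx.mk U hU)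
  have h2 : ((cov Y).f (BIdx.mk U hU)).opensRange = U := Scheme.Opens.opensRange_ι U
  rw [h2] at h
  rw [Scheme.Opens.range_ι]
  exact congrArg (fun W : (relProj 𝒮).Opens => (W : Set (relProj 𝒮))) h

/-- The charts of the relative homogeneous spectrum. -/
def chart (U : Y.Opens) (hU : IsAffineOpen U) :
    ((relProjHom 𝒮 ⁻¹ᵁ U : (relProj 𝒮).Opens) : Scheme.{u}) ≅ Proj (𝒮.deg U hU) :=
  IsOpenImmersion.isoOfRangeEq (relProjHom 𝒮 ⁻¹ᵁ U).ι (chartι 𝒮 U hU) (range_chartι 𝒮 U hU)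

theorem chart_hom_fac (U : Y.Opens) (hU : IsAffineOpen U) :
    (chart 𝒮 U hU).hom ≫ chartι 𝒮 U hU = (relProjHom 𝒮 ⁻¹ᵁ U).ι :=
  IsOpenImmersion.isoOfRangeEq_hom_fac _ _ _

theorem chartι_map (U : Y.Opens) (hU : IsAffineOpen U) (r : Γ(Y, U)) :
    Proj.map (𝒮.res hU (hU.basicOpen r) (Y.basicOpen_le r)) (𝒮.irrelevant_le_map U hU r) ≫
      chartι 𝒮 U hU = chartι 𝒮 (Y.basicOpen r) (hU.basicOpen r) :=
  colimit.w (gluingData 𝒮).functor (bhom U hU r)

theorem isRelProj : RelProj.IsRelProj 𝒮 (relProjHom 𝒮) (chart 𝒮) where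
  chart_over U hU := by
    rw [← piU_ι, ← chartι_hom, ← Category.assoc, chart_hom_fac]
  chart_res U hU r := by
    rw [← cancel_mono (chartι 𝒮 U hU), Category.assoc, chart_hom_fac, Scheme.homOfLE_ι,
      Category.assoc, chartι_map, chart_hom_fac]

theorem exists_relProj : ∃ (P : Scheme.{u}) (p : P ⟶ Y)
    (chart : ∀ (U : Y.Opens) (hU : IsAffineOpen U),
      (((p ⁻¹ᵁ U : P.Opens) : Scheme.{u}) ≅ Proj (𝒮.deg U hU))),
    RelProj.IsRelProj 𝒮 p chart :=
  ⟨relProj 𝒮, relProjHom 𝒮, chart 𝒮, isRelProj 𝒮⟩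

end Groth.Agent.Lib.helper28.RelProjExists
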