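import Groth.Agent.Lib.Helper28.TwistInv

set_option autoImplicit false
set_option linter.style.haveILetI false
universe u

open CategoryTheory CategoryTheory.Limits AlgebraicGeometry Opposite TopologicalSpace
open Scheme.Modules Groth.Agent.Lib.helper7

namespace Groth.Agent.Lib.helper28.TwistZero

open Groth.Agent.Lib.helper28.TwistFree

noncomputable section

variable {R A : Type u} [CommRing R] [CommRing A] [Algebra R A] (𝒜 : ℕ → Submodule R A)
  [GradedAlgebra 𝒜]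

theorem one_notMem (x : ProjectiveSpectrum 𝒜) : (1 : A) ∉ x.asHomogeneousIdeal := fun h =>
  x.isPrime.ne_top ((Ideal.eq_top_iff_one _).mpr h)

/-- The section `1 / 1` of `O(0)` over any open. -/
def oneSect (W : Opens (ProjectiveSpectrum.top 𝒜)) : Twist.sectN (𝒜 := 𝒜) 0 (op W) :=
  fracSectN 𝒜 0 W (⟨1, SetLike.GradedOne.one_mem⟩ : 𝒜 0) (⟨1, SetLike.GradedOne.one_mem⟩ : 𝒜 0)
    (fun x => one_notMem 𝒜 x.1) (by simp)

/-- The morphism `O ⟶ O(0)` given by the global section `1`. -/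
def unitToTwistZero : Coh.structureModule (Proj 𝒜) ⟶ Twist.twist 𝒜 0 :=
  (SheafOfModules.unitHomEquiv (R := (Proj 𝒜).ringCatSheaf) (Twist.twist 𝒜 0)).symm
    (LocalLift.secOfTop (Twist.twist 𝒜 0) (oneSect 𝒜 ⊤))

theorem unitToTwistZero_app (W : (Proj 𝒜).Opens) (a : Γ(Proj 𝒜, W)) :
    ((unitToTwistZero 𝒜).app W).hom (show Γ(Coh.structureModule (Proj 𝒜), W) from a) =
      (a • (show Γ(Twist.twist 𝒜 0, W) from oneSect 𝒜 W) : Γ(Twist.twist 𝒜 0, W)) := rfl

instance isIso_unitToTwistZero : IsIso (unitToTwistZero 𝒜) := by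
  refine KerSections.isIso_of_bijective_cover (unitToTwistZero 𝒜)
    (fun i : (Σ i : PNat, 𝒜 i) => Proj.basicOpen 𝒜 (i.2 : A))
    (fun i => Proj.isAffineOpen_basicOpen 𝒜 _ i.2.2 i.1.pos) ?_ ?_
  · intro x
    have h := Groth.Agent.Lib.helper28.TildeQCoh.iSup_basicOpen_eq_top 𝒜
    have hx : x ∈ (⊤ : (Proj 𝒜).Opens) := trivial
    rw [← h, Opens.mem_iSup] at hx
    exact hx
  · intro i
    exact bijective_smul_fracSectN 𝒜 0 i.1.pos i.2.2 (ProjectiveSpectrum.basicOpen 𝒜 (i.2 : A)) rfl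
      (⟨1, SetLike.GradedOne.one_mem⟩ : 𝒜 0) (⟨1, SetLike.GradedOne.one_mem⟩ : 𝒜 0)
      (fun x => one_notMem 𝒜 x.1) (fun x => one_notMem 𝒜 x.1) (by simp)

/-- `O ≅ O(0)`. -/
def twistZeroIso : Coh.structureModule (Proj 𝒜) ≅ Twist.twist 𝒜 0 := asIso (unitToTwistZero 𝒜)

end

end Groth.Agent.Lib.helper28.TwistZero
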