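import Groth.Agent.Lib.Helper28.TwistTensor
import Groth.Agent.Lib.Helper28.TwistZero
import Groth.Prelude.Def_PicGrp

set_option autoImplicit false
universe u

open CategoryTheory CategoryTheory.Limits AlgebraicGeometry Opposite TopologicalSpace

namespace Groth.Agent.Lib.helper28.TwistAll

noncomputable section

variable {R A : Type u} [CommRing R] [CommRing A] [Algebra R A] (𝒜 : ℕ → Submodule R A)
  [GradedAlgebra 𝒜]

theorem hcov_of_hgen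
    (hgen : (HomogeneousIdeal.irrelevant 𝒜).toIdeal = Ideal.span (𝒜 1 : Set A))
    (x : ProjectiveSpectrum 𝒜) : ∃ f ∈ 𝒜 1, f ∉ x.asHomogeneousIdeal := by
  by_contra hcon
  simp only [not_exists, not_and, not_not] at hcon
  apply x.not_irrelevant_le
  intro z hz
  have hz' : z ∈ (HomogeneousIdeal.irrelevant 𝒜).toIdeal := hz
  rw [hgen] at hz'
  have hle : Ideal.span (𝒜 1 : Set A) ≤ x.asHomogeneousIdeal.toIdeal :=
    Ideal.span_le.mpr fun g hg => hcon g hg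
  exact hle hz'

theorem hcov_of_iSup (hcov : (⨆ f : 𝒜 1, Proj.basicOpen 𝒜 (f : A)) = ⊤)
    (x : ProjectiveSpectrum 𝒜) : ∃ f ∈ 𝒜 1, f ∉ x.asHomogeneousIdeal := by
  have key : ∀ y : ↥(Proj 𝒜), ∃ f : 𝒜 1, y ∈ Proj.basicOpen 𝒜 (f : A) := by
    intro y
    have hy : y ∈ (⊤ : (Proj 𝒜).Opens) := trivial
    rw [← hcov, Opens.mem_iSup] at hy
    exact hy
  obtain ⟨f, hf⟩ := key x
  exact ⟨f.1, f.2, (ProjectiveSpectrum.mem_basicOpen 𝒜 _ x).mp hf⟩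

theorem isInvertible_twist
    (hcov : ∀ x : ProjectiveSpectrum 𝒜, ∃ f ∈ 𝒜 1, f ∉ x.asHomogeneousIdeal) (n : ℤ) :
    PicF.IsInvertible (Twist.twist 𝒜 n) := by
  intro y
  obtain ⟨f, hf, hfy⟩ := hcov y
  have h1 := Groth.Agent.Lib.helper28.TwistInv.isTrivOn_twist_mul 𝒜 Nat.one_pos hf n
  have h2 : n * ((1 : ℕ) : ℤ) = n := by simp
  rw [h2] at h1
  exact ⟨Proj.basicOpen 𝒜 f, (ProjectiveSpectrum.mem_basicOpen 𝒜 f y).mpr hfy, h1⟩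

/-- `O(n) ≅ O(1)^{⊗ n}`. -/
def twistPowIso
    (hcov : ∀ x : ProjectiveSpectrum 𝒜, ∃ f ∈ 𝒜 1, f ∉ x.asHomogeneousIdeal) :
    ∀ n : ℕ, Twist.twist 𝒜 (n : ℤ) ≅ CohB1.tensorPow (Twist.twist 𝒜 1) n
  | 0 => eqToIso (by simp) ≪≫ (Groth.Agent.Lib.helper28.TwistZero.twistZeroIso 𝒜).symm
  | n + 1 =>
    eqToIso (by push_cast; rfl) ≪≫
      (Groth.Agent.Lib.helper28.TwistTensor.twistTensorIso 𝒜 hcov (n : ℤ) 1).symm ≪≫
      PicGrp.tensorModIso (twistPowIso hcov n) (Iso.refl _)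

theorem all
    (hcov : ∀ x : ProjectiveSpectrum 𝒜, ∃ f ∈ 𝒜 1, f ∉ x.asHomogeneousIdeal) :
    (∀ n : ℤ, PicF.IsInvertible (Twist.twist 𝒜 n)) ∧
      (∀ m n : ℤ, Nonempty (CohB1.tensorMod (Twist.twist 𝒜 m) (Twist.twist 𝒜 n) ≅
        Twist.twist 𝒜 (m + n))) ∧
      ∀ n : ℕ, Nonempty (Twist.twist 𝒜 (n : ℤ) ≅ CohB1.tensorPow (Twist.twist 𝒜 1) n) :=
  ⟨isInvertible_twist 𝒜 hcov,
    fun m n => ⟨Groth.Agent.Lib.helper28.TwistTensor.twistTensorIso 𝒜 hcov m n⟩,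
    fun n => ⟨twistPowIso 𝒜 hcov n⟩⟩

end

end Groth.Agent.Lib.helper28.TwistAll
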