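import Mathlib
import Groth.Prelude.Def_RelSpec

set_option autoImplicit false

universe u

/-! Homomorphisms of quasi-coherent algebras from ring homomorphisms over the affine opens,
natural for the inclusions of basic opens (helper28). -/

namespace Groth.Agent.Lib.helper28.QCAlgHomAffine

open CategoryTheory CategoryTheory.Limits AlgebraicGeometry TopologicalSpace Opposite

variable {S : Scheme.{u}}

/-- Maps of presheaves of rings into a quasi-coherent algebra agree if they agree on affine
opens. -/
theorem presheafHom_ext (B : RelSpec.QCAlg S) {P : TopCat.Presheaf CommRingCat.{u} S.carrier}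
    (f g : P ⟶ B.presheaf)
    (h : ∀ U : S.AffineZariskiSite, f.app (op U.1) = g.app (op U.1)) : f = g := by
  apply (Functor.IsCoverDense.restrictHomEquivHom (G := Scheme.AffineZariskiSite.toOpensFunctor S)
    (K := Opens.grothendieckTopology S) (ℱ := P)
    (ℱ' := (⟨B.presheaf, B.isSheaf⟩ : TopCat.Sheaf CommRingCat.{u} S.carrier))).symm.injective
  ext U : 2
  exact h U.unop

variable {A B : RelSpec.QCAlg S}

theorem hom_ext_of_affine (ψ ψ' : A ⟶ B)
    (h : ∀ (U : S.AffineZariskiSite) (x : A.presheaf.obj (op U.1)),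
      (ψ.hom.app (op U.1)).hom x = (ψ'.hom.app (op U.1)).hom x) : ψ = ψ' := by
  apply RelSpec.QCAlg.hom_ext
  apply presheafHom_ext
  intro U
  apply CommRingCat.hom_ext
  exact RingHom.ext (h U)

theorem exists_hom_of_affine
    (f : ∀ U : S.AffineZariskiSite, A.presheaf.obj (op U.1) →+* B.presheaf.obj (op U.1))
    (hnat : ∀ (U V : S.AffineZariskiSite) (h : V ≤ U) (x : A.presheaf.obj (op U.1)),
      f V ((A.presheaf.map (homOfLE (Scheme.AffineZariskiSite.toOpens_mono h)).op).hom x) =
        (B.presheaf.map (homOfLE (Scheme.AffineZariskiSite.toOpens_mono h)).op).hom (f U x))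
    (hstr : ∀ (U : S.AffineZariskiSite) (a : Γ(S, U.1)),
      f U ((A.str.app (op U.1)).hom a) = (B.str.app (op U.1)).hom a) :
    ∃ ψ : A ⟶ B, ∀ (U : S.AffineZariskiSite) (x : A.presheaf.obj (op U.1)),
      (ψ.hom.app (op U.1)).hom x = f U x := by
  let α : (Scheme.AffineZariskiSite.toOpensFunctor S).op ⋙ A.presheaf ⟶
      (Scheme.AffineZariskiSite.toOpensFunctor S).op ⋙ B.presheaf :=
    { app := fun U => CommRingCat.ofHom (f U.unop)
      naturality := by
        intro U V i
        apply CommRingCat.hom_ext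
        refine RingHom.ext fun x => ?_
        exact hnat U.unop V.unop i.unop.le x }
  let β : A.presheaf ⟶ B.presheaf :=
    Functor.IsCoverDense.restrictHomEquivHom (G := Scheme.AffineZariskiSite.toOpensFunctor S)
      (K := Opens.grothendieckTopology S) (ℱ := A.presheaf)
      (ℱ' := (⟨B.presheaf, B.isSheaf⟩ : TopCat.Sheaf CommRingCat.{u} S.carrier)) α
  have hβ0 : (Scheme.AffineZariskiSite.toOpensFunctor S).op.whiskerLeft β = α :=
    (Functor.IsCoverDense.restrictHomEquivHom (G := Scheme.AffineZariskiSite.toOpensFunctor S)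
      (K := Opens.grothendieckTopology S) (ℱ := A.presheaf)
      (ℱ' := (⟨B.presheaf, B.isSheaf⟩ :
        TopCat.Sheaf CommRingCat.{u} S.carrier))).symm_apply_apply α
  have hβ : ∀ (U : S.AffineZariskiSite) (x : A.presheaf.obj (op U.1)),
      (β.app (op U.1)).hom x = f U x := fun U x =>
    congrArg (fun k => k.hom x) (NatTrans.congr_app hβ0 (op U))
  have hcomm : A.str ≫ β = B.str := by
    apply presheafHom_ext
    intro U
    apply CommRingCat.hom_ext
    refine RingHom.ext fun a => ?_
    change (β.app (op U.1)).hom ((A.str.app (op U.1)).hom a) = (B.str.app (op U.1)).hom a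
    rw [hβ, hstr]
  exact ⟨⟨β, hcomm⟩, hβ⟩

end Groth.Agent.Lib.helper28.QCAlgHomAffine
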