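import Groth.Agent.Lib.Helper28.ChartGlue
import Groth.Agent.Lib.Helper28.GTwistLoc
import Groth.Agent.Lib.Helper28.RelTwistChart

set_option autoImplicit false
set_option linter.style.haveILetI false

universe u

/-! Existence of the twisting sheaves `O_P(n)` on a relative homogeneous spectrum (helper28). -/

noncomputable section

namespace Groth.Agent.Lib.helper28.RelTwistExists

open AlgebraicGeometry CategoryTheory CategoryTheory.Limits Opposite TopologicalSpace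
open scoped HomogeneousIdeal
open Groth.Agent.Lib.helper28.RelProjExists Groth.Agent.Lib.helper28.ProjLocAway
  Groth.Agent.Lib.helper28.GTwistQCoh Groth.Agent.Lib.helper28.GTwistLoc
  Groth.Agent.Lib.helper28.ChartGlue Groth.Agent.Lib.helper28.LimitSections
  Groth.Agent.Lib.helper2

section ring

variable {A B C σ τ υ : Type u} [CommRing A] [SetLike σ A] [AddSubgroupClass σ A]
  [CommRing B] [SetLike τ B] [AddSubgroupClass τ B]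
  [CommRing C] [SetLike υ C] [AddSubgroupClass υ C]
  {𝒜 : ℕ → σ} {ℬ : ℕ → τ} {𝒞 : ℕ → υ} [GradedRing 𝒜] [GradedRing ℬ] [GradedRing 𝒞]

theorem locMap_comp (f : 𝒜 →+*ᵍ ℬ) (g : ℬ →+*ᵍ 𝒞) (hf : ℬ₊ ≤ (𝒜₊).map f) (hg : 𝒞₊ ≤ (ℬ₊).map g)
    (hgf : 𝒞₊ ≤ (𝒜₊).map (g.comp f)) (y : ProjectiveSpectrum 𝒞)
    (q : GrTwist.Loc 𝒜 (ProjectiveSpectrum.comap f hf (ProjectiveSpectrum.comap g hg y))) :
    GrTwist.locMap (𝒜 := 𝒜) (ℬ := 𝒞) (g.comp f) hgf y q =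
      GrTwist.locMap g hg y (GrTwist.locMap f hf (ProjectiveSpectrum.comap g hg y) q) := by
  induction q using Localization.induction_on with | _ as => ?_
  obtain ⟨a, s⟩ := as
  simp only
  rw [GrTwist.locMap_mk f hf, GrTwist.locMap_mk g hg]
  exact GrTwist.locMap_mk (𝒜 := 𝒜) (ℬ := 𝒞) (g.comp f) hgf y a s

theorem locMap_id (hid : 𝒜₊ ≤ (𝒜₊).map (GradedRingHom.id 𝒜)) (y : ProjectiveSpectrum 𝒜)
    (q : GrTwist.Loc 𝒜 y) :
    GrTwist.locMap (𝒜 := 𝒜) (ℬ := 𝒜) (GradedRingHom.id 𝒜) hid y q = q := by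
  induction q using Localization.induction_on with | _ as => ?_
  obtain ⟨a, s⟩ := as
  simp only
  exact GrTwist.locMap_mk (𝒜 := 𝒜) (ℬ := 𝒜) (GradedRingHom.id 𝒜) hid y a s

theorem val_id (n : ℤ) (ψ : 𝒜 →+*ᵍ 𝒜) (hψ : 𝒜₊ ≤ (𝒜₊).map ψ) (h : ψ = GradedRingHom.id 𝒜)
    (U : (Proj 𝒜).Opens) (s : GrTwist.sectN (𝒜 := 𝒜) n (op U)) (y : ProjectiveSpectrum 𝒜)
    (hy : y ∈ U) (hy' : ProjectiveSpectrum.comap ψ hψ y ∈ U) :
    GrTwist.locMap ψ hψ y (s.1 ⟨ProjectiveSpectrum.comap ψ hψ y, hy'⟩).1 = (s.1 ⟨y, hy⟩).1 := by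
  subst h
  exact locMap_id _ y _

theorem val_comp (n : ℤ) (ψ₁ : 𝒜 →+*ᵍ ℬ) (ψ₂ : ℬ →+*ᵍ 𝒞) (ψ₃ : 𝒜 →+*ᵍ 𝒞)
    (h₁ : ℬ₊ ≤ (𝒜₊).map ψ₁) (h₂ : 𝒞₊ ≤ (ℬ₊).map ψ₂) (h₃ : 𝒞₊ ≤ (𝒜₊).map ψ₃)
    (h : ψ₃ = ψ₂.comp ψ₁)
    (U : (Proj 𝒜).Opens) (s : GrTwist.sectN (𝒜 := 𝒜) n (op U)) (y : ProjectiveSpectrum 𝒞)
    (hy₃ : ProjectiveSpectrum.comap ψ₃ h₃ y ∈ U)
    (hy₁₂ : ProjectiveSpectrum.comap ψ₁ h₁ (ProjectiveSpectrum.comap ψ₂ h₂ y) ∈ U) :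
    GrTwist.locMap ψ₃ h₃ y (s.1 ⟨ProjectiveSpectrum.comap ψ₃ h₃ y, hy₃⟩).1 =
      GrTwist.locMap ψ₂ h₂ y (GrTwist.locMap ψ₁ h₁ (ProjectiveSpectrum.comap ψ₂ h₂ y)
        (s.1 ⟨_, hy₁₂⟩).1) := by
  subst h
  exact locMap_comp ψ₁ ψ₂ h₁ h₂ h₃ y _

end ring

variable {Y P : Scheme.{u}} (𝒮 : RelProj.QCGrAlg Y) (p : P ⟶ Y)
  (chart : ∀ (U : Y.Opens) (hU : IsAffineOpen U),
    (((p ⁻¹ᵁ U : P.Opens) : Scheme.{u}) ≅ Proj (𝒮.deg U hU)))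
  (hP : RelProj.IsRelProj 𝒮 p chart) (n : ℤ)

include hP in
theorem map_emb {Z V : BIdx Y} (f : Z ⟶ V) :
    Proj.map (𝒮.res V.2 Z.2 (le_of_bhom f)) (irr_of_bhom 𝒮 f) ≫ RelProj.emb p chart V.1 V.2 =
      RelProj.emb p chart Z.1 Z.2 := by
  obtain ⟨Z, hZ⟩ := Z
  obtain ⟨V, hV⟩ := V
  obtain ⟨r, hr⟩ := f.down
  change Z = Y.basicOpen r at hr
  subst hr
  exact RelProj.map_res_emb hP V hV r

include hP in
theorem emb_comap' {Z V : BIdx Y} (f : Z ⟶ V) (y : Proj (𝒮.deg Z.1 Z.2)) :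
    (RelProj.emb p chart V.1 V.2).base (ProjectiveSpectrum.comap
      (𝒮.res V.2 Z.2 (le_of_bhom f)) (irr_of_bhom 𝒮 f) y) = (RelProj.emb p chart Z.1 Z.2).base y :=
  congrArg (fun g : Proj (𝒮.deg Z.1 Z.2) ⟶ P => g.base y) (map_emb 𝒮 p chart hP f)

/-- The module of the chart over `V`. -/
def obj (V : BIdx Y) : P.Modules :=
  (Scheme.Modules.pushforward (RelProj.emb p chart V.1 V.2)).obj (GrTwist.twist (𝒮.deg V.1 V.2) n)

/-- The transition morphisms. -/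
def trans {Z V : BIdx Y} (f : Z ⟶ V) : obj 𝒮 p chart n V ⟶ obj 𝒮 p chart n Z :=
  (Scheme.Modules.pushforward (RelProj.emb p chart V.1 V.2)).map
      (GrTwist.comap (𝒮.res V.2 Z.2 (le_of_bhom f)) (irr_of_bhom 𝒮 f) n) ≫
    (Scheme.Modules.pushforwardComp (Proj.map (𝒮.res V.2 Z.2 (le_of_bhom f)) (irr_of_bhom 𝒮 f))
      (RelProj.emb p chart V.1 V.2)).hom.app (GrTwist.twist (𝒮.deg Z.1 Z.2) n) ≫
    (Scheme.Modules.pushforwardCongr (map_emb 𝒮 p chart hP f)).hom.app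
      (GrTwist.twist (𝒮.deg Z.1 Z.2) n)

theorem trans_val {Z V : BIdx Y} (f : Z ⟶ V) (W : P.Opens) (s : Γ(obj 𝒮 p chart n V, W))
    (y : ProjectiveSpectrum (𝒮.deg Z.1 Z.2)) (hy : (RelProj.emb p chart Z.1 Z.2).base y ∈ W)
    (hy' : (RelProj.emb p chart V.1 V.2).base (ProjectiveSpectrum.comap
      (𝒮.res V.2 Z.2 (le_of_bhom f)) (irr_of_bhom 𝒮 f) y) ∈ W) :
    GrTwist.val (V := RelProj.emb p chart Z.1 Z.2 ⁻¹ᵁ W)
        ((trans 𝒮 p chart hP n f).app W s) ⟨y, hy⟩ =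
      GrTwist.locMap (𝒮.res V.2 Z.2 (le_of_bhom f)) (irr_of_bhom 𝒮 f) y
        (GrTwist.val (V := RelProj.emb p chart V.1 V.2 ⁻¹ᵁ W) s ⟨_, hy'⟩) := rfl

theorem trans_id (V : BIdx Y) : trans 𝒮 p chart hP n (𝟙 V) = 𝟙 _ := by
  apply Scheme.Modules.hom_ext
  intro W
  apply ConcreteCategory.hom_ext
  intro s
  refine sectN_ext (𝒮.deg V.1 V.2) (U := RelProj.emb p chart V.1 V.2 ⁻¹ᵁ W) _ _ ?_
  rintro ⟨y, hy⟩
  have hy' : (RelProj.emb p chart V.1 V.2).base (ProjectiveSpectrum.comap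
      (𝒮.res V.2 V.2 (le_of_bhom (𝟙 V))) (irr_of_bhom 𝒮 (𝟙 V)) y) ∈ W :=
    (emb_comap' 𝒮 p chart hP (𝟙 V) y).symm ▸ hy
  refine (trans_val 𝒮 p chart hP n (𝟙 V) W s y hy hy').trans ?_
  exact val_id n _ _ (res_id 𝒮 V.1 V.2) (RelProj.emb p chart V.1 V.2 ⁻¹ᵁ W)
    (toSectN _ (U := RelProj.emb p chart V.1 V.2 ⁻¹ᵁ W) s) y hy hy'

theorem trans_comp {Z' Z V : BIdx Y} (k : Z' ⟶ Z) (g : Z ⟶ V) :
    trans 𝒮 p chart hP n (k ≫ g) = trans 𝒮 p chart hP n g ≫ trans 𝒮 p chart hP n k := by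
  apply Scheme.Modules.hom_ext
  intro W
  apply ConcreteCategory.hom_ext
  intro s
  refine sectN_ext (𝒮.deg Z'.1 Z'.2) (U := RelProj.emb p chart Z'.1 Z'.2 ⁻¹ᵁ W) _ _ ?_
  rintro ⟨y, hy⟩
  have hy₃ : (RelProj.emb p chart V.1 V.2).base (ProjectiveSpectrum.comap
      (𝒮.res V.2 Z'.2 (le_of_bhom (k ≫ g))) (irr_of_bhom 𝒮 (k ≫ g)) y) ∈ W :=
    (emb_comap' 𝒮 p chart hP (k ≫ g) y).symm ▸ hy
  have hy₂ : (RelProj.emb p chart Z.1 Z.2).base (ProjectiveSpectrum.comap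
      (𝒮.res Z.2 Z'.2 (le_of_bhom k)) (irr_of_bhom 𝒮 k) y) ∈ W :=
    (emb_comap' 𝒮 p chart hP k y).symm ▸ hy
  have hy₁₂ : (RelProj.emb p chart V.1 V.2).base (ProjectiveSpectrum.comap
      (𝒮.res V.2 Z.2 (le_of_bhom g)) (irr_of_bhom 𝒮 g) (ProjectiveSpectrum.comap
      (𝒮.res Z.2 Z'.2 (le_of_bhom k)) (irr_of_bhom 𝒮 k) y)) ∈ W :=
    (emb_comap' 𝒮 p chart hP g _).symm ▸ hy₂
  refine (trans_val 𝒮 p chart hP n (k ≫ g) W s y hy hy₃).trans ?_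
  refine Eq.trans ?_ (trans_val 𝒮 p chart hP n k W ((trans 𝒮 p chart hP n g).app W s) y hy
    hy₂).symm
  refine Eq.trans ?_ (congrArg (GrTwist.locMap (𝒮.res Z.2 Z'.2 (le_of_bhom k))
    (irr_of_bhom 𝒮 k) y) (trans_val 𝒮 p chart hP n g W s _ hy₂ hy₁₂)).symm
  exact val_comp n _ _ _ _ _ _ (res_comp 𝒮 V.2 Z.2 Z'.2 (le_of_bhom g) (le_of_bhom k))
    (RelProj.emb p chart V.1 V.2 ⁻¹ᵁ W)
    (toSectN _ (U := RelProj.emb p chart V.1 V.2 ⁻¹ᵁ W) s) y hy₃ hy₁₂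

/-- The system of chart modules. -/
def Φ : (BIdx Y)ᵒᵖ ⥤ P.Modules where
  obj V := obj 𝒮 p chart n V.unop
  map f := trans 𝒮 p chart hP n f.unop
  map_id V := trans_id 𝒮 p chart hP n V.unop
  map_comp f g := trans_comp 𝒮 p chart hP n g.unop f.unop

theorem preimage_le_iSup (V : BIdx Y) (W : P.Opens) (I : Type u) (Wi : I → P.Opens)
    (hcov : W ⊓ p ⁻¹ᵁ V.1 ≤ ⨆ i, Wi i) :
    RelProj.emb p chart V.1 V.2 ⁻¹ᵁ W ≤ ⨆ i, RelProj.emb p chart V.1 V.2 ⁻¹ᵁ (Wi i) := by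
  intro x hx
  have hx2 : (RelProj.emb p chart V.1 V.2).base x ∈ p ⁻¹ᵁ V.1 := by
    have : (RelProj.emb p chart V.1 V.2).base x ∈ Set.range (RelProj.emb p chart V.1 V.2) :=
      ⟨x, rfl⟩
    rw [Groth.Agent.Lib.helper28.RelTwistChart.range_emb] at this
    exact this
  obtain ⟨i, hi⟩ := Opens.mem_iSup.mp (hcov ⟨hx, hx2⟩)
  exact Opens.mem_iSup.mpr ⟨i, hi⟩

theorem isChartSys : IsChartSys p (Φ 𝒮 p chart hP n) where
  sep V W I Wi hle hcov s s' hs := by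
    refine (ModSec.sheaf (GrTwist.twist (𝒮.deg V.1 V.2) n)).eq_of_locally_eq'
      (fun i => RelProj.emb p chart V.1 V.2 ⁻¹ᵁ (Wi i)) (RelProj.emb p chart V.1 V.2 ⁻¹ᵁ W)
      (fun i => homOfLE (fun x hx => hle i hx)) (preimage_le_iSup 𝒮 p chart V W I Wi hcov) s s' ?_
    intro i
    exact hs i
  glue V W I Wi hle hcov σ hσ := by
    obtain ⟨s, hs, -⟩ := (ModSec.sheaf (GrTwist.twist (𝒮.deg V.1 V.2) n)).existsUnique_gluing'
      (fun i => RelProj.emb p chart V.1 V.2 ⁻¹ᵁ (Wi i)) (RelProj.emb p chart V.1 V.2 ⁻¹ᵁ W)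
      (fun i => homOfLE (fun x hx => hle i hx)) (preimage_le_iSup 𝒮 p chart V W I Wi hcov) σ
      (fun i j => hσ i j)
    exact ⟨s, fun i => hs i⟩
  bij {Z V} f W₀ hW₀ := by
    obtain ⟨r, hr, hloc⟩ := isLocAt_of_bhom 𝒮 f
    have hN : ((RelProj.emb p chart V.1 V.2 ⁻¹ᵁ W₀ : (Proj (𝒮.deg V.1 V.2)).Opens) :
        Set (Proj (𝒮.deg V.1 V.2))) ⊆
        Set.range (Proj.map (𝒮.res V.2 Z.2 (le_of_bhom f)) (irr_of_bhom 𝒮 f)).base := by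
      intro x hx
      have hx2 : (RelProj.emb p chart V.1 V.2).base x ∈
          Set.range (RelProj.emb p chart Z.1 Z.2) := by
        rw [Groth.Agent.Lib.helper28.RelTwistChart.range_emb]
        exact hW₀ hx
      obtain ⟨y, hy⟩ := hx2
      refine ⟨y, ?_⟩
      apply (RelProj.emb p chart V.1 V.2).isOpenEmbedding.injective
      rw [← hy]
      exact emb_comap' 𝒮 p chart hP f y
    have h1 : IsIso ((GrTwist.comap (𝒮.res V.2 Z.2 (le_of_bhom f)) (irr_of_bhom 𝒮 f) n).app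
        (RelProj.emb p chart V.1 V.2 ⁻¹ᵁ W₀)) :=
      (ConcreteCategory.isIso_iff_bijective _).mpr
        (comap_app_bijective hloc (irr_of_bhom 𝒮 f) n _ hN)
    have h2 : (rho (Φ 𝒮 p chart hP n) f).app W₀ =
        (GrTwist.comap (𝒮.res V.2 Z.2 (le_of_bhom f)) (irr_of_bhom 𝒮 f) n).app
          (RelProj.emb p chart V.1 V.2 ⁻¹ᵁ W₀) ≫
        (GrTwist.twist (𝒮.deg Z.1 Z.2) n).presheaf.map
          (eqToHom (by rw [← map_emb 𝒮 p chart hP f]; rfl)).op := rfl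
    rw [h2]
    have h3 : IsIso ((GrTwist.twist (𝒮.deg Z.1 Z.2) n).presheaf.map
        (eqToHom (show op (Proj.map (𝒮.res V.2 Z.2 (le_of_bhom f)) (irr_of_bhom 𝒮 f) ⁻¹ᵁ
          (RelProj.emb p chart V.1 V.2 ⁻¹ᵁ W₀)) = op (RelProj.emb p chart Z.1 Z.2 ⁻¹ᵁ W₀) by
            rw [← map_emb 𝒮 p chart hP f]; rfl))) := inferInstance
    exact (ConcreteCategory.isIso_iff_bijective _).mp (@IsIso.comp_isIso _ _ _ _ _ _ _ h1 h3)

/-- The twisting sheaf `O_P(n)`. -/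
def relTwist : P.Modules := limit (Φ 𝒮 p chart hP n)

/-- Its chartwise identifications. -/
def relLam (U : Y.Opens) (hU : IsAffineOpen U) :
    relTwist 𝒮 p chart hP n ⟶
      (Scheme.Modules.pushforward (RelProj.emb p chart U hU)).obj (GrTwist.twist (𝒮.deg U hU) n) :=
  limit.π (Φ 𝒮 p chart hP n) (op (BIdx.mk U hU))

theorem isRelTwist :
    RelProj.IsRelTwist 𝒮 p chart n (relTwist 𝒮 p chart hP n) (relLam 𝒮 p chart hP n) where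
  bijective U hU W hW :=
    bijective_limit_π (isChartSys 𝒮 p chart hP n) (BIdx.mk U hU) W hW
  compat U hU r W s y hy hy' := by
    have hw : (relLam 𝒮 p chart hP n (Y.basicOpen r) (hU.basicOpen r)).app W s =
        (trans 𝒮 p chart hP n (bhom U hU r)).app W ((relLam 𝒮 p chart hP n U hU).app W s) := by
      have := limit.w (Φ 𝒮 p chart hP n) (bhom U hU r).op
      unfold relLam
      rw [← this]
      rfl
    rw [hw]
    exact trans_val 𝒮 p chart hP n (bhom U hU r) W _ y hy hy'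

include hP in
theorem exists_isRelTwist :
    ∃ (L : P.Modules) (lam : ∀ (U : Y.Opens) (hU : IsAffineOpen U),
      L ⟶ (Scheme.Modules.pushforward (RelProj.emb p chart U hU)).obj
        (GrTwist.twist (𝒮.deg U hU) n)),
      RelProj.IsRelTwist 𝒮 p chart n L lam :=
  ⟨_, _, isRelTwist 𝒮 p chart hP n⟩

end Groth.Agent.Lib.helper28.RelTwistExists
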