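import Groth.Agent.Lib.Helper28.ProjQGlue2

/-!
# Composition: `Proj(u ∘ v) = Proj(v) ∘ Proj(u)` on `G(u ∘ v)` (helper28)

`v : 𝒯 → 𝒮` a graded homomorphism on `S`, `u : 𝒮 → g_* 𝒮'` a graded `g`-morphism, `u'` their
composite (`hu' : ∀ U, u'.app U = v.hom.app (op U) ≫ u.app U`).

* `awayMapTo ψ f x ex : A_(f) → B_(x)` for `ψ f = x`; `awayMapTo_comp`.
* `isProjQMapOn_iff`: `IsProjQMapOn … (domQ …) v'` iff the standard-chart equations of `ProjQGlue`.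
* `range_subset_domQ_of_eq`, `chart_eq_of_eq`: standard charts / chart equations for a
  homomorphism propositionally equal to `u_{U,U'}` and an element equal to `u f`.
* `gradedAt_comp_eq`, `domQ_comp_le : G(u') ≤ G(u)`, `stdChart_homOfLE_r`,
  `liftToDom : G(u') ⟶ G(v)` (`liftToDom_ι`), **`liftToDom_comp : liftToDom ≫ Proj(v) = Proj(u')`**.
-/

set_option autoImplicit false
universe u

namespace Groth.Agent.Lib.helper28.ProjQComp

open CategoryTheory CategoryTheory.Limits AlgebraicGeometry TopologicalSpace Opposite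
open HomogeneousLocalization
open scoped HomogeneousIdeal
open Groth.Agent.Lib.helper28.RelSpecMap Groth.Agent.Lib.helper28.RelTwistChart
open Groth.Agent.Lib.helper28.RelProjPair Groth.Agent.Lib.helper28.ProjQGlue

section Ring

variable {A B C σ τ υ : Type u} [CommRing A] [SetLike σ A] [AddSubgroupClass σ A]
  [CommRing B] [SetLike τ B] [AddSubgroupClass τ B]
  [CommRing C] [SetLike υ C] [AddSubgroupClass υ C]
  {𝒜 : ℕ → σ} {ℬ : ℕ → τ} {𝒞 : ℕ → υ} [GradedRing 𝒜] [GradedRing ℬ] [GradedRing 𝒞]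

/-- `A_(f) → B_(x)` induced by `ψ` when `ψ f = x`. -/
noncomputable def awayMapTo (ψ : 𝒜 →+*ᵍ ℬ) (f : A) (x : B) (ex : ψ f = x) :
    Away 𝒜 f →+* Away ℬ x :=
  HomogeneousLocalization.map ψ (by
    subst ex
    rintro _ ⟨n, rfl⟩
    exact ⟨n, by simp⟩)

theorem awayMapTo_rfl (ψ : 𝒜 →+*ᵍ ℬ) (f : A) : awayMapTo ψ f (ψ f) rfl = Away.map ψ f := rfl

theorem awayMapTo_comp (ν : 𝒜 →+*ᵍ ℬ) (ψ : ℬ →+*ᵍ 𝒞) (ψ' : 𝒜 →+*ᵍ 𝒞) (e : ψ' = ψ.comp ν) (t : A)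
    (ex : ψ (ν t) = ψ' t) :
    (awayMapTo ψ (ν t) (ψ' t) ex).comp (Away.map ν t) = Away.map ψ' t := by
  subst e
  exact (Away.map_comp ν ψ t).symm

end Ring

section Geom

variable {S S' : Scheme.{u}} {g : S' ⟶ S} {𝒮 : RelProj.QCGrAlg S} {𝒮' : RelProj.QCGrAlg S'}
  (u : RelProj.QGrHom g 𝒮 𝒮')
  {P : Scheme.{u}} {p : P ⟶ S}
  {chart : ∀ (U : S.Opens) (hU : IsAffineOpen U),
    (((p ⁻¹ᵁ U : P.Opens) : Scheme.{u}) ≅ Proj (𝒮.deg U hU))}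
  {P' : Scheme.{u}} {p' : P' ⟶ S'}
  {chart' : ∀ (U' : S'.Opens) (hU' : IsAffineOpen U'),
    (((p' ⁻¹ᵁ U' : P'.Opens) : Scheme.{u}) ≅ Proj (𝒮'.deg U' hU'))}

/-- `IsProjQMapOn` on `G(u)` in terms of the standard charts. -/
theorem isProjQMapOn_iff (v' : ((RelProj.domQ u p' chart' : P'.Opens) : Scheme.{u}) ⟶ P) :
    RelProj.IsProjQMapOn u p chart p' chart' (RelProj.domQ u p' chart') v' ↔
      ∀ (U : S.Opens) (hU : IsAffineOpen U) (U' : S'.Opens) (hU' : IsAffineOpen U')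
        (hle : U' ≤ g ⁻¹ᵁ U) (d : ℕ) (hd : 0 < d) (f : 𝒮.presheaf.obj (op U))
        (hf : f ∈ 𝒮.deg U hU d),
        stdChart u p' chart' U hU U' hU' hle hd f hf ≫ v' =
          tgt u p chart U hU U' hU' hle hd f hf := by
  constructor
  · intro h U hU U' hU' hle d hd f hf
    exact h U hU U' hU' hle d hd f hf
      (RelProj.range_awayEmb_subset_domQ u p' chart' U hU U' hU' hle hd f hf)
  · intro h U hU U' hU' hle d hd f hf hW
    exact h U hU U' hU' hle d hd f hf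

/-- The standard charts land in `G(u)` (form with a homomorphism equal to `u_{U,U'}`). -/
theorem range_subset_domQ_of_eq (U : S.Opens) (hU : IsAffineOpen U) (U' : S'.Opens)
    (hU' : IsAffineOpen U') (hle : U' ≤ g ⁻¹ᵁ U) (ψ : 𝒮.deg U hU →+*ᵍ 𝒮'.deg U' hU')
    (e : u.gradedAt U hU U' hU' hle = ψ) {d : ℕ} (hd : 0 < d) (f : 𝒮.presheaf.obj (op U))
    (hf : f ∈ 𝒮.deg U hU d) (x : 𝒮'.presheaf.obj (op U')) (ex : ψ f = x)
    (hxm : x ∈ 𝒮'.deg U' hU' d) :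
    Set.range (Proj.awayι (𝒮'.deg U' hU') x hxm hd ≫ RelProj.emb p' chart' U' hU').base ⊆
      Set.range (RelProj.domQ u p' chart').ι.base := by
  subst e
  subst ex
  exact RelProj.range_awayEmb_subset_domQ u p' chart' U hU U' hU' hle hd f hf

/-- The chart equations of `Proj(u)`, in a form allowing a homomorphism equal to `u_{U,U'}` and
an element equal to `u f`. -/
theorem chart_eq_of_eq (v' : ((RelProj.domQ u p' chart' : P'.Opens) : Scheme.{u}) ⟶ P)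
    (hv' : ∀ (U : S.Opens) (hU : IsAffineOpen U) (U' : S'.Opens) (hU' : IsAffineOpen U')
      (hle : U' ≤ g ⁻¹ᵁ U) (d : ℕ) (hd : 0 < d) (f : 𝒮.presheaf.obj (op U))
      (hf : f ∈ 𝒮.deg U hU d),
      stdChart u p' chart' U hU U' hU' hle hd f hf ≫ v' = tgt u p chart U hU U' hU' hle hd f hf)
    (U : S.Opens) (hU : IsAffineOpen U) (U' : S'.Opens)
    (hU' : IsAffineOpen U') (hle : U' ≤ g ⁻¹ᵁ U) (ψ : 𝒮.deg U hU →+*ᵍ 𝒮'.deg U' hU')
    (e : u.gradedAt U hU U' hU' hle = ψ) {d : ℕ} (hd : 0 < d) (f : 𝒮.presheaf.obj (op U))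
    (hf : f ∈ 𝒮.deg U hU d) (x : 𝒮'.presheaf.obj (op U')) (ex : ψ f = x)
    (hxm : x ∈ 𝒮'.deg U' hU' d)
    (c : Spec (CommRingCat.of (Away (𝒮'.deg U' hU') x)) ⟶
      ((RelProj.domQ u p' chart' : P'.Opens) : Scheme.{u}))
    (hc : c ≫ (RelProj.domQ u p' chart').ι =
      Proj.awayι (𝒮'.deg U' hU') x hxm hd ≫ RelProj.emb p' chart' U' hU') :
    c ≫ v' = Spec.map (CommRingCat.ofHom (awayMapTo ψ f x ex)) ≫
      Proj.awayι (𝒮.deg U hU) f hf hd ≫ RelProj.emb p chart U hU := by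
  subst e
  subst ex
  have hcs : c = stdChart u p' chart' U hU U' hU' hle hd f hf := by
    rw [← cancel_mono (RelProj.domQ u p' chart').ι, hc, stdChart_ι]
    rfl
  rw [hcs, hv']
  rfl

end Geom

section Comp

variable {S S' : Scheme.{u}} {g : S' ⟶ S} {𝒯 𝒮 : RelProj.QCGrAlg S} {𝒮' : RelProj.QCGrAlg S'}
  (v : 𝒯.toQCAlg ⟶ 𝒮.toQCAlg) (hv : RelProj.IsGradedHom v)
  (u : RelProj.QGrHom g 𝒮 𝒮') (u' : RelProj.QGrHom g 𝒯 𝒮')
  (hu' : ∀ U : S.Opens, u'.app U = v.hom.app (op U) ≫ u.app U)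
  {PT : Scheme.{u}} {pT : PT ⟶ S}
  {chartT : ∀ (U : S.Opens) (hU : IsAffineOpen U),
    (((pT ⁻¹ᵁ U : PT.Opens) : Scheme.{u}) ≅ Proj (𝒯.deg U hU))}
  {P : Scheme.{u}} {p : P ⟶ S}
  {chart : ∀ (U : S.Opens) (hU : IsAffineOpen U),
    (((p ⁻¹ᵁ U : P.Opens) : Scheme.{u}) ≅ Proj (𝒮.deg U hU))}
  {P' : Scheme.{u}} {p' : P' ⟶ S'}
  {chart' : ∀ (U' : S'.Opens) (hU' : IsAffineOpen U'),
    (((p' ⁻¹ᵁ U' : P'.Opens) : Scheme.{u}) ≅ Proj (𝒮'.deg U' hU'))}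

include hu' in
theorem gradedAt_comp_eq (U : S.Opens) (hU : IsAffineOpen U) (U' : S'.Opens)
    (hU' : IsAffineOpen U') (hle : U' ≤ g ⁻¹ᵁ U) :
    u'.gradedAt U hU U' hU' hle =
      (u.gradedAt U hU U' hU' hle).comp (RelProj.gradedHomAt v hv U hU) := by
  apply GradedRingHom.ext
  intro x
  change (u'.appLE U U' hle).hom x = (u.appLE U U' hle).hom ((v.hom.app (op U)).hom x)
  rw [RelSpec.QHom.appLE, RelSpec.QHom.appLE, hu' U]
  rfl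

include hv hu' in
/-- `G(u ∘ v) ⊆ G(u)`. -/
theorem domQ_comp_le : RelProj.domQ u' p' chart' ≤ RelProj.domQ u p' chart' := by
  intro X hX
  obtain ⟨V, hV⟩ := Opens.mem_iSup.mp hX
  obtain ⟨y, hy, hyX⟩ := hV
  obtain ⟨d, hd, t, ht, hty⟩ := exists_homogeneous_of_mem_domOpen _ y hy
  refine Opens.mem_iSup.mpr ⟨V, ⟨y, ?_, hyX⟩⟩
  refine (RelCone.mem_domOpen _ y).mpr ⟨RelProj.gradedHomAt v hv V.1.1.1 V.1.1.2 t,
    HomogeneousIdeal.mem_irrelevant_of_mem _ hd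
      ((RelProj.gradedHomAt v hv V.1.1.1 V.1.1.2).map_mem ht), ?_⟩
  rw [gradedAt_comp_eq v hv u u' hu' V.1.1.1 V.1.1.2 V.1.2.1 V.1.2.2 V.2] at hty
  exact hty

variable (r : ((RelProj.domQ u p' chart' : P'.Opens) : Scheme.{u}) ⟶ P)
  (hr : ∀ (U : S.Opens) (hU : IsAffineOpen U) (U' : S'.Opens) (hU' : IsAffineOpen U')
    (hle : U' ≤ g ⁻¹ᵁ U) (d : ℕ) (hd : 0 < d) (f : 𝒮.presheaf.obj (op U))
    (hf : f ∈ 𝒮.deg U hU d),
    stdChart u p' chart' U hU U' hU' hle hd f hf ≫ r = tgt u p chart U hU U' hU' hle hd f hf)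

include hr in
/-- `Proj(u)` on a standard chart of `G(u ∘ v)`. -/
theorem stdChart_homOfLE_r (U : S.Opens) (hU : IsAffineOpen U) (U' : S'.Opens)
    (hU' : IsAffineOpen U') (hle : U' ≤ g ⁻¹ᵁ U) {d : ℕ} (hd : 0 < d)
    (t : 𝒯.presheaf.obj (op U)) (ht : t ∈ 𝒯.deg U hU d)
    (ex : u.gradedAt U hU U' hU' hle (RelProj.gradedHomAt v hv U hU t) =
      u'.gradedAt U hU U' hU' hle t) :
    stdChart u' p' chart' U hU U' hU' hle hd t ht ≫
        P'.homOfLE (domQ_comp_le v hv u u' hu') ≫ r =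
      Spec.map (CommRingCat.ofHom (awayMapTo (u.gradedAt U hU U' hU' hle)
        (RelProj.gradedHomAt v hv U hU t) (u'.gradedAt U hU U' hU' hle t) ex)) ≫
        Proj.awayι (𝒮.deg U hU) (RelProj.gradedHomAt v hv U hU t)
          ((RelProj.gradedHomAt v hv U hU).map_mem ht) hd ≫ RelProj.emb p chart U hU := by
  rw [← Category.assoc]
  refine chart_eq_of_eq u r hr U hU U' hU' hle _ rfl hd (RelProj.gradedHomAt v hv U hU t)
    ((RelProj.gradedHomAt v hv U hU).map_mem ht) (u'.gradedAt U hU U' hU' hle t) ex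
    ((u'.gradedAt U hU U' hU' hle).map_mem ht) _ ?_
  rw [Category.assoc, Scheme.homOfLE_ι, stdChart_ι]
  rfl

include hr in
theorem range_homOfLE_r_subset :
    Set.range (P'.homOfLE (domQ_comp_le v hv u u' hu') ≫ r).base ⊆
      Set.range (RelProj.domQ (RelProj.QGrHom.ofHom v hv) p chart).ι.base := by
  rintro _ ⟨z, rfl⟩
  obtain ⟨i, w, rfl⟩ := exists_mem_range_stdChart u' p' chart' z
  have ex : u.gradedAt i.Q.U i.Q.hU i.Q.U' i.Q.hU' i.Q.hle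
      (RelProj.gradedHomAt v hv i.Q.U i.Q.hU i.f) =
      u'.gradedAt i.Q.U i.Q.hU i.Q.U' i.Q.hU' i.Q.hle i.f := by
    rw [gradedAt_comp_eq v hv u u' hu']
    rfl
  rw [← Scheme.Hom.comp_apply,
    stdChart_homOfLE_r v hv u u' hu' r hr i.Q.U i.Q.hU i.Q.U' i.Q.hU' i.Q.hle i.hd i.f i.hf ex]
  have hle' : i.Q.U ≤ (𝟙 S) ⁻¹ᵁ i.Q.U := le_rfl
  apply range_subset_domQ_of_eq (RelProj.QGrHom.ofHom v hv) i.Q.U i.Q.hU i.Q.U i.Q.hU hle'
    (RelProj.gradedHomAt v hv i.Q.U i.Q.hU) (ofHom_gradedAt_self v hv i.Q.U i.Q.hU hle') i.hd i.f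
    i.hf (RelProj.gradedHomAt v hv i.Q.U i.Q.hU i.f) rfl
    ((RelProj.gradedHomAt v hv i.Q.U i.Q.hU).map_mem i.hf)
  rw [Scheme.Hom.comp_apply]
  exact ⟨_, rfl⟩

/-- `Proj(u)`, restricted to `G(u ∘ v)`, as a morphism into `G(v)`. -/
noncomputable def liftToDom :
    ((RelProj.domQ u' p' chart' : P'.Opens) : Scheme.{u}) ⟶
      ((RelProj.domQ (RelProj.QGrHom.ofHom v hv) p chart : P.Opens) : Scheme.{u}) :=
  IsOpenImmersion.lift (RelProj.domQ (RelProj.QGrHom.ofHom v hv) p chart).ι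
    (P'.homOfLE (domQ_comp_le v hv u u' hu') ≫ r) (range_homOfLE_r_subset v hv u u' hu' r hr)

theorem liftToDom_ι :
    liftToDom v hv u u' hu' r hr ≫ (RelProj.domQ (RelProj.QGrHom.ofHom v hv) p chart).ι =
      P'.homOfLE (domQ_comp_le v hv u u' hu') ≫ r :=
  IsOpenImmersion.lift_fac _ _ _

/-- **`Proj(u ∘ v) = Proj(v) ∘ Proj(u)`** on `G(u ∘ v)`. -/
theorem liftToDom_comp
    (Φ : ((RelProj.domQ (RelProj.QGrHom.ofHom v hv) p chart : P.Opens) : Scheme.{u}) ⟶ PT)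
    (hΦ : ∀ (U : S.Opens) (hU : IsAffineOpen U) (U' : S.Opens) (hU' : IsAffineOpen U')
      (hle : U' ≤ (𝟙 S) ⁻¹ᵁ U) (d : ℕ) (hd : 0 < d) (f : 𝒯.presheaf.obj (op U))
      (hf : f ∈ 𝒯.deg U hU d),
      stdChart (RelProj.QGrHom.ofHom v hv) p chart U hU U' hU' hle hd f hf ≫ Φ =
        tgt (RelProj.QGrHom.ofHom v hv) pT chartT U hU U' hU' hle hd f hf)
    (r' : ((RelProj.domQ u' p' chart' : P'.Opens) : Scheme.{u}) ⟶ PT)
    (hr' : ∀ (U : S.Opens) (hU : IsAffineOpen U) (U' : S'.Opens) (hU' : IsAffineOpen U')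
      (hle : U' ≤ g ⁻¹ᵁ U) (d : ℕ) (hd : 0 < d) (f : 𝒯.presheaf.obj (op U))
      (hf : f ∈ 𝒯.deg U hU d),
      stdChart u' p' chart' U hU U' hU' hle hd f hf ≫ r' =
        tgt u' pT chartT U hU U' hU' hle hd f hf) :
    liftToDom v hv u u' hu' r hr ≫ Φ = r' := by
  apply hom_ext_of_local
  intro z
  obtain ⟨i, hi⟩ := exists_mem_range_stdChart u' p' chart' z
  refine ⟨_, stdChart u' p' chart' i.Q.U i.Q.hU i.Q.U' i.Q.hU' i.Q.hle i.hd i.f i.hf,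
    inferInstance, hi, ?_⟩
  have ex : u.gradedAt i.Q.U i.Q.hU i.Q.U' i.Q.hU' i.Q.hle
      (RelProj.gradedHomAt v hv i.Q.U i.Q.hU i.f) =
      u'.gradedAt i.Q.U i.Q.hU i.Q.U' i.Q.hU' i.Q.hle i.f := by
    rw [gradedAt_comp_eq v hv u u' hu']
    rfl
  have hle' : i.Q.U ≤ (𝟙 S) ⁻¹ᵁ i.Q.U := le_rfl
  have hrange := range_subset_domQ_of_eq (RelProj.QGrHom.ofHom v hv) (p' := p) (chart' := chart)
    i.Q.U i.Q.hU i.Q.U i.Q.hU hle'
    (RelProj.gradedHomAt v hv i.Q.U i.Q.hU) (ofHom_gradedAt_self v hv i.Q.U i.Q.hU hle') i.hd i.f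
    i.hf (RelProj.gradedHomAt v hv i.Q.U i.Q.hU i.f) rfl
    ((RelProj.gradedHomAt v hv i.Q.U i.Q.hU).map_mem i.hf)
  set c₀ := IsOpenImmersion.lift (RelProj.domQ (RelProj.QGrHom.ofHom v hv) p chart).ι _ hrange
    with hc₀
  have hc₀ι : c₀ ≫ (RelProj.domQ (RelProj.QGrHom.ofHom v hv) p chart).ι =
      Proj.awayι (𝒮.deg i.Q.U i.Q.hU) (RelProj.gradedHomAt v hv i.Q.U i.Q.hU i.f)
        ((RelProj.gradedHomAt v hv i.Q.U i.Q.hU).map_mem i.hf) i.hd ≫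
        RelProj.emb p chart i.Q.U i.Q.hU := IsOpenImmersion.lift_fac _ _ _
  have h1 : stdChart u' p' chart' i.Q.U i.Q.hU i.Q.U' i.Q.hU' i.Q.hle i.hd i.f i.hf ≫
      liftToDom v hv u u' hu' r hr =
      Spec.map (CommRingCat.ofHom (awayMapTo (u.gradedAt i.Q.U i.Q.hU i.Q.U' i.Q.hU' i.Q.hle)
        (RelProj.gradedHomAt v hv i.Q.U i.Q.hU i.f)
        (u'.gradedAt i.Q.U i.Q.hU i.Q.U' i.Q.hU' i.Q.hle i.f) ex)) ≫ c₀ := by
    rw [← cancel_mono (RelProj.domQ (RelProj.QGrHom.ofHom v hv) p chart).ι, Category.assoc,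
      liftToDom_ι, Category.assoc, hc₀ι]
    exact stdChart_homOfLE_r v hv u u' hu' r hr i.Q.U i.Q.hU i.Q.U' i.Q.hU' i.Q.hle i.hd i.f i.hf ex
  have h2 := chart_eq_of_eq (RelProj.QGrHom.ofHom v hv) Φ hΦ i.Q.U i.Q.hU i.Q.U i.Q.hU hle'
    (RelProj.gradedHomAt v hv i.Q.U i.Q.hU) (ofHom_gradedAt_self v hv i.Q.U i.Q.hU hle') i.hd i.f
    i.hf (RelProj.gradedHomAt v hv i.Q.U i.Q.hU i.f) rfl
    ((RelProj.gradedHomAt v hv i.Q.U i.Q.hU).map_mem i.hf) c₀ hc₀ι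
  rw [← Category.assoc, h1, Category.assoc, h2, hr', ← Category.assoc, ← Spec.map_comp,
    ← CommRingCat.ofHom_comp, awayMapTo_rfl,
    awayMapTo_comp _ _ _ (gradedAt_comp_eq v hv u u' hu' i.Q.U i.Q.hU i.Q.U' i.Q.hU' i.Q.hle)]
  rfl

end Comp

end Groth.Agent.Lib.helper28.ProjQComp
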