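import Groth.Agent.Lib.Helper28.ProjQComp3

set_option autoImplicit false
universe u

namespace Groth.Agent.Lib.helper28.ProjQComp

open CategoryTheory CategoryTheory.Limits AlgebraicGeometry TopologicalSpace Opposite
open HomogeneousLocalization
open scoped HomogeneousIdeal
open Groth.Agent.Lib.helper28.RelSpecMap Groth.Agent.Lib.helper28.RelTwistChart
open Groth.Agent.Lib.helper28.RelProjPair Groth.Agent.Lib.helper28.ProjQGlue

section RingDom

variable {A σ : Type u} [CommRing A] [SetLike σ A] [AddSubgroupClass σ A]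
  (𝒜 : ℕ → σ) [GradedRing 𝒜]

/-- `A_(f)` is nontrivial when `f` is not nilpotent. -/
theorem nontrivial_away_of_not_isNilpotent (f : A) (hf : ¬ IsNilpotent f) :
    Nontrivial (Away 𝒜 f) := by
  refine ⟨⟨0, 1, fun h => hf ?_⟩⟩
  have h1 : (0 : Away 𝒜 f).val = (1 : Away 𝒜 f).val := congrArg _ h
  rw [HomogeneousLocalization.val_zero, HomogeneousLocalization.val_one] at h1
  obtain ⟨c, hc⟩ := (IsLocalization.eq_iff_exists (Submonoid.powers f) (Localization.Away f)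
    (x := 0) (y := 1)).mp (by simpa using h1)
  obtain ⟨n, hn⟩ := c.2
  refine ⟨n, ?_⟩
  have hn' : f ^ n = (c : A) := hn
  rw [hn']
  simpa using hc.symm

/-- `D₊(f)` has a point when `f` is not nilpotent. -/
theorem nonempty_spec_away_of_not_isNilpotent (f : A) (hf : ¬ IsNilpotent f) :
    Nonempty (Spec (CommRingCat.of (Away 𝒜 f))) := by
  have := nontrivial_away_of_not_isNilpotent 𝒜 f hf
  obtain ⟨m, hm⟩ := Ideal.exists_maximal (Away 𝒜 f)
  exact ⟨(⟨m, hm.isPrime⟩ : PrimeSpectrum (Away 𝒜 f))⟩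

theorem not_isNilpotent_of_notMem (y : Proj 𝒜) (f : A) (hf : f ∉ y.asHomogeneousIdeal) :
    ¬ IsNilpotent f := by
  rintro ⟨n, hn⟩
  apply hf
  have : f ^ n ∈ y.asHomogeneousIdeal.toIdeal := by rw [hn]; exact Ideal.zero_mem _
  exact y.isPrime.mem_of_pow_mem n this

/-- Homogeneous elements of positive degree give a basis of `Proj`. -/
theorem exists_homogeneous_basicOpen_le (W : (Proj 𝒜).Opens) (y : Proj 𝒜) (hy : y ∈ W) :
    ∃ (d : ℕ) (_ : 0 < d) (t : A) (_ : t ∈ 𝒜 d), t ∉ y.asHomogeneousIdeal ∧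
      Proj.basicOpen 𝒜 t ≤ W := by
  obtain ⟨_, ⟨_, ⟨a, rfl⟩, rfl⟩, hya, haW⟩ :=
    (Proj.isBasis_basicOpen 𝒜).exists_subset_of_mem_open hy W.2
  have hya' : y ∈ Proj.basicOpen 𝒜 a := hya
  rw [Proj.basicOpen_eq_iSup_proj, Opens.mem_iSup] at hya'
  obtain ⟨i, hi⟩ := hya'
  obtain ⟨e, g, he, hg, hgy⟩ := exists_pos_notMem 𝒜 y
  refine ⟨i + e, by omega, GradedRing.proj 𝒜 i a * g, ?_, ?_, ?_⟩
  · exact SetLike.mul_mem_graded (SetLike.coe_mem _) hg
  · intro h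
    rcases y.isPrime.mem_or_mem h with h | h
    · exact hi h
    · exact hgy h
  · rw [Proj.basicOpen_mul]
    refine le_trans inf_le_left ?_
    intro z hz
    apply haW
    have : z ∈ Proj.basicOpen 𝒜 a := by
      rw [Proj.basicOpen_eq_iSup_proj, Opens.mem_iSup]
      exact ⟨i, hz⟩
    exact this

end RingDom

section CompDom

variable {S S' : Scheme.{u}} {g : S' ⟶ S} {𝒯 𝒮 : RelProj.QCGrAlg S} {𝒮' : RelProj.QCGrAlg S'}
  (v : 𝒯.toQCAlg ⟶ 𝒮.toQCAlg) (hv : RelProj.IsGradedHom v)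
  (u : RelProj.QGrHom g 𝒮 𝒮') (u' : RelProj.QGrHom g 𝒯 𝒮')
  (hu' : ∀ U : S.Opens, u'.app U = v.hom.app (op U) ≫ u.app U)
  {PT : Scheme.{u}} {pT : PT ⟶ S}
  {chartT : ∀ (U : S.Opens) (hU : IsAffineOpen U),
    (((pT ⁻¹ᵁ U : PT.Opens) : Scheme.{u}) ≅ Proj (𝒯.deg U hU))}
  {P : Scheme.{u}} {p : P ⟶ S}
  {chart : ∀ (U : S.Opens) (hU : IsAffineOpen U),
    (((p ⁻¹ᵁ U : P.Opens) : Scheme.{u}) ≅ Proj (𝒮.deg U hU))}
  {P' : Scheme.{u}} {p' : P' ⟶ S'}
  {chart' : ∀ (U' : S'.Opens) (hU' : IsAffineOpen U'),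
    (((p' ⁻¹ᵁ U' : P'.Opens) : Scheme.{u}) ≅ Proj (𝒮'.deg U' hU'))}

include hv hu' in
/-- If `v` is (TN)-injective and `Proj(u)` is dominant, then `Proj(u ∘ v)` is dominant. -/
theorem isDominant_of_tnInjective (hP : RelProj.IsRelProj 𝒮 p chart)
    (hP' : RelProj.IsRelProj 𝒮' p' chart')
    (r : ((RelProj.domQ u p' chart' : P'.Opens) : Scheme.{u}) ⟶ P)
    (hr : ∀ (U : S.Opens) (hU : IsAffineOpen U) (U' : S'.Opens) (hU' : IsAffineOpen U')
      (hle : U' ≤ g ⁻¹ᵁ U) (d : ℕ) (hd : 0 < d) (f : 𝒮.presheaf.obj (op U))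
      (hf : f ∈ 𝒮.deg U hU d),
      stdChart u p' chart' U hU U' hU' hle hd f hf ≫ r = tgt u p chart U hU U' hU' hle hd f hf)
    (r' : ((RelProj.domQ u' p' chart' : P'.Opens) : Scheme.{u}) ⟶ PT)
    (hr' : ∀ (U : S.Opens) (hU : IsAffineOpen U) (U' : S'.Opens) (hU' : IsAffineOpen U')
      (hle : U' ≤ g ⁻¹ᵁ U) (d : ℕ) (hd : 0 < d) (f : 𝒯.presheaf.obj (op U))
      (hf : f ∈ 𝒯.deg U hU d),
      stdChart u' p' chart' U hU U' hU' hle hd f hf ≫ r' =
        tgt u' pT chartT U hU U' hU' hle hd f hf)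
    (hTN : ∃ n : ℕ, ∀ k, n ≤ k → ∀ (U : S.Opens) (hU : IsAffineOpen U), ∀ x ∈ 𝒯.deg U hU k,
      (v.hom.app (op U)).hom x = 0 → x = 0) [IsDominant r] : IsDominant r' := by
  refine ⟨?_⟩
  rw [DenseRange, dense_iff_inter_open]
  rintro W hW ⟨z, hz⟩
  -- a basic open of `PT` inside `W`
  obtain ⟨⟨U, hU⟩, y, rfl⟩ := exists_mem_range_emb pT chartT z
  obtain ⟨d, hd, t, ht, hty, htW⟩ := exists_homogeneous_basicOpen_le (𝒯.deg U hU)
    ((RelProj.emb pT chartT U hU) ⁻¹ᵁ ⟨W, hW⟩) y hz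
  -- `v t` is not nilpotent
  have hnil : ¬ IsNilpotent (RelProj.gradedHomAt v hv U hU t) := by
    rintro ⟨k, hk⟩
    apply not_isNilpotent_of_notMem _ y t hty
    obtain ⟨n, hn⟩ := hTN
    refine ⟨k + n, ?_⟩
    have hmem : t ^ (k + n) ∈ 𝒯.deg U hU ((k + n) • d) := SetLike.pow_mem_graded _ ht
    refine hn ((k + n) • d) ?_ U hU _ hmem ?_
    · rw [smul_eq_mul]
      calc n ≤ k + n := Nat.le_add_left _ _
        _ ≤ (k + n) * d := Nat.le_mul_of_pos_right _ hd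
    · have : (v.hom.app (op U)).hom (t ^ (k + n)) =
          (RelProj.gradedHomAt v hv U hU t) ^ k * (RelProj.gradedHomAt v hv U hU t) ^ n := by
        rw [map_pow, pow_add]
        rfl
      rw [this, hk, zero_mul]
  obtain ⟨w⟩ := nonempty_spec_away_of_not_isNilpotent (𝒮.deg U hU) _ hnil
  have hvt : RelProj.gradedHomAt v hv U hU t ∈ 𝒮.deg U hU d :=
    (RelProj.gradedHomAt v hv U hU).map_mem ht
  -- dominance of `r`
  obtain ⟨_, hxO, ⟨x, rfl⟩⟩ := (dense_iff_inter_open.mp r.denseRange)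
    (Proj.awayι (𝒮.deg U hU) _ hvt hd ≫ RelProj.emb p chart U hU).opensRange
    (Proj.awayι (𝒮.deg U hU) _ hvt hd ≫ RelProj.emb p chart U hU).opensRange.2 ⟨_, ⟨w, rfl⟩⟩
  have hxU : g (p' ((RelProj.domQ u p' chart').ι x)) ∈ U := by
    have e : g (p' ((RelProj.domQ u p' chart').ι x)) = p (r x) := by
      rw [← Scheme.Hom.comp_apply, ← Scheme.Hom.comp_apply, ← Scheme.Hom.comp_apply,
        ← glue_comp_p u hP hP' r hr]
    rw [e]
    obtain ⟨w', hw'⟩ := hxO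
    have : r x ∈ Set.range (RelProj.emb p chart U hU) := by
      rw [← hw', Scheme.Hom.comp_apply]
      exact ⟨_, rfl⟩
    rw [range_emb] at this
    exact this
  obtain ⟨U', hU', hxU', hle⟩ := (Opens.isBasis_iff_nbhd.mp S'.isBasis_affineOpens)
    (show p' ((RelProj.domQ u p' chart').ι x) ∈ g ⁻¹ᵁ U from hxU)
  have hx : x ∈ (stdChart u p' chart' U hU U' hU' hle hd _ hvt).opensRange := by
    rw [← preimage_chart u hP hP' r hr U hU U' hU' hle hd _ hvt]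
    exact ⟨hxO, hxU'⟩
  obtain ⟨w₁, -⟩ := hx
  have ex : u.gradedAt U hU U' hU' hle (RelProj.gradedHomAt v hv U hU t) =
      u'.gradedAt U hU U' hU' hle t := by
    rw [gradedAt_comp_eq v hv u u' hu']
    rfl
  have hne : Nonempty (Spec (CommRingCat.of (Away (𝒮'.deg U' hU')
      (u'.gradedAt U hU U' hU' hle t)))) := by
    rw [← ex]
    exact ⟨w₁⟩
  obtain ⟨w₂⟩ := hne
  refine ⟨r' (stdChart u' p' chart' U hU U' hU' hle hd t ht w₂), ?_, ⟨_, rfl⟩⟩
  have e2 : r' (stdChart u' p' chart' U hU U' hU' hle hd t ht w₂) =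
      (tgt u' pT chartT U hU U' hU' hle hd t ht) w₂ := by
    rw [← Scheme.Hom.comp_apply, hr']
  rw [e2, tgt_apply]
  apply htW
  have : (Proj.awayι (𝒯.deg U hU) t ht hd)
      ((Spec.map (CommRingCat.ofHom (Away.map (u'.gradedAt U hU U' hU' hle) t))) w₂) ∈
      (Proj.awayι (𝒯.deg U hU) t ht hd).opensRange := ⟨_, rfl⟩
  rw [Proj.opensRange_awayι] at this
  exact this

end CompDom

end Groth.Agent.Lib.helper28.ProjQComp
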