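import Groth.Agent.Lib.Helper28.SymLineLocal
import Groth.Agent.Lib.Helper28.SymLineSec
import Groth.Agent.Lib.Helper28.ProjQDom

/-!
# If `L` is `f`-ample then `r_{L,σ}` is an everywhere defined dominant open immersion (helper28)

EGA II 4.6.3: `f : X ⟶ Y` with `L` invertible and `f`-ample, `u : 𝒜 → f_* Sym(L)` bijective over
the affine opens of `Y` (so `𝒜 = ⊕ f_* L^{⊗ n}`), `r = Proj(u) : G(u) ⟶ Proj(𝒜)`.
* `mem_domQ_of_mem_XT`, `exists_affine_XT`.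
* `domQ_eq_top`, `isOpenImmersion`, `isDominant`.
-/

set_option autoImplicit false
set_option linter.style.haveILetI false
universe u
open CategoryTheory AlgebraicGeometry TopologicalSpace Opposite TensorProduct

namespace Groth.Agent.Lib.helper28.SymLineAmpleImm

open Groth.Agent.Lib.helper28.PowMap Groth.Agent.Lib.helper28.SymLinePow
  Groth.Agent.Lib.helper28.SymLineGenLocus Groth.Agent.Lib.helper28.SymLineExtend
  Groth.Agent.Lib.helper28.SymLineLocal Groth.Agent.Lib.helper28.SymLineSec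
open Groth.Agent.Lib.helper12.TwistExtend Groth.Agent.Lib.helper12.AmpleBasis
  Groth.Agent.Lib.helper11.IsoLocus Groth.Agent.Lib.helper11.GenLocus
open Groth.Agent.Lib.helper28.RelTwistChart Groth.Agent.Lib.helper28.ProjQGlue
open Groth.Agent.Lib.helper28
open HomogeneousLocalization

variable {X Y P PL : Scheme.{u}} {f : X ⟶ Y} {𝒜 : RelProj.QCGrAlg Y} {𝒮L : RelProj.QCGrAlg X}
  (u : RelProj.QGrHom f 𝒜 𝒮L)
  {L : X.Modules} [L.IsQuasicoherent] {jL : L ⟶ 𝒮L.toModule}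
  (hjL : RelProj.IsGrSymAlg L 𝒮L jL) (hL : PicF.IsInvertible L)
  {p : P ⟶ Y} {chart : ∀ (U : Y.Opens) (hU : IsAffineOpen U),
    (((p ⁻¹ᵁ U : P.Opens) : Scheme.{u}) ≅ Proj (𝒜.deg U hU))}
  {pL : PL ⟶ X} {chartL : ∀ (U : X.Opens) (hU : IsAffineOpen U),
    (((pL ⁻¹ᵁ U : PL.Opens) : Scheme.{u}) ≅ Proj (𝒮L.deg U hU))}

include hjL in
/-- Points over `X_t` lie in `G(u)`. -/
theorem mem_domQ_of_mem_XT (V : Y.Opens) (hV : IsAffineOpen V) {n : ℕ} (hn : 0 < n)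
    (a : 𝒜.presheaf.obj (op V)) (ha : a ∈ 𝒜.deg V hV n) (z : PL)
    (hz : pL z ∈ RLpsiU.XT 𝒮L u V n a) : z ∈ RelProj.domQ u pL chartL := by
  obtain ⟨⟨⟨V', hV'⟩, hle, hspan⟩, hxV'⟩ := Opens.mem_iSup.mp hz
  have hz' : z ∈ Set.range (RelProj.emb pL chartL V' hV') := by
    rw [range_emb]
    exact hxV'
  obtain ⟨y, rfl⟩ := hz'
  have hty := SymLineGen.notMem_of_deg_subset_span L 𝒮L jL hjL V' hV'
    ((u.appLE V V' hle).hom a) hspan y
  have h1 : RelProj.emb pL chartL V' hV' y ∈ Set.range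
      (RelProj.awayEmb u pL chartL V hV V' hV' hle hn a ha).base :=
    (mem_range_awayEmb_iff u pL chartL V hV V' hV' hle hn a ha _).mpr ⟨y, rfl, hty⟩
  have h2 := RelProj.range_awayEmb_subset_domQ u pL chartL V hV V' hV' hle hn a ha h1
  rw [Scheme.Opens.range_ι] at h2
  exact h2

include hjL hL in
/-- Local data from ampleness of `L` over `f⁻¹ V`: through every point of `f⁻¹ V` there is an
affine `X_t`, `t = u(a)` with `a` homogeneous of positive degree over `V`. -/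
theorem exists_affine_XT (V : Y.Opens) (hV : IsAffineOpen V)
    (hu : Function.Bijective (u.app V).hom)
    (hample : CohB1.IsAmple (L.restrict (f ⁻¹ᵁ V).ι)) (x : X) (hx : x ∈ f ⁻¹ᵁ V) :
    ∃ (n : ℕ) (a : 𝒜.presheaf.obj (op V)) (_ : a ∈ 𝒜.deg V hV (n + 1))
      (t : (CohB1.tensorPow L (n + 1)).val.obj (op (f ⁻¹ᵁ V))),
      μ jL (n + 1) (f ⁻¹ᵁ V) t = (u.app V).hom a ∧ x ∈ RLpsiU.XT 𝒮L u V (n + 1) a ∧
        IsAffineOpen (RLpsiU.XT 𝒮L u V (n + 1) a) := by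
  obtain ⟨n, t, hxt, haff⟩ := exists_sec_of_isAmple (f ⁻¹ᵁ V) hample ⟨x, hx⟩
  obtain ⟨a, ha⟩ := hu.2 (μ jL (n + 1) (f ⁻¹ᵁ V) t)
  have hdeg : a ∈ 𝒜.deg V hV (n + 1) := by
    refine mem_deg_of_injective u V hV hu.1 a (n + 1) (fun V' hV' hle => ?_)
    have e1 : (u.appLE V V' hle).hom a =
        (𝒮L.presheaf.map (homOfLE hle).op).hom ((u.app V).hom a) := rfl
    rw [e1, ha, ← μ_res]
    exact μ_mem_deg hjL hL (n + 1) V' hV' _
  have hXW := XT_eq_WT u hjL hL V (n + 1) a t ha.symm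
  refine ⟨n, a, hdeg, t, ha.symm, ?_, ?_⟩
  · rw [hXW]
    exact ⟨⟨x, hx⟩, hxt, rfl⟩
  · rw [hXW]
    exact haff.image_of_isOpenImmersion (f ⁻¹ᵁ V).ι

section Main

variable (hP : RelProj.IsRelProj 𝒜 p chart) (hPL : RelProj.IsRelProj 𝒮L pL chartL)
  (r : ((RelProj.domQ u pL chartL : PL.Opens) : Scheme.{u}) ⟶ P)
  (hr : ∀ (U : Y.Opens) (hU : IsAffineOpen U) (U' : X.Opens) (hU' : IsAffineOpen U')
    (hle : U' ≤ f ⁻¹ᵁ U) (d : ℕ) (hd : 0 < d) (a : 𝒜.presheaf.obj (op U))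
    (ha : a ∈ 𝒜.deg U hU d),
    stdChart u pL chartL U hU U' hU' hle hd a ha ≫ r = tgt u p chart U hU U' hU' hle hd a ha)
  (hu : ∀ (U : Y.Opens), IsAffineOpen U → Function.Bijective (u.app U).hom)
  (hample : ∀ V : Y.affineOpens, CohB1.IsAmple (L.restrict (f ⁻¹ᵁ V.1).ι))

include hjL hL hu hample in
/-- If `L` is `f`-ample, `r_{L,σ}` is everywhere defined. -/
theorem domQ_eq_top : RelProj.domQ u pL chartL = ⊤ := by
  rw [← top_le_iff]
  intro z _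
  obtain ⟨V, hV, hxV, -⟩ := (Opens.isBasis_iff_nbhd.mp Y.isBasis_affineOpens)
    (show f (pL z) ∈ (⊤ : Y.Opens) from trivial)
  obtain ⟨n, a, ha, t, -, hx, -⟩ := exists_affine_XT u hjL hL V hV (hu V hV) (hample ⟨V, hV⟩)
    (pL z) hxV
  exact mem_domQ_of_mem_XT u hjL V hV (Nat.succ_pos n) a ha z hx

include hjL hL hu hample hP hPL hr in
/-- If `L` is `f`-ample, `r_{L,σ}` is an open immersion. -/
theorem isOpenImmersion : IsOpenImmersion r := by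
  refine RLpsiU.isOpenImmersion_of_local L 𝒮L jL hjL u hL hP hPL r hr (fun x' => ?_)
  obtain ⟨V, hV, hxV, -⟩ := (Opens.isBasis_iff_nbhd.mp Y.isBasis_affineOpens)
    (show f (pL ((RelProj.domQ u pL chartL).ι x')) ∈ (⊤ : Y.Opens) from trivial)
  obtain ⟨n, a, ha, t, ht, hx, hXT⟩ := exists_affine_XT u hjL hL V hV (hu V hV)
    (hample ⟨V, hV⟩) _ hxV
  haveI : CompactSpace ((f ⁻¹ᵁ V : X.Opens) : Scheme.{u}) := (hample ⟨V, hV⟩).2.1
  haveI : QuasiSeparatedSpace ((f ⁻¹ᵁ V : X.Opens) : Scheme.{u}) :=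
    quasiSeparatedSpace_of_hasAffineCover (hample ⟨V, hV⟩).1 (hample ⟨V, hV⟩).2.2
  exact ⟨V, hV, n + 1, Nat.succ_pos n, a, ha, hx, hXT,
    bijective_awayMap u hjL hL hP hPL r hr V hV (hu V hV) (Nat.succ_pos n) a ha t ht hXT⟩

theorem eq_zero_of_eq_bot (𝒮 : RelProj.QCGrAlg X) (O : X.Opens) (h : O = ⊥)
    (a : 𝒮.presheaf.obj (op O)) : a = 0 := by
  subst h
  exact sec_eq_of_cover (fun i : PEmpty.{1} => i.elim) ⊥ (fun i => i.elim)
    (by simp) a 0 (fun i => i.elim)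

include hjL hL hu hample hP hPL hr in
/-- If `L` is `f`-ample, `r_{L,σ}` is dominant. -/
theorem isDominant : IsDominant r := by
  have htop : RelProj.domQ u pL chartL = ⊤ := domQ_eq_top u hjL hL hu hample
  have hiso : IsIso pL := SymLineProj.isIso_of_isInvertible L 𝒮L jL hjL pL chartL hPL hL
  refine ⟨?_⟩
  rw [DenseRange, dense_iff_inter_open]
  rintro O hO ⟨z, hz⟩
  obtain ⟨⟨V, hV⟩, y, rfl⟩ := exists_mem_range_emb p chart z
  obtain ⟨d, hd, b, hb, hby, hbO⟩ := ProjQComp.exists_homogeneous_basicOpen_le (𝒜.deg V hV)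
    ((RelProj.emb p chart V hV) ⁻¹ᵁ ⟨O, hO⟩) y hz
  have hnil : ¬ IsNilpotent b := ProjQComp.not_isNilpotent_of_notMem _ y b hby
  obtain ⟨t, ht⟩ := exists_μ_eq hjL hL d (f ⁻¹ᵁ V) ((u.app V).hom b)
    (fun V' hV' i => u.map_mem V hV V' hV' i hb)
  have hXW := XT_eq_WT u hjL hL V d b t ht
  by_cases hemp : ∃ x, x ∈ RLpsiU.XT 𝒮L u V d b
  · obtain ⟨x, hx⟩ := hemp
    obtain ⟨z', rfl⟩ := pL.surjective x
    have hz'dom : z' ∈ RelProj.domQ u pL chartL := by rw [htop]; trivial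
    have h1 := RLpsiU.mem_preimage_of_mem_XT L 𝒮L jL hjL u hL hP hPL r hr V hV hd b hb
      ⟨z', hz'dom⟩ hx
    refine ⟨r ⟨z', hz'dom⟩, ?_, ⟨_, rfl⟩⟩
    rw [Scheme.Hom.opensRange_comp, Proj.opensRange_awayι] at h1
    obtain ⟨y', hy', hy'r⟩ := h1
    have h2 : RelProj.emb p chart V hV y' ∈ O := hbO hy'
    have h3 : RelProj.emb p chart V hV y' = r ⟨z', hz'dom⟩ := hy'r
    rw [← h3]
    exact h2
  · exfalso
    apply hnil
    have hbot : RLpsiU.XT 𝒮L u V d b = ⊥ := by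
      rw [← le_bot_iff]
      intro x hx
      exact absurd ⟨x, hx⟩ hemp
    haveI : CompactSpace ((f ⁻¹ᵁ V : X.Opens) : Scheme.{u}) := (hample ⟨V, hV⟩).2.1
    obtain ⟨k, hk, hk0⟩ := kill' 𝒮L.toQCAlg (powMap 𝒮L.toQCAlg jL d)
      (Groth.Agent.Lib.helper12.TensorInv.isInvertible_tensorPow hL d) (f ⁻¹ᵁ V) t
      (RLpsiU.XT 𝒮L u V d b) hXW (RLpsiU.XT_le 𝒮L u V d b) 1
      (eq_zero_of_eq_bot 𝒮L _ hbot _)
    have hνt : toRing 𝒮L.toQCAlg (((powMap 𝒮L.toQCAlg jL d).val.app (op (f ⁻¹ᵁ V))).hom t) =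
        (u.app V).hom b := ht
    rw [one_mul, hνt] at hk0
    refine ⟨k, (hu V hV).1 ?_⟩
    rw [map_pow, map_zero]
    exact hk0

end Main

end Groth.Agent.Lib.helper28.SymLineAmpleImm
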