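import Groth.Agent.Lib.Helper28.RLpsiU2
import Groth.Agent.Lib.Helper28.SymLineAmpleImm
import Groth.Agent.Lib.Helper28.ProjQComp

/-!
# `r_{L,ψ}` and filtered colimits of graded algebras (helper28)

If `𝒮 = colim 𝒮^i` (filtered, on sections over affine opens), `X` is quasi-compact and `q` is
locally of finite type, then `r_{L,ψ}` everywhere defined and an immersion implies the same for
some `r_{L,ψ_i}`.

* `exists_common`: finitely many monotone eventually-true predicates on a directed set hold at a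
  common index.
* `appLE_comp`, `XT_comp`: behaviour of `u.appLE` and `X_t` under composition with a graded
  homomorphism.
* `Lift`, `Lift.mono`, `exists_lift`: homogeneous elements of the colimit lift to some stage.
* `Good`, `Good.mono`, `exists_good`: a local immersion datum is realised at some stage.
* `exists_index`: the main result.
-/

set_option autoImplicit false
universe u

namespace Groth.Agent.Lib.helper28.RLpsiColim

open CategoryTheory CategoryTheory.Limits AlgebraicGeometry TopologicalSpace Opposite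
open HomogeneousLocalization
open scoped HomogeneousIdeal
open Groth.Agent.Lib.helper28.RelTwistChart Groth.Agent.Lib.helper28.ProjQGlue
open Groth.Agent.Lib.helper28 Groth.Agent.Lib.helper28.RLpsi Groth.Agent.Lib.helper28.RLpsiU

/-- Finitely many monotone, eventually true predicates on a directed set hold at a common
index. -/
theorem exists_common {Λ : Type*} [Preorder Λ] [IsDirected Λ (· ≤ ·)] [Nonempty Λ] {ι : Type*}
    (F : Finset ι) (P : ι → Λ → Prop) (hmono : ∀ k i j, i ≤ j → P k i → P k j)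
    (hex : ∀ k ∈ F, ∃ i, P k i) : ∃ M, ∀ k ∈ F, P k M := by
  classical
  choose! f hf using hex
  obtain ⟨M, hM⟩ := Finset.exists_le (F.image f)
  exact ⟨M, fun k hk => hmono k _ _ (hM _ (Finset.mem_image_of_mem f hk)) (hf k hk)⟩

section Comp

variable {Y X : Scheme.{u}} {q : X ⟶ Y} {𝒯 𝒮 : RelProj.QCGrAlg Y} {𝒮L : RelProj.QCGrAlg X}
  (v : 𝒯.toQCAlg ⟶ 𝒮.toQCAlg)
  (u : RelProj.QGrHom q 𝒮 𝒮L) (u' : RelProj.QGrHom q 𝒯 𝒮L)
  (hu' : ∀ U : Y.Opens, u'.app U = v.hom.app (op U) ≫ u.app U)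

include hu' in
theorem appLE_comp (U : Y.Opens) (O : X.Opens) (hle : O ≤ q ⁻¹ᵁ U)
    (y : 𝒯.presheaf.obj (op U)) :
    (u'.appLE U O hle).hom y = (u.appLE U O hle).hom ((v.hom.app (op U)).hom y) := by
  rw [RelSpec.QHom.appLE, RelSpec.QHom.appLE, hu' U]
  rfl

include hu' in
/-- `X_t` for `u ∘ v` and `y` is `X_t` for `u` and `v y`. -/
theorem XT_comp (U : Y.Opens) (n : ℕ) (y : 𝒯.presheaf.obj (op U)) :
    XT 𝒮L u' U n y = XT 𝒮L u U n ((v.hom.app (op U)).hom y) := by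
  ext z
  rw [SetLike.mem_coe, SetLike.mem_coe]
  constructor
  · intro hz
    obtain ⟨⟨V, hle, hspan⟩, hzV⟩ := Opens.mem_iSup.mp hz
    refine Opens.mem_iSup.mpr ⟨⟨V, hle, ?_⟩, hzV⟩
    rwa [← appLE_comp v u u' hu']
  · intro hz
    obtain ⟨⟨V, hle, hspan⟩, hzV⟩ := Opens.mem_iSup.mp hz
    refine Opens.mem_iSup.mpr ⟨⟨V, hle, ?_⟩, hzV⟩
    rwa [appLE_comp v u u' hu']

end Comp

section Colim

variable {Y X : Scheme.{u}} {q : X ⟶ Y} {𝒮 : RelProj.QCGrAlg Y} {𝒮L : RelProj.QCGrAlg X}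
  (u : RelProj.QGrHom q 𝒮 𝒮L)
  {Λ : Type*} [Preorder Λ]
  (𝒮i : Λ → RelProj.QCGrAlg Y) (φ : ∀ i, (𝒮i i).toQCAlg ⟶ 𝒮.toQCAlg)
  (hφ : ∀ i, RelProj.IsGradedHom (φ i))
  (t : ∀ i j, i ≤ j → ((𝒮i i).toQCAlg ⟶ (𝒮i j).toQCAlg))
  (ht : ∀ i j (h : i ≤ j), RelProj.IsGradedHom (t i j h))
  (hφt : ∀ i j (h : i ≤ j), t i j h ≫ φ j = φ i)
  (hsurj : ∀ (U : Y.Opens), IsAffineOpen U → ∀ x : 𝒮.presheaf.obj (op U),
      ∃ (i : Λ) (y : (𝒮i i).presheaf.obj (op U)), ((φ i).hom.app (op U)).hom y = x)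
  (ui : ∀ i, RelProj.QGrHom q (𝒮i i) 𝒮L)
  (hui : ∀ i (U : Y.Opens), (ui i).app U = (φ i).hom.app (op U) ≫ u.app U)

/-- The section `s` of the colimit lifts to a homogeneous element of degree `d` at stage `i`. -/
def Lift (i : Λ) (U : Y.Opens) (hU : IsAffineOpen U) (d : ℕ) (s : 𝒮.presheaf.obj (op U)) : Prop :=
  ∃ y, y ∈ (𝒮i i).deg U hU d ∧ ((φ i).hom.app (op U)).hom y = s

variable {𝒮i φ}

include ht hφt in
theorem Lift.mono {i j : Λ} (h : i ≤ j) {U : Y.Opens} {hU : IsAffineOpen U} {d : ℕ}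
    {s : 𝒮.presheaf.obj (op U)} (hl : Lift 𝒮i φ i U hU d s) : Lift 𝒮i φ j U hU d s := by
  obtain ⟨y, hy, e⟩ := hl
  refine ⟨((t i j h).hom.app (op U)).hom y, ht i j h U hU d y hy, ?_⟩
  rw [← e, ← hφt i j h]
  rfl

include hφ hsurj in
theorem exists_lift {U : Y.Opens} {hU : IsAffineOpen U} {d : ℕ}
    {s : 𝒮.presheaf.obj (op U)} (hs : s ∈ 𝒮.deg U hU d) : ∃ i, Lift 𝒮i φ i U hU d s := by
  obtain ⟨i, y, e⟩ := hsurj U hU s
  refine ⟨i, (DirectSum.decompose ((𝒮i i).deg U hU) y d : (𝒮i i).presheaf.obj (op U)),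
    SetLike.coe_mem _, ?_⟩
  have h1 := GradedRingHom.map_directSumDecompose _ _ (RelProj.gradedHomAt (φ i) (hφ i) U hU)
    (x := y) (i := d)
  have h2 : RelProj.gradedHomAt (φ i) (hφ i) U hU y = s := e
  rw [h2, DirectSum.decompose_of_mem_same _ hs] at h1
  exact h1

include hφt hui in
theorem ui_appLE_t {i j : Λ} (h : i ≤ j) (U : Y.Opens) (O : X.Opens) (hle : O ≤ q ⁻¹ᵁ U)
    (y : (𝒮i i).presheaf.obj (op U)) :
    ((ui j).appLE U O hle).hom (((t i j h).hom.app (op U)).hom y) =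
      ((ui i).appLE U O hle).hom y := by
  rw [appLE_comp (φ j) u (ui j) (hui j), appLE_comp (φ i) u (ui i) (hui i), ← hφt i j h]
  rfl

variable (𝒮i φ) in
/-- The local immersion datum `(U, n, s)` of `u` is realised at stage `i`. -/
def Good (i : Λ) (U : Y.Opens) (hU : IsAffineOpen U) (n : ℕ) (s : 𝒮.presheaf.obj (op U)) : Prop :=
  ∃ y, y ∈ (𝒮i i).deg U hU n ∧ ((φ i).hom.app (op U)).hom y = s ∧
    ∀ τ : Γ(X, XT 𝒮L u U n s), H3 (ui i) U hU n y (XT 𝒮L u U n s) (XT_le 𝒮L u U n s) τ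

include ht hφt hui in
theorem Good.mono {i j : Λ} (h : i ≤ j) {U : Y.Opens} {hU : IsAffineOpen U} {n : ℕ}
    {s : 𝒮.presheaf.obj (op U)} (hg : Good u 𝒮i φ ui i U hU n s) :
    Good u 𝒮i φ ui j U hU n s := by
  obtain ⟨y, hy, e, hH⟩ := hg
  refine ⟨((t i j h).hom.app (op U)).hom y, ht i j h U hU n y hy, ?_, fun τ => ?_⟩
  · rw [← e, ← hφt i j h]
    rfl
  · obtain ⟨m, hm, y', hy', heq₀⟩ := hH τ
    refine ⟨m, hm, ((t i j h).hom.app (op U)).hom y', ht i j h U hU _ y' hy', ?_⟩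
    rw [ui_appLE_t u t hφt ui hui h, ui_appLE_t u t hφt ui hui h]
    exact heq₀

variable [IsDirected Λ (· ≤ ·)] [Nonempty Λ]

include hφ ht hφt hsurj hui in
theorem exists_good {U : Y.Opens} {hU : IsAffineOpen U} {n : ℕ}
    {s : 𝒮.presheaf.obj (op U)} (hs : s ∈ 𝒮.deg U hU n)
    (hft : (q.appLE U (XT 𝒮L u U n s) (XT_le 𝒮L u U n s)).hom.FiniteType)
    (hH : ∀ τ : Γ(X, XT 𝒮L u U n s), H3 u U hU n s (XT 𝒮L u U n s) (XT_le 𝒮L u U n s) τ) :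
    ∃ i, Good u 𝒮i φ ui i U hU n s := by
  classical
  let _ := (q.appLE U (XT 𝒮L u U n s) (XT_le 𝒮L u U n s)).hom.toAlgebra
  have hft' : Algebra.FiniteType Γ(Y, U) Γ(X, XT 𝒮L u U n s) := hft
  obtain ⟨T, hT⟩ := hft'.out
  obtain ⟨i₀, hi₀⟩ := exists_lift hφ hsurj hs
  obtain ⟨M₁, hM₁⟩ := exists_common T
    (fun g i => ∃ (m : ℕ) (_ : 0 < m) (s' : 𝒮.presheaf.obj (op U)),
      (𝒮L.str.app (op (XT 𝒮L u U n s))).hom g *
        ((u.appLE U (XT 𝒮L u U n s) (XT_le 𝒮L u U n s)).hom s) ^ m =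
        (u.appLE U (XT 𝒮L u U n s) (XT_le 𝒮L u U n s)).hom s' ∧
      Lift 𝒮i φ i U hU (m * n) s')
    (fun g i j hij ⟨m, hm, s', heq₀, hl⟩ => ⟨m, hm, s', heq₀, hl.mono t ht hφt hij⟩)
    (fun g _ => by
      obtain ⟨m, hm, s', hs', heq₀⟩ := hH g
      obtain ⟨i, hi⟩ := exists_lift hφ hsurj hs'
      exact ⟨i, m, hm, s', heq₀, hi⟩)
  obtain ⟨M, h0M, h1M⟩ := exists_ge_ge i₀ M₁
  obtain ⟨y, hy, e⟩ := hi₀.mono t ht hφt h0M
  refine ⟨M, y, hy, e, fun τ => ?_⟩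
  refine H3.of_adjoin hy (↑T) hT (fun g hg => ?_) τ
  obtain ⟨m, hm, s', heq₀, hl⟩ := hM₁ g hg
  obtain ⟨y', hy', e'⟩ := hl.mono t ht hφt h1M
  refine ⟨m, hm, y', hy', ?_⟩
  rw [appLE_comp (φ M) u (ui M) (hui M), appLE_comp (φ M) u (ui M) (hui M), e, e']
  exact heq₀

end Colim

section Main

variable {Y X P PL : Scheme.{u}} {q : X ⟶ Y}
  (L : X.Modules) [L.IsQuasicoherent]
  {𝒮 : RelProj.QCGrAlg Y} (𝒮L : RelProj.QCGrAlg X) (j : L ⟶ 𝒮L.toModule)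
  (hj : RelProj.IsGrSymAlg L 𝒮L j)
  (u : RelProj.QGrHom q 𝒮 𝒮L)
  {p : P ⟶ Y} {chart : ∀ (U : Y.Opens) (hU : IsAffineOpen U),
    (((p ⁻¹ᵁ U : P.Opens) : Scheme.{u}) ≅ Proj (𝒮.deg U hU))}
  {pL : PL ⟶ X} {chartL : ∀ (U : X.Opens) (hU : IsAffineOpen U),
    (((pL ⁻¹ᵁ U : PL.Opens) : Scheme.{u}) ≅ Proj (𝒮L.deg U hU))}
  (hL : PicF.IsInvertible L) (hP : RelProj.IsRelProj 𝒮 p chart)
  (hPL : RelProj.IsRelProj 𝒮L pL chartL)
  (r : ((RelProj.domQ u pL chartL : PL.Opens) : Scheme.{u}) ⟶ P)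
  (hr : ∀ (U : Y.Opens) (hU : IsAffineOpen U) (U' : X.Opens) (hU' : IsAffineOpen U')
    (hle : U' ≤ q ⁻¹ᵁ U) (d : ℕ) (hd : 0 < d) (f : 𝒮.presheaf.obj (op U))
    (hf : f ∈ 𝒮.deg U hU d),
    stdChart u pL chartL U hU U' hU' hle hd f hf ≫ r = tgt u p chart U hU U' hU' hle hd f hf)
  {Λ : Type*} [Preorder Λ] [IsDirected Λ (· ≤ ·)] [Nonempty Λ]
  {𝒮i : Λ → RelProj.QCGrAlg Y} {φ : ∀ i, (𝒮i i).toQCAlg ⟶ 𝒮.toQCAlg}
  (hφ : ∀ i, RelProj.IsGradedHom (φ i))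
  (t : ∀ i j, i ≤ j → ((𝒮i i).toQCAlg ⟶ (𝒮i j).toQCAlg))
  (ht : ∀ i j (h : i ≤ j), RelProj.IsGradedHom (t i j h))
  (hφt : ∀ i j (h : i ≤ j), t i j h ≫ φ j = φ i)
  (hsurj : ∀ (U : Y.Opens), IsAffineOpen U → ∀ x : 𝒮.presheaf.obj (op U),
      ∃ (i : Λ) (y : (𝒮i i).presheaf.obj (op U)), ((φ i).hom.app (op U)).hom y = x)
  (ui : ∀ i, RelProj.QGrHom q (𝒮i i) 𝒮L)
  (hui : ∀ i (U : Y.Opens), (ui i).app U = (φ i).hom.app (op U) ≫ u.app U)
  {Pi : Λ → Scheme.{u}} {pi : ∀ i, Pi i ⟶ Y}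
  {charti : ∀ i (U : Y.Opens) (hU : IsAffineOpen U),
    ((((pi i) ⁻¹ᵁ U : (Pi i).Opens) : Scheme.{u}) ≅ Proj ((𝒮i i).deg U hU))}
  (hPi : ∀ i, RelProj.IsRelProj (𝒮i i) (pi i) (charti i))
  (ri : ∀ i, ((RelProj.domQ (ui i) pL chartL : PL.Opens) : Scheme.{u}) ⟶ Pi i)
  (hri : ∀ i (U : Y.Opens) (hU : IsAffineOpen U) (U' : X.Opens) (hU' : IsAffineOpen U')
    (hle : U' ≤ q ⁻¹ᵁ U) (d : ℕ) (hd : 0 < d) (f : (𝒮i i).presheaf.obj (op U))
    (hf : f ∈ (𝒮i i).deg U hU d),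
    stdChart (ui i) pL chartL U hU U' hU' hle hd f hf ≫ ri i =
      tgt (ui i) (pi i) (charti i) U hU U' hU' hle hd f hf)

include hj hL hP hPL hr hφ ht hφt hsurj hui hPi hri in
/-- **EGA II 3.8.5-type statement**: if `r_{L,ψ}` is everywhere defined and an immersion, `X` is
quasi-compact, `q` is locally of finite type and `𝒮 = colim 𝒮^i`, then some `r_{L,ψ_i}` is
everywhere defined and an immersion. -/
theorem exists_index [CompactSpace X] [LocallyOfFiniteType q]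
    (hdom : RelProj.domQ u pL chartL = ⊤) [IsImmersion r] :
    ∃ i, RelProj.domQ (ui i) pL chartL = ⊤ ∧ IsImmersion (ri i) := by
  classical
  have hiso : IsIso pL := SymLineProj.isIso_of_isInvertible L 𝒮L j hj pL chartL hPL hL
  -- local data through every point of `X`
  have hloc : ∀ x : X, ∃ (U : Y.Opens) (hU : IsAffineOpen U) (n : ℕ) (_ : 0 < n)
      (s : 𝒮.presheaf.obj (op U)) (_ : s ∈ 𝒮.deg U hU n), x ∈ XT 𝒮L u U n s ∧
      ∃ hXT : IsAffineOpen (XT 𝒮L u U n s),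
        Function.Surjective (Away.map (u.gradedAt U hU (XT 𝒮L u U n s) hXT
          (XT_le 𝒮L u U n s)) s) := by
    intro x
    obtain ⟨z, rfl⟩ : ∃ z : PL, pL z = x := ⟨(inv pL) x, by
      rw [← Scheme.Hom.comp_apply, IsIso.inv_hom_id]; rfl⟩
    have hz : z ∈ RelProj.domQ u pL chartL := by rw [hdom]; trivial
    obtain ⟨U, hU, n, hn, s, hs, hx, hXT, hsj⟩ :=
      exists_of_isImmersion L 𝒮L j hj u hL hP hPL r hr ⟨z, hz⟩
    exact ⟨U, hU, n, hn, s, hs, hx, hXT, hsj⟩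
  choose U hU n hn s hs hx hXT hsj using hloc
  -- finite subcover
  obtain ⟨F, hF⟩ := isCompact_univ.elim_finite_subcover
    (fun x : X => ((XT 𝒮L u (U x) (n x) (s x) : X.Opens) : Set X))
    (fun x => (XT 𝒮L u (U x) (n x) (s x)).isOpen)
    (fun x _ => Set.mem_iUnion.mpr ⟨x, hx x⟩)
  have hF' : ∀ x₀ : X, ∃ x ∈ F, x₀ ∈ XT 𝒮L u (U x) (n x) (s x) := by
    intro x₀
    have := hF (Set.mem_univ x₀)
    simp only [Set.mem_iUnion] at this
    obtain ⟨x, hxF, hx₀⟩ := this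
    exact ⟨x, hxF, hx₀⟩
  -- a common stage
  obtain ⟨M, hM⟩ := exists_common F
    (fun x i => Good u 𝒮i φ ui i (U x) (hU x) (n x) (s x))
    (fun x i j hij hg => hg.mono u t ht hφt ui hui hij)
    (fun x _ => exists_good u hφ t ht hφt hsurj ui hui (hs x)
      (Scheme.Hom.finiteType_appLE q (hU x) (hXT x) (XT_le 𝒮L u (U x) (n x) (s x)))
      ((surjective_awayMap_iff L 𝒮L j hj u hL hP hPL r hr (U x) (hU x) (hn x) (s x) (hs x)
        (hXT x)).mp (hsj x)))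
  have hXTeq : ∀ x (y : (𝒮i M).presheaf.obj (op (U x))),
      ((φ M).hom.app (op (U x))).hom y = s x →
      XT 𝒮L (ui M) (U x) (n x) y = XT 𝒮L u (U x) (n x) (s x) := by
    intro x y e
    rw [XT_comp (φ M) u (ui M) (hui M), e]
  refine ⟨M, ?_, ?_⟩
  · rw [← top_le_iff]
    intro z _
    obtain ⟨x, hxF, hzx⟩ := hF' (pL z)
    obtain ⟨y, hy, e, -⟩ := hM x hxF
    refine SymLineAmpleImm.mem_domQ_of_mem_XT (ui M) hj (U x) (hU x) (hn x) y hy z ?_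
    rw [hXTeq x y e]
    exact hzx
  · refine isImmersion_of_local L 𝒮L j hj (ui M) hL (hPi M) hPL (ri M) (hri M) (fun x' => ?_)
    obtain ⟨x, hxF, hzx⟩ := hF' (pL ((RelProj.domQ (ui M) pL chartL).ι x'))
    obtain ⟨y, hy, e, hH⟩ := hM x hxF
    have eXT := hXTeq x y e
    have hXT' : IsAffineOpen (XT 𝒮L (ui M) (U x) (n x) y) := by
      rw [eXT]
      exact hXT x
    refine ⟨U x, hU x, n x, hn x, y, hy, ?_, hXT', ?_⟩
    · rw [eXT]
      exact hzx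
    · exact (surjective_awayMap_iff L 𝒮L j hj (ui M) hL (hPi M) hPL (ri M) (hri M) (U x) (hU x)
        (hn x) y hy hXT').mpr (H3.congr_open eXT.symm _ hH)

end Main

end Groth.Agent.Lib.helper28.RLpsiColim
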