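import Groth.Agent.Lib.Helper28.RelProjPair2

/-!
# The morphism `Proj(u) : G(u) ⟶ Proj(𝒮)` of a graded morphism over a change of base (helper28)

`u : 𝒮 → g_* 𝒮'` a graded `g`-morphism (frozen `RelProj.QGrHom`), `G(u) = RelProj.domQ u p' chart'`.

* ring level: `refMap r f hh hx : A₁_(f) → A₂_(x)` for `x = r f * h` (restrict, then multiply),
  `refMap_comp_map` (naturality), `specMap_refMap_awayι`, `away_map_fromZeroRingHom`,
  `exists_homogeneous_of_mem_domOpen`.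
* `tgt u p chart …`: the prescribed morphism on the standard chart `Spec 𝒮'(U')_(u f)`;
  `stdChart u p' chart' …`: the standard chart as a morphism into `G(u)` (`stdChart_ι`);
  `mem_range_awayEmb_iff`, `exists_mem_range_stdChart` (the standard charts cover `G(u)`).
* `exists_refine`: passing to a pair of basic opens `(W, W')` and multiplying `f` by `h`.
* `existsUnique_glue`: exactly one `v : G(u) ⟶ P` with `stdChart ≫ v = tgt` on all standard charts.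
* `tgt_comp_p`, `glue_comp_p`: `v ≫ p = G(u).ι ≫ p' ≫ g`.
-/

set_option autoImplicit false
universe u

namespace Groth.Agent.Lib.helper28.ProjQGlue

open CategoryTheory CategoryTheory.Limits AlgebraicGeometry TopologicalSpace Opposite
open HomogeneousLocalization
open scoped HomogeneousIdeal
open Groth.Agent.Lib.helper28.RelSpecMap Groth.Agent.Lib.helper28.RelTwistChart
open Groth.Agent.Lib.helper28.RelProjPair

section Ring

variable {A₁ A₂ B₁ B₂ σ₁ σ₂ τ₁ τ₂ : Type u}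
  [CommRing A₁] [SetLike σ₁ A₁] [AddSubgroupClass σ₁ A₁]
  [CommRing A₂] [SetLike σ₂ A₂] [AddSubgroupClass σ₂ A₂]
  [CommRing B₁] [SetLike τ₁ B₁] [AddSubgroupClass τ₁ B₁]
  [CommRing B₂] [SetLike τ₂ B₂] [AddSubgroupClass τ₂ B₂]
  {𝒜₁ : ℕ → σ₁} {𝒜₂ : ℕ → σ₂} {ℬ₁ : ℕ → τ₁} {ℬ₂ : ℕ → τ₂}
  [GradedRing 𝒜₁] [GradedRing 𝒜₂] [GradedRing ℬ₁] [GradedRing ℬ₂]

/-- The refinement map `A₁_(f) → A₂_(x)`, `x = r f * h`. -/
noncomputable def refMap (r : 𝒜₁ →+*ᵍ 𝒜₂) {e : ℕ} (f : A₁) {h x : A₂} (hh : h ∈ 𝒜₂ e)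
    (hx : x = r f * h) : Away 𝒜₁ f →+* Away 𝒜₂ x :=
  (awayMap 𝒜₂ hh hx).comp (Away.map r f)

theorem refMap_mk (r : 𝒜₁ →+*ᵍ 𝒜₂) {d e : ℕ} {f : A₁} (hf : f ∈ 𝒜₁ d) {h x : A₂} (hh : h ∈ 𝒜₂ e)
    (hx : x = r f * h) (n : ℕ) (a : A₁) (ha : a ∈ 𝒜₁ (n • d)) :
    (refMap r f hh hx (Away.mk 𝒜₁ hf n a ha)).val =
      Localization.mk (r a * h ^ n) ⟨x ^ n, (Submonoid.mem_powers_iff _ _).mpr ⟨n, rfl⟩⟩ := by
  rw [refMap, RingHom.comp_apply, Away.map_mk, awayMap_mk, Away.val_mk]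

/-- Naturality of the refinement maps. -/
theorem refMap_comp_map (r : 𝒜₁ →+*ᵍ 𝒜₂) (r' : ℬ₁ →+*ᵍ ℬ₂) (u₁ : 𝒜₁ →+*ᵍ ℬ₁) (u₂ : 𝒜₂ →+*ᵍ ℬ₂)
    (hcomp : ∀ a, r' (u₁ a) = u₂ (r a)) {d e : ℕ} {f : A₁} (hf : f ∈ 𝒜₁ d) {h x : A₂}
    (hh : h ∈ 𝒜₂ e) (hx : x = r f * h) (hx' : u₂ x = r' (u₁ f) * u₂ h) :
    (refMap r' (u₁ f) (h := u₂ h) (u₂.map_mem hh) hx').comp (Away.map u₁ f) =
      (Away.map u₂ x).comp (refMap r f hh hx) := by
  apply RingHom.ext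
  intro q
  obtain ⟨n, a, ha, rfl⟩ := Away.mk_surjective 𝒜₁ hf q
  apply HomogeneousLocalization.val_injective
  rw [RingHom.comp_apply, RingHom.comp_apply, Away.map_mk, refMap_mk]
  rw [refMap, RingHom.comp_apply, Away.map_mk, awayMap_mk, Away.map_mk, Away.val_mk]
  simp only [map_mul, map_pow, hcomp]

/-- The refinement map and the standard charts. -/
theorem specMap_refMap_awayι (r : 𝒜₁ →+*ᵍ 𝒜₂) (hr : 𝒜₂₊ ≤ 𝒜₁₊.map r) {d e : ℕ} (hd : 0 < d)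
    {f : A₁} (hf : f ∈ 𝒜₁ d) {h x : A₂} (hh : h ∈ 𝒜₂ e) (hx : x = r f * h)
    {k : ℕ} (hk : 0 < k) (hxm : x ∈ 𝒜₂ k) :
    Spec.map (CommRingCat.ofHom (refMap r f hh hx)) ≫ Proj.awayι 𝒜₁ f hf hd =
      Proj.awayι 𝒜₂ x hxm hk ≫ Proj.map r hr := by
  rw [refMap, CommRingCat.ofHom_comp, Spec.map_comp, Category.assoc,
    ← Proj.awayι_comp_map r hr hd f hf, ← Category.assoc]
  exact congrArg (· ≫ Proj.map r hr) (Proj.SpecMap_awayMap_awayι 𝒜₂ (r.map_mem hf) hd hh hx)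

end Ring

section Geom

variable {S S' : Scheme.{u}} {g : S' ⟶ S} {𝒮 : RelProj.QCGrAlg S} {𝒮' : RelProj.QCGrAlg S'}
  (u : RelProj.QGrHom g 𝒮 𝒮')
  {P : Scheme.{u}} (p : P ⟶ S)
  (chart : ∀ (U : S.Opens) (hU : IsAffineOpen U),
    (((p ⁻¹ᵁ U : P.Opens) : Scheme.{u}) ≅ Proj (𝒮.deg U hU)))
  {P' : Scheme.{u}} (p' : P' ⟶ S')
  (chart' : ∀ (U' : S'.Opens) (hU' : IsAffineOpen U'),
    (((p' ⁻¹ᵁ U' : P'.Opens) : Scheme.{u}) ≅ Proj (𝒮'.deg U' hU')))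

/-- The prescribed morphism on a standard chart. -/
noncomputable def tgt (U : S.Opens) (hU : IsAffineOpen U) (U' : S'.Opens) (hU' : IsAffineOpen U')
    (hle : U' ≤ g ⁻¹ᵁ U) {d : ℕ} (hd : 0 < d) (f : 𝒮.presheaf.obj (op U))
    (hf : f ∈ 𝒮.deg U hU d) :
    Spec (CommRingCat.of (Away (𝒮'.deg U' hU') (u.gradedAt U hU U' hU' hle f))) ⟶ P :=
  Spec.map (CommRingCat.ofHom (Away.map (u.gradedAt U hU U' hU' hle) f)) ≫
    Proj.awayι (𝒮.deg U hU) f hf hd ≫ RelProj.emb p chart U hU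

variable {p chart p' chart'}

theorem gradedAt_comp (U W : S.Opens) (hU : IsAffineOpen U) (hW : IsAffineOpen W) (i : W ≤ U)
    (U' W' : S'.Opens) (hU' : IsAffineOpen U') (hW' : IsAffineOpen W') (i' : W' ≤ U')
    (hle : U' ≤ g ⁻¹ᵁ U) (hleW : W' ≤ g ⁻¹ᵁ W) (a : 𝒮.presheaf.obj (op U)) :
    𝒮'.res hU' hW' i' (u.gradedAt U hU U' hU' hle a) =
      u.gradedAt W hW W' hW' hleW (𝒮.res hU hW i a) := by
  have h1 := (PairHom.ofQGrHom u).res_right U hU U' hU' hle W' hW' i'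
  have h2 := (PairHom.ofQGrHom u).res_left U hU W hW i W' hW' hleW
  have h3 := congrArg (fun k => k a) (h1.trans h2.symm)
  exact h3

/-- Refining a standard chart. -/
theorem exists_refine (hP : RelProj.IsRelProj 𝒮 p chart) (hP' : RelProj.IsRelProj 𝒮' p' chart')
    {U W : S.Opens} (hU : IsAffineOpen U) (hW : IsAffineOpen W) (r : Γ(S, U))
    (hr : S.basicOpen r = W) (i : W ≤ U)
    {U' W' : S'.Opens} (hU' : IsAffineOpen U') (hW' : IsAffineOpen W') (r' : Γ(S', U'))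
    (hr' : S'.basicOpen r' = W') (i' : W' ≤ U')
    (hle : U' ≤ g ⁻¹ᵁ U) (hleW : W' ≤ g ⁻¹ᵁ W)
    {d e : ℕ} (hd : 0 < d) {f : 𝒮.presheaf.obj (op U)} (hf : f ∈ 𝒮.deg U hU d)
    {h x : 𝒮.presheaf.obj (op W)} (hh : h ∈ 𝒮.deg W hW e) (hx : x = 𝒮.res hU hW i f * h)
    {k : ℕ} (hk : 0 < k) (hxm : x ∈ 𝒮.deg W hW k) :
    ∃ a : Spec (CommRingCat.of (Away (𝒮'.deg W' hW') (u.gradedAt W hW W' hW' hleW x))) ⟶
        Spec (CommRingCat.of (Away (𝒮'.deg U' hU') (u.gradedAt U hU U' hU' hle f))),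
      a ≫ RelProj.awayEmb u p' chart' U hU U' hU' hle hd f hf =
        RelProj.awayEmb u p' chart' W hW W' hW' hleW hk x hxm ∧
      a ≫ tgt u p chart U hU U' hU' hle hd f hf =
        tgt u p chart W hW W' hW' hleW hk x hxm := by
  have hcomp := gradedAt_comp u U W hU hW i U' W' hU' hW' i' hle hleW
  have hx' : u.gradedAt W hW W' hW' hleW x =
      𝒮'.res hU' hW' i' (u.gradedAt U hU U' hU' hle f) * u.gradedAt W hW W' hW' hleW h := by
    rw [hx, map_mul, hcomp]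
  have hirr := irrelevant_le_map' (𝒮 := 𝒮) hU hW r hr i
  have hirr' := irrelevant_le_map' (𝒮 := 𝒮') hU' hW' r' hr' i'
  refine ⟨Spec.map (CommRingCat.ofHom (refMap (𝒮'.res hU' hW' i') (u.gradedAt U hU U' hU' hle f)
    (h := u.gradedAt W hW W' hW' hleW h) ((u.gradedAt W hW W' hW' hleW).map_mem hh) hx')), ?_, ?_⟩
  · unfold RelProj.awayEmb
    rw [← Category.assoc, specMap_refMap_awayι (𝒮'.res hU' hW' i') hirr' hd
      (f := u.gradedAt U hU U' hU' hle f) (h := u.gradedAt W hW W' hW' hleW h)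
      ((u.gradedAt U hU U' hU' hle).map_mem hf) ((u.gradedAt W hW W' hW' hleW).map_mem hh) hx' hk
      ((u.gradedAt W hW W' hW' hleW).map_mem hxm), Category.assoc,
      map_res_emb' hP' hU' hW' r' hr' i' hirr']
  · unfold tgt
    rw [← Category.assoc, ← Spec.map_comp, ← CommRingCat.ofHom_comp,
      refMap_comp_map (𝒮.res hU hW i) (𝒮'.res hU' hW' i') (u.gradedAt U hU U' hU' hle)
        (u.gradedAt W hW W' hW' hleW) hcomp hf hh hx hx', CommRingCat.ofHom_comp, Spec.map_comp,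
      Category.assoc, ← Category.assoc (Spec.map (CommRingCat.ofHom (refMap (𝒮.res hU hW i) f hh hx))),
      specMap_refMap_awayι (𝒮.res hU hW i) hirr hd hf hh hx hk hxm, Category.assoc,
      map_res_emb' hP hU hW r hr i hirr]

end Geom

section Hom

variable {A B σ τ : Type u} [CommRing A] [SetLike σ A] [AddSubgroupClass σ A]
  [CommRing B] [SetLike τ B] [AddSubgroupClass τ B]
  {𝒜 : ℕ → σ} {ℬ : ℕ → τ} [GradedRing 𝒜] [GradedRing ℬ]

/-- A point of `G(ψ)` lies in some `D₊(ψ f)`, `f` homogeneous of positive degree. -/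
theorem exists_homogeneous_of_mem_domOpen (ψ : 𝒜 →+*ᵍ ℬ) (y : Proj ℬ)
    (hy : y ∈ RelCone.domOpen ψ) :
    ∃ (d : ℕ) (_ : 0 < d) (f : A) (_ : f ∈ 𝒜 d), ψ f ∉ y.asHomogeneousIdeal := by
  classical
  obtain ⟨f, hf, hfy⟩ := (RelCone.mem_domOpen ψ y).mp hy
  by_contra hcon
  apply hfy
  rw [← DirectSum.sum_support_decompose 𝒜 f, map_sum]
  refine y.asHomogeneousIdeal.toIdeal.sum_mem fun i _ => ?_
  rcases Nat.eq_zero_or_pos i with rfl | hi
  · have h0 : (DirectSum.decompose 𝒜 f 0 : A) = 0 :=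
      (HomogeneousIdeal.mem_irrelevant_iff 𝒜 f).mp hf
    rw [h0, map_zero]
    exact zero_mem _
  · by_contra h
    exact hcon ⟨i, hi, _, SetLike.coe_mem _, h⟩

theorem away_map_fromZeroRingHom (ψ : 𝒜 →+*ᵍ ℬ) (f : A) (a : 𝒜 0) :
    Away.map ψ f (fromZeroRingHom 𝒜 _ a) = fromZeroRingHom ℬ _ ⟨ψ a, ψ.map_mem a.2⟩ := by
  apply HomogeneousLocalization.val_injective
  simp only [fromZeroRingHom, Away.map, RingHom.coe_mk, MonoidHom.coe_mk, OneHom.coe_mk,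
    HomogeneousLocalization.map_mk, val_mk]
  congr 1
  apply Subtype.ext
  exact map_one ψ

end Hom

section Glue

variable {S S' : Scheme.{u}} {g : S' ⟶ S} {𝒮 : RelProj.QCGrAlg S} {𝒮' : RelProj.QCGrAlg S'}
  (u : RelProj.QGrHom g 𝒮 𝒮')
  {P : Scheme.{u}} (p : P ⟶ S)
  (chart : ∀ (U : S.Opens) (hU : IsAffineOpen U),
    (((p ⁻¹ᵁ U : P.Opens) : Scheme.{u}) ≅ Proj (𝒮.deg U hU)))
  {P' : Scheme.{u}} (p' : P' ⟶ S')
  (chart' : ∀ (U' : S'.Opens) (hU' : IsAffineOpen U'),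
    (((p' ⁻¹ᵁ U' : P'.Opens) : Scheme.{u}) ≅ Proj (𝒮'.deg U' hU')))

instance isOpenImmersion_awayEmb (U : S.Opens) (hU : IsAffineOpen U) (U' : S'.Opens)
    (hU' : IsAffineOpen U') (hle : U' ≤ g ⁻¹ᵁ U) {d : ℕ} (hd : 0 < d)
    (f : 𝒮.presheaf.obj (op U)) (hf : f ∈ 𝒮.deg U hU d) :
    IsOpenImmersion (RelProj.awayEmb u p' chart' U hU U' hU' hle hd f hf) := by
  unfold RelProj.awayEmb
  infer_instance

/-- A point lies on a standard chart iff it is read on the chart of `P'` inside `D₊(u f)`. -/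
theorem mem_range_awayEmb_iff (U : S.Opens) (hU : IsAffineOpen U) (U' : S'.Opens)
    (hU' : IsAffineOpen U') (hle : U' ≤ g ⁻¹ᵁ U) {d : ℕ} (hd : 0 < d)
    (f : 𝒮.presheaf.obj (op U)) (hf : f ∈ 𝒮.deg U hU d) (X : P') :
    X ∈ Set.range (RelProj.awayEmb u p' chart' U hU U' hU' hle hd f hf).base ↔
      ∃ y : Proj (𝒮'.deg U' hU'), (RelProj.emb p' chart' U' hU').base y = X ∧
        u.gradedAt U hU U' hU' hle f ∉ y.asHomogeneousIdeal := by
  have hr := Proj.opensRange_awayι (𝒮'.deg U' hU') (u.gradedAt U hU U' hU' hle f)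
    ((u.gradedAt U hU U' hU' hle).map_mem hf) hd
  constructor
  · rintro ⟨z, rfl⟩
    refine ⟨(Proj.awayι (𝒮'.deg U' hU') (u.gradedAt U hU U' hU' hle f)
      ((u.gradedAt U hU U' hU' hle).map_mem hf) hd).base z, rfl, ?_⟩
    have hz : (Proj.awayι (𝒮'.deg U' hU') (u.gradedAt U hU U' hU' hle f)
        ((u.gradedAt U hU U' hU' hle).map_mem hf) hd).base z ∈
        Proj.basicOpen (𝒮'.deg U' hU') (u.gradedAt U hU U' hU' hle f) := hr.le ⟨z, rfl⟩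
    exact (ProjectiveSpectrum.mem_basicOpen _ _ _).mp hz
  · rintro ⟨y, rfl, hy⟩
    have hy' : y ∈ (Proj.awayι (𝒮'.deg U' hU') (u.gradedAt U hU U' hU' hle f)
        ((u.gradedAt U hU U' hU' hle).map_mem hf) hd).opensRange := by
      rw [hr]
      exact (ProjectiveSpectrum.mem_basicOpen _ _ _).mpr hy
    obtain ⟨z, rfl⟩ := hy'
    exact ⟨z, rfl⟩

/-- The standard chart of `G(u)`. -/
noncomputable def stdChart (U : S.Opens) (hU : IsAffineOpen U) (U' : S'.Opens)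
    (hU' : IsAffineOpen U') (hle : U' ≤ g ⁻¹ᵁ U) {d : ℕ} (hd : 0 < d)
    (f : 𝒮.presheaf.obj (op U)) (hf : f ∈ 𝒮.deg U hU d) :
    Spec (CommRingCat.of (Away (𝒮'.deg U' hU') (u.gradedAt U hU U' hU' hle f))) ⟶
      ((RelProj.domQ u p' chart' : P'.Opens) : Scheme.{u}) :=
  IsOpenImmersion.lift (RelProj.domQ u p' chart').ι
    (RelProj.awayEmb u p' chart' U hU U' hU' hle hd f hf)
    (RelProj.range_awayEmb_subset_domQ u p' chart' U hU U' hU' hle hd f hf)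

theorem stdChart_ι (U : S.Opens) (hU : IsAffineOpen U) (U' : S'.Opens)
    (hU' : IsAffineOpen U') (hle : U' ≤ g ⁻¹ᵁ U) {d : ℕ} (hd : 0 < d)
    (f : 𝒮.presheaf.obj (op U)) (hf : f ∈ 𝒮.deg U hU d) :
    stdChart u p' chart' U hU U' hU' hle hd f hf ≫ (RelProj.domQ u p' chart').ι =
      RelProj.awayEmb u p' chart' U hU U' hU' hle hd f hf :=
  IsOpenImmersion.lift_fac _ _ _

instance isOpenImmersion_stdChart (U : S.Opens) (hU : IsAffineOpen U) (U' : S'.Opens)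
    (hU' : IsAffineOpen U') (hle : U' ≤ g ⁻¹ᵁ U) {d : ℕ} (hd : 0 < d)
    (f : 𝒮.presheaf.obj (op U)) (hf : f ∈ 𝒮.deg U hU d) :
    IsOpenImmersion (stdChart u p' chart' U hU U' hU' hle hd f hf) := by
  have : IsOpenImmersion (stdChart u p' chart' U hU U' hU' hle hd f hf ≫
      (RelProj.domQ u p' chart').ι) := by
    rw [stdChart_ι]
    infer_instance
  exact IsOpenImmersion.of_comp _ (RelProj.domQ u p' chart').ι

/-- Indices of the standard charts. -/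
structure Idx (g : S' ⟶ S) (𝒮 : RelProj.QCGrAlg S) : Type u where
  Q : Pair g
  d : ℕ
  hd : 0 < d
  f : 𝒮.presheaf.obj (op Q.U)
  hf : f ∈ 𝒮.deg Q.U Q.hU d

/-- The standard charts cover `G(u)`. -/
theorem exists_mem_range_stdChart (x : ((RelProj.domQ u p' chart' : P'.Opens) : Scheme.{u})) :
    ∃ i : Idx g 𝒮, x ∈ Set.range
      (stdChart u p' chart' i.Q.U i.Q.hU i.Q.U' i.Q.hU' i.Q.hle i.hd i.f i.hf).base := by
  have hx : (x.1 : P') ∈ RelProj.domQ u p' chart' := x.2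
  obtain ⟨V, hV⟩ := Opens.mem_iSup.mp hx
  obtain ⟨y, hy, hyx⟩ := hV
  obtain ⟨d, hd, f, hf, hfy⟩ := exists_homogeneous_of_mem_domOpen _ y hy
  refine ⟨⟨⟨V.1.1.1, V.1.2.1, V.1.1.2, V.1.2.2, V.2⟩, d, hd, f, hf⟩, ?_⟩
  have h1 : (x.1 : P') ∈ Set.range (RelProj.awayEmb u p' chart' V.1.1.1 V.1.1.2 V.1.2.1 V.1.2.2
      V.2 hd f hf).base :=
    (mem_range_awayEmb_iff u p' chart' _ _ _ _ _ hd f hf _).mpr ⟨y, hyx, hfy⟩
  obtain ⟨z, hz⟩ := h1
  refine ⟨z, ?_⟩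
  apply (RelProj.domQ u p' chart').ι.isOpenEmbedding.injective
  rw [← Scheme.Hom.comp_apply, stdChart_ι]
  exact hz

variable {p chart p' chart'}

theorem emb_map_res_apply (hP' : RelProj.IsRelProj 𝒮' p' chart') {U' W' : S'.Opens}
    (hU' : IsAffineOpen U') (hW' : IsAffineOpen W') (r' : Γ(S', U'))
    (hr' : S'.basicOpen r' = W') (i' : W' ≤ U')
    (hirr : (𝒮'.deg W' hW')₊ ≤ ((𝒮'.deg U' hU')₊).map (𝒮'.res hU' hW' i'))
    (y : Proj (𝒮'.deg W' hW')) :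
    (RelProj.emb p' chart' U' hU').base ((Proj.map (𝒮'.res hU' hW' i') hirr).base y) =
      (RelProj.emb p' chart' W' hW').base y := by
  rw [← Scheme.Hom.comp_apply, map_res_emb' hP' hU' hW' r' hr' i' hirr]

/-- A point of a standard chart over `U'` which lies over the basic open `W' ⊆ U'` is read on the
chart of `P'` over `W'`, outside `V₊` of the restricted element. -/
theorem exists_point_refine (hP' : RelProj.IsRelProj 𝒮' p' chart')
    {U W : S.Opens} (hU : IsAffineOpen U) (hW : IsAffineOpen W) (i : W ≤ U)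
    {U' W' : S'.Opens} (hU' : IsAffineOpen U') (hW' : IsAffineOpen W') (r' : Γ(S', U'))
    (hr' : S'.basicOpen r' = W') (i' : W' ≤ U')
    (hle : U' ≤ g ⁻¹ᵁ U) (hleW : W' ≤ g ⁻¹ᵁ W)
    {d : ℕ} (hd : 0 < d) {f : 𝒮.presheaf.obj (op U)} (hf : f ∈ 𝒮.deg U hU d) (X : P')
    (hX : X ∈ Set.range (RelProj.awayEmb u p' chart' U hU U' hU' hle hd f hf).base)
    (yW : Proj (𝒮'.deg W' hW')) (hyW : (RelProj.emb p' chart' W' hW').base yW = X) :
    u.gradedAt W hW W' hW' hleW (𝒮.res hU hW i f) ∉ yW.asHomogeneousIdeal := by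
  obtain ⟨y, hy, hfy⟩ := (mem_range_awayEmb_iff u p' chart' U hU U' hU' hle hd f hf X).mp hX
  have hirr' := irrelevant_le_map' (𝒮 := 𝒮') hU' hW' r' hr' i'
  have h1 := emb_map_res_apply hP' hU' hW' r' hr' i' hirr' yW
  rw [hyW, ← hy] at h1
  have h2 : (Proj.map (𝒮'.res hU' hW' i') hirr').base yW = y :=
    (RelProj.emb p' chart' U' hU').isOpenEmbedding.injective h1
  rw [← gradedAt_comp u U W hU hW i U' W' hU' hW' i' hle hleW f]
  intro hmem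
  apply hfy
  rw [← h2]
  exact hmem

/-- **Existence and uniqueness of `Proj(u)` on `G(u)`**, in terms of the standard charts. -/
theorem existsUnique_glue (hP : RelProj.IsRelProj 𝒮 p chart)
    (hP' : RelProj.IsRelProj 𝒮' p' chart') :
    ∃! v : ((RelProj.domQ u p' chart' : P'.Opens) : Scheme.{u}) ⟶ P,
      ∀ (U : S.Opens) (hU : IsAffineOpen U) (U' : S'.Opens) (hU' : IsAffineOpen U')
        (hle : U' ≤ g ⁻¹ᵁ U) (d : ℕ) (hd : 0 < d) (f : 𝒮.presheaf.obj (op U))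
        (hf : f ∈ 𝒮.deg U hU d),
        stdChart u p' chart' U hU U' hU' hle hd f hf ≫ v = tgt u p chart U hU U' hU' hle hd f hf := by
  have key := existsUnique_of_charts_local
    (X := ((RelProj.domQ u p' chart' : P'.Opens) : Scheme.{u})) (Y := P)
    (ι := Idx g 𝒮)
    (U := fun i => Spec (CommRingCat.of (Away (𝒮'.deg i.Q.U' i.Q.hU')
      (u.gradedAt i.Q.U i.Q.hU i.Q.U' i.Q.hU' i.Q.hle i.f))))
    (fun i => stdChart u p' chart' i.Q.U i.Q.hU i.Q.U' i.Q.hU' i.Q.hle i.hd i.f i.hf)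
    (exists_mem_range_stdChart u p' chart')
    (fun i => tgt u p chart i.Q.U i.Q.hU i.Q.U' i.Q.hU' i.Q.hle i.hd i.f i.hf) ?_
  · obtain ⟨v, hv, huniq⟩ := key
    refine ⟨v, fun U hU U' hU' hle d hd f hf => hv ⟨⟨U, U', hU, hU', hle⟩, d, hd, f, hf⟩, ?_⟩
    intro w hw
    exact huniq w (fun i => hw i.Q.U i.Q.hU i.Q.U' i.Q.hU' i.Q.hle i.d i.hd i.f i.hf)
  · intro i j x hxi hxj
    -- the point of `P'`
    have hXi : (RelProj.domQ u p' chart').ι.base x ∈ Set.range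
        (RelProj.awayEmb u p' chart' i.Q.U i.Q.hU i.Q.U' i.Q.hU' i.Q.hle i.hd i.f i.hf).base := by
      obtain ⟨z, rfl⟩ := hxi
      refine ⟨z, ?_⟩
      rw [← stdChart_ι, Scheme.Hom.comp_apply]
    have hXj : (RelProj.domQ u p' chart').ι.base x ∈ Set.range
        (RelProj.awayEmb u p' chart' j.Q.U j.Q.hU j.Q.U' j.Q.hU' j.Q.hle j.hd j.f j.hf).base := by
      obtain ⟨z, rfl⟩ := hxj
      refine ⟨z, ?_⟩
      rw [← stdChart_ι, Scheme.Hom.comp_apply]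
    set X : P' := (RelProj.domQ u p' chart').ι.base x with hXdef
    have hpi : p'.base X ∈ i.Q.U' := by
      obtain ⟨y, hy, -⟩ := (mem_range_awayEmb_iff u p' chart' _ _ _ _ _ i.hd i.f i.hf X).mp hXi
      have : X ∈ Set.range (RelProj.emb p' chart' i.Q.U' i.Q.hU').base := ⟨y, hy⟩
      rw [range_emb] at this
      exact this
    have hpj : p'.base X ∈ j.Q.U' := by
      obtain ⟨y, hy, -⟩ := (mem_range_awayEmb_iff u p' chart' _ _ _ _ _ j.hd j.f j.hf X).mp hXj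
      have : X ∈ Set.range (RelProj.emb p' chart' j.Q.U' j.Q.hU').base := ⟨y, hy⟩
      rw [range_emb] at this
      exact this
    obtain ⟨W, hW₁, hW₂, hyW, -⟩ := exists_common_basic (X := S) ⟨i.Q.U, i.Q.hU⟩ ⟨j.Q.U, j.Q.hU⟩ ⊤
      (g.base (p'.base X)) (i.Q.hle hpi) (j.Q.hle hpj) trivial
    obtain ⟨W', hW'₁, hW'₂, hyW', hW'le⟩ := exists_common_basic (X := S') ⟨i.Q.U', i.Q.hU'⟩
      ⟨j.Q.U', j.Q.hU'⟩ (g ⁻¹ᵁ W.1) (p'.base X) hpi hpj hyW
    obtain ⟨r₁, hr₁⟩ := hW₁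
    obtain ⟨r₂, hr₂⟩ := hW₂
    obtain ⟨r'₁, hr'₁⟩ := hW'₁
    obtain ⟨r'₂, hr'₂⟩ := hW'₂
    have i₁ : W.1 ≤ i.Q.U := (le_of_eq hr₁.symm).trans (S.basicOpen_le r₁)
    have i₂ : W.1 ≤ j.Q.U := (le_of_eq hr₂.symm).trans (S.basicOpen_le r₂)
    have i'₁ : W'.1 ≤ i.Q.U' := (le_of_eq hr'₁.symm).trans (S'.basicOpen_le r'₁)
    have i'₂ : W'.1 ≤ j.Q.U' := (le_of_eq hr'₂.symm).trans (S'.basicOpen_le r'₂)
    -- the common element
    have hm₁ : 𝒮.res i.Q.hU W.2 i₁ i.f ∈ 𝒮.deg W.1 W.2 i.d := (𝒮.res i.Q.hU W.2 i₁).map_mem i.hf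
    have hm₂ : 𝒮.res j.Q.hU W.2 i₂ j.f ∈ 𝒮.deg W.1 W.2 j.d := (𝒮.res j.Q.hU W.2 i₂).map_mem j.hf
    have hxm : 𝒮.res i.Q.hU W.2 i₁ i.f * 𝒮.res j.Q.hU W.2 i₂ j.f ∈ 𝒮.deg W.1 W.2 (i.d + j.d) :=
      SetLike.mul_mem_graded hm₁ hm₂
    have hk : 0 < i.d + j.d := Nat.add_pos_left i.hd j.d
    obtain ⟨a, ha1, ha2⟩ := exists_refine u hP hP' i.Q.hU W.2 r₁ hr₁ i₁ i.Q.hU' W'.2 r'₁ hr'₁ i'₁
      i.Q.hle hW'le i.hd i.hf hm₂ rfl hk hxm
    obtain ⟨b, hb1, hb2⟩ := exists_refine u hP hP' j.Q.hU W.2 r₂ hr₂ i₂ j.Q.hU' W'.2 r'₂ hr'₂ i'₂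
      j.Q.hle hW'le j.hd j.hf hm₁ (mul_comm _ _) hk hxm
    have hac : (a ≫ stdChart u p' chart' i.Q.U i.Q.hU i.Q.U' i.Q.hU' i.Q.hle i.hd i.f i.hf) ≫
        (RelProj.domQ u p' chart').ι =
        RelProj.awayEmb u p' chart' W.1 W.2 W'.1 W'.2 hW'le hk _ hxm := by
      rw [Category.assoc, stdChart_ι, ha1]
    have hbc : (b ≫ stdChart u p' chart' j.Q.U j.Q.hU j.Q.U' j.Q.hU' j.Q.hle j.hd j.f j.hf) ≫
        (RelProj.domQ u p' chart').ι =
        RelProj.awayEmb u p' chart' W.1 W.2 W'.1 W'.2 hW'le hk _ hxm := by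
      rw [Category.assoc, stdChart_ι, hb1]
    refine ⟨_, a, b, ?_, ha2.trans hb2.symm, ?_, ?_⟩
    · rw [← cancel_mono (RelProj.domQ u p' chart').ι, hac, hbc]
    · have : IsOpenImmersion ((a ≫ stdChart u p' chart' i.Q.U i.Q.hU i.Q.U' i.Q.hU' i.Q.hle i.hd
          i.f i.hf) ≫ (RelProj.domQ u p' chart').ι) := by
        rw [hac]
        infer_instance
      exact IsOpenImmersion.of_comp _ (RelProj.domQ u p' chart').ι
    · -- the point lies on the refined chart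
      have hXW : X ∈ Set.range (RelProj.emb p' chart' W'.1 W'.2).base := by
        rw [range_emb]
        exact hyW'
      obtain ⟨yW, hyWX⟩ := hXW
      have n₁ := exists_point_refine u hP' i.Q.hU W.2 i₁ i.Q.hU' W'.2 r'₁ hr'₁ i'₁ i.Q.hle hW'le
        i.hd i.hf X hXi yW hyWX
      have n₂ := exists_point_refine u hP' j.Q.hU W.2 i₂ j.Q.hU' W'.2 r'₂ hr'₂ i'₂ j.Q.hle hW'le
        j.hd j.hf X hXj yW hyWX
      have hXr : X ∈ Set.range
          (RelProj.awayEmb u p' chart' W.1 W.2 W'.1 W'.2 hW'le hk _ hxm).base := by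
        refine (mem_range_awayEmb_iff u p' chart' _ _ _ _ _ hk _ hxm X).mpr ⟨yW, hyWX, ?_⟩
        rw [map_mul]
        intro hmem
        exact (yW.isPrime.mem_or_mem hmem).elim n₁ n₂
      obtain ⟨w, hw⟩ := hXr
      refine ⟨w, ?_⟩
      apply (RelProj.domQ u p' chart').ι.isOpenEmbedding.injective
      rw [← Scheme.Hom.comp_apply, hac]
      exact hw

/-- The prescribed morphisms on the standard charts lie over `g`. -/
theorem tgt_comp_p (hP : RelProj.IsRelProj 𝒮 p chart) (hP' : RelProj.IsRelProj 𝒮' p' chart')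
    (U : S.Opens) (hU : IsAffineOpen U) (U' : S'.Opens) (hU' : IsAffineOpen U')
    (hle : U' ≤ g ⁻¹ᵁ U) {d : ℕ} (hd : 0 < d) (f : 𝒮.presheaf.obj (op U))
    (hf : f ∈ 𝒮.deg U hU d) :
    tgt u p chart U hU U' hU' hle hd f hf ≫ p =
      RelProj.awayEmb u p' chart' U hU U' hU' hle hd f hf ≫ p' ≫ g := by
  have hring : 𝒮.strZero U hU ≫ CommRingCat.ofHom (fromZeroRingHom (𝒮.deg U hU) _) ≫
      CommRingCat.ofHom (Away.map (u.gradedAt U hU U' hU' hle) f) =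
      g.appLE U U' hle ≫ 𝒮'.strZero U' hU' ≫
        CommRingCat.ofHom (fromZeroRingHom (𝒮'.deg U' hU') _) := by
    refine CommRingCat.hom_ext (RingHom.ext fun c => ?_)
    change Away.map (u.gradedAt U hU U' hU' hle) f
      (fromZeroRingHom (𝒮.deg U hU) _ ((𝒮.strZero U hU).hom c)) =
      fromZeroRingHom (𝒮'.deg U' hU') _ ((𝒮'.strZero U' hU').hom ((g.appLE U U' hle).hom c))
    rw [away_map_fromZeroRingHom]
    congr 1
    apply Subtype.ext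
    exact congr($(u.str_appLE U U' hle).hom c)
  have e1 := RelProjBC.emb_comp_p hP U hU
  have e2 : RelProj.emb p' chart' U' hU' ≫ p' ≫ g =
      ((Proj.toSpecZero (𝒮'.deg U' hU') ≫ Spec.map (𝒮'.strZero U' hU')) ≫ hU'.fromSpec) ≫ g := by
    rw [← Category.assoc, RelProjBC.emb_comp_p hP' U' hU']
  unfold tgt RelProj.awayEmb
  simp only [Category.assoc]
  rw [e1, e2]
  simp only [Category.assoc]
  rw [Proj.awayι_toSpecZero_assoc, Proj.awayι_toSpecZero_assoc,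
    ← IsAffineOpen.SpecMap_appLE_fromSpec g hU hU' hle]
  simp only [← Category.assoc, ← Spec.map_comp]
  rw [Category.assoc, Category.assoc, hring]

/-- `Proj(u)` on `G(u)` lies over `g`. -/
theorem glue_comp_p (hP : RelProj.IsRelProj 𝒮 p chart) (hP' : RelProj.IsRelProj 𝒮' p' chart')
    (v : ((RelProj.domQ u p' chart' : P'.Opens) : Scheme.{u}) ⟶ P)
    (hv : ∀ (U : S.Opens) (hU : IsAffineOpen U) (U' : S'.Opens) (hU' : IsAffineOpen U')
      (hle : U' ≤ g ⁻¹ᵁ U) (d : ℕ) (hd : 0 < d) (f : 𝒮.presheaf.obj (op U))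
      (hf : f ∈ 𝒮.deg U hU d),
      stdChart u p' chart' U hU U' hU' hle hd f hf ≫ v = tgt u p chart U hU U' hU' hle hd f hf) :
    v ≫ p = (RelProj.domQ u p' chart').ι ≫ p' ≫ g := by
  apply hom_ext_of_local
  intro x
  obtain ⟨i, hi⟩ := exists_mem_range_stdChart u p' chart' x
  refine ⟨_, stdChart u p' chart' i.Q.U i.Q.hU i.Q.U' i.Q.hU' i.Q.hle i.hd i.f i.hf,
    inferInstance, hi, ?_⟩
  rw [← Category.assoc, hv, tgt_comp_p u hP hP', ← stdChart_ι, Category.assoc]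

end Glue

end Groth.Agent.Lib.helper28.ProjQGlue
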