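import Groth.Agent.Lib.Helper28.ProjBaseChange

/-!
# Base change and irrelevant ideals (helper28)

For a pushout square of graded rings `𝒜 → 𝒜'` over `R → R'` (structure maps in degree zero), the
irrelevant ideal of `𝒜'` is generated by the image of that of `𝒜`; so `Proj.map` is defined.
-/

set_option autoImplicit false
universe u

namespace Groth.Agent.Lib.helper28.ProjBaseChange

open CategoryTheory CategoryTheory.Limits AlgebraicGeometry HomogeneousLocalization DirectSum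
open scoped HomogeneousIdeal
open Groth.Agent.Lib.helper28.AwayBaseChange

variable {R R' A A' : Type u} [CommRing R] [CommRing R'] [CommRing A] [CommRing A']
  {σ τ : Type u} [SetLike σ A] [AddSubgroupClass σ A] [SetLike τ A'] [AddSubgroupClass τ A']
  (𝒜 : ℕ → σ) [GradedRing 𝒜] (𝒜' : ℕ → τ) [GradedRing 𝒜']
  (φ : R →+* R') (α : R →+* A) (β : R' →+* A') (ψ : 𝒜 →+*ᵍ 𝒜')
  (hα : ∀ r, α r ∈ 𝒜 0) (hβ : ∀ r', β r' ∈ 𝒜' 0)

include hβ in
theorem irrelevant_le_map_of_semiBC (hBC : SemiBC φ α β (ψ : A →+* A').toAddMonoidHom) :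
    𝒜'₊ ≤ 𝒜₊.map ψ := by
  let I : Ideal A' := (𝒜₊.map ψ).toIdeal
  let _ : Module R' (A' ⧸ I) := Module.compHom (A' ⧸ I) β
  let q : A' →+ A' ⧸ I := (Ideal.Quotient.mk I : A' →+* A' ⧸ I).toAddMonoidHom
  let H : A' →+ A' ⧸ I := q.comp (AddMonoidHom.id A' - (GradedRing.proj 𝒜' 0))
  have hH : ∀ x', H x' = Ideal.Quotient.mk I (x' - (decompose 𝒜' x' 0 : A')) := fun x' => rfl
  obtain ⟨H₀, -, huniq⟩ := hBC.lift (A' ⧸ I) 0 (fun r x => by
    rw [AddMonoidHom.zero_apply, AddMonoidHom.zero_apply, smul_zero])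
  have e1 : H = H₀ := by
    refine huniq H ⟨fun r' x' => ?_, fun x => ?_⟩
    · rw [hH, hH, coe_decompose_mul_of_left_mem_zero 𝒜' (hβ r'), ← mul_sub, map_mul]
      rfl
    · rw [AddMonoidHom.zero_apply]
      change H (ψ x) = 0
      rw [hH, ← GradedRingHom.map_directSumDecompose, ← map_sub]
      refine Ideal.Quotient.eq_zero_iff_mem.mpr ?_
      refine Ideal.mem_map_of_mem _ ?_
      change GradedRing.proj 𝒜 0 (x - (decompose 𝒜 x 0 : A)) = 0
      rw [map_sub, GradedRing.proj_apply, GradedRing.proj_apply,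
        decompose_of_mem_same 𝒜 (SetLike.coe_mem _), sub_self]
  have e2 : (0 : A' →+ A' ⧸ I) = H₀ := by
    refine huniq 0 ⟨fun r' x' => ?_, fun x => rfl⟩
    rw [AddMonoidHom.zero_apply, AddMonoidHom.zero_apply, smul_zero]
  intro x' hx'
  have h0 : (decompose 𝒜' x' 0 : A') = 0 := hx'
  have h1 : H x' = 0 := by rw [e1, ← e2]; rfl
  rw [hH, h0, sub_zero] at h1
  exact Ideal.Quotient.eq_zero_iff_mem.mp h1

include hβ in
theorem irrelevant_le_map_of_isPushout
    (hpo : IsPushout (CommRingCat.ofHom φ) (CommRingCat.ofHom α) (CommRingCat.ofHom β)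
      (CommRingCat.ofHom (ψ : A →+* A'))) :
    𝒜'₊ ≤ 𝒜₊.map ψ :=
  irrelevant_le_map_of_semiBC 𝒜 𝒜' φ α β ψ hβ (semiBC_of_isPushout φ α β _ hpo)

end Groth.Agent.Lib.helper28.ProjBaseChange
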