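import Groth.Agent.Lib.Helper28.RelProjBC
import Groth.Agent.Lib.Helper28.ProjBaseChange2

/-!
# Morphisms of relative Proj's over a change of base, from data on affine pairs (helper28)

`PairHom ψ 𝒮 𝒮'`: graded ring homomorphisms `𝒮(U) → 𝒮'(U')` for the affine pairs
`U' ⊆ ψ⁻¹(U)`, compatible with restriction on both sides.  Under Mathlib's hypothesis on irrelevant
ideals they glue to a morphism `Proj(𝒮') ⟶ Proj(𝒮)`; if the squares with the structure maps are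
pushouts this morphism is a base change of `ψ`.
-/

set_option autoImplicit false
universe u

namespace Groth.Agent.Lib.helper28.RelProjPair

open CategoryTheory CategoryTheory.Limits AlgebraicGeometry TopologicalSpace Opposite
open scoped HomogeneousIdeal
open Groth.Agent.Lib.helper28.RelSpecMap Groth.Agent.Lib.helper28.RelTwistChart
open Groth.Agent.Lib.helper28.RelProjBC

section Ring

variable {A B C σ τ υ : Type u} [CommRing A] [SetLike σ A] [AddSubgroupClass σ A]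
  [CommRing B] [SetLike τ B] [AddSubgroupClass τ B]
  [CommRing C] [SetLike υ C] [AddSubgroupClass υ C]
  {𝒜 : ℕ → σ} {ℬ : ℕ → τ} {𝒞 : ℕ → υ} [GradedRing 𝒜] [GradedRing ℬ] [GradedRing 𝒞]

theorem proj_map_comp_eq {f : 𝒜 →+*ᵍ ℬ} {g : ℬ →+*ᵍ 𝒞} {h : 𝒜 →+*ᵍ 𝒞} (e : g.comp f = h)
    (hf : ℬ₊ ≤ 𝒜₊.map f) (hg : 𝒞₊ ≤ ℬ₊.map g) (hh : 𝒞₊ ≤ 𝒜₊.map h) :
    Proj.map g hg ≫ Proj.map f hf = Proj.map h hh := by
  subst e
  exact (Proj.map_comp f g hf hg).symm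

end Ring

section Basic

variable {S : Scheme.{u}} {𝒮 : RelProj.QCGrAlg S} {P : Scheme.{u}} {p : P ⟶ S}
  {chart : ∀ (U : S.Opens) (hU : IsAffineOpen U),
    (((p ⁻¹ᵁ U : P.Opens) : Scheme.{u}) ≅ Proj (𝒮.deg U hU))}

theorem irrelevant_le_map' {U V : S.Opens} (hU : IsAffineOpen U) (hV : IsAffineOpen V)
    (r : Γ(S, U)) (h : S.basicOpen r = V) (i : V ≤ U) :
    (𝒮.deg V hV)₊ ≤ ((𝒮.deg U hU)₊).map (𝒮.res hU hV i) := by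
  subst h
  exact 𝒮.irrelevant_le_map U hU r

theorem map_res_emb' (hP : RelProj.IsRelProj 𝒮 p chart) {U V : S.Opens} (hU : IsAffineOpen U)
    (hV : IsAffineOpen V) (r : Γ(S, U)) (h : S.basicOpen r = V) (i : V ≤ U)
    (hirr : (𝒮.deg V hV)₊ ≤ ((𝒮.deg U hU)₊).map (𝒮.res hU hV i)) :
    Proj.map (𝒮.res hU hV i) hirr ≫ RelProj.emb p chart U hU = RelProj.emb p chart V hV := by
  subst h
  exact RelProj.map_res_emb hP U hU r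

end Basic

variable {Y Y' : Scheme.{u}} (ψ : Y' ⟶ Y) (𝒮 : RelProj.QCGrAlg Y) (𝒮' : RelProj.QCGrAlg Y')

/-- A compatible family of graded ring homomorphisms on affine pairs. -/
structure PairHom where
  φ : ∀ (U : Y.Opens) (hU : IsAffineOpen U) (U' : Y'.Opens) (hU' : IsAffineOpen U')
    (_ : U' ≤ ψ ⁻¹ᵁ U), 𝒮.deg U hU →+*ᵍ 𝒮'.deg U' hU'
  res_right : ∀ (U : Y.Opens) (hU : IsAffineOpen U) (U' : Y'.Opens) (hU' : IsAffineOpen U')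
    (hle : U' ≤ ψ ⁻¹ᵁ U) (V' : Y'.Opens) (hV' : IsAffineOpen V') (i : V' ≤ U'),
    (𝒮'.res hU' hV' i).comp (φ U hU U' hU' hle) = φ U hU V' hV' (i.trans hle)
  res_left : ∀ (U : Y.Opens) (hU : IsAffineOpen U) (V : Y.Opens) (hV : IsAffineOpen V)
    (i : V ≤ U) (U' : Y'.Opens) (hU' : IsAffineOpen U') (hle : U' ≤ ψ ⁻¹ᵁ V),
    (φ V hV U' hU' hle).comp (𝒮.res hU hV i) = φ U hU U' hU' (hle.trans (ψ.preimage_mono i))

variable {ψ 𝒮 𝒮'} (Φ : PairHom ψ 𝒮 𝒮')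
  (hirr : ∀ (U : Y.Opens) (hU : IsAffineOpen U) (U' : Y'.Opens) (hU' : IsAffineOpen U')
    (hle : U' ≤ ψ ⁻¹ᵁ U), (𝒮'.deg U' hU')₊ ≤ ((𝒮.deg U hU)₊).map (Φ.φ U hU U' hU' hle))
  {P P' : Scheme.{u}} {p : P ⟶ Y}
  {chart : ∀ (U : Y.Opens) (hU : IsAffineOpen U),
    (((p ⁻¹ᵁ U : P.Opens) : Scheme.{u}) ≅ Proj (𝒮.deg U hU))}
  {p' : P' ⟶ Y'}
  {chart' : ∀ (U' : Y'.Opens) (hU' : IsAffineOpen U'),
    (((p' ⁻¹ᵁ U' : P'.Opens) : Scheme.{u}) ≅ Proj (𝒮'.deg U' hU'))}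

/-- Gluing the chartwise `Proj.map`s. -/
theorem existsUnique_map (hP : RelProj.IsRelProj 𝒮 p chart) (hP' : RelProj.IsRelProj 𝒮' p' chart') :
    ∃! g : P' ⟶ P, ∀ (U : Y.Opens) (hU : IsAffineOpen U) (U' : Y'.Opens) (hU' : IsAffineOpen U')
      (hle : U' ≤ ψ ⁻¹ᵁ U),
      RelProj.emb p' chart' U' hU' ≫ g =
        Proj.map (Φ.φ U hU U' hU' hle) (hirr U hU U' hU' hle) ≫ RelProj.emb p chart U hU := by
  have key := existsUnique_of_charts_local (X := P') (Y := P)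
    (ι := Pair ψ) (U := fun Q => Proj (𝒮'.deg Q.U' Q.hU'))
    (fun Q => RelProj.emb p' chart' Q.U' Q.hU')
    ?_ (fun Q => Proj.map (Φ.φ Q.U Q.hU Q.U' Q.hU' Q.hle) (hirr Q.U Q.hU Q.U' Q.hU' Q.hle) ≫
      RelProj.emb p chart Q.U Q.hU) ?_
  · obtain ⟨v, hv, huniq⟩ := key
    refine ⟨v, fun U hU U' hU' hle => hv ⟨U, U', hU, hU', hle⟩, ?_⟩
    intro w hw
    exact huniq w (fun Q => hw Q.U Q.hU Q.U' Q.hU' Q.hle)
  · intro x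
    obtain ⟨U, hU, hyU⟩ : ∃ U : Y.Opens, IsAffineOpen U ∧ ψ.base (p'.base x) ∈ U := by
      obtain ⟨_, ⟨U, hU, rfl⟩, hxU, -⟩ := Y.isBasis_affineOpens.exists_subset_of_mem_open
        (Set.mem_univ (ψ.base (p'.base x))) isOpen_univ
      exact ⟨U, hU, hxU⟩
    obtain ⟨_, ⟨U', hU', rfl⟩, hxU', hU'le⟩ := Y'.isBasis_affineOpens.exists_subset_of_mem_open
      (show p'.base x ∈ ((ψ ⁻¹ᵁ U : Y'.Opens) : Set Y') from hyU) (ψ ⁻¹ᵁ U).isOpen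
    refine ⟨⟨U, U', hU, hU', hU'le⟩, ?_⟩
    rw [range_emb]
    exact hxU'
  · intro Q₁ Q₂ x hx₁ hx₂
    rw [range_emb] at hx₁ hx₂
    obtain ⟨W, hW₁, hW₂, hyW, -⟩ := exists_common_basic (X := Y) ⟨Q₁.U, Q₁.hU⟩ ⟨Q₂.U, Q₂.hU⟩ ⊤
      (ψ.base (p'.base x)) (Q₁.hle hx₁) (Q₂.hle hx₂) trivial
    obtain ⟨W', hW'₁, hW'₂, hyW', hW'le⟩ := exists_common_basic (X := Y') ⟨Q₁.U', Q₁.hU'⟩
      ⟨Q₂.U', Q₂.hU'⟩ (ψ ⁻¹ᵁ W.1) (p'.base x) hx₁ hx₂ hyW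
    obtain ⟨r₁, hr₁⟩ := hW₁
    obtain ⟨r₂, hr₂⟩ := hW₂
    obtain ⟨r'₁, hr'₁⟩ := hW'₁
    obtain ⟨r'₂, hr'₂⟩ := hW'₂
    have i₁ : W.1 ≤ Q₁.U := (le_of_eq hr₁.symm).trans (Y.basicOpen_le r₁)
    have i₂ : W.1 ≤ Q₂.U := (le_of_eq hr₂.symm).trans (Y.basicOpen_le r₂)
    have i'₁ : W'.1 ≤ Q₁.U' := (le_of_eq hr'₁.symm).trans (Y'.basicOpen_le r'₁)
    have i'₂ : W'.1 ≤ Q₂.U' := (le_of_eq hr'₂.symm).trans (Y'.basicOpen_le r'₂)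
    have hi₁ := irrelevant_le_map' (𝒮 := 𝒮) Q₁.hU W.2 r₁ hr₁ i₁
    have hi₂ := irrelevant_le_map' (𝒮 := 𝒮) Q₂.hU W.2 r₂ hr₂ i₂
    have hi'₁ := irrelevant_le_map' (𝒮 := 𝒮') Q₁.hU' W'.2 r'₁ hr'₁ i'₁
    have hi'₂ := irrelevant_le_map' (𝒮 := 𝒮') Q₂.hU' W'.2 r'₂ hr'₂ i'₂
    have e₁ := map_res_emb' hP' Q₁.hU' W'.2 r'₁ hr'₁ i'₁ hi'₁
    have e₂ := map_res_emb' hP' Q₂.hU' W'.2 r'₂ hr'₂ i'₂ hi'₂
    have f₁ := map_res_emb' hP Q₁.hU W.2 r₁ hr₁ i₁ hi₁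
    have f₂ := map_res_emb' hP Q₂.hU W.2 r₂ hr₂ i₂ hi₂
    refine ⟨Proj (𝒮'.deg W'.1 W'.2), Proj.map (𝒮'.res Q₁.hU' W'.2 i'₁) hi'₁,
      Proj.map (𝒮'.res Q₂.hU' W'.2 i'₂) hi'₂, e₁.trans e₂.symm, ?_, ?_, ?_⟩
    · have g₁ : Proj.map (𝒮'.res Q₁.hU' W'.2 i'₁) hi'₁ ≫
          Proj.map (Φ.φ Q₁.U Q₁.hU Q₁.U' Q₁.hU' Q₁.hle) (hirr _ _ _ _ _) ≫
            RelProj.emb p chart Q₁.U Q₁.hU =
          Proj.map (Φ.φ W.1 W.2 W'.1 W'.2 hW'le) (hirr _ _ _ _ _) ≫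
            RelProj.emb p chart W.1 W.2 := by
        rw [← f₁, ← Category.assoc, ← Category.assoc]
        refine congrArg (· ≫ RelProj.emb p chart Q₁.U Q₁.hU) ?_
        rw [proj_map_comp_eq (Φ.res_right Q₁.U Q₁.hU Q₁.U' Q₁.hU' Q₁.hle W'.1 W'.2 i'₁) _ _
            (hirr _ _ _ _ _),
          proj_map_comp_eq (Φ.res_left Q₁.U Q₁.hU W.1 W.2 i₁ W'.1 W'.2 hW'le) _ _
            (hirr _ _ _ _ _)]
      have g₂ : Proj.map (𝒮'.res Q₂.hU' W'.2 i'₂) hi'₂ ≫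
          Proj.map (Φ.φ Q₂.U Q₂.hU Q₂.U' Q₂.hU' Q₂.hle) (hirr _ _ _ _ _) ≫
            RelProj.emb p chart Q₂.U Q₂.hU =
          Proj.map (Φ.φ W.1 W.2 W'.1 W'.2 hW'le) (hirr _ _ _ _ _) ≫
            RelProj.emb p chart W.1 W.2 := by
        rw [← f₂, ← Category.assoc, ← Category.assoc]
        refine congrArg (· ≫ RelProj.emb p chart Q₂.U Q₂.hU) ?_
        rw [proj_map_comp_eq (Φ.res_right Q₂.U Q₂.hU Q₂.U' Q₂.hU' Q₂.hle W'.1 W'.2 i'₂) _ _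
            (hirr _ _ _ _ _),
          proj_map_comp_eq (Φ.res_left Q₂.U Q₂.hU W.1 W.2 i₂ W'.1 W'.2 hW'le) _ _
            (hirr _ _ _ _ _)]
      exact g₁.trans g₂.symm
    · rw [e₁]
      infer_instance
    · rw [e₁, range_emb]
      exact hyW'

theorem irrelevant_le_of_isPushout
    (hpo : ∀ (U : Y.Opens) (hU : IsAffineOpen U) (U' : Y'.Opens) (hU' : IsAffineOpen U')
      (hle : U' ≤ ψ ⁻¹ᵁ U),
      IsPushout (ψ.appLE U U' hle) (𝒮.str.app (op U)) (𝒮'.str.app (op U'))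
        (CommRingCat.ofHom (Φ.φ U hU U' hU' hle).toRingHom))
    (U : Y.Opens) (hU : IsAffineOpen U) (U' : Y'.Opens) (hU' : IsAffineOpen U')
    (hle : U' ≤ ψ ⁻¹ᵁ U) :
    (𝒮'.deg U' hU')₊ ≤ ((𝒮.deg U hU)₊).map (Φ.φ U hU U' hU' hle) :=
  Groth.Agent.Lib.helper28.ProjBaseChange.irrelevant_le_map_of_isPushout (𝒮.deg U hU)
    (𝒮'.deg U' hU') (ψ.appLE U U' hle).hom (𝒮.str.app (op U)).hom (𝒮'.str.app (op U')).hom
    (Φ.φ U hU U' hU' hle) (𝒮'.str_mem U' hU') (hpo U hU U' hU' hle)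

/-- **Base change of relative Proj, from data on affine pairs.** -/
theorem exists_isPullback
    (hpo : ∀ (U : Y.Opens) (hU : IsAffineOpen U) (U' : Y'.Opens) (hU' : IsAffineOpen U')
      (hle : U' ≤ ψ ⁻¹ᵁ U),
      IsPushout (ψ.appLE U U' hle) (𝒮.str.app (op U)) (𝒮'.str.app (op U'))
        (CommRingCat.ofHom (Φ.φ U hU U' hU' hle).toRingHom))
    (hP : RelProj.IsRelProj 𝒮 p chart) (hP' : RelProj.IsRelProj 𝒮' p' chart') :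
    ∃ g : P' ⟶ P, IsPullback g p' p ψ ∧
      ∀ (U : Y.Opens) (hU : IsAffineOpen U) (U' : Y'.Opens) (hU' : IsAffineOpen U')
        (hle : U' ≤ ψ ⁻¹ᵁ U),
        RelProj.emb p' chart' U' hU' ≫ g =
          Proj.map (Φ.φ U hU U' hU' hle) (irrelevant_le_of_isPushout Φ hpo U hU U' hU' hle) ≫
            RelProj.emb p chart U hU := by
  obtain ⟨g, hg, -⟩ := existsUnique_map Φ (irrelevant_le_of_isPushout Φ hpo) hP hP'
  exact ⟨g, isPullback_baseChange ψ 𝒮 𝒮' Φ.φ hpo (irrelevant_le_of_isPushout Φ hpo) p chart hP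
    p' chart' hP' g hg, hg⟩

end Groth.Agent.Lib.helper28.RelProjPair
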