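import Groth.Agent.Lib.Helper28.RelTwistMap
import Groth.Agent.Lib.Helper28.RelProjPair

/-!
# The comparison map `O_{Proj 𝒮}(n) ⟶ h_* O_{Proj 𝒮'}(n)` over a change of base (helper28)

Two-base version of `RelTwistMap`: `ψ : Y' ⟶ Y`, `Φ : PairHom ψ 𝒮 𝒮'` a compatible family of graded
ring homomorphisms `𝒮(U) → 𝒮'(U')` on affine pairs, `h : Proj 𝒮' ⟶ Proj 𝒮` the glued morphism
(`IsPairMap`).  `existsUnique_theta`: exactly one `θ : O_P(n) ⟶ h_* O_{P'}(n)` reading chartwise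
`a / f ↦ φ a / φ f`.
-/

set_option autoImplicit false
set_option linter.style.haveILetI false
universe u
open CategoryTheory CategoryTheory.Limits AlgebraicGeometry TopologicalSpace Opposite
open Scheme.Modules
open scoped HomogeneousIdeal

namespace Groth.Agent.Lib.helper28.RelTwistMap2

open Groth.Agent.Lib.helper28.RelTwistChart Groth.Agent.Lib.helper2
  Groth.Agent.Lib.helper28.RelProjPair Groth.Agent.Lib.helper28.RelSpecMap
  Groth.Agent.Lib.helper28.RelTwistMap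

variable {Y Y' P P' : Scheme.{u}} {ψ : Y' ⟶ Y} {𝒮 : RelProj.QCGrAlg Y} {𝒮' : RelProj.QCGrAlg Y'}
  {Φ : PairHom ψ 𝒮 𝒮'}
  {hirr : ∀ (U : Y.Opens) (hU : IsAffineOpen U) (U' : Y'.Opens) (hU' : IsAffineOpen U')
    (hle : U' ≤ ψ ⁻¹ᵁ U), (𝒮'.deg U' hU')₊ ≤ ((𝒮.deg U hU)₊).map (Φ.φ U hU U' hU' hle)}
  {p : P ⟶ Y} {p' : P' ⟶ Y'}
  {chart : ∀ (U : Y.Opens) (hU : IsAffineOpen U),
    (((p ⁻¹ᵁ U : P.Opens) : Scheme.{u}) ≅ Proj (𝒮.deg U hU))}
  {chart' : ∀ (U' : Y'.Opens) (hU' : IsAffineOpen U'),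
    (((p' ⁻¹ᵁ U' : P'.Opens) : Scheme.{u}) ≅ Proj (𝒮'.deg U' hU'))}
  {h : P' ⟶ P}

variable (hirr p chart p' chart' h) in
/-- `h : Proj 𝒮' ⟶ Proj 𝒮` is the morphism glued from the `Proj.map`s of `Φ`. -/
def IsPairMap : Prop :=
  ∀ (U : Y.Opens) (hU : IsAffineOpen U) (U' : Y'.Opens) (hU' : IsAffineOpen U')
    (hle : U' ≤ ψ ⁻¹ᵁ U),
    RelProj.emb p' chart' U' hU' ≫ h =
      Proj.map (Φ.φ U hU U' hU' hle) (hirr U hU U' hU' hle) ≫ RelProj.emb p chart U hU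

theorem h_emb (hh : IsPairMap hirr p p' chart chart' h) (U : Y.Opens)
    (hU : IsAffineOpen U) (U' : Y'.Opens) (hU' : IsAffineOpen U') (hle : U' ≤ ψ ⁻¹ᵁ U)
    (y : ProjectiveSpectrum (𝒮'.deg U' hU')) :
    h.base ((RelProj.emb p' chart' U' hU').base y) =
      (RelProj.emb p chart U hU).base
        (ProjectiveSpectrum.comap (Φ.φ U hU U' hU' hle) (hirr U hU U' hU' hle) y) := by
  have := hh U hU U' hU' hle
  have h2 := congrArg (fun g => g.base y) this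
  simp only [Scheme.Hom.comp_base] at h2
  exact h2

variable {n : ℤ} {L : P.Modules} {L' : P'.Modules}
  (hirr)
  (lam : ∀ (U : Y.Opens) (hU : IsAffineOpen U),
    L ⟶ (Scheme.Modules.pushforward (RelProj.emb p chart U hU)).obj
      (GrTwist.twist (𝒮.deg U hU) n))
  (lam' : ∀ (U' : Y'.Opens) (hU' : IsAffineOpen U'),
    L' ⟶ (Scheme.Modules.pushforward (RelProj.emb p' chart' U' hU')).obj
      (GrTwist.twist (𝒮'.deg U' hU') n))

/-- The section `t` of `O_{P'}(n)` over `N` reads, on the chart over `U'`, the comparison image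
`a / f ↦ φ a / φ f` (for the pair `(U, U')`) of the section `s` of `O_P(n)` over `W`. -/
def Rel (U : Y.Opens) (hU : IsAffineOpen U) (U' : Y'.Opens) (hU' : IsAffineOpen U')
    (hle : U' ≤ ψ ⁻¹ᵁ U) (W : P.Opens) (N : P'.Opens) (s : Γ(L, W)) (t : Γ(L', N)) : Prop :=
  ∀ (y : ProjectiveSpectrum (𝒮'.deg U' hU')) (hy : (RelProj.emb p' chart' U' hU').base y ∈ N)
    (hy' : (RelProj.emb p chart U hU).base
      (ProjectiveSpectrum.comap (Φ.φ U hU U' hU' hle) (hirr U hU U' hU' hle) y) ∈ W),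
    GrTwist.val (V := RelProj.emb p' chart' U' hU' ⁻¹ᵁ N) ((lam' U' hU').app N t) ⟨y, hy⟩ =
      GrTwist.locMap (Φ.φ U hU U' hU' hle) (hirr U hU U' hU' hle) y
        (GrTwist.val (V := RelProj.emb p chart U hU ⁻¹ᵁ W) ((lam U hU).app W s) ⟨_, hy'⟩)

theorem rel_resB (U : Y.Opens) (hU : IsAffineOpen U) (U' : Y'.Opens) (hU' : IsAffineOpen U')
    (hle : U' ≤ ψ ⁻¹ᵁ U) (W : P.Opens) {N N₂ : P'.Opens}
    (i : N₂ ≤ N) (s : Γ(L, W)) (t : Γ(L', N)) (hr : Rel hirr lam lam' U hU U' hU' hle W N s t) :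
    Rel hirr lam lam' U hU U' hU' hle W N₂ s (L'.presheaf.map (homOfLE i).op t) := by
  intro y hy hy'
  rw [← ModSec.map_app_apply (lam' U' hU') (homOfLE i) t]
  exact hr y (i hy) hy'

theorem rel_resA (U : Y.Opens) (hU : IsAffineOpen U) (U' : Y'.Opens) (hU' : IsAffineOpen U')
    (hle : U' ≤ ψ ⁻¹ᵁ U) {W W₂ : P.Opens} (i : W₂ ≤ W)
    (N : P'.Opens) (s : Γ(L, W)) (t : Γ(L', N)) (hr : Rel hirr lam lam' U hU U' hU' hle W N s t) :
    Rel hirr lam lam' U hU U' hU' hle W₂ N (L.presheaf.map (homOfLE i).op s) t := by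
  intro y hy hy'
  rw [← ModSec.map_app_apply (lam U hU) (homOfLE i) s]
  exact hr y hy (i hy')

/-- Values only depend on the restriction of `t` to a neighbourhood. -/
theorem rel_of_resB (U : Y.Opens) (hU : IsAffineOpen U) (U' : Y'.Opens) (hU' : IsAffineOpen U')
    (hle : U' ≤ ψ ⁻¹ᵁ U) (W : P.Opens) {N N₂ : P'.Opens}
    (i : N₂ ≤ N) (s : Γ(L, W)) (t : Γ(L', N))
    (hr : Rel hirr lam lam' U hU U' hU' hle W N₂ s (L'.presheaf.map (homOfLE i).op t))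
    (y : ProjectiveSpectrum (𝒮'.deg U' hU')) (hy : (RelProj.emb p' chart' U' hU').base y ∈ N₂)
    (hy' : (RelProj.emb p chart U hU).base
      (ProjectiveSpectrum.comap (Φ.φ U hU U' hU' hle) (hirr U hU U' hU' hle) y) ∈ W) :
    GrTwist.val (V := RelProj.emb p' chart' U' hU' ⁻¹ᵁ N) ((lam' U' hU').app N t) ⟨y, i hy⟩ =
      GrTwist.locMap (Φ.φ U hU U' hU' hle) (hirr U hU U' hU' hle) y
        (GrTwist.val (V := RelProj.emb p chart U hU ⁻¹ᵁ W) ((lam U hU).app W s) ⟨_, hy'⟩) := by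
  have h1 := hr y hy hy'
  rw [← ModSec.map_app_apply (lam' U' hU') (homOfLE i) t] at h1
  exact h1

theorem rel_unique (hL' : RelProj.IsRelTwist 𝒮' p' chart' n L' lam')
    (hh : IsPairMap hirr p p' chart chart' h)
    (U : Y.Opens) (hU : IsAffineOpen U) (U' : Y'.Opens) (hU' : IsAffineOpen U')
    (hle : U' ≤ ψ ⁻¹ᵁ U) (W : P.Opens) (N : P'.Opens) (hN : N ≤ p' ⁻¹ᵁ U')
    (hNW : N ≤ h ⁻¹ᵁ W) (s : Γ(L, W)) (t t' : Γ(L', N))
    (hr : Rel hirr lam lam' U hU U' hU' hle W N s t)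
    (hr' : Rel hirr lam lam' U hU U' hU' hle W N s t') : t = t' := by
  apply (hL'.bijective U' hU' N hN).1
  refine Groth.Agent.Lib.helper28.GTwistQCoh.sectN_ext _ _ _ fun x => ?_
  have hy' : (RelProj.emb p chart U hU).base
      (ProjectiveSpectrum.comap (Φ.φ U hU U' hU' hle) (hirr U hU U' hU' hle) x.1) ∈ W := by
    rw [← h_emb hh U hU U' hU' hle x.1]
    exact hNW x.2
  exact (hr x.1 x.2 hy').trans (hr' x.1 x.2 hy').symm

theorem rel_exists (hL' : RelProj.IsRelTwist 𝒮' p' chart' n L' lam')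
    (hh : IsPairMap hirr p p' chart chart' h)
    (U : Y.Opens) (hU : IsAffineOpen U) (U' : Y'.Opens) (hU' : IsAffineOpen U')
    (hle : U' ≤ ψ ⁻¹ᵁ U) (W : P.Opens) (N : P'.Opens) (hN : N ≤ p' ⁻¹ᵁ U')
    (hNW : N ≤ h ⁻¹ᵁ W) (s : Γ(L, W)) :
    ∃ t : Γ(L', N), Rel hirr lam lam' U hU U' hU' hle W N s t := by
  have hUV : ((RelProj.emb p' chart' U' hU' ⁻¹ᵁ N : (Proj (𝒮'.deg U' hU')).Opens)).1 ⊆
      ProjectiveSpectrum.comap (Φ.φ U hU U' hU' hle) (hirr U hU U' hU' hle) ⁻¹'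
        ((RelProj.emb p chart U hU ⁻¹ᵁ W : (Proj (𝒮.deg U hU)).Opens)).1 := by
    intro y hy
    change (RelProj.emb p chart U hU).base
      (ProjectiveSpectrum.comap (Φ.φ U hU U' hU' hle) (hirr U hU U' hU' hle) y) ∈ W
    rw [← h_emb hh U hU U' hU' hle y]
    exact hNW hy
  obtain ⟨t, ht⟩ := (hL'.bijective U' hU' N hN).2
    (GrTwist.comapApp (Φ.φ U hU U' hU' hle) (hirr U hU U' hU' hle) n
      (RelProj.emb p chart U hU ⁻¹ᵁ W) (RelProj.emb p' chart' U' hU' ⁻¹ᵁ N) hUV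
      ((lam U hU).app W s))
  refine ⟨t, fun y hy hy' => ?_⟩
  rw [ht]
  rfl

/-- Passing to a basic open of `U'`. -/
theorem rel_descend_right (hP' : RelProj.IsRelProj 𝒮' p' chart')
    (hL' : RelProj.IsRelTwist 𝒮' p' chart' n L' lam')
    (U : Y.Opens) (hU : IsAffineOpen U) (U' : Y'.Opens) (hU' : IsAffineOpen U')
    (hle : U' ≤ ψ ⁻¹ᵁ U) (r' : Γ(Y', U')) (V' : Y'.Opens) (hV' : IsAffineOpen V')
    (hVr : V' = Y'.basicOpen r') (hle' : V' ≤ ψ ⁻¹ᵁ U)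
    (W : P.Opens) (N : P'.Opens) (s : Γ(L, W)) (t : Γ(L', N))
    (hr : Rel hirr lam lam' U hU U' hU' hle W N s t) :
    Rel hirr lam lam' U hU V' hV' hle' W N s t := by
  subst hVr
  intro z hz hz'
  have hyB : (RelProj.emb p' chart' U' hU').base (ProjectiveSpectrum.comap
      (𝒮'.res hU' (hU'.basicOpen r') (Y'.basicOpen_le r')) (𝒮'.irrelevant_le_map U' hU' r') z) ∈
      N := by
    rw [Groth.Agent.Lib.helper28.RelTwistSec.emb_comap hP']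
    exact hz
  have hcB := hL'.compat U' hU' r' N t z hz hyB
  have hres : ∀ a : 𝒮.presheaf.obj (op U),
      𝒮'.res hU' (hU'.basicOpen r') (Y'.basicOpen_le r') (Φ.φ U hU U' hU' hle a) =
        Φ.φ U hU (Y'.basicOpen r') hV' hle' a := fun a =>
    congrArg (fun k : 𝒮.deg U hU →+*ᵍ 𝒮'.deg (Y'.basicOpen r') hV' => k a)
      (Φ.res_right U hU U' hU' hle (Y'.basicOpen r') hV' (Y'.basicOpen_le r'))
  have hpt : ProjectiveSpectrum.comap (Φ.φ U hU U' hU' hle) (hirr U hU U' hU' hle)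
      (ProjectiveSpectrum.comap (𝒮'.res hU' (hU'.basicOpen r') (Y'.basicOpen_le r'))
        (𝒮'.irrelevant_le_map U' hU' r') z) =
      ProjectiveSpectrum.comap (Φ.φ U hU (Y'.basicOpen r') hV' hle')
        (hirr U hU (Y'.basicOpen r') hV' hle') z := by
    apply ProjectiveSpectrum.ext
    ext a
    change 𝒮'.res hU' (hU'.basicOpen r') (Y'.basicOpen_le r') (Φ.φ U hU U' hU' hle a) ∈
        z.asHomogeneousIdeal ↔
      Φ.φ U hU (Y'.basicOpen r') hV' hle' a ∈ z.asHomogeneousIdeal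
    rw [hres]
  have hyA2 : (RelProj.emb p chart U hU).base
      (ProjectiveSpectrum.comap (Φ.φ U hU U' hU' hle) (hirr U hU U' hU' hle)
        (ProjectiveSpectrum.comap (𝒮'.res hU' (hU'.basicOpen r') (Y'.basicOpen_le r'))
          (𝒮'.irrelevant_le_map U' hU' r') z)) ∈ W := hpt ▸ hz'
  have hrel := hr _ hyB hyA2
  obtain ⟨⟨a, s₀⟩, hv⟩ := IsLocalization.mk'_surjective
    (ProjectiveSpectrum.comap (Φ.φ U hU (Y'.basicOpen r') hV' hle')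
      (hirr U hU (Y'.basicOpen r') hV' hle') z).asHomogeneousIdeal.toIdeal.primeCompl
    (GrTwist.val (V := RelProj.emb p chart U hU ⁻¹ᵁ W) ((lam U hU).app W s) ⟨_, hz'⟩)
  rw [← Localization.mk_eq_mk'] at hv
  have hv2 := val_eq_of_point_eq ((lam U hU).app W s) hpt.symm hz' hyA2 a s₀.1 s₀.2 hv.symm
  rw [hcB, hrel, hv2, ← hv, GrTwist.locMap_mk, GrTwist.locMap_mk, GrTwist.locMap_mk]
  exact mk_congr _ _ (hres a) (hres s₀.1)

/-- Passing to a basic open of `U`. -/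
theorem rel_descend_left (hP : RelProj.IsRelProj 𝒮 p chart)
    (hL : RelProj.IsRelTwist 𝒮 p chart n L lam)
    (U : Y.Opens) (hU : IsAffineOpen U) (r : Γ(Y, U)) (V : Y.Opens) (hV : IsAffineOpen V)
    (hVr : V = Y.basicOpen r) (U' : Y'.Opens) (hU' : IsAffineOpen U')
    (hleV : U' ≤ ψ ⁻¹ᵁ V) (hleU : U' ≤ ψ ⁻¹ᵁ U)
    (W : P.Opens) (N : P'.Opens) (s : Γ(L, W)) (t : Γ(L', N))
    (hr : Rel hirr lam lam' U hU U' hU' hleU W N s t) :
    Rel hirr lam lam' V hV U' hU' hleV W N s t := by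
  subst hVr
  intro y hy hy'
  have hres : ∀ a : 𝒮.presheaf.obj (op U),
      Φ.φ (Y.basicOpen r) hV U' hU' hleV (𝒮.res hU hV (Y.basicOpen_le r) a) =
        Φ.φ U hU U' hU' hleU a := fun a =>
    congrArg (fun k : 𝒮.deg U hU →+*ᵍ 𝒮'.deg U' hU' => k a)
      (Φ.res_left U hU (Y.basicOpen r) hV (Y.basicOpen_le r) U' hU' hleV)
  have hpt : ProjectiveSpectrum.comap (𝒮.res hU (hU.basicOpen r) (Y.basicOpen_le r))
      (𝒮.irrelevant_le_map U hU r)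
      (ProjectiveSpectrum.comap (Φ.φ (Y.basicOpen r) hV U' hU' hleV)
        (hirr (Y.basicOpen r) hV U' hU' hleV) y) =
      ProjectiveSpectrum.comap (Φ.φ U hU U' hU' hleU) (hirr U hU U' hU' hleU) y := by
    apply ProjectiveSpectrum.ext
    ext a
    change Φ.φ (Y.basicOpen r) hV U' hU' hleV (𝒮.res hU hV (Y.basicOpen_le r) a) ∈
        y.asHomogeneousIdeal ↔ Φ.φ U hU U' hU' hleU a ∈ y.asHomogeneousIdeal
    rw [hres]
  have hyA1 : (RelProj.emb p chart U hU).base (ProjectiveSpectrum.comap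
      (𝒮.res hU (hU.basicOpen r) (Y.basicOpen_le r)) (𝒮.irrelevant_le_map U hU r)
      (ProjectiveSpectrum.comap (Φ.φ (Y.basicOpen r) hV U' hU' hleV)
        (hirr (Y.basicOpen r) hV U' hU' hleV) y)) ∈ W := by
    rw [Groth.Agent.Lib.helper28.RelTwistSec.emb_comap hP]
    exact hy'
  have hyA2 : (RelProj.emb p chart U hU).base
      (ProjectiveSpectrum.comap (Φ.φ U hU U' hU' hleU) (hirr U hU U' hU' hleU) y) ∈ W :=
    hpt ▸ hyA1
  have hcA := hL.compat U hU r W s _ hy' hyA1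
  have hrel := hr y hy hyA2
  obtain ⟨⟨a, s₀⟩, hv⟩ := IsLocalization.mk'_surjective
    (ProjectiveSpectrum.comap (𝒮.res hU (hU.basicOpen r) (Y.basicOpen_le r))
        (𝒮.irrelevant_le_map U hU r)
      (ProjectiveSpectrum.comap (Φ.φ (Y.basicOpen r) hV U' hU' hleV)
        (hirr (Y.basicOpen r) hV U' hU' hleV) y)).asHomogeneousIdeal.toIdeal.primeCompl
    (GrTwist.val (V := RelProj.emb p chart U hU ⁻¹ᵁ W) ((lam U hU).app W s) ⟨_, hyA1⟩)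
  rw [← Localization.mk_eq_mk'] at hv
  have hv2 := val_eq_of_point_eq ((lam U hU).app W s) hpt hyA1 hyA2 a s₀.1 s₀.2 hv.symm
  rw [hrel, hv2, hcA, ← hv, GrTwist.locMap_mk, GrTwist.locMap_mk, GrTwist.locMap_mk]
  exact mk_congr _ _ (hres a).symm (hres s₀.1).symm

theorem rel_indep (hP : RelProj.IsRelProj 𝒮 p chart) (hP' : RelProj.IsRelProj 𝒮' p' chart')
    (hL : RelProj.IsRelTwist 𝒮 p chart n L lam)
    (hL' : RelProj.IsRelTwist 𝒮' p' chart' n L' lam')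
    (hh : IsPairMap hirr p p' chart chart' h)
    (Q₁ : Pair ψ) (W : P.Opens) (N : P'.Opens) (hN : N ≤ p' ⁻¹ᵁ Q₁.U')
    (hNW : N ≤ h ⁻¹ᵁ W) (s : Γ(L, W)) (t : Γ(L', N))
    (hr : Rel hirr lam lam' Q₁.U Q₁.hU Q₁.U' Q₁.hU' Q₁.hle W N s t)
    (Q₂ : Pair ψ) : Rel hirr lam lam' Q₂.U Q₂.hU Q₂.U' Q₂.hU' Q₂.hle W N s t := by
  intro y hy hy'
  have hx₂ : p'.base ((RelProj.emb p' chart' Q₂.U' Q₂.hU').base y) ∈ Q₂.U' := by
    have : (RelProj.emb p' chart' Q₂.U' Q₂.hU').base y ∈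
        Set.range (RelProj.emb p' chart' Q₂.U' Q₂.hU') := ⟨y, rfl⟩
    rw [range_emb] at this
    exact this
  have hx₁ : p'.base ((RelProj.emb p' chart' Q₂.U' Q₂.hU').base y) ∈ Q₁.U' := hN hy
  obtain ⟨W₀, hW₁, hW₂, hyW, -⟩ := exists_common_basic (X := Y) ⟨Q₁.U, Q₁.hU⟩ ⟨Q₂.U, Q₂.hU⟩ ⊤
    (ψ.base (p'.base ((RelProj.emb p' chart' Q₂.U' Q₂.hU').base y))) (Q₁.hle hx₁) (Q₂.hle hx₂)
    trivial
  obtain ⟨W', hW'₁, hW'₂, hyW', hW'le⟩ := exists_common_basic (X := Y') ⟨Q₁.U', Q₁.hU'⟩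
    ⟨Q₂.U', Q₂.hU'⟩ (ψ ⁻¹ᵁ W₀.1) (p'.base ((RelProj.emb p' chart' Q₂.U' Q₂.hU').base y)) hx₁ hx₂
    hyW
  obtain ⟨r₁, hr₁⟩ := hW₁
  obtain ⟨r₂, hr₂⟩ := hW₂
  obtain ⟨r'₁, hr'₁⟩ := hW'₁
  obtain ⟨r'₂, hr'₂⟩ := hW'₂
  have i₁ : W₀.1 ≤ Q₁.U := (le_of_eq hr₁.symm).trans (Y.basicOpen_le r₁)
  have i₂ : W₀.1 ≤ Q₂.U := (le_of_eq hr₂.symm).trans (Y.basicOpen_le r₂)
  have i'₁ : W'.1 ≤ Q₁.U' := (le_of_eq hr'₁.symm).trans (Y'.basicOpen_le r'₁)
  have i'₂ : W'.1 ≤ Q₂.U' := (le_of_eq hr'₂.symm).trans (Y'.basicOpen_le r'₂)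
  have hN₂ : N ⊓ p' ⁻¹ᵁ W'.1 ≤ N := inf_le_left
  have hle₁ : W'.1 ≤ ψ ⁻¹ᵁ Q₁.U := hW'le.trans (ψ.preimage_mono i₁)
  have hle₂ : W'.1 ≤ ψ ⁻¹ᵁ Q₂.U := hW'le.trans (ψ.preimage_mono i₂)
  have h1 := rel_resB hirr lam lam' Q₁.U Q₁.hU Q₁.U' Q₁.hU' Q₁.hle W hN₂ s t hr
  have h2 := rel_descend_right hirr lam lam' hP' hL' Q₁.U Q₁.hU Q₁.U' Q₁.hU' Q₁.hle r'₁ W'.1 W'.2
    hr'₁.symm hle₁ W _ s _ h1
  have h2' := rel_descend_left hirr lam lam' hP hL Q₁.U Q₁.hU r₁ W₀.1 W₀.2 hr₁.symm W'.1 W'.2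
    hW'le hle₁ W _ s _ h2
  have hle' : N ⊓ p' ⁻¹ᵁ W'.1 ≤ p' ⁻¹ᵁ Q₂.U' := fun x hx => i'₂ hx.2
  obtain ⟨t'', h3⟩ := rel_exists hirr lam lam' hL' hh Q₂.U Q₂.hU Q₂.U' Q₂.hU' Q₂.hle W _ hle'
    (hN₂.trans hNW) s
  have h4 := rel_descend_right hirr lam lam' hP' hL' Q₂.U Q₂.hU Q₂.U' Q₂.hU' Q₂.hle r'₂ W'.1 W'.2
    hr'₂.symm hle₂ W _ s _ h3
  have h4' := rel_descend_left hirr lam lam' hP hL Q₂.U Q₂.hU r₂ W₀.1 W₀.2 hr₂.symm W'.1 W'.2
    hW'le hle₂ W _ s _ h4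
  have h5 := rel_unique hirr lam lam' hL' hh W₀.1 W₀.2 W'.1 W'.2 hW'le W _ inf_le_right
    (hN₂.trans hNW) s _ _ h4' h2'
  subst h5
  exact rel_of_resB hirr lam lam' Q₂.U Q₂.hU Q₂.U' Q₂.hU' Q₂.hle W hN₂ s t h3 y ⟨hy, hyW'⟩ hy'

variable (h) in
/-- `t` is the comparison image of `s`. -/
def IsImg (W : P.Opens) (s : Γ(L, W)) (t : Γ(L', h ⁻¹ᵁ W)) : Prop :=
  ∀ (U : Y.Opens) (hU : IsAffineOpen U) (U' : Y'.Opens) (hU' : IsAffineOpen U')
    (hle : U' ≤ ψ ⁻¹ᵁ U), Rel hirr lam lam' U hU U' hU' hle W (h ⁻¹ᵁ W) s t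

theorem le_iSup_inf_pair (Xf : P'.Opens) :
    Xf ≤ ⨆ Q : Pair ψ, Xf ⊓ p' ⁻¹ᵁ Q.U' := by
  intro x hx
  obtain ⟨U, hU, hyU⟩ : ∃ U : Y.Opens, IsAffineOpen U ∧ ψ.base (p'.base x) ∈ U := by
    obtain ⟨_, ⟨U, hU, rfl⟩, hxU, -⟩ := Y.isBasis_affineOpens.exists_subset_of_mem_open
      (Set.mem_univ (ψ.base (p'.base x))) isOpen_univ
    exact ⟨U, hU, hxU⟩
  obtain ⟨_, ⟨U', hU', rfl⟩, hxU', hU'le⟩ := Y'.isBasis_affineOpens.exists_subset_of_mem_open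
    (show p'.base x ∈ ((ψ ⁻¹ᵁ U : Y'.Opens) : Set Y') from hyU) (ψ ⁻¹ᵁ U).isOpen
  exact Opens.mem_iSup.mpr ⟨⟨U, U', hU, hU', hU'le⟩, hx, hxU'⟩

theorem img_unique (hL' : RelProj.IsRelTwist 𝒮' p' chart' n L' lam')
    (hh : IsPairMap hirr p p' chart chart' h) (W : P.Opens) (s : Γ(L, W))
    (t t' : Γ(L', h ⁻¹ᵁ W)) (ht : IsImg hirr h lam lam' W s t)
    (ht' : IsImg hirr h lam lam' W s t') : t = t' := by
  refine (ModSec.sheaf L').eq_of_locally_eq'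
    (fun Q : Pair ψ => h ⁻¹ᵁ W ⊓ p' ⁻¹ᵁ Q.U') (h ⁻¹ᵁ W)
    (fun Q => homOfLE inf_le_left) (le_iSup_inf_pair (p' := p') _) t t' ?_
  intro Q
  exact rel_unique hirr lam lam' hL' hh Q.U Q.hU Q.U' Q.hU' Q.hle W _ inf_le_right inf_le_left s
    _ _
    (rel_resB hirr lam lam' Q.U Q.hU Q.U' Q.hU' Q.hle W inf_le_left s t
      (ht Q.U Q.hU Q.U' Q.hU' Q.hle))
    (rel_resB hirr lam lam' Q.U Q.hU Q.U' Q.hU' Q.hle W inf_le_left s t'
      (ht' Q.U Q.hU Q.U' Q.hU' Q.hle))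

theorem exists_img (hP : RelProj.IsRelProj 𝒮 p chart) (hP' : RelProj.IsRelProj 𝒮' p' chart')
    (hL : RelProj.IsRelTwist 𝒮 p chart n L lam)
    (hL' : RelProj.IsRelTwist 𝒮' p' chart' n L' lam')
    (hh : IsPairMap hirr p p' chart chart' h) (W : P.Opens) (s : Γ(L, W)) :
    ∃ t : Γ(L', h ⁻¹ᵁ W), IsImg hirr h lam lam' W s t := by
  classical
  let N : Pair ψ → P'.Opens := fun Q => h ⁻¹ᵁ W ⊓ p' ⁻¹ᵁ Q.U'
  have hex : ∀ Q : Pair ψ, ∃ t : Γ(L', N Q),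
      Rel hirr lam lam' Q.U Q.hU Q.U' Q.hU' Q.hle W (N Q) s t := fun Q =>
    rel_exists hirr lam lam' hL' hh Q.U Q.hU Q.U' Q.hU' Q.hle W (N Q) inf_le_right inf_le_left s
  choose sf hsf using hex
  have hcompat : TopCat.Presheaf.IsCompatible L'.presheaf N sf := by
    intro i j
    refine rel_unique hirr lam lam' hL' hh i.U i.hU i.U' i.hU' i.hle W (N i ⊓ N j)
      (inf_le_left.trans inf_le_right) (inf_le_left.trans inf_le_left) s _ _
      (rel_resB hirr lam lam' i.U i.hU i.U' i.hU' i.hle W inf_le_left s (sf i) (hsf i)) ?_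
    exact rel_indep hirr lam lam' hP hP' hL hL' hh j W (N i ⊓ N j)
      (inf_le_right.trans inf_le_right) (inf_le_left.trans inf_le_left) s _
      (rel_resB hirr lam lam' j.U j.hU j.U' j.hU' j.hle W inf_le_right s (sf j) (hsf j)) i
  obtain ⟨t, ht, -⟩ := (ModSec.sheaf L').existsUnique_gluing' N (h ⁻¹ᵁ W)
    (fun i => homOfLE (inf_le_left : N i ≤ h ⁻¹ᵁ W))
    (le_iSup_inf_pair (p' := p') _) sf hcompat
  refine ⟨t, fun U hU U' hU' hle y hy hy' => ?_⟩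
  have hxU : (RelProj.emb p' chart' U' hU').base y ∈ p' ⁻¹ᵁ U' := by
    have : (RelProj.emb p' chart' U' hU').base y ∈ Set.range (RelProj.emb p' chart' U' hU') :=
      ⟨y, rfl⟩
    rw [range_emb] at this
    exact this
  have h3 : L'.presheaf.map (homOfLE (inf_le_left : N ⟨U, U', hU, hU', hle⟩ ≤ h ⁻¹ᵁ W)).op t =
      sf ⟨U, U', hU, hU', hle⟩ := ht ⟨U, U', hU, hU', hle⟩
  have h4 := hsf ⟨U, U', hU, hU', hle⟩
  rw [← h3] at h4
  exact rel_of_resB hirr lam lam' U hU U' hU' hle W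
    (inf_le_left : N ⟨U, U', hU, hU', hle⟩ ≤ h ⁻¹ᵁ W) s t h4 y ⟨hy, hxU⟩ hy'

theorem isImg_res (W W₂ : P.Opens) (i : W₂ ≤ W) (s : Γ(L, W)) (t : Γ(L', h ⁻¹ᵁ W))
    (ht : IsImg hirr h lam lam' W s t) :
    IsImg hirr h lam lam' W₂ (L.presheaf.map (homOfLE i).op s)
      (L'.presheaf.map (homOfLE (h.preimage_mono i)).op t) := fun U hU U' hU' hle =>
  rel_resA hirr lam lam' U hU U' hU' hle i _ _ _
    (rel_resB hirr lam lam' U hU U' hU' hle W (h.preimage_mono i) s t (ht U hU U' hU' hle))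

theorem isImg_add (W : P.Opens) (s s' : Γ(L, W)) (t t' : Γ(L', h ⁻¹ᵁ W))
    (ht : IsImg hirr h lam lam' W s t) (ht' : IsImg hirr h lam lam' W s' t') :
    IsImg hirr h lam lam' W (s + s') (t + t') := by
  intro U hU U' hU' hle y hy hy'
  rw [map_add, map_add]
  change GrTwist.val _ ⟨y, hy⟩ + GrTwist.val _ ⟨y, hy⟩ =
    GrTwist.locMap _ _ y (GrTwist.val _ ⟨_, hy'⟩ + GrTwist.val _ ⟨_, hy'⟩)
  rw [map_add, ht U hU U' hU' hle y hy hy', ht' U hU U' hU' hle y hy hy']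

open Groth.Agent.Lib.helper28.GProjSec in
/-- Compatibility of the structure sheaves. -/
theorem val_h_app (hh : IsPairMap hirr p p' chart chart' h) (U : Y.Opens)
    (hU : IsAffineOpen U) (U' : Y'.Opens) (hU' : IsAffineOpen U') (hle : U' ≤ ψ ⁻¹ᵁ U)
    (W : P.Opens) (r : Γ(P, W))
    (y : ProjectiveSpectrum (𝒮'.deg U' hU'))
    (hy : (RelProj.emb p' chart' U' hU').base y ∈ h ⁻¹ᵁ W)
    (hy' : (RelProj.emb p chart U hU).base
      (ProjectiveSpectrum.comap (Φ.φ U hU U' hU' hle) (hirr U hU U' hU' hle) y) ∈ W) :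
    ((toO (𝒮'.deg U' hU') (((RelProj.emb p' chart' U' hU').app (h ⁻¹ᵁ W)).hom
      ((h.app W).hom r))).1 ⟨y, hy⟩).val =
      GrTwist.locMap (Φ.φ U hU U' hU' hle) (hirr U hU U' hU' hle) y
        ((toO (𝒮.deg U hU) (((RelProj.emb p chart U hU).app W).hom r)).1 ⟨_, hy'⟩).val := by
  have e := Scheme.Hom.congr_app (hh U hU U' hU' hle) W
  have e2 := congr($e r)
  have key : ((RelProj.emb p' chart' U' hU').app (h ⁻¹ᵁ W)).hom ((h.app W).hom r) =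
      ((Proj (𝒮'.deg U' hU')).presheaf.map (eqToHom (congrArg
          (fun g : Proj (𝒮'.deg U' hU') ⟶ P => g ⁻¹ᵁ W) (hh U hU U' hU' hle))).op).hom
        (((Proj.map (Φ.φ U hU U' hU' hle) (hirr U hU U' hU' hle)).app
          (RelProj.emb p chart U hU ⁻¹ᵁ W)).hom
            (((RelProj.emb p chart U hU).app W).hom r)) := e2
  rw [key]
  change (HomogeneousLocalization.localRingHom (Φ.φ U hU U' hU' hle) _ _ rfl
    ((toO (𝒮.deg U hU) (((RelProj.emb p chart U hU).app W).hom r)).1 ⟨_, hy'⟩)).val = _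
  rw [HomogeneousLocalization.val_localRingHom]
  rfl

open Groth.Agent.Lib.helper28.GProjSec Groth.Agent.Lib.helper28.GTwistFree
  Groth.Agent.Lib.helper28.LocalGen in
theorem isImg_smul (hh : IsPairMap hirr p p' chart chart' h) (W : P.Opens)
    (r : Γ(P, W)) (s : Γ(L, W)) (t : Γ(L', h ⁻¹ᵁ W)) (ht : IsImg hirr h lam lam' W s t) :
    IsImg hirr h lam lam' W (r • s) ((h.app W).hom r • t) := by
  intro U hU U' hU' hle y hy hy'
  have hL₁ : (lam' U' hU').app (h ⁻¹ᵁ W) ((h.app W).hom r • t) =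
      ((((RelProj.emb p' chart' U' hU').app (h ⁻¹ᵁ W)).hom ((h.app W).hom r) •
        (show Γ(GrTwist.twist (𝒮'.deg U' hU') n, RelProj.emb p' chart' U' hU' ⁻¹ᵁ (h ⁻¹ᵁ W)) from
          (lam' U' hU').app (h ⁻¹ᵁ W) t)) :
        Γ(GrTwist.twist (𝒮'.deg U' hU') n, RelProj.emb p' chart' U' hU' ⁻¹ᵁ (h ⁻¹ᵁ W))) := by
    rw [Scheme.Modules.Hom.app_smul, smul_pushforward]
  have hR : (lam U hU).app W (r • s) =
      ((((RelProj.emb p chart U hU).app W).hom r •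
        (show Γ(GrTwist.twist (𝒮.deg U hU) n, RelProj.emb p chart U hU ⁻¹ᵁ W) from
          (lam U hU).app W s)) :
        Γ(GrTwist.twist (𝒮.deg U hU) n, RelProj.emb p chart U hU ⁻¹ᵁ W)) := by
    rw [Scheme.Modules.Hom.app_smul, smul_pushforward]
  rw [hL₁, hR]
  let cB : GrTwist.O (𝒜 := 𝒮'.deg U' hU') (op (RelProj.emb p' chart' U' hU' ⁻¹ᵁ (h ⁻¹ᵁ W))) :=
    ((RelProj.emb p' chart' U' hU').app (h ⁻¹ᵁ W)).hom ((h.app W).hom r)
  let σB : GrTwist.sectN (𝒜 := 𝒮'.deg U' hU') n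
      (op (RelProj.emb p' chart' U' hU' ⁻¹ᵁ (h ⁻¹ᵁ W))) :=
    (lam' U' hU').app (h ⁻¹ᵁ W) t
  let cA : GrTwist.O (𝒜 := 𝒮.deg U hU) (op (RelProj.emb p chart U hU ⁻¹ᵁ W)) :=
    ((RelProj.emb p chart U hU).app W).hom r
  let σA : GrTwist.sectN (𝒜 := 𝒮.deg U hU) n (op (RelProj.emb p chart U hU ⁻¹ᵁ W)) :=
    (lam U hU).app W s
  change ((((cB • σB : GrTwist.sectN (𝒜 := 𝒮'.deg U' hU') n _)).1 ⟨y, hy⟩ :
      GrTwist.twistAt (𝒮'.deg U' hU') n y) : GrTwist.Loc (𝒮'.deg U' hU') y) =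
    GrTwist.locMap (Φ.φ U hU U' hU' hle) (hirr U hU U' hU' hle) y
      ((((cA • σA : GrTwist.sectN (𝒜 := 𝒮.deg U hU) n _)).1 ⟨_, hy'⟩ :
        GrTwist.twistAt (𝒮.deg U hU) n _) : GrTwist.Loc (𝒮.deg U hU) _)
  rw [smul_val, smul_val, map_mul]
  exact congrArg₂ (· * ·) (val_h_app hirr hh U hU U' hU' hle W r y hy hy')
    (ht U hU U' hU' hle y hy hy')

open Groth.Agent.Lib.helper28.LocalGen in
/-- **The comparison map of relative twisting sheaves over a change of base**: there is exactly one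
morphism `O_P(n) ⟶ h_* O_{P'}(n)` which chartwise is `a / f ↦ φ a / φ f`. -/
theorem existsUnique_theta (hP : RelProj.IsRelProj 𝒮 p chart)
    (hP' : RelProj.IsRelProj 𝒮' p' chart')
    (hL : RelProj.IsRelTwist 𝒮 p chart n L lam)
    (hL' : RelProj.IsRelTwist 𝒮' p' chart' n L' lam')
    (hh : IsPairMap hirr p p' chart chart' h) :
    ∃! θ : L ⟶ (Scheme.Modules.pushforward h).obj L',
      ∀ (W : P.Opens) (s : Γ(L, W)), IsImg hirr h lam lam' W s (θ.app W s) := by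
  classical
  have hex := fun (W : P.Opens) (s : Γ(L, W)) =>
    exists_img hirr lam lam' hP hP' hL hL' hh W s
  choose θW hθ using hex
  have hadd : ∀ (W : P.Opens) (s s' : Γ(L, W)), θW W (s + s') = θW W s + θW W s' := fun W s s' =>
    img_unique hirr lam lam' hL' hh W _ _ _ (hθ W _)
      (isImg_add hirr lam lam' W s s' _ _ (hθ W s) (hθ W s'))
  let α : L.presheaf ⟶ ((Scheme.Modules.pushforward h).obj L').presheaf :=
    { app := fun W => AddCommGrpCat.ofHom (AddMonoidHom.mk' (θW W.unop) (hadd W.unop))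
      naturality := by
        intro W W₂ f
        ext s
        exact img_unique hirr lam lam' hL' hh W₂.unop _ _ _ (hθ W₂.unop _)
          (isImg_res hirr lam lam' W.unop W₂.unop (leOfHom f.unop) s _ (hθ W.unop s)) }
  have hlin : ∀ (W : (Opens P)ᵒᵖ) (r : Γ(P, W.unop)) (s : Γ(L, W.unop)),
      θW W.unop (r • s) = (h.app W.unop).hom r • θW W.unop s := fun W r s =>
    img_unique hirr lam lam' hL' hh W.unop _ _ _ (hθ W.unop _)
      (isImg_smul hirr lam lam' hh W.unop r s _ (hθ W.unop s))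
  refine ⟨⟨PresheafOfModules.homMk α (fun W r s => hlin W r s)⟩, fun W s => hθ W s, ?_⟩
  intro θ' hθ'
  refine Scheme.Modules.hom_ext _ _ (fun W => ?_)
  ext s
  exact img_unique hirr lam lam' hL' hh W _ _ _ (hθ' W s) (hθ W s)

end Groth.Agent.Lib.helper28.RelTwistMap2
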