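import Groth.Agent.Lib.Helper28.RelProjPair2
import Groth.Agent.Lib.Helper28.RelTwistMap2

/-!
# `Proj(u)` under Mathlib's hypothesis on irrelevant ideals (helper28)

For a graded morphism `u : 𝒮 → 𝒮'` over `ψ : Y' ⟶ Y` such that on every affine pair the irrelevant
ideal of `𝒮'(U')` lies in the ideal generated by the image of that of `𝒮(U)`: `G(u)` is everything,
and a morphism satisfying `IsProjQMapOn` on `G(u)` is the morphism glued from the `Proj.map`s.
-/

set_option autoImplicit false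
universe u

namespace Groth.Agent.Lib.helper28.ProjQOfIrr

open CategoryTheory CategoryTheory.Limits AlgebraicGeometry TopologicalSpace Opposite
open scoped HomogeneousIdeal
open Groth.Agent.Lib.helper28.RelSpecMap Groth.Agent.Lib.helper28.RelTwistChart
open Groth.Agent.Lib.helper28.RelProjPair Groth.Agent.Lib.helper28.RelTwistMap2

variable {Y Y' : Scheme.{u}} {ψ : Y' ⟶ Y} {𝒮 : RelProj.QCGrAlg Y} {𝒮' : RelProj.QCGrAlg Y'}
  (u : RelProj.QGrHom ψ 𝒮 𝒮')
  (hirr : ∀ (U : Y.Opens) (hU : IsAffineOpen U) (U' : Y'.Opens) (hU' : IsAffineOpen U')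
    (hle : U' ≤ ψ ⁻¹ᵁ U), (𝒮'.deg U' hU')₊ ≤ ((𝒮.deg U hU)₊).map (u.gradedAt U hU U' hU' hle))
  {P P' : Scheme.{u}} {p : P ⟶ Y}
  {chart : ∀ (U : Y.Opens) (hU : IsAffineOpen U),
    (((p ⁻¹ᵁ U : P.Opens) : Scheme.{u}) ≅ Proj (𝒮.deg U hU))}
  {p' : P' ⟶ Y'}
  {chart' : ∀ (U' : Y'.Opens) (hU' : IsAffineOpen U'),
    (((p' ⁻¹ᵁ U' : P'.Opens) : Scheme.{u}) ≅ Proj (𝒮'.deg U' hU'))}

include hirr in
theorem domQ_eq_top (p' : P' ⟶ Y')
    (chart' : ∀ (U' : Y'.Opens) (hU' : IsAffineOpen U'),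
      (((p' ⁻¹ᵁ U' : P'.Opens) : Scheme.{u}) ≅ Proj (𝒮'.deg U' hU'))) :
    RelProj.domQ u p' chart' = ⊤ := by
  refine top_le_iff.mp fun x _ => ?_
  obtain ⟨U, hU, hyU⟩ : ∃ U : Y.Opens, IsAffineOpen U ∧ ψ.base (p'.base x) ∈ U := by
    obtain ⟨_, ⟨U, hU, rfl⟩, hxU, -⟩ := Y.isBasis_affineOpens.exists_subset_of_mem_open
      (Set.mem_univ (ψ.base (p'.base x))) isOpen_univ
    exact ⟨U, hU, hxU⟩
  obtain ⟨_, ⟨U', hU', rfl⟩, hxU', hle⟩ := Y'.isBasis_affineOpens.exists_subset_of_mem_open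
    (show p'.base x ∈ ((ψ ⁻¹ᵁ U : Y'.Opens) : Set Y') from hyU) (ψ ⁻¹ᵁ U).isOpen
  have hx : x ∈ Set.range (RelProj.emb p' chart' U' hU') := by
    rw [range_emb]
    exact hxU'
  obtain ⟨y, rfl⟩ := hx
  refine Opens.mem_iSup.mpr ⟨⟨(⟨U, hU⟩, ⟨U', hU'⟩), hle⟩, ?_⟩
  refine ⟨y, ?_, rfl⟩
  rw [domOpen_eq_top _ (hirr U hU U' hU' hle)]
  trivial

/-- A morphism defined on `G(u)` and satisfying the chart equations of `Proj(u)` there is (after
identifying `G(u)` with the whole of `Proj 𝒮'`) the morphism glued from the `Proj.map`s. -/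
theorem exists_isPairMap (r : ((RelProj.domQ u p' chart' : P'.Opens) : Scheme.{u}) ⟶ P)
    (hr : RelProj.IsProjQMapOn u p chart p' chart' (RelProj.domQ u p' chart') r) :
    ∃ h : P' ⟶ P, (RelProj.domQ u p' chart').ι ≫ h = r ∧ IsIso (RelProj.domQ u p' chart').ι ∧
      IsPairMap (Φ := PairHom.ofQGrHom u) hirr p p' chart chart' h := by
  have hdom := domQ_eq_top u hirr p' chart'
  have hiso : IsIso (RelProj.domQ u p' chart').ι := by
    rw [hdom, ← Scheme.topIso_hom]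
    infer_instance
  refine ⟨inv (RelProj.domQ u p' chart').ι ≫ r, by simp, hiso, ?_⟩
  intro U hU U' hU' hle
  refine hom_ext_of_away (u.gradedAt U hU U' hU' hle) (hirr U hU U' hU' hle) _ _
    fun d hd a ha => ?_
  have hW := RelProj.range_awayEmb_subset_domQ u p' chart' U hU U' hU' hle hd a ha
  have h1 := hr U hU U' hU' hle d hd a ha hW
  have h2 : IsOpenImmersion.lift (RelProj.domQ u p' chart').ι
      (RelProj.awayEmb u p' chart' U hU U' hU' hle hd a ha) hW ≫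
        (RelProj.domQ u p' chart').ι = RelProj.awayEmb u p' chart' U hU U' hU' hle hd a ha :=
    IsOpenImmersion.lift_fac _ _ _
  change _ = Proj.awayι (𝒮'.deg U' hU') (u.gradedAt U hU U' hU' hle a) _ hd ≫
    Proj.map (u.gradedAt U hU U' hU' hle) (hirr U hU U' hU' hle) ≫ RelProj.emb p chart U hU
  rw [Proj.awayι_comp_map_assoc _ _ hd a ha, ← h1]
  have h3 : Proj.awayι (𝒮'.deg U' hU') (u.gradedAt U hU U' hU' hle a)
      ((u.gradedAt U hU U' hU' hle).map_mem ha) hd ≫ RelProj.emb p' chart' U' hU' =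
        RelProj.awayEmb u p' chart' U hU U' hU' hle hd a ha := rfl
  rw [← Category.assoc, h3]
  calc RelProj.awayEmb u p' chart' U hU U' hU' hle hd a ha ≫
        inv (RelProj.domQ u p' chart').ι ≫ r
      = (IsOpenImmersion.lift (RelProj.domQ u p' chart').ι
          (RelProj.awayEmb u p' chart' U hU U' hU' hle hd a ha) hW ≫
            (RelProj.domQ u p' chart').ι) ≫ inv (RelProj.domQ u p' chart').ι ≫ r := by rw [h2]
    _ = _ := by rw [Category.assoc, IsIso.hom_inv_id_assoc]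

end Groth.Agent.Lib.helper28.ProjQOfIrr
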