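import Groth.Agent.Lib.Helper28.RLpsiU

set_option autoImplicit false
universe u

namespace Groth.Agent.Lib.helper28.RLpsiU

open CategoryTheory CategoryTheory.Limits AlgebraicGeometry TopologicalSpace Opposite
open HomogeneousLocalization
open scoped HomogeneousIdeal
open Groth.Agent.Lib.helper28.RelTwistChart Groth.Agent.Lib.helper28.ProjQGlue
open Groth.Agent.Lib.helper28 Groth.Agent.Lib.helper28.RLpsi

section Local2

variable {Y X P PL : Scheme.{u}} {q : X ⟶ Y}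
  (L : X.Modules) [L.IsQuasicoherent]
  {𝒮 : RelProj.QCGrAlg Y} (𝒮L : RelProj.QCGrAlg X) (j : L ⟶ 𝒮L.toModule)
  (hj : RelProj.IsGrSymAlg L 𝒮L j)
  (u : RelProj.QGrHom q 𝒮 𝒮L)
  {p : P ⟶ Y} {chart : ∀ (U : Y.Opens) (hU : IsAffineOpen U),
    (((p ⁻¹ᵁ U : P.Opens) : Scheme.{u}) ≅ Proj (𝒮.deg U hU))}
  {pL : PL ⟶ X} {chartL : ∀ (U : X.Opens) (hU : IsAffineOpen U),
    (((pL ⁻¹ᵁ U : PL.Opens) : Scheme.{u}) ≅ Proj (𝒮L.deg U hU))}
  (hL : PicF.IsInvertible L) (hP : RelProj.IsRelProj 𝒮 p chart)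
  (hPL : RelProj.IsRelProj 𝒮L pL chartL)
  (r : ((RelProj.domQ u pL chartL : PL.Opens) : Scheme.{u}) ⟶ P)
  (hr : ∀ (U : Y.Opens) (hU : IsAffineOpen U) (U' : X.Opens) (hU' : IsAffineOpen U')
    (hle : U' ≤ q ⁻¹ᵁ U) (d : ℕ) (hd : 0 < d) (f : 𝒮.presheaf.obj (op U))
    (hf : f ∈ 𝒮.deg U hU d),
    stdChart u pL chartL U hU U' hU' hle hd f hf ≫ r = tgt u p chart U hU U' hU' hle hd f hf)

include hj hL hP hPL hr in
/-- **Immersion criterion, local form**: if every point of `G(u)` lies over some affine `X_t`,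
`t = ψ♭(s)` with `s` homogeneous of positive degree over an affine open `U` of the base, such
that `𝒮(U)_(s) → 𝒮L(X_t)_(t)` is surjective, then `r` is an immersion. -/
theorem isImmersion_of_local
    (h : ∀ x' : ((RelProj.domQ u pL chartL : PL.Opens) : Scheme.{u}),
      ∃ (U : Y.Opens) (hU : IsAffineOpen U) (n : ℕ) (_ : 0 < n) (s : 𝒮.presheaf.obj (op U))
        (_ : s ∈ 𝒮.deg U hU n), pL ((RelProj.domQ u pL chartL).ι x') ∈ XT 𝒮L u U n s ∧
        ∃ hXT : IsAffineOpen (XT 𝒮L u U n s),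
          Function.Surjective (Away.map (u.gradedAt U hU (XT 𝒮L u U n s) hXT
            (XT_le 𝒮L u U n s)) s)) :
    IsImmersion r := by
  apply IsZariskiLocalAtTarget.of_forall_source_exists_preimage
  intro x'
  obtain ⟨U, hU, n, hn, s, hs, hx, hXT, hsurj⟩ := h x'
  refine ⟨(Proj.awayι (𝒮.deg U hU) s hs hn ≫ RelProj.emb p chart U hU).opensRange,
    mem_preimage_of_mem_XT L 𝒮L j hj u hL hP hPL r hr U hU hn s hs x' hx, ?_⟩
  obtain ⟨e, he⟩ := preimage_ι_comp_eq L 𝒮L j hj u hL hP hPL r hr U hU hn s hs hXT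
  rw [he]
  have : IsClosedImmersion (Spec.map (CommRingCat.ofHom (Away.map (u.gradedAt U hU
      (XT 𝒮L u U n s) hXT (XT_le 𝒮L u U n s)) s))) :=
    IsClosedImmersion.spec_of_surjective _ hsurj
  infer_instance

include hj hL hP hPL hr in
/-- **Immersion criterion, necessity, local form**: if `r` is an immersion, every point of
`G(u)` lies over such an `X_t`. -/
theorem exists_of_isImmersion [IsImmersion r]
    (x' : ((RelProj.domQ u pL chartL : PL.Opens) : Scheme.{u})) :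
    ∃ (U : Y.Opens) (hU : IsAffineOpen U) (n : ℕ) (_ : 0 < n) (s : 𝒮.presheaf.obj (op U))
      (_ : s ∈ 𝒮.deg U hU n), pL ((RelProj.domQ u pL chartL).ι x') ∈ XT 𝒮L u U n s ∧
      ∃ hXT : IsAffineOpen (XT 𝒮L u U n s),
        Function.Surjective (Away.map (u.gradedAt U hU (XT 𝒮L u U n s) hXT
          (XT_le 𝒮L u U n s)) s) := by
  obtain ⟨U, hU, hxU, -⟩ := (Opens.isBasis_iff_nbhd.mp Y.isBasis_affineOpens)
    (show p (r x') ∈ (⊤ : Y.Opens) from trivial)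
  have hcob : r x' ∈ r.coborderRange := subset_coborder ⟨x', rfl⟩
  obtain ⟨n, hn, s, hs, hzs, hsle⟩ := exists_basic (chart := chart) U hU r.coborderRange (r x')
    hcob hxU
  obtain ⟨hXT, hsurj⟩ := affine_surjective_of_isImmersion L 𝒮L j hj u hL hP hPL r hr U hU hn s hs
    hsle
  exact ⟨U, hU, n, hn, s, hs,
    mem_XT_of_mem_preimage L 𝒮L j hj u hL hP hPL r hr U hU hn s hs x' hzs, hXT, hsurj⟩

end Local2

section H3

variable {Y X : Scheme.{u}} {q : X ⟶ Y} {𝒮 : RelProj.QCGrAlg Y} {𝒮L : RelProj.QCGrAlg X}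
  (u : RelProj.QGrHom q 𝒮 𝒮L) (U : Y.Opens) (hU : IsAffineOpen U) (n : ℕ)
  (s : 𝒮.presheaf.obj (op U)) (O : X.Opens) (hle : O ≤ q ⁻¹ᵁ U)

/-- The function `t` on `O`, multiplied by a power of `u s`, is the image of a homogeneous
element. -/
def H3 (t : Γ(X, O)) : Prop :=
  ∃ (m : ℕ) (_ : 0 < m) (s' : 𝒮.presheaf.obj (op U)) (_ : s' ∈ 𝒮.deg U hU (m * n)),
    (𝒮L.str.app (op O)).hom t * ((u.appLE U O hle).hom s) ^ m = (u.appLE U O hle).hom s'

variable {u U hU n s O hle}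

theorem H3.mul (hs : s ∈ 𝒮.deg U hU n) {t₁ t₂ : Γ(X, O)} (h₁ : H3 u U hU n s O hle t₁)
    (h₂ : H3 u U hU n s O hle t₂) : H3 u U hU n s O hle (t₁ * t₂) := by
  obtain ⟨m₁, hm₁, s₁, hs₁, e₁⟩ := h₁
  obtain ⟨m₂, hm₂, s₂, hs₂, e₂⟩ := h₂
  refine ⟨m₁ + m₂, by omega, s₁ * s₂, ?_, ?_⟩
  · have := SetLike.mul_mem_graded hs₁ hs₂
    rwa [← add_mul] at this
  · rw [map_mul, map_mul, ← e₁, ← e₂, pow_add]
    ring

theorem H3.add (hs : s ∈ 𝒮.deg U hU n) {t₁ t₂ : Γ(X, O)} (h₁ : H3 u U hU n s O hle t₁)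
    (h₂ : H3 u U hU n s O hle t₂) : H3 u U hU n s O hle (t₁ + t₂) := by
  obtain ⟨m₁, hm₁, s₁, hs₁, e₁⟩ := h₁
  obtain ⟨m₂, hm₂, s₂, hs₂, e₂⟩ := h₂
  refine ⟨m₁ + m₂, by omega, s₁ * s ^ m₂ + s₂ * s ^ m₁, ?_, ?_⟩
  · have hp₂ : s ^ m₂ ∈ 𝒮.deg U hU (m₂ • n) := SetLike.pow_mem_graded m₂ hs
    have hp₁ : s ^ m₁ ∈ 𝒮.deg U hU (m₁ • n) := SetLike.pow_mem_graded m₁ hs
    have h1 := SetLike.mul_mem_graded hs₁ hp₂
    have h2 := SetLike.mul_mem_graded hs₂ hp₁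
    have e1 : m₁ * n + m₂ • n = (m₁ + m₂) * n := by rw [smul_eq_mul]; ring
    have e2 : m₂ * n + m₁ • n = (m₁ + m₂) * n := by rw [smul_eq_mul]; ring
    rw [e1] at h1
    rw [e2] at h2
    exact add_mem h1 h2
  · rw [map_add, map_add, map_mul, map_mul, map_pow, map_pow, ← e₁, ← e₂, pow_add]
    ring

theorem H3.algebraMap (hs : s ∈ 𝒮.deg U hU n) (c : Γ(Y, U)) :
    H3 u U hU n s O hle ((q.appLE U O hle).hom c) := by
  refine ⟨1, one_pos, (𝒮.str.app (op U)).hom c * s, ?_, ?_⟩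
  · have := SetLike.mul_mem_graded (𝒮.str_mem U hU c) hs
    rwa [zero_add, ← one_mul n] at this
  · rw [pow_one, map_mul]
    have h1 := congrArg (fun k => k.hom c) (u.toQHom.str_appLE U O hle)
    simp only [CommRingCat.hom_comp, RingHom.coe_comp, Function.comp_apply] at h1
    rw [h1]

/-- If `O(O)` is generated as an `O(U)`-algebra by a set of functions satisfying `H3`, every
function satisfies `H3`. -/
theorem H3.of_adjoin (hs : s ∈ 𝒮.deg U hU n) (T : Set Γ(X, O))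
    (hT : letI := (q.appLE U O hle).hom.toAlgebra; Algebra.adjoin Γ(Y, U) T = ⊤)
    (hgen : ∀ g ∈ T, H3 u U hU n s O hle g) (t : Γ(X, O)) : H3 u U hU n s O hle t := by
  let _ := (q.appLE U O hle).hom.toAlgebra
  have ht : t ∈ Algebra.adjoin Γ(Y, U) T := by rw [hT]; trivial
  induction ht using Algebra.adjoin_induction with
  | mem x hx => exact hgen x hx
  | algebraMap c => exact H3.algebraMap hs c
  | add x y _ _ hx hy => exact hx.add hs hy
  | mul x y _ _ hx hy => exact hx.mul hs hy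

theorem H3.congr_open {O' : X.Opens} (h : O = O') (hle' : O' ≤ q ⁻¹ᵁ U)
    (hall : ∀ t : Γ(X, O), H3 u U hU n s O hle t) (t' : Γ(X, O')) :
    H3 u U hU n s O' hle' t' := by
  subst h
  exact hall t'

end H3

end Groth.Agent.Lib.helper28.RLpsiU
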