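import Groth.Agent.Lib.Helper28.RelTwistMap2
import Groth.Agent.Lib.Helper28.RelTwistPull

/-!
# `h^* O_{Proj 𝒮}(n) ≅ O_{Proj 𝒮'}(n)` over a change of base, `𝒮` generated in degree one (helper28)

Two-base version of `RelTwistPull`: `ψ : Y' ⟶ Y`, `Φ : PairHom ψ 𝒮 𝒮'`, `h : Proj 𝒮' ⟶ Proj 𝒮`
the glued morphism.
-/

set_option autoImplicit false
set_option linter.style.haveILetI false
universe u
open CategoryTheory CategoryTheory.Limits AlgebraicGeometry TopologicalSpace Opposite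
open Scheme.Modules
open scoped HomogeneousIdeal

namespace Groth.Agent.Lib.helper28.RelTwistPull2

open Groth.Agent.Lib.helper28.RelTwistChart Groth.Agent.Lib.helper2
  Groth.Agent.Lib.helper28.RelTwistMap Groth.Agent.Lib.helper28.RelTwistMap2
  Groth.Agent.Lib.helper8.PullbackUnit
  Groth.Agent.Lib.helper28.RelProjPair Groth.Agent.Lib.helper28.RelSpecMap
  Groth.Agent.Lib.helper28.RelTwistPull

variable {Y Y' P P' : Scheme.{u}} {ψ : Y' ⟶ Y} {𝒮 : RelProj.QCGrAlg Y} {𝒮' : RelProj.QCGrAlg Y'}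
  {Φ : PairHom ψ 𝒮 𝒮'}
  {hirr : ∀ (U : Y.Opens) (hU : IsAffineOpen U) (U' : Y'.Opens) (hU' : IsAffineOpen U')
    (hle : U' ≤ ψ ⁻¹ᵁ U), (𝒮'.deg U' hU')₊ ≤ ((𝒮.deg U hU)₊).map (Φ.φ U hU U' hU' hle)}
  {p : P ⟶ Y} {p' : P' ⟶ Y'}
  {chart : ∀ (U : Y.Opens) (hU : IsAffineOpen U),
    (((p ⁻¹ᵁ U : P.Opens) : Scheme.{u}) ≅ Proj (𝒮.deg U hU))}
  {chart' : ∀ (U' : Y'.Opens) (hU' : IsAffineOpen U'),
    (((p' ⁻¹ᵁ U' : P'.Opens) : Scheme.{u}) ≅ Proj (𝒮'.deg U' hU'))}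
  {h : P' ⟶ P}

variable (Φ p' chart') in
/-- The opens `emb_{U'}(D₊(φ(g) * h'))` of `Proj 𝒮'`. -/
def basisSet : Set P'.Opens :=
  {V | ∃ (U : Y.Opens) (hU : IsAffineOpen U) (U' : Y'.Opens) (hU' : IsAffineOpen U')
      (hle : U' ≤ ψ ⁻¹ᵁ U) (g : 𝒮.presheaf.obj (op U))
      (h' : 𝒮'.presheaf.obj (op U')) (k : ℕ),
      g ∈ 𝒮.deg U hU 1 ∧ h' ∈ 𝒮'.deg U' hU' k ∧
      V = (RelProj.emb p' chart' U' hU') ''ᵁ
        (Proj.basicOpen (𝒮'.deg U' hU') (Φ.φ U hU U' hU' hle g * h'))}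

include hirr in
theorem isBasis_basisSet (hgen : 𝒮.IsGenDegOne) :
    Opens.IsBasis (basisSet Φ p' chart') := by
  rw [Opens.isBasis_iff_nbhd]
  intro O x hx
  obtain ⟨Q, hxQ⟩ := Opens.mem_iSup.mp (le_iSup_inf_pair (ψ := ψ) (p' := p') O hx)
  have hxr : x ∈ Set.range (RelProj.emb p' chart' Q.U' Q.hU') := by
    rw [range_emb]
    exact hxQ.2
  obtain ⟨z, rfl⟩ := hxr
  obtain ⟨k, h', hh, hhz, hhO⟩ :=
    Groth.Agent.Lib.helper28.GTildeSec.exists_homogeneous_basicOpen (𝒮'.deg Q.U' Q.hU')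
      (RelProj.emb p' chart' Q.U' Q.hU' ⁻¹ᵁ O) z hx
  obtain ⟨g, hg, hgz⟩ :=
    Groth.Agent.Lib.helper28.GTwistAll.hcov_of_closure (𝒮.deg Q.U Q.hU) (hgen Q.U Q.hU)
      (ProjectiveSpectrum.comap (Φ.φ Q.U Q.hU Q.U' Q.hU' Q.hle) (hirr Q.U Q.hU Q.U' Q.hU' Q.hle) z)
  have hgz' : Φ.φ Q.U Q.hU Q.U' Q.hU' Q.hle g ∉ z.asHomogeneousIdeal := hgz
  refine ⟨_, ⟨Q.U, Q.hU, Q.U', Q.hU', Q.hle, g, h', k, hg, hh, rfl⟩, ⟨z, ?_, rfl⟩, ?_⟩
  · exact (ProjectiveSpectrum.mem_basicOpen _ _ z).mpr fun hmem =>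
      (z.isPrime.mem_or_mem hmem).elim hgz' hhz
  · rintro _ ⟨w, hw, rfl⟩
    exact hhO w fun hmem => ((ProjectiveSpectrum.mem_basicOpen _ _ w).mp hw)
      (Ideal.mul_mem_left _ _ hmem)

section Main

variable {n : ℤ} {L : P.Modules} {L' : P'.Modules}
  (hirr)
  (lam : ∀ (U : Y.Opens) (hU : IsAffineOpen U),
    L ⟶ (Scheme.Modules.pushforward (RelProj.emb p chart U hU)).obj
      (GrTwist.twist (𝒮.deg U hU) n))
  (lam' : ∀ (U' : Y'.Opens) (hU' : IsAffineOpen U'),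
    L' ⟶ (Scheme.Modules.pushforward (RelProj.emb p' chart' U' hU')).obj
      (GrTwist.twist (𝒮'.deg U' hU') n))

open Groth.Agent.Lib.helper28.GTwistFree Groth.Agent.Lib.helper28.LocalGen
  Groth.Agent.Lib.helper28.RelTwistTensor Groth.Agent.Lib.helper28.RelTwistFree in
theorem isBC_theta
    (hL : RelProj.IsRelTwist 𝒮 p chart n L lam)
    (hL' : RelProj.IsRelTwist 𝒮' p' chart' n L' lam')
    (hh : IsPairMap hirr p p' chart chart' h)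
    (θ : L ⟶ (Scheme.Modules.pushforward h).obj L')
    (hθ : ∀ (W : P.Opens) (s : Γ(L, W)), IsImg hirr h lam lam' W s (θ.app W s))
    (U : Y.Opens) (hU : IsAffineOpen U) (U' : Y'.Opens) (hU' : IsAffineOpen U')
    (hle : U' ≤ ψ ⁻¹ᵁ U) (g : 𝒮.presheaf.obj (op U))
    (h' : 𝒮'.presheaf.obj (op U')) (k : ℕ) (hg : g ∈ 𝒮.deg U hU 1) (hh' : h' ∈ 𝒮'.deg U' hU' k) :
    IsAffineOpen ((RelProj.emb p' chart' U' hU') ''ᵁ
        (Proj.basicOpen (𝒮'.deg U' hU') (Φ.φ U hU U' hU' hle g * h'))) ∧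
      ∃ (V₀ : P.Opens) (_ : IsAffineOpen V₀)
        (e : (RelProj.emb p' chart' U' hU') ''ᵁ
          (Proj.basicOpen (𝒮'.deg U' hU') (Φ.φ U hU U' hU' hle g * h')) ≤ h ⁻¹ᵁ V₀),
        IsBC (h.appLE V₀ _ e).hom (ρv h e θ) := by
  let φ := Φ.φ U hU U' hU' hle
  have hg' : φ g ∈ 𝒮'.deg U' hU' 1 := φ.map_mem hg
  have hF' : φ g * h' ∈ 𝒮'.deg U' hU' (1 + k) := SetLike.mul_mem_graded hg' hh'
  let V : P'.Opens := (RelProj.emb p' chart' U' hU') ''ᵁ (Proj.basicOpen (𝒮'.deg U' hU') (φ g * h'))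
  let V₀ : P.Opens := (RelProj.emb p chart U hU) ''ᵁ (Proj.basicOpen (𝒮.deg U hU) g)
  have hVU : V ≤ p' ⁻¹ᵁ U' := image_emb_le p' chart' U' hU' _
  have hV₀U : V₀ ≤ p ⁻¹ᵁ U := image_emb_le p chart U hU _
  have hVB : (RelProj.emb p' chart' U' hU' ⁻¹ᵁ V : (Proj (𝒮'.deg U' hU')).Opens) =
      ProjectiveSpectrum.basicOpen (𝒮'.deg U' hU') (φ g * h') :=
    (RelProj.emb p' chart' U' hU').preimage_image_eq _
  have hVA : (RelProj.emb p chart U hU ⁻¹ᵁ V₀ : (Proj (𝒮.deg U hU)).Opens) =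
      ProjectiveSpectrum.basicOpen (𝒮.deg U hU) g :=
    (RelProj.emb p chart U hU).preimage_image_eq _
  have hVaff : IsAffineOpen V :=
    (Proj.isAffineOpen_basicOpen (𝒮'.deg U' hU') (φ g * h') hF'
      (by omega)).image_of_isOpenImmersion _
  have hV₀aff : IsAffineOpen V₀ :=
    (Proj.isAffineOpen_basicOpen (𝒮.deg U hU) g hg Nat.one_pos).image_of_isOpenImmersion _
  have e : V ≤ h ⁻¹ᵁ V₀ := by
    rintro _ ⟨z, hz, rfl⟩
    change h.base ((RelProj.emb p' chart' U' hU').base z) ∈ V₀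
    rw [h_emb hh U hU U' hU' hle z]
    refine ⟨ProjectiveSpectrum.comap φ (hirr U hU U' hU' hle) z, ?_, rfl⟩
    refine (ProjectiveSpectrum.mem_basicOpen (𝒮.deg U hU) g _).mpr fun hmem => ?_
    have hmem' : φ g ∈ z.asHomogeneousIdeal := hmem
    exact (ProjectiveSpectrum.mem_basicOpen (𝒮'.deg U' hU') (φ g * h') z).mp hz
      (Ideal.mul_mem_right _ _ hmem')
  refine ⟨hVaff, V₀, hV₀aff, e, ?_⟩
  have hgV₀ : ∀ (c : ℕ) (x : (RelProj.emb p chart U hU ⁻¹ᵁ V₀ : (Proj (𝒮.deg U hU)).Opens)),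
      g ^ c ∉ x.1.asHomogeneousIdeal := fun c x hmem => by
    have hx : x.1 ∈ ProjectiveSpectrum.basicOpen (𝒮.deg U hU) g := hVA ▸ x.2
    exact (ProjectiveSpectrum.mem_basicOpen (𝒮.deg U hU) g x.1).mp hx
      (x.1.isPrime.mem_of_pow_mem c hmem)
  have hgV : ∀ (c : ℕ) (x : (RelProj.emb p' chart' U' hU' ⁻¹ᵁ V : (Proj (𝒮'.deg U' hU')).Opens)),
      (φ g) ^ c ∉ x.1.asHomogeneousIdeal := fun c x hmem => by
    have hx : x.1 ∈ ProjectiveSpectrum.basicOpen (𝒮'.deg U' hU') (φ g * h') := hVB ▸ x.2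
    exact (ProjectiveSpectrum.mem_basicOpen (𝒮'.deg U' hU') (φ g * h') x.1).mp hx
      (Ideal.mul_mem_right h' _ (x.1.isPrime.mem_of_pow_mem c hmem))
  obtain ⟨um, hum⟩ := (hL.bijective U hU V₀ hV₀U).2
    (fracSectN (𝒮.deg U hU) n (RelProj.emb p chart U hU ⁻¹ᵁ V₀)
      ⟨g ^ n.toNat, pow_mem_one hg _⟩ ⟨g ^ (-n).toNat, pow_mem_one hg _⟩ (hgV₀ _) (toNat_eq n))
  have hm := bijective_smul_of_lam_eq lam hL U hU V₀ hV₀U Nat.one_pos hg hVA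
    ⟨g ^ n.toNat, pow_mem_one hg _⟩ ⟨g ^ (-n).toNat, pow_mem_one hg _⟩ (hgV₀ _) (hgV₀ _)
    (toNat_eq n) um hum
  have ht' : (lam' U' hU').app V (ρv h e θ um) =
      fracSectN (𝒮'.deg U' hU') n (RelProj.emb p' chart' U' hU' ⁻¹ᵁ V)
        ⟨(φ g) ^ n.toNat, pow_mem_one hg' _⟩ ⟨(φ g) ^ (-n).toNat, pow_mem_one hg' _⟩ (hgV _)
        (toNat_eq n) := by
    refine Groth.Agent.Lib.helper28.GTwistQCoh.sectN_ext _ _ _ fun x => ?_
    have hy' : (RelProj.emb p chart U hU).base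
        (ProjectiveSpectrum.comap φ (hirr U hU U' hU' hle) x.1) ∈ V₀ := by
      rw [← h_emb hh U hU U' hU' hle x.1]
      exact e x.2
    have h1 := hθ V₀ um U hU U' hU' hle x.1 (e x.2) hy'
    rw [ρv_apply, ← ModSec.map_app_apply (lam' U' hU') (homOfLE e) (θ.app V₀ um)]
    refine h1.trans ?_
    rw [hum]
    change GrTwist.locMap φ (hirr U hU U' hU' hle) x.1 (Localization.mk _ _) = Localization.mk _ _
    rw [GrTwist.locMap_mk]
    exact mk_congr _ _ (map_pow φ g _) (map_pow φ g _)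
  have hm' := bijective_smul_of_lam_eq lam' hL' U' hU' V hVU (by omega : 0 < 1 + k) hF' hVB
    ⟨(φ g) ^ n.toNat, pow_mem_one hg' _⟩ ⟨(φ g) ^ (-n).toNat, pow_mem_one hg' _⟩ (hgV _) (hgV _)
    (toNat_eq n) (ρv h e θ um) ht'
  refine isBC_of_free (h.appLE V₀ V e).hom (ρv h e θ) ?_ um hm.2 hm'
  intro r x
  rw [ρv_apply, ρv_apply]
  have h1 : θ.app V₀ (r • x) = ((h.app V₀).hom r • (show Γ(L', h ⁻¹ᵁ V₀) from θ.app V₀ x) :
      Γ(L', h ⁻¹ᵁ V₀)) := by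
    rw [Scheme.Modules.Hom.app_smul, smul_pushforward]
  rw [h1]
  exact Groth.Agent.Lib.helper28.HomOfBasis.map_smul' L' (homOfLE e) ((h.app V₀).hom r) _

open Groth.Agent.Lib.helper28.RelTwistFree in
/-- `h^* O_{Proj 𝒮}(n) ≅ O_{Proj 𝒮'}(n)` over a change of base, when `𝒮` is generated in degree
one. -/
theorem nonempty_pullback_iso (hgen : 𝒮.IsGenDegOne)
    (hP : RelProj.IsRelProj 𝒮 p chart) (hP' : RelProj.IsRelProj 𝒮' p' chart')
    (hL : RelProj.IsRelTwist 𝒮 p chart n L lam)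
    (hL' : RelProj.IsRelTwist 𝒮' p' chart' n L' lam')
    (hh : IsPairMap hirr p p' chart chart' h) :
    Nonempty ((Scheme.Modules.pullback h).obj L ≅ L') := by
  obtain ⟨θ, hθ, -⟩ := existsUnique_theta hirr lam lam' hP hP' hL hL' hh
  haveI := isQuasicoherent lam hL
  haveI := isIso_homEquiv_symm_of_isBC h θ (basisSet Φ p' chart')
    (isBasis_basisSet (hirr := hirr) hgen) (by
      rintro _ ⟨U, hU, U', hU', hle, g, h', k, hg, hh', rfl⟩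
      exact isBC_theta hirr lam lam' hL hL' hh θ hθ U hU U' hU' hle g h' k hg hh')
  exact ⟨asIso (((pullbackPushforwardAdjunction h).homEquiv L L').symm θ)⟩

end Main

end Groth.Agent.Lib.helper28.RelTwistPull2
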