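import Groth.Agent.Lib.Helper28.SymLocal
import Groth.Prelude.Def_RelProj2

set_option autoImplicit false

universe u

/-! Graded structure of a graded symmetric algebra `(𝒮, j)` of a quasi-coherent module `E`: over
an affine open the irrelevant ideal is generated by the sections `j(e)` (helper28). -/

namespace Groth.Agent.Lib.helper28.SymGraded

open CategoryTheory CategoryTheory.Limits AlgebraicGeometry TopologicalSpace Opposite
open Groth.Agent.Lib.helper28.SymAlg Groth.Agent.Lib.helper28
open scoped HomogeneousIdeal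

variable {S : Scheme.{u}} (E : S.Modules) [E.IsQuasicoherent]

section alg

variable (A : RelSpec.QCAlg S) (j : E ⟶ A.toModule) (hA : RelSpec.IsSymAlg E A j)

/-- The sections `j(e)` over `U`, as a set in the ring `A(U)`. -/
def jSet (U : S.Opens) : Set (A.presheaf.obj (op U)) :=
  Set.range fun m : Γ(E, U) => (show A.presheaf.obj (op U) from (j.app U).hom m)

include hA in
/-- Over an affine open every section of `A` is a function plus an element of the ideal
generated by the `j(e)`. -/
theorem exists_str_add (U : S.AffineZariskiSite) (x : A.presheaf.obj (op U.1)) :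
    ∃ a : Γ(S, U.1), x - (A.str.app (op U.1)).hom a ∈ Ideal.span (jSet E A j U.1) := by
  obtain ⟨s, rfl⟩ := (liftU_bijective E A j hA U).surjective x
  induction s using SymmetricAlgebra.induction with
  | algebraMap r =>
    refine ⟨r, ?_⟩
    rw [liftU_algebraMap, sub_self]
    exact zero_mem _
  | ι m =>
    refine ⟨0, ?_⟩
    rw [map_zero, sub_zero, liftU_ι]
    exact Ideal.subset_span ⟨m, rfl⟩
  | mul a b ha hb =>
    obtain ⟨r, hr⟩ := ha
    obtain ⟨r', hr'⟩ := hb
    refine ⟨r * r', ?_⟩
    rw [map_mul, map_mul]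
    have e : liftU E A j U.1 a * liftU E A j U.1 b -
        (A.str.app (op U.1)).hom r * (A.str.app (op U.1)).hom r' =
        (liftU E A j U.1 a - (A.str.app (op U.1)).hom r) * liftU E A j U.1 b +
          (A.str.app (op U.1)).hom r * (liftU E A j U.1 b - (A.str.app (op U.1)).hom r') := by
      ring
    rw [e]
    exact add_mem (Ideal.mul_mem_right _ _ hr) (Ideal.mul_mem_left _ _ hr')
  | add a b ha hb =>
    obtain ⟨r, hr⟩ := ha
    obtain ⟨r', hr'⟩ := hb
    refine ⟨r + r', ?_⟩
    rw [map_add, map_add]
    have e : liftU E A j U.1 a + liftU E A j U.1 b -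
        ((A.str.app (op U.1)).hom r + (A.str.app (op U.1)).hom r') =
        (liftU E A j U.1 a - (A.str.app (op U.1)).hom r) +
          (liftU E A j U.1 b - (A.str.app (op U.1)).hom r') := by
      ring
    rw [e]
    exact add_mem hr hr'

end alg

section graded

variable (𝒮 : RelProj.QCGrAlg S) (j : E ⟶ 𝒮.toModule) (hS : RelProj.IsGrSymAlg E 𝒮 j)

include hS in
theorem isHomogeneous_span (U : S.Opens) (hU : IsAffineOpen U) :
    (Ideal.span (jSet E 𝒮.toQCAlg j U)).IsHomogeneous (𝒮.deg U hU) := by
  apply Ideal.homogeneous_span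
  rintro _ ⟨m, rfl⟩
  exact ⟨1, hS.2 U hU m⟩

include hS in
/-- Over an affine open, the irrelevant ideal of a graded symmetric algebra is generated by the
sections `j(e)`. -/
theorem irrelevant_le_span (U : S.Opens) (hU : IsAffineOpen U) :
    ((𝒮.deg U hU)₊).toIdeal ≤ Ideal.span (jSet E 𝒮.toQCAlg j U) := by
  classical
  intro x hx
  obtain ⟨a, ha⟩ := exists_str_add E 𝒮.toQCAlg j hS.1 ⟨U, hU⟩ x
  have h0 := isHomogeneous_span E 𝒮 j hS U hU 0 ha
  rw [DirectSum.decompose_sub, DirectSum.sub_apply, AddSubgroupClass.coe_sub] at h0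
  have hx0 : ((DirectSum.decompose (𝒮.deg U hU) x) 0 : 𝒮.presheaf.obj (op U)) = 0 := by
    have := (HomogeneousIdeal.mem_irrelevant_iff (𝒮.deg U hU) x).mp hx
    rwa [GradedRing.proj_apply] at this
  rw [hx0, zero_sub, DirectSum.decompose_of_mem_same _ (𝒮.str_mem U hU a), neg_mem_iff] at h0
  have e : x = (x - (𝒮.str.app (op U)).hom a) + (𝒮.str.app (op U)).hom a := by ring
  rw [e]
  exact add_mem ha h0

end graded

end Groth.Agent.Lib.helper28.SymGraded
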