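import Mathlib

set_option autoImplicit false

universe u

/-! Properties of a morphism `i : C ⟶ Q` checked on a family of chart squares
`T j ⟶ C`, `Q j ⟶ Q` which are pullback squares and cover the target (helper28). -/

namespace Groth.Agent.Lib.helper28.ChartLocal

open CategoryTheory CategoryTheory.Limits AlgebraicGeometry TopologicalSpace Opposite

variable {C PC : Scheme.{u}} (i : C ⟶ PC) {J : Type u} {T Q : J → Scheme.{u}}
  (c : ∀ j, T j ⟶ C) (e : ∀ j, Q j ⟶ PC) [∀ j, IsOpenImmersion (c j)]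
  [∀ j, IsOpenImmersion (e j)] (g : ∀ j, T j ⟶ Q j)

/-- The chart squares are pullback squares. -/
theorem isPullback_chart (hcomm : ∀ j, c j ≫ i = g j ≫ e j)
    (hpre : ∀ j, i ⁻¹ᵁ (e j).opensRange = (c j).opensRange) (j : J) :
    IsPullback (g j) (c j) (e j) i :=
  IsOpenImmersion.isPullback _ _ _ _ (hcomm j) (hpre j)

/-- A property local at the target holds for `i` if it holds for all chart maps. -/
theorem of_charts (P : MorphismProperty Scheme.{u}) [IsZariskiLocalAtTarget P]
    (hcomm : ∀ j, c j ≫ i = g j ≫ e j)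
    (hpre : ∀ j, i ⁻¹ᵁ (e j).opensRange = (c j).opensRange)
    (hcov : ∀ x : PC, ∃ j, x ∈ Set.range (e j).base)
    (hg : ∀ j, P (g j)) : P i := by
  let 𝒰 : PC.OpenCover := {
    I₀ := J
    X := Q
    f := e
    mem₀ := by
      rw [Scheme.presieve₀_mem_precoverage_iff]
      exact ⟨hcov, fun j => inferInstance⟩ }
  refine (IsZariskiLocalAtTarget.iff_of_openCover (P := P) 𝒰).mpr ?_
  intro j
  change P (pullback.snd i (e j))
  have sq := isPullback_chart i c e g hcomm hpre j
  have h1 := sq.flip.isoPullback_hom_snd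
  rw [← P.cancel_left_of_respectsIso sq.flip.isoPullback.hom, h1]
  exact hg j

/-- The kernel ideal sheaf of `i` vanishes if those of all the chart maps do. -/
theorem ker_eq_bot_of_charts [QuasiCompact i]
    (hcomm : ∀ j, c j ≫ i = g j ≫ e j)
    (hpre : ∀ j, i ⁻¹ᵁ (e j).opensRange = (c j).opensRange)
    (hcov : ∀ x : PC, ∃ j, x ∈ Set.range (e j).base)
    (hg : ∀ j, (g j).ker = ⊥) : i.ker = ⊥ := by
  rw [eq_bot_iff]
  let U : (Σ j, (Q j).affineOpens) → PC.affineOpens := fun jW =>
    ⟨e jW.1 ''ᵁ jW.2.1, jW.2.2.image_of_isOpenImmersion _⟩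
  refine Scheme.IdealSheafData.le_of_iSup_eq_top U ?_ ?_
  · rw [eq_top_iff]
    intro x _
    obtain ⟨j, y, rfl⟩ := hcov x
    obtain ⟨W, hyW⟩ := TopologicalSpace.Opens.mem_iSup.mp
      ((iSup_affineOpens_eq_top (Q j)).ge (Set.mem_univ y))
    exact TopologicalSpace.Opens.mem_iSup.mpr ⟨⟨j, W⟩, ⟨y, hyW, rfl⟩⟩
  · rintro ⟨j, W⟩
    have sq := isPullback_chart i c e g hcomm hpre j
    have h1 := Scheme.ker_ideal_of_isPullback_of_isOpenImmersion i (g j) (c j) (e j) sq W
    rw [hg j, Scheme.IdealSheafData.ideal_bot] at h1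
    intro s hs
    have h2 : ((e j).appIso W.1).hom.hom s ∈
        Ideal.comap ((e j).appIso W.1).inv.hom (i.ker.ideal (U ⟨j, W⟩)) := by
      rw [Ideal.mem_comap]
      have : ((e j).appIso W.1).inv.hom (((e j).appIso W.1).hom.hom s) = s := by
        rw [← CommRingCat.comp_apply, Iso.hom_inv_id]
        rfl
      rw [this]
      exact hs
    have h3 : ((e j).appIso W.1).hom.hom s = 0 := by
      have h4 : ((e j).appIso W.1).hom.hom s ∈ (⊥ : Ideal _) := by
        have h5 := congrArg (fun I : Ideal _ => ((e j).appIso W.1).hom.hom s ∈ I) h1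
        exact h5.mpr h2
      exact h4
    have h6 : s = 0 := by
      have := congrArg ((e j).appIso W.1).inv.hom h3
      rw [← CommRingCat.comp_apply, Iso.hom_inv_id, map_zero] at this
      exact this
    rw [h6]
    exact Ideal.zero_mem _

end Groth.Agent.Lib.helper28.ChartLocal
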