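import Groth.Agent.Lib.Helper28.SymLocal
import Groth.Agent.Lib.Helper28.PolyGrade3
import Groth.Agent.Lib.Helper28.ChartLocal
import Groth.Agent.Lib.Helper28.RelTwistChart
import Groth.Agent.Lib.Helper16.FLF5

set_option autoImplicit false

universe u

/-! `Proj(Sym L) ⟶ X` is an isomorphism for an invertible module `L` (helper28). -/

namespace Groth.Agent.Lib.helper28.SymLineProj

open CategoryTheory CategoryTheory.Limits AlgebraicGeometry TopologicalSpace Opposite
open Groth.Agent.Lib.helper28.SymLoc Groth.Agent.Lib.helper28.SymSheaf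
open Groth.Agent.Lib.helper28.SymAlg Groth.Agent.Lib.helper28

theorem exists_gen_bijective {R M : Type*} [CommRing R] [AddCommGroup M] [Module R M]
    (e : M ≃ₗ[R] (Fin 1 → R)) :
    ∃ g : M, Function.Bijective (Polynomial.eval₂RingHom (algebraMap R (SymmetricAlgebra R M))
      (SymmetricAlgebra.ι R M g)) := by
  let b : Module.Basis (Fin 1) R M := Module.Basis.ofEquivFun e
  refine ⟨b default, ?_⟩
  let Φ : Polynomial R ≃ₐ[R] SymmetricAlgebra R M :=
    (MvPolynomial.uniqueAlgEquiv R (Fin 1)).symm.trans (SymmetricAlgebra.equivMvPolynomial b).symm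
  have : Polynomial.eval₂RingHom (algebraMap R (SymmetricAlgebra R M))
      (SymmetricAlgebra.ι R M (b default)) = (Φ : Polynomial R →+* SymmetricAlgebra R M) := by
    apply Polynomial.ringHom_ext
    · intro a
      rw [Polynomial.coe_eval₂RingHom, Polynomial.eval₂_C]
      exact (Φ.commutes a).symm
    · rw [Polynomial.coe_eval₂RingHom, Polynomial.eval₂_X]
      change _ = (SymmetricAlgebra.equivMvPolynomial b).symm
        ((MvPolynomial.uniqueAlgEquiv R (Fin 1)).symm Polynomial.X)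
      rw [MvPolynomial.uniqueAlgEquiv_symm_apply, Polynomial.eval₂_X,
        SymmetricAlgebra.equivMvPolynomial_symm_X]
  rw [this]
  exact Φ.bijective

variable {X : Scheme.{u}} (L : X.Modules) [L.IsQuasicoherent]

/-- An invertible module is free of rank one on a cover by affine opens. -/
theorem exists_affine_rankOne (hL : PicF.IsInvertible L) (x : X) :
    ∃ V : X.AffineZariskiSite, x ∈ V.1 ∧
      Nonempty (Γ(L, V.1) ≃ₗ[Γ(X, V.1)] (Fin 1 → Γ(X, V.1))) := by
  obtain ⟨U, hxU, ⟨iso⟩⟩ :=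
    (Groth.Agent.Lib.helper16.FLF.isInvertible_iff_isFinLocFreeOfRank_one L).mp hL x
  obtain ⟨V, hV, hxV, hVU⟩ := Opens.isBasis_iff_nbhd.mp X.isBasis_affineOpens hxU
  obtain ⟨iso'⟩ := Groth.Agent.Lib.helper16.FLF.restrict_iso_freeMod_of_le L hVU 1 iso
  exact ⟨⟨V, hV⟩, hxV, Groth.Agent.Lib.helper16.FLF.sections_of_restrict_iso_freeMod L hV 1 iso'⟩

variable (𝒮L : RelProj.QCGrAlg X) (j : L ⟶ 𝒮L.toModule) (hj : RelProj.IsGrSymAlg L 𝒮L j)

include hj in
/-- Over an affine open where `L` is free of rank one, `𝒮L(V)` is a polynomial ring in one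
variable of degree one over `O(V)`. -/
theorem exists_poly (V : X.AffineZariskiSite)
    (e : Γ(L, V.1) ≃ₗ[Γ(X, V.1)] (Fin 1 → Γ(X, V.1))) :
    ∃ z : 𝒮L.presheaf.obj (op V.1), z ∈ 𝒮L.deg V.1 V.2 1 ∧
      Function.Bijective (Polynomial.eval₂RingHom (𝒮L.str.app (op V.1)).hom z) := by
  obtain ⟨g, hg⟩ := exists_gen_bijective e
  refine ⟨(j.app V.1).hom g, hj.2 V.1 V.2 g, ?_⟩
  have : Polynomial.eval₂RingHom (𝒮L.str.app (op V.1)).hom ((j.app V.1).hom g) =
      (liftU L 𝒮L.toQCAlg j V.1).comp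
        (Polynomial.eval₂RingHom (algebraMap Γ(X, V.1) (SymU L V.1))
          (SymmetricAlgebra.ι Γ(X, V.1) Γ(L, V.1) g)) := by
    apply Polynomial.ringHom_ext
    · intro a
      rw [RingHom.comp_apply]
      change Polynomial.eval₂ _ _ (Polynomial.C a) =
        liftU L 𝒮L.toQCAlg j V.1 (Polynomial.eval₂ _ _ (Polynomial.C a))
      rw [Polynomial.eval₂_C, Polynomial.eval₂_C, liftU_algebraMap]
    · rw [RingHom.comp_apply]
      change Polynomial.eval₂ _ _ Polynomial.X =
        liftU L 𝒮L.toQCAlg j V.1 (Polynomial.eval₂ _ _ Polynomial.X)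
      rw [Polynomial.eval₂_X, Polynomial.eval₂_X, liftU_ι]
  rw [this]
  exact (liftU_bijective L 𝒮L.toQCAlg j hj.1 V).comp hg

variable {PL : Scheme.{u}} (pL : PL ⟶ X)
  (chartL : ∀ (U : X.Opens) (hU : IsAffineOpen U),
    (((pL ⁻¹ᵁ U : PL.Opens) : Scheme.{u}) ≅ Proj (𝒮L.deg U hU)))
  (hPL : RelProj.IsRelProj 𝒮L pL chartL)

include hj hPL in
theorem isIso_of_isInvertible (hL : PicF.IsInvertible L) : IsIso pL := by
  have hex := exists_affine_rankOne L hL
  choose V hxV he using hex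
  refine ChartLocal.of_charts pL (J := X)
    (T := fun x => Proj (𝒮L.deg (V x).1 (V x).2)) (Q := fun x => Spec Γ(X, (V x).1))
    (fun x => RelProj.emb pL chartL (V x).1 (V x).2) (fun x => (V x).2.fromSpec)
    (fun x => Proj.toSpecZero (𝒮L.deg (V x).1 (V x).2) ≫ Spec.map (𝒮L.strZero (V x).1 (V x).2))
    (MorphismProperty.isomorphisms Scheme.{u}) ?_ ?_ ?_ ?_
  · intro x
    have h1 := hPL.chart_over (V x).1 (V x).2
    unfold RelProj.emb
    rw [Category.assoc, ← h1, Iso.inv_hom_id_assoc, Category.assoc]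
  · intro x
    rw [IsAffineOpen.opensRange_fromSpec]
    exact (Opens.ext (RelTwistChart.range_emb pL chartL (V x).1 (V x).2)).symm
  · intro x
    refine ⟨x, ?_⟩
    rw [IsAffineOpen.range_fromSpec]
    exact hxV x
  · intro x
    obtain ⟨z, hz, hpoly⟩ := exists_poly L 𝒮L j hj (V x) (he x).some
    exact PolyGrade.isIso_toSpec (𝒮L.deg (V x).1 (V x).2) z (𝒮L.str.app (op (V x).1)).hom
      (𝒮L.str_mem (V x).1 (V x).2) hz hpoly (𝒮L.strZero (V x).1 (V x).2) (fun a => rfl)

end Groth.Agent.Lib.helper28.SymLineProj
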