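import Groth.Agent.Lib.Helper28.IrrOfSurj
import Groth.Agent.Lib.Helper28.ProjQOfIrr
import Groth.Agent.Lib.Helper28.RelTwistPull2
import Groth.Agent.Lib.Helper28.SymLineTwist
import Groth.Agent.Lib.Helper28.SymLineProj
import Groth.Agent.Lib.Helper28.RelTwistExists
import Groth.Agent.Lib.Helper28.ProjQGlue
import Groth.Agent.Lib.Helper28.SymGraded
import Groth.Agent.Lib.Helper28.RLpsiU2
import Groth.Agent.Lib.Helper28.ProjBundleEpi
import Groth.Agent.Lib.Helper28.ProjQComp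
import Groth.Agent.Lib.Helper28.RelProjExists

/-!
# `r_{L,ψ}^* O(1) ≅ L` and surjectivity of `φ` from `G(φ) = ⊤` (helper28)

* `exists_gen_of_domQ_eq_top`: for `u : Sym(E) → q_* Sym(L)` with `Proj(u)` everywhere defined,
  every point of `X` has an affine neighbourhood over which the image of a single section of `E`
  generates `L` (`φ : q^*E → L` is surjective).
* `exists_immersion_pullback_iso`: for `u : 𝒜 → f_* Sym(L)` with `𝒜` generated in degree one, `φ`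
  surjective, `r = Proj(u)`: the morphism `i : X ⟶ Proj(𝒜)` over `Y` with `i^* O(1) ≅ L`; it is an
  immersion when `r` is.
-/

set_option autoImplicit false
universe u

open CategoryTheory CategoryTheory.Limits AlgebraicGeometry TopologicalSpace Opposite
open scoped HomogeneousIdeal

namespace Groth.Agent.Lib.helper28.RLpsiTwist

open Groth.Agent.Lib.helper28 Groth.Agent.Lib.helper28.ProjQGlue
  Groth.Agent.Lib.helper28.RelTwistChart Groth.Agent.Lib.helper28.ProjBundleEpi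

section Twist

variable {X Y P PL : Scheme.{u}} (f : X ⟶ Y)
  (L : X.Modules) [L.IsQuasicoherent] (hL : PicF.IsInvertible L)
  (𝒮L : RelProj.QCGrAlg X) (jL : L ⟶ 𝒮L.toModule) (hjL : RelProj.IsGrSymAlg L 𝒮L jL)
  (pL : PL ⟶ X) (chartL : ∀ (U : X.Opens) (hU : IsAffineOpen U),
    (((pL ⁻¹ᵁ U : PL.Opens) : Scheme.{u}) ≅ Proj (𝒮L.deg U hU)))
  (hPL : RelProj.IsRelProj 𝒮L pL chartL)
  (𝒜 : RelProj.QCGrAlg Y) (h1 : 𝒜.IsGenDegOne) (u : RelProj.QGrHom f 𝒜 𝒮L)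
  (hsurj : ∀ x : X, ∃ (U : Y.Opens) (hU : IsAffineOpen U) (e : 𝒜.presheaf.obj (op U))
    (_ : e ∈ 𝒜.deg U hU 1) (V : X.Opens) (hV : IsAffineOpen V) (hVU : V ≤ f ⁻¹ᵁ U), x ∈ V ∧
      ((𝒮L.deg V hV 1 : AddSubgroup (𝒮L.presheaf.obj (op V))) : Set (𝒮L.presheaf.obj (op V))) ⊆
        (Ideal.span {(u.appLE U V hVU).hom e} : Set (𝒮L.presheaf.obj (op V))))
  (p : P ⟶ Y) (chart : ∀ (U : Y.Opens) (hU : IsAffineOpen U),
    (((p ⁻¹ᵁ U : P.Opens) : Scheme.{u}) ≅ Proj (𝒜.deg U hU)))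
  (hP : RelProj.IsRelProj 𝒜 p chart)
  (r : ((RelProj.domQ u pL chartL : PL.Opens) : Scheme.{u}) ⟶ P)
  (hr : RelProj.IsProjQMapOn u p chart pL chartL (RelProj.domQ u pL chartL) r)
  (O1 : P.Modules)
  (lam : ∀ (U : Y.Opens) (hU : IsAffineOpen U),
    O1 ⟶ (Scheme.Modules.pushforward (RelProj.emb p chart U hU)).obj
      (GrTwist.twist (𝒜.deg U hU) 1))
  (hO1 : RelProj.IsRelTwist 𝒜 p chart 1 O1 lam)

include hL hjL hPL h1 hsurj hP hr hO1 in
theorem exists_pullback_iso :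
    ∃ (_ : IsIso pL) (_ : IsIso (RelProj.domQ u pL chartL).ι) (i : X ⟶ P),
      i = inv pL ≫ inv (RelProj.domQ u pL chartL).ι ≫ r ∧ i ≫ p = f ∧
        Nonempty (L ≅ (Scheme.Modules.pullback i).obj O1) := by
  have hgenL : ∀ (V : X.Opens) (hV : IsAffineOpen V), ((𝒮L.deg V hV)₊).toIdeal ≤
      Ideal.span ((𝒮L.deg V hV 1 : AddSubgroup (𝒮L.presheaf.obj (op V))) :
        Set (𝒮L.presheaf.obj (op V))) := by
    intro V hV
    refine (SymGraded.irrelevant_le_span L 𝒮L jL hjL V hV).trans (Ideal.span_mono ?_)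
    rintro _ ⟨m, rfl⟩
    exact hjL.2 V hV m
  have hirr := IrrOfSurj.irrelevant_le_map u hgenL hsurj
  obtain ⟨h, hhr, hiso, hh⟩ := ProjQOfIrr.exists_isPairMap u hirr (p := p) (chart := chart) r hr
  obtain ⟨O1L, lamL, hO1L⟩ := RelTwistExists.exists_isRelTwist 𝒮L pL chartL hPL 1
  obtain ⟨e1⟩ := RelTwistPull2.nonempty_pullback_iso
    (Φ := RelProjPair.PairHom.ofQGrHom u) hirr lam lamL h1 hP hPL hO1 hO1L hh
  obtain ⟨e2⟩ := SymLineTwist.nonempty_pullback_iso_twist_one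
    L 𝒮L jL hjL pL chartL hPL O1L lamL hO1L hL
  have hpL := SymLineProj.isIso_of_isInvertible L 𝒮L jL hjL pL chartL hPL hL
  have hrp : r ≫ p = (RelProj.domQ u pL chartL).ι ≫ pL ≫ f :=
    glue_comp_p u hP hPL r
      (fun U hU U' hU' hle d hd a ha => hr U hU U' hU' hle d hd a ha
        (RelProj.range_awayEmb_subset_domQ u pL chartL U hU U' hU' hle hd a ha))
  have hhp : h ≫ p = pL ≫ f := by
    rw [← cancel_epi (RelProj.domQ u pL chartL).ι, ← Category.assoc, hhr, hrp]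
  have e : h = inv (RelProj.domQ u pL chartL).ι ≫ r := by
    rw [← hhr, IsIso.inv_hom_id_assoc]
  refine ⟨hpL, hiso, inv pL ≫ h, by rw [e], ?_, ?_⟩
  · rw [Category.assoc, hhp, IsIso.inv_hom_id_assoc]
  · have e3 : (Scheme.Modules.pullback (inv pL)).obj ((Scheme.Modules.pullback pL).obj L) ≅ L :=
      (Scheme.Modules.pullbackComp (inv pL) pL).app L ≪≫
        (Scheme.Modules.pullbackCongr (IsIso.inv_hom_id pL)).app L ≪≫
          (Scheme.Modules.pullbackId X).app L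
    exact ⟨e3.symm ≪≫ (Scheme.Modules.pullback (inv pL)).mapIso (e2 ≪≫ e1.symm) ≪≫
      (Scheme.Modules.pullbackComp (inv pL) h).app O1⟩

end Twist

section Gen

variable {X Y PL : Scheme.{u}} (q : X ⟶ Y)
  (L : X.Modules) [L.IsQuasicoherent] (hL : PicF.IsInvertible L)
  (𝒮L : RelProj.QCGrAlg X) (jL : L ⟶ 𝒮L.toModule) (hjL : RelProj.IsGrSymAlg L 𝒮L jL)
  (pL : PL ⟶ X) (chartL : ∀ (U : X.Opens) (hU : IsAffineOpen U),
    (((pL ⁻¹ᵁ U : PL.Opens) : Scheme.{u}) ≅ Proj (𝒮L.deg U hU)))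
  (hPL : RelProj.IsRelProj 𝒮L pL chartL)
  (E : Y.Modules) [E.IsQuasicoherent] (𝒯 : RelProj.QCGrAlg Y) (jT : E ⟶ 𝒯.toModule)
  (h𝒯 : RelProj.IsGrSymAlg E 𝒯 jT) (u : RelProj.QGrHom q 𝒯 𝒮L)

include hL hjL hPL h𝒯 in
/-- If `Proj(u)`, `u : Sym(E) → q_* Sym(L)`, is everywhere defined then `φ : q^*E → L` is
surjective. -/
theorem exists_gen_of_domQ_eq_top (hdom : RelProj.domQ u pL chartL = ⊤) (x : X) :
    ∃ (U : Y.Opens) (hU : IsAffineOpen U) (e : Γ(E, U)) (V : X.Opens) (hV : IsAffineOpen V)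
      (hVU : V ≤ q ⁻¹ᵁ U), x ∈ V ∧
        ((𝒮L.deg V hV 1 : AddSubgroup (𝒮L.presheaf.obj (op V))) :
          Set (𝒮L.presheaf.obj (op V))) ⊆
          (Ideal.span {(u.appLE U V hVU).hom ((jT.app U) e)} :
            Set (𝒮L.presheaf.obj (op V))) := by
  obtain ⟨P, p, chart, hP⟩ := RelProjExists.exists_relProj 𝒯
  obtain ⟨r, hr, -⟩ := existsUnique_glue u (p := p) (chart := chart) (p' := pL)
    (chart' := chartL) hP hPL
  have hpL := SymLineProj.isIso_of_isInvertible L 𝒮L jL hjL pL chartL hPL hL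
  have hz : (inv pL) x ∈ RelProj.domQ u pL chartL := by
    rw [hdom]
    trivial
  let x' : ((RelProj.domQ u pL chartL : PL.Opens) : Scheme.{u}) := ⟨(inv pL) x, hz⟩
  have hx' : pL ((RelProj.domQ u pL chartL).ι x') = x := by
    change pL ((inv pL) x) = x
    rw [← Scheme.Hom.comp_apply, IsIso.inv_hom_id]
    rfl
  obtain ⟨⟨U, hU⟩, y, hy⟩ := exists_mem_range_emb p chart (r x')
  obtain ⟨e, he⟩ := exists_notMem E 𝒯 jT h𝒯 U hU y
  have hmem : r x' ∈ (Proj.awayι (𝒯.deg U hU) (jE E 𝒯 jT U e) (h𝒯.2 U hU e) one_pos ≫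
      RelProj.emb p chart U hU).opensRange := by
    have hy' : y ∈ (Proj.awayι (𝒯.deg U hU) (jE E 𝒯 jT U e) (h𝒯.2 U hU e)
        one_pos).opensRange := by
      rw [Proj.opensRange_awayι]
      exact (ProjectiveSpectrum.mem_basicOpen _ _ _).mpr he
    obtain ⟨w, rfl⟩ := hy'
    exact ⟨w, by rw [Scheme.Hom.comp_apply]; exact hy⟩
  have hXT := RLpsiU.mem_XT_of_mem_preimage L 𝒮L jL hjL u hL hP hPL r hr U hU one_pos
    (jE E 𝒯 jT U e) (h𝒯.2 U hU e) x' hmem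
  rw [hx'] at hXT
  obtain ⟨⟨⟨V, hV⟩, hle, hspan⟩, hxV⟩ := Opens.mem_iSup.mp hXT
  exact ⟨U, hU, e, V, hV, hle, hxV, hspan⟩

end Gen

end Groth.Agent.Lib.helper28.RLpsiTwist
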