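import Groth.Agent.Lib.Helper28.ProjBundleClosed
import Groth.Agent.Lib.Helper28.RLpsiTwist
import Groth.Agent.Lib.Helper28.RLpsiColim

/-!
# A closed subscheme of `P(E)`, `E` of finite type, is `Proj(𝒮)` compatibly with `O(1)` (helper28)

* `exists_proj_twist`: refinement of `ProjBundleClosed.isProjective_aux`: the isomorphism
  `e : X ≅ Proj(𝒮)` satisfies `L ≅ e^* O_{Proj 𝒮}(1)` for `L = i^* O_{P(E)}(1)`.
-/

set_option autoImplicit false
universe u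

open CategoryTheory CategoryTheory.Limits AlgebraicGeometry TopologicalSpace Opposite
open scoped HomogeneousIdeal

namespace Groth.Agent.Lib.helper28.ProjBundleClosed2

open Groth.Agent.Lib.helper28.RelTwistChart Groth.Agent.Lib.helper28.ProjQGlue
  Groth.Agent.Lib.helper28.ProjBundleClosed

section Main

open Scheme.Modules Groth.Agent.Lib.helper28.ProjBundleHom Groth.Agent.Lib.helper28

variable {X Y P PL : Scheme.{u}} (E : Y.Modules) [E.IsQuasicoherent] (hE : CohB1.IsFT E)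
  (𝒯 : RelProj.QCGrAlg Y) (j : E ⟶ 𝒯.toModule) (hj : RelProj.IsGrSymAlg E 𝒯 j) (p : P ⟶ Y)
  (chart : ∀ (U : Y.Opens) (hU : IsAffineOpen U),
    ((p ⁻¹ᵁ U : P.Opens) : Scheme.{u}) ≅ Proj (𝒯.deg U hU))
  (hP : RelProj.IsRelProj 𝒯 p chart) (i : X ⟶ P) [IsClosedImmersion i]
  (O1 : P.Modules)
  (lam : ∀ (U : Y.Opens) (hU : IsAffineOpen U),
    O1 ⟶ (Scheme.Modules.pushforward (RelProj.emb p chart U hU)).obj
      (GrTwist.twist (𝒯.deg U hU) 1))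
  (hO1 : RelProj.IsRelTwist 𝒯 p chart 1 O1 lam)
  (L : X.Modules) [L.IsQuasicoherent] (hL : PicF.IsInvertible L)
  (γ : (Scheme.Modules.pullback i).obj O1 ⟶ L) [IsIso γ]
  (𝒮L : RelProj.QCGrAlg X) (jL : L ⟶ 𝒮L.toModule) (hjL : RelProj.IsGrSymAlg L 𝒮L jL)
  (pL : PL ⟶ X) (chartL : ∀ (U : X.Opens) (hU : IsAffineOpen U),
    (((pL ⁻¹ᵁ U : PL.Opens) : Scheme.{u}) ≅ Proj (𝒮L.deg U hU)))
  (hPL : RelProj.IsRelProj 𝒮L pL chartL)

include hE hj hP hO1 hL γ hjL hPL in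
theorem exists_proj_twist :
    ∃ (𝒮 : RelProj.QCGrAlg Y) (PS : Scheme.{u}) (pS : PS ⟶ Y)
      (chartS : ∀ (U : Y.Opens) (hU : IsAffineOpen U),
        ((pS ⁻¹ᵁ U : PS.Opens) : Scheme.{u}) ≅ Proj (𝒮.deg U hU))
      (e : X ≅ PS),
      𝒮.IsGenDegOne ∧ 𝒮.IsFTDeg 1 ∧ RelProj.IsRelProj 𝒮 pS chartS ∧ e.hom ≫ pS = i ≫ p ∧
      ∀ (O1S : PS.Modules)
        (lamS : ∀ (U : Y.Opens) (hU : IsAffineOpen U),
          O1S ⟶ (Scheme.Modules.pushforward (RelProj.emb pS chartS U hU)).obj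
            (GrTwist.twist (𝒮.deg U hU) 1)),
        RelProj.IsRelTwist 𝒮 pS chartS 1 O1S lamS →
          Nonempty (L ≅ (Scheme.Modules.pullback e.hom).obj O1S) := by
  have hpLiso : IsIso pL :=
    SymLineProj.isIso_of_isInvertible L 𝒮L jL hjL pL chartL hPL hL
  obtain ⟨φ, hφ⟩ := RelTwistCanon.exists_canon_hom lam hP hO1 (d := 1) (by simp) E j hj.2
  let m : E ⟶ (Scheme.Modules.pushforward (i ≫ p)).obj L :=
    φ ≫ (Scheme.Modules.pushforward p).map (β O1 i L γ) ≫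
      (Scheme.Modules.pushforwardComp i p).hom.app L
  let u₀ : RelProj.QGrHom (i ≫ p) 𝒯 𝒮L := SymPairLift.qGrHom (i ≫ p) E 𝒯 j hj L m 𝒮L jL hjL.2
  have hqcp : QuasiCompact p := ProjBundleFT.quasiCompact E 𝒯 j hj hE p chart
  have hqc : ∀ U : Y.Opens, IsAffineOpen U → IsCompact (((i ≫ p) ⁻¹ᵁ U : X.Opens) : Set X) := by
    have : QuasiCompact (i ≫ p) := inferInstance
    exact quasiCompact_iff_forall_isAffineOpen.mp this
  have hgen : 𝒯.IsGenDegOne := ProjBundleQuot.isGenDegOne_of_isGrSymAlg E 𝒯 j hj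
  let 𝒮 : RelProj.QCGrAlg Y := QGrKer.im u₀ hqc
  let v : 𝒯.toQCAlg ⟶ 𝒮.toQCAlg := QGrKer.toIm u₀ hqc
  have hv : RelProj.IsGradedHom (𝒜 := 𝒯) (ℬ := 𝒮) v := QGrKer.isGradedHom_toIm u₀ hqc
  let u' : RelProj.QGrHom (i ≫ p) 𝒮 𝒮L := QGrKer.ofIm u₀ hqc
  let u'' : RelProj.QGrHom (i ≫ p) 𝒯 𝒮L := precomp v hv u'
  have hu'' : ∀ (U : Y.Opens) (_ : IsAffineOpen U) (e : Γ(E, U)),
      (u''.app U).hom ((j.app U) e) = (jL.app ((i ≫ p) ⁻¹ᵁ U))
        (show Γ(L, (i ≫ p) ⁻¹ᵁ U) from (β O1 i L γ).app (p ⁻¹ᵁ U) ((φ.app U) e)) := by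
    intro U hU e
    change (u'.app U).hom ((v.hom.app (op U)).hom ((j.app U).hom e)) = _
    rw [QGrKer.ofIm_toIm u₀ hqc U hU]
    exact SymPairLift.qGrHom_j (i ≫ p) E 𝒯 j hj L m 𝒮L jL hjL.2 U hU e
  have hφ' : ∀ (U : Y.Opens) (hU : IsAffineOpen U) (e : Γ(E, U))
      (y : ↥(RelProj.emb p chart U hU ⁻¹ᵁ (p ⁻¹ᵁ U))),
      GrTwist.val (V := RelProj.emb p chart U hU ⁻¹ᵁ (p ⁻¹ᵁ U))
          ((lam U hU).app (p ⁻¹ᵁ U) ((φ.app U) e)) y =
        algebraMap (𝒯.presheaf.obj (op U)) (GrTwist.Loc (𝒯.deg U hU) y.1)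
          ((j.app U) e : 𝒯.presheaf.obj (op U)) := fun U hU e y => hφ U hU e y.1 y.2
  have hdom'' : RelProj.domQ u'' pL chartL = ⊤ :=
    domQ_eq_top E 𝒯 j hj p chart O1 lam hO1 φ hφ' i L γ 𝒮L jL hjL u'' hu'' pL chartL
  obtain ⟨r'', hr''₀, -⟩ := existsUnique_glue u'' (p := p) (chart := chart) (p' := pL)
    (chart' := chartL) hP hPL
  have hr'' : RelProj.IsProjQMapOn u'' p chart pL chartL (RelProj.domQ u'' pL chartL) r'' :=
    (ProjQComp.isProjQMapOn_iff u'' r'').mpr hr''₀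
  have hr''eq := eq_of_isProjQMapOn E 𝒯 j hj p chart O1 lam hO1 φ hφ' i L γ 𝒮L jL hjL u'' hu''
    pL chartL hPL r'' hr''
  obtain ⟨PS, pS, chartS, hPS⟩ := RelProjExists.exists_relProj 𝒮
  obtain ⟨r', hr'₀, -⟩ := existsUnique_glue u' (p := pS) (chart := chartS) (p' := pL)
    (chart' := chartL) hPS hPL
  have hle := ProjQComp.domQ_comp_le v hv u' u'' (fun _ => rfl) (p' := pL) (chart' := chartL)
  have htop : RelProj.domQ u' pL chartL = ⊤ := top_le_iff.mp (hdom'' ▸ hle)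
  obtain ⟨Φ, hΦ, -⟩ := existsUnique_glue (RelProj.QGrHom.ofHom v hv) (p := p) (chart := chart)
    (p' := pS) (chart' := chartS) hP hPS
  have hb := ProjQComp.liftToDom_comp v hv u' u'' (fun _ => rfl) r' hr'₀ Φ hΦ r'' hr''₀
  have hbι := ProjQComp.liftToDom_ι v hv u' u'' (fun _ => rfl) r' hr'₀
  have hGv : RelProj.domQ (RelProj.QGrHom.ofHom v hv) pS chartS = ⊤ :=
    domQ_ofHom_eq_top v hv
      (fun U hU d x hx => (QGrKer.mem_deg_im_iff u₀ hqc U hU d x).mp hx) pS chartS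
  have hι'' : IsIso (RelProj.domQ u'' pL chartL).ι := isIso_ι_of_eq_top _ hdom''
  have hι' : IsIso (RelProj.domQ u' pL chartL).ι := isIso_ι_of_eq_top _ htop
  have hιv : IsIso (RelProj.domQ (RelProj.QGrHom.ofHom v hv) pS chartS).ι :=
    isIso_ι_of_eq_top _ hGv
  have hcl'' : IsClosedImmersion r'' := by
    rw [hr''eq]
    infer_instance
  have h1 : IsClosedImmersion
      (ProjQComp.liftToDom v hv u' u'' (fun _ => rfl) r' hr'₀ ≫ Φ) := by
    rw [hb]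
    exact hcl''
  have hΦp := glue_comp_p (RelProj.QGrHom.ofHom v hv) hP hPS Φ hΦ
  have hsepS : IsSeparated pS := Groth.Agent.S8259.result 𝒮 pS chartS hPS
  have hΦsep : IsSeparated Φ := by
    have : IsSeparated (Φ ≫ p) := by
      rw [hΦp]
      infer_instance
    exact IsSeparated.of_comp Φ p
  have h2 : IsClosedImmersion (ProjQComp.liftToDom v hv u' u'' (fun _ => rfl) r' hr'₀) :=
    IsClosedImmersion.of_comp _ Φ
  have h3 : IsClosedImmersion (PL.homOfLE hle ≫ r') := by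
    rw [← hbι]
    infer_instance
  have e : RelProj.domQ u'' pL chartL = RelProj.domQ u' pL chartL := hdom''.trans htop.symm
  have h4 : r' = (PL.isoOfEq e).inv ≫ (PL.homOfLE hle ≫ r') := by
    rw [← Category.assoc]
    have : (PL.isoOfEq e).inv ≫ PL.homOfLE hle = 𝟙 _ := (PL.isoOfEq e).inv_hom_id
    rw [this, Category.id_comp]
  have hcl' : IsClosedImmersion r' := by
    rw [h4]
    infer_instance
  have hstd : IsSchemeTheoreticallyDominant r' :=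
    SymLineSTD.isSchemeTheoreticallyDominant u' r' hr'₀ (fun y => by
      obtain ⟨V, hV, hyV, -⟩ := (Opens.isBasis_iff_nbhd.mp Y.isBasis_affineOpens)
        (show y ∈ (⊤ : Y.Opens) from trivial)
      exact ⟨V, hV, hyV, hqc V hV, QGrKer.ofIm_injective u₀ hqc V hV⟩)
  have hiso' : IsIso r' := IsClosedImmersion.isIso_iff_ker_eq_bot.mpr hstd.ker_eq_bot
  have hr'p := glue_comp_p u' hPS hPL r' hr'₀
  have hgenS : 𝒮.IsGenDegOne := QGrKer.isGenDegOne_im u₀ hqc hgen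
  have hr' : RelProj.IsProjQMapOn u' pS chartS pL chartL (RelProj.domQ u' pL chartL) r' :=
    (ProjQComp.isProjQMapOn_iff u' r').mpr hr'₀
  have hsurj : ∀ x : X, ∃ (U : Y.Opens) (hU : IsAffineOpen U) (e : 𝒮.presheaf.obj (op U))
      (_ : e ∈ 𝒮.deg U hU 1) (V : X.Opens) (hV : IsAffineOpen V) (hVU : V ≤ (i ≫ p) ⁻¹ᵁ U),
      x ∈ V ∧
      ((𝒮L.deg V hV 1 : AddSubgroup (𝒮L.presheaf.obj (op V))) : Set (𝒮L.presheaf.obj (op V))) ⊆
        (Ideal.span {(u'.appLE U V hVU).hom e} : Set (𝒮L.presheaf.obj (op V))) := by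
    intro x
    obtain ⟨U, hU, e', V, hV, hVU, hxV, hspan⟩ :=
      RLpsiTwist.exists_gen_of_domQ_eq_top (i ≫ p) L hL 𝒮L jL hjL pL chartL hPL E 𝒯 j hj u''
        hdom'' x
    refine ⟨U, hU, (v.hom.app (op U)).hom ((j.app U) e'), hv U hU 1 _ (hj.2 U hU e'),
      V, hV, hVU, hxV, ?_⟩
    rw [← RLpsiColim.appLE_comp v u' u'' (fun _ => rfl) U V hVU ((j.app U) e')]
    exact hspan
  refine ⟨𝒮, PS, pS, chartS, asIso (inv pL ≫ inv (RelProj.domQ u' pL chartL).ι ≫ r'),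
    hgenS, QGrKer.isFTDeg_im u₀ hqc 1 (ProjBundleFT.isFTDeg_one E 𝒯 j hj hE), hPS, ?_, ?_⟩
  · rw [asIso_hom, Category.assoc, Category.assoc, hr'p, IsIso.inv_hom_id_assoc,
      IsIso.inv_hom_id_assoc]
  · intro O1S lamS hO1S
    obtain ⟨_, _, i', hi', -, ⟨eL⟩⟩ := RLpsiTwist.exists_pullback_iso (i ≫ p) L hL 𝒮L jL hjL pL
      chartL hPL 𝒮 hgenS u' hsurj pS chartS hPS r' hr' O1S lamS hO1S
    rw [asIso_hom]
    rw [hi'] at eL
    exact ⟨eL⟩

end Main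

end Groth.Agent.Lib.helper28.ProjBundleClosed2
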