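import Groth.Agent.Lib.Helper28.HomOfAffine
import Groth.Prelude.Def_RelProj

/-!
# The degree-`d` projection of a quasi-coherent graded algebra, as a module endomorphism (helper28)

`exists_degProj 𝒮 d`: a morphism `π : 𝒮.toModule ⟶ 𝒮.toModule` which over every affine open `U` is
the projection of the graded ring `𝒮(U)` onto its degree-`d` part.
-/

set_option autoImplicit false
universe u
open CategoryTheory CategoryTheory.Limits AlgebraicGeometry TopologicalSpace Opposite

namespace Groth.Agent.Lib.helper28.DegProj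

variable {Y : Scheme.{u}} (𝒮 : RelProj.QCGrAlg Y)

/-- The degree-`d` projection on sections over an affine open. -/
noncomputable def projU (d : ℕ) (U : Y.AffineZariskiSite) :
    Γ(𝒮.toModule, U.1) →+ Γ(𝒮.toModule, U.1) :=
  (GradedRing.proj (𝒮.deg U.1 U.2) d : 𝒮.presheaf.obj (op U.1) →+ 𝒮.presheaf.obj (op U.1))

theorem projU_apply (d : ℕ) (U : Y.AffineZariskiSite) (x : 𝒮.presheaf.obj (op U.1)) :
    projU 𝒮 d U x = (DirectSum.decompose (𝒮.deg U.1 U.2) x d : 𝒮.presheaf.obj (op U.1)) := rfl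

theorem exists_degProj (d : ℕ) :
    ∃ π : 𝒮.toModule ⟶ 𝒮.toModule, ∀ (U : Y.Opens) (hU : IsAffineOpen U)
      (x : 𝒮.presheaf.obj (op U)),
      (π.app U) x = (DirectSum.decompose (𝒮.deg U hU) x d : 𝒮.presheaf.obj (op U)) := by
  obtain ⟨π, hπ⟩ := Groth.Agent.Lib.helper28.HomOfAffine.exists_hom_of_affine
    (F := 𝒮.toModule) (G := 𝒮.toModule) (projU 𝒮 d)
    (by
      intro U V hVU x
      exact ((𝒮.res U.2 V.2 (Scheme.AffineZariskiSite.toOpens_mono hVU)).map_directSumDecompose
        (x := x) (i := d)).symm)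
    (by
      intro U r x
      exact DirectSum.coe_decompose_mul_of_left_mem_zero (𝒮.deg U.1 U.2) (𝒮.str_mem U.1 U.2 r))
  exact ⟨π, fun U hU x => hπ ⟨U, hU⟩ x⟩

end Groth.Agent.Lib.helper28.DegProj
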