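import Groth.Agent.Lib.Helper28.ProjBundleQuot2
import Groth.Agent.Lib.Helper28.DegProj
import Groth.Agent.Lib.Helper28.RelTwistExists
import Groth.Agent.Lib.Helper28.RelProjExists
import Groth.Agent.Lib.Helper7.KerSections
import Groth.Agent.Lib.Helper7.CohKer
import Groth.Agent.Lib.Helper16.QCAlg1
import Groth.Agent.Lib.Helper16.CohFinite

/-!
# A projective morphism embeds into a projective bundle (helper28)

* `exists_degOne`: for a quasi-coherent graded algebra `𝒮` with `𝒮_1` of finite type, the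
  degree-one part as a quasi-coherent module of finite type `E` with `u : E ⟶ 𝒮` identifying
  `E(U)` with `𝒮(U)_1` over the affine opens.
* `exists_closedImmersion`: `Proj(𝒮)`, `𝒮` generated in degree one with `𝒮_1` of finite type, is a
  closed subscheme of `P(E)`, `E` quasi-coherent of finite type.
-/

set_option autoImplicit false
universe u

open CategoryTheory CategoryTheory.Limits AlgebraicGeometry TopologicalSpace Opposite
open scoped HomogeneousIdeal

namespace Groth.Agent.Lib.helper28.ProjBundleOfProj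

open Groth.Agent.Lib.helper28 Groth.Agent.Lib.helper7.KerSections

variable {Y : Scheme.{u}} (𝒮 : RelProj.QCGrAlg Y)

theorem exists_degOne (hft : 𝒮.IsFTDeg 1) :
    ∃ (E : Y.Modules) (_ : E.IsQuasicoherent) (u : E ⟶ 𝒮.toModule), CohB1.IsFT E ∧
      (∀ (U : Y.Opens) (hU : IsAffineOpen U) (x : Γ(E, U)), (u.app U) x ∈ 𝒮.deg U hU 1) ∧
      (∀ (U : Y.Opens) (hU : IsAffineOpen U) (s : 𝒮.presheaf.obj (op U)),
        s ∈ 𝒮.deg U hU 1 → ∃ x : Γ(E, U), (u.app U) x = s) := by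
  classical
  obtain ⟨π, hπ⟩ := DegProj.exists_degProj 𝒮 1
  have : 𝒮.toModule.IsQuasicoherent :=
    Groth.Agent.Lib.helper16.QCAlg.isQuasicoherent_toModule 𝒮.toQCAlg
  let ψ : 𝒮.toModule ⟶ 𝒮.toModule := 𝟙 _ - π
  have hψ : ∀ (U : Y.Opens) (s : Γ(𝒮.toModule, U)), (ψ.app U).hom s = s - (π.app U).hom s :=
    fun U s => rfl
  have hq : (kernel ψ).IsQuasicoherent :=
    Groth.Agent.Lib.helper7.CohKer.isQuasicoherent_kernel ψ
  have hu1 : ∀ (U : Y.Opens) (hU : IsAffineOpen U) (x : Γ(kernel ψ, U)),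
      ((kernel.ι ψ).app U) x ∈ 𝒮.deg U hU 1 := by
    intro U hU x
    have h0 := kernel_ι_app_comp ψ U x
    rw [hψ, sub_eq_zero] at h0
    have h1 := hπ U hU (((kernel.ι ψ).app U).hom x)
    have h2 : (((kernel.ι ψ).app U).hom x : 𝒮.presheaf.obj (op U)) =
        (DirectSum.decompose (𝒮.deg U hU) (((kernel.ι ψ).app U).hom x) 1 :
          𝒮.presheaf.obj (op U)) := h0.trans h1
    change (((kernel.ι ψ).app U).hom x : 𝒮.presheaf.obj (op U)) ∈ _
    rw [h2]
    exact SetLike.coe_mem _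
  have husurj : ∀ (U : Y.Opens) (hU : IsAffineOpen U) (s : 𝒮.presheaf.obj (op U)),
      s ∈ 𝒮.deg U hU 1 → ∃ x : Γ(kernel ψ, U), ((kernel.ι ψ).app U) x = s := by
    intro U hU s hs
    refine exists_kernel_section ψ U s ?_
    rw [hψ, sub_eq_zero]
    have h1 := hπ U hU s
    rw [DirectSum.decompose_of_mem_same _ hs] at h1
    exact h1.symm
  refine ⟨kernel ψ, hq, kernel.ι ψ, ?_, hu1, husurj⟩
  rw [CohB1.IsFT, Groth.Agent.Lib.helper16.CohFinite.isFiniteType_iff_finite_sections]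
  rintro ⟨U, hU⟩
  obtain ⟨T, hT1, hT2⟩ := hft U hU
  have hex : ∀ t : T, ∃ x : Γ(kernel ψ, U), ((kernel.ι ψ).app U) x = t.1 :=
    fun t => husurj U hU t.1 (hT1 t.2)
  choose e he using hex
  refine ⟨⟨T.attach.image e, ?_⟩⟩
  rw [eq_top_iff]
  intro x _
  obtain ⟨c, hc⟩ := hT2 _ (hu1 U hU x)
  have hx : x = ∑ t ∈ T.attach, c t.1 • e t := by
    apply kernel_ι_app_injective ψ U
    rw [map_sum]
    refine hc.trans ?_
    rw [← Finset.sum_attach T]
    refine Finset.sum_congr rfl fun t _ => ?_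
    have h3 := Scheme.Modules.Hom.app_smul (kernel.ι ψ) (c t.1) (e t)
    refine Eq.trans ?_ h3.symm
    rw [Groth.Agent.Lib.helper16.QCAlg.smul_toModule]
    exact congrArg (fun z => (𝒮.str.app (op U)).hom (c t.1) * z) (he t).symm
  rw [hx]
  exact Submodule.sum_mem _ fun t ht =>
    Submodule.smul_mem _ _ (Submodule.subset_span (Finset.mem_coe.mpr (Finset.mem_image_of_mem e ht)))

open Groth.Agent.Lib.helper28.SymGradedExists Groth.Agent.Lib.helper28.SymAlg in
/-- **`Proj(𝒮)` is a closed subscheme of a projective bundle `P(E)`, `E` of finite type.** -/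
theorem exists_closedImmersion {P : Scheme.{u}} (hgen : 𝒮.IsGenDegOne) (hft : 𝒮.IsFTDeg 1)
    (p : P ⟶ Y)
    (chart : ∀ (U : Y.Opens) (hU : IsAffineOpen U),
      ((p ⁻¹ᵁ U : P.Opens) : Scheme.{u}) ≅ Proj (𝒮.deg U hU))
    (hP : RelProj.IsRelProj 𝒮 p chart) :
    ∃ (E : Y.Modules) (𝒯 : RelProj.QCGrAlg Y) (j : E ⟶ 𝒯.toModule) (P' : Scheme.{u})
      (p' : P' ⟶ Y)
      (chart' : ∀ (U : Y.Opens) (hU : IsAffineOpen U),
        ((p' ⁻¹ᵁ U : P'.Opens) : Scheme.{u}) ≅ Proj (𝒯.deg U hU))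
      (h : P ⟶ P'),
      Coh.IsQCoh E ∧ CohB1.IsFT E ∧ RelProj.IsGrSymAlg E 𝒯 j ∧ RelProj.IsRelProj 𝒯 p' chart' ∧
        IsClosedImmersion h ∧ h ≫ p' = p := by
  obtain ⟨E, hq, u, hE, hu1, husurj⟩ := exists_degOne 𝒮 hft
  obtain ⟨P', p', chart', hP'⟩ := RelProjExists.exists_relProj
    (grAlg E (symAlg E) (SymAlg.j E) (isSymAlg E))
  obtain ⟨O1, lam, hO1⟩ := RelTwistExists.exists_isRelTwist 𝒮 p chart hP 1
  obtain ⟨O1', lam', hO1'⟩ := RelTwistExists.exists_isRelTwist _ p' chart' hP' 1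
  obtain ⟨ubar, -, hgr, hirr, h, -, hcl, hover, -⟩ :=
    ProjBundleQuot.exists_relProjMap_pullback_iso 𝒮 hgen E (symAlg E) (SymAlg.j E) (isSymAlg E)
      u hu1 husurj p chart hP O1 lam hO1 p' chart' hP' O1' lam' hO1'
  exact ⟨E, _, SymAlg.j E, P', p', chart', h, hq, hE,
    isGrSymAlg E (symAlg E) (SymAlg.j E) (isSymAlg E), hP', hcl, hover⟩

end Groth.Agent.Lib.helper28.ProjBundleOfProj
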