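import Mathlib

set_option autoImplicit false

/-! The grading of the symmetric algebra of a module by the symmetric powers (helper28);
adapted from Mathlib's grading of the exterior algebra. -/

namespace Groth.Agent.Lib.helper28.SymAlgGrading

variable (R M : Type*) [CommRing R] [AddCommGroup M] [Module R M]

open scoped DirectSum

/-- The `n`-th symmetric power, as a submodule of the symmetric algebra. -/
abbrev symPow (n : ℕ) : Submodule R (SymmetricAlgebra R M) :=
  LinearMap.range (SymmetricAlgebra.ι R M) ^ n

instance : SetLike.GradedMonoid (symPow R M) :=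
  Submodule.nat_power_gradedMonoid (LinearMap.range (SymmetricAlgebra.ι R M))

/-- `SymmetricAlgebra.ι` into the graded structure. -/
def gι : M →ₗ[R] ⨁ i : ℕ, symPow R M i :=
  DirectSum.lof R ℕ (fun i => symPow R M i) 1 ∘ₗ
    (SymmetricAlgebra.ι R M).codRestrict _ fun m => by
      simpa only [pow_one] using LinearMap.mem_range_self _ m

theorem gι_apply (m : M) :
    gι R M m = DirectSum.of (fun i : ℕ => symPow R M i) 1
      ⟨SymmetricAlgebra.ι R M m, by simpa only [pow_one] using LinearMap.mem_range_self _ m⟩ :=
  rfl

/-- `gι` lifted to the symmetric algebra. -/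
def liftι : SymmetricAlgebra R M →ₐ[R] ⨁ i : ℕ, symPow R M i :=
  SymmetricAlgebra.lift (gι R M)

theorem liftι_eq (i : ℕ) (x : symPow R M i) :
    liftι R M x = DirectSum.of (fun i => symPow R M i) i x := by
  obtain ⟨x, hx⟩ := x
  dsimp only [Subtype.coe_mk, DirectSum.lof_eq_of]
  induction hx using Submodule.pow_induction_on_left' with
  | algebraMap => simp_rw [AlgHom.commutes, DirectSum.algebraMap_apply]; rfl
  | add _ _ _ _ _ ihx ihy => simp_rw [map_add, ihx, ihy, ← map_add]; rfl
  | mem_mul _ hm _ _ _ ih =>
      obtain ⟨_, rfl⟩ := hm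
      simp_rw [map_mul, ih, liftι, SymmetricAlgebra.lift_ι_apply, gι_apply R M,
        DirectSum.of_mul_of]
      exact DirectSum.of_eq_of_gradedMonoid_eq (Sigma.subtype_ext (add_comm _ _) rfl)

/-- The symmetric algebra is graded by the symmetric powers. -/
instance gradedAlgebra : GradedAlgebra (symPow R M) :=
  GradedAlgebra.ofAlgHom _ (liftι R M)
    (by
      ext m
      change DirectSum.coeAlgHom (symPow R M)
        (SymmetricAlgebra.lift (gι R M) (SymmetricAlgebra.ι R M m)) = SymmetricAlgebra.ι R M m
      rw [SymmetricAlgebra.lift_ι_apply, gι_apply R M, DirectSum.coeAlgHom_of, Subtype.coe_mk])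
    (by apply liftι_eq R M)

end Groth.Agent.Lib.helper28.SymAlgGrading
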