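import Groth.Agent.Lib.Helper28.SymLocal
import Groth.Agent.Lib.Helper28.SymAlgGrading
import Groth.Agent.Lib.Helper28.GradedTransport
import Groth.Prelude.Def_RelProj2

set_option autoImplicit false

universe u

/-! Every symmetric algebra `(A, j)` of a quasi-coherent module `E` carries a grading (by the
symmetric powers) making it the graded symmetric algebra of `E` (helper28). -/

namespace Groth.Agent.Lib.helper28.SymGradedExists

open CategoryTheory CategoryTheory.Limits AlgebraicGeometry TopologicalSpace Opposite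
open Groth.Agent.Lib.helper28.SymAlg Groth.Agent.Lib.helper28.SymLoc
  Groth.Agent.Lib.helper28.SymSheaf Groth.Agent.Lib.helper28
open Groth.Agent.Lib.helper28.SymAlgGrading Groth.Agent.Lib.helper28.GradedTransport

section ring

variable {R R' M M' : Type*} [CommRing R] [CommRing R'] [AddCommGroup M] [Module R M]
  [AddCommGroup M'] [Module R' M']

/-- `symMap` preserves the symmetric powers. -/
theorem symMap_mem (ρ : R →+* R') (f : M →+ M') (hf : ∀ a m, f (a • m) = ρ a • f m) {n : ℕ}
    {x : SymmetricAlgebra R M} (hx : x ∈ symPow R M n) : symMap ρ f hf x ∈ symPow R' M' n := by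
  induction hx using Submodule.pow_induction_on_left' with
  | algebraMap r =>
    rw [symMap_algebraMap, symPow, pow_zero, Submodule.one_eq_range]
    exact ⟨ρ r, rfl⟩
  | add x y i hx hy ihx ihy =>
    rw [map_add]
    exact add_mem ihx ihy
  | mem_mul m hm i x hx ih =>
    obtain ⟨m₀, rfl⟩ := hm
    rw [map_mul, symMap_ι, symPow, pow_succ']
    exact Submodule.mul_mem_mul ⟨f m₀, rfl⟩ ih

end ring

variable {S : Scheme.{u}} (E : S.Modules) [E.IsQuasicoherent]
  (A : RelSpec.QCAlg S) (jA : E ⟶ A.toModule) (hA : RelSpec.IsSymAlg E A jA)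

/-- Over an affine open, the identification `Sym E(U) ≃ A(U)`. -/
noncomputable def eU (U : S.Opens) (hU : IsAffineOpen U) : SymU E U ≃+* A.presheaf.obj (op U) :=
  RingEquiv.ofBijective (liftU E A jA U) (liftU_bijective E A jA hA ⟨U, hU⟩)

theorem eU_apply (U : S.Opens) (hU : IsAffineOpen U) (x : SymU E U) :
    eU E A jA hA U hU x = liftU E A jA U x := rfl

/-- The degree-`n` part of `A(U)`. -/
noncomputable def deg (U : S.Opens) (hU : IsAffineOpen U) (n : ℕ) :
    AddSubgroup (A.presheaf.obj (op U)) :=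
  mapDeg (eU E A jA hA U hU) (symPow Γ(S, U) Γ(E, U)) n

/-- `A` with its grading by symmetric powers. -/
noncomputable def grAlg : RelProj.QCGrAlg S where
  toQCAlg := A
  deg := deg E A jA hA
  graded U hU := gradedRing (eU E A jA hA U hU) (symPow Γ(S, U) Γ(E, U))
  map_mem := by
    rintro U V hU hV i d _ ⟨s, hs, rfl⟩
    refine ⟨symRes E i s, symMap_mem _ _ _ hs, ?_⟩
    exact congrArg (fun k => k s) (liftU_res E A jA i)
  str_mem := by
    intro U hU r
    refine ⟨algebraMap _ _ r, ?_, ?_⟩
    · rw [symPow, pow_zero, Submodule.one_eq_range]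
      exact ⟨r, rfl⟩
    · exact liftU_algebraMap E A jA U r

theorem isGrSymAlg : RelProj.IsGrSymAlg E (grAlg E A jA hA) jA := by
  refine ⟨hA, ?_⟩
  intro U hU x
  refine ⟨SymmetricAlgebra.ι _ _ x, ?_, ?_⟩
  · rw [symPow, pow_one]
    exact ⟨x, rfl⟩
  · exact liftU_ι E A jA U x

/-- **Existence of the graded symmetric algebra** of a quasi-coherent module. -/
theorem exists_isGrSymAlg :
    ∃ (𝒮 : RelProj.QCGrAlg S) (j : E ⟶ 𝒮.toModule), RelProj.IsGrSymAlg E 𝒮 j :=
  ⟨grAlg E (symAlg E) (SymAlg.j E) (isSymAlg E), SymAlg.j E,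
    isGrSymAlg E (symAlg E) (SymAlg.j E) (isSymAlg E)⟩

end Groth.Agent.Lib.helper28.SymGradedExists
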