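import Groth.Agent.Lib.Helper28.SymLoc
import Groth.Agent.Lib.Helper8.PullbackUnit

/-!
# The symmetric algebra commutes with base change (helper28)

`isPushout_symMap`: if `k : M → M'` exhibits `M'` as the base change of `M` along `φ : R → R'`
(helper8 `IsBC`), then `Sym_{R'}(M')` is the pushout of `R'` and `Sym_R(M)` over `R`.
-/

set_option autoImplicit false
universe u

namespace Groth.Agent.Lib.helper28.SymBaseChange

open CategoryTheory CategoryTheory.Limits SymmetricAlgebra
open Groth.Agent.Lib.helper28.SymLoc Groth.Agent.Lib.helper8.PullbackUnit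

variable {R R' : Type u} [CommRing R] [CommRing R'] (φ : R →+* R') {M M' : Type u}
  [AddCommGroup M] [Module R M] [AddCommGroup M'] [Module R' M'] (k : M →+ M') (hk : IsBC φ k)

include hk in
theorem existsUnique_desc {T : Type u} [CommRing T] (α : R' →+* T)
    (β : SymmetricAlgebra R M →+* T) (hαβ : ∀ r, α (φ r) = β (algebraMap R _ r)) :
    ∃! γ : SymmetricAlgebra R' M' →+* T,
      (∀ r', γ (algebraMap R' _ r') = α r') ∧ ∀ x, γ (symMap φ k hk.map_smul x) = β x := by
  let modT : Module R' T := Module.compHom T α
  let h : M →+ T := β.toAddMonoidHom.comp (ι R M).toAddMonoidHom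
  have hh : ∀ (r : R) (m : M), h (r • m) = φ r • h m := by
    intro r m
    change β (ι R M (r • m)) = α (φ r) * β (ι R M m)
    rw [LinearMap.map_smul, Algebra.smul_def, map_mul, hαβ]
  obtain ⟨h', hh', huniq⟩ := hk.existsUnique_lift T h hh
  have hsm : ∀ (a : R') (m : M'), h'.toAddMonoidHom (a • m) = α a * h'.toAddMonoidHom m :=
    fun a m => h'.map_smul a m
  refine ⟨liftRingHom α h'.toAddMonoidHom hsm, ⟨fun r' => liftRingHom_algebraMap _ _ _ r', ?_⟩, ?_⟩
  · intro x
    have : (liftRingHom α h'.toAddMonoidHom hsm).comp (symMap φ k hk.map_smul) = β := by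
      refine ringHom_ext _ _ (fun a => ?_) (fun m => ?_)
      · rw [RingHom.comp_apply, symMap_algebraMap, liftRingHom_algebraMap, hαβ]
      · rw [RingHom.comp_apply, symMap_ι, liftRingHom_ι]
        exact hh' m
    exact congrArg (fun f => f x) this
  · rintro γ ⟨hγ1, hγ2⟩
    refine ringHom_ext _ _ (fun a => ?_) (fun m => ?_)
    · rw [hγ1, liftRingHom_algebraMap]
    · rw [liftRingHom_ι]
      let g' : M' →ₗ[R'] T :=
        { toFun := fun y => γ (ι R' M' y)
          map_add' := fun x y => by rw [map_add, map_add]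
          map_smul' := fun a y => by
            change γ (ι R' M' (a • y)) = α a * γ (ι R' M' y)
            rw [LinearMap.map_smul, Algebra.smul_def, map_mul, hγ1] }
      have hg' : g' = h' := huniq g' (fun m => by
        change γ (ι R' M' (k m)) = β (ι R M m)
        rw [← hγ2, symMap_ι])
      exact congrArg (fun f : M' →ₗ[R'] T => f m) hg'

include hk in
theorem isPushout_symMap :
    IsPushout (CommRingCat.ofHom φ) (CommRingCat.ofHom (algebraMap R (SymmetricAlgebra R M)))
      (CommRingCat.ofHom (algebraMap R' (SymmetricAlgebra R' M')))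
      (CommRingCat.ofHom (symMap φ k hk.map_smul)) := by
  have hw : CommRingCat.ofHom φ ≫ CommRingCat.ofHom (algebraMap R' (SymmetricAlgebra R' M')) =
      CommRingCat.ofHom (algebraMap R (SymmetricAlgebra R M)) ≫
        CommRingCat.ofHom (symMap φ k hk.map_smul) := by
    ext a
    exact (symMap_algebraMap φ k hk.map_smul a).symm
  have key : ∀ s : PushoutCocone (CommRingCat.ofHom φ)
      (CommRingCat.ofHom (algebraMap R (SymmetricAlgebra R M))),
      ∃! γ : SymmetricAlgebra R' M' →+* s.pt,
        (∀ r', γ (algebraMap R' _ r') = s.inl.hom r') ∧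
          ∀ x, γ (symMap φ k hk.map_smul x) = s.inr.hom x := fun s =>
    existsUnique_desc φ k hk s.inl.hom s.inr.hom (fun r => by
      have := congrArg (fun f => f.hom r) s.condition
      exact this)
  refine ⟨⟨hw⟩, ⟨PushoutCocone.IsColimit.mk _ (fun s => CommRingCat.ofHom (key s).choose)
    (fun s => ?_) (fun s => ?_) (fun s m hl hr => ?_)⟩⟩
  · ext r'
    exact (key s).choose_spec.1.1 r'
  · ext x
    exact (key s).choose_spec.1.2 x
  · have := (key s).choose_spec.2 m.hom
      ⟨fun r' => congrArg (fun f => f.hom r') hl, fun x => congrArg (fun f => f.hom x) hr⟩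
    ext x
    exact congrArg (fun f => f x) this

end Groth.Agent.Lib.helper28.SymBaseChange
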