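import Groth.Agent.Lib.Helper28.RelProjPair
import Groth.Agent.Lib.Helper28.SymBaseChange
import Groth.Agent.Lib.Helper28.SymDegEq
import Groth.Agent.Lib.Helper16.QCohPullback
import Groth.Agent.Lib.Helper2.ModSec

/-!
# `P(ψ^*E) = P(E) ×_Y Y'` (helper28)

The graded symmetric algebra of `ψ^*E` is the base change of that of `E`, on affine pairs; hence
the projective bundle of `ψ^*E` is the base change of that of `E`.
-/

set_option autoImplicit false
universe u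

namespace Groth.Agent.Lib.helper28.SymPair

open CategoryTheory CategoryTheory.Limits AlgebraicGeometry TopologicalSpace Opposite
open scoped HomogeneousIdeal
open Groth.Agent.Lib.helper28.SymAlg Groth.Agent.Lib.helper28.SymLoc
  Groth.Agent.Lib.helper28.SymSheaf Groth.Agent.Lib.helper28
open Groth.Agent.Lib.helper28.SymAlgGrading Groth.Agent.Lib.helper28.GradedTransport
open Groth.Agent.Lib.helper28.SymGradedExists Groth.Agent.Lib.helper28.SymDegEq
open Groth.Agent.Lib.helper8.PullbackUnit Groth.Agent.Lib.helper28.RelProjPair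

section HomExt

variable {S : Scheme.{u}} (E : S.Modules) [E.IsQuasicoherent]
  (A : RelSpec.QCAlg S) (jA : E ⟶ A.toModule) (hA : RelSpec.IsSymAlg E A jA)

include hA in
/-- Ring homomorphisms out of `A(U)`, `U` affine, are determined by their values on functions and
on the `j(m)`. -/
theorem ringHom_ext_of_str_j (U : S.Opens) (hU : IsAffineOpen U) {T : Type u} [CommRing T]
    (f g : A.presheaf.obj (op U) →+* T)
    (hstr : ∀ r : Γ(S, U), f ((A.str.app (op U)).hom r) = g ((A.str.app (op U)).hom r))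
    (hj : ∀ m : Γ(E, U), f ((jA.app U).hom m) = g ((jA.app U).hom m)) : f = g := by
  have h1 : f.comp (liftU E A jA U) = g.comp (liftU E A jA U) := by
    refine ringHom_ext _ _ (fun r => ?_) (fun m => ?_)
    · rw [RingHom.comp_apply, RingHom.comp_apply, liftU_algebraMap]
      exact hstr r
    · rw [RingHom.comp_apply, RingHom.comp_apply, liftU_ι]
      exact hj m
  ext y
  obtain ⟨x, rfl⟩ := (liftU_bijective E A jA hA ⟨U, hU⟩).2 y
  exact congrArg (fun k => k x) h1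

end HomExt

variable {Y Y' : Scheme.{u}} (ψ : Y' ⟶ Y) (E : Y.Modules) [E.IsQuasicoherent]
  [((Scheme.Modules.pullback ψ).obj E).IsQuasicoherent]
  (𝒮 : RelProj.QCGrAlg Y) (j : E ⟶ 𝒮.toModule) (hj : RelProj.IsGrSymAlg E 𝒮 j)
  (𝒮' : RelProj.QCGrAlg Y') (j' : (Scheme.Modules.pullback ψ).obj E ⟶ 𝒮'.toModule)
  (hj' : RelProj.IsGrSymAlg ((Scheme.Modules.pullback ψ).obj E) 𝒮' j')

section Pair

variable (U : Y.Opens) (hU : IsAffineOpen U) (U' : Y'.Opens) (hU' : IsAffineOpen U')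
  (hle : U' ≤ ψ ⁻¹ᵁ U)

/-- `Sym E(U) → Sym (ψ^*E)(U')`. -/
noncomputable def symPair :
    SymmetricAlgebra Γ(Y, U) Γ(E, U) →+*
      SymmetricAlgebra Γ(Y', U') Γ((Scheme.Modules.pullback ψ).obj E, U') :=
  symMap (ψ.appLE U U' hle).hom (ρ ψ hle E) (isBC_ρ ψ hU hU' hle E).map_smul

/-- The ring homomorphism `𝒮(U) → 𝒮'(U')` on an affine pair. -/
noncomputable def pairRing : 𝒮.presheaf.obj (op U) →+* 𝒮'.presheaf.obj (op U') :=
  ((liftU ((Scheme.Modules.pullback ψ).obj E) 𝒮'.toQCAlg j' U').comp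
    (symPair ψ E U hU U' hU' hle)).comp (eU E 𝒮.toQCAlg j hj.1 U hU).symm.toRingHom

theorem pairRing_liftU (x : SymU E U) :
    pairRing ψ E 𝒮 j hj 𝒮' j' U hU U' hU' hle (liftU E 𝒮.toQCAlg j U x) =
      liftU ((Scheme.Modules.pullback ψ).obj E) 𝒮'.toQCAlg j' U' (symPair ψ E U hU U' hU' hle x) := by
  change liftU ((Scheme.Modules.pullback ψ).obj E) 𝒮'.toQCAlg j' U' (symPair ψ E U hU U' hU' hle
    ((eU E 𝒮.toQCAlg j hj.1 U hU).symm (eU E 𝒮.toQCAlg j hj.1 U hU x))) = _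
  rw [RingEquiv.symm_apply_apply]

theorem pairRing_str (r : Γ(Y, U)) :
    pairRing ψ E 𝒮 j hj 𝒮' j' U hU U' hU' hle ((𝒮.str.app (op U)).hom r) =
      (𝒮'.str.app (op U')).hom ((ψ.appLE U U' hle).hom r) := by
  rw [← liftU_algebraMap E 𝒮.toQCAlg j U r, pairRing_liftU, symPair, symMap_algebraMap,
    liftU_algebraMap]

theorem pairRing_j (m : Γ(E, U)) :
    pairRing ψ E 𝒮 j hj 𝒮' j' U hU U' hU' hle ((j.app U).hom m) =
      (j'.app U').hom (ρ ψ hle E m) := by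
  rw [← liftU_ι E 𝒮.toQCAlg j U m, pairRing_liftU, symPair, symMap_ι, liftU_ι]

/-- The graded ring homomorphism `𝒮(U) → 𝒮'(U')` on an affine pair. -/
noncomputable def pairGr : 𝒮.deg U hU →+*ᵍ 𝒮'.deg U' hU' :=
  { pairRing ψ E 𝒮 j hj 𝒮' j' U hU U' hU' hle with
    map_mem := by
      intro d y hy
      obtain ⟨x, hx, rfl⟩ := (mem_deg_iff E 𝒮 j hj U hU d y).mp hy
      refine (mem_deg_iff _ 𝒮' j' hj' U' hU' d _).mpr
        ⟨symPair ψ E U hU U' hU' hle x, symMap_mem _ _ _ hx, ?_⟩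
      exact (pairRing_liftU ψ E 𝒮 j hj 𝒮' j' U hU U' hU' hle x).symm }

theorem pairGr_toRingHom :
    (pairGr ψ E 𝒮 j hj 𝒮' j' hj' U hU U' hU' hle).toRingHom =
      pairRing ψ E 𝒮 j hj 𝒮' j' U hU U' hU' hle := rfl

end Pair

section Res

omit [E.IsQuasicoherent] [((Scheme.Modules.pullback ψ).obj E).IsQuasicoherent] in
theorem ρ_res_right {U : Y.Opens} {U' V' : Y'.Opens} (hle : U' ≤ ψ ⁻¹ᵁ U) (i : V' ≤ U')
    (m : Γ(E, U)) :
    ((Scheme.Modules.pullback ψ).obj E).presheaf.map (homOfLE i).op (ρ ψ hle E m) =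
      ρ ψ (i.trans hle) E m := by
  rw [ρ_apply, ρ_apply, ← ConcreteCategory.comp_apply, ← Functor.map_comp]
  rfl

omit [E.IsQuasicoherent] [((Scheme.Modules.pullback ψ).obj E).IsQuasicoherent] in
theorem ρ_res_left {U V : Y.Opens} {U' : Y'.Opens} (i : V ≤ U) (hle : U' ≤ ψ ⁻¹ᵁ V)
    (m : Γ(E, U)) :
    ρ ψ hle E (E.presheaf.map (homOfLE i).op m) =
      ρ ψ (hle.trans (ψ.preimage_mono i)) E m := by
  rw [ρ_apply, ρ_apply]
  have h1 : (((Scheme.Modules.pullbackPushforwardAdjunction ψ).unit.app E).app V).hom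
      (E.presheaf.map (homOfLE i).op m) =
      ((Scheme.Modules.pullback ψ).obj E).presheaf.map (homOfLE (ψ.preimage_mono i)).op
        ((((Scheme.Modules.pullbackPushforwardAdjunction ψ).unit.app E).app U).hom m) :=
    Groth.Agent.Lib.helper16.QCohEpi.app_map
      ((Scheme.Modules.pullbackPushforwardAdjunction ψ).unit.app E) i m
  refine (congrArg (fun z => ((Scheme.Modules.pullback ψ).obj E).presheaf.map (homOfLE hle).op z)
    h1).trans ?_
  rw [← ConcreteCategory.comp_apply, ← Functor.map_comp]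
  rfl

theorem pairRing_res_right (U : Y.Opens) (hU : IsAffineOpen U) (U' : Y'.Opens)
    (hU' : IsAffineOpen U') (hle : U' ≤ ψ ⁻¹ᵁ U) (V' : Y'.Opens) (hV' : IsAffineOpen V')
    (i : V' ≤ U') :
    (𝒮'.presheaf.map (homOfLE i).op).hom.comp (pairRing ψ E 𝒮 j hj 𝒮' j' U hU U' hU' hle) =
      pairRing ψ E 𝒮 j hj 𝒮' j' U hU V' hV' (i.trans hle) := by
  refine ringHom_ext_of_str_j E 𝒮.toQCAlg j hj.1 U hU _ _ (fun r => ?_) (fun m => ?_)
  · rw [RingHom.comp_apply, pairRing_str, pairRing_str]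
    have h1 := congrArg (fun k => k.hom ((ψ.appLE U U' hle).hom r))
      (𝒮'.str.naturality (homOfLE i).op)
    have h2 := congrArg (fun k => k.hom r) (Scheme.Hom.appLE_map ψ hle (homOfLE i).op)
    refine h1.symm.trans ?_
    exact congrArg (𝒮'.str.app (op V')).hom h2
  · rw [RingHom.comp_apply, pairRing_j, pairRing_j, ← ρ_res_right ψ E hle i m]
    exact Groth.Agent.Lib.helper2.ModSec.map_app_apply j' (homOfLE i) _

theorem pairRing_res_left (U : Y.Opens) (hU : IsAffineOpen U) (V : Y.Opens) (hV : IsAffineOpen V)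
    (i : V ≤ U) (U' : Y'.Opens) (hU' : IsAffineOpen U') (hle : U' ≤ ψ ⁻¹ᵁ V) :
    (pairRing ψ E 𝒮 j hj 𝒮' j' V hV U' hU' hle).comp (𝒮.presheaf.map (homOfLE i).op).hom =
      pairRing ψ E 𝒮 j hj 𝒮' j' U hU U' hU' (hle.trans (ψ.preimage_mono i)) := by
  refine ringHom_ext_of_str_j E 𝒮.toQCAlg j hj.1 U hU _ _ (fun r => ?_) (fun m => ?_)
  · rw [RingHom.comp_apply, pairRing_str]
    have h1 := congrArg (fun k => k.hom r) (𝒮.str.naturality (homOfLE i).op)
    have h2 := congrArg (fun k => k.hom r) (Scheme.Hom.map_appLE ψ hle (homOfLE i).op)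
    refine (congrArg (pairRing ψ E 𝒮 j hj 𝒮' j' V hV U' hU' hle) h1.symm).trans ?_
    refine (pairRing_str ψ E 𝒮 j hj 𝒮' j' V hV U' hU' hle _).trans ?_
    exact congrArg (𝒮'.str.app (op U')).hom h2
  · rw [RingHom.comp_apply, pairRing_j, ← ρ_res_left ψ E i hle m]
    have h1 : (𝒮.presheaf.map (homOfLE i).op).hom ((j.app U).hom m) =
        (j.app V).hom (E.presheaf.map (homOfLE i).op m) :=
      Groth.Agent.Lib.helper2.ModSec.map_app_apply j (homOfLE i) m
    rw [h1, pairRing_j]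

/-- The compatible family of graded homomorphisms `Sym E(U) → Sym(ψ^*E)(U')`. -/
noncomputable def pairHom : PairHom ψ 𝒮 𝒮' where
  φ := pairGr ψ E 𝒮 j hj 𝒮' j' hj'
  res_right U hU U' hU' hle V' hV' i := by
    apply GradedRingHom.ext
    intro x
    exact congrArg (fun k => k x) (pairRing_res_right ψ E 𝒮 j hj 𝒮' j' U hU U' hU' hle V' hV' i)
  res_left U hU V hV i U' hU' hle := by
    apply GradedRingHom.ext
    intro x
    exact congrArg (fun k => k x) (pairRing_res_left ψ E 𝒮 j hj 𝒮' j' U hU V hV i U' hU' hle)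

end Res

section Pushout

include hj' in
theorem isPushout_pairRing (U : Y.Opens) (hU : IsAffineOpen U) (U' : Y'.Opens)
    (hU' : IsAffineOpen U') (hle : U' ≤ ψ ⁻¹ᵁ U) :
    IsPushout (ψ.appLE U U' hle) (𝒮.str.app (op U)) (𝒮'.str.app (op U'))
      (CommRingCat.ofHom (pairRing ψ E 𝒮 j hj 𝒮' j' U hU U' hU' hle)) := by
  have ha := liftU_bijective E 𝒮.toQCAlg j hj.1 ⟨U, hU⟩
  have hb := liftU_bijective ((Scheme.Modules.pullback ψ).obj E) 𝒮'.toQCAlg j' hj'.1 ⟨U', hU'⟩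
  have hρ := isBC_ρ ψ hU hU' hle E
  have hpo := Groth.Agent.Lib.helper28.SymBaseChange.isPushout_symMap (ψ.appLE U U' hle).hom
    (ρ ψ hle E) hρ
  let e₃ : CommRingCat.of (SymmetricAlgebra Γ(Y, U) Γ(E, U)) ≅ 𝒮.presheaf.obj (op U) :=
    (RingEquiv.ofBijective (liftU E 𝒮.toQCAlg j U) ha).toCommRingCatIso
  let e₄ : CommRingCat.of (SymmetricAlgebra Γ(Y', U') Γ((Scheme.Modules.pullback ψ).obj E, U')) ≅
      𝒮'.presheaf.obj (op U') :=
    (RingEquiv.ofBijective (liftU ((Scheme.Modules.pullback ψ).obj E) 𝒮'.toQCAlg j' U')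
      hb).toCommRingCatIso
  refine IsPushout.of_iso hpo (Iso.refl _) (Iso.refl _) e₃ e₄ ?_ ?_ ?_ ?_
  · rw [Iso.refl_hom, Iso.refl_hom, Category.comp_id, Category.id_comp]
    rfl
  · rw [Iso.refl_hom, Category.id_comp]
    ext r
    exact liftU_algebraMap E 𝒮.toQCAlg j U r
  · rw [Iso.refl_hom, Category.id_comp]
    ext r
    exact liftU_algebraMap _ 𝒮'.toQCAlg j' U' r
  · ext x
    exact (pairRing_liftU ψ E 𝒮 j hj 𝒮' j' U hU U' hU' hle x).symm

include hj hj' in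
/-- **`P(ψ^*E) = P(E) ×_Y Y'`.** -/
theorem exists_isPullback {P P' : Scheme.{u}} {p : P ⟶ Y}
    {chart : ∀ (U : Y.Opens) (hU : IsAffineOpen U),
      (((p ⁻¹ᵁ U : P.Opens) : Scheme.{u}) ≅ Proj (𝒮.deg U hU))}
    {p' : P' ⟶ Y'}
    {chart' : ∀ (U' : Y'.Opens) (hU' : IsAffineOpen U'),
      (((p' ⁻¹ᵁ U' : P'.Opens) : Scheme.{u}) ≅ Proj (𝒮'.deg U' hU'))}
    (hP : RelProj.IsRelProj 𝒮 p chart) (hP' : RelProj.IsRelProj 𝒮' p' chart') :
    ∃ g : P' ⟶ P, IsPullback g p' p ψ := by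
  obtain ⟨g, hg, -⟩ := RelProjPair.exists_isPullback (pairHom ψ E 𝒮 j hj 𝒮' j' hj')
    (isPushout_pairRing ψ E 𝒮 j hj 𝒮' j' hj') hP hP'
  exact ⟨g, hg⟩

end Pushout

end Groth.Agent.Lib.helper28.SymPair
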