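import Groth.Agent.Lib.Helper28.RelTwistPull2
import Groth.Agent.Lib.Helper28.SymPair
import Groth.Agent.Lib.Helper28.ProjBundleQuot
import Groth.Agent.Lib.Helper28.RelProjExists
import Groth.Agent.Lib.Helper28.RelTwistExists
import Groth.Agent.Lib.Helper28.SymGradedExists

/-!
# Base change of a projective bundle together with its twisting sheaves (helper28)

`exists_baseChange`: for `ψ : Y' ⟶ Y` and the projective bundle `P(E)` of a quasi-coherent `E` on
`Y` with `O(n)`, there are a projective bundle `P(ψ^*E)` with `O'(n)` and `h : P(ψ^*E) ⟶ P(E)`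
making a cartesian square over `ψ`, with `h^*O(n) ≅ O'(n)`.
-/

set_option autoImplicit false
universe u
open CategoryTheory CategoryTheory.Limits AlgebraicGeometry TopologicalSpace Opposite
open scoped HomogeneousIdeal

namespace Groth.Agent.Lib.helper28.VeryAmpleBC

theorem exists_baseChange {Y Y' P : Scheme.{u}} (ψ : Y' ⟶ Y) (E : Y.Modules) (hE : Coh.IsQCoh E)
    (𝒮 : RelProj.QCGrAlg Y) (j : E ⟶ 𝒮.toModule) (hj : RelProj.IsGrSymAlg E 𝒮 j) (p : P ⟶ Y)
    (chart : ∀ (U : Y.Opens) (hU : IsAffineOpen U),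
      (((p ⁻¹ᵁ U : P.Opens) : Scheme.{u}) ≅ Proj (𝒮.deg U hU)))
    (hP : RelProj.IsRelProj 𝒮 p chart) (n : ℤ) (On : P.Modules)
    (lam : ∀ (U : Y.Opens) (hU : IsAffineOpen U),
      On ⟶ (Scheme.Modules.pushforward (RelProj.emb p chart U hU)).obj
        (GrTwist.twist (𝒮.deg U hU) n))
    (hOn : RelProj.IsRelTwist 𝒮 p chart n On lam) :
    ∃ (_ : Coh.IsQCoh ((Scheme.Modules.pullback ψ).obj E)) (𝒮' : RelProj.QCGrAlg Y')
      (j' : (Scheme.Modules.pullback ψ).obj E ⟶ 𝒮'.toModule)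
      (_ : RelProj.IsGrSymAlg ((Scheme.Modules.pullback ψ).obj E) 𝒮' j')
      (P' : Scheme.{u}) (p' : P' ⟶ Y')
      (chart' : ∀ (U' : Y'.Opens) (hU' : IsAffineOpen U'),
        (((p' ⁻¹ᵁ U' : P'.Opens) : Scheme.{u}) ≅ Proj (𝒮'.deg U' hU')))
      (_ : RelProj.IsRelProj 𝒮' p' chart') (On' : P'.Modules)
      (lam' : ∀ (U' : Y'.Opens) (hU' : IsAffineOpen U'),
        On' ⟶ (Scheme.Modules.pushforward (RelProj.emb p' chart' U' hU')).obj
          (GrTwist.twist (𝒮'.deg U' hU') n))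
      (_ : RelProj.IsRelTwist 𝒮' p' chart' n On' lam') (h : P' ⟶ P),
      IsPullback h p' p ψ ∧ Nonempty ((Scheme.Modules.pullback h).obj On ≅ On') := by
  have hEq : E.IsQuasicoherent := hE
  have hE'q : ((Scheme.Modules.pullback ψ).obj E).IsQuasicoherent :=
    Groth.Agent.Lib.helper16.QCohPullback.isQuasicoherent_pullback ψ E
  obtain ⟨𝒮', j', hj'⟩ :=
    Groth.Agent.Lib.helper28.SymGradedExists.exists_isGrSymAlg ((Scheme.Modules.pullback ψ).obj E)
  obtain ⟨P', p', chart', hP'⟩ := Groth.Agent.Lib.helper28.RelProjExists.exists_relProj 𝒮'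
  obtain ⟨On', lam', hOn'⟩ :=
    Groth.Agent.Lib.helper28.RelTwistExists.exists_isRelTwist 𝒮' p' chart' hP' n
  obtain ⟨h, hpb, hh⟩ := Groth.Agent.Lib.helper28.RelProjPair.exists_isPullback
    (Groth.Agent.Lib.helper28.SymPair.pairHom ψ E 𝒮 j hj 𝒮' j' hj')
    (Groth.Agent.Lib.helper28.SymPair.isPushout_pairRing ψ E 𝒮 j hj 𝒮' j' hj') hP hP'
  have hgen := Groth.Agent.Lib.helper28.ProjBundleQuot.isGenDegOne_of_isGrSymAlg E 𝒮 j hj
  obtain ⟨e⟩ := Groth.Agent.Lib.helper28.RelTwistPull2.nonempty_pullback_iso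
    (Groth.Agent.Lib.helper28.RelProjPair.irrelevant_le_of_isPushout
      (Groth.Agent.Lib.helper28.SymPair.pairHom ψ E 𝒮 j hj 𝒮' j' hj')
      (Groth.Agent.Lib.helper28.SymPair.isPushout_pairRing ψ E 𝒮 j hj 𝒮' j' hj'))
    lam lam' hgen hP hP' hOn hOn' hh
  exact ⟨hE'q, 𝒮', j', hj', P', p', chart', hP', On', lam', hOn', h, hpb, ⟨e⟩⟩

end Groth.Agent.Lib.helper28.VeryAmpleBC
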