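import Groth.Agent.Lib.Helper28.ProjBundleClosed
import Groth.Agent.Lib.Helper28.ProjBundleOfProj
import Groth.Agent.Lib.Helper28.VeryAmpleBC
import Groth.Agent.Lib.Helper16.QCohPullback2

/-!
# Permanence properties of projective morphisms (helper28; EGA II 5.5.5)

* `isProjective_iff`: projective iff a closed subscheme of some `P(E)`, `E` quasi-coherent of
  finite type.
* `isProjective_closedImmersion_comp`: a closed immersion followed by a projective morphism.
* `isProjective_baseChange`: projective morphisms are stable under base change.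
* `isProjective_of_comp`: if `f ≫ g` is projective and `g` is separated then `f` is projective.
-/

set_option autoImplicit false
universe u

open CategoryTheory CategoryTheory.Limits AlgebraicGeometry TopologicalSpace Opposite
open scoped HomogeneousIdeal

namespace Groth.Agent.Lib.helper28.ProjectiveProps

open Groth.Agent.Lib.helper28

/-- The closed-immersion-into-`P(E)` form of projectivity. -/
def IsProjEmb {X Y : Scheme.{u}} (f : X ⟶ Y) : Prop :=
  ∃ (E : Y.Modules) (𝒯 : RelProj.QCGrAlg Y) (j : E ⟶ 𝒯.toModule) (P : Scheme.{u}) (p : P ⟶ Y)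
    (chart : ∀ (U : Y.Opens) (hU : IsAffineOpen U),
      ((p ⁻¹ᵁ U : P.Opens) : Scheme.{u}) ≅ Proj (𝒯.deg U hU))
    (i : X ⟶ P),
    Coh.IsQCoh E ∧ CohB1.IsFT E ∧ RelProj.IsGrSymAlg E 𝒯 j ∧ RelProj.IsRelProj 𝒯 p chart ∧
      IsClosedImmersion i ∧ i ≫ p = f

theorem isProjective_iff {X Y : Scheme.{u}} (f : X ⟶ Y) :
    RelProj.IsProjective f ↔ IsProjEmb f := by
  constructor
  · rintro ⟨𝒮, P, p, chart, e, hgen, hft, hP, he⟩
    obtain ⟨E, 𝒯, j, P', p', chart', h, hq, hE, hj, hP', hcl, hover⟩ :=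
      ProjBundleOfProj.exists_closedImmersion 𝒮 hgen hft p chart hP
    refine ⟨E, 𝒯, j, P', p', chart', e.hom ≫ h, hq, hE, hj, hP', inferInstance, ?_⟩
    rw [Category.assoc, hover, he]
  · rintro ⟨E, 𝒯, j, P, p, chart, i, hq, hE, hj, hP, hcl, rfl⟩
    have : E.IsQuasicoherent := hq
    exact ProjBundleClosed.isProjective_of_isClosedImmersion E hE 𝒯 j hj p chart hP i

theorem isProjective_closedImmersion_comp {W X Y : Scheme.{u}} (k : W ⟶ X) [IsClosedImmersion k]
    (f : X ⟶ Y) (hf : RelProj.IsProjective f) : RelProj.IsProjective (k ≫ f) := by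
  obtain ⟨E, 𝒯, j, P, p, chart, i, hq, hE, hj, hP, hcl, rfl⟩ := (isProjective_iff f).mp hf
  refine (isProjective_iff _).mpr ⟨E, 𝒯, j, P, p, chart, k ≫ i, hq, hE, hj, hP, inferInstance, ?_⟩
  rw [Category.assoc]

/-- Base change of the embedding data along `g`. -/
theorem exists_baseChange {Y Y' P : Scheme.{u}} (g : Y' ⟶ Y) (E : Y.Modules) (hq : Coh.IsQCoh E)
    (hE : CohB1.IsFT E) (𝒯 : RelProj.QCGrAlg Y) (j : E ⟶ 𝒯.toModule)
    (hj : RelProj.IsGrSymAlg E 𝒯 j) (p : P ⟶ Y)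
    (chart : ∀ (U : Y.Opens) (hU : IsAffineOpen U),
      ((p ⁻¹ᵁ U : P.Opens) : Scheme.{u}) ≅ Proj (𝒯.deg U hU))
    (hP : RelProj.IsRelProj 𝒯 p chart) :
    ∃ (E' : Y'.Modules) (𝒯' : RelProj.QCGrAlg Y') (j' : E' ⟶ 𝒯'.toModule) (P' : Scheme.{u})
      (p' : P' ⟶ Y')
      (chart' : ∀ (U : Y'.Opens) (hU : IsAffineOpen U),
        ((p' ⁻¹ᵁ U : P'.Opens) : Scheme.{u}) ≅ Proj (𝒯'.deg U hU))
      (h : P' ⟶ P),
      Coh.IsQCoh E' ∧ CohB1.IsFT E' ∧ RelProj.IsGrSymAlg E' 𝒯' j' ∧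
        RelProj.IsRelProj 𝒯' p' chart' ∧ IsPullback h p' p g := by
  have : E.IsQuasicoherent := hq
  obtain ⟨O1, lam, hO1⟩ := RelTwistExists.exists_isRelTwist 𝒯 p chart hP 1
  obtain ⟨hq', 𝒯', j', hj', P', p', chart', hP', -, -, -, h, hpb, -⟩ :=
    VeryAmpleBC.exists_baseChange g E hq 𝒯 j hj p chart hP 1 O1 lam hO1
  exact ⟨_, 𝒯', j', P', p', chart', h, hq',
    Groth.Agent.Lib.helper16.QCohPullback2.isFiniteType_pullback g E hE, hj', hP', hpb⟩

theorem isProjective_of_isPullback {X Y X' Y' : Scheme.{u}} {f : X ⟶ Y} {g : Y' ⟶ Y}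
    {g' : X' ⟶ X} {f' : X' ⟶ Y'} (hsq : IsPullback g' f' f g) (hf : RelProj.IsProjective f) :
    RelProj.IsProjective f' := by
  obtain ⟨E, 𝒯, j, P, p, chart, i, hq, hE, hj, hP, hcl, rfl⟩ := (isProjective_iff f).mp hf
  obtain ⟨E', 𝒯', j', P', p', chart', h, hq', hE', hj', hP', hpb⟩ :=
    exists_baseChange g E hq hE 𝒯 j hj p chart hP
  have hw : (g' ≫ i) ≫ p = f' ≫ g := by rw [Category.assoc, hsq.w]
  have htop : IsPullback g' (hpb.lift (g' ≫ i) f' hw) i h := by
    refine IsPullback.of_bot ?_ (hpb.lift_fst _ _ _).symm hpb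
    rw [hpb.lift_snd]
    exact hsq
  have hcl' : IsClosedImmersion (hpb.lift (g' ≫ i) f' hw) :=
    MorphismProperty.of_isPullback (P := @IsClosedImmersion) htop hcl
  refine (isProjective_iff _).mpr ⟨E', 𝒯', j', P', p', chart', hpb.lift (g' ≫ i) f' hw, hq', hE',
    hj', hP', hcl', hpb.lift_snd _ _ _⟩

theorem isProjective_baseChange {X Y Y' : Scheme.{u}} (f : X ⟶ Y) (hf : RelProj.IsProjective f)
    (g : Y' ⟶ Y) : RelProj.IsProjective (pullback.snd f g) :=
  isProjective_of_isPullback (IsPullback.of_hasPullback f g) hf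

theorem isProjective_of_comp {X Y Z : Scheme.{u}} (f : X ⟶ Y) (g : Y ⟶ Z) [IsSeparated g]
    (h : RelProj.IsProjective (f ≫ g)) : RelProj.IsProjective f := by
  obtain ⟨E, 𝒯, j, P, p, chart, i, hq, hE, hj, hP, hcl, hip⟩ := (isProjective_iff _).mp h
  obtain ⟨E', 𝒯', j', P', p', chart', k, hq', hE', hj', hP', hpb⟩ :=
    exists_baseChange g E hq hE 𝒯 j hj p chart hP
  have hsepk : IsSeparated k := MorphismProperty.of_isPullback (P := @IsSeparated) hpb.flip
    inferInstance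
  have hcl' : IsClosedImmersion (hpb.lift i f hip) := by
    have : IsClosedImmersion (hpb.lift i f hip ≫ k) := by
      rw [hpb.lift_fst]
      exact hcl
    exact IsClosedImmersion.of_comp _ k
  exact (isProjective_iff _).mpr ⟨E', 𝒯', j', P', p', chart', hpb.lift i f hip, hq', hE', hj', hP',
    hcl', hpb.lift_snd _ _ _⟩

end Groth.Agent.Lib.helper28.ProjectiveProps
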