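import Groth.Agent.Lib.Helper28.ProjBundleEpi
import Groth.Agent.Lib.Helper28.ProjBundleQuot
import Groth.Agent.Lib.Helper16.CohFinite

/-!
# The projective bundle of a module of finite type (helper28)

`E` quasi-coherent of finite type on `Y`, `(𝒯, j)` its graded symmetric algebra.
* `exists_finset_span`: finitely many generators of `E(U)`, `U` affine.
* `isFTDeg_one`: `𝒯_1` is of finite type.
* `isCompact_preimage`, `quasiCompact`: `P(E) ⟶ Y` is quasi-compact.
-/

set_option autoImplicit false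
universe u

open CategoryTheory CategoryTheory.Limits AlgebraicGeometry TopologicalSpace Opposite
open scoped HomogeneousIdeal

namespace Groth.Agent.Lib.helper28.ProjBundleFT

open Groth.Agent.Lib.helper28.RelTwistChart Groth.Agent.Lib.helper28.ProjBundleEpi

variable {Y P : Scheme.{u}} (E : Y.Modules) [E.IsQuasicoherent]
  (𝒯 : RelProj.QCGrAlg Y) (j : E ⟶ 𝒯.toModule) (hj : RelProj.IsGrSymAlg E 𝒯 j)
  (hE : CohB1.IsFT E)

include hE in
theorem exists_finset_span (U : Y.Opens) (hU : IsAffineOpen U) :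
    ∃ S : Finset Γ(E, U), ∀ e : Γ(E, U), ∃ c : Γ(E, U) → Γ(Y, U), e = ∑ s ∈ S, c s • s := by
  classical
  have hfin : Module.Finite Γ(Y, U) Γ(E, U) :=
    Groth.Agent.Lib.helper16.CohFinite.finite_sections_of_isFiniteType E hE hU
  obtain ⟨S, hS⟩ := hfin.fg_top
  refine ⟨S, fun e => ?_⟩
  have he : e ∈ Submodule.span Γ(Y, U) (S : Set Γ(E, U)) := by
    rw [hS]
    trivial
  obtain ⟨c, hc⟩ := Submodule.mem_span_finset'.mp he
  refine ⟨fun s => if hs : s ∈ S then c ⟨s, hs⟩ else 0, ?_⟩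
  rw [← hc, ← Finset.sum_attach S (fun s => (if hs : s ∈ S then c ⟨s, hs⟩ else 0) • s)]
  refine Finset.sum_congr rfl fun s _ => ?_
  rw [dif_pos s.2]

omit [E.IsQuasicoherent] in
theorem j_sum_smul (U : Y.Opens) (S : Finset Γ(E, U)) (c : Γ(E, U) → Γ(Y, U)) :
    jE E 𝒯 j U (∑ s ∈ S, c s • s) =
      ∑ s ∈ S, (𝒯.str.app (op U)).hom (c s) * jE E 𝒯 j U s := by
  change (j.app U).hom (∑ s ∈ S, c s • s) = _
  rw [map_sum]
  refine Finset.sum_congr rfl fun s _ => ?_
  exact Scheme.Modules.Hom.app_smul j (c s) s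

include hj hE in
theorem isFTDeg_one : 𝒯.IsFTDeg 1 := by
  classical
  intro U hU
  obtain ⟨S, hS⟩ := exists_finset_span E hE U hU
  refine ⟨S.image (jE E 𝒯 j U), ?_, ?_⟩
  · intro y hy
    obtain ⟨s, -, rfl⟩ := Finset.mem_image.mp (Finset.mem_coe.mp hy)
    exact hj.2 U hU s
  · intro x hx
    obtain ⟨e, rfl⟩ := Groth.Agent.Lib.helper28.ProjBundleQuot.exists_of_mem_deg_one E 𝒯 j hj U hU
      x hx
    obtain ⟨c, hc⟩ := hS e
    refine ⟨fun y => ∑ s ∈ S.filter (fun s => jE E 𝒯 j U s = y), c s, ?_⟩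
    change jE E 𝒯 j U e = _
    rw [hc, j_sum_smul]
    symm
    refine Finset.sum_image' (fun s => (𝒯.str.app (op U)).hom (c s) * jE E 𝒯 j U s) ?_
    intro s hs
    rw [map_sum, Finset.sum_mul]
    refine Finset.sum_congr ?_ ?_
    · ext s'
      exact Iff.rfl
    · intro s' hs'
      have h2 : jE E 𝒯 j U s' = jE E 𝒯 j U s := (Finset.mem_filter.mp hs').2
      rw [h2]

variable (p : P ⟶ Y)
  (chart : ∀ (U : Y.Opens) (hU : IsAffineOpen U),
    ((p ⁻¹ᵁ U : P.Opens) : Scheme.{u}) ≅ Proj (𝒯.deg U hU))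

include hj hE in
theorem compactSpace_proj (U : Y.Opens) (hU : IsAffineOpen U) :
    CompactSpace (Proj (𝒯.deg U hU)) := by
  classical
  obtain ⟨S, hS⟩ := exists_finset_span E hE U hU
  rw [← isCompact_univ_iff]
  have hcov : (Set.univ : Set (Proj (𝒯.deg U hU))) =
      ⋃ s ∈ S, (Proj.basicOpen (𝒯.deg U hU) (jE E 𝒯 j U s) : Set (Proj (𝒯.deg U hU))) := by
    refine (Set.eq_univ_of_forall fun y => ?_).symm
    obtain ⟨e, he⟩ := exists_notMem E 𝒯 j hj U hU y
    obtain ⟨c, hc⟩ := hS e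
    by_contra hcon
    apply he
    change jE E 𝒯 j U e ∈ y.asHomogeneousIdeal
    rw [hc, j_sum_smul]
    refine Ideal.sum_mem _ fun s hs => Ideal.mul_mem_left _ _ ?_
    by_contra hsy
    exact hcon (Set.mem_iUnion₂.mpr ⟨s, hs, (ProjectiveSpectrum.mem_basicOpen _ _ _).mpr hsy⟩)
  rw [hcov]
  refine S.isCompact_biUnion fun s _ => ?_
  exact (Proj.isAffineOpen_basicOpen (𝒯.deg U hU) (jE E 𝒯 j U s) (hj.2 U hU s)
    one_pos).isCompact

include hj hE chart in
theorem isCompact_preimage (U : Y.Opens) (hU : IsAffineOpen U) :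
    IsCompact ((p ⁻¹ᵁ U : P.Opens) : Set P) := by
  have := compactSpace_proj E 𝒯 j hj hE U hU
  rw [← range_emb p chart U hU]
  exact isCompact_range (RelProj.emb p chart U hU).continuous

include hj hE chart in
theorem quasiCompact : QuasiCompact p :=
  quasiCompact_iff_forall_isAffineOpen.mpr fun U hU => isCompact_preimage E 𝒯 j hj hE p chart U hU

end Groth.Agent.Lib.helper28.ProjBundleFT
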