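import Groth.Agent.Lib.Helper28.ProjQGlue

/-!
# `Proj(u)` on `G(u)`: the part over an affine pair, preimages of standard opens, affineness
(helper28)

* ring level: `mem_domOpen_of_map_mem`, `map_mem_domOpen` (`G(u)` and restriction to basic opens),
  `awayι_mem_basicOpen_of_map`.
* `domQ_inf_preimage`: `G(u) ⊓ p'⁻¹(U') = emb '' G(u_{U,U'})` for every affine pair.
* `preimage_chart`: `v⁻¹(emb '' D₊(f)) ⊓ (over U') = ` the standard chart `Spec 𝒮'(U')_(u f)`.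
* same base: `ofHom_gradedAt_self`, `domQ_inf_preimage_ofHom`, `isAffineHom_of_chart_eq`.
-/

set_option autoImplicit false
universe u

namespace Groth.Agent.Lib.helper28.ProjQGlue

open CategoryTheory CategoryTheory.Limits AlgebraicGeometry TopologicalSpace Opposite
open HomogeneousLocalization
open scoped HomogeneousIdeal
open Groth.Agent.Lib.helper28.RelSpecMap Groth.Agent.Lib.helper28.RelTwistChart
open Groth.Agent.Lib.helper28.RelProjPair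

section Ring

variable {A₁ A₂ B₁ B₂ σ₁ σ₂ τ₁ τ₂ : Type u}
  [CommRing A₁] [SetLike σ₁ A₁] [AddSubgroupClass σ₁ A₁]
  [CommRing A₂] [SetLike σ₂ A₂] [AddSubgroupClass σ₂ A₂]
  [CommRing B₁] [SetLike τ₁ B₁] [AddSubgroupClass τ₁ B₁]
  [CommRing B₂] [SetLike τ₂ B₂] [AddSubgroupClass τ₂ B₂]
  {𝒜₁ : ℕ → σ₁} {𝒜₂ : ℕ → σ₂} {ℬ₁ : ℕ → τ₁} {ℬ₂ : ℕ → τ₂}
  [GradedRing 𝒜₁] [GradedRing 𝒜₂] [GradedRing ℬ₁] [GradedRing ℬ₂]

/-- `G(u)` pulls back along restriction (downwards). -/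
theorem mem_domOpen_of_map_mem (r : 𝒜₁ →+*ᵍ 𝒜₂) (r' : ℬ₁ →+*ᵍ ℬ₂) (hr' : ℬ₂₊ ≤ ℬ₁₊.map r')
    (u₁ : 𝒜₁ →+*ᵍ ℬ₁) (u₂ : 𝒜₂ →+*ᵍ ℬ₂) (hcomp : ∀ a, r' (u₁ a) = u₂ (r a)) (y : Proj ℬ₂)
    (h : (Proj.map r' hr').base y ∈ RelCone.domOpen u₁) : y ∈ RelCone.domOpen u₂ := by
  obtain ⟨d, hd, f, hf, hfy⟩ := exists_homogeneous_of_mem_domOpen u₁ _ h
  refine (RelCone.mem_domOpen u₂ y).mpr ⟨r f, HomogeneousIdeal.mem_irrelevant_of_mem _ hd
    (r.map_mem hf), ?_⟩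
  rw [← hcomp]
  exact hfy

/-- `G(u)` pushes forward along restriction to a basic open (upwards). -/
theorem map_mem_domOpen (r : 𝒜₁ →+*ᵍ 𝒜₂) (hr : 𝒜₂₊ ≤ 𝒜₁₊.map r) (r' : ℬ₁ →+*ᵍ ℬ₂)
    (hr' : ℬ₂₊ ≤ ℬ₁₊.map r') (u₁ : 𝒜₁ →+*ᵍ ℬ₁) (u₂ : 𝒜₂ →+*ᵍ ℬ₂)
    (hcomp : ∀ a, r' (u₁ a) = u₂ (r a)) (y : Proj ℬ₂) (h : y ∈ RelCone.domOpen u₂) :
    (Proj.map r' hr').base y ∈ RelCone.domOpen u₁ := by
  obtain ⟨f₂, hf₂, hfy⟩ := (RelCone.mem_domOpen u₂ y).mp h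
  rw [RelCone.mem_domOpen]
  by_contra hcon
  apply hfy
  have h1 : 𝒜₁₊ ≤ (y.asHomogeneousIdeal.comap u₂).comap r := fun f hf => by
    change u₂ (r f) ∈ y.asHomogeneousIdeal
    rw [← hcomp]
    by_contra hn
    exact hcon ⟨f, hf, hn⟩
  have h2 := (HomogeneousIdeal.map_le_iff_le_comap r).mpr h1
  exact (hr.trans h2) hf₂

end Ring

section Geom

variable {S S' : Scheme.{u}} {g : S' ⟶ S} {𝒮 : RelProj.QCGrAlg S} {𝒮' : RelProj.QCGrAlg S'}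
  (u : RelProj.QGrHom g 𝒮 𝒮')
  {P : Scheme.{u}} {p : P ⟶ S}
  {chart : ∀ (U : S.Opens) (hU : IsAffineOpen U),
    (((p ⁻¹ᵁ U : P.Opens) : Scheme.{u}) ≅ Proj (𝒮.deg U hU))}
  {P' : Scheme.{u}} {p' : P' ⟶ S'}
  {chart' : ∀ (U' : S'.Opens) (hU' : IsAffineOpen U'),
    (((p' ⁻¹ᵁ U' : P'.Opens) : Scheme.{u}) ≅ Proj (𝒮'.deg U' hU'))}

/-- **The part of `G(u)` over an affine pair** is the ring-level open `G(u_{U,U'})`. -/
theorem domQ_inf_preimage (hP' : RelProj.IsRelProj 𝒮' p' chart') (U : S.Opens)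
    (hU : IsAffineOpen U) (U' : S'.Opens) (hU' : IsAffineOpen U') (hle : U' ≤ g ⁻¹ᵁ U) :
    RelProj.domQ u p' chart' ⊓ p' ⁻¹ᵁ U' =
      (RelProj.emb p' chart' U' hU') ''ᵁ RelCone.domOpen (u.gradedAt U hU U' hU' hle) := by
  apply le_antisymm
  · rintro X ⟨hXd, hXU⟩
    obtain ⟨V, hV⟩ := Opens.mem_iSup.mp hXd
    obtain ⟨y, hy, hyX⟩ := hV
    have hXV : p'.base X ∈ (V.1.2 : S'.Opens) := by
      have : X ∈ Set.range (RelProj.emb p' chart' V.1.2.1 V.1.2.2).base := ⟨y, hyX⟩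
      rw [range_emb] at this
      exact this
    have hXU' : p'.base X ∈ U' := hXU
    obtain ⟨W, hW₁, hW₂, hyW, -⟩ := exists_common_basic (X := S) ⟨U, hU⟩ ⟨V.1.1.1, V.1.1.2⟩ ⊤
      (g.base (p'.base X)) (hle hXU') (V.2 hXV) trivial
    obtain ⟨W', hW'₁, hW'₂, hyW', hW'le⟩ := exists_common_basic (X := S') ⟨U', hU'⟩
      ⟨V.1.2.1, V.1.2.2⟩ (g ⁻¹ᵁ W.1) (p'.base X) hXU' hXV hyW
    obtain ⟨r₁, hr₁⟩ := hW₁
    obtain ⟨r₂, hr₂⟩ := hW₂
    obtain ⟨r'₁, hr'₁⟩ := hW'₁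
    obtain ⟨r'₂, hr'₂⟩ := hW'₂
    have i₁ : W.1 ≤ U := (le_of_eq hr₁.symm).trans (S.basicOpen_le r₁)
    have i₂ : W.1 ≤ V.1.1.1 := (le_of_eq hr₂.symm).trans (S.basicOpen_le r₂)
    have i'₁ : W'.1 ≤ U' := (le_of_eq hr'₁.symm).trans (S'.basicOpen_le r'₁)
    have i'₂ : W'.1 ≤ V.1.2.1 := (le_of_eq hr'₂.symm).trans (S'.basicOpen_le r'₂)
    have hXW : X ∈ Set.range (RelProj.emb p' chart' W'.1 W'.2).base := by
      rw [range_emb]
      exact hyW'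
    obtain ⟨yW, hyWX⟩ := hXW
    have hirr₁ := irrelevant_le_map' (𝒮 := 𝒮) hU W.2 r₁ hr₁ i₁
    have hirr'₁ := irrelevant_le_map' (𝒮 := 𝒮') hU' W'.2 r'₁ hr'₁ i'₁
    have hirr'₂ := irrelevant_le_map' (𝒮 := 𝒮') V.1.2.2 W'.2 r'₂ hr'₂ i'₂
    -- downwards
    have h1 := emb_map_res_apply hP' V.1.2.2 W'.2 r'₂ hr'₂ i'₂ hirr'₂ yW
    rw [hyWX, ← hyX] at h1
    have h2 : (Proj.map (𝒮'.res V.1.2.2 W'.2 i'₂) hirr'₂).base yW = y :=
      (RelProj.emb p' chart' V.1.2.1 V.1.2.2).isOpenEmbedding.injective h1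
    have h3 : yW ∈ RelCone.domOpen (u.gradedAt W.1 W.2 W'.1 W'.2 hW'le) := by
      refine mem_domOpen_of_map_mem (𝒮.res V.1.1.2 W.2 i₂) (𝒮'.res V.1.2.2 W'.2 i'₂) hirr'₂
        (u.gradedAt V.1.1.1 V.1.1.2 V.1.2.1 V.1.2.2 V.2) _
        (gradedAt_comp u _ _ V.1.1.2 W.2 i₂ _ _ V.1.2.2 W'.2 i'₂ V.2 hW'le) yW ?_
      rw [h2]
      exact hy
    -- upwards
    have h4 := map_mem_domOpen (𝒮.res hU W.2 i₁) hirr₁ (𝒮'.res hU' W'.2 i'₁) hirr'₁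
      (u.gradedAt U hU U' hU' hle) _
      (gradedAt_comp u _ _ hU W.2 i₁ _ _ hU' W'.2 i'₁ hle hW'le) yW h3
    exact ⟨_, h4, (emb_map_res_apply hP' hU' W'.2 r'₁ hr'₁ i'₁ hirr'₁ yW).trans hyWX⟩
  · rintro _ ⟨y, hy, rfl⟩
    refine ⟨Opens.mem_iSup.mpr ⟨⟨(⟨U, hU⟩, ⟨U', hU'⟩), hle⟩, ⟨y, hy, rfl⟩⟩, ?_⟩
    have : (RelProj.emb p' chart' U' hU').base y ∈
        Set.range (RelProj.emb p' chart' U' hU').base := ⟨y, rfl⟩
    rw [range_emb] at this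
    exact this

theorem tgt_apply (U : S.Opens) (hU : IsAffineOpen U) (U' : S'.Opens) (hU' : IsAffineOpen U')
    (hle : U' ≤ g ⁻¹ᵁ U) {d : ℕ} (hd : 0 < d) (f : 𝒮.presheaf.obj (op U))
    (hf : f ∈ 𝒮.deg U hU d)
    (w : Spec (CommRingCat.of (Away (𝒮'.deg U' hU') (u.gradedAt U hU U' hU' hle f)))) :
    (tgt u p chart U hU U' hU' hle hd f hf).base w =
      (RelProj.emb p chart U hU).base ((Proj.awayι (𝒮.deg U hU) f hf hd).base
        ((Spec.map (CommRingCat.ofHom (Away.map (u.gradedAt U hU U' hU' hle) f))).base w)) := by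
  unfold tgt
  rw [Scheme.Hom.comp_apply, Scheme.Hom.comp_apply]

theorem awayEmb_apply (U : S.Opens) (hU : IsAffineOpen U) (U' : S'.Opens) (hU' : IsAffineOpen U')
    (hle : U' ≤ g ⁻¹ᵁ U) {d : ℕ} (hd : 0 < d) (f : 𝒮.presheaf.obj (op U))
    (hf : f ∈ 𝒮.deg U hU d)
    (w : Spec (CommRingCat.of (Away (𝒮'.deg U' hU') (u.gradedAt U hU U' hU' hle f)))) :
    (RelProj.awayEmb u p' chart' U hU U' hU' hle hd f hf).base w =
      (RelProj.emb p' chart' U' hU').base ((Proj.awayι (𝒮'.deg U' hU')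
        (u.gradedAt U hU U' hU' hle f) ((u.gradedAt U hU U' hU' hle).map_mem hf) hd).base w) := by
  unfold RelProj.awayEmb
  rw [Scheme.Hom.comp_apply]

/-- Ring level: if the image of `w ∈ Spec B_(ψ x)` in `Proj 𝒜` (through `Spec A_(x)`) lies in
`D₊(f)`, then the image of `w` in `Proj ℬ` lies in `D₊(ψ f)`. -/
theorem awayι_mem_basicOpen_of_map {A B σ τ : Type u} [CommRing A] [SetLike σ A]
    [AddSubgroupClass σ A] [CommRing B] [SetLike τ B] [AddSubgroupClass τ B]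
    {𝒜 : ℕ → σ} {ℬ : ℕ → τ} [GradedRing 𝒜] [GradedRing ℬ] (ψ : 𝒜 →+*ᵍ ℬ)
    {k d : ℕ} (hk : 0 < k) (hd : 0 < d) {x f : A} (hx : x ∈ 𝒜 k) (hf : f ∈ 𝒜 d)
    (w : Spec (CommRingCat.of (Away ℬ (ψ x))))
    (h : (Proj.awayι 𝒜 x hx hk).base ((Spec.map (CommRingCat.ofHom (Away.map ψ x))).base w) ∈
      Proj.basicOpen 𝒜 f) :
    (Proj.awayι ℬ (ψ x) (ψ.map_mem hx) hk).base w ∈ Proj.basicOpen ℬ (ψ f) := by
  have hz : (Spec.map (CommRingCat.ofHom (Away.map ψ x))).base w ∈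
      Proj.awayι 𝒜 x hx hk ⁻¹ᵁ Proj.basicOpen 𝒜 f := h
  rw [Proj.awayι_preimage_basicOpen 𝒜 hx hk hf hd] at hz
  have hz2 : Away.map ψ x (Away.isLocalizationElem hx hf) ∉ w.asIdeal := hz
  rw [Groth.Agent.Lib.Lead.ProjChart.map_isLocalizationElem] at hz2
  have key : Proj.awayι ℬ (ψ x) (ψ.map_mem hx) hk ⁻¹ᵁ Proj.basicOpen ℬ (ψ f) =
      PrimeSpectrum.basicOpen (Away.isLocalizationElem (ψ.map_mem hx) (ψ.map_mem hf)) :=
    Proj.awayι_preimage_basicOpen ℬ (ψ.map_mem hx) hk (ψ.map_mem hf) hd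
  have hz' : w ∈ Proj.awayι ℬ (ψ x) (ψ.map_mem hx) hk ⁻¹ᵁ Proj.basicOpen ℬ (ψ f) := by
    rw [key]
    exact hz2
  exact hz'

/-- **Preimage of a standard open of `P` under `Proj(u)`**, over `U'`: it is the standard chart. -/
theorem preimage_chart (hP : RelProj.IsRelProj 𝒮 p chart) (hP' : RelProj.IsRelProj 𝒮' p' chart')
    (v : ((RelProj.domQ u p' chart' : P'.Opens) : Scheme.{u}) ⟶ P)
    (hv : ∀ (U : S.Opens) (hU : IsAffineOpen U) (U' : S'.Opens) (hU' : IsAffineOpen U')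
      (hle : U' ≤ g ⁻¹ᵁ U) (d : ℕ) (hd : 0 < d) (f : 𝒮.presheaf.obj (op U))
      (hf : f ∈ 𝒮.deg U hU d),
      stdChart u p' chart' U hU U' hU' hle hd f hf ≫ v = tgt u p chart U hU U' hU' hle hd f hf)
    (U : S.Opens) (hU : IsAffineOpen U) (U' : S'.Opens) (hU' : IsAffineOpen U')
    (hle : U' ≤ g ⁻¹ᵁ U) {d : ℕ} (hd : 0 < d) (f : 𝒮.presheaf.obj (op U))
    (hf : f ∈ 𝒮.deg U hU d) :
    v ⁻¹ᵁ (Proj.awayι (𝒮.deg U hU) f hf hd ≫ RelProj.emb p chart U hU).opensRange ⊓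
        (RelProj.domQ u p' chart').ι ⁻¹ᵁ (p' ⁻¹ᵁ U') =
      (stdChart u p' chart' U hU U' hU' hle hd f hf).opensRange := by
  apply le_antisymm
  · rintro z ⟨hz1, hz2⟩
    obtain ⟨i, w, hw⟩ := exists_mem_range_stdChart u p' chart' z
    set X : P' := (RelProj.domQ u p' chart').ι.base z with hXdef
    have hXi : X ∈ Set.range
        (RelProj.awayEmb u p' chart' i.Q.U i.Q.hU i.Q.U' i.Q.hU' i.Q.hle i.hd i.f i.hf).base := by
      refine ⟨w, ?_⟩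
      rw [hXdef, ← hw, ← stdChart_ι, Scheme.Hom.comp_apply]
    have hXV : p'.base X ∈ i.Q.U' := by
      obtain ⟨y, hy, -⟩ := (mem_range_awayEmb_iff u p' chart' _ _ _ _ _ i.hd i.f i.hf X).mp hXi
      have : X ∈ Set.range (RelProj.emb p' chart' i.Q.U' i.Q.hU').base := ⟨y, hy⟩
      rw [range_emb] at this
      exact this
    have hXU' : p'.base X ∈ U' := hz2
    obtain ⟨W, hW₁, hW₂, hyW, -⟩ := exists_common_basic (X := S) ⟨U, hU⟩ ⟨i.Q.U, i.Q.hU⟩ ⊤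
      (g.base (p'.base X)) (hle hXU') (i.Q.hle hXV) trivial
    obtain ⟨W', hW'₁, hW'₂, hyW', hW'le⟩ := exists_common_basic (X := S') ⟨U', hU'⟩
      ⟨i.Q.U', i.Q.hU'⟩ (g ⁻¹ᵁ W.1) (p'.base X) hXU' hXV hyW
    obtain ⟨r₁, hr₁⟩ := hW₁
    obtain ⟨r₂, hr₂⟩ := hW₂
    obtain ⟨r'₁, hr'₁⟩ := hW'₁
    obtain ⟨r'₂, hr'₂⟩ := hW'₂
    have i₁ : W.1 ≤ U := (le_of_eq hr₁.symm).trans (S.basicOpen_le r₁)
    have i₂ : W.1 ≤ i.Q.U := (le_of_eq hr₂.symm).trans (S.basicOpen_le r₂)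
    have i'₁ : W'.1 ≤ U' := (le_of_eq hr'₁.symm).trans (S'.basicOpen_le r'₁)
    have i'₂ : W'.1 ≤ i.Q.U' := (le_of_eq hr'₂.symm).trans (S'.basicOpen_le r'₂)
    have hirr₁ := irrelevant_le_map' (𝒮 := 𝒮) hU W.2 r₁ hr₁ i₁
    have hirr'₁ := irrelevant_le_map' (𝒮 := 𝒮') hU' W'.2 r'₁ hr'₁ i'₁
    -- refine the chart `i` to `(W, W')`, with the element `x₀ = f_i|_W`
    have hm : 𝒮.res i.Q.hU W.2 i₂ i.f ∈ 𝒮.deg W.1 W.2 i.d := (𝒮.res i.Q.hU W.2 i₂).map_mem i.hf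
    have hone : (1 : 𝒮.presheaf.obj (op W.1)) ∈ 𝒮.deg W.1 W.2 0 := SetLike.GradedOne.one_mem
    obtain ⟨a, ha1, ha2⟩ := exists_refine u hP hP' i.Q.hU W.2 r₂ hr₂ i₂ i.Q.hU' W'.2 r'₂ hr'₂ i'₂
      i.Q.hle hW'le i.hd i.hf hone (mul_one _).symm i.hd hm
    have hXW : X ∈ Set.range (RelProj.emb p' chart' W'.1 W'.2).base := by
      rw [range_emb]
      exact hyW'
    obtain ⟨yW, hyWX⟩ := hXW
    have n₁ := exists_point_refine u hP' i.Q.hU W.2 i₂ i.Q.hU' W'.2 r'₂ hr'₂ i'₂ i.Q.hle hW'le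
      i.hd i.hf X hXi yW hyWX
    have hXr : X ∈ Set.range
        (RelProj.awayEmb u p' chart' W.1 W.2 W'.1 W'.2 hW'le i.hd _ hm).base :=
      (mem_range_awayEmb_iff u p' chart' _ _ _ _ _ i.hd _ hm X).mpr ⟨yW, hyWX, n₁⟩
    obtain ⟨w₀, hw₀⟩ := hXr
    have hzw : (stdChart u p' chart' W.1 W.2 W'.1 W'.2 hW'le i.hd _ hm).base w₀ = z := by
      apply (RelProj.domQ u p' chart').ι.isOpenEmbedding.injective
      rw [← Scheme.Hom.comp_apply, stdChart_ι]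
      exact hw₀
    have hvz : v.base z = (tgt u p chart W.1 W.2 W'.1 W'.2 hW'le i.hd _ hm).base w₀ := by
      rw [← hv, Scheme.Hom.comp_apply, hzw]
    -- the point of `Proj 𝒮(W)`
    set q := (Spec.map (CommRingCat.ofHom
      (Away.map (u.gradedAt W.1 W.2 W'.1 W'.2 hW'le) (𝒮.res i.Q.hU W.2 i₂ i.f)))).base w₀ with hq
    set yA := (Proj.awayι (𝒮.deg W.1 W.2) (𝒮.res i.Q.hU W.2 i₂ i.f) hm i.hd).base q with hyA
    have hvz' : v.base z = (RelProj.emb p chart W.1 W.2).base yA := by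
      rw [hvz, tgt_apply]
    obtain ⟨s, hs⟩ := hz1
    have hs' : (RelProj.emb p chart U hU).base ((Proj.awayι (𝒮.deg U hU) f hf hd).base s) =
        (RelProj.emb p chart U hU).base ((Proj.map (𝒮.res hU W.2 i₁) hirr₁).base yA) := by
      rw [← Scheme.Hom.comp_apply, hs, hvz', ← Scheme.Hom.comp_apply (Proj.map _ _),
        map_res_emb' hP hU W.2 r₁ hr₁ i₁ hirr₁]
    have hs'' := (RelProj.emb p chart U hU).isOpenEmbedding.injective hs'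
    have hyAf : yA ∈ Proj.basicOpen (𝒮.deg W.1 W.2) (𝒮.res hU W.2 i₁ f) := by
      have h5 : (Proj.awayι (𝒮.deg U hU) f hf hd).base s ∈ Proj.basicOpen (𝒮.deg U hU) f :=
        (Proj.opensRange_awayι (𝒮.deg U hU) f hf hd).le ⟨s, rfl⟩
      rw [hs''] at h5
      exact h5
    have hyB := awayι_mem_basicOpen_of_map (u.gradedAt W.1 W.2 W'.1 W'.2 hW'le) i.hd hd hm
      ((𝒮.res hU W.2 i₁).map_mem hf) w₀ hyAf
    -- conclude
    have hfin : X ∈ Set.range (RelProj.awayEmb u p' chart' U hU U' hU' hle hd f hf).base := by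
      refine (mem_range_awayEmb_iff u p' chart' _ _ _ _ _ hd f hf X).mpr
        ⟨(Proj.map (𝒮'.res hU' W'.2 i'₁) hirr'₁).base
          ((Proj.awayι (𝒮'.deg W'.1 W'.2) _ ((u.gradedAt W.1 W.2 W'.1 W'.2 hW'le).map_mem hm)
            i.hd).base w₀), ?_, ?_⟩
      · exact (emb_map_res_apply hP' hU' W'.2 r'₁ hr'₁ i'₁ hirr'₁ _).trans
          ((awayEmb_apply u W.1 W.2 W'.1 W'.2 hW'le i.hd _ hm w₀).symm.trans hw₀)
      · intro hmem
        have h6 : 𝒮'.res hU' W'.2 i'₁ (u.gradedAt U hU U' hU' hle f) ∈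
            ((Proj.awayι (𝒮'.deg W'.1 W'.2) _ ((u.gradedAt W.1 W.2 W'.1 W'.2 hW'le).map_mem hm)
              i.hd).base w₀).asHomogeneousIdeal := hmem
        rw [gradedAt_comp u U W.1 hU W.2 i₁ U' W'.1 hU' W'.2 i'₁ hle hW'le f] at h6
        exact (ProjectiveSpectrum.mem_basicOpen _ _ _).mp hyB h6
    obtain ⟨w₁, hw₁⟩ := hfin
    refine ⟨w₁, ?_⟩
    apply (RelProj.domQ u p' chart').ι.isOpenEmbedding.injective
    rw [← Scheme.Hom.comp_apply, stdChart_ι]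
    exact hw₁
  · rintro _ ⟨w, rfl⟩
    constructor
    · have h1 : v.base ((stdChart u p' chart' U hU U' hU' hle hd f hf).base w) ∈
          (Proj.awayι (𝒮.deg U hU) f hf hd ≫ RelProj.emb p chart U hU).opensRange := by
        rw [← Scheme.Hom.comp_apply, hv]
        unfold tgt
        exact ⟨(Spec.map (CommRingCat.ofHom (Away.map (u.gradedAt U hU U' hU' hle) f))).base w,
          by rw [← Scheme.Hom.comp_apply]⟩
      exact h1
    · have h2 : p'.base ((RelProj.domQ u p' chart').ι.base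
          ((stdChart u p' chart' U hU U' hU' hle hd f hf).base w)) ∈ U' := by
        have e : (RelProj.domQ u p' chart').ι.base
            ((stdChart u p' chart' U hU U' hU' hle hd f hf).base w) =
            (RelProj.awayEmb u p' chart' U hU U' hU' hle hd f hf).base w := by
          rw [← Scheme.Hom.comp_apply, stdChart_ι]
        rw [e, awayEmb_apply]
        have : (RelProj.emb p' chart' U' hU').base ((Proj.awayι (𝒮'.deg U' hU')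
            (u.gradedAt U hU U' hU' hle f) ((u.gradedAt U hU U' hU' hle).map_mem hf) hd).base w) ∈
            Set.range (RelProj.emb p' chart' U' hU').base := ⟨_, rfl⟩
        rw [range_emb] at this
        exact this
      exact h2

end Geom

section SameBase

theorem exists_pos_notMem {A σ : Type u} [CommRing A] [SetLike σ A] [AddSubgroupClass σ A]
    (𝒜 : ℕ → σ) [GradedRing 𝒜] (x : ProjectiveSpectrum 𝒜) :
    ∃ (e : ℕ) (g : A), 0 < e ∧ g ∈ 𝒜 e ∧ g ∉ x.asHomogeneousIdeal := by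
  classical
  by_contra hcon
  simp only [not_exists, not_and, not_not] at hcon
  apply x.not_irrelevant_le
  rw [HomogeneousIdeal.irrelevant_le]
  intro i hi a ha
  exact hcon i a hi ha

variable {Y : Scheme.{u}} {𝒜 ℬ : RelProj.QCGrAlg Y} (φ : 𝒜.toQCAlg ⟶ ℬ.toQCAlg)
  (hφ : RelProj.IsGradedHom φ)
  {PA : Scheme.{u}} {pA : PA ⟶ Y}
  {chartA : ∀ (U : Y.Opens) (hU : IsAffineOpen U),
    (((pA ⁻¹ᵁ U : PA.Opens) : Scheme.{u}) ≅ Proj (𝒜.deg U hU))}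
  {PB : Scheme.{u}} {pB : PB ⟶ Y}
  {chartB : ∀ (U : Y.Opens) (hU : IsAffineOpen U),
    (((pB ⁻¹ᵁ U : PB.Opens) : Scheme.{u}) ≅ Proj (ℬ.deg U hU))}

theorem ofHom_gradedAt_self (U : Y.Opens) (hU : IsAffineOpen U) (hle : U ≤ (𝟙 Y) ⁻¹ᵁ U) :
    (RelProj.QGrHom.ofHom φ hφ).gradedAt U hU U hU hle = RelProj.gradedHomAt φ hφ U hU := by
  apply GradedRingHom.ext
  intro x
  change (ℬ.presheaf.map (homOfLE hle).op).hom ((φ.hom.app (op U)).hom x) = (φ.hom.app (op U)).hom x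
  have h1 : (homOfLE hle).op = 𝟙 (op U) := Subsingleton.elim _ _
  have h2 : ℬ.presheaf.map (homOfLE hle).op = 𝟙 _ :=
    (congrArg ℬ.presheaf.map h1).trans (ℬ.presheaf.map_id _)
  exact congr($(h2).hom ((φ.hom.app (op U)).hom x))

/-- Same base: the part of `G(φ)` over an affine open `U` is `G(φ(U))`. -/
theorem domQ_inf_preimage_ofHom (hB : RelProj.IsRelProj ℬ pB chartB) (U : Y.Opens)
    (hU : IsAffineOpen U) :
    RelProj.domQ (RelProj.QGrHom.ofHom φ hφ) pB chartB ⊓ pB ⁻¹ᵁ U =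
      (RelProj.emb pB chartB U hU) ''ᵁ RelCone.domOpen (RelProj.gradedHomAt φ hφ U hU) := by
  have hle : U ≤ (𝟙 Y) ⁻¹ᵁ U := le_rfl
  rw [domQ_inf_preimage (RelProj.QGrHom.ofHom φ hφ) hB U hU U hU hle, ofHom_gradedAt_self]

/-- Same base: `Proj(φ) : G(φ) ⟶ Proj(𝒜)` is affine. -/
theorem isAffineHom_of_chart_eq (hA : RelProj.IsRelProj 𝒜 pA chartA)
    (hB : RelProj.IsRelProj ℬ pB chartB)
    (v : ((RelProj.domQ (RelProj.QGrHom.ofHom φ hφ) pB chartB : PB.Opens) : Scheme.{u}) ⟶ PA)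
    (hv : ∀ (U : Y.Opens) (hU : IsAffineOpen U) (U' : Y.Opens) (hU' : IsAffineOpen U')
      (hle : U' ≤ (𝟙 Y) ⁻¹ᵁ U) (d : ℕ) (hd : 0 < d) (f : 𝒜.presheaf.obj (op U))
      (hf : f ∈ 𝒜.deg U hU d),
      stdChart (RelProj.QGrHom.ofHom φ hφ) pB chartB U hU U' hU' hle hd f hf ≫ v =
        tgt (RelProj.QGrHom.ofHom φ hφ) pA chartA U hU U' hU' hle hd f hf) :
    IsAffineHom v := by
  apply isAffineHom_of_forall_exists_isAffineOpen
  intro x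
  obtain ⟨⟨U, hU⟩, y, hyx⟩ := exists_mem_range_emb pA chartA x
  obtain ⟨d, f, hd, hf, hfy⟩ := exists_pos_notMem (𝒜.deg U hU) y
  have hle : U ≤ (𝟙 Y) ⁻¹ᵁ U := le_rfl
  refine ⟨(Proj.awayι (𝒜.deg U hU) f hf hd ≫ RelProj.emb pA chartA U hU).opensRange, ?_,
    isAffineOpen_opensRange _, ?_⟩
  · have hy' : y ∈ (Proj.awayι (𝒜.deg U hU) f hf hd).opensRange := by
      rw [Proj.opensRange_awayι]
      exact (ProjectiveSpectrum.mem_basicOpen _ _ _).mpr hfy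
    obtain ⟨s, rfl⟩ := hy'
    exact ⟨s, by rw [Scheme.Hom.comp_apply]; exact hyx⟩
  · have hcomp := glue_comp_p (RelProj.QGrHom.ofHom φ hφ) hA hB v hv
    have hsub : v ⁻¹ᵁ (Proj.awayι (𝒜.deg U hU) f hf hd ≫ RelProj.emb pA chartA U hU).opensRange ≤
        (RelProj.domQ (RelProj.QGrHom.ofHom φ hφ) pB chartB).ι ⁻¹ᵁ (pB ⁻¹ᵁ U) := by
      rintro z ⟨s, hs⟩
      have h1 : pA.base (v.base z) ∈ U := by
        rw [← hs, Scheme.Hom.comp_apply]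
        have : (RelProj.emb pA chartA U hU).base ((Proj.awayι (𝒜.deg U hU) f hf hd).base s) ∈
            Set.range (RelProj.emb pA chartA U hU).base := ⟨_, rfl⟩
        rw [range_emb] at this
        exact this
      have h2 : pA.base (v.base z) =
          pB.base ((RelProj.domQ (RelProj.QGrHom.ofHom φ hφ) pB chartB).ι.base z) := by
        have := congrArg (fun k => k.base z) hcomp
        simpa using this
      rw [h2] at h1
      exact h1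
    have heq := preimage_chart (RelProj.QGrHom.ofHom φ hφ) hA hB v hv U hU U hU hle hd f hf
    rw [inf_eq_left.mpr hsub] at heq
    rw [heq]
    exact isAffineOpen_opensRange _

end SameBase

end Groth.Agent.Lib.helper28.ProjQGlue
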