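import Groth.Agent.Lib.Helper28.SymLineAmpleImm

/-!
# `Proj(u)` is scheme-theoretically dominant when `u` is injective (helper28)

`u : 𝒮 → g_* 𝒮'` a graded morphism over `g : S' ⟶ S`, `r = Proj(u) : G(u) ⟶ Proj(𝒮)`.
* `awayMap_mk_eq_zero_iff`, `away_mk_eq_zero_of_pow_mul`, `appLE_congr_hom`.
* `exists_pow_mul_eq_zero`: on a quasi-compact open, `β^k σ = 0` locally implies globally.
* `app_injective`: functions on `D₊(b)` vanishing on `r⁻¹ D₊(b)` vanish.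
* `isSchemeTheoreticallyDominant`.
-/

set_option autoImplicit false
set_option linter.style.haveILetI false
universe u
open CategoryTheory AlgebraicGeometry TopologicalSpace Opposite TensorProduct

namespace Groth.Agent.Lib.helper28.SymLineSTD

open Groth.Agent.Lib.helper28.PowMap Groth.Agent.Lib.helper28.SymLinePow
  Groth.Agent.Lib.helper28.SymLineLocal
open Groth.Agent.Lib.helper28.RelTwistChart Groth.Agent.Lib.helper28.ProjQGlue
open Groth.Agent.Lib.helper28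
open HomogeneousLocalization

section Ring

variable {A B : Type u} [CommRing A] [CommRing B] {𝒜 : ℕ → AddSubgroup A} {ℬ : ℕ → AddSubgroup B}
  [GradedRing 𝒜] [GradedRing ℬ]

theorem awayMap_mk_eq_zero_iff (ψ : 𝒜 →+*ᵍ ℬ) {n : ℕ} (s : A) (hs : s ∈ 𝒜 n) (m : ℕ) (s' : A)
    (hs' : s' ∈ 𝒜 (m • n)) :
    Away.map ψ s (Away.mk 𝒜 hs m s' hs') = 0 ↔ ∃ k : ℕ, ψ s ^ k * ψ s' = 0 := by
  rw [Away.map_mk ψ s hs m s' hs', HomogeneousLocalization.ext_iff_val, Away.val_mk,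
    HomogeneousLocalization.val_zero, Localization.mk_eq_mk', IsLocalization.mk'_eq_zero_iff]
  constructor
  · rintro ⟨⟨_, k, rfl⟩, hk⟩
    exact ⟨k, hk⟩
  · rintro ⟨k, hk⟩
    exact ⟨⟨ψ s ^ k, k, rfl⟩, hk⟩

theorem away_mk_eq_zero_of_pow_mul (𝒜 : ℕ → AddSubgroup A) [GradedRing 𝒜] {n : ℕ} (s : A)
    (hs : s ∈ 𝒜 n) (m : ℕ) (s' : A) (hs' : s' ∈ 𝒜 (m • n)) (k : ℕ) (hk : s ^ k * s' = 0) :
    Away.mk 𝒜 hs m s' hs' = 0 := by
  rw [HomogeneousLocalization.ext_iff_val, Away.val_mk, HomogeneousLocalization.val_zero,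
    Localization.mk_eq_mk', IsLocalization.mk'_eq_zero_iff]
  exact ⟨⟨s ^ k, k, rfl⟩, hk⟩

end Ring

theorem appLE_congr_hom {S P : Scheme.{u}} {k₁ k₂ : S ⟶ P} (h : k₁ = k₂) (U : P.Opens)
    (V : S.Opens) (e1 : V ≤ k₁ ⁻¹ᵁ U) (e2 : V ≤ k₂ ⁻¹ᵁ U) :
    k₁.appLE U V e1 = k₂.appLE U V e2 := by
  subst h
  rfl

section Compact

variable {X : Scheme.{u}}

/-- On a quasi-compact open, `β^k σ = 0` locally (with varying `k`) implies `β^k σ = 0` for one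
`k`. -/
theorem exists_pow_mul_eq_zero (𝒮 : RelProj.QCGrAlg X) (W : X.Opens) (hW : IsCompact (W : Set X))
    (β σ : 𝒮.presheaf.obj (op W))
    (h : ∀ (V' : X.Opens) (_ : IsAffineOpen V') (hle : V' ≤ W), ∃ k : ℕ,
      (𝒮.presheaf.map (homOfLE hle).op).hom β ^ k *
        (𝒮.presheaf.map (homOfLE hle).op).hom σ = 0) :
    ∃ k : ℕ, β ^ k * σ = 0 := by
  classical
  let I := {V' : X.Opens // IsAffineOpen V' ∧ V' ≤ W}
  choose kf hkf using fun V' : I => h V'.1 V'.2.1 V'.2.2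
  obtain ⟨T, hT⟩ := hW.elim_finite_subcover (fun V' : I => (V'.1 : Set X))
    (fun V' => V'.1.isOpen) (by
      intro x hx
      obtain ⟨V', hV'⟩ := Opens.mem_iSup.mp (le_iSup_affine W hx)
      exact Set.mem_iUnion.mpr ⟨V', hV'⟩)
  refine ⟨T.sup kf, ?_⟩
  refine sec_eq_of_cover (fun V' : T => V'.1.1) W (fun V' => V'.1.2.2) ?_ _ _ (fun V' => ?_)
  · intro x hx
    obtain ⟨V', hV'⟩ := Set.mem_iUnion.mp (hT hx)
    obtain ⟨hV'T, hxV'⟩ := Set.mem_iUnion.mp hV'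
    exact Opens.mem_iSup.mpr ⟨⟨V', hV'T⟩, hxV'⟩
  · rw [map_mul, map_pow, map_zero]
    have hk := hkf V'.1
    have hle : kf V'.1 ≤ T.sup kf := Finset.le_sup V'.2
    obtain ⟨j, hj⟩ := Nat.exists_eq_add_of_le hle
    rw [hj, pow_add, mul_comm (_ ^ kf V'.1), mul_assoc, hk, mul_zero]

end Compact

section Geom

variable {S S' P P' : Scheme.{u}} {g : S' ⟶ S} {𝒮 : RelProj.QCGrAlg S} {𝒮' : RelProj.QCGrAlg S'}
  (u : RelProj.QGrHom g 𝒮 𝒮')
  {p : P ⟶ S} {chart : ∀ (U : S.Opens) (hU : IsAffineOpen U),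
    (((p ⁻¹ᵁ U : P.Opens) : Scheme.{u}) ≅ Proj (𝒮.deg U hU))}
  {p' : P' ⟶ S'} {chart' : ∀ (U : S'.Opens) (hU : IsAffineOpen U),
    (((p' ⁻¹ᵁ U : P'.Opens) : Scheme.{u}) ≅ Proj (𝒮'.deg U hU))}
  (r : ((RelProj.domQ u p' chart' : P'.Opens) : Scheme.{u}) ⟶ P)
  (hr : ∀ (U : S.Opens) (hU : IsAffineOpen U) (U' : S'.Opens) (hU' : IsAffineOpen U')
    (hle : U' ≤ g ⁻¹ᵁ U) (d : ℕ) (hd : 0 < d) (a : 𝒮.presheaf.obj (op U))
    (ha : a ∈ 𝒮.deg U hU d),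
    stdChart u p' chart' U hU U' hU' hle hd a ha ≫ r = tgt u p chart U hU U' hU' hle hd a ha)

include hr in
/-- Functions on `D₊(b) ⊆ Proj(𝒮)` vanishing on `r⁻¹ D₊(b)` vanish, when `u` is injective over
`V` and `g⁻¹ V` is quasi-compact. -/
theorem app_injective (V : S.Opens) (hV : IsAffineOpen V)
    (hc : IsCompact ((g ⁻¹ᵁ V : S'.Opens) : Set S'))
    (hinj : Function.Injective (u.app V).hom) {d : ℕ} (hd : 0 < d)
    (b : 𝒮.presheaf.obj (op V)) (hb : b ∈ 𝒮.deg V hV d) :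
    Function.Injective (r.app ((Proj.awayι (𝒮.deg V hV) b hb hd ≫
      RelProj.emb p chart V hV) ''ᵁ ⊤)).hom := by
  set ιb := Proj.awayι (𝒮.deg V hV) b hb hd ≫ RelProj.emb p chart V hV with hιb
  rw [injective_iff_map_eq_zero]
  intro ξ hξ
  -- transport to `𝒮(V)_(b)`
  have hiso : Function.Bijective ((ιb.appIso ⊤).hom ≫ (Scheme.ΓSpecIso _).hom).hom :=
    ConcreteCategory.bijective_of_isIso _
  apply hiso.1
  rw [map_zero]
  set β := ((ιb.appIso ⊤).hom ≫ (Scheme.ΓSpecIso _).hom).hom ξ with hβ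
  -- on every chart the image of `β` vanishes
  have hchart : ∀ (V' : S'.Opens) (hV' : IsAffineOpen V') (hle : V' ≤ g ⁻¹ᵁ V),
      Away.map (u.gradedAt V hV V' hV' hle) b β = 0 := by
    intro V' hV' hle
    set T := Spec.map (CommRingCat.ofHom (Away.map (u.gradedAt V hV V' hV' hle) b)) with hT
    set c := stdChart u p' chart' V hV V' hV' hle hd b hb with hc'
    have hsq : c ≫ r = T ≫ ιb := hr V hV V' hV' hle d hd b hb
    have e0 : (⊤ : (Spec (CommRingCat.of (Away (𝒮.deg V hV) b))).Opens) ≤ ιb ⁻¹ᵁ (ιb ''ᵁ ⊤) :=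
      (Scheme.Hom.preimage_image_eq ιb ⊤).ge
    have e1 : (⊤ : (Spec (CommRingCat.of (Away (𝒮'.deg V' hV')
        (u.gradedAt V hV V' hV' hle b)))).Opens) ≤ (T ≫ ιb) ⁻¹ᵁ (ιb ''ᵁ ⊤) := by
      intro w _
      exact ⟨T w, trivial, (Scheme.Hom.comp_apply T ιb w).symm⟩
    have e2 : (⊤ : (Spec (CommRingCat.of (Away (𝒮'.deg V' hV')
        (u.gradedAt V hV V' hV' hle b)))).Opens) ≤ (c ≫ r) ⁻¹ᵁ (ιb ''ᵁ ⊤) := by
      rw [hsq]
      exact e1
    have h1 : (c ≫ r).appLE (ιb ''ᵁ ⊤) ⊤ e2 = (T ≫ ιb).appLE (ιb ''ᵁ ⊤) ⊤ e1 :=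
      appLE_congr_hom hsq _ _ _ _
    have h2 : (c ≫ r).appLE (ιb ''ᵁ ⊤) ⊤ e2 = r.app (ιb ''ᵁ ⊤) ≫ c.appLE _ ⊤ e2 :=
      Scheme.Hom.comp_appLE c r _ _ _
    have h3 : ιb.appLE (ιb ''ᵁ ⊤) ⊤ e0 ≫ T.appLE ⊤ ⊤ le_top =
        (T ≫ ιb).appLE (ιb ''ᵁ ⊤) ⊤ e1 :=
      Scheme.Hom.appLE_comp_appLE T ιb _ _ _ _ _
    have h4 : T.appLE ⊤ ⊤ le_top = T.appTop := Scheme.Hom.appLE_eq_app T
    have h6 : (T.appLE ⊤ ⊤ le_top).hom ((ιb.appLE (ιb ''ᵁ ⊤) ⊤ e0).hom ξ) =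
        (c.appLE (r ⁻¹ᵁ (ιb ''ᵁ ⊤)) ⊤ e2).hom ((r.app (ιb ''ᵁ ⊤)).hom ξ) :=
      congrArg (fun k => k.hom ξ) (h3.trans (h1.symm.trans h2))
    rw [hξ, map_zero, h4] at h6
    have h5 : T.appTop.hom ((ιb.appIso ⊤).hom.hom ξ) = 0 := by
      rw [Scheme.Hom.appIso_hom']
      exact h6
    have h7 := congrArg (fun k => k.hom ((ιb.appIso ⊤).hom.hom ξ))
      (Scheme.ΓSpecIso_naturality (CommRingCat.ofHom (Away.map (u.gradedAt V hV V' hV' hle) b)))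
    simp only [CommRingCat.hom_comp, RingHom.coe_comp, Function.comp_apply] at h7
    rw [h5, map_zero] at h7
    exact h7.symm
  -- conclude
  obtain ⟨m, c, hcm, hβc⟩ := Away.mk_surjective (𝒮.deg V hV) hb β
  rw [← hβc]
  have hloc : ∀ (V' : S'.Opens) (_ : IsAffineOpen V') (hle : V' ≤ g ⁻¹ᵁ V), ∃ k : ℕ,
      (𝒮'.presheaf.map (homOfLE hle).op).hom ((u.app V).hom b) ^ k *
        (𝒮'.presheaf.map (homOfLE hle).op).hom ((u.app V).hom c) = 0 := by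
    intro V' hV' hle
    have h8 := hchart V' hV' hle
    rw [← hβc, awayMap_mk_eq_zero_iff] at h8
    exact h8
  obtain ⟨k, hk⟩ := exists_pow_mul_eq_zero 𝒮' (g ⁻¹ᵁ V) hc _ _ hloc
  refine away_mk_eq_zero_of_pow_mul (𝒮.deg V hV) b hb m c hcm k (hinj ?_)
  rw [map_mul, map_pow, map_zero]
  exact hk

/-- Index of the affine cover of `Proj(𝒮)` by the opens `D₊(b)`. -/
structure Idx where
  V : S.Opens
  hV : IsAffineOpen V
  d : ℕ
  hd : 0 < d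
  b : 𝒮.presheaf.obj (op V)
  hb : b ∈ 𝒮.deg V hV d
  hc : IsCompact ((g ⁻¹ᵁ V : S'.Opens) : Set S')
  hinj : Function.Injective (u.app V).hom

include hr in
/-- `r = Proj(u)` is scheme-theoretically dominant when it is quasi-compact and the base is
covered by affine opens `V` with `g⁻¹ V` quasi-compact and `u` injective over `V`. -/
theorem isSchemeTheoreticallyDominant [QuasiCompact r]
    (hcov : ∀ y : S, ∃ (V : S.Opens) (_ : IsAffineOpen V), y ∈ V ∧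
      IsCompact ((g ⁻¹ᵁ V : S'.Opens) : Set S') ∧ Function.Injective (u.app V).hom) :
    IsSchemeTheoreticallyDominant r := by
  rw [isSchemeTheoreticallyDominant_iff]
  refine Scheme.IdealSheafData.ext_of_iSup_eq_top
    (fun i : Idx u => (⟨(Proj.awayι (𝒮.deg i.V i.hV) i.b i.hb i.hd ≫
      RelProj.emb p chart i.V i.hV) ''ᵁ ⊤,
      (isAffineOpen_top _).image_of_isOpenImmersion _⟩ : P.affineOpens)) ?_ (fun i => ?_)
  · rw [← top_le_iff]
    intro z _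
    obtain ⟨V, hV, hzV, hc, hinj⟩ := hcov (p z)
    have hz' : z ∈ Set.range (RelProj.emb p chart V hV) := by
      rw [range_emb]
      exact hzV
    obtain ⟨y, rfl⟩ := hz'
    obtain ⟨e, b, he, hb, hby⟩ := exists_pos_notMem (𝒮.deg V hV) y
    refine Opens.mem_iSup.mpr ⟨⟨V, hV, e, he, b, hb, hc, hinj⟩, ?_⟩
    change RelProj.emb p chart V hV y ∈ (Proj.awayι (𝒮.deg V hV) b hb he ≫
      RelProj.emb p chart V hV) ''ᵁ ⊤
    rw [Scheme.Hom.image_top_eq_opensRange, Scheme.Hom.opensRange_comp, Proj.opensRange_awayι]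
    exact ⟨y, (ProjectiveSpectrum.mem_basicOpen _ _ _).mpr hby, rfl⟩
  · rw [Scheme.Hom.ker_apply, Scheme.IdealSheafData.ideal_bot]
    exact (RingHom.injective_iff_ker_eq_bot _).mp
      (app_injective u r hr i.V i.hV i.hc i.hinj i.hd i.b i.hb)

end Geom

end Groth.Agent.Lib.helper28.SymLineSTD
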