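import Groth.Agent.Lib.Helper28.GrQuotAlg
import Groth.Agent.Lib.Helper28.SymLineSTD

/-!
# The image of a graded `f`-morphism as a quasi-coherent graded algebra (helper28)

`u : 𝒯 → f_* 𝒮'` a graded morphism over a quasi-compact `f : X ⟶ Y`.
* `exists_pow_mul_eq_zero_of_res`: a section of `𝒮'` over the quasi-compact open `W` vanishing on
  `W_g` is killed by a power of `g`.
* `kerData u : GrIdealData 𝒯`: the kernels of `u` over the affine opens.
* `im u := (kerData u).grAlg`, `toIm u : 𝒯 ⟶ im u`, `ofIm u : QGrHom f (im u) 𝒮'` with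
  `u = ofIm ∘ toIm`, `ofIm` injective over the affine opens.
-/

set_option autoImplicit false
universe u

open CategoryTheory CategoryTheory.Limits AlgebraicGeometry Opposite TopologicalSpace
open scoped HomogeneousIdeal

namespace Groth.Agent.Lib.helper28.QGrKer

open Groth.Agent.Lib.helper28.GrQuotAlg Groth.Agent.Lib.helper28.PairGlue
  Groth.Agent.Lib.helper28

section Kill

variable {X : Scheme.{u}} (𝒮' : RelProj.QCGrAlg X)

/-- A section over a quasi-compact open `W` vanishing on `W_g` is killed by a power of `g`. -/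
theorem exists_pow_mul_eq_zero_of_res (W : X.Opens) (hW : IsCompact (W : Set X)) (g : Γ(X, W))
    (O : X.Opens) (hO : O = X.basicOpen g) (hOW : O ≤ W) (τ : 𝒮'.presheaf.obj (op W))
    (h0 : (𝒮'.presheaf.map (homOfLE hOW).op).hom τ = 0) :
    ∃ N : ℕ, (𝒮'.str.app (op W)).hom g ^ N * τ = 0 := by
  refine Groth.Agent.Lib.helper28.SymLineSTD.exists_pow_mul_eq_zero 𝒮' W hW _ τ ?_
  intro V' hV' hle
  set g' : Γ(X, V') := (X.presheaf.map (homOfLE hle).op).hom g with hg'
  have hD : X.basicOpen g' ≤ O := by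
    rw [hO, hg', Scheme.basicOpen_res]
    exact inf_le_right
  let _ : Algebra (𝒮'.presheaf.obj (op V')) (𝒮'.presheaf.obj (op (X.basicOpen g'))) :=
    (𝒮'.presheaf.map (homOfLE (X.basicOpen_le g')).op).hom.toAlgebra
  have hloc : IsLocalization.Away ((𝒮'.str.app (op V')).hom g')
      (𝒮'.presheaf.obj (op (X.basicOpen g'))) := 𝒮'.isQC V' hV' g'
  have h1 : algebraMap (𝒮'.presheaf.obj (op V')) (𝒮'.presheaf.obj (op (X.basicOpen g')))
      ((𝒮'.presheaf.map (homOfLE hle).op).hom τ) = 0 := by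
    change (𝒮'.presheaf.map (homOfLE (X.basicOpen_le g')).op).hom
      ((𝒮'.presheaf.map (homOfLE hle).op).hom τ) = 0
    have h2 : (𝒮'.presheaf.map (homOfLE (X.basicOpen_le g')).op).hom
        ((𝒮'.presheaf.map (homOfLE hle).op).hom τ) =
        (𝒮'.presheaf.map (homOfLE hD).op).hom ((𝒮'.presheaf.map (homOfLE hOW).op).hom τ) := by
      rw [← CommRingCat.comp_apply, ← CommRingCat.comp_apply, ← 𝒮'.presheaf.map_comp,
        ← 𝒮'.presheaf.map_comp]
      rfl
    rw [h2, h0, map_zero]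
  obtain ⟨⟨_, k, rfl⟩, hk⟩ := (IsLocalization.map_eq_zero_iff
    (Submonoid.powers ((𝒮'.str.app (op V')).hom g')) _ _).mp h1
  refine ⟨k, ?_⟩
  have h3 : (𝒮'.presheaf.map (homOfLE hle).op).hom ((𝒮'.str.app (op W)).hom g) =
      (𝒮'.str.app (op V')).hom g' :=
    (congrArg (fun q => q.hom g) (𝒮'.str.naturality (homOfLE hle).op)).symm
  rw [h3]
  exact hk

end Kill

section Ker

variable {X Y : Scheme.{u}} {f : X ⟶ Y} {𝒯 : RelProj.QCGrAlg Y} {𝒮' : RelProj.QCGrAlg X}
  (u : RelProj.QGrHom f 𝒯 𝒮')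

theorem app_res (U : Y.Opens) (U' : X.Opens) (hle : U' ≤ f ⁻¹ᵁ U)
    (a : 𝒯.presheaf.obj (op U)) :
    (𝒮'.presheaf.map (homOfLE hle).op).hom ((u.app U).hom a) = (u.appLE U U' hle).hom a := rfl

theorem app_naturality {U V : Y.Opens} (i : V ≤ U) (a : 𝒯.presheaf.obj (op U)) :
    (u.app V).hom ((𝒯.presheaf.map (homOfLE i).op).hom a) =
      (𝒮'.presheaf.map (homOfLE (f.preimage_mono i)).op).hom ((u.app U).hom a) :=
  (congrArg (fun k => k.hom a) (u.naturality i)).symm

theorem app_str (U : Y.Opens) (r : Γ(Y, U)) :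
    (u.app U).hom ((𝒯.str.app (op U)).hom r) =
      (𝒮'.str.app (op (f ⁻¹ᵁ U))).hom ((f.app U).hom r) :=
  congrArg (fun k => k.hom r) (u.str_app U)

/-- The kernel of `u` over an affine open is a homogeneous ideal. -/
theorem ker_isHomogeneous (U : Y.Opens) (hU : IsAffineOpen U) :
    (RingHom.ker (u.app U).hom).IsHomogeneous (𝒯.deg U hU) := by
  intro d a ha
  rw [RingHom.mem_ker] at ha ⊢
  refine eq_of_affine (B := 𝒮'.toQCAlg) (f ⁻¹ᵁ U) _ _ fun U' hU' hle => ?_
  rw [map_zero]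
  change (u.gradedAt U hU U' hU' hle)
    ((DirectSum.decompose (𝒯.deg U hU) a d : 𝒯.deg U hU d) : 𝒯.presheaf.obj (op U)) = 0
  rw [GradedRingHom.map_directSumDecompose (𝒜 := 𝒯.deg U hU) (ℬ := 𝒮'.deg U' hU')
    (u.gradedAt U hU U' hU' hle) (x := a) (i := d)]
  have h0 : (u.gradedAt U hU U' hU' hle) a = 0 := by
    change (𝒮'.presheaf.map (homOfLE hle).op).hom ((u.app U).hom a) = 0
    rw [ha, map_zero]
  rw [h0, DirectSum.decompose_zero]
  rfl

variable (hqc : ∀ (U : Y.Opens), IsAffineOpen U → IsCompact ((f ⁻¹ᵁ U : X.Opens) : Set X))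

/-- The kernels of `u` over the affine opens. -/
noncomputable def kerData : GrIdealData 𝒯 where
  K U hU := ⟨RingHom.ker (u.app U).hom, ker_isHomogeneous u U hU⟩
  res_mem {U V} hU hV i a ha := by
    change _ ∈ RingHom.ker _
    change a ∈ RingHom.ker _ at ha
    rw [RingHom.mem_ker] at ha ⊢
    rw [app_naturality u i a, ha, map_zero]
  loc U hU r b hb := by
    change b ∈ RingHom.ker _ at hb
    rw [RingHom.mem_ker] at hb
    change b ∈ (RingHom.ker (u.app U).hom).map (𝒯.presheaf.map (homOfLE (Y.basicOpen_le r)).op).hom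
    let _ : Algebra (𝒯.presheaf.obj (op U)) (𝒯.presheaf.obj (op (Y.basicOpen r))) :=
      (𝒯.presheaf.map (homOfLE (Y.basicOpen_le r)).op).hom.toAlgebra
    have hloc : IsLocalization.Away ((𝒯.str.app (op U)).hom r)
        (𝒯.presheaf.obj (op (Y.basicOpen r))) := 𝒯.isQC U hU r
    obtain ⟨⟨a, ⟨_, n, rfl⟩⟩, ha⟩ := IsLocalization.surj
      (Submonoid.powers ((𝒯.str.app (op U)).hom r)) b
    have ha' : b * (𝒯.presheaf.map (homOfLE (Y.basicOpen_le r)).op).hom
        ((𝒯.str.app (op U)).hom r ^ n) =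
        (𝒯.presheaf.map (homOfLE (Y.basicOpen_le r)).op).hom a := ha
    -- `u(a)` vanishes over `f⁻¹ D(r)`
    have h1 : (𝒮'.presheaf.map (homOfLE (f.preimage_mono (Y.basicOpen_le r))).op).hom
        ((u.app U).hom a) = 0 := by
      rw [← app_naturality u (Y.basicOpen_le r) a, ← ha', map_mul, hb, zero_mul]
    obtain ⟨N, hN⟩ := exists_pow_mul_eq_zero_of_res 𝒮' (f ⁻¹ᵁ U) (hqc U hU) ((f.app U).hom r)
      (f ⁻¹ᵁ Y.basicOpen r) (Scheme.preimage_basicOpen f r)
      (f.preimage_mono (Y.basicOpen_le r)) ((u.app U).hom a) h1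
    have h2 : (𝒯.str.app (op U)).hom r ^ N * a ∈ RingHom.ker (u.app U).hom := by
      rw [RingHom.mem_ker, map_mul, map_pow, app_str]
      exact hN
    have h3 := Ideal.mem_map_of_mem (𝒯.presheaf.map (homOfLE (Y.basicOpen_le r)).op).hom h2
    have hu : IsUnit ((𝒯.presheaf.map (homOfLE (Y.basicOpen_le r)).op).hom
        ((𝒯.str.app (op U)).hom r)) :=
      IsLocalization.map_units (𝒯.presheaf.obj (op (Y.basicOpen r)))
        (⟨(𝒯.str.app (op U)).hom r, 1, pow_one _⟩ :
          Submonoid.powers ((𝒯.str.app (op U)).hom r))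
    rw [map_mul, ← ha', map_pow, map_pow, mul_comm b, ← mul_assoc, ← pow_add] at h3
    exact (Ideal.unit_mul_mem_iff_mem _ (hu.pow (N + n))).mp h3

end Ker

section Im

variable {X Y : Scheme.{u}} {f : X ⟶ Y} {𝒯 : RelProj.QCGrAlg Y} {𝒮' : RelProj.QCGrAlg X}
  (u : RelProj.QGrHom f 𝒯 𝒮')
  (hqc : ∀ (U : Y.Opens), IsAffineOpen U → IsCompact ((f ⁻¹ᵁ U : X.Opens) : Set X))

/-- **The image of `u`**, a quasi-coherent graded algebra on `Y`. -/
noncomputable def im : RelProj.QCGrAlg Y := (kerData u hqc).grAlg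

/-- The quotient map onto the image. -/
noncomputable def toIm : 𝒯.toQCAlg ⟶ (im u hqc).toQCAlg := (kerData u hqc).quot

theorem isGradedHom_toIm : RelProj.IsGradedHom (𝒜 := 𝒯) (ℬ := im u hqc) (toIm u hqc) :=
  (kerData u hqc).isGradedHom_quot

theorem toIm_surjective (U : Y.Opens) (hU : IsAffineOpen U) :
    Function.Surjective ((toIm u hqc).hom.app (op U)).hom :=
  (kerData u hqc).quot_surjective U hU

theorem toIm_eq_zero_iff (U : Y.Opens) (hU : IsAffineOpen U) (a : 𝒯.presheaf.obj (op U)) :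
    ((toIm u hqc).hom.app (op U)).hom a = 0 ↔ (u.app U).hom a = 0 :=
  ((kerData u hqc).quot_eq_zero_iff U hU a).trans RingHom.mem_ker

theorem mem_deg_im_iff (U : Y.Opens) (hU : IsAffineOpen U) (d : ℕ)
    (x : (im u hqc).presheaf.obj (op U)) :
    x ∈ (im u hqc).deg U hU d ↔ ∃ a ∈ 𝒯.deg U hU d, ((toIm u hqc).hom.app (op U)).hom a = x :=
  (kerData u hqc).mem_deg_iff_exists U hU d x

theorem isGenDegOne_im (h : 𝒯.IsGenDegOne) : (im u hqc).IsGenDegOne :=
  (kerData u hqc).isGenDegOne h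

theorem isFTDeg_im (d : ℕ) (h : 𝒯.IsFTDeg d) : (im u hqc).IsFTDeg d :=
  (kerData u hqc).isFTDeg d h

theorem appLE_eq_zero_of_mem_ker (U : Y.Opens) (U' : X.Opens) (hle : U' ≤ f ⁻¹ᵁ U)
    (a : 𝒯.presheaf.obj (op U)) (ha : a ∈ RingHom.ker (u.app U).hom) :
    (u.appLE U U' hle).hom a = 0 := by
  rw [RingHom.mem_ker] at ha
  rw [← app_res u U U' hle a, ha, map_zero]

/-- The ring homomorphisms `im(U) → 𝒮'(U')` on affine pairs. -/
noncomputable def ofImRing (U : Y.Opens) (hU : IsAffineOpen U) (U' : X.Opens)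
    (hle : U' ≤ f ⁻¹ᵁ U) : (im u hqc).presheaf.obj (op U) →+* 𝒮'.presheaf.obj (op U') :=
  (Ideal.Quotient.lift (RingHom.ker (u.app U).hom) (u.appLE U U' hle).hom
    (appLE_eq_zero_of_mem_ker u U U' hle)).comp ((kerData u hqc).gIso U hU).toRingHom

theorem ofImRing_toIm (U : Y.Opens) (hU : IsAffineOpen U) (U' : X.Opens)
    (hle : U' ≤ f ⁻¹ᵁ U) (a : 𝒯.presheaf.obj (op U)) :
    ofImRing u hqc U hU U' hle (((toIm u hqc).hom.app (op U)).hom a) =
      (u.appLE U U' hle).hom a := by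
  change Ideal.Quotient.lift (RingHom.ker (u.app U).hom) (u.appLE U U' hle).hom
    (appLE_eq_zero_of_mem_ker u U U' hle) ((kerData u hqc).gIso U hU
    (((kerData u hqc).quot.hom.app (op U)).hom a)) = _
  rw [(kerData u hqc).gIso_quot U hU a]
  exact Ideal.Quotient.lift_mk (RingHom.ker (u.app U).hom) (u.appLE U U' hle).hom
    (appLE_eq_zero_of_mem_ker u U U' hle)

theorem toIm_res {U V : Y.Opens} (i : V ≤ U) (a : 𝒯.presheaf.obj (op U)) :
    ((im u hqc).presheaf.map (homOfLE i).op).hom (((toIm u hqc).hom.app (op U)).hom a) =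
      ((toIm u hqc).hom.app (op V)).hom ((𝒯.presheaf.map (homOfLE i).op).hom a) :=
  (congrArg (fun k => k.hom a) ((toIm u hqc).hom.naturality (homOfLE i).op)).symm

/-- The compatible family on affine pairs. -/
noncomputable def ofImPair : PairAlgHom f (im u hqc).toQCAlg 𝒮'.toQCAlg where
  φ U hU U' _ hle := ofImRing u hqc U hU U' hle
  res_right U hU U' hU' hle V' hV' i x := by
    obtain ⟨a, rfl⟩ := toIm_surjective u hqc U hU x
    rw [ofImRing_toIm, ofImRing_toIm, ← CommRingCat.comp_apply, RelSpec.QHom.appLE_map]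
  res_left U hU V hV i U' hU' hle x := by
    obtain ⟨a, rfl⟩ := toIm_surjective u hqc U hU x
    rw [toIm_res, ofImRing_toIm, ofImRing_toIm, ← CommRingCat.comp_apply,
      RelSpec.QHom.map_appLE]
  str U hU U' hU' hle r := by
    have h1 : ((im u hqc).str.app (op U)).hom r =
        ((toIm u hqc).hom.app (op U)).hom ((𝒯.str.app (op U)).hom r) :=
      ((kerData u hqc).quot_str U r).symm
    rw [h1, ofImRing_toIm, ← app_res u U U' hle, app_str]
    have h2 := congrArg (fun k => k.hom ((f.app U).hom r)) (𝒮'.str.naturality (homOfLE hle).op)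
    simp only [CommRingCat.hom_comp, RingHom.comp_apply] at h2
    rw [← h2]
    rfl

theorem ofImPair_mem (U : Y.Opens) (hU : IsAffineOpen U) (U' : X.Opens) (hU' : IsAffineOpen U')
    (hle : U' ≤ f ⁻¹ᵁ U) (d : ℕ) (x : (im u hqc).presheaf.obj (op U))
    (hx : x ∈ (im u hqc).deg U hU d) :
    (ofImPair u hqc).φ U hU U' hU' hle x ∈ 𝒮'.deg U' hU' d := by
  obtain ⟨a, ha, rfl⟩ := (mem_deg_im_iff u hqc U hU d x).mp hx
  change ofImRing u hqc U hU U' hle _ ∈ _
  rw [ofImRing_toIm]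
  exact u.map_mem U hU U' hU' hle ha

/-- **The inclusion of the image**, a graded `f`-morphism. -/
noncomputable def ofIm : RelProj.QGrHom f (im u hqc) 𝒮' :=
  toQGrHom (ofImPair u hqc) (ofImPair_mem u hqc)

/-- `u = ofIm ∘ toIm` over the affine opens. -/
theorem ofIm_toIm (U : Y.Opens) (hU : IsAffineOpen U) (a : 𝒯.presheaf.obj (op U)) :
    ((ofIm u hqc).app U).hom (((toIm u hqc).hom.app (op U)).hom a) = (u.app U).hom a := by
  refine eq_of_affine (B := 𝒮'.toQCAlg) (f ⁻¹ᵁ U) _ _ fun U' hU' hle => ?_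
  have h1 := congrArg (fun k => k.hom (((toIm u hqc).hom.app (op U)).hom a))
    (toQGrHom_appLE (ofImPair u hqc) (ofImPair_mem u hqc) U hU U' hU' hle)
  refine h1.trans ?_
  exact ofImRing_toIm u hqc U hU U' hle a

/-- `ofIm` is injective over the affine opens. -/
theorem ofIm_injective (U : Y.Opens) (hU : IsAffineOpen U) :
    Function.Injective ((ofIm u hqc).app U).hom := by
  rw [injective_iff_map_eq_zero]
  intro x hx
  obtain ⟨a, rfl⟩ := toIm_surjective u hqc U hU x
  rw [ofIm_toIm u hqc U hU] at hx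
  exact (toIm_eq_zero_iff u hqc U hU a).mpr hx

end Im

end Groth.Agent.Lib.helper28.QGrKer
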