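import Groth.Agent.Lib.Helper28.PairGlue
import Groth.Agent.Lib.Helper28.SymPair
import Groth.Agent.Lib.Helper28.LocalGen
import Groth.Agent.Lib.Helper28.HomOfBasis

/-!
# The graded `f`-morphism `Sym(E) → f_* 𝒜` attached to a module map `E → f_* M` (helper28)

`E` quasi-coherent on `Y` with graded symmetric algebra `(𝒯, j)`, `f : X ⟶ Y`, `M` a module on `X`
with a module map `jM : M ⟶ 𝒜` into a quasi-coherent algebra on `X`, and `m : E ⟶ f_* M`.
* `pairRing`: the ring homomorphisms `𝒯(U) → 𝒜(U')` on affine pairs, `j(e) ↦ jM(m(e)|U')`.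
* `pairAlgHom`, `qHom : RelSpec.QHom f 𝒯 𝒜`, `qHom_j`.
* `qGrHom` when `𝒜 = 𝒮'` is graded with `jM` landing in degree one.
-/

set_option autoImplicit false
universe u

namespace Groth.Agent.Lib.helper28.SymPairLift

open CategoryTheory CategoryTheory.Limits AlgebraicGeometry TopologicalSpace Opposite
open Groth.Agent.Lib.helper28.SymAlg Groth.Agent.Lib.helper28.SymLoc
  Groth.Agent.Lib.helper28.SymSheaf Groth.Agent.Lib.helper28
open Groth.Agent.Lib.helper28.SymAlgGrading Groth.Agent.Lib.helper28.GradedTransport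
open Groth.Agent.Lib.helper28.SymGradedExists Groth.Agent.Lib.helper28.SymDegEq
open Groth.Agent.Lib.helper28.PairGlue

variable {X Y : Scheme.{u}} (f : X ⟶ Y) (E : Y.Modules) [E.IsQuasicoherent]
  (𝒯 : RelProj.QCGrAlg Y) (j : E ⟶ 𝒯.toModule) (hj : RelProj.IsGrSymAlg E 𝒯 j)
  (M : X.Modules) [M.IsQuasicoherent] (𝒜 : RelSpec.QCAlg X) (jM : M ⟶ 𝒜.toModule)
  (m : E ⟶ (Scheme.Modules.pushforward f).obj M)

section Pair

variable (U : Y.Opens) (U' : X.Opens) (hle : U' ≤ f ⁻¹ᵁ U)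

/-- `e ↦ m(e)|U'`. -/
noncomputable def mRes (e : Γ(E, U)) : Γ(M, U') :=
  M.presheaf.map (homOfLE hle).op (show Γ(M, f ⁻¹ᵁ U) from (m.app U) e)

theorem mRes_add (e e' : Γ(E, U)) :
    mRes f E M m U U' hle (e + e') = mRes f E M m U U' hle e + mRes f E M m U U' hle e' := by
  unfold mRes
  rw [map_add]
  exact map_add _ _ _

theorem mRes_smul (a : Γ(Y, U)) (e : Γ(E, U)) :
    mRes f E M m U U' hle (a • e) = (f.appLE U U' hle).hom a • mRes f E M m U U' hle e := by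
  unfold mRes
  have h1 : (m.app U) (a • e) = a • (m.app U) e := Scheme.Modules.Hom.app_smul m a e
  rw [h1, Groth.Agent.Lib.helper28.LocalGen.smul_pushforward f M U a ((m.app U) e),
    Groth.Agent.Lib.helper28.HomOfBasis.map_smul' M (homOfLE hle)]
  rfl

/-- `e ↦ jM(m(e)|U')`, additive. -/
noncomputable def gAdd : Γ(E, U) →+ 𝒜.presheaf.obj (op U') :=
  AddMonoidHom.mk' (fun e => φAdd M 𝒜 jM U' (mRes f E M m U U' hle e)) (fun e e' => by
    rw [mRes_add, map_add])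

theorem gAdd_apply (e : Γ(E, U)) :
    gAdd f E M 𝒜 jM m U U' hle e = φAdd M 𝒜 jM U' (mRes f E M m U U' hle e) := rfl

theorem gAdd_smul (a : Γ(Y, U)) (e : Γ(E, U)) :
    gAdd f E M 𝒜 jM m U U' hle (a • e) =
      ((𝒜.str.app (op U')).hom.comp (f.appLE U U' hle).hom) a * gAdd f E M 𝒜 jM m U U' hle e := by
  rw [gAdd_apply, mRes_smul, φAdd_smul]
  rfl

/-- `Sym E(U) → 𝒜(U')`. -/
noncomputable def symLift : SymU E U →+* 𝒜.presheaf.obj (op U') :=
  liftRingHom ((𝒜.str.app (op U')).hom.comp (f.appLE U U' hle).hom)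
    (gAdd f E M 𝒜 jM m U U' hle) (gAdd_smul f E M 𝒜 jM m U U' hle)

end Pair

section Ring

variable (U : Y.Opens) (hU : IsAffineOpen U) (U' : X.Opens) (hle : U' ≤ f ⁻¹ᵁ U)

/-- The ring homomorphism `𝒯(U) → 𝒜(U')`, `U` affine. -/
noncomputable def pairRing : 𝒯.presheaf.obj (op U) →+* 𝒜.presheaf.obj (op U') :=
  (symLift f E M 𝒜 jM m U U' hle).comp (eU E 𝒯.toQCAlg j hj.1 U hU).symm.toRingHom

theorem pairRing_liftU (x : SymU E U) :
    pairRing f E 𝒯 j hj M 𝒜 jM m U hU U' hle (liftU E 𝒯.toQCAlg j U x) =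
      symLift f E M 𝒜 jM m U U' hle x := by
  change symLift f E M 𝒜 jM m U U' hle
    ((eU E 𝒯.toQCAlg j hj.1 U hU).symm (eU E 𝒯.toQCAlg j hj.1 U hU x)) = _
  rw [RingEquiv.symm_apply_apply]

theorem pairRing_str (r : Γ(Y, U)) :
    pairRing f E 𝒯 j hj M 𝒜 jM m U hU U' hle ((𝒯.str.app (op U)).hom r) =
      (𝒜.str.app (op U')).hom ((f.appLE U U' hle).hom r) := by
  rw [← liftU_algebraMap E 𝒯.toQCAlg j U r, pairRing_liftU, symLift, liftRingHom_algebraMap]
  rfl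

theorem pairRing_j (e : Γ(E, U)) :
    pairRing f E 𝒯 j hj M 𝒜 jM m U hU U' hle ((j.app U).hom e) =
      φAdd M 𝒜 jM U' (mRes f E M m U U' hle e) := by
  rw [← liftU_ι E 𝒯.toQCAlg j U e, pairRing_liftU, symLift, liftRingHom_ι]
  rfl

end Ring

section Res

variable (U : Y.Opens) (hU : IsAffineOpen U)

omit [E.IsQuasicoherent] [M.IsQuasicoherent] in
theorem mRes_res_right (U' V' : X.Opens) (hle : U' ≤ f ⁻¹ᵁ U) (i : V' ≤ U') (e : Γ(E, U)) :
    M.presheaf.map (homOfLE i).op (mRes f E M m U U' hle e) =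
      mRes f E M m U V' (i.trans hle) e := by
  unfold mRes
  rw [← ConcreteCategory.comp_apply, ← Functor.map_comp]
  rfl

omit [E.IsQuasicoherent] [M.IsQuasicoherent] in
theorem mRes_res_left (V : Y.Opens) (i : V ≤ U) (U' : X.Opens) (hle : U' ≤ f ⁻¹ᵁ V)
    (e : Γ(E, U)) :
    mRes f E M m V U' hle (E.presheaf.map (homOfLE i).op e) =
      mRes f E M m U U' (hle.trans (f.preimage_mono i)) e := by
  unfold mRes
  have h1 : (m.app V).hom (E.presheaf.map (homOfLE i).op e) =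
      ((Scheme.Modules.pushforward f).obj M).presheaf.map (homOfLE i).op ((m.app U).hom e) :=
    Groth.Agent.Lib.helper16.QCohEpi.app_map m i e
  refine (congrArg (fun z => M.presheaf.map (homOfLE hle).op z) h1).trans ?_
  change M.presheaf.map (homOfLE hle).op
    (M.presheaf.map (homOfLE (f.preimage_mono i)).op ((m.app U).hom e)) = _
  rw [← ConcreteCategory.comp_apply, ← Functor.map_comp]
  rfl

theorem pairRing_res_right (U' V' : X.Opens) (hle : U' ≤ f ⁻¹ᵁ U) (i : V' ≤ U')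
    (a : 𝒯.presheaf.obj (op U)) :
    (𝒜.presheaf.map (homOfLE i).op).hom (pairRing f E 𝒯 j hj M 𝒜 jM m U hU U' hle a) =
      pairRing f E 𝒯 j hj M 𝒜 jM m U hU V' (i.trans hle) a := by
  have key := Groth.Agent.Lib.helper28.SymPair.ringHom_ext_of_str_j E 𝒯.toQCAlg j hj.1 U hU
    ((𝒜.presheaf.map (homOfLE i).op).hom.comp (pairRing f E 𝒯 j hj M 𝒜 jM m U hU U' hle))
    (pairRing f E 𝒯 j hj M 𝒜 jM m U hU V' (i.trans hle)) ?_ ?_
  · exact congrArg (fun k => k a) key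
  · intro r
    rw [RingHom.comp_apply, pairRing_str, pairRing_str]
    have h := congrArg (fun k => k.hom ((f.appLE U U' hle).hom r))
      (𝒜.str.naturality (homOfLE i).op)
    simp only [CommRingCat.hom_comp, RingHom.comp_apply] at h
    rw [← h]
    have h2 : (X.presheaf.map (homOfLE i).op).hom ((f.appLE U U' hle).hom r) =
        (f.appLE U V' (i.trans hle)).hom r := by
      rw [← CommRingCat.comp_apply, Scheme.Hom.appLE_map]
    rw [h2]
  · intro e
    rw [RingHom.comp_apply, pairRing_j, pairRing_j, ← φAdd_res M 𝒜 jM i]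
    exact congrArg _ (mRes_res_right f E M m U U' V' hle i e)

theorem pairRing_res_left (V : Y.Opens) (hV : IsAffineOpen V) (i : V ≤ U) (U' : X.Opens)
    (hle : U' ≤ f ⁻¹ᵁ V) (a : 𝒯.presheaf.obj (op U)) :
    pairRing f E 𝒯 j hj M 𝒜 jM m V hV U' hle ((𝒯.presheaf.map (homOfLE i).op).hom a) =
      pairRing f E 𝒯 j hj M 𝒜 jM m U hU U' (hle.trans (f.preimage_mono i)) a := by
  have key := Groth.Agent.Lib.helper28.SymPair.ringHom_ext_of_str_j E 𝒯.toQCAlg j hj.1 U hU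
    ((pairRing f E 𝒯 j hj M 𝒜 jM m V hV U' hle).comp (𝒯.presheaf.map (homOfLE i).op).hom)
    (pairRing f E 𝒯 j hj M 𝒜 jM m U hU U' (hle.trans (f.preimage_mono i))) ?_ ?_
  · exact congrArg (fun k => k a) key
  · intro r
    rw [RingHom.comp_apply, pairRing_str]
    have h := congrArg (fun k => k.hom r) (𝒯.str.naturality (homOfLE i).op)
    simp only [CommRingCat.hom_comp, RingHom.comp_apply] at h
    rw [← h, pairRing_str]
    congr 1
    rw [← CommRingCat.comp_apply, Scheme.Hom.map_appLE]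
  · intro e
    rw [RingHom.comp_apply, pairRing_j]
    have h : (𝒯.presheaf.map (homOfLE i).op).hom ((j.app U).hom e) =
        (j.app V).hom (E.presheaf.map (homOfLE i).op e) :=
      (φAdd_res E 𝒯.toQCAlg j i e).symm
    rw [h, pairRing_j]
    exact congrArg _ (mRes_res_left f E M m U V i U' hle e)

end Res

/-- The compatible family on affine pairs. -/
noncomputable def pairAlgHom : PairAlgHom f 𝒯.toQCAlg 𝒜 where
  φ U hU U' _ hle := pairRing f E 𝒯 j hj M 𝒜 jM m U hU U' hle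
  res_right U hU U' _ hle V' _ i a := pairRing_res_right f E 𝒯 j hj M 𝒜 jM m U hU U' V' hle i a
  res_left U hU V hV i U' _ hle a := pairRing_res_left f E 𝒯 j hj M 𝒜 jM m U hU V hV i U' hle a
  str U hU U' _ hle r := pairRing_str f E 𝒯 j hj M 𝒜 jM m U hU U' hle r

/-- **The `f`-morphism `Sym(E) → f_* 𝒜` extending `m`.** -/
noncomputable def qHom : RelSpec.QHom f 𝒯.toQCAlg 𝒜 := toQHom (pairAlgHom f E 𝒯 j hj M 𝒜 jM m)

theorem qHom_appLE (U : Y.Opens) (hU : IsAffineOpen U) (U' : X.Opens) (hU' : IsAffineOpen U')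
    (hle : U' ≤ f ⁻¹ᵁ U) (a : 𝒯.presheaf.obj (op U)) :
    ((qHom f E 𝒯 j hj M 𝒜 jM m).appLE U U' hle).hom a =
      pairRing f E 𝒯 j hj M 𝒜 jM m U hU U' hle a :=
  congrArg (fun k => k.hom a) (toQHom_appLE (pairAlgHom f E 𝒯 j hj M 𝒜 jM m) U hU U' hU' hle)

/-- On generators, `qHom` is `m` followed by `jM`. -/
theorem qHom_j (U : Y.Opens) (hU : IsAffineOpen U) (e : Γ(E, U)) :
    ((qHom f E 𝒯 j hj M 𝒜 jM m).app U).hom ((j.app U) e) =
      (jM.app (f ⁻¹ᵁ U)) (show Γ(M, f ⁻¹ᵁ U) from (m.app U) e) := by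
  refine eq_of_affine (f ⁻¹ᵁ U) _ _ fun U' hU' hle => ?_
  have h1 := qHom_appLE f E 𝒯 j hj M 𝒜 jM m U hU U' hU' hle ((j.app U).hom e)
  rw [pairRing_j] at h1
  refine h1.trans ?_
  exact φAdd_res M 𝒜 jM hle _

section Graded

variable (𝒮' : RelProj.QCGrAlg X) (jM' : M ⟶ 𝒮'.toModule)
  (hjM : ∀ (V : X.Opens) (hV : IsAffineOpen V) (x : Γ(M, V)), (jM'.app V) x ∈ 𝒮'.deg V hV 1)

include hjM in
theorem pairRing_mem (U : Y.Opens) (hU : IsAffineOpen U) (U' : X.Opens) (hU' : IsAffineOpen U')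
    (hle : U' ≤ f ⁻¹ᵁ U) (d : ℕ) (x : 𝒯.presheaf.obj (op U)) (hx : x ∈ 𝒯.deg U hU d) :
    pairRing f E 𝒯 j hj M 𝒮'.toQCAlg jM' m U hU U' hle x ∈ 𝒮'.deg U' hU' d := by
  obtain ⟨y, hy, rfl⟩ := (mem_deg_iff E 𝒯 j hj U hU d x).mp hx
  clear hx
  induction hy using Submodule.pow_induction_on_left' with
  | algebraMap r =>
    rw [liftU_algebraMap, pairRing_str]
    exact 𝒮'.str_mem U' hU' _
  | add x y i hx hy ihx ihy =>
    rw [map_add, map_add]
    exact add_mem ihx ihy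
  | mem_mul e he i x hx ih =>
    obtain ⟨e₀, rfl⟩ := he
    rw [map_mul, map_mul]
    have h2 : pairRing f E 𝒯 j hj M 𝒮'.toQCAlg jM' m U hU U' hle
        (liftU E 𝒯.toQCAlg j U (SymmetricAlgebra.ι _ _ e₀)) ∈ 𝒮'.deg U' hU' 1 := by
      rw [liftU_ι, pairRing_j]
      exact hjM U' hU' _
    have := SetLike.mul_mem_graded (A := 𝒮'.deg U' hU') h2 ih
    rwa [add_comm] at this

/-- **The graded `f`-morphism `Sym(E) → f_* 𝒮'` extending `m`.** -/
noncomputable def qGrHom : RelProj.QGrHom f 𝒯 𝒮' :=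
  toQGrHom (pairAlgHom f E 𝒯 j hj M 𝒮'.toQCAlg jM' m)
    (fun U hU U' hU' hle d x hx => pairRing_mem f E 𝒯 j hj M m 𝒮' jM' hjM U hU U' hU' hle d x hx)

theorem qGrHom_j (U : Y.Opens) (hU : IsAffineOpen U) (e : Γ(E, U)) :
    ((qGrHom f E 𝒯 j hj M m 𝒮' jM' hjM).app U).hom ((j.app U) e) =
      (jM'.app (f ⁻¹ᵁ U)) (show Γ(M, f ⁻¹ᵁ U) from (m.app U) e) :=
  qHom_j f E 𝒯 j hj M 𝒮'.toQCAlg jM' m U hU e

end Graded

end Groth.Agent.Lib.helper28.SymPairLift
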