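import Groth.Agent.Lib.Helper28.ProjBundleHom5
import Groth.Agent.Lib.Helper28.ProjBundleFT
import Groth.Agent.Lib.Helper28.SymPairLift
import Groth.Agent.Lib.Helper28.QGrKer
import Groth.Agent.Lib.Helper28.RelTwistExists
import Groth.Agent.Lib.Helper28.RelTwistInvertible
import Groth.Agent.Lib.Helper28.SymLineProj
import Groth.Agent.Lib.Helper28.SymLineSTD
import Groth.Agent.Lib.Helper28.ProjQGlue2
import Groth.Agent.Lib.Helper28.ProjQComp
import Groth.Agent.Lib.Helper11.InvMod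
import Groth.Agent.Lib.Helper12.AmpleBasis
import Groth.Agent.S8259

/-!
# A closed subscheme of `P(E)`, `E` of finite type, is projective (helper28)

* `domQ_ofHom_eq_top`: `Proj` of a graded homomorphism surjective in every degree is everywhere
  defined.
* `isProjective_of_isClosedImmersion`: for `E` quasi-coherent of finite type on `Y` and a closed
  immersion `i : X ⟶ P(E)`, the composite `X ⟶ Y` is projective: `X ≅ Proj(𝒮)` for `𝒮` the image
  of `Sym(E) → q_* ⊕ L^n`, `L = i^* O(1)`.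
-/

set_option autoImplicit false
universe u

open CategoryTheory CategoryTheory.Limits AlgebraicGeometry TopologicalSpace Opposite
open scoped HomogeneousIdeal

namespace Groth.Agent.Lib.helper28.ProjBundleClosed

open Groth.Agent.Lib.helper28.RelTwistChart Groth.Agent.Lib.helper28.ProjQGlue

section Surj

variable {Y : Scheme.{u}} {𝒯 𝒮 : RelProj.QCGrAlg Y} (v : 𝒯.toQCAlg ⟶ 𝒮.toQCAlg)
  (hv : RelProj.IsGradedHom v)
  (hsurj : ∀ (U : Y.Opens) (hU : IsAffineOpen U) (d : ℕ) (x : 𝒮.presheaf.obj (op U)),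
    x ∈ 𝒮.deg U hU d → ∃ a ∈ 𝒯.deg U hU d, (v.hom.app (op U)).hom a = x)
  {P : Scheme.{u}} (p : P ⟶ Y)
  (chart : ∀ (U : Y.Opens) (hU : IsAffineOpen U),
    (((p ⁻¹ᵁ U : P.Opens) : Scheme.{u}) ≅ Proj (𝒮.deg U hU)))

include hsurj in
theorem domQ_ofHom_eq_top : RelProj.domQ (RelProj.QGrHom.ofHom v hv) p chart = ⊤ := by
  refine top_le_iff.mp fun z _ => ?_
  obtain ⟨⟨U, hU⟩, y, hyz⟩ := exists_mem_range_emb p chart z
  obtain ⟨d, f, hd, hf, hfy⟩ := exists_pos_notMem (𝒮.deg U hU) y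
  obtain ⟨a, ha, rfl⟩ := hsurj U hU d f hf
  have hle' : U ≤ (𝟙 Y) ⁻¹ᵁ U := le_rfl
  have hsub := Groth.Agent.Lib.helper28.ProjQComp.range_subset_domQ_of_eq
    (RelProj.QGrHom.ofHom v hv) (p' := p) (chart' := chart) U hU U hU hle'
    (RelProj.gradedHomAt v hv U hU) (ofHom_gradedAt_self v hv U hU hle') hd a ha
    ((v.hom.app (op U)).hom a) rfl hf
  have hy' : y ∈ (Proj.awayι (𝒮.deg U hU) ((v.hom.app (op U)).hom a) hf hd).opensRange := by
    rw [Proj.opensRange_awayι]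
    exact (ProjectiveSpectrum.mem_basicOpen _ _ _).mpr hfy
  obtain ⟨s, rfl⟩ := hy'
  have hmem := hsub ⟨s, by rw [Scheme.Hom.comp_apply]⟩
  rw [Scheme.Opens.range_ι, hyz] at hmem
  exact hmem

end Surj

theorem isIso_ι_of_eq_top {X : Scheme.{u}} (U : X.Opens) (h : U = ⊤) : IsIso U.ι := by
  subst h
  rw [← Scheme.topIso_hom]
  infer_instance

section Main

open Scheme.Modules Groth.Agent.Lib.helper28.ProjBundleHom Groth.Agent.Lib.helper28

variable {X Y P PL : Scheme.{u}} (E : Y.Modules) [E.IsQuasicoherent] (hE : CohB1.IsFT E)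
  (𝒯 : RelProj.QCGrAlg Y) (j : E ⟶ 𝒯.toModule) (hj : RelProj.IsGrSymAlg E 𝒯 j) (p : P ⟶ Y)
  (chart : ∀ (U : Y.Opens) (hU : IsAffineOpen U),
    ((p ⁻¹ᵁ U : P.Opens) : Scheme.{u}) ≅ Proj (𝒯.deg U hU))
  (hP : RelProj.IsRelProj 𝒯 p chart) (i : X ⟶ P) [IsClosedImmersion i]
  (O1 : P.Modules)
  (lam : ∀ (U : Y.Opens) (hU : IsAffineOpen U),
    O1 ⟶ (Scheme.Modules.pushforward (RelProj.emb p chart U hU)).obj
      (GrTwist.twist (𝒯.deg U hU) 1))
  (hO1 : RelProj.IsRelTwist 𝒯 p chart 1 O1 lam)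
  (L : X.Modules) [L.IsQuasicoherent] (hL : PicF.IsInvertible L)
  (γ : (Scheme.Modules.pullback i).obj O1 ⟶ L) [IsIso γ]
  (𝒮L : RelProj.QCGrAlg X) (jL : L ⟶ 𝒮L.toModule) (hjL : RelProj.IsGrSymAlg L 𝒮L jL)
  (pL : PL ⟶ X) (chartL : ∀ (U : X.Opens) (hU : IsAffineOpen U),
    (((pL ⁻¹ᵁ U : PL.Opens) : Scheme.{u}) ≅ Proj (𝒮L.deg U hU)))
  (hPL : RelProj.IsRelProj 𝒮L pL chartL)

include hE hj hP hO1 hL γ hjL hPL in
theorem isProjective_aux : RelProj.IsProjective (i ≫ p) := by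
  have hpLiso : IsIso pL :=
    SymLineProj.isIso_of_isInvertible L 𝒮L jL hjL pL chartL hPL hL
  obtain ⟨φ, hφ⟩ := RelTwistCanon.exists_canon_hom lam hP hO1 (d := 1) (by simp) E j hj.2
  let m : E ⟶ (Scheme.Modules.pushforward (i ≫ p)).obj L :=
    φ ≫ (Scheme.Modules.pushforward p).map (β O1 i L γ) ≫
      (Scheme.Modules.pushforwardComp i p).hom.app L
  let u₀ : RelProj.QGrHom (i ≫ p) 𝒯 𝒮L := SymPairLift.qGrHom (i ≫ p) E 𝒯 j hj L m 𝒮L jL hjL.2
  have hqcp : QuasiCompact p := ProjBundleFT.quasiCompact E 𝒯 j hj hE p chart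
  have hqc : ∀ U : Y.Opens, IsAffineOpen U → IsCompact (((i ≫ p) ⁻¹ᵁ U : X.Opens) : Set X) := by
    have : QuasiCompact (i ≫ p) := inferInstance
    exact quasiCompact_iff_forall_isAffineOpen.mp this
  have hgen : 𝒯.IsGenDegOne := ProjBundleQuot.isGenDegOne_of_isGrSymAlg E 𝒯 j hj
  let 𝒮 : RelProj.QCGrAlg Y := QGrKer.im u₀ hqc
  let v : 𝒯.toQCAlg ⟶ 𝒮.toQCAlg := QGrKer.toIm u₀ hqc
  have hv : RelProj.IsGradedHom (𝒜 := 𝒯) (ℬ := 𝒮) v := QGrKer.isGradedHom_toIm u₀ hqc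
  let u' : RelProj.QGrHom (i ≫ p) 𝒮 𝒮L := QGrKer.ofIm u₀ hqc
  let u'' : RelProj.QGrHom (i ≫ p) 𝒯 𝒮L := precomp v hv u'
  have hu'' : ∀ (U : Y.Opens) (_ : IsAffineOpen U) (e : Γ(E, U)),
      (u''.app U).hom ((j.app U) e) = (jL.app ((i ≫ p) ⁻¹ᵁ U))
        (show Γ(L, (i ≫ p) ⁻¹ᵁ U) from (β O1 i L γ).app (p ⁻¹ᵁ U) ((φ.app U) e)) := by
    intro U hU e
    change (u'.app U).hom ((v.hom.app (op U)).hom ((j.app U).hom e)) = _
    rw [QGrKer.ofIm_toIm u₀ hqc U hU]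
    exact SymPairLift.qGrHom_j (i ≫ p) E 𝒯 j hj L m 𝒮L jL hjL.2 U hU e
  have hφ' : ∀ (U : Y.Opens) (hU : IsAffineOpen U) (e : Γ(E, U))
      (y : ↥(RelProj.emb p chart U hU ⁻¹ᵁ (p ⁻¹ᵁ U))),
      GrTwist.val (V := RelProj.emb p chart U hU ⁻¹ᵁ (p ⁻¹ᵁ U))
          ((lam U hU).app (p ⁻¹ᵁ U) ((φ.app U) e)) y =
        algebraMap (𝒯.presheaf.obj (op U)) (GrTwist.Loc (𝒯.deg U hU) y.1)
          ((j.app U) e : 𝒯.presheaf.obj (op U)) := fun U hU e y => hφ U hU e y.1 y.2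
  have hdom'' : RelProj.domQ u'' pL chartL = ⊤ :=
    domQ_eq_top E 𝒯 j hj p chart O1 lam hO1 φ hφ' i L γ 𝒮L jL hjL u'' hu'' pL chartL
  obtain ⟨r'', hr''₀, -⟩ := existsUnique_glue u'' (p := p) (chart := chart) (p' := pL)
    (chart' := chartL) hP hPL
  have hr'' : RelProj.IsProjQMapOn u'' p chart pL chartL (RelProj.domQ u'' pL chartL) r'' :=
    (ProjQComp.isProjQMapOn_iff u'' r'').mpr hr''₀
  have hr''eq := eq_of_isProjQMapOn E 𝒯 j hj p chart O1 lam hO1 φ hφ' i L γ 𝒮L jL hjL u'' hu''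
    pL chartL hPL r'' hr''
  obtain ⟨PS, pS, chartS, hPS⟩ := RelProjExists.exists_relProj 𝒮
  obtain ⟨r', hr'₀, -⟩ := existsUnique_glue u' (p := pS) (chart := chartS) (p' := pL)
    (chart' := chartL) hPS hPL
  have hle := ProjQComp.domQ_comp_le v hv u' u'' (fun _ => rfl) (p' := pL) (chart' := chartL)
  have htop : RelProj.domQ u' pL chartL = ⊤ := top_le_iff.mp (hdom'' ▸ hle)
  obtain ⟨Φ, hΦ, -⟩ := existsUnique_glue (RelProj.QGrHom.ofHom v hv) (p := p) (chart := chart)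
    (p' := pS) (chart' := chartS) hP hPS
  have hb := ProjQComp.liftToDom_comp v hv u' u'' (fun _ => rfl) r' hr'₀ Φ hΦ r'' hr''₀
  have hbι := ProjQComp.liftToDom_ι v hv u' u'' (fun _ => rfl) r' hr'₀
  have hGv : RelProj.domQ (RelProj.QGrHom.ofHom v hv) pS chartS = ⊤ :=
    domQ_ofHom_eq_top v hv
      (fun U hU d x hx => (QGrKer.mem_deg_im_iff u₀ hqc U hU d x).mp hx) pS chartS
  have hι'' : IsIso (RelProj.domQ u'' pL chartL).ι := isIso_ι_of_eq_top _ hdom''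
  have hι' : IsIso (RelProj.domQ u' pL chartL).ι := isIso_ι_of_eq_top _ htop
  have hιv : IsIso (RelProj.domQ (RelProj.QGrHom.ofHom v hv) pS chartS).ι :=
    isIso_ι_of_eq_top _ hGv
  have hcl'' : IsClosedImmersion r'' := by
    rw [hr''eq]
    infer_instance
  have h1 : IsClosedImmersion
      (ProjQComp.liftToDom v hv u' u'' (fun _ => rfl) r' hr'₀ ≫ Φ) := by
    rw [hb]
    exact hcl''
  have hΦp := glue_comp_p (RelProj.QGrHom.ofHom v hv) hP hPS Φ hΦ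
  have hsepS : IsSeparated pS := Groth.Agent.S8259.result 𝒮 pS chartS hPS
  have hΦsep : IsSeparated Φ := by
    have : IsSeparated (Φ ≫ p) := by
      rw [hΦp]
      infer_instance
    exact IsSeparated.of_comp Φ p
  have h2 : IsClosedImmersion (ProjQComp.liftToDom v hv u' u'' (fun _ => rfl) r' hr'₀) :=
    IsClosedImmersion.of_comp _ Φ
  have h3 : IsClosedImmersion (PL.homOfLE hle ≫ r') := by
    rw [← hbι]
    infer_instance
  have e : RelProj.domQ u'' pL chartL = RelProj.domQ u' pL chartL := hdom''.trans htop.symm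
  have h4 : r' = (PL.isoOfEq e).inv ≫ (PL.homOfLE hle ≫ r') := by
    rw [← Category.assoc]
    have : (PL.isoOfEq e).inv ≫ PL.homOfLE hle = 𝟙 _ := (PL.isoOfEq e).inv_hom_id
    rw [this, Category.id_comp]
  have hcl' : IsClosedImmersion r' := by
    rw [h4]
    infer_instance
  have hstd : IsSchemeTheoreticallyDominant r' :=
    SymLineSTD.isSchemeTheoreticallyDominant u' r' hr'₀ (fun y => by
      obtain ⟨V, hV, hyV, -⟩ := (Opens.isBasis_iff_nbhd.mp Y.isBasis_affineOpens)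
        (show y ∈ (⊤ : Y.Opens) from trivial)
      exact ⟨V, hV, hyV, hqc V hV, QGrKer.ofIm_injective u₀ hqc V hV⟩)
  have hiso' : IsIso r' := IsClosedImmersion.isIso_iff_ker_eq_bot.mpr hstd.ker_eq_bot
  have hr'p := glue_comp_p u' hPS hPL r' hr'₀
  refine ⟨𝒮, PS, pS, chartS, asIso (inv pL ≫ inv (RelProj.domQ u' pL chartL).ι ≫ r'),
    QGrKer.isGenDegOne_im u₀ hqc hgen,
    QGrKer.isFTDeg_im u₀ hqc 1 (ProjBundleFT.isFTDeg_one E 𝒯 j hj hE), hPS, ?_⟩
  rw [asIso_hom, Category.assoc, Category.assoc, hr'p, IsIso.inv_hom_id_assoc,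
    IsIso.inv_hom_id_assoc]

include hE hj hP in
/-- **A closed subscheme of `P(E)`, `E` quasi-coherent of finite type, is projective.** -/
theorem isProjective_of_isClosedImmersion : RelProj.IsProjective (i ≫ p) := by
  obtain ⟨O1, lam, hO1⟩ := RelTwistExists.exists_isRelTwist 𝒯 p chart hP 1
  have hgen : 𝒯.IsGenDegOne := ProjBundleQuot.isGenDegOne_of_isGrSymAlg E 𝒯 j hj
  have hO1inv : PicF.IsInvertible O1 := RelTwistInvertible.isInvertible lam hgen hO1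
  have hL : PicF.IsInvertible ((Scheme.Modules.pullback i).obj O1) :=
    Groth.Agent.Lib.helper11.InvMod.isInvertible_pullback i hO1inv
  have : ((Scheme.Modules.pullback i).obj O1).IsQuasicoherent :=
    Groth.Agent.Lib.helper12.AmpleBasis.isQuasicoherent_of_isInvertible hL
  obtain ⟨𝒮L, jL, hjL⟩ := SymGradedExists.exists_isGrSymAlg ((Scheme.Modules.pullback i).obj O1)
  obtain ⟨PL, pL, chartL, hPL⟩ := RelProjExists.exists_relProj 𝒮L
  exact isProjective_aux E hE 𝒯 j hj p chart hP i O1 lam hO1 _ hL (𝟙 _) 𝒮L jL hjL pL chartL hPL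

end Main

end Groth.Agent.Lib.helper28.ProjBundleClosed
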