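import Groth.Agent.Lib.Helper28.SymPairLift

/-!
# `Sym(E) → f_* 𝒜` on generators over arbitrary opens (helper28)

`qHom_j_all`, `qGrHom_j_all`: the formula `u(j(e)) = jM(m(e))` of `SymPairLift.qHom_j` over every
open of the base (not only the affine ones).
-/

set_option autoImplicit false
universe u

namespace Groth.Agent.Lib.helper28.SymPairLift

open CategoryTheory CategoryTheory.Limits AlgebraicGeometry TopologicalSpace Opposite
open Groth.Agent.Lib.helper28.SymAlg Groth.Agent.Lib.helper28.SymLoc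
  Groth.Agent.Lib.helper28.SymSheaf Groth.Agent.Lib.helper28
open Groth.Agent.Lib.helper28.PairGlue

variable {X Y : Scheme.{u}} (f : X ⟶ Y) (E : Y.Modules) [E.IsQuasicoherent]
  (𝒯 : RelProj.QCGrAlg Y) (j : E ⟶ 𝒯.toModule) (hj : RelProj.IsGrSymAlg E 𝒯 j)
  (M : X.Modules) [M.IsQuasicoherent] (𝒜 : RelSpec.QCAlg X) (jM : M ⟶ 𝒜.toModule)
  (m : E ⟶ (Scheme.Modules.pushforward f).obj M)

theorem qHom_j_all (U : Y.Opens) (e : Γ(E, U)) :
    ((qHom f E 𝒯 j hj M 𝒜 jM m).app U).hom ((j.app U) e) =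
      (jM.app (f ⁻¹ᵁ U)) (show Γ(M, f ⁻¹ᵁ U) from (m.app U) e) := by
  refine TopCat.Sheaf.eq_of_locally_eq' (shf 𝒜) (fun k : AffIn U => f ⁻¹ᵁ k.1) (f ⁻¹ᵁ U)
    (fun k => homOfLE (f.preimage_mono k.2.2)) ?_ _ _ (fun k => ?_)
  · intro x hx
    obtain ⟨k, hk⟩ := Opens.mem_iSup.mp (le_iSup_affIn U (show f x ∈ U from hx))
    exact Opens.mem_iSup.mpr ⟨k, hk⟩
  · obtain ⟨V, hV, hle⟩ := k
    change (𝒜.presheaf.map (homOfLE (f.preimage_mono hle)).op).hom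
        (((qHom f E 𝒯 j hj M 𝒜 jM m).app U).hom ((j.app U).hom e)) =
      (𝒜.presheaf.map (homOfLE (f.preimage_mono hle)).op).hom
        ((jM.app (f ⁻¹ᵁ U)).hom (show Γ(M, f ⁻¹ᵁ U) from (m.app U).hom e))
    have h1 : (𝒜.presheaf.map (homOfLE (f.preimage_mono hle)).op).hom
        (((qHom f E 𝒯 j hj M 𝒜 jM m).app U).hom ((j.app U).hom e)) =
        ((qHom f E 𝒯 j hj M 𝒜 jM m).app V).hom
          ((𝒯.presheaf.map (homOfLE hle).op).hom ((j.app U).hom e)) :=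
      congrArg (fun k => k.hom ((j.app U).hom e)) ((qHom f E 𝒯 j hj M 𝒜 jM m).naturality hle)
    have h2 : (𝒯.presheaf.map (homOfLE hle).op).hom ((j.app U).hom e) =
        (j.app V).hom (E.presheaf.map (homOfLE hle).op e) :=
      (Groth.Agent.Lib.helper16.QCohEpi.app_map j hle e).symm
    have h3 := qHom_j f E 𝒯 j hj M 𝒜 jM m V hV (E.presheaf.map (homOfLE hle).op e)
    have h4 : (m.app V).hom (E.presheaf.map (homOfLE hle).op e) =
        ((Scheme.Modules.pushforward f).obj M).presheaf.map (homOfLE hle).op ((m.app U).hom e) :=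
      Groth.Agent.Lib.helper16.QCohEpi.app_map m hle e
    have h5 : (𝒜.presheaf.map (homOfLE (f.preimage_mono hle)).op).hom
        ((jM.app (f ⁻¹ᵁ U)).hom (show Γ(M, f ⁻¹ᵁ U) from (m.app U).hom e)) =
        (jM.app (f ⁻¹ᵁ V)).hom (M.presheaf.map (homOfLE (f.preimage_mono hle)).op
          (show Γ(M, f ⁻¹ᵁ U) from (m.app U).hom e)) :=
      (Groth.Agent.Lib.helper16.QCohEpi.app_map jM (f.preimage_mono hle) _).symm
    rw [h1, h2, h5]
    refine h3.trans ?_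
    exact congrArg (fun z => (jM.app (f ⁻¹ᵁ V)).hom z) h4

variable (𝒮' : RelProj.QCGrAlg X) (jM' : M ⟶ 𝒮'.toModule)
  (hjM : ∀ (V : X.Opens) (hV : IsAffineOpen V) (x : Γ(M, V)), (jM'.app V) x ∈ 𝒮'.deg V hV 1)

theorem qGrHom_j_all (U : Y.Opens) (e : Γ(E, U)) :
    ((qGrHom f E 𝒯 j hj M m 𝒮' jM' hjM).app U).hom ((j.app U) e) =
      (jM'.app (f ⁻¹ᵁ U)) (show Γ(M, f ⁻¹ᵁ U) from (m.app U) e) :=
  qHom_j_all f E 𝒯 j hj M 𝒮'.toQCAlg jM' m U e

end Groth.Agent.Lib.helper28.SymPairLift
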