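import Groth.Agent.Lib.Helper28.VeryAmpleFT
import Groth.Agent.Lib.Helper28.RLpsiTwist
import Groth.Agent.Lib.Helper28.SymPairLift2
import Groth.Agent.Lib.Helper28.ProjBundleClosed

/-!
# A relatively very ample module comes from `P(E)` with `E` of finite type (helper28; EGA II 4.4.7)

* `exists_u_of_isRelVeryAmple`: the very ample datum as a graded `q`-morphism
  `u : Sym(F) → q_* Sym(L)` with `Proj(u)` everywhere defined and an immersion.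
* `exists_ft`: `Y` qcqs, `q` of finite type, `L` very ample relative to `q`: the module `E` of the
  definition can be taken of finite type.
-/

set_option autoImplicit false
universe u

open CategoryTheory CategoryTheory.Limits AlgebraicGeometry TopologicalSpace Opposite

namespace Groth.Agent.Lib.helper28.VeryAmpleFT

open Groth.Agent.Lib.helper28 Groth.Agent.Lib.helper28.SymAlg
  Groth.Agent.Lib.helper28.FTSubSym Groth.Agent.Lib.helper28.ProjQGlue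
  Groth.Agent.Lib.helper28.ProjBundleHom

section FromData

open Scheme.Modules

variable {X Y P PL : Scheme.{u}} (F : Y.Modules) [F.IsQuasicoherent]
  (𝒯 : RelProj.QCGrAlg Y) (jF : F ⟶ 𝒯.toModule) (h𝒯 : RelProj.IsGrSymAlg F 𝒯 jF) (p : P ⟶ Y)
  (chart : ∀ (U : Y.Opens) (hU : IsAffineOpen U),
    ((p ⁻¹ᵁ U : P.Opens) : Scheme.{u}) ≅ Proj (𝒯.deg U hU))
  (hP : RelProj.IsRelProj 𝒯 p chart) (O1 : P.Modules)
  (lam : ∀ (U : Y.Opens) (hU : IsAffineOpen U),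
    O1 ⟶ (Scheme.Modules.pushforward (RelProj.emb p chart U hU)).obj
      (GrTwist.twist (𝒯.deg U hU) 1))
  (hO1 : RelProj.IsRelTwist 𝒯 p chart 1 O1 lam)
  (i : X ⟶ P) (L : X.Modules) [L.IsQuasicoherent]
  (γ : (Scheme.Modules.pullback i).obj O1 ⟶ L) [IsIso γ]
  (𝒮L : RelProj.QCGrAlg X) (jL : L ⟶ 𝒮L.toModule) (hjL : RelProj.IsGrSymAlg L 𝒮L jL)
  (pL : PL ⟶ X) (chartL : ∀ (U : X.Opens) (hU : IsAffineOpen U),
    (((pL ⁻¹ᵁ U : PL.Opens) : Scheme.{u}) ≅ Proj (𝒮L.deg U hU)))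
  (hPL : RelProj.IsRelProj 𝒮L pL chartL)

include h𝒯 hP hO1 hjL hPL γ in
/-- The very ample datum `(F, i, γ)` as a graded morphism `u : Sym(F) → (i ≫ p)_* Sym(L)` with
`Proj(u) = i`. -/
theorem exists_u :
    ∃ (m : F ⟶ (Scheme.Modules.pushforward (i ≫ p)).obj L) (u : RelProj.QGrHom (i ≫ p) 𝒯 𝒮L),
      (∀ (U : Y.Opens) (e : Γ(F, U)), (u.app U).hom ((jF.app U) e) =
        (jL.app ((i ≫ p) ⁻¹ᵁ U)) (show Γ(L, (i ≫ p) ⁻¹ᵁ U) from (m.app U) e)) ∧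
      RelProj.domQ u pL chartL = ⊤ ∧
      ∀ r : ((RelProj.domQ u pL chartL : PL.Opens) : Scheme.{u}) ⟶ P,
        RelProj.IsProjQMapOn u p chart pL chartL (RelProj.domQ u pL chartL) r →
          r = (RelProj.domQ u pL chartL).ι ≫ pL ≫ i := by
  obtain ⟨φ, hφ⟩ := RelTwistCanon.exists_canon_hom lam hP hO1 (d := 1) (by simp) F jF h𝒯.2
  let m : F ⟶ (Scheme.Modules.pushforward (i ≫ p)).obj L :=
    φ ≫ (Scheme.Modules.pushforward p).map (β O1 i L γ) ≫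
      (Scheme.Modules.pushforwardComp i p).hom.app L
  let u : RelProj.QGrHom (i ≫ p) 𝒯 𝒮L := SymPairLift.qGrHom (i ≫ p) F 𝒯 jF h𝒯 L m 𝒮L jL hjL.2
  have hu : ∀ (U : Y.Opens) (_ : IsAffineOpen U) (e : Γ(F, U)),
      (u.app U).hom ((jF.app U) e) = (jL.app ((i ≫ p) ⁻¹ᵁ U))
        (show Γ(L, (i ≫ p) ⁻¹ᵁ U) from (β O1 i L γ).app (p ⁻¹ᵁ U) ((φ.app U) e)) :=
    fun U hU e => SymPairLift.qGrHom_j (i ≫ p) F 𝒯 jF h𝒯 L m 𝒮L jL hjL.2 U hU e
  have hφ' : ∀ (U : Y.Opens) (hU : IsAffineOpen U) (e : Γ(F, U))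
      (y : ↥(RelProj.emb p chart U hU ⁻¹ᵁ (p ⁻¹ᵁ U))),
      GrTwist.val (V := RelProj.emb p chart U hU ⁻¹ᵁ (p ⁻¹ᵁ U))
          ((lam U hU).app (p ⁻¹ᵁ U) ((φ.app U) e)) y =
        algebraMap (𝒯.presheaf.obj (op U)) (GrTwist.Loc (𝒯.deg U hU) y.1)
          ((jF.app U) e : 𝒯.presheaf.obj (op U)) := fun U hU e y => hφ U hU e y.1 y.2
  refine ⟨m, u, fun U e => SymPairLift.qGrHom_j_all (i ≫ p) F 𝒯 jF h𝒯 L m 𝒮L jL hjL.2 U e, ?_, ?_⟩
  · exact domQ_eq_top F 𝒯 jF h𝒯 p chart O1 lam hO1 φ hφ' i L γ 𝒮L jL hjL u hu pL chartL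
  · intro r hr
    exact eq_of_isProjQMapOn F 𝒯 jF h𝒯 p chart O1 lam hO1 φ hφ' i L γ 𝒮L jL hjL u hu pL chartL
      hPL r hr

end FromData

/-- **EGA II 4.4.7**: over a quasi-compact quasi-separated base, a module very ample relative to a
morphism of finite type is the pullback of `O(1)` along an immersion into `P(E)`, `E` of finite
type. -/
theorem exists_ft {X Y : Scheme.{u}} [CompactSpace Y] [QuasiSeparatedSpace Y] (q : X ⟶ Y)
    [QuasiCompact q] [LocallyOfFiniteType q] (L : X.Modules) (hL : PicF.IsInvertible L)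
    (h : RelProj.IsRelVeryAmple q L) :
    ∃ (E : Y.Modules) (𝒯 : RelProj.QCGrAlg Y) (j : E ⟶ 𝒯.toModule) (P : Scheme.{u}) (p : P ⟶ Y)
      (chart : ∀ (U : Y.Opens) (hU : IsAffineOpen U),
        ((p ⁻¹ᵁ U : P.Opens) : Scheme.{u}) ≅ Proj (𝒯.deg U hU))
      (O1 : P.Modules)
      (lam : ∀ (U : Y.Opens) (hU : IsAffineOpen U),
        O1 ⟶ (Scheme.Modules.pushforward (RelProj.emb p chart U hU)).obj
          (GrTwist.twist (𝒯.deg U hU) 1))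
      (i : X ⟶ P),
      Coh.IsQCoh E ∧ CohB1.IsFT E ∧ RelProj.IsGrSymAlg E 𝒯 j ∧ RelProj.IsRelProj 𝒯 p chart ∧
        RelProj.IsRelTwist 𝒯 p chart 1 O1 lam ∧ IsImmersion i ∧ i ≫ p = q ∧
        Nonempty (L ≅ (Scheme.Modules.pullback i).obj O1) := by
  obtain ⟨F, hFq, 𝒯, jF, h𝒯, P, p, chart, hP, O1, lam, hO1, i, himm, hip, ⟨e⟩⟩ := h
  subst hip
  have : F.IsQuasicoherent := hFq
  have hLq : L.IsQuasicoherent :=
    Groth.Agent.Lib.helper12.AmpleBasis.isQuasicoherent_of_isInvertible hL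
  obtain ⟨𝒮L, jL, hjL⟩ := SymGradedExists.exists_isGrSymAlg L
  obtain ⟨PL, pL, chartL, hPL⟩ := RelProjExists.exists_relProj 𝒮L
  have hpL : IsIso pL := SymLineProj.isIso_of_isInvertible L 𝒮L jL hjL pL chartL hPL hL
  obtain ⟨m, u, -, hdom, hreq⟩ := exists_u F 𝒯 jF h𝒯 p chart hP O1 lam hO1 i L e.inv 𝒮L jL hjL
    pL chartL hPL
  obtain ⟨r, hr₀, -⟩ := existsUnique_glue u (p := p) (chart := chart) (p' := pL)
    (chart' := chartL) hP hPL
  have hr : RelProj.IsProjQMapOn u p chart pL chartL (RelProj.domQ u pL chartL) r :=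
    (ProjQComp.isProjQMapOn_iff u r).mpr hr₀
  have hι : IsIso (RelProj.domQ u pL chartL).ι := ProjBundleClosed.isIso_ι_of_eq_top _ hdom
  have himmr : IsImmersion r := by
    rw [hreq r hr]
    infer_instance
  obtain ⟨a, hdoma, himma⟩ := exists_ftSub (i ≫ p) L hL 𝒮L jL hjL pL chartL hPL 𝒯 jF h𝒯 u p
    chart hP r hr hdom himmr
  obtain ⟨P', p', chart', hP'⟩ := RelProjExists.exists_relProj (FTSub.alg a)
  obtain ⟨r', hr'₀, -⟩ := existsUnique_glue (uOf (i ≫ p) 𝒮L 𝒯 jF h𝒯 u a) (p := p')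
    (chart := chart') (p' := pL) (chart' := chartL) hP' hPL
  have hr' : RelProj.IsProjQMapOn (uOf (i ≫ p) 𝒮L 𝒯 jF h𝒯 u a) p' chart' pL chartL
      (RelProj.domQ (uOf (i ≫ p) 𝒮L 𝒯 jF h𝒯 u a) pL chartL) r' :=
    (ProjQComp.isProjQMapOn_iff _ r').mpr hr'₀
  have himm' : IsImmersion r' := himma P' p' chart' hP' r' hr'
  obtain ⟨O1', lam', hO1'⟩ := RelTwistExists.exists_isRelTwist (FTSub.alg a) p' chart' hP' 1
  have hgs := isGrSymAlg_gsym a.E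
  have h1' : (FTSub.alg a).IsGenDegOne :=
    ProjBundleQuot.isGenDegOne_of_isGrSymAlg a.E (FTSub.alg a) (SymAlg.j a.E) hgs
  have hsurj' : ∀ x : X, ∃ (U : Y.Opens) (hU : IsAffineOpen U)
      (e : (FTSub.alg a).presheaf.obj (op U)) (_ : e ∈ (FTSub.alg a).deg U hU 1) (V : X.Opens)
      (hV : IsAffineOpen V) (hVU : V ≤ (i ≫ p) ⁻¹ᵁ U), x ∈ V ∧
        ((𝒮L.deg V hV 1 : AddSubgroup (𝒮L.presheaf.obj (op V))) :
          Set (𝒮L.presheaf.obj (op V))) ⊆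
          (Ideal.span {((uOf (i ≫ p) 𝒮L 𝒯 jF h𝒯 u a).appLE U V hVU).hom e} :
            Set (𝒮L.presheaf.obj (op V))) := by
    intro x
    obtain ⟨U, hU, e', V, hV, hVU, hxV, hspan⟩ := RLpsiTwist.exists_gen_of_domQ_eq_top (i ≫ p)
      L hL 𝒮L jL hjL pL chartL hPL a.E (FTSub.alg a) (SymAlg.j a.E) hgs
      (uOf (i ≫ p) 𝒮L 𝒯 jF h𝒯 u a) hdoma x
    exact ⟨U, hU, _, hgs.2 U hU e', V, hV, hVU, hxV, hspan⟩
  obtain ⟨hpLiso, hιiso, i', hi'eq, hi'p, ⟨e'⟩⟩ := RLpsiTwist.exists_pullback_iso (i ≫ p) L hL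
    𝒮L jL hjL pL chartL hPL (FTSub.alg a) h1' (uOf (i ≫ p) 𝒮L 𝒯 jF h𝒯 u a) hsurj' p' chart' hP'
    r' hr' O1' lam' hO1'
  have himmi' : IsImmersion i' := by
    rw [hi'eq]
    infer_instance
  exact ⟨a.E, FTSub.alg a, SymAlg.j a.E, P', p', chart', O1', lam', i', a.qc, a.ft, hgs, hP',
    hO1', himmi', hi'p, ⟨e'⟩⟩

end Groth.Agent.Lib.helper28.VeryAmpleFT
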