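import Groth.Agent.S12478
import Groth.Agent.Lib.Helper28.VeryAmpleFT2
import Groth.Agent.Lib.Helper28.ProjBundleClosed2
import Groth.Agent.Lib.Helper28.ProjectiveProps
import Groth.Agent.Lib.Helper12.RelAmpleComp

/-!
# Quasi-projective morphisms over a quasi-compact (quasi-separated) base (helper28)

* `exists_veryAmple`: `Y` quasi-compact, `f` quasi-projective ⇒ some invertible module is very
  ample relative to `f`.
* `exists_open_dense_immersion`: `Y` qcqs, `q` of finite type, `L` very ample ⇒ `X` is a dense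
  open subscheme of some `Proj(𝒮)`, `𝒮` generated in degree one with `𝒮_1` of finite type, and
  `L` is the restriction of `O(1)` (EGA II 4.4.7 + 5.3.2).
* `exists_closedImmersion_of_isProper`, `isProjective_of_isProper`: `Y` qcqs, `f` proper and
  quasi-projective ⇒ `f` projective (EGA II 5.5.3 (ii)).
-/

set_option autoImplicit false
universe u

open CategoryTheory CategoryTheory.Limits AlgebraicGeometry TopologicalSpace Opposite
open scoped HomogeneousIdeal

namespace Groth.Agent.Lib.helper28.QProjTools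

open Groth.Agent.Lib.helper28

theorem exists_veryAmple {X Y : Scheme.{u}} [CompactSpace Y] (f : X ⟶ Y)
    (hf : RelProj.IsQuasiProjective f) :
    ∃ M : X.Modules, PicF.IsInvertible M ∧ RelProj.IsRelVeryAmple f M := by
  obtain ⟨hft, hqc, L, hL⟩ := hf
  have hLinv := Groth.Agent.Lib.helper12.RelAmpleComp.isInvertible_of_isRelAmple f hL
  obtain ⟨n₀, -, hn₀⟩ := Groth.Agent.S12478.result f L hLinv hL
  exact ⟨CohB1.tensorPow L n₀,
    Groth.Agent.Lib.helper12.TensorInv.isInvertible_tensorPow hLinv n₀, hn₀ n₀ le_rfl⟩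

theorem exists_open_dense_immersion {X Y : Scheme.{u}} [CompactSpace Y] [QuasiSeparatedSpace Y]
    (q : X ⟶ Y) [QuasiCompact q] [LocallyOfFiniteType q]
    (L : X.Modules) (hL : PicF.IsInvertible L) (h : RelProj.IsRelVeryAmple q L) :
    ∃ (𝒮 : RelProj.QCGrAlg Y) (P : Scheme.{u}) (p : P ⟶ Y)
      (chart : ∀ (U : Y.Opens) (hU : IsAffineOpen U),
        ((p ⁻¹ᵁ U : P.Opens) : Scheme.{u}) ≅ Proj (𝒮.deg U hU))
      (O1 : P.Modules)
      (lam : ∀ (U : Y.Opens) (hU : IsAffineOpen U),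
        O1 ⟶ (Scheme.Modules.pushforward (RelProj.emb p chart U hU)).obj
          (GrTwist.twist (𝒮.deg U hU) 1))
      (i : X ⟶ P),
      𝒮.IsGenDegOne ∧ 𝒮.IsFTDeg 1 ∧ RelProj.IsRelProj 𝒮 p chart ∧
        RelProj.IsRelTwist 𝒮 p chart 1 O1 lam ∧
        IsOpenImmersion i ∧ Dense (Set.range i.base) ∧ i ≫ p = q ∧
        Nonempty (L ≅ (Scheme.Modules.pullback i).obj O1) := by
  obtain ⟨E, 𝒯, j, P₀, p₀, chart₀, O1₀, lam₀, i₀, hEq, hEft, hj, hP₀, hO1₀, himm, hip, ⟨e₀⟩⟩ :=
    VeryAmpleFT.exists_ft q L hL h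
  have : E.IsQuasicoherent := hEq
  have hsep : IsSeparated p₀ := Groth.Agent.S8259.result 𝒯 p₀ chart₀ hP₀
  have hqci : QuasiCompact i₀ := by
    have : QuasiCompact (i₀ ≫ p₀) := by
      rw [hip]
      infer_instance
    exact QuasiCompact.of_comp i₀ p₀
  have hgen : 𝒯.IsGenDegOne := ProjBundleQuot.isGenDegOne_of_isGrSymAlg E 𝒯 j hj
  have hO1inv : PicF.IsInvertible O1₀ := RelTwistInvertible.isInvertible lam₀ hgen hO1₀
  have hL' : PicF.IsInvertible ((Scheme.Modules.pullback i₀.imageι).obj O1₀) :=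
    Groth.Agent.Lib.helper11.InvMod.isInvertible_pullback _ hO1inv
  have : ((Scheme.Modules.pullback i₀.imageι).obj O1₀).IsQuasicoherent :=
    Groth.Agent.Lib.helper12.AmpleBasis.isQuasicoherent_of_isInvertible hL'
  obtain ⟨𝒮L, jL, hjL⟩ := SymGradedExists.exists_isGrSymAlg
    ((Scheme.Modules.pullback i₀.imageι).obj O1₀)
  obtain ⟨PL, pL, chartL, hPL⟩ := RelProjExists.exists_relProj 𝒮L
  obtain ⟨𝒮, PS, pS, chartS, e, hgenS, hftS, hPS, hep, htw⟩ :=
    ProjBundleClosed2.exists_proj_twist E hEft 𝒯 j hj p₀ chart₀ hP₀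
      i₀.imageι O1₀ lam₀ hO1₀ _ hL' (𝟙 _) 𝒮L jL hjL pL chartL hPL
  obtain ⟨O1S, lamS, hO1S⟩ := RelTwistExists.exists_isRelTwist 𝒮 pS chartS hPS 1
  obtain ⟨eL⟩ := htw O1S lamS hO1S
  refine ⟨𝒮, PS, pS, chartS, O1S, lamS, i₀.toImage ≫ e.hom, hgenS, hftS, hPS, hO1S,
    inferInstance, ?_, ?_, ?_⟩
  · have hd : DenseRange i₀.toImage := i₀.toImage.denseRange
    have hs : Function.Surjective e.hom := e.hom.surjective
    have := hs.denseRange.comp hd e.hom.continuous
    exact this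
  · rw [Category.assoc, hep, Scheme.Hom.toImage_imageι_assoc, hip]
  · exact ⟨e₀ ≪≫ (Scheme.Modules.pullbackCongr (i₀.toImage_imageι).symm).app O1₀ ≪≫
      ((Scheme.Modules.pullbackComp i₀.toImage i₀.imageι).app O1₀).symm ≪≫
      (Scheme.Modules.pullback i₀.toImage).mapIso eL ≪≫
      (Scheme.Modules.pullbackComp i₀.toImage e.hom).app O1S⟩

theorem isProjective_of_isProper {X Y : Scheme.{u}} [CompactSpace Y] [QuasiSeparatedSpace Y]
    (f : X ⟶ Y) [IsProper f] (hq : RelProj.IsQuasiProjective f) : RelProj.IsProjective f := by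
  obtain ⟨M, hM, hva⟩ := exists_veryAmple f hq
  have : LocallyOfFiniteType f := hq.1
  obtain ⟨E, 𝒯, j, P₀, p₀, chart₀, O1₀, lam₀, i₀, hEq, hEft, hj, hP₀, hO1₀, himm, hip, -⟩ :=
    VeryAmpleFT.exists_ft f M hM hva
  have hsep : IsSeparated p₀ := Groth.Agent.S8259.result 𝒯 p₀ chart₀ hP₀
  have hprop : IsProper i₀ := by
    have : IsProper (i₀ ≫ p₀) := by
      rw [hip]
      infer_instance
    exact IsProper.of_comp i₀ p₀
  have hcl : IsClosedImmersion i₀ :=
    IsClosedImmersion.of_isPreimmersion i₀ i₀.isClosedMap.isClosed_range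
  exact (ProjectiveProps.isProjective_iff f).mpr
    ⟨E, 𝒯, j, P₀, p₀, chart₀, i₀, hEq, hEft, hj, hP₀, hcl, hip⟩

end Groth.Agent.Lib.helper28.QProjTools
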