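import Groth.Agent.Lib.Helper28.GMTildeQCoh

/-!
# `M~ = 0` on `Proj` when the pieces of `M` of large degree vanish (helper28)
-/

set_option autoImplicit false
universe u

open CategoryTheory AlgebraicGeometry Opposite TopologicalSpace

namespace Groth.Agent.Lib.helper28.GMTildeTN

open Groth.Agent.Lib.helper28.GMTildeQCoh

variable {A σ : Type u} [CommRing A] [SetLike σ A] [AddSubgroupClass σ A] (𝒜 : ℕ → σ)
  [GradedRing 𝒜]
variable {M τ : Type u} [AddCommGroup M] [Module A M] [SetLike τ M] [AddSubgroupClass τ M]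
  (ℳ : ℕ → τ) [DirectSum.Decomposition ℳ] [SetLike.GradedSMul 𝒜 ℳ]

/-- A point of `Proj` avoids some homogeneous element of positive degree. -/
theorem exists_pos_notMem (x : ProjectiveSpectrum 𝒜) :
    ∃ (e : ℕ) (g : A), 0 < e ∧ g ∈ 𝒜 e ∧ g ∉ x.asHomogeneousIdeal := by
  classical
  by_contra hcon
  simp only [not_exists, not_and, not_not] at hcon
  apply x.not_irrelevant_le
  rw [HomogeneousIdeal.irrelevant_le]
  intro i hi a ha
  exact hcon i a hi ha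

theorem tildeAt_eq_bot (hTN : ∃ n₀ : ℕ, ∀ k : ℕ, n₀ ≤ k → ∀ m ∈ ℳ k, m = 0) (n : ℤ)
    (x : ProjectiveSpectrum 𝒜) : GrMod.tildeAt 𝒜 ℳ n x = ⊥ := by
  obtain ⟨n₀, hn₀⟩ := hTN
  rw [eq_bot_iff]
  refine Submodule.span_le.mpr ?_
  rintro q ⟨i, j, m, s, hs, -, rfl⟩
  obtain ⟨e, g, he, hg, hgx⟩ := exists_pos_notMem 𝒜 x
  change LocalizedModule.mk (m : M) ⟨(s : A), hs⟩ = 0
  rw [mk_eq_zero_iff]
  refine ⟨⟨g ^ n₀, fun h => hgx (x.isPrime.mem_of_pow_mem _ h)⟩, ?_⟩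
  change g ^ n₀ • (m : M) = 0
  have h1 : g ^ n₀ ∈ 𝒜 (n₀ * e) := by
    have := SetLike.pow_mem_graded n₀ hg
    simpa [smul_eq_mul] using this
  have h2 := SetLike.GradedSMul.smul_mem (A := 𝒜) (B := ℳ) h1 m.2
  refine hn₀ _ ?_ _ h2
  rw [vadd_eq_add]
  nlinarith

/-- Under (TN), every section of `M(n)~` is zero. -/
theorem section_eq_zero (hTN : ∃ n₀ : ℕ, ∀ k : ℕ, n₀ ≤ k → ∀ m ∈ ℳ k, m = 0) (n : ℤ)
    {U : (Proj 𝒜).Opens} (s t : Γ(GrMod.tilde 𝒜 ℳ n, U)) : s = t := by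
  refine sect_ext 𝒜 ℳ _ _ fun x => ?_
  have hb := tildeAt_eq_bot 𝒜 ℳ hTN n x.1
  have key : ∀ q : GrMod.tildeAt 𝒜 ℳ n x.1, (q : GrMod.LocMod 𝒜 (M := M) x.1) = 0 := fun q => by
    obtain ⟨v, hv⟩ := q
    rw [hb, Submodule.mem_bot] at hv
    exact hv
  rw [key, key]

end Groth.Agent.Lib.helper28.GMTildeTN
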