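import Mathlib

/-!
# Points of group schemes over a field: the relation `g₃ ∈ g₁ · g₂` on the underlying space

For a group object `G` of `Over S` (S a scheme) we define `Mul3 G g₁ g₂ g₃`: there are a scheme `X`
over `S`, a point `x` of `X` and `a b : X ⟶ G` with `a x = g₁`, `b x = g₂`, `(a * b) x = g₃`.
-/

set_option autoImplicit false
universe u
open CategoryTheory MonoidalCategory CartesianMonoidalCategory MonObj GrpObj AlgebraicGeometry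

namespace Groth.Agent.Lib.helper28.GrpPts

variable {S : Scheme.{u}}

/-- `g₃ ∈ g₁ · g₂` -/
def Mul3 (G : Over S) [GrpObj G] (g₁ g₂ g₃ : G.left) : Prop :=
  ∃ (X : Over S) (x : X.left) (a b : X ⟶ G),
    a.left x = g₁ ∧ b.left x = g₂ ∧ (a * b).left x = g₃

lemma Mul3.rot_right {G : Over S} [GrpObj G] {g₁ g₂ g₃ : G.left} (h : Mul3 G g₁ g₂ g₃) :
    Mul3 G g₃ (ι[G].left g₂) g₁ := by
  obtain ⟨X, x, a, b, h1, h2, h3⟩ := h
  refine ⟨X, x, a * b, b⁻¹, h3, ?_, ?_⟩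
  · rw [Hom.inv_def, Over.comp_left, Scheme.Hom.comp_apply, h2]
  · rw [mul_inv_cancel_right, h1]

lemma Mul3.rot_left {G : Over S} [GrpObj G] {g₁ g₂ g₃ : G.left} (h : Mul3 G g₁ g₂ g₃) :
    Mul3 G (ι[G].left g₁) g₃ g₂ := by
  obtain ⟨X, x, a, b, h1, h2, h3⟩ := h
  refine ⟨X, x, a⁻¹, a * b, ?_, h3, ?_⟩
  · rw [Hom.inv_def, Over.comp_left, Scheme.Hom.comp_apply, h1]
  · rw [inv_mul_cancel_left, h2]

lemma inv_inv_apply (G : Over S) [GrpObj G] (g : G.left) : ι[G].left (ι[G].left g) = g := by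
  rw [← Scheme.Hom.comp_apply, ← Over.comp_left, GrpObj.inv_comp_inv]
  rfl

/-- common refinement of two points with the same image -/
lemma refine_pt {X Y B : Over S} (a : X ⟶ B) (b : Y ⟶ B) (x : X.left) (y : Y.left)
    (h : a.left x = b.left y) :
    ∃ (Z : Over S) (z : Z.left) (p : Z ⟶ X) (q : Z ⟶ Y),
      p ≫ a = q ≫ b ∧ p.left z = x ∧ q.left z = y := by
  obtain ⟨t, ht1, ht2⟩ :=
    Scheme.Pullback.exists_preimage_pullback (f := a.left) (g := b.left) x y h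
  have hw : Limits.pullback.snd a.left b.left ≫ Y.hom =
      Limits.pullback.fst a.left b.left ≫ X.hom := by
    rw [← Over.w a, ← Over.w b, ← Category.assoc, ← Category.assoc, Limits.pullback.condition]
  refine ⟨Over.mk (Limits.pullback.fst a.left b.left ≫ X.hom), t,
    Over.homMk (Limits.pullback.fst _ _) rfl, Over.homMk (Limits.pullback.snd _ _) hw, ?_,
    ht1, ht2⟩
  apply Over.OverMorphism.ext
  exact Limits.pullback.condition

/-- the range of a group homomorphism is stable under products -/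
lemma Mul3.mem_range {H G : Over S} [GrpObj H] [GrpObj G] (ψ : H ⟶ G) [IsMonHom ψ]
    {g₁ g₂ g₃ : G.left} (h : Mul3 G g₁ g₂ g₃) (hg₁ : g₁ ∈ Set.range ψ.left)
    (hg₂ : g₂ ∈ Set.range ψ.left) : g₃ ∈ Set.range ψ.left := by
  obtain ⟨X, x, a, b, h1, h2, h3⟩ := h
  obtain ⟨k₁, hk₁⟩ := hg₁
  obtain ⟨k₂, hk₂⟩ := hg₂
  obtain ⟨Z₁, z₁, p₁, q₁, e₁, hp₁, -⟩ := refine_pt a ψ x k₁ (h1.trans hk₁.symm)
  obtain ⟨Z₂, z₂, p₂, q₂, e₂, hp₂, -⟩ := refine_pt (p₁ ≫ b) ψ z₁ k₂ (by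
    rw [Over.comp_left, Scheme.Hom.comp_apply, hp₁, h2, hk₂])
  have e3 : (p₂ ≫ p₁) ≫ (a * b) = ((p₂ ≫ q₁) * q₂) ≫ ψ := by
    rw [MonObj.comp_mul, MonObj.mul_comp, Category.assoc, Category.assoc, e₁, ← e₂,
      Category.assoc]
  refine ⟨((p₂ ≫ q₁) * q₂).left z₂, ?_⟩
  rw [← Scheme.Hom.comp_apply, ← Over.comp_left, ← e3, Over.comp_left, Over.comp_left,
    Scheme.Hom.comp_apply, Scheme.Hom.comp_apply, hp₂, hp₁, h3]

lemma inv_mem_range {H G : Over S} [GrpObj H] [GrpObj G] (ψ : H ⟶ G) [IsMonHom ψ]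
    {g : G.left} (hg : g ∈ Set.range ψ.left) : ι[G].left g ∈ Set.range ψ.left := by
  obtain ⟨k, rfl⟩ := hg
  refine ⟨ι[H].left k, ?_⟩
  rw [← Scheme.Hom.comp_apply, ← Scheme.Hom.comp_apply, ← Over.comp_left, ← Over.comp_left,
    GrpObj.inv_hom]

/-- `r · e ∋ r` for some `e` in the range of the unit section -/
lemma Mul3.exists_unit (G : Over S) [GrpObj G] (r : G.left) :
    ∃ e ∈ Set.range η[G].left, Mul3 G r e r := by
  refine ⟨_, ?_, ⟨G, r, 𝟙 G, 1, rfl, rfl, ?_⟩⟩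
  · rw [Hom.one_def, Over.comp_left, Scheme.Hom.comp_apply]
    exact ⟨_, rfl⟩
  · rw [_root_.mul_one]
    rfl

lemma unit_mem_range {H G : Over S} [GrpObj H] [GrpObj G] (ψ : H ⟶ G) [IsMonHom ψ] :
    Set.range η[G].left ⊆ Set.range ψ.left := by
  rintro _ ⟨x, rfl⟩
  rw [← IsMonHom.one_hom (f := ψ), Over.comp_left, Scheme.Hom.comp_apply]
  exact ⟨_, rfl⟩

/-- the image of `T × W → G × G → G` in terms of `Mul3` -/
lemma range_tensorHom_mul {G : Over S} [GrpObj G] {T W : Over S} (f : T ⟶ G) (w : W ⟶ G) :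
    Set.range ⇑((f ⊗ₘ w) ≫ μ[G]).left =
      {g₃ | ∃ g₁ ∈ Set.range f.left, ∃ g₂ ∈ Set.range w.left, Mul3 G g₁ g₂ g₃} := by
  have e0 : (f ⊗ₘ w) ≫ μ[G] = (fst T W ≫ f) * (snd T W ≫ w) := by
    rw [Hom.mul_def, lift_fst_comp_snd_comp]
  ext g₃
  constructor
  · rintro ⟨q, rfl⟩
    refine ⟨(fst T W ≫ f).left q, ?_, (snd T W ≫ w).left q, ?_, ⟨T ⊗ W, q, fst T W ≫ f,
      snd T W ≫ w, rfl, rfl, ?_⟩⟩
    · rw [Over.comp_left, Scheme.Hom.comp_apply]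
      exact ⟨_, rfl⟩
    · rw [Over.comp_left, Scheme.Hom.comp_apply]
      exact ⟨_, rfl⟩
    · rw [e0]
  · rintro ⟨g₁, ⟨t, ht⟩, g₂, ⟨v, hv⟩, ⟨X, x, a, b, h1, h2, h3⟩⟩
    obtain ⟨Z₁, z₁, p₁, q₁, e₁, hp₁, -⟩ := refine_pt a f x t (h1.trans ht.symm)
    obtain ⟨Z₂, z₂, p₂, q₂, e₂, hp₂, -⟩ := refine_pt (p₁ ≫ b) w z₁ v (by
      rw [Over.comp_left, Scheme.Hom.comp_apply, hp₁, h2, hv])
    have e3 : (p₂ ≫ p₁) ≫ (a * b) = lift (p₂ ≫ q₁) q₂ ≫ (f ⊗ₘ w) ≫ μ[G] := by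
      rw [MonObj.comp_mul, ← Category.assoc (lift _ _), lift_map, ← Hom.mul_def, Category.assoc,
        Category.assoc, e₁, ← e₂, Category.assoc]
    refine ⟨(lift (p₂ ≫ q₁) q₂).left z₂, ?_⟩
    rw [← Scheme.Hom.comp_apply, ← Over.comp_left, ← e3, Over.comp_left, Over.comp_left,
      Scheme.Hom.comp_apply, Scheme.Hom.comp_apply, hp₂, hp₁, h3]

/-- over a field, any two points can be multiplied -/
lemma Mul3.exists_mul {K : Type u} [Field K] (G : Over (Spec (CommRingCat.of K))) [GrpObj G]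
    (g₁ g₂ : G.left) : ∃ g₃, Mul3 G g₁ g₂ g₃ := by
  have hsub : Subsingleton (𝟙_ (Over (Spec (CommRingCat.of K)))).left :=
    inferInstanceAs (Subsingleton (PrimeSpectrum K))
  obtain ⟨Z, z, p, q, -, hp, hq⟩ := refine_pt (toUnit G) (toUnit G) g₁ g₂ (Subsingleton.elim _ _)
  exact ⟨_, Z, z, p, q, hp, hq, rfl⟩

end Groth.Agent.Lib.helper28.GrpPts
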