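import Mathlib
import Groth.Agent.S0351
import Groth.Agent.Lib.Helper28.GrpPts

/-!
# Products of subsets of a group scheme over a field (via `Mul3`)
-/

set_option autoImplicit false
universe u
open CategoryTheory MonoidalCategory CartesianMonoidalCategory MonObj GrpObj AlgebraicGeometry

namespace Groth.Agent.Lib.helper28.GrpPts

variable {K : Type u} [Field K] (G : Over (Spec (CommRingCat.of K))) [GrpObj G]

/-- the product `P · Q` of two subsets of the underlying space -/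
def mulSet (P Q : Set G.left) : Set G.left :=
  {g₃ | ∃ g₁ ∈ P, ∃ g₂ ∈ Q, Mul3 G g₁ g₂ g₃}

lemma isOpen_mulSet (P : Set G.left) (W : G.left.Opens) : IsOpen (mulSet G P W) := by
  have h : mulSet G P W = ⋃ r ∈ P, {g₃ | ∃ g₂ ∈ W, Mul3 G r g₂ g₃} := by
    ext g
    simp only [mulSet, Set.mem_setOf_eq, Set.mem_iUnion, exists_prop, SetLike.mem_coe]
  rw [h]
  exact isOpen_biUnion fun r _ => Groth.Agent.S0351.translate_open K G W r

lemma isCompact_mulSet_affine (V U : G.left.Opens) (hV : IsAffineOpen V) (hU : IsAffineOpen U) :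
    IsCompact (mulSet G V U) := by
  have h := range_tensorHom_mul (G := G) (Over.homMk V.ι rfl : Over.mk (V.ι ≫ G.hom) ⟶ G)
    (Over.homMk U.ι rfl : Over.mk (U.ι ≫ G.hom) ⟶ G)
  have h1 : Set.range ⇑(Over.homMk V.ι rfl : Over.mk (V.ι ≫ G.hom) ⟶ G).left = V :=
    Scheme.Opens.range_ι V
  have h2 : Set.range ⇑(Over.homMk U.ι rfl : Over.mk (U.ι ≫ G.hom) ⟶ G).left = U :=
    Scheme.Opens.range_ι U
  rw [h1, h2] at h
  have haffV : IsAffine V.toScheme := hV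
  have haffU : IsAffine U.toScheme := hU
  have hc : CompactSpace ((Over.mk (V.ι ≫ G.hom) ⊗ Over.mk (U.ι ≫ G.hom) :
      Over (Spec (CommRingCat.of K)))).left :=
    inferInstanceAs (CompactSpace ↥(Limits.pullback (V.ι ≫ G.hom) (U.ι ≫ G.hom)))
  have : mulSet G V U = Set.range ⇑(((Over.homMk V.ι rfl : Over.mk (V.ι ≫ G.hom) ⟶ G) ⊗ₘ
      (Over.homMk U.ι rfl : Over.mk (U.ι ≫ G.hom) ⟶ G)) ≫ μ[G]).left := by
    rw [h]; rfl
  rw [this]
  exact isCompact_range (Scheme.Hom.continuous _)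

lemma mulSet_biUnion {α β : Type*} (s : Set α) (t : Set β) (P : α → Set G.left)
    (Q : β → Set G.left) :
    mulSet G (⋃ i ∈ s, P i) (⋃ k ∈ t, Q k) = ⋃ i ∈ s, ⋃ k ∈ t, mulSet G (P i) (Q k) := by
  ext g
  simp only [mulSet, Set.mem_setOf_eq, Set.mem_iUnion, exists_prop]
  constructor
  · rintro ⟨g₁, ⟨i, hi, h1⟩, g₂, ⟨k, hk, h2⟩, hm⟩
    exact ⟨i, hi, k, hk, g₁, h1, g₂, h2, hm⟩
  · rintro ⟨i, hi, k, hk, g₁, h1, g₂, h2, hm⟩
    exact ⟨g₁, ⟨i, hi, h1⟩, g₂, ⟨k, hk, h2⟩, hm⟩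

lemma isCompact_isOpen_mulSet (P Q : Set G.left) (hP : IsCompact P ∧ IsOpen P)
    (hQ : IsCompact Q ∧ IsOpen Q) : IsCompact (mulSet G P Q) ∧ IsOpen (mulSet G P Q) := by
  refine ⟨?_, isOpen_mulSet G P ⟨Q, hQ.2⟩⟩
  obtain ⟨s, hs, rfl⟩ := isCompact_and_isOpen_iff_finite_and_eq_biUnion_affineOpens.mp hP
  obtain ⟨t, ht, rfl⟩ := isCompact_and_isOpen_iff_finite_and_eq_biUnion_affineOpens.mp hQ
  rw [mulSet_biUnion]
  exact hs.isCompact_biUnion fun i _ => ht.isCompact_biUnion fun k _ =>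
    isCompact_mulSet_affine G i.1 k.1 i.2 k.2

end Groth.Agent.Lib.helper28.GrpPts
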