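import Mathlib
set_option autoImplicit false
universe u
open CategoryTheory CategoryTheory.Limits AlgebraicGeometry TopologicalSpace

namespace Groth.Agent.Lib.helper28.QCClosure

/-- affine case -/
lemma spec_case {A R : CommRingCat.{u}} (φ : A ⟶ R) (Z : Set (Spec R)) (hZ : IsClosed Z)
    (y : Spec A) (hy : y ∈ closure (⇑(Spec.map φ) '' Z)) :
    ∃ z ∈ Z, (Spec.map φ) z ⤳ y := by
  obtain ⟨I, rfl⟩ : ∃ I : Ideal R, Z = PrimeSpectrum.zeroLocus (I : Set R) :=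
    ⟨PrimeSpectrum.vanishingIdeal (Z : Set (PrimeSpectrum R)), by
      have h1 := PrimeSpectrum.zeroLocus_vanishingIdeal_eq_closure (Z : Set (PrimeSpectrum R))
      rw [h1]; exact hZ.closure_eq.symm⟩
  have hy' : y ∈ PrimeSpectrum.zeroLocus ((I.comap φ.hom : Ideal A) : Set A) := by
    rw [← PrimeSpectrum.closure_image_comap_zeroLocus]
    exact hy
  have hle : I.comap φ.hom ≤ y.asIdeal := hy'
  obtain ⟨q, hq₁, hq₂⟩ := Ideal.exists_minimalPrimes_le hle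
  obtain ⟨p', hp', hp'', hpq⟩ := Ideal.exists_comap_eq_of_mem_minimalPrimes φ.hom _ hq₁
  refine ⟨⟨p', hp'⟩, hp'', ?_⟩
  rw [Spec.map_apply]
  refine (PrimeSpectrum.le_iff_specializes (PrimeSpectrum.comap φ.hom ⟨p', hp'⟩) y).mp ?_
  change p'.comap φ.hom ≤ y.asIdeal
  rw [hpq]
  exact hq₂

/-- For a quasi-compact morphism, every point in the closure of the image of a closed set is
a specialization of a point of the image. -/
lemma exists_specializes_of_mem_closure_image {X Y : Scheme.{u}} (f : X ⟶ Y) [QuasiCompact f]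
    (Z : Set X) (hZ : IsClosed Z) (y : Y) (hy : y ∈ closure (⇑f '' Z)) :
    ∃ z ∈ Z, f z ⤳ y := by
  obtain ⟨V, hV, hyV, -⟩ := (Opens.isBasis_iff_nbhd.mp Y.isBasis_affineOpens :
    ∀ {U : Y.Opens} {x : Y}, x ∈ U → ∃ U' ∈ Y.affineOpens, x ∈ U' ∧ U' ≤ U) (show y ∈ (⊤ : Y.Opens) from trivial)
  have hV' : IsAffineOpen V := hV
  obtain ⟨R, g, hg⟩ := isCompact_iff_exists.mp (f.isCompact_preimage hV'.isCompact)
  have hrange : Set.range ⇑(g ≫ f) ⊆ Set.range ⇑hV'.fromSpec := by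
    rw [hV'.range_fromSpec]
    rintro _ ⟨x, rfl⟩
    have : g x ∈ (f ⁻¹ᵁ V : Set X) := hg ▸ Set.mem_range_self x
    simpa using this
  set k := IsOpenImmersion.lift hV'.fromSpec (g ≫ f) hrange with hk
  have hkfac : k ≫ hV'.fromSpec = g ≫ f := IsOpenImmersion.lift_fac _ _ _
  obtain ⟨φ, hφ⟩ := Spec.map_surjective k
  obtain ⟨y₀, hy₀⟩ : ∃ y₀, hV'.fromSpec y₀ = y := by
    have : y ∈ Set.range ⇑hV'.fromSpec := by rw [hV'.range_fromSpec]; exact hyV
    exact this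
  have hemb : Topology.IsOpenEmbedding ⇑hV'.fromSpec := hV'.fromSpec.isOpenEmbedding
  have hy₀cl : y₀ ∈ closure (⇑(Spec.map φ) '' (⇑g ⁻¹' Z)) := by
    rw [hemb.isInducing.closure_eq_preimage_closure_image, Set.mem_preimage, hy₀]
    have h1 : y ∈ closure ((V : Set Y) ∩ ⇑f '' Z) := V.isOpen.inter_closure ⟨hyV, hy⟩
    refine closure_mono ?_ h1
    rintro _ ⟨hzV, z, hz, rfl⟩
    have : z ∈ Set.range ⇑g := by rw [hg]; exact hzV
    obtain ⟨z₀, rfl⟩ := this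
    refine ⟨(Spec.map φ) z₀, ⟨z₀, hz, rfl⟩, ?_⟩
    rw [hφ, ← Scheme.Hom.comp_apply, hkfac, Scheme.Hom.comp_apply]
  obtain ⟨z₀, hz₀, hsp⟩ := spec_case φ _ (hZ.preimage g.continuous) y₀ hy₀cl
  refine ⟨g z₀, hz₀, ?_⟩
  have := hsp.map hV'.fromSpec.continuous
  rw [hy₀, hφ, ← Scheme.Hom.comp_apply, hkfac, Scheme.Hom.comp_apply] at this
  exact this

end Groth.Agent.Lib.helper28.QCClosure
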