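import Mathlib
import Groth.Prelude.Def_RelSpec

set_option autoImplicit false

universe u

/-! The morphism of relative spectra `Spec(B') ⟶ Spec(B)` attached to a `q`-morphism of
quasi-coherent algebras `u : B ⟶ q_* B'` (helper28). -/

namespace Groth.Agent.Lib.helper28.RelSpecMap

open CategoryTheory CategoryTheory.Limits AlgebraicGeometry TopologicalSpace Opposite

/-- Two morphisms of schemes agree if they agree on a jointly surjective family of open
immersions into the source. -/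
theorem hom_ext_of_local {X Y : Scheme.{u}} (f₁ f₂ : X ⟶ Y)
    (h : ∀ x : X, ∃ (W : Scheme.{u}) (l : W ⟶ X), IsOpenImmersion l ∧ x ∈ Set.range l.base ∧
      l ≫ f₁ = l ≫ f₂) : f₁ = f₂ := by
  choose W l hl hx heq using h
  let 𝒰 : X.OpenCover := {
    I₀ := X, X := W, f := l,
    mem₀ := by
      rw [Scheme.presieve₀_mem_precoverage_iff]
      exact ⟨fun x => ⟨x, hx x⟩, hl⟩ }
  exact 𝒰.hom_ext _ _ heq

/-- Gluing a morphism from a family of charts, the compatibility on overlaps being checked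
locally. -/
theorem existsUnique_of_charts_local {X Y : Scheme.{u}} {ι : Type u}
    {U : ι → Scheme.{u}} (c : ∀ i, U i ⟶ X) [∀ i, IsOpenImmersion (c i)]
    (hcov : ∀ x : X, ∃ i, x ∈ Set.range (c i).base)
    (g : ∀ i, U i ⟶ Y)
    (hcompat : ∀ i j (x : X), x ∈ Set.range (c i).base → x ∈ Set.range (c j).base →
      ∃ (W : Scheme.{u}) (a : W ⟶ U i) (b : W ⟶ U j),
      a ≫ c i = b ≫ c j ∧ a ≫ g i = b ≫ g j ∧ IsOpenImmersion (a ≫ c i) ∧
      x ∈ Set.range (a ≫ c i).base) :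
    ∃! p : X ⟶ Y, ∀ i, c i ≫ p = g i := by
  let 𝒰 : X.OpenCover := {
    I₀ := ι, X i := U i, f i := c i,
    mem₀ := by
      rw [Scheme.presieve₀_mem_precoverage_iff]
      refine ⟨fun x ↦ ?_, inferInstance⟩
      obtain ⟨i, hi⟩ := hcov x
      exact ⟨i, hi⟩ }
  have hglue : ∀ i j, pullback.fst (c i) (c j) ≫ g i = pullback.snd (c i) (c j) ≫ g j := by
    intro i j
    apply hom_ext_of_local
    intro z
    have hz1 : (pullback.fst (c i) (c j) ≫ c i).base z ∈ Set.range (c i).base :=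
      ⟨(pullback.fst (c i) (c j)).base z, rfl⟩
    have hz2 : (pullback.fst (c i) (c j) ≫ c i).base z ∈ Set.range (c j).base := by
      rw [pullback.condition]
      exact ⟨(pullback.snd (c i) (c j)).base z, rfl⟩
    obtain ⟨W, a, b, hab, hg, hopen, hrange⟩ := hcompat i j _ hz1 hz2
    let l : W ⟶ pullback (c i) (c j) := pullback.lift a b hab
    have hl1 : l ≫ pullback.fst (c i) (c j) = a := pullback.lift_fst _ _ _
    have hl2 : l ≫ pullback.snd (c i) (c j) = b := pullback.lift_snd _ _ _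
    have hlo : IsOpenImmersion (l ≫ (pullback.fst (c i) (c j) ≫ c i)) := by
      rw [← Category.assoc, hl1]; exact hopen
    have hlopen : IsOpenImmersion l := IsOpenImmersion.of_comp l (pullback.fst (c i) (c j) ≫ c i)
    refine ⟨W, l, hlopen, ?_, ?_⟩
    · obtain ⟨w, hw⟩ := hrange
      refine ⟨w, ?_⟩
      apply (pullback.fst (c i) (c j) ≫ c i).isOpenEmbedding.injective
      rw [← hw, ← hl1]
      rfl
    · rw [← Category.assoc, ← Category.assoc, hl1, hl2, hg]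
  refine ⟨𝒰.glueMorphisms g hglue, fun i => 𝒰.ι_glueMorphisms g hglue i, ?_⟩
  intro q hq
  apply 𝒰.hom_ext
  intro i
  change c i ≫ q = c i ≫ 𝒰.glueMorphisms g hglue
  rw [hq i]
  exact (𝒰.ι_glueMorphisms g hglue i).symm

/-- A common refinement, in the small affine Zariski site, of two affine opens around a point,
inside a given open. -/
theorem exists_common_basic {X : Scheme.{u}} (U₁ U₂ : X.AffineZariskiSite) (O : X.Opens) (y : X)
    (h1 : y ∈ U₁.1) (h2 : y ∈ U₂.1) (hO : y ∈ O) :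
    ∃ W : X.AffineZariskiSite, W ≤ U₁ ∧ W ≤ U₂ ∧ y ∈ W.1 ∧ W.1 ≤ O := by
  obtain ⟨f, g, hfg, hyf⟩ := exists_basicOpen_le_affine_inter U₁.2 U₂.2 y ⟨h1, h2⟩
  let W₀ : X.AffineZariskiSite := U₁.basicOpen f
  have hW1 : W₀ ≤ U₁ := U₁.basicOpen_le f
  have hW2 : W₀ ≤ U₂ := ⟨g, hfg.symm⟩
  obtain ⟨h, hh1, hh2⟩ := W₀.2.exists_basicOpen_le (V := O) ⟨y, hO⟩ hyf
  exact ⟨W₀.basicOpen h, (W₀.basicOpen_le h).trans hW1, (W₀.basicOpen_le h).trans hW2, hh2, hh1⟩

section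

variable {S S' : Scheme.{u}} (q : S' ⟶ S) (B : RelSpec.QCAlg S) (B' : RelSpec.QCAlg S')
  (u : B.presheaf ⟶ q.base _* B'.presheaf)

/-- The ring map `B(U) ⟶ B'(U')` for `U' ⊆ q⁻¹(U)`. -/
def uLE (U : S.Opens) (U' : S'.Opens) (hle : U' ≤ q ⁻¹ᵁ U) :
    B.presheaf.obj (op U) ⟶ B'.presheaf.obj (op U') :=
  (u.app (op U) : B.presheaf.obj (op U) ⟶ B'.presheaf.obj (op (q ⁻¹ᵁ U))) ≫
    B'.presheaf.map (homOfLE hle).op

theorem uLE_map {U : S.Opens} {U' U'' : S'.Opens} (hle : U' ≤ q ⁻¹ᵁ U) (i : U'' ≤ U') :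
    uLE q B B' u U U' hle ≫ B'.presheaf.map (homOfLE i).op = uLE q B B' u U U'' (i.trans hle) := by
  rw [uLE, uLE, Category.assoc, ← Functor.map_comp]
  rfl

theorem map_uLE {U V : S.Opens} {U' : S'.Opens} (i : V ≤ U) (hle : U' ≤ q ⁻¹ᵁ V) :
    B.presheaf.map (homOfLE i).op ≫ uLE q B B' u V U' hle =
      uLE q B B' u U U' (hle.trans (q.preimage_mono i)) := by
  have hn := u.naturality (homOfLE i).op
  rw [uLE, uLE, ← Category.assoc]
  refine (congrArg (· ≫ B'.presheaf.map (homOfLE hle).op) hn).trans ?_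
  rw [Category.assoc]
  refine congrArg (_ ≫ ·) ?_
  exact (B'.presheaf.map_comp _ _).symm

/-- Affine pairs `U' ⊆ q⁻¹(U)`. -/
structure Pair where
  U : S.Opens
  U' : S'.Opens
  hU : IsAffineOpen U
  hU' : IsAffineOpen U'
  hle : U' ≤ q ⁻¹ᵁ U

theorem range_ι (A : RelSpec.QCAlg S) (U : S.Opens) (hU : IsAffineOpen U) :
    Set.range (A.ι U hU).base = (A.π ⁻¹ᵁ U : Set A.spec) := by
  rw [A.π_preimage U hU]
  rfl

theorem ι_res' (A : RelSpec.QCAlg S) {U V : S.AffineZariskiSite} (i : V ≤ U) :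
    Spec.map (A.presheaf.map (homOfLE (Scheme.AffineZariskiSite.toOpens_mono i)).op) ≫
      A.ι U.1 U.2 = A.ι V.1 V.2 :=
  A.ι_res (homOfLE i)

theorem existsUnique_specMap :
    ∃! v : B'.spec ⟶ B.spec, ∀ (U : S.Opens) (hU : IsAffineOpen U) (U' : S'.Opens)
      (hU' : IsAffineOpen U') (hle : U' ≤ q ⁻¹ᵁ U),
        B'.ι U' hU' ≫ v = Spec.map (uLE q B B' u U U' hle) ≫ B.ι U hU := by
  have key := existsUnique_of_charts_local (X := B'.spec) (Y := B.spec)
    (ι := Pair q) (U := fun P => Spec (B'.presheaf.obj (op P.U')))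
    (fun P => B'.ι P.U' P.hU')
    ?_ (fun P => Spec.map (uLE q B B' u P.U P.U' P.hle) ≫ B.ι P.U P.hU) ?_
  · obtain ⟨v, hv, huniq⟩ := key
    refine ⟨v, fun U hU U' hU' hle => hv ⟨U, U', hU, hU', hle⟩, ?_⟩
    intro w hw
    exact huniq w (fun P => hw P.U P.hU P.U' P.hU' P.hle)
  · intro x
    obtain ⟨U, hU, hyU⟩ : ∃ U : S.Opens, IsAffineOpen U ∧ q.base (B'.π.base x) ∈ U := by
      obtain ⟨_, ⟨U, hU, rfl⟩, hxU, -⟩ := S.isBasis_affineOpens.exists_subset_of_mem_open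
        (Set.mem_univ (q.base (B'.π.base x))) isOpen_univ
      exact ⟨U, hU, hxU⟩
    obtain ⟨_, ⟨U', hU', rfl⟩, hxU', hU'le⟩ := S'.isBasis_affineOpens.exists_subset_of_mem_open
      (show B'.π.base x ∈ ((q ⁻¹ᵁ U : S'.Opens) : Set S') from hyU) (q ⁻¹ᵁ U).isOpen
    refine ⟨⟨U, U', hU, hU', hU'le⟩, ?_⟩
    rw [range_ι]
    exact hxU'
  · intro P Q x hxP hxQ
    rw [range_ι] at hxP hxQ
    -- a common refinement downstairs
    obtain ⟨W, hWP, hWQ, hyW, -⟩ := exists_common_basic (X := S) ⟨P.U, P.hU⟩ ⟨Q.U, Q.hU⟩ ⊤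
      (q.base (B'.π.base x)) (P.hle hxP) (Q.hle hxQ) trivial
    obtain ⟨W', hW'P, hW'Q, hyW', hW'le⟩ := exists_common_basic (X := S') ⟨P.U', P.hU'⟩
      ⟨Q.U', Q.hU'⟩ (q ⁻¹ᵁ W.1) (B'.π.base x) hxP hxQ hyW
    have e1 := ι_res' B' hW'P
    have e2 := ι_res' B' hW'Q
    refine ⟨Spec (B'.presheaf.obj (op W'.1)),
      Spec.map (B'.presheaf.map (homOfLE (Scheme.AffineZariskiSite.toOpens_mono hW'P)).op),
      Spec.map (B'.presheaf.map (homOfLE (Scheme.AffineZariskiSite.toOpens_mono hW'Q)).op),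
      e1.trans e2.symm, ?_, ?_, ?_⟩
    · have f1 : Spec.map (B'.presheaf.map
          (homOfLE (Scheme.AffineZariskiSite.toOpens_mono hW'P)).op) ≫
          Spec.map (uLE q B B' u P.U P.U' P.hle) ≫ B.ι P.U P.hU =
          Spec.map (uLE q B B' u W.1 W'.1 hW'le) ≫ B.ι W.1 W.2 := by
        rw [← Category.assoc, ← Spec.map_comp, uLE_map, ← ι_res' B hWP, ← Category.assoc,
          ← Spec.map_comp, map_uLE]
      have f2 : Spec.map (B'.presheaf.map
          (homOfLE (Scheme.AffineZariskiSite.toOpens_mono hW'Q)).op) ≫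
          Spec.map (uLE q B B' u Q.U Q.U' Q.hle) ≫ B.ι Q.U Q.hU =
          Spec.map (uLE q B B' u W.1 W'.1 hW'le) ≫ B.ι W.1 W.2 := by
        rw [← Category.assoc, ← Spec.map_comp, uLE_map, ← ι_res' B hWQ, ← Category.assoc,
          ← Spec.map_comp, map_uLE]
      exact f1.trans f2.symm
    · rw [e1]
      infer_instance
    · rw [e1, range_ι]
      exact hyW'

theorem str_uLE (hu : B.str ≫ u = q.c ≫ (TopCat.Presheaf.pushforward CommRingCat.{u} q.base).map B'.str)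
    (U : S.Opens) (U' : S'.Opens) (hle : U' ≤ q ⁻¹ᵁ U) :
    B.str.app (op U) ≫ uLE q B B' u U U' hle = q.appLE U U' hle ≫ B'.str.app (op U') := by
  have h1 : B.str.app (op U) ≫ (u.app (op U) : B.presheaf.obj (op U) ⟶
      B'.presheaf.obj (op (q ⁻¹ᵁ U))) = q.app U ≫ B'.str.app (op (q ⁻¹ᵁ U)) :=
    congrArg (fun k => k.app (op U)) hu
  have h2 := B'.str.naturality (homOfLE hle).op
  rw [uLE, ← Category.assoc, h1, Category.assoc, ← h2, ← Category.assoc]
  rfl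

theorem specMap_π (hu : B.str ≫ u = q.c ≫ (TopCat.Presheaf.pushforward CommRingCat.{u} q.base).map B'.str)
    (v : B'.spec ⟶ B.spec)
    (hv : ∀ (U : S.Opens) (hU : IsAffineOpen U) (U' : S'.Opens)
      (hU' : IsAffineOpen U') (hle : U' ≤ q ⁻¹ᵁ U),
        B'.ι U' hU' ≫ v = Spec.map (uLE q B B' u U U' hle) ≫ B.ι U hU) :
    v ≫ B.π = B'.π ≫ q := by
  apply hom_ext_of_local
  intro x
  obtain ⟨U, hU, hyU⟩ : ∃ U : S.Opens, IsAffineOpen U ∧ q.base (B'.π.base x) ∈ U := by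
    obtain ⟨_, ⟨U, hU, rfl⟩, hxU, -⟩ := S.isBasis_affineOpens.exists_subset_of_mem_open
      (Set.mem_univ (q.base (B'.π.base x))) isOpen_univ
    exact ⟨U, hU, hxU⟩
  obtain ⟨_, ⟨U', hU', rfl⟩, hxU', hle⟩ := S'.isBasis_affineOpens.exists_subset_of_mem_open
    (show B'.π.base x ∈ ((q ⁻¹ᵁ U : S'.Opens) : Set S') from hyU) (q ⁻¹ᵁ U).isOpen
  refine ⟨_, B'.ι U' hU', inferInstance, ?_, ?_⟩
  · rw [range_ι]
    exact hxU'
  · rw [← Category.assoc, hv U hU U' hU' hle, Category.assoc, B.ι_π, ← Category.assoc,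
      ← Spec.map_comp, str_uLE q B B' u hu, Spec.map_comp, Category.assoc,
      IsAffineOpen.SpecMap_appLE_fromSpec q hU hU' hle, ← Category.assoc, ← B'.ι_π,
      Category.assoc]

end

end Groth.Agent.Lib.helper28.RelSpecMap
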