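import Groth.Agent.Lib.Helper12.PullTensor

/-!
# Morphisms out of a tensor product of `O`-modules from bilinear pairings on sections (helper28)

* `BiPair M N T`: a family of `O(U)`-bilinear maps `M(U) × N(U) → T(U)` compatible with restriction.
* `BiPair.desc β : M ⊗ N ⟶ T` with `desc_tmul : desc β (m ⊗ n) = β m n`.
-/

set_option autoImplicit false
universe u
open CategoryTheory AlgebraicGeometry TopologicalSpace Opposite TensorProduct MonoidalCategory

namespace Groth.Agent.Lib.helper28.TensorDesc

open Groth.Agent.Lib.helper12.TensorRestrict Groth.Agent.Lib.helper12.TensorSec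

variable {X : Scheme.{u}}

/-- A bilinear pairing on sections, natural in the open. -/
structure BiPair (M N T : X.Modules) where
  toFun : ∀ U : X.Opens, Γ(M, U) → Γ(N, U) → Γ(T, U)
  add_left : ∀ (U : X.Opens) (m m' : Γ(M, U)) (n : Γ(N, U)),
    toFun U (m + m') n = toFun U m n + toFun U m' n
  smul_left : ∀ (U : X.Opens) (r : Γ(X, U)) (m : Γ(M, U)) (n : Γ(N, U)),
    toFun U (r • m) n = r • toFun U m n
  add_right : ∀ (U : X.Opens) (m : Γ(M, U)) (n n' : Γ(N, U)),
    toFun U m (n + n') = toFun U m n + toFun U m n'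
  smul_right : ∀ (U : X.Opens) (r : Γ(X, U)) (m : Γ(M, U)) (n : Γ(N, U)),
    toFun U m (r • n) = r • toFun U m n
  res : ∀ (U V : X.Opens) (i : V ≤ U) (m : Γ(M, U)) (n : Γ(N, U)),
    toFun V (M.presheaf.map (homOfLE i).op m) (N.presheaf.map (homOfLE i).op n) =
      T.presheaf.map (homOfLE i).op (toFun U m n)

namespace BiPair

variable {M N T : X.Modules} (β : BiPair M N T)

noncomputable def preApp (W : (X.Opens)ᵒᵖ) :
    (CohB1.tensorPre M N).obj W ⟶ (CohB1.toPMod T).obj W :=
  ModuleCat.MonoidalCategory.tensorLift (M₁ := (CohB1.toPMod M).obj W)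
    (M₂ := (CohB1.toPMod N).obj W)
    (fun s t => β.toFun W.unop s t)
    (fun s s' t => β.add_left W.unop s s' t)
    (fun r s t => β.smul_left W.unop r s t)
    (fun s t t' => β.add_right W.unop s t t')
    (fun r s t => β.smul_right W.unop r s t)

noncomputable def pre : (CohB1.tensorPre M N : X.PresheafOfModules) ⟶ T.val where
  app W := β.preApp W
  naturality {W W₂} f := by
    refine ModuleCat.MonoidalCategory.tensor_ext (fun s t => ?_)
    exact β.res W.unop W₂.unop (leOfHom f.unop) s t

/-- The morphism `M ⊗ N ⟶ T` induced by a bilinear pairing. -/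
noncomputable def desc : CohB1.tensorMod M N ⟶ T :=
  ((adj X).homEquiv _ _).symm β.pre

theorem toSheafify_desc :
    toSheafify (CohB1.tensorPre M N : X.PresheafOfModules) ≫ β.desc.val = β.pre := by
  have h1 : (adj X).homEquiv _ _ β.desc = β.pre := Equiv.apply_symm_apply _ _
  rw [Adjunction.homEquiv_unit] at h1
  exact h1

theorem desc_tmul (U : X.Opens) (m : M.val.obj (op U)) (n : N.val.obj (op U)) :
    (β.desc.val.app (op U)).hom (SecTwist.tmul M N U m n) = β.toFun U m n :=
  congrArg (fun φ => (PresheafOfModules.Hom.app φ (op U)).hom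
    (m ⊗ₜ n : ↥((CohB1.tensorPre M N).obj (op U)))) β.toSheafify_desc

end BiPair

end Groth.Agent.Lib.helper28.TensorDesc
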