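import Groth.Agent.Lib.Helper28.ChartLocal
import Groth.Agent.Lib.Helper28.RelSpecMap

set_option autoImplicit false

universe u

/-! Properties of the structure morphism `Spec(A) ⟶ S` and of the morphisms `Spec(B) ⟶ Spec(A)`
of relative spectra, checked on the rings of sections over a cover by affine opens (helper28). -/

namespace Groth.Agent.Lib.helper28.RelSpecLocal

open CategoryTheory CategoryTheory.Limits AlgebraicGeometry TopologicalSpace Opposite
open Groth.Agent.Lib.helper28.RelSpecMap

variable {S : Scheme.{u}} (A B : RelSpec.QCAlg S)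

/-- A property local at the target holds for `Spec(A) ⟶ S` if it holds for
`Spec A(U) ⟶ Spec O(U)` for the `U` in a cover by affine opens. -/
theorem π_of_charts (P : MorphismProperty Scheme.{u}) [IsZariskiLocalAtTarget P]
    {J : Type u} (U : J → S.AffineZariskiSite) (hcov : ∀ x : S, ∃ j, x ∈ (U j).1)
    (h : ∀ j, P (Spec.map (A.str.app (op (U j).1)))) : P A.π := by
  refine ChartLocal.of_charts A.π (J := J)
    (T := fun j => Spec (A.presheaf.obj (op (U j).1))) (Q := fun j => Spec Γ(S, (U j).1))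
    (fun j => A.ι (U j).1 (U j).2) (fun j => (U j).2.fromSpec)
    (fun j => Spec.map (A.str.app (op (U j).1))) P (fun j => A.ι_π (U j).1 (U j).2) ?_ ?_ h
  · intro j
    rw [IsAffineOpen.opensRange_fromSpec]
    exact A.π_preimage (U j).1 (U j).2
  · intro x
    obtain ⟨j, hj⟩ := hcov x
    refine ⟨j, ?_⟩
    rw [IsAffineOpen.range_fromSpec]
    exact hj

/-- All affine opens. -/
theorem π_of_affine (P : MorphismProperty Scheme.{u}) [IsZariskiLocalAtTarget P]
    (h : ∀ U : S.AffineZariskiSite, P (Spec.map (A.str.app (op U.1)))) : P A.π := by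
  refine π_of_charts A P (fun U : S.AffineZariskiSite => U) ?_ h
  intro x
  obtain ⟨_, ⟨U, hU, rfl⟩, hxU, -⟩ := S.isBasis_affineOpens.exists_subset_of_mem_open
    (Set.mem_univ x) isOpen_univ
  exact ⟨⟨U, hU⟩, hxU⟩

variable {A B}

/-- A property local at the target holds for `Spec(B) ⟶ Spec(A)` if it holds for
`Spec B(U) ⟶ Spec A(U)` over all affine opens `U`. -/
theorem specMap_of_affine (P : MorphismProperty Scheme.{u}) [IsZariskiLocalAtTarget P]
    (ψ : A ⟶ B)
    (h : ∀ U : S.AffineZariskiSite, P (Spec.map (ψ.hom.app (op U.1)))) :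
    P (RelSpec.QCAlg.specMap ψ) := by
  refine ChartLocal.of_charts (RelSpec.QCAlg.specMap ψ) (J := S.AffineZariskiSite)
    (T := fun U => Spec (B.presheaf.obj (op U.1))) (Q := fun U => Spec (A.presheaf.obj (op U.1)))
    (fun U => B.ι U.1 U.2) (fun U => A.ι U.1 U.2)
    (fun U => Spec.map (ψ.hom.app (op U.1))) P
    (fun U => RelSpec.QCAlg.ι_specMap U.1 U.2 ψ) ?_ ?_ h
  · intro U
    rw [← A.π_preimage U.1 U.2, ← Scheme.Hom.comp_preimage, RelSpec.QCAlg.specMap_π]
    exact B.π_preimage U.1 U.2
  · intro x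
    obtain ⟨_, ⟨U, hU, rfl⟩, hxU, -⟩ := S.isBasis_affineOpens.exists_subset_of_mem_open
      (Set.mem_univ (A.π.base x)) isOpen_univ
    refine ⟨⟨U, hU⟩, ?_⟩
    rw [range_ι]
    exact hxU

end Groth.Agent.Lib.helper28.RelSpecLocal
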