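import Mathlib

/-!
# Flatness of sequential colimits and of kernels (helper28)

* `flat_of_seq`: a module which is the union ("concrete colimit") of a sequence of flat modules is
  flat (equational criterion).
* `flat_of_exact`: in a short exact sequence `0 → M' → M → M'' → 0` with `M` and `M''` flat, `M'` is
  flat.
* `mem_nonZeroDivisors_tensor_of_flat_quotient`: if `t` is a nonzerodivisor of an `R`-algebra `C`
  with `C ⧸ (t)` flat over `R`, then `t ⊗ 1` is a nonzerodivisor of `C ⊗[R] R'`.
-/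

set_option autoImplicit false
set_option linter.style.haveILetI false

open TensorProduct CategoryTheory CategoryTheory.Limits

universe u

namespace Groth.Agent.Lib.helper28.FlatSeq

section seq

variable {R : Type*} [CommRing R] {M : Type*} [AddCommGroup M] [Module R M]
  {P : ℕ → Type*} [∀ n, AddCommGroup (P n)] [∀ n, Module R (P n)]

theorem flat_of_seq (φ : ∀ n, P n →ₗ[R] M) (t : ∀ n m, n ≤ m → (P n →ₗ[R] P m))
    (hφt : ∀ n m (h : n ≤ m) (x : P n), φ m (t n m h x) = φ n x)
    (hsurj : ∀ y : M, ∃ (n : ℕ) (x : P n), φ n x = y)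
    (hzero : ∀ (n : ℕ) (x : P n), φ n x = 0 → ∃ (m : ℕ) (h : n ≤ m), t n m h x = 0)
    (hflat : ∀ n, Module.Flat R (P n)) : Module.Flat R M := by
  refine Module.Flat.of_forall_isTrivialRelation ?_
  intro l f x hfx
  choose n p hp using fun i => hsurj (x i)
  let N : ℕ := Finset.univ.sup n
  have hN : ∀ i, n i ≤ N := fun i => Finset.le_sup (Finset.mem_univ i)
  let q : Fin l → P N := fun i => t (n i) N (hN i) (p i)
  have hq : ∀ i, φ N (q i) = x i := fun i => (hφt _ _ _ _).trans (hp i)
  have h0 : φ N (∑ i, f i • q i) = 0 := by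
    rw [map_sum, ← hfx]
    refine Finset.sum_congr rfl fun i _ => ?_
    rw [map_smul, hq]
  obtain ⟨m, hm, hm0⟩ := hzero N _ h0
  rw [map_sum] at hm0
  have hm1 : ∑ i, f i • t N m hm (q i) = 0 := by
    rw [← hm0]
    refine Finset.sum_congr rfl fun i _ => ?_
    rw [map_smul]
  haveI := hflat m
  obtain ⟨k, a, y, hy1, hy2⟩ := Module.Flat.isTrivialRelation_of_sum_smul_eq_zero hm1
  refine ⟨k, a, fun j => φ m (y j), fun i => ?_, hy2⟩
  have hy1' : t N m hm (q i) = ∑ j, a i j • y j := hy1 i
  rw [← hq i, ← hφt N m hm (q i), hy1', map_sum]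
  refine Finset.sum_congr rfl fun j _ => ?_
  rw [map_smul]

end seq

section exact

variable {R : Type*} [CommRing R] {M' M M'' : Type*} [AddCommGroup M'] [AddCommGroup M]
  [AddCommGroup M''] [Module R M'] [Module R M] [Module R M'']

theorem flat_of_exact (g : M' →ₗ[R] M) (f : M →ₗ[R] M'') (hg : Function.Injective g)
    (hf : Function.Surjective f) (H : Function.Exact g f) [Module.Flat R M] [Module.Flat R M''] :
    Module.Flat R M' := by
  rw [Module.Flat.iff_rTensor_injective']
  intro 𝔞
  have h1 : Function.Injective (g.lTensor 𝔞) :=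
    LinearMap.lTensor_injective_of_exact_of_flat f hf g hg H 𝔞
  have h2 : Function.Injective (LinearMap.rTensor M 𝔞.subtype) :=
    Module.Flat.rTensor_preserves_injective_linearMap _ 𝔞.subtype_injective
  have h3 : (g.lTensor R) ∘ₗ (LinearMap.rTensor M' 𝔞.subtype) =
      (LinearMap.rTensor M 𝔞.subtype) ∘ₗ (g.lTensor 𝔞) := by
    rw [LinearMap.lTensor_comp_rTensor, LinearMap.rTensor_comp_lTensor]
  have h4 : Function.Injective ((g.lTensor R) ∘ₗ (LinearMap.rTensor M' 𝔞.subtype)) := by
    rw [h3]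
    exact h2.comp h1
  exact Function.Injective.of_comp h4

end exact

section nzd

variable {R C R' : Type*} [CommRing R] [CommRing C] [Algebra R C] [CommRing R'] [Algebra R R']

/-- If `τ` is a nonzerodivisor of `C` with `C ⧸ (τ)` flat over `R`, then `τ ⊗ 1` is a
nonzerodivisor of `C ⊗[R] R'`. -/
theorem tmul_one_mem_nonZeroDivisors (τ : C) (hτ : τ ∈ nonZeroDivisors C)
    [Module.Flat R (C ⧸ Ideal.span {τ})] :
    (τ ⊗ₜ[R] (1 : R')) ∈ nonZeroDivisors (C ⊗[R] R') := by
  let μ : C →ₗ[R] C := LinearMap.mulLeft R τ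
  let π : C →ₗ[R] (C ⧸ Ideal.span {τ}) := (Ideal.Quotient.mkₐ R (Ideal.span {τ})).toLinearMap
  have hμ : Function.Injective μ := by
    intro x y hxy
    have h1 : τ * (x - y) = 0 := by
      rw [mul_sub]; exact sub_eq_zero.mpr hxy
    exact sub_eq_zero.mp ((mul_left_mem_nonZeroDivisors_eq_zero_iff hτ).mp h1)
  have hπ : Function.Surjective π := Ideal.Quotient.mk_surjective
  have H : Function.Exact μ π := by
    intro y
    constructor
    · intro hy
      have : y ∈ Ideal.span {τ} := Ideal.Quotient.eq_zero_iff_mem.mp hy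
      obtain ⟨c, rfl⟩ := Ideal.mem_span_singleton'.mp this
      exact ⟨c, mul_comm _ _⟩
    · rintro ⟨c, rfl⟩
      exact Ideal.Quotient.eq_zero_iff_mem.mpr
        (Ideal.mul_mem_right _ _ (Ideal.mem_span_singleton_self τ))
  have h1 : Function.Injective (μ.lTensor R') :=
    LinearMap.lTensor_injective_of_exact_of_flat π hπ μ hμ H R'
  have h2 : Function.Injective (μ.rTensor R') := (μ.lTensor_inj_iff_rTensor_inj R').mp h1
  have key : ∀ z : C ⊗[R] R', μ.rTensor R' z = z * (τ ⊗ₜ[R] (1 : R')) := by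
    intro z
    induction z using TensorProduct.induction_on with
    | zero => simp
    | tmul c r =>
      rw [LinearMap.rTensor_tmul, Algebra.TensorProduct.tmul_mul_tmul, mul_one, mul_comm c τ]
      rfl
    | add x y hx hy => rw [map_add, hx, hy, add_mul]
  rw [mem_nonZeroDivisors_iff_right]
  intro z hz
  apply h2
  rw [map_zero, key, hz]

end nzd

section pushout

/-- In a pushout square of commutative rings `P = C ⊗[R] R'`, the image in `P` of a
nonzerodivisor `τ` of `C` with `C ⧸ (τ)` flat over `R` is a nonzerodivisor. -/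
theorem map_mem_nonZeroDivisors_of_isPushout {R C R' P : CommRingCat.{u}} {f : R ⟶ C}
    {g : R ⟶ R'} {i : C ⟶ P} {j : R' ⟶ P} (H : IsPushout f g i j) (τ : C)
    (hτ : τ ∈ nonZeroDivisors C)
    (hflat : ((Ideal.Quotient.mk (Ideal.span {τ})).comp f.hom).Flat) :
    i.hom τ ∈ nonZeroDivisors P := by
  algebraize [f.hom, g.hom]
  have H' := CommRingCat.isPushout_tensorProduct R C R'
  have hf : CommRingCat.ofHom (algebraMap R C) = f := rfl
  have hg : CommRingCat.ofHom (algebraMap R R') = g := rfl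
  rw [hf, hg] at H'
  let e := H'.isoIsPushout _ _ H
  have he : CommRingCat.ofHom (Algebra.TensorProduct.includeLeft (R := R) (S := R) (A := C) (B := R')).toRingHom ≫ e.hom = i :=
    H'.inl_isoIsPushout_hom _ _ H
  haveI : Module.Flat R (C ⧸ Ideal.span {τ}) := by
    have h1 : (algebraMap R (C ⧸ Ideal.span {τ})).Flat := hflat
    exact RingHom.flat_algebraMap_iff.mp h1
  have h2 := tmul_one_mem_nonZeroDivisors (R := R) (R' := R') τ hτ
  have h3 : i.hom τ = e.hom.hom (τ ⊗ₜ[R] (1 : R')) := by
    rw [← he]; rfl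
  rw [h3]
  rw [mem_nonZeroDivisors_iff_right] at h2 ⊢
  intro z hz
  have h4 : e.inv.hom z * (τ ⊗ₜ[R] (1 : R')) = 0 := by
    have : e.inv.hom (z * e.hom.hom (τ ⊗ₜ[R] (1 : R'))) = 0 := by rw [hz, map_zero]
    rw [map_mul] at this
    rw [← this]
    congr 1
    exact (congrArg (fun k => k.hom (τ ⊗ₜ[R] (1 : R'))) e.hom_inv_id).symm
  have h5 := h2 _ h4
  have h6 : e.hom.hom (e.inv.hom z) = z := congrArg (fun k => k.hom z) e.inv_hom_id
  rw [← h6, h5, map_zero]

end pushout

end Groth.Agent.Lib.helper28.FlatSeq
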