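import Groth.Agent.Lib.Helper28.BlowUpChart
import Groth.Agent.Lib.Helper28.FlatSeq
import Groth.Agent.Lib.Helper16.EffCartier
import Groth.Agent.Lib.Helper7.IdealComap

/-!
# Blowing up and flatness (helper28)

Let `b : X' ⟶ X` be a blowing up of `𝓘` and `g : X ⟶ S` with all `V(𝓘ⁿ⁺¹)` flat over `S`.
* `flat_exceptional`: the exceptional divisor is flat over `S`;
* `flat_comp_of_isBlowUp`: if moreover `g` is flat, so is `b ≫ g`;
* `isEffCartier_comap_of_isPullback`: an effective Cartier divisor that is flat over `S` pulls back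
  to an effective Cartier divisor under every base change `T ⟶ S`;
* `isBlowUp_of_isPullback`: the base change of a blowing up is a blowing up as soon as the inverse
  image of the exceptional divisor is effective Cartier.
-/

set_option autoImplicit false
set_option linter.style.haveILetI false
set_option linter.unusedTactic false
universe u

open CategoryTheory CategoryTheory.Limits AlgebraicGeometry Opposite TopologicalSpace

namespace Groth.Agent.Lib.helper28.BlowUpFlat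

open Groth.Agent.Lib.helper28.ReesAlg Groth.Agent.Lib.helper28.ReesProj
  Groth.Agent.Lib.helper28.ReesFlat Groth.Agent.Lib.helper28.BlowUpChart
  Groth.Agent.Lib.helper28.FlatSeq
  Groth.Agent.Lib.helper16.ReesBlowup

section subscheme

variable {Y S : Scheme.{u}} (J : Y.IdealSheafData) (h : Y ⟶ S)

theorem preimage_le_comp {US : S.Opens} {W : Y.Opens} (e : W ≤ h ⁻¹ᵁ US) :
    J.subschemeι ⁻¹ᵁ W ≤ (J.subschemeι ≫ h) ⁻¹ᵁ US := by
  rw [Scheme.Hom.comp_preimage]
  exact J.subschemeι.preimage_mono e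

/-- Ring-level description of `(J.subschemeι ≫ h).appLE`. -/
theorem subschemeι_comp_appLE (US : S.Opens) (W : Y.Opens) (hW : IsAffineOpen W)
    (e : W ≤ h ⁻¹ᵁ US) :
    (J.subschemeι ≫ h).appLE US (J.subschemeι ⁻¹ᵁ W) (preimage_le_comp J h e) =
      h.appLE US W e ≫ CommRingCat.ofHom (Ideal.Quotient.mk (J.ideal ⟨W, hW⟩)) ≫
        (J.subschemeObjIso ⟨W, hW⟩).inv := by
  rw [← J.subschemeι_app ⟨W, hW⟩, Scheme.Hom.app_eq_appLE, Scheme.Hom.appLE_comp_appLE]

theorem flat_appLE_subscheme_iff (US : S.Opens) (W : Y.Opens) (hW : IsAffineOpen W)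
    (e : W ≤ h ⁻¹ᵁ US) :
    RingHom.Flat ((J.subschemeι ≫ h).appLE US (J.subschemeι ⁻¹ᵁ W)
      (preimage_le_comp J h e)).hom ↔
      ((Ideal.Quotient.mk (J.ideal ⟨W, hW⟩)).comp (h.appLE US W e).hom).Flat := by
  rw [subschemeι_comp_appLE J h US W hW e, ← Category.assoc, CommRingCat.hom_comp,
    RingHom.Flat.respectsIso.cancel_right_isIso]
  rfl

theorem ringHom_flat_of_flat_subschemeι (hfl : Flat (J.subschemeι ≫ h)) (US : S.Opens)
    (hUS : IsAffineOpen US) (W : Y.Opens) (hW : IsAffineOpen W) (e : W ≤ h ⁻¹ᵁ US) :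
    ((Ideal.Quotient.mk (J.ideal ⟨W, hW⟩)).comp (h.appLE US W e).hom).Flat := by
  rw [← flat_appLE_subscheme_iff J h US W hW e]
  exact HasRingHomProperty.appLE (P := @Flat) _ hfl ⟨US, hUS⟩
    ⟨J.subschemeι ⁻¹ᵁ W, hW.preimage J.subschemeι⟩ _

end subscheme

section transfer

variable {R C' G : Type u} [CommRing R] [CommRing C'] [CommRing G]

theorem flat_transfer (ρ : R →+* C') (θ : C' ≃+* G) (β : R →+* G)
    (hβ : ∀ r, β r = θ (ρ r)) (h : ρ.Flat) : β.Flat := by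
  have h2 := RingHom.Flat.respectsIso.1 ρ θ h
  convert h2 using 1
  ext r
  exact hβ r

theorem flat_quotient_transfer (ρ : R →+* C') (τ : C') (θ : C' ≃+* G) (J : Ideal G)
    (hJ : J = (Ideal.span {τ}).map (θ : C' →+* G)) (β : R →+* G)
    (hβ : ∀ r, β r = θ (ρ r))
    (h : ((Ideal.Quotient.mk (Ideal.span {τ})).comp ρ).Flat) :
    ((Ideal.Quotient.mk J).comp β).Flat := by
  refine flat_transfer ((Ideal.Quotient.mk (Ideal.span {τ})).comp ρ)
    (Ideal.quotientEquiv (Ideal.span {τ}) J θ hJ) _ (fun r => ?_) h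
  rw [RingHom.comp_apply, RingHom.comp_apply, hβ, Ideal.quotientEquiv_mk]

end transfer

section blowup

variable {X X' S : Scheme.{u}} (g : X ⟶ S) (𝓘 : X.IdealSheafData)

/-- the ring-level flatness hypotheses, from the geometric ones. -/
theorem flat_quot_pow (hflat : ∀ n : ℕ, Flat ((𝓘 ^ (n + 1)).subschemeι ≫ g))
    (US : S.Opens) (hUS : IsAffineOpen US) (U : X.Opens) (hU : IsAffineOpen U)
    (e : U ≤ g ⁻¹ᵁ US) (n : ℕ) :
    ((Ideal.Quotient.mk (IU 𝓘 U hU ^ (n + 1))).comp (g.appLE US U e).hom).Flat :=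
  ringHom_flat_of_flat_subschemeι (𝓘 ^ (n + 1)) g (hflat n) US hUS U hU e

/-- the exceptional ideal on a chart. -/
theorem ideal_chart_eq {b : X' ⟶ X} (U : X.Opens) (hU : IsAffineOpen U) (a : Γ(X, U))
    (ha : a ∈ IU 𝓘 U hU) (W' : X'.Opens) (hW' : IsAffineOpen W') (hle : W' ≤ b ⁻¹ᵁ U)
    (θ : C (IU 𝓘 U hU) a ha ≃+* Γ(X', W'))
    (hθ : θ.toRingHom.comp (toAway (IU 𝓘 U hU) a ha) = (b.appLE U W' hle).hom) :
    (𝓘.comap b).ideal ⟨W', hW'⟩ =
      (Ideal.span {toAway (IU 𝓘 U hU) a ha a}).map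
        (θ : C (IU 𝓘 U hU) a ha →+* Γ(X', W')) := by
  rw [Groth.Agent.Lib.helper7.IdealComap.ideal_comap b 𝓘 hU hW' hle, ← hθ, ← Ideal.map_map,
    map_toAway_eq_span]
  rfl

/-- **The exceptional divisor of a blowing up is flat over `S`** when all the infinitesimal
neighbourhoods of the centre are. -/
theorem flat_exceptional (hflat : ∀ n : ℕ, Flat ((𝓘 ^ (n + 1)).subschemeι ≫ g)) (b : X' ⟶ X)
    (hb : BlowUp.IsBlowUp b 𝓘) : Flat ((𝓘.comap b).subschemeι ≫ b ≫ g) := by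
  rw [HasRingHomProperty.iff_exists_appLE (P := @Flat)
    (RingHom.Flat.stableUnderComposition.stableUnderCompositionWithLocalizationAway
      RingHom.Flat.holdsForLocalizationAway).left]
  intro z
  set x' : X' := (𝓘.comap b).subschemeι z with hx'
  obtain ⟨US, hUS, hxUS, -⟩ := Opens.isBasis_iff_nbhd.mp S.isBasis_affineOpens
    (Opens.mem_top (g (b x')))
  obtain ⟨U, hU, hxU, e⟩ := Opens.isBasis_iff_nbhd.mp X.isBasis_affineOpens
    (show b x' ∈ g ⁻¹ᵁ US from hxUS)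
  obtain ⟨a, ha, W', hW', hle, θ, hxW', hθ⟩ := exists_chart 𝓘 b hb U hU x' hxU
  have e' : W' ≤ (b ≫ g) ⁻¹ᵁ US := by
    rw [Scheme.Hom.comp_preimage]
    exact hle.trans (b.preimage_mono e)
  refine ⟨⟨US, hUS⟩, ⟨(𝓘.comap b).subschemeι ⁻¹ᵁ W', hW'.preimage _⟩, hxW',
    preimage_le_comp (𝓘.comap b) (b ≫ g) e', ?_⟩
  rw [flat_appLE_subscheme_iff (𝓘.comap b) (b ≫ g) US W' hW' e']
  have h1 := flat_chart_quotient_of_ringHom (IU 𝓘 U hU) a ha (g.appLE US U e).hom
    (flat_quot_pow g 𝓘 hflat US hUS U hU e)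
  have hid := ideal_chart_eq 𝓘 U hU a ha W' hW' hle θ hθ
  have key : ∀ r, ((b ≫ g).appLE US W' e').hom r =
      θ ((toAway (IU 𝓘 U hU) a ha) ((g.appLE US U e).hom r)) := by
    intro r
    rw [← Scheme.Hom.appLE_comp_appLE _ _ US U W' e hle]
    exact (RingHom.congr_fun hθ ((g.appLE US U e).hom r)).symm
  exact @flat_quotient_transfer Γ(S, US) (C (IU 𝓘 U hU) a ha) Γ(X', W') _ _ _
    ((toAway (IU 𝓘 U hU) a ha).comp (g.appLE US U e).hom)
    (toAway (IU 𝓘 U hU) a ha a) θ ((𝓘.comap b).ideal ⟨W', hW'⟩) hid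
    ((b ≫ g).appLE US W' e').hom key h1

/-- **The blowing up is flat over `S`** when `X` and all the infinitesimal neighbourhoods of the
centre are. -/
theorem flat_comp_of_isBlowUp [Flat g] (hflat : ∀ n : ℕ, Flat ((𝓘 ^ (n + 1)).subschemeι ≫ g))
    (b : X' ⟶ X) (hb : BlowUp.IsBlowUp b 𝓘) : Flat (b ≫ g) := by
  rw [HasRingHomProperty.iff_exists_appLE (P := @Flat)
    (RingHom.Flat.stableUnderComposition.stableUnderCompositionWithLocalizationAway
      RingHom.Flat.holdsForLocalizationAway).left]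
  intro x'
  obtain ⟨US, hUS, hxUS, -⟩ := Opens.isBasis_iff_nbhd.mp S.isBasis_affineOpens
    (Opens.mem_top (g (b x')))
  obtain ⟨U, hU, hxU, e⟩ := Opens.isBasis_iff_nbhd.mp X.isBasis_affineOpens
    (show b x' ∈ g ⁻¹ᵁ US from hxUS)
  obtain ⟨a, ha, W', hW', hle, θ, hxW', hθ⟩ := exists_chart 𝓘 b hb U hU x' hxU
  have e' : W' ≤ (b ≫ g) ⁻¹ᵁ US := by
    rw [Scheme.Hom.comp_preimage]
    exact hle.trans (b.preimage_mono e)
  refine ⟨⟨US, hUS⟩, ⟨W', hW'⟩, hxW', e', ?_⟩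
  have hρ : (g.appLE US U e).hom.Flat :=
    HasRingHomProperty.appLE (P := @Flat) g inferInstance ⟨US, hUS⟩ ⟨U, hU⟩ e
  have h1 := flat_chart_of_ringHom (IU 𝓘 U hU) a ha (g.appLE US U e).hom hρ
    (flat_quot_pow g 𝓘 hflat US hUS U hU e)
  have key : ∀ r, ((b ≫ g).appLE US W' e').hom r =
      θ ((toAway (IU 𝓘 U hU) a ha) ((g.appLE US U e).hom r)) := by
    intro r
    rw [← Scheme.Hom.appLE_comp_appLE _ _ US U W' e hle]
    exact (RingHom.congr_fun hθ ((g.appLE US U e).hom r)).symm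
  exact @flat_transfer Γ(S, US) (C (IU 𝓘 U hU) a ha) Γ(X', W') _ _ _
    ((toAway (IU 𝓘 U hU) a ha).comp (g.appLE US U e).hom) θ
    ((b ≫ g).appLE US W' e').hom key h1

end blowup

section basechange

/-- **An effective Cartier divisor flat over the base pulls back to an effective Cartier divisor
under every base change.** -/
theorem isEffCartier_comap_of_isPullback {Y S T P : Scheme.{u}} (E : Y.IdealSheafData)
    (hE : BlowUp.IsEffCartierIdeal E) (h : Y ⟶ S) (hfl : Flat (E.subschemeι ≫ h))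
    (gT : T ⟶ S) (fst : P ⟶ Y) (snd : P ⟶ T) (H : IsPullback fst snd h gT) :
    BlowUp.IsEffCartierIdeal (E.comap fst) := by
  intro z
  obtain ⟨US, hUS, hzUS, -⟩ := Opens.isBasis_iff_nbhd.mp S.isBasis_affineOpens
    (Opens.mem_top (h (fst z)))
  have hz2 : gT (snd z) ∈ US := by
    have h1 : (fst ≫ h) z = (snd ≫ gT) z := by rw [H.w]
    rw [Scheme.Hom.comp_apply, Scheme.Hom.comp_apply] at h1
    rw [← h1]
    exact hzUS
  obtain ⟨UT, hUT, hzUT, eT⟩ := Opens.isBasis_iff_nbhd.mp T.isBasis_affineOpens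
    (show snd z ∈ gT ⁻¹ᵁ US from hz2)
  obtain ⟨W, hzW, hWle, τ, hτ, hEW⟩ :=
    Groth.Agent.Lib.helper16.EffCartier.exists_principal_le hE (fst z) (h ⁻¹ᵁ US) hzUS
  obtain ⟨V, hV⟩ : ∃ V : P.Opens, V = fst ⁻¹ᵁ W.1 ⊓ snd ⁻¹ᵁ UT := ⟨_, rfl⟩
  have hzV : z ∈ V := by
    rw [hV]
    exact ⟨hzW, hzUT⟩
  have hVW : V ≤ fst ⁻¹ᵁ W.1 := by
    rw [hV]
    exact inf_le_left
  have hVaff : IsAffineOpen V := by
    haveI : IsAffine (US : Scheme.{u}) := hUS
    haveI : IsAffine (UT : Scheme.{u}) := hUT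
    haveI : IsAffine (W.1 : Scheme.{u}) := W.2
    exact .of_isIso (Scheme.Hom.isPullback_resLE H eT hWle hV).isoPullback.hom
  have hpo := (isIso_pushoutSection_iff H eT hWle hV).mp
    (isIso_pushoutSection_of_isAffineOpen H eT hWle hV hUS hUT W.2)
  refine ⟨⟨V, hVaff⟩, hzV, (fst.appLE W.1 V hVW).hom τ, ?_, ?_⟩
  · refine map_mem_nonZeroDivisors_of_isPushout hpo τ hτ ?_
    have h3 := ringHom_flat_of_flat_subschemeι E h hfl US hUS W.1 W.2 hWle
    rw [hEW] at h3
    exact h3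
  · rw [Groth.Agent.Lib.helper7.IdealComap.ideal_comap fst E W.2 hVaff hVW, hEW, Ideal.map_span,
      Set.image_singleton]

/-- **Base change of a blowing up**: it is a blowing up as soon as the inverse image of the
exceptional divisor is effective Cartier. -/
theorem isBlowUp_of_isPullback {X X' Z Z' : Scheme.{u}} (𝓘 : X.IdealSheafData) (b : X' ⟶ X)
    (hb : BlowUp.IsBlowUp b 𝓘) (p : Z ⟶ X) (p' : Z' ⟶ X') (b' : Z' ⟶ Z)
    (H : IsPullback p' b' b p) (heff : BlowUp.IsEffCartierIdeal ((𝓘.comap b).comap p')) :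
    BlowUp.IsBlowUp b' (𝓘.comap p) := by
  refine ⟨?_, ?_⟩
  · rw [← Scheme.IdealSheafData.comap_comp, ← H.w, Scheme.IdealSheafData.comap_comp]
    exact heff
  · intro Y g' hg'
    rw [← Scheme.IdealSheafData.comap_comp] at hg'
    obtain ⟨k, hk, huniq⟩ := hb.2 Y (g' ≫ p) hg'
    refine ⟨H.lift k g' hk, H.lift_snd _ _ _, ?_⟩
    intro k' hk'
    apply H.hom_ext
    · rw [H.lift_fst]
      apply huniq
      change (k' ≫ p') ≫ b = g' ≫ p
      rw [Category.assoc, H.w, ← Category.assoc, hk']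
    · rw [H.lift_snd]
      exact hk'

end basechange

end Groth.Agent.Lib.helper28.BlowUpFlat
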