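import Groth.Agent.Lib.Helper28.BlowUpChart2
import Groth.Agent.Lib.Helper28.BlowUpFlat

/-!
# Base change of a blowing up in an `H₁`-regular ideal along a Tor-independent morphism (helper28)

`isBlowUp_snd_of_h1`: let `b : B ⟶ X` be a blowing up of `𝓘`, and `g : X' ⟶ X` a morphism such
that locally `𝓘` is generated by an `H₁`-regular sequence whose image on affine opens of `X'` is
again `H₁`-regular.  Then `B ×_X X' ⟶ X'` is a blowing up of `𝓘 · O_{X'}`.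
-/

set_option autoImplicit false
set_option linter.style.haveILetI false
set_option linter.unusedTactic false
universe u

open CategoryTheory CategoryTheory.Limits AlgebraicGeometry Opposite TopologicalSpace

namespace Groth.Agent.Lib.helper28.BlowUpTor

open Groth.Agent.Lib.helper28.ReesAlg Groth.Agent.Lib.helper28.ReesProj
  Groth.Agent.Lib.helper28.ReesFlat Groth.Agent.Lib.helper28.BlowUpChart
  Groth.Agent.Lib.helper28.BlowUpFlat Groth.Agent.Lib.helper28.ReesPres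
  Groth.Agent.Lib.helper16.ReesBlowup

variable {X X' B : Scheme.{u}} (𝓘 : X.IdealSheafData) (g : X' ⟶ X) (b : B ⟶ X)

theorem isEffCartier_comap_fst_of_h1 (hb : BlowUp.IsBlowUp b 𝓘)
    (hloc : ∀ x : X, ∃ (U : X.Opens) (hU : IsAffineOpen U) (r : ℕ) (f : Fin r → Γ(X, U)),
      x ∈ U ∧ 𝓘.ideal ⟨U, hU⟩ = Ideal.span (Set.range f) ∧ CAlgX.IsH1Regular f ∧
      ∀ (V : X'.Opens) (_ : IsAffineOpen V) (e : V ≤ g ⁻¹ᵁ U),
        CAlgX.IsH1Regular (fun j => (g.appLE U V e).hom (f j))) :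
    BlowUp.IsEffCartierIdeal ((𝓘.comap b).comap (pullback.fst b g)) := by
  intro z
  obtain ⟨U, hU, r, f, hpU, hI, hH1, hH1'⟩ := hloc (b (pullback.fst b g z))
  have hmem : ∀ j, f j ∈ IU 𝓘 U hU := fun j => by
    change f j ∈ 𝓘.ideal ⟨U, hU⟩
    rw [hI]
    exact Ideal.subset_span ⟨j, rfl⟩
  have hspan : IU 𝓘 U hU ≤ Ideal.span (Set.range f) := hI.le
  obtain ⟨i, W', hW', hle, θ, hxW', hθ⟩ :=
    exists_chart_of_span 𝓘 b hb U hU f hmem hspan (pullback.fst b g z) hpU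
  have hz2 : g (pullback.snd b g z) ∈ U := by
    have h1 : (pullback.fst b g ≫ b) z = (pullback.snd b g ≫ g) z := by rw [pullback.condition]
    rw [Scheme.Hom.comp_apply, Scheme.Hom.comp_apply] at h1
    rw [← h1]
    exact hpU
  obtain ⟨V, hV, hzV, eV⟩ := Opens.isBasis_iff_nbhd.mp X'.isBasis_affineOpens
    (show pullback.snd b g z ∈ g ⁻¹ᵁ U from hz2)
  obtain ⟨𝒱, h𝒱⟩ : ∃ 𝒱 : (pullback b g).Opens,
      𝒱 = pullback.fst b g ⁻¹ᵁ W' ⊓ pullback.snd b g ⁻¹ᵁ V := ⟨_, rfl⟩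
  have hz𝒱 : z ∈ 𝒱 := by
    rw [h𝒱]
    exact ⟨hxW', hzV⟩
  have h𝒱W : 𝒱 ≤ pullback.fst b g ⁻¹ᵁ W' := by
    rw [h𝒱]
    exact inf_le_left
  have H := IsPullback.of_hasPullback b g
  have h𝒱aff : IsAffineOpen 𝒱 := by
    haveI : IsAffine (U : Scheme.{u}) := hU
    haveI : IsAffine (V : Scheme.{u}) := hV
    haveI : IsAffine (W' : Scheme.{u}) := hW'
    exact .of_isIso (Scheme.Hom.isPullback_resLE H eV hle h𝒱).isoPullback.hom
  have hpo := (isIso_pushoutSection_iff H eV hle h𝒱).mp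
    (isIso_pushoutSection_of_isAffineOpen H eV hle h𝒱 hU hV hW')
  have hnzd := map_mem_nonZeroDivisors_of_isPushout_of_h1 hpo (IU 𝓘 U hU) f hmem hspan i hH1
    (hH1' V hV eV) θ hθ
  refine ⟨⟨𝒱, h𝒱aff⟩, hz𝒱, _, hnzd, ?_⟩
  rw [Groth.Agent.Lib.helper7.IdealComap.ideal_comap (pullback.fst b g) (𝓘.comap b) hW' h𝒱aff h𝒱W,
    ideal_chart_eq 𝓘 U hU (f i) (hmem i) W' hW' hle θ hθ, Ideal.map_span, Set.image_singleton,
    Ideal.map_span, Set.image_singleton]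
  congr 3
  exact RingHom.congr_fun hθ (f i)

/-- **Base change of a blowing up along a Tor-independent morphism** (`H₁`-regular form). -/
theorem isBlowUp_snd_of_h1 (hb : BlowUp.IsBlowUp b 𝓘)
    (hloc : ∀ x : X, ∃ (U : X.Opens) (hU : IsAffineOpen U) (r : ℕ) (f : Fin r → Γ(X, U)),
      x ∈ U ∧ 𝓘.ideal ⟨U, hU⟩ = Ideal.span (Set.range f) ∧ CAlgX.IsH1Regular f ∧
      ∀ (V : X'.Opens) (_ : IsAffineOpen V) (e : V ≤ g ⁻¹ᵁ U),
        CAlgX.IsH1Regular (fun j => (g.appLE U V e).hom (f j))) :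
    BlowUp.IsBlowUp (pullback.snd b g) (𝓘.comap g) :=
  isBlowUp_of_isPullback 𝓘 b hb g (pullback.fst b g) (pullback.snd b g)
    (IsPullback.of_hasPullback b g) (isEffCartier_comap_fst_of_h1 𝓘 g b hb hloc)

end Groth.Agent.Lib.helper28.BlowUpTor
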