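import Mathlib
import Groth.Agent.Lib.Helper16.ReesBlowup
import Groth.Agent.Lib.Helper28.FlatSeq

/-!
# Flatness of the charts of a blow-up and of its exceptional divisor (helper28)

`R → A` a ring map, `I ⊆ A` an ideal, `a ∈ I`, `C = A[I/a]` the chart ring of the blow-up
(helper16's `Away (Rees.deg (reesAlgebra I)) (F I a ha)`).
* `flat_chart`: if every `Iⁿ` is flat over `R`, so is `C`.
* `flat_chart_quotient`: if every `A ⧸ Iⁿ` is flat over `R`, so is `C ⧸ (a)`.
-/

set_option autoImplicit false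
set_option linter.style.haveILetI false

universe u

open Polynomial HomogeneousLocalization

namespace Groth.Agent.Lib.helper28.ReesFlat

open Groth.Agent.Lib.helper16.ReesBlowup Groth.Agent.Lib.helper28.FlatSeq

variable {A : Type u} [CommRing A] (I : Ideal A) (a : A) (ha : a ∈ I)

/-- The chart ring `A[I/a]`. -/
abbrev C : Type u := Away (Rees.deg (reesAlgebra I)) (F I a ha)

theorem mon_smul (n : ℕ) (α x : A) (hx : x ∈ I ^ n) :
    mon I n (α * x) (Ideal.mul_mem_left _ _ hx) = algebraMap A (reesAlgebra I) α * mon I n x hx := by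
  apply Subtype.ext
  simp only [coe_mon, Subalgebra.coe_mul, Subalgebra.coe_algebraMap, Polynomial.algebraMap_eq]
  rw [C_mul_monomial]

theorem frac_smul (n : ℕ) (α x : A) (hx : x ∈ I ^ n) :
    frac I a ha n (α * x) (Ideal.mul_mem_left _ _ hx) = toAway I a ha α * frac I a ha n x hx := by
  apply HomogeneousLocalization.val_injective
  rw [val_mul, val_frac, val_frac, val_toAway, Localization.mk_mul, mon_smul, one_mul]

theorem frac_add (n : ℕ) (x y : A) (hx : x ∈ I ^ n) (hy : y ∈ I ^ n) :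
    frac I a ha n (x + y) (add_mem hx hy) = frac I a ha n x hx + frac I a ha n y hy := by
  apply HomogeneousLocalization.val_injective
  rw [val_add, val_frac, val_frac, val_frac, mon_add I n x y hx hy, Localization.add_mk_self]

include ha in
theorem pow_mul_mem {n m : ℕ} (h : n ≤ m) {x : A} (hx : x ∈ I ^ n) :
    a ^ (m - n) * x ∈ I ^ m := by
  have h1 : a ^ (m - n) * x ∈ I ^ (m - n) * I ^ n :=
    Ideal.mul_mem_mul (Ideal.pow_mem_pow ha _) hx
  rwa [← pow_add, Nat.sub_add_cancel h] at h1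

theorem frac_pow_mul {n m : ℕ} (h : n ≤ m) (x : A) (hx : x ∈ I ^ n) :
    frac I a ha m (a ^ (m - n) * x) (pow_mul_mem I a ha h hx) = frac I a ha n x hx := by
  apply HomogeneousLocalization.val_injective
  rw [val_frac, val_frac, Localization.mk_eq_mk_iff, Localization.r_iff_exists]
  refine ⟨1, ?_⟩
  simp only [OneMemClass.coe_one, one_mul]
  apply Subtype.ext
  simp only [F, Subalgebra.coe_mul, Subalgebra.coe_pow, coe_mon, monomial_pow, monomial_mul_monomial,
    one_mul]
  obtain ⟨k, rfl⟩ := Nat.exists_eq_add_of_le h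
  rw [Nat.add_sub_cancel_left, show n + (n + k) = n + k + n by omega,
    show a ^ n * (a ^ k * x) = a ^ (n + k) * x by ring]

theorem exists_pow_mul_eq_zero {n : ℕ} (x : A) (hx : x ∈ I ^ n) (h0 : frac I a ha n x hx = 0) :
    ∃ k : ℕ, a ^ k * x = 0 := by
  have h1 := congrArg HomogeneousLocalization.val h0
  rw [val_frac, val_zero, Localization.mk_eq_mk', IsLocalization.mk'_eq_zero_iff] at h1
  obtain ⟨⟨_, k, rfl⟩, hk⟩ := h1
  refine ⟨k, ?_⟩
  have := congrArg (fun p : reesAlgebra I => (p : A[X]).coeff (k + n)) hk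
  simp only [F, Subalgebra.coe_mul, Subalgebra.coe_pow, coe_mon, monomial_pow,
    monomial_mul_monomial, one_mul, coeff_monomial, if_true, Subalgebra.coe_zero,
    coeff_zero] at this
  exact this

theorem frac_congr {n : ℕ} {x y : A} (h : x = y) (hx : x ∈ I ^ n) (hy : y ∈ I ^ n) :
    frac I a ha n x hx = frac I a ha n y hy := by
  subst h; rfl

theorem frac_sub (n : ℕ) (x y : A) (hx : x ∈ I ^ n) (hy : y ∈ I ^ n) :
    frac I a ha n (x - y) (sub_mem hx hy) = frac I a ha n x hx - frac I a ha n y hy := by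
  have h := frac_add I a ha n (x - y) y (sub_mem hx hy) hy
  have h2 : frac I a ha n (x - y) (sub_mem hx hy) + frac I a ha n y hy = frac I a ha n x hx :=
    h.symm.trans (frac_congr I a ha (sub_add_cancel x y) _ _)
  exact eq_sub_of_add_eq (G := C I a ha) h2

/-- Key identity: for `x ∈ Iⁿ⁺¹`, `x Xⁿ/(aX)ⁿ = a · x Xⁿ⁺¹/(aX)ⁿ⁺¹`. -/
theorem frac_eq_mul_frac_succ (n : ℕ) (x : A) (hx : x ∈ I ^ (n + 1)) :
    frac I a ha n x (Ideal.pow_le_pow_right (Nat.le_succ n) hx) =
      toAway I a ha a * frac I a ha (n + 1) x hx := by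
  rw [← frac_smul, ← frac_pow_mul I a ha (Nat.le_succ n) x
    (Ideal.pow_le_pow_right (Nat.le_succ n) hx)]
  refine frac_congr I a ha ?_ _ _
  rw [Nat.succ_sub (le_refl n), Nat.sub_self, pow_one]

section flat

variable {R : Type*} [CommRing R] [Algebra R A]

/-- The `R`-algebra structure on the chart ring. -/
@[reducible] noncomputable def algC : Algebra R (C I a ha) :=
  ((toAway I a ha).comp (algebraMap R A)).toAlgebra

attribute [local instance] algC

theorem smul_C_def (r : R) (c : C I a ha) : r • c = toAway I a ha (algebraMap R A r) * c := rfl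

/-- `x ↦ x Xⁿ/(aX)ⁿ` as an `R`-linear map `Iⁿ → A[I/a]`. -/
noncomputable def phi (n : ℕ) : ↥(I ^ n) →ₗ[R] C I a ha where
  toFun x := frac I a ha n x.1 x.2
  map_add' x y := frac_add I a ha n x.1 y.1 x.2 y.2
  map_smul' r x := by
    rw [RingHom.id_apply, smul_C_def, ← frac_smul]
    refine frac_congr I a ha ?_ _ _
    rw [Submodule.coe_smul_of_tower, Algebra.smul_def]

/-- multiplication by `a ^ (m - n)` as an `R`-linear map `Iⁿ → Iᵐ`. -/
noncomputable def tr (n m : ℕ) (h : n ≤ m) : ↥(I ^ n) →ₗ[R] ↥(I ^ m) where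
  toFun x := ⟨a ^ (m - n) * x.1, pow_mul_mem I a ha h x.2⟩
  map_add' x y := Subtype.ext (by simp [mul_add])
  map_smul' r x := Subtype.ext (by
    simp only [Submodule.coe_smul_of_tower, RingHom.id_apply, mul_smul_comm])

theorem phi_tr (n m : ℕ) (h : n ≤ m) (x : ↥(I ^ n)) :
    phi (R := R) I a ha m (tr (R := R) I a ha n m h x) = phi (R := R) I a ha n x :=
  frac_pow_mul I a ha h x.1 x.2

/-- `flat_of_seq` for an algebra (instances in the shape produced by `Algebra.toModule`). -/
theorem flat_of_seq' {R : Type*} [CommRing R] {S : Type*} [CommRing S] [Algebra R S]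
    {P : ℕ → Type*} [∀ n, AddCommGroup (P n)] [∀ n, Module R (P n)]
    (φ : ∀ n, P n →ₗ[R] S) (t : ∀ n m, n ≤ m → (P n →ₗ[R] P m))
    (hφt : ∀ n m (h : n ≤ m) (x : P n), φ m (t n m h x) = φ n x)
    (hsurj : ∀ y : S, ∃ (n : ℕ) (x : P n), φ n x = y)
    (hzero : ∀ (n : ℕ) (x : P n), φ n x = 0 → ∃ (m : ℕ) (h : n ≤ m), t n m h x = 0)
    (hflat : ∀ n, Module.Flat R (P n)) : Module.Flat R S :=
  flat_of_seq φ t hφt hsurj hzero hflat

/-- If all powers `Iⁿ` are flat over `R`, the chart ring `A[I/a]` is flat over `R`. -/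
theorem flat_chart (hI : ∀ n, Module.Flat R ↥(I ^ n)) :
    ((toAway I a ha).comp (algebraMap R A)).Flat := by
  have key : Module.Flat R (C I a ha) := by
    refine flat_of_seq' (R := R) (S := C I a ha) (P := fun n => ↥(I ^ n)) (phi I a ha) (tr I a ha)
      (phi_tr I a ha) ?_ ?_ hI
    · intro y
      obtain ⟨n, x, hx, rfl⟩ := frac_surjective I a ha y
      exact ⟨n, ⟨x, hx⟩, rfl⟩
    · intro n x hx
      obtain ⟨k, hk⟩ := exists_pow_mul_eq_zero I a ha x.1 x.2 hx
      refine ⟨n + k, Nat.le_add_right n k, Subtype.ext ?_⟩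
      change a ^ (n + k - n) * x.1 = 0
      rw [Nat.add_sub_cancel_left, hk]
  exact key

/-! ### The exceptional divisor of the chart -/

/-- `Iⁿ⁺¹` as an `R`-submodule of `Iⁿ`. -/
def N (n : ℕ) : Submodule R ↥(I ^ n) :=
  ((I ^ (n + 1)).restrictScalars R).comap ((I ^ n).subtype.restrictScalars R)

theorem mem_N {n : ℕ} (x : ↥(I ^ n)) : x ∈ N (R := R) I n ↔ x.1 ∈ I ^ (n + 1) := Iff.rfl

/-- `Iⁿ/Iⁿ⁺¹` as an `R`-module. -/
abbrev Q (n : ℕ) : Type u := ↥(I ^ n) ⧸ N (R := R) I n

/-- The ring of the exceptional divisor of the chart. -/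
abbrev D : Type u := C I a ha ⧸ Ideal.span {toAway I a ha a}

/-- `Iⁿ/Iⁿ⁺¹ → A[I/a]/(a)`. -/
noncomputable def phiBar (n : ℕ) : Q (R := R) I n →ₗ[R] D I a ha :=
  (N (R := R) I n).liftQ
    ((Ideal.Quotient.mkₐ R (Ideal.span {toAway I a ha a})).toLinearMap ∘ₗ phi (R := R) I a ha n) (by
    intro x hx
    rw [mem_N] at hx
    rw [LinearMap.mem_ker, LinearMap.comp_apply]
    change Ideal.Quotient.mk _ (frac I a ha n x.1 x.2) = 0
    rw [Ideal.Quotient.eq_zero_iff_mem, frac_eq_mul_frac_succ I a ha n x.1 hx]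
    exact Ideal.mul_mem_right _ _ (Ideal.mem_span_singleton_self _))

theorem phiBar_mk (n : ℕ) (x : ↥(I ^ n)) :
    phiBar (R := R) I a ha n (Submodule.Quotient.mk x) =
      Ideal.Quotient.mk _ (frac I a ha n x.1 x.2) := rfl

/-- `Iⁿ/Iⁿ⁺¹ → Iᵐ/Iᵐ⁺¹`, multiplication by `a ^ (m - n)`. -/
noncomputable def trBar (n m : ℕ) (h : n ≤ m) : Q (R := R) I n →ₗ[R] Q (R := R) I m :=
  (N (R := R) I n).mapQ (N (R := R) I m) (tr (R := R) I a ha n m h) (by
    intro x hx
    rw [mem_N] at hx
    rw [Submodule.mem_comap, mem_N]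
    change a ^ (m - n) * x.1 ∈ I ^ (m + 1)
    have := pow_mul_mem I a ha (Nat.succ_le_succ h) hx
    rwa [Nat.succ_sub_succ] at this)

theorem trBar_mk (n m : ℕ) (h : n ≤ m) (x : ↥(I ^ n)) :
    trBar (R := R) I a ha n m h (Submodule.Quotient.mk x) =
      Submodule.Quotient.mk (tr (R := R) I a ha n m h x) := rfl

theorem flat_Q (hA : ∀ m, Module.Flat R (A ⧸ I ^ m)) (n : ℕ) : Module.Flat R (Q (R := R) I n) := by
  let g : Q (R := R) I n →ₗ[R] A ⧸ I ^ (n + 1) :=
    (N (R := R) I n).liftQ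
      ((Ideal.Quotient.mkₐ R (I ^ (n + 1))).toLinearMap ∘ₗ ((I ^ n).subtype.restrictScalars R)) (by
      intro x hx
      rw [mem_N] at hx
      rw [LinearMap.mem_ker, LinearMap.comp_apply]
      exact Ideal.Quotient.eq_zero_iff_mem.mpr hx)
  let f : A ⧸ I ^ (n + 1) →ₗ[R] A ⧸ I ^ n :=
    (Ideal.Quotient.factorₐ R (Ideal.pow_le_pow_right (Nat.le_succ n))).toLinearMap
  have hg : Function.Injective g := by
    rw [← LinearMap.ker_eq_bot]
    refine Submodule.ker_liftQ_eq_bot _ _ _ ?_
    intro x hx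
    rw [LinearMap.mem_ker, LinearMap.comp_apply] at hx
    exact Ideal.Quotient.eq_zero_iff_mem.mp hx
  have hf : Function.Surjective f :=
    Ideal.Quotient.factor_surjective (Ideal.pow_le_pow_right (Nat.le_succ n))
  have H : Function.Exact g f := by
    intro y
    obtain ⟨z, rfl⟩ := Ideal.Quotient.mk_surjective y
    constructor
    · intro hz
      have hz' : z ∈ I ^ n := Ideal.Quotient.eq_zero_iff_mem.mp hz
      exact ⟨Submodule.Quotient.mk ⟨z, hz'⟩, rfl⟩
    · rintro ⟨q, hq⟩
      obtain ⟨x, rfl⟩ := Submodule.Quotient.mk_surjective _ q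
      rw [← hq]
      exact Ideal.Quotient.eq_zero_iff_mem.mpr x.2
  haveI := hA (n + 1)
  haveI := hA n
  exact flat_of_exact g f hg hf H

/-- If all `A ⧸ Iⁿ` are flat over `R`, the exceptional divisor `A[I/a]/(a)` of the chart is flat
over `R`. -/
theorem flat_chart_quotient (hA : ∀ m, Module.Flat R (A ⧸ I ^ m)) :
    ((Ideal.Quotient.mk (Ideal.span {toAway I a ha a})).comp
      ((toAway I a ha).comp (algebraMap R A))).Flat := by
  have key : Module.Flat R (D I a ha) := by
    refine flat_of_seq' (R := R) (S := D I a ha) (P := fun n => Q (R := R) I n)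
      (phiBar I a ha) (trBar I a ha) ?_ ?_ ?_ (flat_Q I hA)
    · intro n m h q
      obtain ⟨x, rfl⟩ := Submodule.Quotient.mk_surjective _ q
      rw [trBar_mk, phiBar_mk, phiBar_mk]
      exact congrArg _ (frac_pow_mul I a ha h x.1 x.2)
    · intro y
      obtain ⟨c, rfl⟩ := Ideal.Quotient.mk_surjective y
      obtain ⟨n, x, hx, rfl⟩ := frac_surjective I a ha c
      exact ⟨n, Submodule.Quotient.mk ⟨x, hx⟩, rfl⟩
    · intro n q hq
      obtain ⟨x, rfl⟩ := Submodule.Quotient.mk_surjective _ q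
      rw [phiBar_mk, Ideal.Quotient.eq_zero_iff_mem, Ideal.mem_span_singleton'] at hq
      obtain ⟨c, hc⟩ := hq
      obtain ⟨m, y, hy, rfl⟩ := frac_surjective I a ha c
      -- `frac n x = frac m y * a = frac m (a * y)`
      have h1 : frac I a ha n x.1 x.2 = frac I a ha m (a * y) (Ideal.mul_mem_left _ _ hy) := by
        rw [frac_smul, ← hc]
        exact mul_comm (frac I a ha m y hy) _
      -- compare in degree `N = n + m`
      have hmx : a ^ m * x.1 ∈ I ^ (n + m) := by
        have := pow_mul_mem I a ha (Nat.le_add_right n m) x.2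
        rwa [Nat.add_sub_cancel_left] at this
      have hmy : a ^ n * (a * y) ∈ I ^ (n + m) := by
        have := pow_mul_mem I a ha (Nat.le_add_left m n) (Ideal.mul_mem_left _ a hy)
        rwa [Nat.add_sub_cancel] at this
      have h2 : frac I a ha (n + m) (a ^ m * x.1 - a ^ n * (a * y)) (sub_mem hmx hmy) = 0 := by
        have e1 := frac_pow_mul I a ha (Nat.le_add_right n m) x.1 x.2
        have e2 := frac_pow_mul I a ha (Nat.le_add_left m n) (a * y) (Ideal.mul_mem_left _ a hy)
        rw [← h1, ← e1] at e2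
        rw [frac_sub I a ha (n + m) _ _ hmx hmy]
        refine (sub_eq_zero (G := C I a ha)).mpr ?_
        refine (frac_congr I a ha ?_ _ _).trans (e2.symm.trans (frac_congr I a ha ?_ _ _))
        · rw [Nat.add_sub_cancel_left]
        · rw [Nat.add_sub_cancel]
      obtain ⟨k, hk⟩ := exists_pow_mul_eq_zero I a ha _ _ h2
      refine ⟨n + m + k, by omega, ?_⟩
      rw [trBar_mk, Submodule.Quotient.mk_eq_zero, mem_N]
      change a ^ (n + m + k - n) * x.1 ∈ I ^ (n + m + k + 1)
      have h3 : a ^ (n + m + k - n) * x.1 = a ^ (n + k + 1) * y := by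
        have : a ^ k * (a ^ m * x.1) = a ^ k * (a ^ n * (a * y)) := by
          rw [mul_sub] at hk
          exact sub_eq_zero.mp hk
        rw [show n + m + k - n = k + m by omega, pow_add, mul_assoc, this]
        ring
      rw [h3, show n + m + k + 1 = (n + k + 1) + m by omega, pow_add]
      exact Ideal.mul_mem_mul (Ideal.pow_mem_pow ha _) hy
  exact key

theorem flat_quot_of_succ (hA : ∀ m, Module.Flat R (A ⧸ I ^ (m + 1))) (m : ℕ) :
    Module.Flat R (A ⧸ I ^ m) := by
  cases m with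
  | zero =>
    haveI : Subsingleton (A ⧸ I ^ 0) := by
      rw [pow_zero, Ideal.one_eq_top]
      exact Ideal.Quotient.subsingleton_iff.mpr rfl
    infer_instance
  | succ m => exact hA m

theorem flat_pow_of_flat_quotient [Module.Flat R A] (hA : ∀ m, Module.Flat R (A ⧸ I ^ m)) (n : ℕ) :
    Module.Flat R ↥(I ^ n) := by
  haveI := hA n
  refine flat_of_exact ((I ^ n).subtype.restrictScalars R)
    (Ideal.Quotient.mkₐ R (I ^ n)).toLinearMap Subtype.val_injective
    Ideal.Quotient.mk_surjective ?_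
  intro y
  constructor
  · intro hy
    exact ⟨⟨y, Ideal.Quotient.eq_zero_iff_mem.mp hy⟩, rfl⟩
  · rintro ⟨x, rfl⟩
    exact Ideal.Quotient.eq_zero_iff_mem.mpr x.2

end flat

section ringHom

variable {R : Type*} [CommRing R] (ρ : R →+* A)

/-- Ring hom version of `flat_chart_quotient`. -/
theorem flat_chart_quotient_of_ringHom
    (h : ∀ n : ℕ, ((Ideal.Quotient.mk (I ^ (n + 1))).comp ρ).Flat) :
    ((Ideal.Quotient.mk (Ideal.span {toAway I a ha a})).comp ((toAway I a ha).comp ρ)).Flat := by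
  letI := ρ.toAlgebra
  have hA : ∀ m, Module.Flat R (A ⧸ I ^ (m + 1)) := fun m =>
    RingHom.flat_algebraMap_iff.mp (h m)
  exact flat_chart_quotient I a ha (flat_quot_of_succ I hA)

/-- Ring hom version of `flat_chart`. -/
theorem flat_chart_of_ringHom (hρ : ρ.Flat)
    (h : ∀ n : ℕ, ((Ideal.Quotient.mk (I ^ (n + 1))).comp ρ).Flat) :
    ((toAway I a ha).comp ρ).Flat := by
  letI := ρ.toAlgebra
  have hA : ∀ m, Module.Flat R (A ⧸ I ^ (m + 1)) := fun m =>
    RingHom.flat_algebraMap_iff.mp (h m)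
  haveI : Module.Flat R A := RingHom.flat_algebraMap_iff.mp hρ
  exact flat_chart I a ha (flat_pow_of_flat_quotient I (flat_quot_of_succ I hA))

end ringHom

end Groth.Agent.Lib.helper28.ReesFlat
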