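import Mathlib
import Groth.Agent.Lib.Helper28.ReesFlat
import Groth.Prelude.Def_CAlgX

/-!
# Presentation of the chart ring `A[I/f_i]` for an `H₁`-regular sequence (helper28)

`I = (f_1, …, f_r)`.  The chart ring `C = A[I/f_i]` is always a quotient of
`Q = A[X_1, …, X_r]` (`X_j ↦ f_j/f_i`, `π_surjective`), and the ideal
`J = (X_i - 1, f_i X_j - f_j)` lies in the kernel.  If `f` is `H₁`-regular the kernel is `J`
(`ker_π_le`).  Consequences: `hom_ext` and `exists_lift` (ring homs out of `C`), and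
`map_mem_nonZeroDivisors_of_isPushout_of_h1`: for a ring map `A → A'` such that the image of `f`
stays `H₁`-regular, the image of `f_i` in `C ⊗_A A'` is a nonzerodivisor.
-/

set_option autoImplicit false
set_option linter.style.haveILetI false

universe u

open MvPolynomial HomogeneousLocalization CategoryTheory CategoryTheory.Limits

namespace Groth.Agent.Lib.helper28.ReesPres

open Groth.Agent.Lib.helper16.ReesBlowup
open Groth.Agent.Lib.helper28.ReesFlat (frac_add frac_smul frac_congr frac_sub frac_pow_mul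
  exists_pow_mul_eq_zero)

variable {A : Type u} [CommRing A] (I : Ideal A) {r : ℕ} (f : Fin r → A) (hmem : ∀ j, f j ∈ I)
  (i : Fin r)

section general

variable (a : A) (ha : a ∈ I)

theorem frac_zero' (x : A) (hx : x ∈ I ^ 0) : frac I a ha 0 x hx = toAway I a ha x := by
  apply HomogeneousLocalization.val_injective
  rw [val_frac, val_toAway, algebraMap_eq_mon]
  congr 1

theorem frac_mul {k n m : ℕ} (hk : k = n + m) (x y : A) (hx : x ∈ I ^ n) (hy : y ∈ I ^ m)
    (hxy : x * y ∈ I ^ k) :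
    frac I a ha k (x * y) hxy = frac I a ha n x hx * frac I a ha m y hy := by
  subst hk
  apply HomogeneousLocalization.val_injective
  rw [val_mul, val_frac, val_frac, val_frac, Localization.mk_mul, mon_mul]
  congr 1
  exact Subtype.ext (pow_add _ _ _)

theorem frac_one_self : frac I a ha 1 a (by simpa using ha) = 1 := by
  have h1 := toAway_eq_frac_mul I a ha a ha
  have h2 : frac I a ha 1 a (by simpa using ha) * toAway I a ha a = 1 * toAway I a ha a :=
    h1.symm.trans (one_mul (M := ReesFlat.C I a ha) _).symm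
  exact (mul_cancel_right_mem_nonZeroDivisors (toAway_f_mem_nonZeroDivisors I a ha)).mp h2

theorem frac_elem_zero (n : ℕ) : frac I a ha n 0 (zero_mem _) = 0 := by
  apply HomogeneousLocalization.val_injective
  rw [val_frac, val_zero, (mon_eq_zero_iff I n 0 (zero_mem _)).mpr rfl, Localization.mk_zero]

end general

/-- `f_j / f_i` in the chart ring. -/
noncomputable def t (j : Fin r) : ReesFlat.C I (f i) (hmem i) :=
  frac I (f i) (hmem i) 1 (f j) (by simpa using hmem j)

theorem t_self : t I f hmem i i = 1 := frac_one_self I (f i) (hmem i)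

theorem toAway_mul_t (j : Fin r) :
    toAway I (f i) (hmem i) (f i) * t I f hmem i j = toAway I (f i) (hmem i) (f j) := by
  have h1 := toAway_eq_frac_mul I (f i) (hmem i) (f j) (hmem j)
  exact (mul_comm (G := ReesFlat.C I (f i) (hmem i)) _ _).trans h1.symm

/-- `A[X_1, …, X_r] → A[I/f_i]`, `X_j ↦ f_j/f_i`. -/
noncomputable def π : MvPolynomial (Fin r) A →+* ReesFlat.C I (f i) (hmem i) :=
  eval₂Hom (toAway I (f i) (hmem i)) (t I f hmem i)

@[simp] theorem π_C (x : A) : π I f hmem i (C x) = toAway I (f i) (hmem i) x := by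
  simp [π]

@[simp] theorem π_X (j : Fin r) : π I f hmem i (X j) = t I f hmem i j := by
  simp [π]

/-- The ideal of the obvious relations. -/
noncomputable def J : Ideal (MvPolynomial (Fin r) A) :=
  Ideal.span {X i - 1} ⊔ Ideal.span (Set.range fun j : Fin r => C (f i) * X j - C (f j))

theorem X_sub_one_mem_J : (X i - 1 : MvPolynomial (Fin r) A) ∈ J f i :=
  Ideal.mem_sup_left (Ideal.subset_span rfl)

theorem rel_mem_J (j : Fin r) : (C (f i) * X j - C (f j) : MvPolynomial (Fin r) A) ∈ J f i :=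
  Ideal.mem_sup_right (Ideal.subset_span ⟨j, rfl⟩)

theorem J_le_ker : J f i ≤ RingHom.ker (π I f hmem i) := by
  rw [J, sup_le_iff, Ideal.span_le, Ideal.span_le]
  constructor
  · rintro _ rfl
    rw [SetLike.mem_coe, RingHom.mem_ker, map_sub, map_one, π_X, t_self, sub_self]
  · rintro _ ⟨j, rfl⟩
    rw [SetLike.mem_coe, RingHom.mem_ker, map_sub, map_mul, π_C, π_C, π_X, toAway_mul_t, sub_self]

/-- `X_j ↦ f_j/f_i` is surjective onto the chart ring. -/
theorem π_surjective (hspan : I ≤ Ideal.span (Set.range f)) :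
    Function.Surjective (π I f hmem i) := by
  have h1 : ∀ y ∈ I, ∃ hy : y ∈ I ^ 1, frac I (f i) (hmem i) 1 y hy ∈ (π I f hmem i).range := by
    intro y hy
    refine Submodule.span_induction (p := fun y _ => ∃ hy : y ∈ I ^ 1,
      frac I (f i) (hmem i) 1 y hy ∈ (π I f hmem i).range) ?_ ?_ ?_ ?_ (hspan hy)
    · rintro _ ⟨j, rfl⟩
      exact ⟨by simpa using hmem j, ⟨X j, π_X I f hmem i j⟩⟩
    · exact ⟨zero_mem _, by rw [frac_elem_zero]; exact zero_mem _⟩
    · rintro x y _ _ ⟨hx, hx'⟩ ⟨hy, hy'⟩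
      refine ⟨add_mem hx hy, ?_⟩
      rw [frac_add I (f i) (hmem i) 1 x y hx hy]
      exact add_mem hx' hy'
    · rintro c x _ ⟨hx, hx'⟩
      change ∃ hy : c * x ∈ I ^ 1, frac I (f i) (hmem i) 1 (c * x) hy ∈ (π I f hmem i).range
      refine ⟨Ideal.mul_mem_left _ _ hx, ?_⟩
      rw [frac_smul I (f i) (hmem i) 1 c x hx]
      exact mul_mem ⟨C c, π_C I f hmem i c⟩ hx'
  have h2 : ∀ n : ℕ, ∀ x ∈ I ^ n, ∃ hx : x ∈ I ^ n,
      frac I (f i) (hmem i) n x hx ∈ (π I f hmem i).range := by
    intro n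
    induction n with
    | zero =>
      intro x hx
      exact ⟨hx, by rw [frac_zero']; exact ⟨C x, π_C I f hmem i x⟩⟩
    | succ n ih =>
      intro x hx
      rw [pow_succ'] at hx
      refine Submodule.mul_induction_on (C := fun x => ∃ hx : x ∈ I ^ (n + 1),
        frac I (f i) (hmem i) (n + 1) x hx ∈ (π I f hmem i).range) hx ?_ ?_
      · intro y hy z hz
        obtain ⟨hy1, hy2⟩ := h1 y hy
        obtain ⟨hz1, hz2⟩ := ih z hz
        have hyz : y * z ∈ I ^ (n + 1) := by
          rw [pow_succ']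
          exact Ideal.mul_mem_mul hy hz
        refine ⟨hyz, ?_⟩
        rw [frac_mul I (f i) (hmem i) (Nat.add_comm n 1) y z hy1 hz1 hyz]
        exact mul_mem hy2 hz2
      · rintro x y ⟨hx, hx'⟩ ⟨hy, hy'⟩
        refine ⟨add_mem hx hy, ?_⟩
        rw [frac_add I (f i) (hmem i) (n + 1) x y hx hy]
        exact add_mem hx' hy'
  intro z
  obtain ⟨n, x, hx, rfl⟩ := frac_surjective I (f i) (hmem i) z
  obtain ⟨_, hx'⟩ := h2 n x hx
  exact hx'

/-- Every polynomial becomes a constant modulo `J` after multiplication by a power of `f_i`. -/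
theorem exists_pow_mul_sub_mem_J (q : MvPolynomial (Fin r) A) :
    ∃ (d : ℕ) (a : A), C (f i) ^ d * q - C a ∈ J f i := by
  induction q using MvPolynomial.induction_on with
  | C a => exact ⟨0, a, by simp⟩
  | add p q hp hq =>
    obtain ⟨d₁, a₁, h₁⟩ := hp
    obtain ⟨d₂, a₂, h₂⟩ := hq
    refine ⟨d₁ + d₂, f i ^ d₂ * a₁ + f i ^ d₁ * a₂, ?_⟩
    have : C (f i) ^ (d₁ + d₂) * (p + q) - C (f i ^ d₂ * a₁ + f i ^ d₁ * a₂) =
        C (f i) ^ d₂ * (C (f i) ^ d₁ * p - C a₁) + C (f i) ^ d₁ * (C (f i) ^ d₂ * q - C a₂) := by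
      simp only [map_add, map_mul, map_pow]
      ring
    rw [this]
    exact add_mem (Ideal.mul_mem_left _ _ h₁) (Ideal.mul_mem_left _ _ h₂)
  | mul_X p j hp =>
    obtain ⟨d, a, h⟩ := hp
    refine ⟨d + 1, a * f j, ?_⟩
    have : C (f i) ^ (d + 1) * (p * X j) - C (a * f j) =
        (C (f i) ^ d * p - C a) * (C (f i) * X j) + C a * (C (f i) * X j - C (f j)) := by
      simp only [map_mul]
      ring
    rw [this]
    exact add_mem (Ideal.mul_mem_right _ _ h) (Ideal.mul_mem_left _ _ (rel_mem_J f i j))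

section h1

variable (hH1 : CAlgX.IsH1Regular f)

/-- `X_j` modulo `J`. -/
noncomputable def Tb (j : Fin r) : MvPolynomial (Fin r) A ⧸ J f i := Ideal.Quotient.mk _ (X j)

theorem Tb_self : Tb f i i = 1 := by
  have := Ideal.Quotient.eq_zero_iff_mem.mpr (X_sub_one_mem_J f i)
  rw [map_sub, map_one, sub_eq_zero] at this
  exact this

theorem mk_C_mul_Tb (j : Fin r) :
    Ideal.Quotient.mk (J f i) (C (f i)) * Tb f i j = Ideal.Quotient.mk (J f i) (C (f j)) := by
  have := Ideal.Quotient.eq_zero_iff_mem.mpr (rel_mem_J f i j)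
  rw [map_sub, map_mul, sub_eq_zero] at this
  exact this

include hH1 in
/-- Relations over `A` are killed by `v ↦ Σ v_j X_j` modulo `J`. -/
theorem sum_C_mul_Tb_eq_zero (v : Fin r → A) (hv : ∑ j, v j * f j = 0) :
    ∑ j, Ideal.Quotient.mk (J f i) (C (v j)) * Tb f i j = 0 := by
  let L : (Fin r → A) →ₗ[A] (MvPolynomial (Fin r) A ⧸ J f i) :=
    ∑ j, (LinearMap.proj j : (Fin r → A) →ₗ[A] A).smulRight (Tb f i j)
  have hL : ∀ w : Fin r → A, L w = ∑ j, Ideal.Quotient.mk (J f i) (C (w j)) * Tb f i j := by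
    intro w
    simp only [L, LinearMap.sum_apply, LinearMap.smulRight_apply, LinearMap.proj_apply]
    refine Finset.sum_congr rfl fun j _ => ?_
    change Ideal.Quotient.mk (J f i) (w j • X j) = _
    rw [MvPolynomial.smul_eq_C_mul, map_mul]
    rfl
  rw [← hL]
  have hle : Submodule.span A {w : Fin r → A | ∃ k l : Fin r,
      w = Pi.single k (f l) - Pi.single l (f k)} ≤ LinearMap.ker L := by
    rw [Submodule.span_le]
    rintro _ ⟨k, l, rfl⟩
    rw [SetLike.mem_coe, LinearMap.mem_ker, map_sub, hL, hL]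
    have e : ∀ (k : Fin r) (c : A), ∑ j, Ideal.Quotient.mk (J f i) (C ((Pi.single k c : Fin r → A) j)) *
        Tb f i j = Ideal.Quotient.mk (J f i) (C c) * Tb f i k := by
      intro k c
      rw [Finset.sum_eq_single k]
      · rw [Pi.single_eq_same]
      · intro j _ hj
        rw [Pi.single_eq_of_ne hj, map_zero, map_zero, zero_mul]
      · intro h
        exact absurd (Finset.mem_univ k) h
    rw [e, e, ← mk_C_mul_Tb f i l, ← mk_C_mul_Tb f i k]
    ring
  exact hle (hH1 v hv)

include hH1 in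
/-- Relations over `A[X]` are killed by `a ↦ Σ a_j X_j` modulo `J`. -/
theorem sum_mk_mul_Tb_eq_zero (a : Fin r → MvPolynomial (Fin r) A)
    (ha : ∑ j, a j * C (f j) = 0) :
    ∑ j, Ideal.Quotient.mk (J f i) (a j) * Tb f i j = 0 := by
  classical
  let S : Finset (Fin r →₀ ℕ) := Finset.univ.biUnion fun j => (a j).support
  have hS : ∀ j, a j = ∑ m ∈ S, monomial m (coeff m (a j)) := by
    intro j
    conv_lhs => rw [(a j).as_sum]
    refine Finset.sum_subset ?_ ?_
    · intro m hm
      exact Finset.mem_biUnion.mpr ⟨j, Finset.mem_univ j, hm⟩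
    · intro m _ hm
      rw [MvPolynomial.notMem_support_iff.mp hm, map_zero]
  have hrel : ∀ m, ∑ j, coeff m (a j) * f j = 0 := by
    intro m
    have := congrArg (coeff m) ha
    rw [coeff_sum, coeff_zero] at this
    rw [← this]
    refine Finset.sum_congr rfl fun j _ => ?_
    rw [mul_comm (a j), coeff_C_mul, mul_comm]
  have key : ∀ j, Ideal.Quotient.mk (J f i) (a j) * Tb f i j =
      ∑ m ∈ S, Ideal.Quotient.mk (J f i) (monomial m 1) *
        (Ideal.Quotient.mk (J f i) (C (coeff m (a j))) * Tb f i j) := by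
    intro j
    conv_lhs => rw [hS j]
    rw [map_sum, Finset.sum_mul]
    refine Finset.sum_congr rfl fun m _ => ?_
    rw [← mul_assoc, ← map_mul, mul_comm (monomial m 1), C_mul_monomial, mul_one]
  rw [Finset.sum_congr rfl fun j _ => key j, Finset.sum_comm]
  refine Finset.sum_eq_zero fun m _ => ?_
  rw [← Finset.mul_sum, sum_C_mul_Tb_eq_zero f i hH1 _ (hrel m), mul_zero]

/-- The substitution `X_i ↦ 1`. -/
noncomputable def σ : MvPolynomial (Fin r) A →ₐ[A] MvPolynomial (Fin r) A :=
  aeval (Function.update (X : Fin r → MvPolynomial (Fin r) A) i 1)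

theorem σ_X_self : σ (A := A) i (X i) = 1 := by
  simp [σ]

theorem mk_σ (p : MvPolynomial (Fin r) A) :
    Ideal.Quotient.mk (J f i) (σ i p) = Ideal.Quotient.mk (J f i) p := by
  have : (Ideal.Quotient.mk (J f i)).comp (σ (A := A) i).toRingHom = Ideal.Quotient.mk (J f i) := by
    refine MvPolynomial.ringHom_ext (fun a => ?_) (fun j => ?_)
    · simp [σ]
    · by_cases hj : j = i
      · subst hj
        change Ideal.Quotient.mk (J f j) (σ j (X j)) = Tb f j j
        rw [σ_X_self, map_one, Tb_self]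
      · simp [σ, Function.update_of_ne hj]
  exact RingHom.congr_fun this p

omit [CommRing A] in
theorem sum_map_single_mul {R R' : Type*} [CommRing R] [CommRing R'] (φ : R →+* R') (c : R)
    (w : Fin r → R') :
    ∑ x, φ ((Pi.single i c : Fin r → R) x) * w x = φ c * w i := by
  rw [Finset.sum_eq_single i
    (fun j _ hj => by rw [Pi.single_eq_of_ne hj, map_zero, zero_mul])
    (fun h => absurd (Finset.mem_univ i) h), Pi.single_eq_same]

include hH1 in
/-- `f_i` is a nonzerodivisor modulo `J`. -/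
theorem mem_J_of_C_mul_mem (g : MvPolynomial (Fin r) A) (hg : C (f i) * g ∈ J f i) :
    g ∈ J f i := by
  obtain ⟨y, hy, z, hz, hyz⟩ := Submodule.mem_sup.mp hg
  obtain ⟨u, rfl⟩ := Ideal.mem_span_singleton'.mp hy
  obtain ⟨h, rfl⟩ := Ideal.mem_span_range_iff_exists_fun.mp hz
  -- apply `σ`
  have h1 := congrArg (σ (A := A) i) hyz
  simp only [map_add, map_mul, map_sub, map_one, map_sum, σ_X_self, sub_self, mul_zero,
    zero_add] at h1
  have hσC : ∀ c : A, σ (A := A) i (C c) = C c := fun c => by simp [σ]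
  simp only [hσC] at h1
  -- the relation
  obtain ⟨c, hc⟩ : ∃ c, c = σ i g - ∑ k, σ i (h k) * σ i (X k) := ⟨_, rfl⟩
  let a : Fin r → MvPolynomial (Fin r) A := fun j =>
    σ i (h j) + (Pi.single i c : Fin r → MvPolynomial (Fin r) A) j
  have ha : ∑ j, a j * C (f j) = 0 := by
    simp only [a, add_mul, Finset.sum_add_distrib]
    have e1 := sum_map_single_mul i (RingHom.id (MvPolynomial (Fin r) A)) c
      (fun x => C (f x))
    simp only [RingHom.id_apply] at e1
    rw [e1]
    have h2 : ∑ j, σ i (h j) * C (f j) =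
        ∑ j, σ i (h j) * (C (f i) * σ i (X j)) - C (f i) * σ i g := by
      rw [← h1, ← Finset.sum_sub_distrib]
      refine Finset.sum_congr rfl fun j _ => ?_
      ring
    rw [h2, hc, sub_mul, Finset.sum_mul]
    have h3 : ∑ j, σ i (h j) * (C (f i) * σ i (X j)) =
        ∑ j, σ i (h j) * σ i (X j) * C (f i) := by
      refine Finset.sum_congr rfl fun j _ => ?_
      ring
    rw [h3]
    ring
  have key := sum_mk_mul_Tb_eq_zero f i hH1 a ha
  have hT : ∀ k, Ideal.Quotient.mk (J f i) (σ i (X k)) = Tb f i k := fun k => mk_σ f i (X k)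
  simp only [a, map_add, add_mul, Finset.sum_add_distrib] at key
  rw [sum_map_single_mul i (Ideal.Quotient.mk (J f i)) c (Tb f i), Tb_self, mul_one, hc, map_sub,
    map_sum] at key
  simp only [map_mul, hT] at key
  rw [add_sub_cancel, mk_σ] at key
  exact Ideal.Quotient.eq_zero_iff_mem.mp key

include hH1 in
theorem mem_J_of_C_pow_mul_mem (n : ℕ) (g : MvPolynomial (Fin r) A)
    (hg : C (f i) ^ n * g ∈ J f i) : g ∈ J f i := by
  induction n with
  | zero => simpa using hg
  | succ n ih =>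
    apply ih
    apply mem_J_of_C_mul_mem f i hH1
    rw [← mul_assoc, ← pow_succ']
    exact hg

include hH1 in
/-- **The kernel of `A[X] → A[I/f_i]` is generated by the obvious relations** when `f` is
`H₁`-regular. -/
theorem ker_π_le : RingHom.ker (π I f hmem i) ≤ J f i := by
  intro q hq
  obtain ⟨d, a, hda⟩ := exists_pow_mul_sub_mem_J f i q
  have h1 := (RingHom.sub_mem_ker_iff _).mp (J_le_ker I f hmem i hda)
  rw [map_mul, RingHom.mem_ker.mp hq, mul_zero, π_C,
    ← frac_zero' I (f i) (hmem i) a (by simp)] at h1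
  obtain ⟨k, hk⟩ := exists_pow_mul_eq_zero I (f i) (hmem i) a (by simp) h1.symm
  apply mem_J_of_C_pow_mul_mem f i hH1 (k + d)
  have : C (f i) ^ (k + d) * q = C (f i) ^ k * (C (f i) ^ d * q - C a) + C (f i ^ k * a) := by
    simp only [map_mul, map_pow]
    ring
  rw [this, hk, map_zero, add_zero]
  exact Ideal.mul_mem_left _ _ hda

end h1

section homs

variable {D : Type*} [CommRing D]

/-- Ring homs out of the chart ring are determined by their values on `A` and on the `f_j/f_i`. -/
theorem hom_ext (hspan : I ≤ Ideal.span (Set.range f))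
    (l₁ l₂ : ReesFlat.C I (f i) (hmem i) →+* D)
    (h1 : l₁.comp (toAway I (f i) (hmem i)) = l₂.comp (toAway I (f i) (hmem i)))
    (h2 : ∀ j, l₁ (t I f hmem i j) = l₂ (t I f hmem i j)) : l₁ = l₂ := by
  have h3 : l₁.comp (π I f hmem i) = l₂.comp (π I f hmem i) := by
    refine MvPolynomial.ringHom_ext (fun a => ?_) (fun j => ?_)
    · simp only [RingHom.comp_apply, π_C]
      exact RingHom.congr_fun h1 a
    · simp only [RingHom.comp_apply, π_X]
      exact h2 j
  ext z
  obtain ⟨q, rfl⟩ := π_surjective I f hmem i hspan z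
  exact RingHom.congr_fun h3 q

/-- **Ring homs out of the chart ring of an `H₁`-regular sequence.** -/
theorem exists_lift (hH1 : CAlgX.IsH1Regular f) (hspan : I ≤ Ideal.span (Set.range f))
    (ρ : A →+* D) (τ : Fin r → D) (h1 : τ i = 1) (h2 : ∀ j, ρ (f i) * τ j = ρ (f j)) :
    ∃ l : ReesFlat.C I (f i) (hmem i) →+* D,
      l.comp (toAway I (f i) (hmem i)) = ρ ∧ ∀ j, l (t I f hmem i j) = τ j := by
  let ψ : MvPolynomial (Fin r) A →+* D := eval₂Hom ρ τ
  have hψ : RingHom.ker (π I f hmem i) ≤ RingHom.ker ψ := by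
    refine (ker_π_le I f hmem i hH1).trans ?_
    rw [J, sup_le_iff, Ideal.span_le, Ideal.span_le]
    constructor
    · rintro _ rfl
      simp [ψ, h1]
    · rintro _ ⟨j, rfl⟩
      simp [ψ, h2]
  let l := (π I f hmem i).liftOfSurjective (π_surjective I f hmem i hspan) ⟨ψ, hψ⟩
  have hl : ∀ q, l (π I f hmem i q) = ψ q := fun q =>
    RingHom.liftOfSurjective_comp_apply (π I f hmem i) (π_surjective I f hmem i hspan) ⟨ψ, hψ⟩ q
  refine ⟨l, ?_, fun j => ?_⟩
  · ext x
    rw [RingHom.comp_apply, ← π_C I f hmem i x, hl]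
    simp [ψ]
  · rw [← π_X I f hmem i j, hl]
    simp [ψ]

end homs

section pushout

/-- **Base change of the chart ring of an `H₁`-regular sequence**: if `f` is `H₁`-regular in `A`
and its image is `H₁`-regular in `A'`, the image of `f_i` in `A[I/f_i] ⊗_A A'` is a
nonzerodivisor. -/
theorem map_mem_nonZeroDivisors_of_isPushout_of_h1
    {A A' Ct G : CommRingCat.{u}} {φ : A ⟶ Ct} {γ : A ⟶ A'} {i₁ : Ct ⟶ G} {i₂ : A' ⟶ G}
    (H : IsPushout φ γ i₁ i₂) (I : Ideal A) {r : ℕ} (f : Fin r → A) (hmem : ∀ j, f j ∈ I)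
    (hspan : I ≤ Ideal.span (Set.range f)) (i : Fin r)
    (hH1 : CAlgX.IsH1Regular f) (hH1' : CAlgX.IsH1Regular (fun j => γ.hom (f j)))
    (θ : ReesFlat.C I (f i) (hmem i) ≃+* Ct)
    (hθ : θ.toRingHom.comp (toAway I (f i) (hmem i)) = φ.hom) :
    i₁.hom (φ.hom (f i)) ∈ nonZeroDivisors G := by
  -- the chart ring over `A'`
  obtain ⟨f', hf'⟩ : ∃ f' : Fin r → A', f' = fun j => γ.hom (f j) := ⟨_, rfl⟩
  obtain ⟨I', hI'⟩ : ∃ I' : Ideal A', I' = Ideal.span (Set.range f') := ⟨_, rfl⟩
  have hmem' : ∀ j, f' j ∈ I' := fun j => hI' ▸ Ideal.subset_span ⟨j, rfl⟩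
  have hspan' : I' ≤ Ideal.span (Set.range f') := hI'.le
  have hH1'' : CAlgX.IsH1Regular f' := hf' ▸ hH1'
  have hθ' : ∀ x, θ (toAway I (f i) (hmem i) x) = φ.hom x := fun x => RingHom.congr_fun hθ x
  have hw : ∀ x, i₁.hom (φ.hom x) = i₂.hom (γ.hom x) := fun x => by
    have := congrArg (fun m => m.hom x) H.w
    exact this
  have hγf : ∀ j, γ.hom (f j) = f' j := fun j => by rw [hf']
  -- `l₁ : C → C'`
  obtain ⟨l₁, hl₁, hl₁t⟩ := exists_lift I f hmem i hH1 hspan
    ((toAway I' (f' i) (hmem' i)).comp γ.hom) (t I' f' hmem' i) (t_self I' f' hmem' i)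
    (fun j => by
      rw [RingHom.comp_apply, RingHom.comp_apply, hγf i, hγf j]
      exact toAway_mul_t I' f' hmem' i j)
  -- `Ψ : C' → G`
  obtain ⟨Ψ, hΨ, hΨt⟩ := exists_lift I' f' hmem' i hH1'' hspan' i₂.hom
    (fun j => i₁.hom (θ (t I f hmem i j)))
    (by rw [t_self, map_one, map_one])
    (fun j => by
      change i₂.hom (f' i) * i₁.hom (θ (t I f hmem i j)) = i₂.hom (f' j)
      rw [← hγf i, ← hγf j, ← hw, ← hw, ← hθ', ← hθ', ← map_mul, ← map_mul, toAway_mul_t])
  -- `Φ : G → C'`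
  have hcompat : φ ≫ CommRingCat.ofHom (l₁.comp θ.symm.toRingHom) =
      γ ≫ CommRingCat.ofHom (toAway I' (f' i) (hmem' i)) := by
    apply CommRingCat.hom_ext
    apply RingHom.ext
    intro x
    change l₁ (θ.symm (φ.hom x)) = toAway I' (f' i) (hmem' i) (γ.hom x)
    rw [← hθ', RingEquiv.symm_apply_apply]
    exact RingHom.congr_fun hl₁ x
  let Φ : G ⟶ CommRingCat.of (ReesFlat.C I' (f' i) (hmem' i)) :=
    H.desc (CommRingCat.ofHom (l₁.comp θ.symm.toRingHom))
      (CommRingCat.ofHom (toAway I' (f' i) (hmem' i))) hcompat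
  have hΦ1 : ∀ c, Φ.hom (i₁.hom c) = l₁ (θ.symm c) := fun c => by
    have := congrArg (fun m => m.hom c) (H.inl_desc (CommRingCat.ofHom (l₁.comp θ.symm.toRingHom))
      (CommRingCat.ofHom (toAway I' (f' i) (hmem' i))) hcompat)
    exact this
  have hΦ2 : ∀ c, Φ.hom (i₂.hom c) = toAway I' (f' i) (hmem' i) c := fun c => by
    have := congrArg (fun m => m.hom c) (H.inr_desc (CommRingCat.ofHom (l₁.comp θ.symm.toRingHom))
      (CommRingCat.ofHom (toAway I' (f' i) (hmem' i))) hcompat)
    exact this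
  -- `Ψ ∘ Φ = id`
  have hΨΦ : Φ ≫ CommRingCat.ofHom Ψ = 𝟙 G := by
    apply H.hom_ext
    · rw [Category.comp_id]
      apply CommRingCat.hom_ext
      apply RingHom.ext
      intro c
      change Ψ (Φ.hom (i₁.hom c)) = i₁.hom c
      rw [hΦ1]
      have key : Ψ.comp l₁ = i₁.hom.comp θ.toRingHom := by
        refine hom_ext I f hmem i hspan _ _ ?_ (fun j => ?_)
        · apply RingHom.ext
          intro x
          change Ψ (l₁ (toAway I (f i) (hmem i) x)) = i₁.hom (θ (toAway I (f i) (hmem i) x))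
          have e1 : l₁ (toAway I (f i) (hmem i) x) = toAway I' (f' i) (hmem' i) (γ.hom x) :=
            RingHom.congr_fun hl₁ x
          have e2 : Ψ (toAway I' (f' i) (hmem' i) (γ.hom x)) = i₂.hom (γ.hom x) :=
            RingHom.congr_fun hΨ (γ.hom x)
          rw [e1, e2, hθ', hw]
        · change Ψ (l₁ (t I f hmem i j)) = i₁.hom (θ (t I f hmem i j))
          rw [hl₁t, hΨt]
      have := RingHom.congr_fun key (θ.symm c)
      change Ψ (l₁ (θ.symm c)) = i₁.hom (θ (θ.symm c)) at this
      rw [this, RingEquiv.apply_symm_apply]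
    · rw [Category.comp_id]
      apply CommRingCat.hom_ext
      apply RingHom.ext
      intro c
      change Ψ (Φ.hom (i₂.hom c)) = i₂.hom c
      rw [hΦ2]
      exact RingHom.congr_fun hΨ c
  have hinj : Function.Injective Φ.hom := by
    intro x y hxy
    have h1 := congrArg (fun m => m.hom x) hΨΦ
    have h2 := congrArg (fun m => m.hom y) hΨΦ
    change Ψ (Φ.hom x) = x at h1
    change Ψ (Φ.hom y) = y at h2
    rw [← h1, ← h2, hxy]
  apply mem_nonZeroDivisors_of_injective hinj
  rw [hΦ1, ← hθ', RingEquiv.symm_apply_apply]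
  have e1 : l₁ (toAway I (f i) (hmem i) (f i)) = toAway I' (f' i) (hmem' i) (γ.hom (f i)) :=
    RingHom.congr_fun hl₁ (f i)
  rw [e1]
  rw [hγf i]
  exact toAway_f_mem_nonZeroDivisors I' (f' i) (hmem' i)

end pushout

end Groth.Agent.Lib.helper28.ReesPres
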