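import Mathlib
import Groth.Agent.Lib.Helper28.ReesPres
import Groth.Agent.Lib.Helper28.BlowUpTor

/-!
# The exceptional divisor of the blowing up of an `H₁`-regular ideal, on a chart (helper28)

`I = (f_1, …, f_r)` with `f` an `H₁`-regular sequence, `C = A[I/f_i]` the chart ring.  Then
`C / I C` is the polynomial ring over `A/I` in the variables `f_j/f_i`, `j ≠ i`; in particular it is
smooth over `A/I`.  Stated for arbitrary models `A → A'` of `A/I` and `C → C'` of `C/IC`
(`smooth_of_chart`).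
-/

set_option autoImplicit false
set_option linter.style.haveILetI false
set_option linter.unusedTactic false

universe u

open MvPolynomial CategoryTheory CategoryTheory.Limits AlgebraicGeometry Opposite TopologicalSpace

namespace Groth.Agent.Lib.helper28.ExcSmooth

open Groth.Agent.Lib.helper16.ReesBlowup Groth.Agent.Lib.helper28.ReesPres

variable {A : Type u} [CommRing A] (I : Ideal A) {r : ℕ} (f : Fin r → A) (hmem : ∀ j, f j ∈ I)
  (i : Fin r)

/-- **The exceptional divisor on a chart is an affine space over the centre.** -/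
theorem smooth_of_chart (hH1 : CAlgX.IsH1Regular f) (hspan : I ≤ Ideal.span (Set.range f))
    {A' C' : Type u} [CommRing A'] [CommRing C'] (p : A →+* A') (hp : Function.Surjective p)
    (hpk : I ≤ RingHom.ker p)
    (q : ReesFlat.C I (f i) (hmem i) →+* C') (hq : Function.Surjective q)
    (hqk : RingHom.ker q ≤ Ideal.map (toAway I (f i) (hmem i)) I)
    (g : A' →+* C') (hsq : g.comp p = q.comp (toAway I (f i) (hmem i))) : g.Smooth := by
  classical
  let τ : Fin r → MvPolynomial {j : Fin r // j ≠ i} A' :=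
    fun j => if h : j = i then 1 else X ⟨j, h⟩
  have hτi : τ i = 1 := dif_pos rfl
  have hτj : ∀ j : {j : Fin r // j ≠ i}, τ j.1 = X j := fun j => dif_neg j.2
  let ρ : A →+* MvPolynomial {j : Fin r // j ≠ i} A' := (C : A' →+* _).comp p
  have hρ : ∀ x ∈ I, ρ x = 0 := fun x hx => by
    change C (p x) = 0
    rw [RingHom.mem_ker.mp (hpk hx), map_zero]
  obtain ⟨l, hl1, hl2⟩ := exists_lift I f hmem i hH1 hspan ρ τ hτi
    (fun j => by rw [hρ _ (hmem i), hρ _ (hmem j), zero_mul])
  have hlk : RingHom.ker q ≤ RingHom.ker l := by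
    refine hqk.trans ?_
    rw [Ideal.map_le_iff_le_comap]
    intro x hx
    rw [Ideal.mem_comap, RingHom.mem_ker, ← RingHom.comp_apply, hl1]
    exact hρ x hx
  let lb : C' →+* MvPolynomial {j : Fin r // j ≠ i} A' := q.liftOfSurjective hq ⟨l, hlk⟩
  have hlb : ∀ c, lb (q c) = l c := RingHom.liftOfSurjective_comp_apply q hq ⟨l, hlk⟩
  let φ : MvPolynomial {j : Fin r // j ≠ i} A' →+* C' :=
    eval₂Hom g (fun j => q (t I f hmem i j.1))
  have hφC : ∀ a, φ (C a) = g a := fun a => eval₂Hom_C _ _ a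
  have hφX : ∀ j, φ (X j) = q (t I f hmem i j.1) := fun j => eval₂Hom_X' _ _ j
  have hgp : ∀ a, g (p a) = q (toAway I (f i) (hmem i) a) := fun a => RingHom.congr_fun hsq a
  have h1 : lb.comp φ = RingHom.id _ := by
    refine MvPolynomial.ringHom_ext (fun a' => ?_) (fun j => ?_)
    · obtain ⟨a, rfl⟩ := hp a'
      rw [RingHom.comp_apply, hφC, hgp, hlb, ← RingHom.comp_apply, hl1]
      rfl
    · rw [RingHom.comp_apply, hφX, hlb, hl2, hτj]
      rfl
  have hφinj : Function.Injective φ :=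
    Function.LeftInverse.injective (g := lb) (fun x => RingHom.congr_fun h1 x)
  have hφsurj : Function.Surjective φ := by
    intro c'
    obtain ⟨c, rfl⟩ := hq c'
    obtain ⟨P, rfl⟩ := π_surjective I f hmem i hspan c
    refine ⟨eval₂Hom ρ τ P, ?_⟩
    have h2 : φ.comp (eval₂Hom ρ τ) = q.comp (π I f hmem i) := by
      refine MvPolynomial.ringHom_ext (fun a => ?_) (fun j => ?_)
      · change φ (eval₂Hom ρ τ (C a)) = q (π I f hmem i (C a))
        rw [eval₂Hom_C, π_C]
        change φ (C (p a)) = _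
        rw [hφC, hgp]
      · change φ (eval₂Hom ρ τ (X j)) = q (π I f hmem i (X j))
        rw [eval₂Hom_X', π_X]
        by_cases h : j = i
        · subst h
          rw [hτi, map_one, t_self, map_one]
        · have h3 : τ j = X ⟨j, h⟩ := hτj ⟨j, h⟩
          rw [h3]
          exact hφX ⟨j, h⟩
    exact RingHom.congr_fun h2 P
  have hg : g = φ.comp (C : A' →+* MvPolynomial {j : Fin r // j ≠ i} A') := by
    ext a
    rw [RingHom.comp_apply, hφC]
  rw [hg]
  refine RingHom.Smooth.comp ?_ (RingHom.Smooth.holdsForLocalizationAway.of_bijective _ _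
    ⟨hφinj, hφsurj⟩)
  change (algebraMap A' (MvPolynomial {j : Fin r // j ≠ i} A')).Smooth
  rw [RingHom.smooth_algebraMap]
  exact {}

section scheme

open Groth.Agent.Lib.helper28.ReesAlg Groth.Agent.Lib.helper28.BlowUpChart
  Groth.Agent.Lib.helper28.BlowUpFlat

variable {X X' Y : Scheme.{u}}

/-- **The exceptional divisor of the blowing up of an `H₁`-regularly immersed centre is smooth
over the centre.** -/
theorem smooth_exceptional (i : Y ⟶ X) [IsClosedImmersion i] (b : X' ⟶ X)
    (hb : BlowUp.IsBlowUp b i.ker)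
    (hloc : ∀ z : Y, ∃ (U : X.Opens) (hU : IsAffineOpen U) (r : ℕ) (f : Fin r → Γ(X, U)),
      i z ∈ U ∧ i.ker.ideal ⟨U, hU⟩ = Ideal.span (Set.range f) ∧ CAlgX.IsH1Regular f)
    (g : (i.ker.comap b).subscheme ⟶ Y)
    (hg : g ≫ i = (i.ker.comap b).subschemeι ≫ b) : Smooth g := by
  rw [HasRingHomProperty.iff_exists_appLE (P := @Smooth)
    (RingHom.Smooth.stableUnderComposition.stableUnderCompositionWithLocalizationAway
      RingHom.Smooth.holdsForLocalizationAway).left]
  intro z
  obtain ⟨x', hx'⟩ : ∃ x' : X', x' = (i.ker.comap b).subschemeι z := ⟨_, rfl⟩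
  have hbx : b x' = i (g z) := by
    have h1 : (g ≫ i) z = ((i.ker.comap b).subschemeι ≫ b) z := by rw [hg]
    rw [Scheme.Hom.comp_apply, Scheme.Hom.comp_apply] at h1
    rw [hx']
    exact h1.symm
  obtain ⟨U, hU, r, f, hzU, hI, hH1⟩ := hloc (g z)
  have hmem : ∀ j, f j ∈ IU i.ker U hU := fun j => by
    change f j ∈ i.ker.ideal ⟨U, hU⟩
    rw [hI]
    exact Ideal.subset_span ⟨j, rfl⟩
  have hspan : IU i.ker U hU ≤ Ideal.span (Set.range f) := hI.le
  have hx'U : x' ∈ b ⁻¹ᵁ U := by
    change b x' ∈ U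
    rw [hbx]
    exact hzU
  obtain ⟨k, W', hW', hle, θ, hxW', hθ⟩ :=
    exists_chart_of_span i.ker b hb U hU f hmem hspan x' hx'U
  have hle2 : (i.ker.comap b).subschemeι ⁻¹ᵁ W' ≤ g ⁻¹ᵁ (i ⁻¹ᵁ U) := by
    rw [← Scheme.Hom.comp_preimage, hg, Scheme.Hom.comp_preimage]
    exact (i.ker.comap b).subschemeι.preimage_mono hle
  have hzW : z ∈ (i.ker.comap b).subschemeι ⁻¹ᵁ W' := by
    change (i.ker.comap b).subschemeι z ∈ W'
    rw [← hx']
    exact hxW'
  refine ⟨⟨i ⁻¹ᵁ U, hU.preimage i⟩,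
    ⟨(i.ker.comap b).subschemeι ⁻¹ᵁ W', hW'.preimage _⟩, hzW, hle2, ?_⟩
  have hsurjι : Function.Surjective ((i.ker.comap b).subschemeι.app W').hom :=
    (i.ker.comap b).subschemeι.app_surjective W' hW'
  refine smooth_of_chart (IU i.ker U hU) f hmem k hH1 hspan (i.app U).hom
    (i.app_surjective U hU) ?_
    (((i.ker.comap b).subschemeι.app W').hom.comp θ.toRingHom) ?_ ?_ _ ?_
  · change i.ker.ideal ⟨U, hU⟩ ≤ _
    rw [Scheme.Hom.ker_apply]
  · exact hsurjι.comp θ.surjective
  · intro c hc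
    rw [RingHom.mem_ker, RingHom.comp_apply] at hc
    have h1 : θ.toRingHom c ∈ (i.ker.comap b).ideal ⟨W', hW'⟩ := by
      rw [← (i.ker.comap b).ker_subschemeι_app ⟨W', hW'⟩]
      exact hc
    rw [ideal_chart_eq i.ker U hU (f k) (hmem k) W' hW' hle θ hθ] at h1
    rw [Groth.Agent.Lib.helper16.ReesBlowup.map_toAway_eq_span]
    obtain ⟨c', hc', hcc'⟩ := (Ideal.mem_map_iff_of_surjective
      (θ : ReesFlat.C (IU i.ker U hU) (f k) (hmem k) →+* Γ(X', W')) θ.surjective).mp h1
    have : c' = c := θ.injective hcc'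
    rw [← this]
    exact hc'
  · have h1 : i.app U ≫ g.appLE (i ⁻¹ᵁ U) ((i.ker.comap b).subschemeι ⁻¹ᵁ W') hle2 =
        b.appLE U W' hle ≫ (i.ker.comap b).subschemeι.app W' := by
      rw [Scheme.Hom.app_eq_appLE, Scheme.Hom.appLE_comp_appLE,
        Scheme.Hom.app_eq_appLE, Scheme.Hom.appLE_comp_appLE]
      exact appLE_congr_hom hg _ _ _
    have h2 := congrArg CommRingCat.Hom.hom h1
    rw [CommRingCat.hom_comp, CommRingCat.hom_comp] at h2
    rw [h2, RingHom.comp_assoc, hθ]

end scheme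

end Groth.Agent.Lib.helper28.ExcSmooth
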