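import Mathlib
import Groth.Prelude.Def_BlowUp2
import Groth.Agent.Lib.Helper17.RegGeneriz
import Groth.Agent.Lib.Helper16.HCart3
import Groth.Agent.Lib.Helper16.BlowUpProper
import Groth.Agent.S0560

/-!
# Regularity and blowing up (helper28)

* `isRegularLocalRing_stalk_of_smooth`: for a smooth morphism `g : X ⟶ Y`, regularity of
  `O_{Y, g x}` implies regularity of `O_{X, x}`.
* `isRegularLocalRing_of_quotient`: `R` Noetherian, `π : R → R'` surjective with kernel generated by a
  nonzerodivisor, `R'_{q'}` regular ⇒ `R_q` regular (`q = π⁻¹ q'`).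
* `isRegularLocalRing_stalk_of_effCartier`: on a locally Noetherian scheme, regularity of the local
  ring of an effective Cartier divisor at a point implies regularity of the ambient local ring.
* `isRegularLocalRing_of_smooth_exceptional`: if the exceptional divisor of a blowing up of a locally
  Noetherian scheme `X` in `𝓘` is smooth over `Y = V(𝓘)`, and `O_{Y,y}` is regular, then `O_{X,x₁}` is
  regular for every generization `x₁ ∉ Y` of `y`.
-/

set_option autoImplicit false
set_option linter.style.haveILetI false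
set_option linter.unusedTactic false

universe u

open CategoryTheory CategoryTheory.Limits AlgebraicGeometry Opposite TopologicalSpace IsLocalRing

namespace Groth.Agent.Lib.helper28.RegBlowUp

section stalk

variable {X Y : Scheme.{u}}

/-- regularity of the stalk at a point of an affine open, in terms of the coordinate ring -/
theorem isRegularLocalRing_stalk_iff {U : X.Opens} (hU : IsAffineOpen U) (x : X) (hx : x ∈ U) :
    IsRegularLocalRing (X.presheaf.stalk x) ↔
      IsRegularLocalRing (Localization.AtPrime (hU.primeIdealOf ⟨x, hx⟩).asIdeal) := by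
  letI : Algebra Γ(X, U) (X.presheaf.stalk x) :=
    TopCat.Presheaf.algebra_section_stalk X.presheaf ⟨x, hx⟩
  haveI := hU.isLocalization_stalk ⟨x, hx⟩
  let e : Localization.AtPrime (hU.primeIdealOf ⟨x, hx⟩).asIdeal ≃ₐ[Γ(X, U)] X.presheaf.stalk x :=
    IsLocalization.algEquiv (hU.primeIdealOf ⟨x, hx⟩).asIdeal.primeCompl _ _
  exact ⟨fun h => IsRegularLocalRing.of_ringEquiv e.symm.toRingEquiv,
    fun h => IsRegularLocalRing.of_ringEquiv e.toRingEquiv⟩

/-- **Smooth morphisms preserve regularity of local rings.** -/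
theorem isRegularLocalRing_stalk_of_smooth (g : X ⟶ Y) [Smooth g] (x : X)
    (h : IsRegularLocalRing (Y.presheaf.stalk (g x))) :
    IsRegularLocalRing (X.presheaf.stalk x) := by
  obtain ⟨V, hV, hgxV, -⟩ := Opens.isBasis_iff_nbhd.mp Y.isBasis_affineOpens
    (Opens.mem_top (g x))
  obtain ⟨W, hW, hxW, e⟩ := Opens.isBasis_iff_nbhd.mp X.isBasis_affineOpens
    (show x ∈ g ⁻¹ᵁ V from hgxV)
  have hsm : (g.appLE V W e).hom.Smooth := g.smooth_appLE hV hW e
  rw [isRegularLocalRing_stalk_iff hW x hxW]
  rw [isRegularLocalRing_stalk_iff hV (g x) hgxV] at h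
  have hc := IsAffineOpen.comap_primeIdealOf_appLE (f := g) V hV W hW e hxW
  have hc' : (hW.primeIdealOf ⟨x, hxW⟩).asIdeal.comap (g.appLE V W e).hom =
      (hV.primeIdealOf ⟨g x, e hxW⟩).asIdeal := congrArg PrimeSpectrum.asIdeal hc
  algebraize [(g.appLE V W e).hom]
  have h' : IsRegularLocalRing (Localization.AtPrime
      ((hW.primeIdealOf ⟨x, hxW⟩).asIdeal.comap (algebraMap Γ(Y, V) Γ(X, W)))) := by
    have key : ∀ (p p' : Ideal Γ(Y, V)) [p.IsPrime] [p'.IsPrime], p = p' →
        IsRegularLocalRing (Localization.AtPrime p') →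
        IsRegularLocalRing (Localization.AtPrime p) := by
      intro p p' _ _ hpp hreg
      subst hpp
      exact hreg
    exact key _ _ hc' h
  exact Groth.Agent.Lib.Helper24.SmoothRegularIff.isRegularLocalRing_atPrime_of_smooth
    Γ(Y, V) Γ(X, W) (hW.primeIdealOf ⟨x, hxW⟩).asIdeal h'

end stalk

section ring

variable {R R' : Type u} [CommRing R] [CommRing R']

/-- regularity lifts along a quotient by a nonzerodivisor, after localization -/
theorem isRegularLocalRing_of_quotient [IsNoetherianRing R] (π : R →+* R')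
    (hπ : Function.Surjective π) (t : R) (ht : t ∈ nonZeroDivisors R)
    (hker : RingHom.ker π = Ideal.span {t}) (q' : Ideal R') [q'.IsPrime]
    (h : IsRegularLocalRing (Localization.AtPrime q')) :
    IsRegularLocalRing (Localization.AtPrime (q'.comap π)) := by
  set q : Ideal R := q'.comap π with hq
  have hT : Submonoid.map π q.primeCompl = q'.primeCompl := by
    ext x
    constructor
    · rintro ⟨a, ha, rfl⟩
      exact ha
    · intro hx
      obtain ⟨a, rfl⟩ := hπ x
      exact ⟨a, hx, rfl⟩
  haveI : IsLocalization (Submonoid.map π q.primeCompl) (Localization.AtPrime q') := by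
    rw [hT]
    infer_instance
  let ψ : Localization.AtPrime q →+* Localization.AtPrime q' :=
    IsLocalization.map (Localization.AtPrime q') π (hT.symm ▸ q.primeCompl.le_comap_map)
  have hψs : Function.Surjective ψ :=
    IsLocalization.map_surjective_of_surjective q.primeCompl (Localization.AtPrime q) _ hπ
  have hψk : RingHom.ker ψ = Ideal.span {algebraMap R (Localization.AtPrime q) t} := by
    have := IsLocalization.ker_map (S := Localization.AtPrime q) (Localization.AtPrime q') π hT
    rw [hker, Ideal.map_span, Set.image_singleton] at this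
    exact this
  set x := algebraMap R (Localization.AtPrime q) t with hx
  have hxm : x ∈ maximalIdeal (Localization.AtPrime q) := by
    rw [← Localization.AtPrime.map_eq_maximalIdeal]
    apply Ideal.mem_map_of_mem
    rw [hq, Ideal.mem_comap]
    have : π t = 0 := by
      rw [← RingHom.mem_ker, hker]
      exact Ideal.mem_span_singleton_self t
    rw [this]
    exact q'.zero_mem
  have hxr : x ∈ nonZeroDivisors (Localization.AtPrime q) :=
    IsLocalization.map_nonZeroDivisors_le q.primeCompl (Localization.AtPrime q)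
      (Submonoid.mem_map_of_mem _ ht)
  haveI : IsRegularLocalRing (Localization.AtPrime q ⧸ Ideal.span {x}) := by
    have e1 : (Localization.AtPrime q ⧸ RingHom.ker ψ) ≃+* Localization.AtPrime q' :=
      RingHom.quotientKerEquivOfSurjective hψs
    have e2 : (Localization.AtPrime q ⧸ RingHom.ker ψ) ≃+*
        (Localization.AtPrime q ⧸ Ideal.span {x}) := Ideal.quotEquivOfEq hψk
    exact IsRegularLocalRing.of_ringEquiv (e1.symm.trans e2)
  exact Groth.Agent.S0560.result (Localization.AtPrime q) x hxm hxr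

end ring

section scheme

open Groth.Agent.Lib.helper16.BlowUpProper

variable {X X' : Scheme.{u}}

theorem isRegularLocalRing_atPrime_congr {A : Type u} [CommRing A] (p p' : Ideal A) [p.IsPrime]
    [p'.IsPrime] (hpp : p = p') (h : IsRegularLocalRing (Localization.AtPrime p')) :
    IsRegularLocalRing (Localization.AtPrime p) := by
  subst hpp
  exact h

/-- **Regularity lifts from an effective Cartier divisor to the ambient scheme.** -/
theorem isRegularLocalRing_stalk_of_effCartier [IsLocallyNoetherian X'] (E : X'.IdealSheafData)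
    (hE : BlowUp.IsEffCartierIdeal E) (e : E.subscheme)
    (h : IsRegularLocalRing (E.subscheme.presheaf.stalk e)) :
    IsRegularLocalRing (X'.presheaf.stalk (E.subschemeι e)) := by
  obtain ⟨W, hyW, t, ht, hEW⟩ := hE (E.subschemeι e)
  have hW : IsAffineOpen W.1 := W.2
  have hV : IsAffineOpen (E.subschemeι ⁻¹ᵁ W.1) := hW.preimage E.subschemeι
  have heV : e ∈ E.subschemeι ⁻¹ᵁ W.1 := hyW
  haveI : IsNoetherianRing Γ(X', W.1) := IsLocallyNoetherian.component_noetherian W
  rw [isRegularLocalRing_stalk_iff hV e heV] at h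
  rw [isRegularLocalRing_stalk_iff hW (E.subschemeι e) hyW]
  have hc := IsAffineOpen.comap_primeIdealOf_appLE (f := E.subschemeι) W.1 hW _ hV le_rfl heV
  have hc' : (hV.primeIdealOf ⟨e, heV⟩).asIdeal.comap (E.subschemeι.app W.1).hom =
      (hW.primeIdealOf ⟨E.subschemeι e, hyW⟩).asIdeal := by
    have := congrArg PrimeSpectrum.asIdeal hc
    rw [← Scheme.Hom.app_eq_appLE] at this
    exact this
  have h2 := isRegularLocalRing_of_quotient (E.subschemeι.app W.1).hom
    (E.subschemeι.app_surjective W.1 hW) t ht (by rw [E.ker_subschemeι_app W, hEW])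
    (hV.primeIdealOf ⟨e, heV⟩).asIdeal h
  exact isRegularLocalRing_atPrime_congr _ _ hc'.symm h2

/-- **Regularity of `X` at generizations outside the centre, from a smooth exceptional divisor.** -/
theorem isRegularLocalRing_of_smooth_exceptional [IsLocallyNoetherian X]
    (𝓘 : X.IdealSheafData) (b : X' ⟶ X) (hb : BlowUp.IsBlowUp b 𝓘)
    (g : (𝓘.comap b).subscheme ⟶ 𝓘.subscheme)
    (hg : g ≫ 𝓘.subschemeι = (𝓘.comap b).subschemeι ≫ b) [Smooth g] (y : 𝓘.subscheme)
    (hy : IsRegularLocalRing (𝓘.subscheme.presheaf.stalk y)) (x₁ : X)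
    (hgen : x₁ ⤳ 𝓘.subschemeι y) (hx₁ : x₁ ∉ 𝓘.support) :
    IsRegularLocalRing (X.presheaf.stalk x₁) := by
  have hft : ∀ x : X, ∃ U : X.affineOpens, x ∈ U.1 ∧ (𝓘.ideal U).FG := by
    intro x
    obtain ⟨U, hU, hxU, -⟩ := Opens.isBasis_iff_nbhd.mp X.isBasis_affineOpens (Opens.mem_top x)
    haveI : IsNoetherianRing Γ(X, U) := IsLocallyNoetherian.component_noetherian ⟨U, hU⟩
    exact ⟨⟨U, hU⟩, hxU, IsNoetherian.noetherian _⟩
  haveI hprop : IsProper b := isProper_of_isBlowUp 𝓘 b hb hft
  haveI : IsLocallyNoetherian X' := LocallyOfFiniteType.isLocallyNoetherian b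
  obtain ⟨U₀, hU₀⟩ : ∃ U₀ : X.Opens, (U₀ : Set X) = (𝓘.support : Set X)ᶜ :=
    ⟨⟨(𝓘.support : Set X)ᶜ, 𝓘.support.isClosed.isOpen_compl⟩, rfl⟩
  haveI hiso : IsIso (b ∣_ U₀) :=
    Groth.Agent.Lib.helper16.HCart.isIso_morphismRestrict_of_isBlowUp 𝓘 b hb U₀ (by
      rw [hU₀]
      exact disjoint_compl_right)
  have hx₁U : x₁ ∈ U₀ := by
    change x₁ ∈ (U₀ : Set X)
    rw [hU₀]
    exact hx₁
  obtain ⟨z, hz⟩ : ∃ z : (b ⁻¹ᵁ U₀ : Scheme.{u}), (b ∣_ U₀) z = ⟨x₁, hx₁U⟩ :=
    (ConcreteCategory.bijective_of_isIso (b ∣_ U₀).base).surjective _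
  have hbz : b z.1 = x₁ := by
    rw [← morphismRestrict_base_coe b U₀ z, hz]
  haveI : IsIso (b.stalkMap z.1) :=
    ((MorphismProperty.isomorphisms CommRingCat).arrow_mk_iso_iff
      (morphismRestrictStalkMap b U₀ z)).mp inferInstance
  -- lift the specialization
  obtain ⟨y', hspec, hby'⟩ := b.isClosedMap.specializingMap
    (show b z.1 ⤳ 𝓘.subschemeι y from hbz ▸ hgen)
  have hy'supp : y' ∈ (𝓘.comap b).support := by
    rw [Scheme.IdealSheafData.support_comap]
    change b y' ∈ 𝓘.support
    rw [hby', ← SetLike.mem_coe, ← Scheme.IdealSheafData.range_subschemeι]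
    exact Set.mem_range_self y
  obtain ⟨e, he⟩ : ∃ e, (𝓘.comap b).subschemeι e = y' := by
    rw [← SetLike.mem_coe, ← Scheme.IdealSheafData.range_subschemeι] at hy'supp
    exact hy'supp
  have hge : g e = y := by
    apply 𝓘.subschemeι.isClosedEmbedding.injective
    have h1 : (g ≫ 𝓘.subschemeι) e = ((𝓘.comap b).subschemeι ≫ b) e := by rw [hg]
    rw [Scheme.Hom.comp_apply, Scheme.Hom.comp_apply, he, hby'] at h1
    exact h1
  have h1 : IsRegularLocalRing ((𝓘.comap b).subscheme.presheaf.stalk e) :=
    isRegularLocalRing_stalk_of_smooth g e (by rw [hge]; exact hy)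
  have h2 : IsRegularLocalRing (X'.presheaf.stalk y') := by
    have := isRegularLocalRing_stalk_of_effCartier (𝓘.comap b) hb.1 e h1
    rw [he] at this
    exact this
  have h3 : IsRegularLocalRing (X'.presheaf.stalk z.1) :=
    Groth.Agent.Lib.helper17.RegGeneriz.isRegularLocalRing_stalk_of_specializes hspec h2
  have h4 : IsRegularLocalRing (X.presheaf.stalk (b z.1)) :=
    IsRegularLocalRing.of_ringEquiv (asIso (b.stalkMap z.1)).commRingCatIsoToRingEquiv.symm
  rw [hbz] at h4
  exact h4

end scheme

end Groth.Agent.Lib.helper28.RegBlowUp
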