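import Mathlib
import Groth.Agent.Lib.Helper28.RegBlowUp
import Groth.Agent.Lib.Helper28.ExcSmooth
import Groth.Agent.Lib.Helper17.RegSpread2
import Groth.Agent.Lib.Helper15.Regular
import Groth.Agent.Lib.Helper11.KoszulReg

/-!
# Blowing up a regular scheme along a regular centre (helper28)

* `exists_h1Regular_generators`: a closed immersion `i : Y ⟶ X` into a locally Noetherian scheme with
  `O_{X, i y}` and `O_{Y, y}` regular is, near `i y`, cut out by a regular (hence `H₁`-regular)
  sequence on an affine open.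
* `isRegularLocalRing_stalk_blowUp`: the blowing up of `X` along `Y` is regular at every point
  lying over a point `i y` with `O_{X, i y'}`, `O_{Y, y'}` regular for all `y'`.
-/

set_option autoImplicit false
set_option linter.style.haveILetI false
set_option linter.unusedTactic false

universe u

open CategoryTheory CategoryTheory.Limits AlgebraicGeometry Opposite TopologicalSpace IsLocalRing

namespace Groth.Agent.Lib.helper28.RegBlowUp

section ring

variable {R R' : Type u} [CommRing R] [CommRing R']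

/-- localization of a surjection at a prime -/
theorem nonempty_quotient_map_equiv (π : R →+* R') (hπ : Function.Surjective π) (q' : Ideal R')
    [q'.IsPrime] :
    Nonempty ((Localization.AtPrime (q'.comap π) ⧸
      (RingHom.ker π).map (algebraMap R (Localization.AtPrime (q'.comap π)))) ≃+*
        Localization.AtPrime q') := by
  set q : Ideal R := q'.comap π with hq
  have hT : Submonoid.map π q.primeCompl = q'.primeCompl := by
    ext x
    constructor
    · rintro ⟨a, ha, rfl⟩
      exact ha
    · intro hx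
      obtain ⟨a, rfl⟩ := hπ x
      exact ⟨a, hx, rfl⟩
  haveI : IsLocalization (Submonoid.map π q.primeCompl) (Localization.AtPrime q') := by
    rw [hT]
    infer_instance
  let ψ : Localization.AtPrime q →+* Localization.AtPrime q' :=
    IsLocalization.map (Localization.AtPrime q') π (hT.symm ▸ q.primeCompl.le_comap_map)
  have hψs : Function.Surjective ψ :=
    IsLocalization.map_surjective_of_surjective q.primeCompl (Localization.AtPrime q) _ hπ
  have hψk : RingHom.ker ψ = (RingHom.ker π).map (algebraMap R (Localization.AtPrime q)) :=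
    IsLocalization.ker_map (S := Localization.AtPrime q) (Localization.AtPrime q') π hT
  exact ⟨(Ideal.quotEquivOfEq hψk).symm.trans (RingHom.quotientKerEquivOfSurjective hψs)⟩

theorem isH1Regular_of_isWeaklyRegular {A : Type u} [CommRing A] {n : ℕ} (f : Fin n → A)
    (h : RingTheory.Sequence.IsWeaklyRegular A (List.ofFn f)) : CAlgX.IsH1Regular f := by
  have h1 := Groth.Agent.Lib.helper11.KoszulH1.H1Z_of_isWeaklyRegular (M := A) n f h
  intro a ha
  have h2 : a ∈ Groth.Agent.Lib.helper11.KoszulH1.Triv f A := by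
    apply h1
    rw [← ha]
    exact Finset.sum_congr rfl (fun i _ => by rw [smul_eq_mul, mul_comm])
  refine (Submodule.span_le.mpr ?_) h2
  rintro _ ⟨i, j, x, rfl⟩
  have e : f j • (Pi.single i x : Fin n → A) - f i • (Pi.single j x : Fin n → A) =
      x • (Pi.single i (f j) - Pi.single j (f i) : Fin n → A) := by
    ext k
    simp only [Pi.sub_apply, Pi.smul_apply, Pi.single_apply, smul_eq_mul]
    split_ifs <;> ring
  rw [e]
  exact Submodule.smul_mem _ _ (Submodule.subset_span ⟨i, j, rfl⟩)

/-- In a regular local ring `R`, an ideal `I` with `R/I` regular is generated by a weakly regular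
sequence. -/
theorem exists_isWeaklyRegular_of_regular_quotient (R : Type u) [CommRing R] [IsRegularLocalRing R]
    (I : Ideal R) [IsRegularLocalRing (R ⧸ I)] :
    ∃ rs : List R, RingTheory.Sequence.IsWeaklyRegular R rs ∧ I = Ideal.ofList rs := by
  obtain ⟨x, c, hc, hx, hI⟩ :=
    Groth.Agent.Lib.helper15.exists_generators_of_regular_quotient R _ rfl I
  have hw := Groth.Agent.Lib.helper15.isWeaklyRegular_ofFn R _ rfl x hx
  refine ⟨(List.ofFn x).take c, ?_, ?_⟩
  · rw [← List.take_append_drop c (List.ofFn x),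
      RingTheory.Sequence.isWeaklyRegular_append_iff] at hw
    exact hw.1
  · rw [hI, Ideal.ofList]
    congr 1
    ext r
    simp only [Set.mem_range, Set.mem_ofPred_eq, List.mem_take_iff_getElem, List.getElem_ofFn,
      List.length_ofFn]
    constructor
    · rintro ⟨j, rfl⟩
      exact ⟨j.1, by have := j.2; omega, rfl⟩
    · rintro ⟨j, hj, rfl⟩
      exact ⟨⟨j, by omega⟩, rfl⟩

end ring

section scheme

open Groth.Agent.Lib.helper16.BlowUpProper

variable {X Y : Scheme.{u}}

/-- **A closed immersion of regular schemes is locally cut out by a regular sequence.** -/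
theorem exists_h1Regular_generators [IsLocallyNoetherian X] (i : Y ⟶ X) [IsClosedImmersion i]
    (y : Y) (hX : IsRegularLocalRing (X.presheaf.stalk (i y)))
    (hY : IsRegularLocalRing (Y.presheaf.stalk y)) :
    ∃ (U : X.Opens) (hU : IsAffineOpen U) (r : ℕ) (f : Fin r → Γ(X, U)),
      i y ∈ U ∧ i.ker.ideal ⟨U, hU⟩ = Ideal.span (Set.range f) ∧ CAlgX.IsH1Regular f := by
  obtain ⟨U₀, hU₀, hyU₀, -⟩ := Opens.isBasis_iff_nbhd.mp X.isBasis_affineOpens
    (Opens.mem_top (i y))
  have hV : IsAffineOpen (i ⁻¹ᵁ U₀) := hU₀.preimage i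
  have hyV : y ∈ i ⁻¹ᵁ U₀ := hyU₀
  haveI : IsNoetherianRing Γ(X, U₀) := IsLocallyNoetherian.component_noetherian ⟨U₀, hU₀⟩
  rw [isRegularLocalRing_stalk_iff hU₀ (i y) hyU₀] at hX
  rw [isRegularLocalRing_stalk_iff hV y hyV] at hY
  have hc := IsAffineOpen.comap_primeIdealOf_appLE (f := i) U₀ hU₀ _ hV le_rfl hyV
  have hc' : (hV.primeIdealOf ⟨y, hyV⟩).asIdeal.comap (i.app U₀).hom =
      (hU₀.primeIdealOf ⟨i y, hyU₀⟩).asIdeal := by
    have := congrArg PrimeSpectrum.asIdeal hc
    rw [← Scheme.Hom.app_eq_appLE] at this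
    exact this
  obtain ⟨P, hP⟩ : ∃ P : Ideal Γ(X, U₀), P = (hU₀.primeIdealOf ⟨i y, hyU₀⟩).asIdeal := ⟨_, rfl⟩
  haveI hPprime : P.IsPrime := hP ▸ (hU₀.primeIdealOf ⟨i y, hyU₀⟩).2
  have hXP : IsRegularLocalRing (Localization.AtPrime P) :=
    isRegularLocalRing_atPrime_congr _ _ hP hX
  obtain ⟨K, hK⟩ : ∃ K : Ideal Γ(X, U₀), K = i.ker.ideal ⟨U₀, hU₀⟩ := ⟨_, rfl⟩
  have hKker : K = RingHom.ker (i.app U₀).hom := by rw [hK, Scheme.Hom.ker_apply]
  have hKP : K ≤ P := by
    rw [hKker, hP, ← hc']
    intro a ha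
    rw [Ideal.mem_comap, RingHom.mem_ker.mp ha]
    exact Ideal.zero_mem _
  -- the quotient of `A_P` by `K A_P` is the local ring of `Y`
  have hq : IsRegularLocalRing (Localization.AtPrime P ⧸
      K.map (algebraMap Γ(X, U₀) (Localization.AtPrime P))) := by
    obtain ⟨e⟩ := nonempty_quotient_map_equiv (i.app U₀).hom (i.app_surjective U₀ hU₀)
      (hV.primeIdealOf ⟨y, hyV⟩).asIdeal
    have hPc : P = (hV.primeIdealOf ⟨y, hyV⟩).asIdeal.comap (i.app U₀).hom := by
      rw [hP, hc']
    subst hPc
    rw [hKker]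
    haveI := hY
    exact IsRegularLocalRing.of_ringEquiv e.symm
  haveI := hXP
  haveI := hq
  obtain ⟨rs, hrs, hIrs⟩ := exists_isWeaklyRegular_of_regular_quotient (Localization.AtPrime P)
    (K.map (algebraMap Γ(X, U₀) (Localization.AtPrime P)))
  obtain ⟨g, hgP, ks, -, hksK, hB⟩ :=
    Groth.Agent.Lib.helper17.RegSpread.spread_regular P K hKP rs hrs hIrs
  haveI hloc : IsLocalization.Away g Γ(X, X.basicOpen g) := hU₀.isLocalization_basicOpen g
  obtain ⟨hreg, hgen⟩ := hB Γ(X, X.basicOpen g)
  have hU : IsAffineOpen (X.basicOpen g) := hU₀.basicOpen g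
  have hyU : i y ∈ X.basicOpen g := by
    rw [Scheme.mem_basicOpen X g (i y) hyU₀]
    by_contra hnu
    apply hgP
    rw [hP, hU₀.primeIdealOf_eq_map_closedPoint]
    exact hnu
  refine ⟨X.basicOpen g, hU, _, (ks.map (algebraMap Γ(X, U₀) Γ(X, X.basicOpen g))).get, hyU,
    ?_, ?_⟩
  · rw [Set.range_list_get]
    have h := i.ker.map_ideal_basicOpen ⟨U₀, hU₀⟩ g
    rw [← hK] at h
    exact h.symm.trans hgen
  · apply isH1Regular_of_isWeaklyRegular
    rw [List.ofFn_get]
    exact hreg.toIsWeaklyRegular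

/-- **The blowing up of a regular locally Noetherian scheme along a regular closed subscheme is
regular.** -/
theorem isRegularLocalRing_stalk_blowUp {Xt : Scheme.{u}} [IsLocallyNoetherian X] (i : Y ⟶ X)
    [IsClosedImmersion i] (hreg : ∀ x : X, IsRegularLocalRing (X.presheaf.stalk x))
    (hregY : ∀ y : Y, IsRegularLocalRing (Y.presheaf.stalk y))
    (π : Xt ⟶ X) (hπ : BlowUp.IsBlowUp π i.ker) (z : Xt) :
    IsRegularLocalRing (Xt.presheaf.stalk z) := by
  have hft : ∀ x : X, ∃ U : X.affineOpens, x ∈ U.1 ∧ (i.ker.ideal U).FG := by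
    intro x
    obtain ⟨U, hU, hxU, -⟩ := Opens.isBasis_iff_nbhd.mp X.isBasis_affineOpens (Opens.mem_top x)
    haveI : IsNoetherianRing Γ(X, U) := IsLocallyNoetherian.component_noetherian ⟨U, hU⟩
    exact ⟨⟨U, hU⟩, hxU, IsNoetherian.noetherian _⟩
  haveI hprop : IsProper π := isProper_of_isBlowUp i.ker π hπ hft
  haveI : IsLocallyNoetherian Xt := LocallyOfFiniteType.isLocallyNoetherian π
  by_cases hz : π z ∈ i.ker.support
  · -- on the exceptional divisor
    have hzs : z ∈ (i.ker.comap π).support := by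
      rw [Scheme.IdealSheafData.support_comap]
      exact hz
    obtain ⟨e, he⟩ : ∃ e, (i.ker.comap π).subschemeι e = z := by
      rw [← SetLike.mem_coe, ← Scheme.IdealSheafData.range_subschemeι] at hzs
      exact hzs
    have hle : i.ker ≤ ((i.ker.comap π).subschemeι ≫ π).ker := by
      rw [← Scheme.IdealSheafData.map_ker, Scheme.IdealSheafData.ker_subschemeι]
      exact Scheme.IdealSheafData.le_map_comap i.ker π
    obtain ⟨g, hg⟩ : ∃ g : (i.ker.comap π).subscheme ⟶ Y,
        g ≫ i = (i.ker.comap π).subschemeι ≫ π :=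
      ⟨IsClosedImmersion.lift i _ hle, IsClosedImmersion.lift_fac i _ hle⟩
    haveI : Smooth g := Groth.Agent.Lib.helper28.ExcSmooth.smooth_exceptional i π hπ
      (fun y => exists_h1Regular_generators i y (hreg (i y)) (hregY y)) g hg
    have h1 : IsRegularLocalRing ((i.ker.comap π).subscheme.presheaf.stalk e) :=
      isRegularLocalRing_stalk_of_smooth g e (hregY (g e))
    have h2 := isRegularLocalRing_stalk_of_effCartier (i.ker.comap π) hπ.1 e h1
    rw [he] at h2
    exact h2
  · -- off the centre the blowing up is an isomorphism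
    obtain ⟨U₀, hU₀⟩ : ∃ U₀ : X.Opens, (U₀ : Set X) = (i.ker.support : Set X)ᶜ :=
      ⟨⟨(i.ker.support : Set X)ᶜ, i.ker.support.isClosed.isOpen_compl⟩, rfl⟩
    haveI hiso : IsIso (π ∣_ U₀) :=
      Groth.Agent.Lib.helper16.HCart.isIso_morphismRestrict_of_isBlowUp i.ker π hπ U₀ (by
        rw [hU₀]
        exact disjoint_compl_right)
    have hzU : z ∈ π ⁻¹ᵁ U₀ := by
      change π z ∈ (U₀ : Set X)
      rw [hU₀]
      exact hz
    haveI : IsIso (π.stalkMap z) :=
      ((MorphismProperty.isomorphisms CommRingCat).arrow_mk_iso_iff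
        (morphismRestrictStalkMap π U₀ ⟨z, hzU⟩)).mp inferInstance
    haveI := hreg (π z)
    exact IsRegularLocalRing.of_ringEquiv (asIso (π.stalkMap z)).commRingCatIsoToRingEquiv

end scheme

end Groth.Agent.Lib.helper28.RegBlowUp
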