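import Mathlib.RingTheory.GradedAlgebra.Radical
import Mathlib.Algebra.Module.Torsion.Basic
import Mathlib.AlgebraicGeometry.ProjectiveSpectrum.Topology
import Mathlib.Algebra.GradedMulAction

/-!
# Gluing homogeneous fractions on `D₊(f)` (pure algebra)

Algebraic core of "sections of `M(n)~` over `D₊(f)` are single fractions `m / f ^ k`".
-/

set_option autoImplicit false
universe u

namespace Groth.Agent.Lib.helper28.GrFrac

variable {R A : Type u} [CommRing R] [CommRing A] [Algebra R A] (𝒜 : ℕ → Submodule R A)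
  [GradedAlgebra 𝒜]

/-- The point of `Proj` given by a homogeneous prime not containing a homogeneous `f` of positive
degree. -/
def pointOf {p : Ideal A} (hp : p.IsHomogeneous 𝒜) (hpp : p.IsPrime) {d : ℕ} (hd : 0 < d) {f : A}
    (hf : f ∈ 𝒜 d) (hfp : f ∉ p) : ProjectiveSpectrum 𝒜 :=
  ⟨⟨p, hp⟩, hpp, fun hle => hfp (hle (HomogeneousIdeal.mem_irrelevant_of_mem 𝒜 hd hf))⟩

theorem mem_pointOf {p : Ideal A} (hp : p.IsHomogeneous 𝒜) (hpp : p.IsPrime) {d : ℕ} (hd : 0 < d)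
    {f : A} (hf : f ∈ 𝒜 d) (hfp : f ∉ p) (a : A) :
    a ∈ (pointOf 𝒜 hp hpp hd hf hfp).asHomogeneousIdeal ↔ a ∈ p := Iff.rfl

/-- If the `D₊(h α)` cover `D₊(f)`, then a power of `f` lies in the ideal spanned by the `h α`. -/
theorem exists_pow_mem_span {d : ℕ} (hd : 0 < d) {f : A} (hf : f ∈ 𝒜 d) {ι : Type*} (h : ι → A)
    (hh : ∀ α, SetLike.IsHomogeneousElem 𝒜 (h α))
    (hcov : ∀ y : ProjectiveSpectrum 𝒜, f ∉ y.asHomogeneousIdeal →
      ∃ α, h α ∉ y.asHomogeneousIdeal) :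
    ∃ N : ℕ, f ^ N ∈ Ideal.span (Set.range h) := by
  have hI : (Ideal.span (Set.range h)).IsHomogeneous 𝒜 := by
    apply Ideal.homogeneous_span
    rintro _ ⟨α, rfl⟩
    exact hh α
  by_contra hcon
  have hfrad : f ∉ (Ideal.span (Set.range h)).radical := fun hf' => hcon hf'
  rw [hI.radical_eq, Ideal.mem_sInf] at hfrad
  simp only [not_forall] at hfrad
  obtain ⟨p, ⟨hphom, hIp, hpprime⟩, hfp⟩ := hfrad
  obtain ⟨α, hα⟩ := hcov (pointOf 𝒜 hphom hpprime hd hf hfp) hfp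
  exact hα (hIp (Ideal.subset_span ⟨α, rfl⟩))

/-- Homogeneous coefficients: if `f ^ N = ∑ c α * h α` with `f`, `h α` homogeneous, the `c α` can
be taken homogeneous of the complementary degree (or zero). -/
theorem exists_homogeneous_coeffs {d : ℕ} {f : A} (hf : f ∈ 𝒜 d) {ι : Type*} (T : Finset ι)
    (h : ι → A) (e : ι → ℕ) (hh : ∀ α, h α ∈ 𝒜 (e α)) (c : ι → A) (N : ℕ)
    (hN : f ^ N = ∑ α ∈ T, c α * h α) :
    ∃ c' : ι → A, (∀ α, (e α ≤ N * d ∧ c' α ∈ 𝒜 (N * d - e α)) ∨ c' α = 0) ∧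
      f ^ N = ∑ α ∈ T, c' α * h α := by
  classical
  refine ⟨fun α => if e α ≤ N * d then (DirectSum.decompose 𝒜 (c α) (N * d - e α) : A) else 0,
    fun α => ?_, ?_⟩
  · by_cases hα : e α ≤ N * d
    · left
      simp only [hα, if_true]
      exact ⟨trivial, SetLike.coe_mem _⟩
    · right
      simp only [hα, if_false]
  · have h1 : f ^ N ∈ 𝒜 (N * d) := by
      have := SetLike.pow_mem_graded N hf
      simpa [smul_eq_mul] using this
    have h2 : (DirectSum.decompose 𝒜 (f ^ N) (N * d) : A) = f ^ N :=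
      DirectSum.decompose_of_mem_same 𝒜 h1
    rw [← h2, hN, DirectSum.decompose_sum, DFinsupp.finsetSum_apply,
      AddSubmonoidClass.coe_finsetSum]
    refine Finset.sum_congr rfl fun α _ => ?_
    by_cases hα : e α ≤ N * d
    · simp only [hα, if_true]
      exact DirectSum.coe_decompose_mul_of_right_mem_of_le 𝒜 (hh α) hα
    · simp only [hα, if_false, zero_mul]
      exact DirectSum.coe_decompose_mul_of_right_mem_of_not_le 𝒜 (hh α) hα

variable {M : Type u} [AddCommGroup M] [Module R M] [Module A M] [IsScalarTower R A M]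
  (ℳ : ℕ → Submodule R M) [DirectSum.Decomposition ℳ] [SetLike.GradedSMul 𝒜 ℳ]

/-- The annihilator of a homogeneous element is a homogeneous ideal. -/
theorem torsionOf_isHomogeneous {i : ℕ} {z : M} (hz : z ∈ ℳ i) :
    (Ideal.torsionOf A M z).IsHomogeneous 𝒜 := by
  classical
  intro j a ha
  rw [Ideal.mem_torsionOf_iff] at ha ⊢
  have hsum : a • z = ∑ l ∈ (DirectSum.decompose 𝒜 a).support,
      ((DirectSum.decompose 𝒜 a l : A)) • z := by
    conv_lhs => rw [← DirectSum.sum_support_decompose 𝒜 a]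
    rw [Finset.sum_smul]
  have hmem : ∀ l : ℕ, ((DirectSum.decompose 𝒜 a l : A)) • z ∈ ℳ (l + i) := fun l =>
    SetLike.GradedSMul.smul_mem (DirectSum.decompose 𝒜 a l).2 hz
  have h0 : ((DirectSum.decompose ℳ (a • z)) (j + i) : M) = 0 := by
    rw [ha, DirectSum.decompose_zero]; rfl
  rw [hsum, DirectSum.decompose_sum] at h0
  rw [DFinsupp.finsetSum_apply, AddSubmonoidClass.coe_finsetSum] at h0
  by_cases hj : j ∈ (DirectSum.decompose 𝒜 a).support
  · rw [Finset.sum_eq_single j] at h0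
    · rw [DirectSum.decompose_of_mem_same ℳ (hmem j)] at h0
      exact h0
    · intro l _ hlj
      rw [DirectSum.decompose_of_mem_ne ℳ (hmem l)]
      omega
    · intro hj'
      exact absurd hj hj'
  · rw [DFinsupp.notMem_support_iff] at hj
    rw [hj]
    simp

/-- If a homogeneous element `z` is killed, at every point of `D₊(f)`, by an element outside
the point, then a power of `f` kills `z`. -/
theorem exists_pow_smul_eq_zero {d : ℕ} (hd : 0 < d) {f : A} (hf : f ∈ 𝒜 d) {i : ℕ} {z : M}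
    (hz : z ∈ ℳ i)
    (h : ∀ y : ProjectiveSpectrum 𝒜, f ∉ y.asHomogeneousIdeal →
      ∃ u : A, u ∉ y.asHomogeneousIdeal ∧ u • z = 0) :
    ∃ N : ℕ, f ^ N • z = 0 := by
  by_contra hcon
  simp only [not_exists] at hcon
  have hJhom := torsionOf_isHomogeneous 𝒜 ℳ hz
  have hfrad : f ∉ (Ideal.torsionOf A M z).radical := by
    rintro ⟨N, hN⟩
    exact hcon N ((Ideal.mem_torsionOf_iff _ _).mp hN)
  rw [hJhom.radical_eq, Ideal.mem_sInf] at hfrad
  simp only [not_forall] at hfrad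
  obtain ⟨p, ⟨hphom, hJp, hpprime⟩, hfp⟩ := hfrad
  obtain ⟨u, hu, huz⟩ := h (pointOf 𝒜 hphom hpprime hd hf hfp) hfp
  exact hu (hJp ((Ideal.mem_torsionOf_iff _ _).mpr huz))

/-- Equality of the fractions `m / h` and `m' / h'` at the point `y`. -/
def FracEq (y : ProjectiveSpectrum 𝒜) (m : M) (h : A) (m' : M) (h' : A) : Prop :=
  ∃ u : A, u ∉ y.asHomogeneousIdeal ∧ u • h' • m = u • h • m'

theorem notMem_of_mul_notMem_left (y : ProjectiveSpectrum 𝒜) {a b : A}
    (h : a * b ∉ y.asHomogeneousIdeal) : a ∉ y.asHomogeneousIdeal := fun ha =>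
  h (Ideal.mul_mem_right b y.asHomogeneousIdeal.toIdeal ha)

theorem notMem_of_mul_notMem_right (y : ProjectiveSpectrum 𝒜) {a b : A}
    (h : a * b ∉ y.asHomogeneousIdeal) : b ∉ y.asHomogeneousIdeal := fun hb =>
  h (Ideal.mul_mem_left y.asHomogeneousIdeal.toIdeal a hb)

theorem pow_notMem (y : ProjectiveSpectrum 𝒜) {a : A} (h : a ∉ y.asHomogeneousIdeal) (k : ℕ) :
    a ^ k ∉ y.asHomogeneousIdeal := fun ha => h (y.isPrime.mem_of_pow_mem k ha)

theorem glue {d : ℕ} (hd : 0 < d) {f : A} (hf : f ∈ 𝒜 d) (n : ℤ) (P : A → M → Prop)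
    (hloc : ∀ y : ProjectiveSpectrum 𝒜, f ∉ y.asHomogeneousIdeal →
      ∃ (e i : ℕ) (h : A) (m : M), h ∈ 𝒜 e ∧ m ∈ ℳ i ∧ (i : ℤ) = e + n ∧
        h ∉ y.asHomogeneousIdeal ∧ P h m)
    (hcompat : ∀ h m h' m', P h m → P h' m' → ∀ y : ProjectiveSpectrum 𝒜,
      f ∉ y.asHomogeneousIdeal → h ∉ y.asHomogeneousIdeal → h' ∉ y.asHomogeneousIdeal →
        FracEq 𝒜 y m h m' h') :
    ∃ (k i : ℕ) (m : M), m ∈ ℳ i ∧ (i : ℤ) = k * d + n ∧
      ∀ y : ProjectiveSpectrum 𝒜, f ∉ y.asHomogeneousIdeal →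
        ∃ (h : A) (m' : M), P h m' ∧ h ∉ y.asHomogeneousIdeal ∧ FracEq 𝒜 y m (f ^ k) m' h := by
  classical
  let ι := {y : ProjectiveSpectrum 𝒜 // f ∉ y.asHomogeneousIdeal}
  have hloc' : ∀ α : ι, ∃ (e i : ℕ) (h : A) (m : M), h ∈ 𝒜 e ∧ m ∈ ℳ i ∧
      (i : ℤ) = e + n ∧ h ∉ α.1.asHomogeneousIdeal ∧ P h m := fun α => hloc α.1 α.2
  choose e₀ i₀ h₀ m₀ hh₀ hm₀ hi₀ hy₀ hP₀ using hloc'
  -- multiply by `f` so that `D₊(h) ⊆ D₊(f)`
  let e : ι → ℕ := fun α => d + e₀ α
  let i : ι → ℕ := fun α => d + i₀ α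
  let h : ι → A := fun α => f * h₀ α
  let m : ι → M := fun α => f • m₀ α
  have he : ∀ α, 0 < e α := fun α => by positivity
  have hh : ∀ α, h α ∈ 𝒜 (e α) := fun α => SetLike.mul_mem_graded hf (hh₀ α)
  have hm : ∀ α, m α ∈ ℳ (i α) := fun α => SetLike.GradedSMul.smul_mem hf (hm₀ α)
  have hi : ∀ α, (i α : ℤ) = e α + n := fun α => by
    simp only [e, i]; push_cast; rw [hi₀ α]; ring
  have hy : ∀ α : ι, h α ∉ α.1.asHomogeneousIdeal := fun α hmem =>
    (α.1.isPrime.mem_or_mem hmem).elim α.2 (hy₀ α)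
  have hhf : ∀ (α : ι) (y : ProjectiveSpectrum 𝒜), h α ∉ y.asHomogeneousIdeal →
      f ∉ y.asHomogeneousIdeal := fun α y hy => notMem_of_mul_notMem_left 𝒜 y hy
  have hh₀' : ∀ (α : ι) (y : ProjectiveSpectrum 𝒜), h α ∉ y.asHomogeneousIdeal →
      h₀ α ∉ y.asHomogeneousIdeal := fun α y hy => notMem_of_mul_notMem_right 𝒜 y hy
  -- compatibility for the new data
  have hcomp : ∀ (α β : ι) (y : ProjectiveSpectrum 𝒜), h α ∉ y.asHomogeneousIdeal →
      h β ∉ y.asHomogeneousIdeal → ∃ u : A, u ∉ y.asHomogeneousIdeal ∧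
        u • (h β • m α - h α • m β) = 0 := by
    intro α β y hα hβ
    obtain ⟨u, hu, huu⟩ := hcompat _ _ _ _ (hP₀ α) (hP₀ β) y (hhf α y hα) (hh₀' α y hα)
      (hh₀' β y hβ)
    refine ⟨u, hu, ?_⟩
    simp only [h, m]
    rw [smul_sub, sub_eq_zero]
    calc u • (f * h₀ β) • f • m₀ α = (f * f) • (u • h₀ β • m₀ α) := by
          simp only [← mul_smul]; congr 1; ring
      _ = (f * f) • (u • h₀ α • m₀ β) := by rw [huu]
      _ = u • (f * h₀ α) • f • m₀ β := by
          simp only [← mul_smul]; congr 1; ring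
  -- finite subcover
  obtain ⟨N₀, hN₀⟩ := exists_pow_mem_span 𝒜 hd hf h (fun α => ⟨_, hh α⟩)
    (fun y hy' => ⟨⟨y, hy'⟩, hy ⟨y, hy'⟩⟩)
  obtain ⟨c, hc⟩ := (Finsupp.mem_span_range_iff_exists_finsupp).mp hN₀
  set T : Finset ι := c.support with hT
  have hcovT : ∀ y : ProjectiveSpectrum 𝒜, f ∉ y.asHomogeneousIdeal →
      ∃ α ∈ T, h α ∉ y.asHomogeneousIdeal := by
    intro y hfy
    by_contra hcon
    simp only [not_exists, not_and, not_not] at hcon
    apply hfy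
    apply y.isPrime.mem_of_pow_mem N₀
    rw [← hc]
    refine Ideal.sum_mem _ fun α hα => ?_
    exact Ideal.mul_mem_left _ _ (hcon α hα)
  -- pairwise relations
  have hrel : ∀ α β : ι, ∃ N : ℕ, (h α * h β) ^ N • (h β • m α - h α • m β) = 0 := by
    intro α β
    have hz : h β • m α - h α • m β ∈ ℳ (e β + i α) := by
      refine sub_mem (SetLike.GradedSMul.smul_mem (hh β) (hm α)) ?_
      have : e β + i α = e α + i β := by
        have h1 := hi α; have h2 := hi β; omega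
      rw [this]
      exact SetLike.GradedSMul.smul_mem (hh α) (hm β)
    refine exists_pow_smul_eq_zero 𝒜 ℳ (d := e α + e β) (by have := he α; omega)
      (SetLike.mul_mem_graded (hh α) (hh β)) hz fun y hy' => ?_
    exact hcomp α β y (notMem_of_mul_notMem_left 𝒜 y hy') (notMem_of_mul_notMem_right 𝒜 y hy')
  choose Nrel hNrel using hrel
  set N : ℕ := T.sup fun α => T.sup fun β => Nrel α β with hNdef
  have hrelN : ∀ α ∈ T, ∀ β ∈ T, (h α * h β) ^ N • (h β • m α - h α • m β) = 0 := by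
    intro α hα β hβ
    have hle : Nrel α β ≤ N := by
      calc Nrel α β ≤ T.sup fun β => Nrel α β := Finset.le_sup (f := fun β => Nrel α β) hβ
        _ ≤ N := Finset.le_sup (f := fun α => T.sup fun β => Nrel α β) hα
    obtain ⟨t, ht⟩ := Nat.exists_eq_add_of_le hle
    rw [ht, add_comm, pow_add, mul_smul, hNrel, smul_zero]
  -- normalised data
  have hrel' : ∀ α ∈ T, ∀ β ∈ T,
      h β ^ (N + 1) • h α ^ N • m α = h α ^ (N + 1) • h β ^ N • m β := by
    intro α hα β hβ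
    have := hrelN α hα β hβ
    rw [smul_sub, sub_eq_zero] at this
    calc h β ^ (N + 1) • h α ^ N • m α = (h α * h β) ^ N • h β • m α := by
          simp only [← mul_smul]; congr 1; ring
      _ = (h α * h β) ^ N • h α • m β := this
      _ = h α ^ (N + 1) • h β ^ N • m β := by
          simp only [← mul_smul]; congr 1; ring
  -- second partition of unity
  obtain ⟨N₁, hN₁⟩ := exists_pow_mem_span 𝒜 hd hf (fun α : T => h α.1 ^ (N + 1))
    (fun α => ⟨_, SetLike.pow_mem_graded (N + 1) (hh α.1)⟩)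
    (fun y hy' => by
      obtain ⟨α, hα, hαy⟩ := hcovT y hy'
      exact ⟨⟨α, hα⟩, pow_notMem 𝒜 y hαy _⟩)
  obtain ⟨c₁, hc₁⟩ := (Ideal.mem_span_range_iff_exists_fun).mp hN₁
  set N₂ : ℕ := N₁ + n.natAbs with hN₂def
  have hc₂ : f ^ N₂ = ∑ α : T, (f ^ n.natAbs * c₁ α) * h α.1 ^ (N + 1) := by
    rw [hN₂def, pow_add, ← hc₁, Finset.sum_mul]
    refine Finset.sum_congr rfl fun α _ => ?_
    ring
  obtain ⟨c', hc'hom, hc'⟩ := exists_homogeneous_coeffs 𝒜 hf (Finset.univ : Finset T)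
    (fun α : T => h α.1 ^ (N + 1)) (fun α : T => (N + 1) • e α.1)
    (fun α => SetLike.pow_mem_graded (N + 1) (hh α.1)) _ N₂ hc₂
  have hpos : (0 : ℤ) ≤ (N₂ * d : ℕ) + n := by
    have h1 : N₂ ≤ N₂ * d := Nat.le_mul_of_pos_right _ hd
    have h2 : n.natAbs ≤ N₂ := by omega
    have h3 : ((N₂ : ℕ) : ℤ) ≤ ((N₂ * d : ℕ) : ℤ) := by exact_mod_cast h1
    omega
  obtain ⟨i₂, hi₂⟩ := Int.eq_ofNat_of_zero_le hpos
  let m₂ : M := ∑ α : T, c' α • h α.1 ^ N • m α.1
  have hm₂ : m₂ ∈ ℳ i₂ := by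
    refine Submodule.sum_mem _ fun α _ => ?_
    rcases hc'hom α with ⟨hle, hmem⟩ | h0
    · have hm' : h α.1 ^ N • m α.1 ∈ ℳ (N • e α.1 + i α.1) :=
        SetLike.GradedSMul.smul_mem (SetLike.pow_mem_graded N (hh α.1)) (hm α.1)
      have := SetLike.GradedSMul.smul_mem (A := 𝒜) (B := ℳ) hmem hm'
      have hdeg : N₂ * d - (N + 1) • e α.1 + (N • e α.1 + i α.1) = i₂ := by
        have h1 := hi α.1
        simp only [smul_eq_mul] at hle ⊢
        have h2 : (N + 1) * e α.1 = N * e α.1 + e α.1 := by ring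
        generalize N₂ * d = X at *
        generalize N * e α.1 = Y at *
        omega
      rw [← hdeg]
      exact this
    · rw [h0, zero_smul]
      exact zero_mem _
  have hglue : ∀ β ∈ T, h β ^ (N + 1) • m₂ = f ^ N₂ • h β ^ N • m β := by
    intro β hβ
    simp only [m₂]
    rw [Finset.smul_sum, hc', Finset.sum_smul]
    refine Finset.sum_congr rfl fun α _ => ?_
    rw [smul_comm, hrel' α.1 α.2 β hβ, mul_smul]
  refine ⟨N₂, i₂, m₂, hm₂, ?_, fun y hy' => ?_⟩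
  · rw [← hi₂]; push_cast; ring
  · obtain ⟨β, hβ, hβy⟩ := hcovT y hy'
    refine ⟨h₀ β, m₀ β, hP₀ β, hh₀' β y hβy, h β ^ N * f, ?_, ?_⟩
    · intro hmem
      exact (y.isPrime.mem_or_mem hmem).elim (pow_notMem 𝒜 y hβy N) hy'
    · have := hglue β hβ
      calc (h β ^ N * f) • h₀ β • m₂ = h β ^ (N + 1) • m₂ := by
            simp only [← mul_smul, h]; congr 1; ring
        _ = f ^ N₂ • h β ^ N • m β := this
        _ = (h β ^ N * f) • f ^ N₂ • m₀ β := by
            simp only [← mul_smul, m]; congr 1; ring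

end Groth.Agent.Lib.helper28.GrFrac
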