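import Groth.Agent.Lib.Helper12.GTwistSecHom
import Groth.Agent.Lib.Helper12.VAmple4
import Groth.Agent.Lib.Helper28.RelTwistCanon

/-!
# `O(1)` on `Proj 𝒜` is very ample relative to some `P^n` when `𝒜` is generated by finitely many
elements of degree one (helper28)

`𝒜` a ring graded by additive subgroups, `U` an affine open of a scheme `Y`, `ρ : Γ(Y, U) → 𝒜₀`
surjective, `f₀, …, f_m ∈ 𝒜₁` generating `A` as an `𝒜₀`-algebra and such that the `D₊(f_l)` cover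
`Proj 𝒜`.  Then `O(1)` is very ample, in the `P^n` sense (`RelAmple.IsRelVeryAmplePn`), relative to
`Proj 𝒜 ⟶ Spec 𝒜₀ ⟶ Spec Γ(Y, U) ⟶ Y` (helper12's sections criterion).
-/

set_option autoImplicit false
set_option linter.unusedSectionVars false
universe u

open CategoryTheory CategoryTheory.Limits AlgebraicGeometry Opposite TopologicalSpace
open HomogeneousLocalization

namespace Groth.Agent.Lib.helper28.ProjPnAbs

open Groth.Agent.Lib.helper12.GTwistSecHom Groth.Agent.Lib.helper28.GTwistFree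
  Groth.Agent.Lib.helper28.GProjSec Groth.Agent.Lib.helper12.ProjUP3
  Groth.Agent.Lib.helper11.GenLocus Groth.Agent.Lib.helper28.RelTwistCanon

variable {A σ : Type u} [CommRing A] [SetLike σ A] [AddSubgroupClass σ A] (𝒜 : ℕ → σ)
  [GradedRing 𝒜]

/-- `(∏ vᵢ ^ aᵢ) / f ^ a = ∏ (vᵢ / f) ^ aᵢ` for `vᵢ`, `f` of degree one and `∑ aᵢ = a`. -/
theorem away_mk_prod_pow {f : A} (hf : f ∈ 𝒜 1) {ι' : Type*} [Fintype ι'] (v : ι' → A)
    (hv : ∀ i, v i ∈ 𝒜 1) (a : ℕ) (ai : ι' → ℕ) (hai : ∑ i, ai i • 1 = a • 1)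
    (h : ∏ i, v i ^ ai i ∈ 𝒜 (a • 1)) :
    Away.mk 𝒜 hf a (∏ i, v i ^ ai i) h =
      ∏ i, (Away.mk 𝒜 hf 1 (v i) (by simpa using hv i)) ^ ai i := by
  apply HomogeneousLocalization.val_injective
  have hval : ∀ y : Away 𝒜 f, y.val = algebraMap (Away 𝒜 f) (Localization.Away f) y := fun _ => rfl
  rw [hval (∏ i, _), map_prod]
  simp_rw [map_pow, ← hval, Away.val_mk]
  have hsum : ∑ i, ai i = a := by simpa using hai
  subst hsum
  simp_rw [Localization.mk_pow]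
  rw [Localization.mk_prod]
  congr 1
  apply Subtype.ext
  simp only [Submonoid.coe_finsetProd, SubmonoidClass.coe_pow, pow_one]
  rw [Finset.prod_pow_eq_pow_sum]

/-- The value of `awayToSection (a / f ^ k)` at a point. -/
theorem awayToSection_val {d : ℕ} {f : A} (hf : f ∈ 𝒜 d) (k : ℕ) (a : A) (ha : a ∈ 𝒜 (k • d))
    (x : Proj.basicOpen 𝒜 f) :
    ((toO 𝒜 ((Proj.awayToSection 𝒜 f).hom (Away.mk 𝒜 hf k a ha))).1 x).val =
      Localization.mk a ⟨f ^ k, notMem_pow_of_mem 𝒜 x.2 k⟩ := rfl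

section Main

variable {Y : Scheme.{u}} (U : Y.Opens) (hU : IsAffineOpen U)
  (ρ : Γ(Y, U) ⟶ CommRingCat.of (𝒜 0))

theorem base_mem (z : Proj 𝒜) :
    (Proj.toSpecZero 𝒜 ≫ Spec.map ρ ≫ hU.fromSpec).base z ∈ U := by
  have h : (Proj.toSpecZero 𝒜 ≫ Spec.map ρ ≫ hU.fromSpec).base z =
      hU.fromSpec.base ((Proj.toSpecZero 𝒜 ≫ Spec.map ρ).base z) := by
    rw [← Category.assoc, Scheme.Hom.comp_base]
    rfl
  rw [h]
  have : hU.fromSpec.base ((Proj.toSpecZero 𝒜 ≫ Spec.map ρ).base z) ∈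
      Set.range hU.fromSpec.base := ⟨_, rfl⟩
  rw [hU.range_fromSpec] at this
  exact this

variable {I : Type*} [Fintype I] [Nonempty I] (f : I → A) (hf : ∀ l, f l ∈ 𝒜 1)

theorem sec_secHom (l : I) (W : (Proj 𝒜).Opens) :
    sec (secHom 𝒜 (⟨f l, hf l⟩ : 𝒜 1)) W = globalOfOn 𝒜 (⟨f l, hf l⟩ : 𝒜 1) W := by
  have h := secHom_app 𝒜 (⟨f l, hf l⟩ : 𝒜 1) W 1
  rw [one_smul] at h
  exact h

include hf in
theorem smul_sec (j l : I) (h1 : f l ∈ 𝒜 (1 • 1)) :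
    ((Proj.awayToSection 𝒜 (f j)).hom (Away.mk 𝒜 (hf j) 1 (f l) h1)) •
      sec (secHom 𝒜 (⟨f j, hf j⟩ : 𝒜 1)) (Proj.basicOpen 𝒜 (f j)) =
    sec (secHom 𝒜 (⟨f l, hf l⟩ : 𝒜 1)) (Proj.basicOpen 𝒜 (f j)) := by
  rw [sec_secHom, sec_secHom]
  refine sectN_ext' 𝒜 _ _ fun x => ?_
  have h2 := smul_val 𝒜 (n := ((1 : ℕ) : ℤ))
    (show GrTwist.O (𝒜 := 𝒜) (op (Proj.basicOpen 𝒜 (f j))) from
      (Proj.awayToSection 𝒜 (f j)).hom (Away.mk 𝒜 (hf j) 1 (f l) h1))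
    (globalOfOn 𝒜 (⟨f j, hf j⟩ : 𝒜 1) (Proj.basicOpen 𝒜 (f j))) x
  refine h2.trans ?_
  have h3 := awayToSection_val 𝒜 (hf j) 1 (f l) h1 x
  have h4 : (((globalOfOn 𝒜 (⟨f j, hf j⟩ : 𝒜 1) (Proj.basicOpen 𝒜 (f j))).1 x :
      GrTwist.twistAt 𝒜 ((1 : ℕ) : ℤ) x.1) : GrTwist.Loc 𝒜 x.1) =
      Localization.mk (f j) ⟨1, one_notMem 𝒜 x.1⟩ := rfl
  have h5 : (((globalOfOn 𝒜 (⟨f l, hf l⟩ : 𝒜 1) (Proj.basicOpen 𝒜 (f j))).1 x :
      GrTwist.twistAt 𝒜 ((1 : ℕ) : ℤ) x.1) : GrTwist.Loc 𝒜 x.1) =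
      Localization.mk (f l) ⟨1, one_notMem 𝒜 x.1⟩ := rfl
  rw [h4, h5]
  change ((toO 𝒜 ((Proj.awayToSection 𝒜 (f j)).hom (Away.mk 𝒜 (hf j) 1 (f l) h1))).1 x).val * _ = _
  rw [h3, Localization.mk_mul, Localization.mk_eq_mk_iff, Localization.r_iff_exists]
  refine ⟨1, ?_⟩
  simp only [OneMemClass.coe_one, one_mul, Submonoid.coe_mul, mul_one, pow_one]
  ring

theorem awayToSection_rho {d : ℕ} {F : A} (hF : F ∈ 𝒜 d) (r : Γ(Y, U))
    (h0 : ((ρ.hom r : 𝒜 0) : A) ∈ 𝒜 (0 • d))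
    (hle : Proj.basicOpen 𝒜 F ≤ (Proj.toSpecZero 𝒜 ≫ Spec.map ρ ≫ hU.fromSpec) ⁻¹ᵁ U) :
    (Proj.awayToSection 𝒜 F).hom (Away.mk 𝒜 hF 0 ((ρ.hom r : 𝒜 0) : A) h0) =
      ((Proj.toSpecZero 𝒜 ≫ Spec.map ρ ≫ hU.fromSpec).appLE U (Proj.basicOpen 𝒜 F) hle).hom r := by
  refine O_ext' 𝒜 (toO 𝒜 _) (toO 𝒜 _) fun x => ?_
  rw [awayToSection_val 𝒜 hF 0 _ h0 x]
  have h1 := val_appLE 𝒜 (Proj.toSpecZero 𝒜 ≫ Spec.map ρ ≫ hU.fromSpec) U (Proj.basicOpen 𝒜 F) hle r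
    x.1 x.2
  have h2 := val_structure 𝒜 U hU ρ r x.1 (hle x.2)
  refine Eq.trans ?_ (h1.trans h2).symm
  rw [← Localization.mk_one_eq_algebraMap]
  congr 1
  apply Subtype.ext
  exact pow_zero F

include hf in
/-- **`O(1)` on `Proj 𝒜` is very ample relative to some `P^n_Y`.** -/
theorem isRelVeryAmplePn_proj (hρ : Function.Surjective ρ.hom)
    (hadj : Algebra.adjoin (𝒜 0) (Set.range f) = ⊤)
    (hcov : ∀ x : ProjectiveSpectrum 𝒜, ∃ l, f l ∉ x.asHomogeneousIdeal) :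
    RelAmple.IsRelVeryAmplePn (Proj.toSpecZero 𝒜 ≫ Spec.map ρ ≫ hU.fromSpec)
      (GrTwist.twist 𝒜 ((1 : ℕ) : ℤ)) := by
  have hcov1 : ∀ x : ProjectiveSpectrum 𝒜, ∃ g ∈ 𝒜 1, g ∉ x.asHomogeneousIdeal := fun x => by
    obtain ⟨l, hl⟩ := hcov x
    exact ⟨f l, hf l, hl⟩
  have hle : ∀ j : I, Proj.basicOpen 𝒜 (f j) ≤
      (Proj.toSpecZero 𝒜 ≫ Spec.map ρ ≫ hU.fromSpec) ⁻¹ᵁ U := fun j z _ => base_mem 𝒜 U hU ρ z
  refine Groth.Agent.Lib.helper12.VAmple4.isRelVeryAmplePn_of_sections'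
    (Proj.toSpecZero 𝒜 ≫ Spec.map ρ ≫ hU.fromSpec) (T := I)
    (fun l => secHom 𝒜 (⟨f l, hf l⟩ : 𝒜 1)) (fun _ => True) (fun _ => U)
    (fun j => Proj.basicOpen 𝒜 (f j))
    (fun j _ => genLocus_secHom 𝒜 one_pos (⟨f j, hf j⟩ : 𝒜 1) hcov1) (fun _ _ => hU)
    (fun j _ => Proj.isAffineOpen_basicOpen 𝒜 (f j) (hf j) one_pos) (fun j _ => hle j) ?_ ?_
  · intro j _
    have hβ : Function.Surjective (Proj.awayToSection 𝒜 (f j)).hom :=
      (ConcreteCategory.bijective_of_isIso (Proj.basicOpenIsoAway 𝒜 (f j) (hf j) one_pos).hom).2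
    have h11 : ∀ l, f l ∈ 𝒜 (1 • 1) := fun l => by simpa using hf l
    have hG : CohB1.genLocus (GrTwist.twist 𝒜 ((1 : ℕ) : ℤ)) (secHom 𝒜 (⟨f j, hf j⟩ : 𝒜 1)) =
        Proj.basicOpen 𝒜 (f j) := genLocus_secHom 𝒜 one_pos (⟨f j, hf j⟩ : 𝒜 1) hcov1
    set T := Subring.closure
      (Set.range ((Proj.toSpecZero 𝒜 ≫ Spec.map ρ ≫ hU.fromSpec).appLE U
          (Proj.basicOpen 𝒜 (f j)) (hle j)).hom ∪
        Set.range (fun l => ratio (secHom 𝒜 (⟨f j, hf j⟩ : 𝒜 1)) (secHom 𝒜 (⟨f l, hf l⟩ : 𝒜 1))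
          (Proj.basicOpen 𝒜 (f j)) hG.ge)) with hT
    -- the two kinds of generators
    have hβ1 : ∀ (r0 : 𝒜 0) (h0 : (r0 : A) ∈ 𝒜 (0 • 1)),
        (Proj.awayToSection 𝒜 (f j)).hom (Away.mk 𝒜 (hf j) 0 (r0 : A) h0) ∈ T := by
      intro r0 h0
      obtain ⟨r, rfl⟩ := hρ r0
      rw [awayToSection_rho 𝒜 U hU ρ (hf j) r h0 (hle j)]
      exact Subring.subset_closure (Or.inl ⟨r, rfl⟩)
    have hβ2 : ∀ l, (Proj.awayToSection 𝒜 (f j)).hom (Away.mk 𝒜 (hf j) 1 (f l) (h11 l)) ∈ T := by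
      intro l
      have e := eq_ratio (secHom 𝒜 (⟨f j, hf j⟩ : 𝒜 1)) (secHom 𝒜 (⟨f l, hf l⟩ : 𝒜 1))
        (Proj.basicOpen 𝒜 (f j)) hG.ge _ (smul_sec 𝒜 f hf j l (h11 l))
      rw [e]
      exact Subring.subset_closure (Or.inr ⟨l, rfl⟩)
    rw [eq_top_iff]
    rintro b -
    obtain ⟨x, rfl⟩ := hβ b
    have hs := Away.span_mk_prod_pow_eq_top (𝒜 := 𝒜) (hf j) f hadj (fun _ => 1) hf
    have hx : x ∈ Submodule.span (𝒜 0) { (Away.mk 𝒜 (hf j) a (∏ i, f i ^ ai i)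
        (hai ▸ SetLike.prod_pow_mem_graded _ _ _ _ fun i _ ↦ hf i) : Away 𝒜 (f j)) |
          (a : ℕ) (ai : I → ℕ) (hai : ∑ i, ai i • 1 = a • 1) } := by
      rw [hs]
      trivial
    induction hx using Submodule.span_induction with
    | mem y hy =>
      obtain ⟨a, ai, hai, rfl⟩ := hy
      rw [away_mk_prod_pow 𝒜 (hf j) f hf a ai hai, map_prod]
      refine Subring.prod_mem _ fun i _ => ?_
      rw [map_pow]
      exact Subring.pow_mem _ (hβ2 i) _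
    | zero =>
      rw [map_zero]
      exact Subring.zero_mem _
    | add y z _ _ hy hz =>
      rw [map_add]
      exact Subring.add_mem _ hy hz
    | smul r0 y _ hy =>
      have e : r0 • y = Away.mk 𝒜 (hf j) 0 (r0 : A) (by simp) * y := by
        rw [Algebra.smul_def]
        congr 1
        apply HomogeneousLocalization.val_injective
        rw [Away.val_mk, HomogeneousLocalization.algebraMap_eq]
        change Localization.mk (r0 : A) _ = _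
        congr 1
        apply Subtype.ext
        exact (pow_zero (f j)).symm
      rw [e, map_mul]
      exact Subring.mul_mem _ (hβ1 r0 _) hy
  · intro x
    obtain ⟨l, hl⟩ := hcov x
    exact ⟨l, trivial, (ProjectiveSpectrum.mem_basicOpen 𝒜 (f l) x).mpr hl⟩

end Main

end Groth.Agent.Lib.helper28.ProjPnAbs
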