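import Groth.Agent.Lib.Helper28.RelTwistCanon
import Groth.Agent.Lib.Helper28.RelTwistFree
import Groth.Agent.Lib.Helper28.SymLineProj

/-!
# The canonical map `L ⟶ p_* O_{P(L)}(1)` is an isomorphism for `L` invertible (helper28)

* `isIso_of_bijective_basis`: a morphism of modules bijective on a basis of opens is an iso.
* `exists_affine_rankOne_le`: an invertible module is free of rank one on a basis of affine opens.
* `pullbackInvIso`: for an isomorphism `p`, `(p⁻¹)^* ≅ p_*`.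
* `isIso_canon`: for `L` invertible and `P(L) = Proj(Sym L)`, every `φ : L ⟶ p_* O(1)` reading
  `j(x) / 1` on the charts is an isomorphism.
-/

set_option autoImplicit false
set_option linter.style.haveILetI false
universe u
open CategoryTheory CategoryTheory.Limits AlgebraicGeometry TopologicalSpace Opposite
open Scheme.Modules

namespace Groth.Agent.Lib.helper28.CanonIso

open Groth.Agent.Lib.helper2 Groth.Agent.Lib.helper28.RelTwistCanon
  Groth.Agent.Lib.helper28.RelTwistChart Groth.Agent.Lib.helper28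

theorem isIso_of_bijective_basis {X : Scheme.{u}} {M N : X.Modules} (φ : M ⟶ N) {ι : Type*}
    (B : ι → X.Opens) (hB : Opens.IsBasis (Set.range B))
    (h : ∀ i, Function.Bijective (φ.app (B i))) : IsIso φ := by
  let ψ : ModSec.sheaf M ⟶ ModSec.sheaf N := ⟨φ.mapPresheaf⟩
  have hψ : IsIso ψ := by
    refine TopCat.Sheaf.isIso_iff_isIso_basis (B := B) hB ?_
    intro i
    exact (ConcreteCategory.isIso_iff_bijective _).mpr (h i)
  have h2 : IsIso ((TopCat.Sheaf.forget _ _).map ψ) := inferInstance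
  have h3 : IsIso ((Scheme.Modules.toPresheaf X).map φ) := h2
  exact isIso_of_reflects_iso φ (Scheme.Modules.toPresheaf X)

theorem exists_affine_rankOne_le {X : Scheme.{u}} (L : X.Modules) (hL : PicF.IsInvertible L)
    (x : X) (W : X.Opens) (hxW : x ∈ W) :
    ∃ V : X.AffineZariskiSite, x ∈ V.1 ∧ V.1 ≤ W ∧
      Nonempty (Γ(L, V.1) ≃ₗ[Γ(X, V.1)] (Fin 1 → Γ(X, V.1))) := by
  obtain ⟨U, hxU, ⟨iso⟩⟩ :=
    (Groth.Agent.Lib.helper16.FLF.isInvertible_iff_isFinLocFreeOfRank_one L).mp hL x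
  obtain ⟨V, hV, hxV, hVU⟩ := Opens.isBasis_iff_nbhd.mp X.isBasis_affineOpens
    (show x ∈ U ⊓ W from ⟨hxU, hxW⟩)
  obtain ⟨iso'⟩ := Groth.Agent.Lib.helper16.FLF.restrict_iso_freeMod_of_le L
    (hVU.trans inf_le_left) 1 iso
  exact ⟨⟨V, hV⟩, hxV, hVU.trans inf_le_right,
    Groth.Agent.Lib.helper16.FLF.sections_of_restrict_iso_freeMod L hV 1 iso'⟩

/-- Direct image along an isomorphism is an equivalence. -/
noncomputable def pushEquiv {X Y : Scheme.{u}} (p : X ⟶ Y) [IsIso p] : X.Modules ≌ Y.Modules :=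
  CategoryTheory.Equivalence.mk (pushforward p) (pushforward (inv p))
    ((pushforwardId X).symm ≪≫ pushforwardCongr (IsIso.hom_inv_id p).symm ≪≫
      (pushforwardComp p (inv p)).symm)
    (pushforwardComp (inv p) p ≪≫ pushforwardCongr (IsIso.inv_hom_id p) ≪≫ pushforwardId Y)

/-- Inverse image along the inverse of an isomorphism is direct image along it. -/
noncomputable def pullbackInvIso {X Y : Scheme.{u}} (p : X ⟶ Y) [IsIso p] :
    Scheme.Modules.pullback (inv p) ≅ pushforward p :=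
  Adjunction.leftAdjointUniq (pullbackPushforwardAdjunction (inv p)) (pushEquiv p).toAdjunction

theorem exists_gen_bijective' {R M : Type*} [CommRing R] [AddCommGroup M] [Module R M]
    (e : M ≃ₗ[R] (Fin 1 → R)) :
    ∃ g : M, Function.Bijective (fun a : R => a • g) ∧
      Function.Bijective (Polynomial.eval₂RingHom (algebraMap R (SymmetricAlgebra R M))
        (SymmetricAlgebra.ι R M g)) := by
  let b : Module.Basis (Fin 1) R M := Module.Basis.ofEquivFun e
  refine ⟨b default, ?_, ?_⟩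
  · let F : M ≃ₗ[R] R := b.equivFun.trans (LinearEquiv.funUnique (Fin 1) R R)
    have hFG : ∀ a : R, F (a • b default) = a := by
      intro a
      rw [_root_.map_smul]
      change a • (b.equivFun (b default) default) = a
      rw [Module.Basis.equivFun_self, if_pos rfl, smul_eq_mul, mul_one]
    constructor
    · intro a a' h
      have := congrArg F h
      rwa [hFG, hFG] at this
    · intro m
      refine ⟨F m, F.injective ?_⟩
      rw [hFG]
  · let Φ : Polynomial R ≃ₐ[R] SymmetricAlgebra R M :=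
      (MvPolynomial.uniqueAlgEquiv R (Fin 1)).symm.trans (SymmetricAlgebra.equivMvPolynomial b).symm
    have : Polynomial.eval₂RingHom (algebraMap R (SymmetricAlgebra R M))
        (SymmetricAlgebra.ι R M (b default)) = (Φ : Polynomial R →+* SymmetricAlgebra R M) := by
      apply Polynomial.ringHom_ext
      · intro a
        rw [Polynomial.coe_eval₂RingHom, Polynomial.eval₂_C]
        exact (Φ.commutes a).symm
      · rw [Polynomial.coe_eval₂RingHom, Polynomial.eval₂_X]
        change _ = (SymmetricAlgebra.equivMvPolynomial b).symm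
          ((MvPolynomial.uniqueAlgEquiv R (Fin 1)).symm Polynomial.X)
        rw [MvPolynomial.uniqueAlgEquiv_symm_apply, Polynomial.eval₂_X,
          SymmetricAlgebra.equivMvPolynomial_symm_X]
    rw [this]
    exact Φ.bijective

open Groth.Agent.Lib.helper28.SymLoc Groth.Agent.Lib.helper28.SymSheaf
  Groth.Agent.Lib.helper28.SymAlg

variable {X : Scheme.{u}} (L : X.Modules) [L.IsQuasicoherent]
  (𝒮L : RelProj.QCGrAlg X) (j : L ⟶ 𝒮L.toModule) (hj : RelProj.IsGrSymAlg L 𝒮L j)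

include hj in
/-- Over an affine open where `L` is free of rank one on `g`, `𝒮L(V)` is a polynomial ring in the
variable `j(g)` of degree one over `O(V)`. -/
theorem exists_poly' (V : X.AffineZariskiSite)
    (e : Γ(L, V.1) ≃ₗ[Γ(X, V.1)] (Fin 1 → Γ(X, V.1))) :
    ∃ g : Γ(L, V.1), Function.Bijective (fun a : Γ(X, V.1) => a • g) ∧
      (j.app V.1).hom g ∈ 𝒮L.deg V.1 V.2 1 ∧
      Function.Bijective (Polynomial.eval₂RingHom (𝒮L.str.app (op V.1)).hom
        ((j.app V.1).hom g)) := by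
  obtain ⟨g, hg1, hg⟩ := exists_gen_bijective' e
  refine ⟨g, hg1, hj.2 V.1 V.2 g, ?_⟩
  have : Polynomial.eval₂RingHom (𝒮L.str.app (op V.1)).hom ((j.app V.1).hom g) =
      (liftU L 𝒮L.toQCAlg j V.1).comp
        (Polynomial.eval₂RingHom (algebraMap Γ(X, V.1) (SymU L V.1))
          (SymmetricAlgebra.ι Γ(X, V.1) Γ(L, V.1) g)) := by
    apply Polynomial.ringHom_ext
    · intro a
      rw [RingHom.comp_apply]
      change Polynomial.eval₂ _ _ (Polynomial.C a) =
        liftU L 𝒮L.toQCAlg j V.1 (Polynomial.eval₂ _ _ (Polynomial.C a))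
      rw [Polynomial.eval₂_C, Polynomial.eval₂_C, liftU_algebraMap]
    · rw [RingHom.comp_apply]
      change Polynomial.eval₂ _ _ Polynomial.X =
        liftU L 𝒮L.toQCAlg j V.1 (Polynomial.eval₂ _ _ Polynomial.X)
      rw [Polynomial.eval₂_X, Polynomial.eval₂_X, liftU_ι]
  rw [this]
  exact (liftU_bijective L 𝒮L.toQCAlg j hj.1 V).comp hg

variable {PL : Scheme.{u}} (pL : PL ⟶ X)
  (chartL : ∀ (U : X.Opens) (hU : IsAffineOpen U),
    (((pL ⁻¹ᵁ U : PL.Opens) : Scheme.{u}) ≅ Proj (𝒮L.deg U hU)))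
  (hPL : RelProj.IsRelProj 𝒮L pL chartL)
  {O1 : PL.Modules}
  (lam : ∀ (U : X.Opens) (hU : IsAffineOpen U),
    O1 ⟶ (Scheme.Modules.pushforward (RelProj.emb pL chartL U hU)).obj
      (GrTwist.twist (𝒮L.deg U hU) 1))
  (hO1 : RelProj.IsRelTwist 𝒮L pL chartL 1 O1 lam)

include hj hO1 in
open Groth.Agent.Lib.helper28.GTwistFree Groth.Agent.Lib.helper28.LocalGen in
/-- For `L` invertible, the canonical map `L ⟶ p_* O_{P(L)}(1)` is an isomorphism. -/
theorem isIso_canon (hL : PicF.IsInvertible L) [IsIso pL]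
    (φ : L ⟶ (Scheme.Modules.pushforward pL).obj O1)
    (hφ : ∀ (U : X.Opens) (hU : IsAffineOpen U) (x : Γ(L, U)),
      IsCanon lam U hU ((j.app U) x) (pL ⁻¹ᵁ U) (φ.app U x)) : IsIso φ := by
  let ι := {V : X.AffineZariskiSite //
    Nonempty (Γ(L, V.1) ≃ₗ[Γ(X, V.1)] (Fin 1 → Γ(X, V.1)))}
  refine isIso_of_bijective_basis φ (fun V : ι => V.1.1) ?_ ?_
  · refine Opens.isBasis_iff_nbhd.mpr ?_
    intro W x hxW
    obtain ⟨V, hxV, hVW, hV⟩ := exists_affine_rankOne_le L hL x W hxW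
    exact ⟨V.1, ⟨⟨V, hV⟩, rfl⟩, hxV, hVW⟩
  · rintro ⟨V, ⟨e⟩⟩
    obtain ⟨g, hg1, hz, hpoly⟩ := exists_poly' L 𝒮L j hj V e
    change Function.Bijective (φ.app V.1)
    obtain ⟨z, hzdef⟩ : ∃ z : 𝒮L.presheaf.obj (op V.1), z = (j.app V.1).hom g := ⟨_, rfl⟩
    obtain ⟨t, htdef⟩ : ∃ t : Γ(O1, pL ⁻¹ᵁ V.1), t = φ.app V.1 g := ⟨_, rfl⟩
    rw [← hzdef] at hz hpoly
    have ht : IsCanon lam V.1 V.2 z (pL ⁻¹ᵁ V.1) t := by
      rw [hzdef, htdef]
      exact hφ V.1 V.2 g
    have hnot : ∀ y : ProjectiveSpectrum (𝒮L.deg V.1 V.2), z ∉ y.asHomogeneousIdeal :=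
      PolyGrade.notMem_of_poly (𝒮L.deg V.1 V.2) (𝒮L.str.app (op V.1)).hom z
        (𝒮L.str_mem V.1 V.2) hz hpoly.2
    have hW : (RelProj.emb pL chartL V.1 V.2 ⁻¹ᵁ (pL ⁻¹ᵁ V.1) : (Proj (𝒮L.deg V.1 V.2)).Opens) =
        ProjectiveSpectrum.basicOpen (𝒮L.deg V.1 V.2) z := by
      ext y
      constructor
      · intro _
        exact (ProjectiveSpectrum.mem_basicOpen _ _ _).mpr (hnot y)
      · intro _
        have : (RelProj.emb pL chartL V.1 V.2).base y ∈
            Set.range (RelProj.emb pL chartL V.1 V.2) := ⟨y, rfl⟩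
        rw [range_emb] at this
        exact this
    have hb : ∀ x : (RelProj.emb pL chartL V.1 V.2 ⁻¹ᵁ (pL ⁻¹ᵁ V.1) :
        (Proj (𝒮L.deg V.1 V.2)).Opens),
        ((⟨1, SetLike.GradedOne.one_mem⟩ : 𝒮L.deg V.1 V.2 0) : 𝒮L.presheaf.obj (op V.1)) ∉
          x.1.asHomogeneousIdeal := fun x hmem =>
      x.1.isPrime.ne_top ((Ideal.eq_top_iff_one _).mpr hmem)
    have hbij := RelTwistFree.bijective_smul_of_lam_eq lam hO1 V.1 V.2 (pL ⁻¹ᵁ V.1) le_rfl
      one_pos hz hW ⟨z, hz⟩ ⟨1, SetLike.GradedOne.one_mem⟩ (fun x => hnot x.1) hb (by simp) t (by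
        refine Groth.Agent.Lib.helper28.GTwistQCoh.sectN_ext _ _ _ fun x => ?_
        refine (ht x.1 x.2).trans ?_
        change _ = Localization.mk z ⟨1, hb x⟩
        rw [← Localization.mk_one_eq_algebraMap]
        rfl)
    have hp : Function.Bijective (pL.app V.1).hom :=
      (ConcreteCategory.isIso_iff_bijective (pL.app V.1)).mp inferInstance
    have hcomp : ∀ a : Γ(X, V.1), φ.app V.1 (a • g) = ((pL.app V.1).hom a • t : Γ(O1, pL ⁻¹ᵁ V.1)) := by
      intro a
      rw [Scheme.Modules.Hom.app_smul, htdef]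
      exact smul_pushforward pL O1 V.1 a _
    have hall : Function.Bijective (fun a : Γ(X, V.1) => φ.app V.1 (a • g)) := by
      have : (fun a : Γ(X, V.1) => φ.app V.1 (a • g)) =
          (fun r : Γ(PL, pL ⁻¹ᵁ V.1) => (r • t : Γ(O1, pL ⁻¹ᵁ V.1))) ∘ (pL.app V.1).hom :=
        funext hcomp
      rw [this]
      exact hbij.comp hp
    constructor
    · intro x y hxy
      obtain ⟨a, rfl⟩ := hg1.2 x
      obtain ⟨a', rfl⟩ := hg1.2 y
      exact congrArg (fun c => c • g) (hall.1 hxy)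
    · intro y
      obtain ⟨a, ha⟩ := hall.2 y
      exact ⟨a • g, ha⟩

end Groth.Agent.Lib.helper28.CanonIso
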