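import Groth.Agent.Lib.Helper28.TildeMul
import Groth.Agent.Lib.Helper28.TwistTensor2

/-!
# The pairing `M(k)~ ⊗ O(m) → M(k + m)~` on `Proj`
-/

set_option autoImplicit false
universe u

open CategoryTheory CategoryTheory.Limits AlgebraicGeometry Opposite TopologicalSpace TensorProduct
  MonoidalCategory

namespace Groth.Agent.Lib.helper28.TildeTwist

open Groth.Agent.Lib.helper28.GrFrac Groth.Agent.Lib.helper28.TwistSec
  Groth.Agent.Lib.helper28.TwistFree Groth.Agent.Lib.helper28.TildeQCoh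
  Groth.Agent.Lib.helper28.TildeMul

variable {R A : Type u} [CommRing R] [CommRing A] [Algebra R A] (𝒜 : ℕ → Submodule R A)
  [GradedAlgebra 𝒜]
variable {M : Type u} [AddCommGroup M] [Module R M] [Module A M] [IsScalarTower R A M]
  (ℳ : ℕ → Submodule R M) [SetLike.GradedSMul 𝒜 ℳ]

/-- Shortcut instances. -/
noncomputable instance (priority := high) sectModule (n : ℤ)
    (W : Opens (ProjectiveSpectrum.top 𝒜)) :
    Module (Twist.O (𝒜 := 𝒜) (op W)) (GrTilde.sect 𝒜 ℳ n (op W)) :=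
  Submodule.module (GrTilde.sect 𝒜 ℳ n (op W))

noncomputable instance (priority := high) sectSMul (n : ℤ)
    (W : Opens (ProjectiveSpectrum.top 𝒜)) :
    SMul (Twist.O (𝒜 := 𝒜) (op W)) (GrTilde.sect 𝒜 ℳ n (op W)) :=
  (sectModule 𝒜 ℳ n W).toSMul

theorem sect_ext' {n : ℤ} {W : Opens (ProjectiveSpectrum.top 𝒜)}
    (s t : GrTilde.sect 𝒜 ℳ n (op W))
    (h : ∀ x : W, ((s.1 x : GrTilde.tildeAt 𝒜 ℳ n x.1) : GrTilde.LocMod 𝒜 (M := M) x.1) =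
      (t.1 x : GrTilde.tildeAt 𝒜 ℳ n x.1)) : s = t := by
  apply Subtype.ext
  funext x
  exact Subtype.ext (h x)

theorem smul_val' {n : ℤ} {W : Opens (ProjectiveSpectrum.top 𝒜)} (c : Twist.O (𝒜 := 𝒜) (op W))
    (s : GrTilde.sect 𝒜 ℳ n (op W)) (x : W) :
    ((((c • s : GrTilde.sect 𝒜 ℳ n (op W))).1 x : GrTilde.tildeAt 𝒜 ℳ n x.1) :
      GrTilde.LocMod 𝒜 (M := M) x.1) =
      (c.1 x).val • ((s.1 x : GrTilde.tildeAt 𝒜 ℳ n x.1) : GrTilde.LocMod 𝒜 (M := M) x.1) :=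
  GrTilde.coe_smul_val n x.1 (c.1 x) (s.1 x)

/-- The product of a degree-`m` fraction of `A_x` and a degree-`k` fraction of `M_x` is a
degree-`(k + m)` fraction of `M_x`. -/
theorem smul_mem_tildeAt (k m : ℤ) (x : ProjectiveSpectrum 𝒜) {q : Twist.Loc 𝒜 x}
    {w : GrTilde.LocMod 𝒜 (M := M) x} (hq : q ∈ Twist.twistAt 𝒜 m x)
    (hw : w ∈ GrTilde.tildeAt 𝒜 ℳ k x) : q • w ∈ GrTilde.tildeAt 𝒜 ℳ (k + m) x := by
  obtain ⟨i, j, a, s, hs, hij, rfl⟩ :=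
    Groth.Agent.Lib.helper28.TwistMul.exists_fraction_of_mem 𝒜 m x q hq
  obtain ⟨i', j', z, s', hs', hij', rfl⟩ := exists_fraction_of_mem 𝒜 ℳ k x w hw
  have hss' : s.1 * s'.1 ∉ x.asHomogeneousIdeal := fun h =>
    (x.isPrime.mem_or_mem h).elim hs hs'
  rw [LocalizedModule.mk_smul_mk]
  refine mk_mem_tildeAt 𝒜 ℳ (k + m) x
    (⟨a.1 • z.1, SetLike.GradedSMul.smul_mem a.2 z.2⟩ : ℳ (i + i'))
    ⟨s.1 * s'.1, SetLike.mul_mem_graded s.2 s'.2⟩ hss' ?_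
  rcases hij with hij | ha
  · rcases hij' with hij' | hz
    · exact Or.inl (by push_cast; omega)
    · exact Or.inr (show a.1 • z.1 = 0 by rw [hz, smul_zero])
  · exact Or.inr (show a.1 • z.1 = 0 by rw [ha, zero_smul])

/-- Pointwise product of a section of `M(k)~` and a section of `O(m)`. -/
def smulFun (k m : ℤ) (U : Opens (ProjectiveSpectrum.top 𝒜)) (s : GrTilde.sect 𝒜 ℳ k (op U))
    (t : Twist.sectN (𝒜 := 𝒜) m (op U)) : GrTilde.sect 𝒜 ℳ (k + m) (op U) :=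
  ⟨fun x => ⟨(t.1 x).1 • (s.1 x).1, smul_mem_tildeAt 𝒜 ℳ k m x.1 (t.1 x).2 (s.1 x).2⟩, fun x => by
    obtain ⟨Va, ma, ia, i, j, z, g, nina, ca, wa⟩ := s.2 x
    obtain ⟨Vb, mb, ib, i', j', a', g', ninb, cb, wb⟩ := t.2 x
    have nin : ∀ y : (Va ⊓ Vb : Opens _), g'.1 * g.1 ∉ y.1.asHomogeneousIdeal := fun y h =>
      ((y.1.isPrime.mem_or_mem h).elim (ninb ⟨y.1, y.2.2⟩)) (nina ⟨y.1, y.2.1⟩)
    refine ⟨Va ⊓ Vb, ⟨ma, mb⟩, Opens.infLELeft _ _ ≫ ia, i' + i, j' + j,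
      ⟨a'.1 • z.1, SetLike.GradedSMul.smul_mem a'.2 z.2⟩,
      ⟨g'.1 * g.1, SetLike.mul_mem_graded g'.2 g.2⟩,
      nin, ?_, fun y => ?_⟩
    · rcases ca with ca | ca
      · rcases cb with cb | cb
        · exact Or.inl (by push_cast; omega)
        · exact Or.inr (show a'.1 • z.1 = 0 by rw [cb, zero_smul])
      · exact Or.inr (show a'.1 • z.1 = 0 by rw [ca, smul_zero])
    · have e1 := wa ⟨y.1, y.2.1⟩
      have e2 := wb ⟨y.1, y.2.2⟩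
      change ((t.1 ⟨y.1, _⟩).1 • (s.1 ⟨y.1, _⟩).1 : GrTilde.LocMod 𝒜 (M := M) y.1) = _
      refine (congrArg₂ (· • ·) e2 e1).trans ?_
      rw [LocalizedModule.mk_smul_mk]
      rfl⟩

theorem smulFun_val (k m : ℤ) (U : Opens (ProjectiveSpectrum.top 𝒜))
    (s : GrTilde.sect 𝒜 ℳ k (op U)) (t : Twist.sectN (𝒜 := 𝒜) m (op U)) (x : U) :
    (((smulFun 𝒜 ℳ k m U s t).1 x : GrTilde.tildeAt 𝒜 ℳ (k + m) x.1) :
      GrTilde.LocMod 𝒜 (M := M) x.1) =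
      ((t.1 x : Twist.twistAt 𝒜 m x.1) : Twist.Loc 𝒜 x.1) •
        ((s.1 x : GrTilde.tildeAt 𝒜 ℳ k x.1) : GrTilde.LocMod 𝒜 (M := M) x.1) := rfl

theorem smulFun_add_left (k m : ℤ) (U : Opens (ProjectiveSpectrum.top 𝒜))
    (s s' : GrTilde.sect 𝒜 ℳ k (op U)) (t : Twist.sectN (𝒜 := 𝒜) m (op U)) :
    smulFun 𝒜 ℳ k m U (s + s') t = smulFun 𝒜 ℳ k m U s t + smulFun 𝒜 ℳ k m U s' t :=
  sect_ext' 𝒜 ℳ _ _ fun x => by
    change (t.1 x).1 • ((s.1 x).1 + (s'.1 x).1) = (t.1 x).1 • (s.1 x).1 + (t.1 x).1 • (s'.1 x).1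
    exact smul_add _ _ _

theorem smulFun_add_right (k m : ℤ) (U : Opens (ProjectiveSpectrum.top 𝒜))
    (s : GrTilde.sect 𝒜 ℳ k (op U)) (t t' : Twist.sectN (𝒜 := 𝒜) m (op U)) :
    smulFun 𝒜 ℳ k m U s (t + t') = smulFun 𝒜 ℳ k m U s t + smulFun 𝒜 ℳ k m U s t' :=
  sect_ext' 𝒜 ℳ _ _ fun x => by
    change ((t.1 x).1 + (t'.1 x).1) • (s.1 x).1 = (t.1 x).1 • (s.1 x).1 + (t'.1 x).1 • (s.1 x).1
    exact add_smul _ _ _

theorem smulFun_smul_left (k m : ℤ) (U : Opens (ProjectiveSpectrum.top 𝒜))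
    (r : Twist.O (𝒜 := 𝒜) (op U)) (s : GrTilde.sect 𝒜 ℳ k (op U))
    (t : Twist.sectN (𝒜 := 𝒜) m (op U)) :
    smulFun 𝒜 ℳ k m U (r • s) t = r • smulFun 𝒜 ℳ k m U s t :=
  sect_ext' 𝒜 ℳ _ _ fun x => by
    rw [smulFun_val, smul_val', smul_val', smulFun_val, smul_comm]

theorem smulFun_smul_right (k m : ℤ) (U : Opens (ProjectiveSpectrum.top 𝒜))
    (r : Twist.O (𝒜 := 𝒜) (op U)) (s : GrTilde.sect 𝒜 ℳ k (op U))
    (t : Twist.sectN (𝒜 := 𝒜) m (op U)) :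
    smulFun 𝒜 ℳ k m U s (r • t) = r • smulFun 𝒜 ℳ k m U s t :=
  sect_ext' 𝒜 ℳ _ _ fun x => by
    rw [smulFun_val, TwistFree.smul_val, smul_val', smulFun_val, mul_smul]

noncomputable section

def pairHomApp (k m : ℤ) (U : ((Proj 𝒜).Opens)ᵒᵖ) :
    (CohB1.tensorPre (GrTilde.tilde 𝒜 ℳ k) (Twist.twist 𝒜 m)).obj U ⟶
      (CohB1.toPMod (GrTilde.tilde 𝒜 ℳ (k + m))).obj U :=
  ModuleCat.MonoidalCategory.tensorLift (M₁ := (CohB1.toPMod (GrTilde.tilde 𝒜 ℳ k)).obj U)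
    (M₂ := (CohB1.toPMod (Twist.twist 𝒜 m)).obj U)
    (fun s t => smulFun 𝒜 ℳ k m U.unop s t)
    (fun s s' t => smulFun_add_left 𝒜 ℳ k m U.unop s s' t)
    (fun r s t => smulFun_smul_left 𝒜 ℳ k m U.unop r s t)
    (fun s t t' => smulFun_add_right 𝒜 ℳ k m U.unop s t t')
    (fun r s t => smulFun_smul_right 𝒜 ℳ k m U.unop r s t)

lemma pairHomApp_tmul (k m : ℤ) (U : ((Proj 𝒜).Opens)ᵒᵖ)
    (s : (CohB1.toPMod (GrTilde.tilde 𝒜 ℳ k)).obj U) (t : (CohB1.toPMod (Twist.twist 𝒜 m)).obj U) :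
    (pairHomApp 𝒜 ℳ k m U).hom (s ⊗ₜ t) = smulFun 𝒜 ℳ k m U.unop s t := rfl

def pairHom (k m : ℤ) :
    (CohB1.tensorPre (GrTilde.tilde 𝒜 ℳ k) (Twist.twist 𝒜 m) : (Proj 𝒜).PresheafOfModules) ⟶
      (GrTilde.tilde 𝒜 ℳ (k + m)).val where
  app U := pairHomApp 𝒜 ℳ k m U
  naturality {U V} f := by
    refine ModuleCat.MonoidalCategory.tensor_ext (fun s t => ?_)
    rfl

end

/-- A bilinear pairing `M ⊗ N → K` with `N` generated by `un` and `- ⊗ un` inducing a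
bijection `M → K` is bijective. -/
theorem bijective_of_free_right {R M N K : Type*} [CommRing R] [AddCommGroup M] [Module R M]
    [AddCommGroup N] [Module R N] [AddCommGroup K] [Module R K] (P : M ⊗[R] N →ₗ[R] K)
    (un : N) (hn : Function.Surjective fun c : R => c • un)
    (hmul : Function.Bijective fun s : M => P (s ⊗ₜ[R] un)) : Function.Bijective P := by
  have key : ∀ z : M ⊗[R] N, ∃ s : M, z = s ⊗ₜ[R] un := by
    intro z
    induction z using TensorProduct.induction_on with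
    | zero => exact ⟨0, by rw [TensorProduct.zero_tmul]⟩
    | tmul s t =>
      obtain ⟨c, hc⟩ := hn t
      refine ⟨c • s, ?_⟩
      simp only at hc
      rw [← hc, TensorProduct.tmul_smul, TensorProduct.smul_tmul']
    | add z z' hz hz' =>
      obtain ⟨t, ht⟩ := hz
      obtain ⟨t', ht'⟩ := hz'
      exact ⟨t + t', by rw [ht, ht', TensorProduct.add_tmul]⟩
  constructor
  · intro z z' hzz
    obtain ⟨t, rfl⟩ := key z
    obtain ⟨t', rfl⟩ := key z'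
    have : t = t' := hmul.1 hzz
    rw [this]
  · intro k
    obtain ⟨t, ht⟩ := hmul.2 k
    exact ⟨t ⊗ₜ[R] un, ht⟩

noncomputable section

/-- Transport of a section of `M(n)~` along an equality `n = n'`. -/
def castSect {n n' : ℤ} (h : n = n') {U : Opens (ProjectiveSpectrum.top 𝒜)}
    (s : GrTilde.sect 𝒜 ℳ n (op U)) : GrTilde.sect 𝒜 ℳ n' (op U) := h ▸ s

theorem castSect_val {n n' : ℤ} (h : n = n') {U : Opens (ProjectiveSpectrum.top 𝒜)}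
    (s : GrTilde.sect 𝒜 ℳ n (op U)) (x : U) :
    (((castSect 𝒜 ℳ h s).1 x : GrTilde.tildeAt 𝒜 ℳ n' x.1) : GrTilde.LocMod 𝒜 (M := M) x.1) =
      ((s.1 x : GrTilde.tildeAt 𝒜 ℳ n x.1) : GrTilde.LocMod 𝒜 (M := M) x.1) := by
  subst h
  rfl

/-- Multiplication by a unit fraction `a / b` of degree `m` is a bijection
`M(k)~(V) → M(k+m)~(V)`. -/
theorem bijective_smulFun_fracSectN (k m : ℤ) (V : Opens (ProjectiveSpectrum.top 𝒜)) {i j : ℕ}
    (a : 𝒜 i) (b : 𝒜 j) (ha : ∀ x : V, a.1 ∉ x.1.asHomogeneousIdeal)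
    (hb : ∀ x : V, b.1 ∉ x.1.asHomogeneousIdeal) (hdeg : (i : ℤ) = j + m) :
    Function.Bijective (fun s : GrTilde.sect 𝒜 ℳ k (op V) =>
      smulFun 𝒜 ℳ k m V s (fracSectN 𝒜 m V a b hb hdeg)) := by
  have hu : ∀ x : V, IsUnit (Localization.mk a.1 ⟨b.1, hb x⟩ : Twist.Loc 𝒜 x.1) := fun x => by
    rw [Localization.mk_eq_mk', IsLocalization.AtPrime.isUnit_mk'_iff]
    exact ha x
  constructor
  · intro t t' htt
    refine sect_ext' 𝒜 ℳ _ _ fun x => ?_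
    have h1 := congrArg (fun s : GrTilde.sect 𝒜 ℳ (k + m) (op V) =>
      ((s.1 x : GrTilde.tildeAt 𝒜 ℳ (k + m) x.1) : GrTilde.LocMod 𝒜 (M := M) x.1)) htt
    simp only [smulFun_val, fracSectN_val] at h1
    exact (hu x).smul_left_cancel.mp h1
  · intro w
    have hdeg' : (j : ℤ) = i + (-m) := by omega
    have hcast : k + m + (-m) = k := by ring
    refine ⟨castSect 𝒜 ℳ hcast
      (smulFun 𝒜 ℳ (k + m) (-m) V w (fracSectN 𝒜 (-m) V b a ha hdeg')), ?_⟩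
    refine sect_ext' 𝒜 ℳ _ _ fun x => ?_
    rw [smulFun_val, castSect_val, smulFun_val, fracSectN_val, fracSectN_val, smul_smul,
      Localization.mk_mul]
    have : (Localization.mk (a.1 * b.1) (⟨b.1, hb x⟩ * ⟨a.1, ha x⟩) : Twist.Loc 𝒜 x.1) = 1 := by
      rw [show (1 : Twist.Loc 𝒜 x.1) = Localization.mk 1 1 from Localization.mk_one.symm,
        Localization.mk_eq_mk_iff, Localization.r_iff_exists]
      exact ⟨1, by simp [mul_comm]⟩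
    rw [this, one_smul]

/-- The pairing is bijective over `D₊(F)` when `O(m)` has a unit fraction there. -/
theorem pairHomApp_bijective_of_unit (k m : ℤ) {F : A} {e : ℕ} (he : 0 < e) (hF : F ∈ 𝒜 e)
    {i j : ℕ} (a : 𝒜 i) (b : 𝒜 j)
    (ha : ∀ x : ProjectiveSpectrum 𝒜, F ∉ x.asHomogeneousIdeal → a.1 ∉ x.asHomogeneousIdeal)
    (hb : ∀ x : ProjectiveSpectrum 𝒜, F ∉ x.asHomogeneousIdeal → b.1 ∉ x.asHomogeneousIdeal)
    (hdeg : (i : ℤ) = j + m) :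
    Function.Bijective (pairHomApp 𝒜 ℳ k m (op (Proj.basicOpen 𝒜 F))).hom := by
  let V : Opens (ProjectiveSpectrum.top 𝒜) := ProjectiveSpectrum.basicOpen 𝒜 F
  have hV : ∀ x : V, F ∉ x.1.asHomogeneousIdeal := fun x =>
    (ProjectiveSpectrum.mem_basicOpen 𝒜 F x.1).mp x.2
  have haV : ∀ x : V, a.1 ∉ x.1.asHomogeneousIdeal := fun x => ha x.1 (hV x)
  have hbV : ∀ x : V, b.1 ∉ x.1.asHomogeneousIdeal := fun x => hb x.1 (hV x)
  have bm := bijective_smul_fracSectN 𝒜 m he hF V rfl a b haV hbV hdeg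
  have bmul := bijective_smulFun_fracSectN 𝒜 ℳ k m V a b haV hbV hdeg
  let U₀ : ((Proj 𝒜).Opens)ᵒᵖ := op (Proj.basicOpen 𝒜 F)
  let M₁ := (CohB1.toPMod (GrTilde.tilde 𝒜 ℳ k)).obj U₀
  let M₂ := (CohB1.toPMod (Twist.twist 𝒜 m)).obj U₀
  let M₃ := (CohB1.toPMod (GrTilde.tilde 𝒜 ℳ (k + m))).obj U₀
  refine bijective_of_free_right (M := M₁) (N := M₂) (K := M₃)
    (pairHomApp 𝒜 ℳ k m U₀).hom (fracSectN 𝒜 m V a b hbV hdeg) ?_ ?_
  · exact bm.2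
  · exact bmul

theorem isIso_sheafify_pairHom {d : ℕ} (hd : 0 < d)
    (hcov : ∀ x : ProjectiveSpectrum 𝒜, ∃ g ∈ 𝒜 d, g ∉ x.asHomogeneousIdeal) (k c : ℤ) :
    IsIso ((CohB1.sheafifyMod (Proj 𝒜)).map (pairHom 𝒜 ℳ k (c * d))) := by
  refine Groth.Agent.Lib.helper2.TildeTensor.isIso_sheafify_map_of_bijective_on_basis
    (X := Proj 𝒜) (pairHom 𝒜 ℳ k (c * d)) (Groth.Agent.Lib.helper28.TwistTensor2.basisSet 𝒜 d)
    (Groth.Agent.Lib.helper28.TwistTensor2.isBasis_basisSet 𝒜 hcov) ?_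
  rintro _ ⟨g, h, e, hg, hh, rfl⟩
  have h1 : g ^ c.toNat ∈ 𝒜 (c.toNat * d) := by
    have := SetLike.pow_mem_graded c.toNat hg
    simpa [smul_eq_mul] using this
  have h2 : g ^ (-c).toNat ∈ 𝒜 ((-c).toNat * d) := by
    have := SetLike.pow_mem_graded (-c).toNat hg
    simpa [smul_eq_mul] using this
  have hgx : ∀ x : ProjectiveSpectrum 𝒜, g * h ∉ x.asHomogeneousIdeal →
      g ∉ x.asHomogeneousIdeal := fun x hx hmem => hx (Ideal.mul_mem_right _ _ hmem)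
  refine pairHomApp_bijective_of_unit 𝒜 ℳ k (c * d) (Nat.add_pos_left hd e)
    (SetLike.mul_mem_graded hg hh) ⟨_, h1⟩ ⟨_, h2⟩
    (fun x hx hmem => hgx x hx (x.isPrime.mem_of_pow_mem _ hmem))
    (fun x hx hmem => hgx x hx (x.isPrime.mem_of_pow_mem _ hmem)) ?_
  push_cast
  have : (c.toNat : ℤ) - ((-c).toNat : ℤ) = c := Int.toNat_sub_toNat_neg c
  linear_combination (d : ℤ) * this

/-- `M(k)~ ⊗ O(c d) ≅ M(k + c d)~` when `Proj` is covered by the `D₊(g)`, `g` of degree `d > 0`. -/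
def tildeTwistIso {d : ℕ} (hd : 0 < d)
    (hcov : ∀ x : ProjectiveSpectrum 𝒜, ∃ g ∈ 𝒜 d, g ∉ x.asHomogeneousIdeal) (k c : ℤ) :
    CohB1.tensorMod (GrTilde.tilde 𝒜 ℳ k) (Twist.twist 𝒜 (c * d)) ≅
      GrTilde.tilde 𝒜 ℳ (k + c * d) :=
  @asIso _ _ _ _ _ (isIso_sheafify_pairHom 𝒜 ℳ hd hcov k c) ≪≫
    (asIso (PresheafOfModules.sheafificationAdjunction.{u, u, u, u}
      (J := Opens.grothendieckTopology (Proj 𝒜)) (𝟙 (Proj 𝒜).ringCatSheaf.obj)).counit).app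
        (GrTilde.tilde 𝒜 ℳ (k + c * d))

end

end Groth.Agent.Lib.helper28.TildeTwist
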