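import Mathlib

set_option autoImplicit false
universe u

/-! Morphisms of sheaves of modules over a sheaf of rings on a topological space, tested on a
basis of opens (helper28). -/

namespace Groth.Agent.Lib.helper28.SheafModBasis

open CategoryTheory TopologicalSpace Opposite

variable {X : TopCat.{u}} {R : TopCat.Sheaf RingCat.{u} X}

theorem app_map {M N : SheafOfModules.{u} R} (a : M ⟶ N) {W D : Opens X} (h : D ≤ W)
    (s : M.val.obj (op W)) :
    a.val.app (op D) (M.val.map (homOfLE h).op s) =
      N.val.map (homOfLE h).op (a.val.app (op W) s) :=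
  PresheafOfModules.naturality_apply a.val (homOfLE h).op s

/-- Two morphisms agreeing on a basis of opens are equal. -/
theorem hom_ext_of_basis {M N : SheafOfModules.{u} R} (a b : M ⟶ N) (𝔅 : Set (Opens X))
    (h𝔅 : Opens.IsBasis 𝔅)
    (h : ∀ D ∈ 𝔅, ∀ s : M.val.obj (op D), a.val.app (op D) s = b.val.app (op D) s) : a = b := by
  apply SheafOfModules.hom_ext
  apply PresheafOfModules.hom_ext
  intro W
  ext s
  refine TopCat.Presheaf.IsSheaf.section_ext (F := N.val.presheaf) N.isSheaf (U := W) ?_
  intro x hx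
  obtain ⟨D, hD, hxD, hDW⟩ := Opens.isBasis_iff_nbhd.mp h𝔅 hx
  refine ⟨D, hDW, hxD, ?_⟩
  have h1 := app_map a hDW s
  have h2 := app_map b hDW s
  exact h1.symm.trans ((h D hD _).trans h2)

/-- A morphism surjective on sections over a basis of opens is an epimorphism. -/
theorem epi_of_surjective_on_basis {M N : SheafOfModules.{u} R} (v : M ⟶ N) (𝔅 : Set (Opens X))
    (h𝔅 : Opens.IsBasis 𝔅) (h : ∀ D ∈ 𝔅, Function.Surjective (v.val.app (op D))) : Epi v := by
  refine ⟨fun {P} a b hab => ?_⟩
  refine hom_ext_of_basis a b 𝔅 h𝔅 (fun D hD s => ?_)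
  obtain ⟨t, rfl⟩ := h D hD s
  have h1 : (v ≫ a).val.app (op D) = (v ≫ b).val.app (op D) := by rw [hab]
  exact congr($(h1) t)

/-- A morphism injective on sections over a basis of opens is a monomorphism. -/
theorem mono_of_injective_on_basis {M N : SheafOfModules.{u} R} (v : M ⟶ N) (𝔅 : Set (Opens X))
    (h𝔅 : Opens.IsBasis 𝔅) (h : ∀ D ∈ 𝔅, Function.Injective (v.val.app (op D))) : Mono v := by
  refine ⟨fun {P} a b hab => ?_⟩
  refine hom_ext_of_basis a b 𝔅 h𝔅 (fun D hD s => ?_)
  apply h D hD
  have h1 : (a ≫ v).val.app (op D) = (b ≫ v).val.app (op D) := by rw [hab]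
  exact congr($(h1) s)

end Groth.Agent.Lib.helper28.SheafModBasis
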