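import Mathlib

set_option autoImplicit false

/-! Functoriality of Mathlib's `SymmetricAlgebra` along semilinear maps, and its compatibility with
localization away from an element (helper28). -/

namespace Groth.Agent.Lib.helper28.SymLoc

open SymmetricAlgebra

section Map

variable {R R' R'' : Type*} [CommRing R] [CommRing R'] [CommRing R'']
  {M M' M'' : Type*} [AddCommGroup M] [AddCommGroup M'] [AddCommGroup M'']
  [Module R M] [Module R' M'] [Module R'' M'']

/-- Ring homomorphisms out of a symmetric algebra are determined on scalars and generators. -/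
theorem ringHom_ext {T : Type*} [Semiring T] (g₁ g₂ : SymmetricAlgebra R M →+* T)
    (h1 : ∀ a, g₁ (algebraMap R _ a) = g₂ (algebraMap R _ a))
    (h2 : ∀ m, g₁ (ι R M m) = g₂ (ι R M m)) : g₁ = g₂ := by
  refine RingHom.ext fun x => ?_
  induction x using SymmetricAlgebra.induction with
  | algebraMap r => exact h1 r
  | ι m => exact h2 m
  | mul a b ha hb => rw [map_mul, map_mul, ha, hb]
  | add a b ha hb => rw [map_add, map_add, ha, hb]

/-- The universal property of the symmetric algebra along a ring homomorphism `R → T`. -/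
noncomputable def liftRingHom {T : Type*} [CommRing T] (ρT : R →+* T) (g : M →+ T)
    (hg : ∀ a m, g (a • m) = ρT a * g m) : SymmetricAlgebra R M →+* T :=
  letI := ρT.toAlgebra
  let gl : M →ₗ[R] T :=
    { toFun := g
      map_add' := g.map_add
      map_smul' := fun a m => hg a m }
  ((SymmetricAlgebra.lift gl : SymmetricAlgebra R M →ₐ[R] T) : SymmetricAlgebra R M →+* T)

theorem liftRingHom_algebraMap {T : Type*} [CommRing T] (ρT : R →+* T) (g : M →+ T)
    (hg : ∀ a m, g (a • m) = ρT a * g m) (a : R) :
    liftRingHom ρT g hg (algebraMap R _ a) = ρT a := by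
  let _ := ρT.toAlgebra
  exact AlgHom.commutes _ a

theorem liftRingHom_ι {T : Type*} [CommRing T] (ρT : R →+* T) (g : M →+ T)
    (hg : ∀ a m, g (a • m) = ρT a * g m) (m : M) :
    liftRingHom ρT g hg (ι R M m) = g m := by
  let _ := ρT.toAlgebra
  exact SymmetricAlgebra.lift_ι_apply _ m

/-- The map of symmetric algebras induced by a semilinear map. -/
noncomputable def symMap (ρ : R →+* R') (f : M →+ M') (hf : ∀ a m, f (a • m) = ρ a • f m) :
    SymmetricAlgebra R M →+* SymmetricAlgebra R' M' :=
  liftRingHom ((algebraMap R' (SymmetricAlgebra R' M')).comp ρ)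
    ((ι R' M').toAddMonoidHom.comp f)
    (fun a m => by
      change ι R' M' (f (a • m)) = algebraMap R' _ (ρ a) * ι R' M' (f m)
      rw [hf, LinearMap.map_smul, Algebra.smul_def])

theorem symMap_algebraMap (ρ : R →+* R') (f : M →+ M') (hf : ∀ a m, f (a • m) = ρ a • f m)
    (a : R) : symMap ρ f hf (algebraMap R _ a) = algebraMap R' _ (ρ a) :=
  liftRingHom_algebraMap _ _ _ a

theorem symMap_ι (ρ : R →+* R') (f : M →+ M') (hf : ∀ a m, f (a • m) = ρ a • f m) (m : M) :
    symMap ρ f hf (ι R M m) = ι R' M' (f m) :=
  liftRingHom_ι _ _ _ m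

theorem symMap_id : symMap (RingHom.id R) (AddMonoidHom.id M) (fun _ _ => rfl) =
    RingHom.id (SymmetricAlgebra R M) :=
  ringHom_ext _ _ (fun a => by rw [symMap_algebraMap]; rfl) (fun m => by rw [symMap_ι]; rfl)

theorem symMap_comp (ρ : R →+* R') (f : M →+ M') (hf : ∀ a m, f (a • m) = ρ a • f m)
    (ρ' : R' →+* R'') (f' : M' →+ M'') (hf' : ∀ a m, f' (a • m) = ρ' a • f' m) :
    (symMap ρ' f' hf').comp (symMap ρ f hf) =
      symMap (ρ'.comp ρ) (f'.comp f) (fun a m => by
        change f' (f (a • m)) = ρ' (ρ a) • f' (f m)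
        rw [hf, hf']) :=
  ringHom_ext _ _
    (fun a => by
      rw [RingHom.comp_apply, symMap_algebraMap, symMap_algebraMap, symMap_algebraMap]; rfl)
    (fun m => by rw [RingHom.comp_apply, symMap_ι, symMap_ι, symMap_ι]; rfl)

end Map

section Loc

variable {R R' : Type*} [CommRing R] [CommRing R'] {M M' : Type*} [AddCommGroup M]
  [AddCommGroup M'] [Module R M] [Module R' M']
  (ρ : R →+* R') (f : M →+ M') (hf : ∀ a m, f (a • m) = ρ a • f m) (r : R)

/-- The symmetric algebra commutes with localization away from an element. -/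
theorem isLocalization_symMap
    (hR : letI := ρ.toAlgebra; IsLocalization.Away r R')
    (hM : letI := Module.compHom M' ρ
      IsLocalizedModule (Submonoid.powers r)
        ({ toFun := f, map_add' := f.map_add, map_smul' := fun a m => hf a m } : M →ₗ[R] M')) :
    letI := (symMap ρ f hf).toAlgebra
    IsLocalization.Away (algebraMap R (SymmetricAlgebra R M) r) (SymmetricAlgebra R' M') := by
  let algRR' : Algebra R R' := ρ.toAlgebra
  let modRM' : Module R M' := Module.compHom M' ρ
  have : IsScalarTower R R' M' := ⟨fun a b m => by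
    change (ρ a * b) • m = ρ a • (b • m)
    rw [mul_smul]⟩
  let fl : M →ₗ[R] M' :=
    { toFun := f, map_add' := f.map_add, map_smul' := fun a m => hf a m }
  have : IsLocalization.Away r R' := hR
  have : IsLocalizedModule (Submonoid.powers r) fl := hM
  let t : SymmetricAlgebra R M := algebraMap R (SymmetricAlgebra R M) r
  let L := Localization.Away t
  have hunit : IsUnit (algebraMap R L r) := by
    rw [IsScalarTower.algebraMap_apply R (SymmetricAlgebra R M) L]
    exact IsLocalization.Away.algebraMap_isUnit t
  let ρL : R' →+* L := IsLocalization.Away.lift r (g := algebraMap R L) hunit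
  have hρL : ∀ a, ρL (ρ a) = algebraMap R L a := fun a => IsLocalization.Away.lift_eq r hunit a
  let algR'L : Algebra R' L := ρL.toAlgebra
  have : IsScalarTower R R' L := IsScalarTower.of_algebraMap_eq (fun a => (hρL a).symm)
  let g : M →ₗ[R] L :=
    (IsScalarTower.toAlgHom R (SymmetricAlgebra R M) L).toLinearMap ∘ₗ ι R M
  have hu : ∀ x : Submonoid.powers r, IsUnit (algebraMap R (Module.End R L) x) := by
    rintro ⟨_, n, rfl⟩
    have h1 : IsUnit (algebraMap R L (r ^ n)) := by
      rw [map_pow]
      exact hunit.pow n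
    have h2 := h1.map (Algebra.lmul R L)
    rw [AlgHom.commutes] at h2
    exact h2
  let g'R : M' →ₗ[R] L := IsLocalizedModule.lift (Submonoid.powers r) fl g hu
  have hg'R : ∀ m, g'R (f m) = algebraMap (SymmetricAlgebra R M) L (ι R M m) := fun m =>
    IsLocalizedModule.lift_apply (Submonoid.powers r) fl g hu m
  let g' : M' →ₗ[R'] L := LinearMap.extendScalarsOfIsLocalization (Submonoid.powers r) R' g'R
  let φ : SymmetricAlgebra R' M' →ₐ[R'] L := SymmetricAlgebra.lift g'
  have hφι : ∀ m', φ (ι R' M' m') = g'R m' := fun m' => SymmetricAlgebra.lift_ι_apply g' m'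
  have hφalg : ∀ a, φ (algebraMap R' _ a) = ρL a := φ.commutes
  let σ := symMap ρ f hf
  have hρr : IsUnit (ρ r) := IsLocalization.Away.algebraMap_isUnit (S := R') r
  have hσt : IsUnit (σ t) := by
    change IsUnit (symMap ρ f hf (algebraMap R _ r))
    rw [symMap_algebraMap]
    exact hρr.map (algebraMap R' (SymmetricAlgebra R' M'))
  let ψ : L →+* SymmetricAlgebra R' M' := IsLocalization.Away.lift t (g := σ) hσt
  have hψ : ∀ x, ψ (algebraMap (SymmetricAlgebra R M) L x) = σ x :=
    fun x => IsLocalization.Away.lift_eq t hσt x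
  -- `φ ∘ σ` is the localization map
  have h1 : (φ : SymmetricAlgebra R' M' →+* L).comp σ = algebraMap (SymmetricAlgebra R M) L := by
    refine ringHom_ext _ _ (fun a => ?_) (fun m => ?_)
    · change φ (symMap ρ f hf (algebraMap R _ a)) = _
      rw [symMap_algebraMap, hφalg, hρL, IsScalarTower.algebraMap_apply R (SymmetricAlgebra R M) L]
    · change φ (symMap ρ f hf (ι R M m)) = _
      rw [symMap_ι, hφι, hg'R]
  -- `ψ ∘ ρL` is the structure map of `Sym R' M'`
  have h3 : ψ.comp ρL = algebraMap R' (SymmetricAlgebra R' M') := by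
    apply IsLocalization.ringHom_ext (Submonoid.powers r)
    ext a
    change ψ (ρL (ρ a)) = algebraMap R' _ (ρ a)
    rw [hρL, IsScalarTower.algebraMap_apply R (SymmetricAlgebra R M) L, hψ]
    exact symMap_algebraMap ρ f hf a
  have h2 : ψ.comp (φ : SymmetricAlgebra R' M' →+* L) = RingHom.id _ := by
    refine ringHom_ext _ _ (fun a => ?_) (fun m' => ?_)
    · change ψ (φ (algebraMap R' _ a)) = algebraMap R' _ a
      rw [hφalg]
      exact congrArg (fun k : R' →+* SymmetricAlgebra R' M' => k a) h3
    · change ψ (φ (ι R' M' m')) = ι R' M' m'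
      rw [hφι]
      obtain ⟨⟨m, ⟨_, n, rfl⟩⟩, hm⟩ := IsLocalizedModule.surj (Submonoid.powers r) fl m'
      have hm' : (r ^ n) • m' = f m := hm
      -- multiply by the unit `ρ r ^ n`
      have hU : IsUnit (algebraMap R' (SymmetricAlgebra R' M') (ρ (r ^ n))) := by
        rw [map_pow]
        exact (hρr.pow n).map _
      apply hU.mul_left_cancel
      have e1 : algebraMap R' (SymmetricAlgebra R' M') (ρ (r ^ n)) * ψ (g'R m') =
          ψ (g'R ((r ^ n) • m')) := by
        rw [LinearMap.map_smul, Algebra.smul_def, map_mul, ← hρL]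
        congr 1
        exact (congrArg (fun k : R' →+* SymmetricAlgebra R' M' => k (ρ (r ^ n))) h3).symm
      have e2 : algebraMap R' (SymmetricAlgebra R' M') (ρ (r ^ n)) * ι R' M' m' =
          ι R' M' ((r ^ n) • m') := by
        rw [← Algebra.smul_def, ← LinearMap.map_smul]
        rfl
      rw [e1, e2, hm', hg'R, hψ]
      exact symMap_ι ρ f hf m
  have h4 : (φ : SymmetricAlgebra R' M' →+* L).comp ψ = RingHom.id L := by
    apply IsLocalization.ringHom_ext (Submonoid.powers t)
    ext x
    change φ (ψ (algebraMap (SymmetricAlgebra R M) L x)) = algebraMap (SymmetricAlgebra R M) L x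
    rw [hψ]
    exact congrArg (fun k : SymmetricAlgebra R M →+* L => k x) h1
  let : Algebra (SymmetricAlgebra R M) (SymmetricAlgebra R' M') := (symMap ρ f hf).toAlgebra
  let e : L ≃ₐ[SymmetricAlgebra R M] SymmetricAlgebra R' M' :=
    { toFun := ψ
      invFun := φ
      left_inv := fun x => congrArg (fun k : L →+* L => k x) h4
      right_inv := fun x =>
        congrArg (fun k : SymmetricAlgebra R' M' →+* SymmetricAlgebra R' M' => k x) h2
      map_mul' := ψ.map_mul
      map_add' := ψ.map_add
      commutes' := fun x => hψ x }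
  exact IsLocalization.isLocalization_of_algEquiv (Submonoid.powers t) e

end Loc

end Groth.Agent.Lib.helper28.SymLoc
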