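import Mathlib

/-! Universal property of adic completions into complete rings, and density of the image of `of` (helper28). -/

namespace Groth.Agent.Lib.helper28

theorem exists_lift {R₀ S B : Type*} [CommRing R₀] [CommRing S] [CommRing B] [Algebra R₀ S]
    [Algebra R₀ B] (J : Ideal S) (K : Ideal B) [IsAdicComplete K B] (g : S →ₐ[R₀] B)
    (hg : J.map g ≤ K) :
    ∃ ĝ : AdicCompletion J S →ₐ[R₀] B, ∀ s, ĝ (AdicCompletion.of J S s) = g s := by
  have hpow : ∀ n, J ^ n ≤ (K ^ n).comap g := fun n => by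
    rw [← Ideal.map_le_iff_le_comap, Ideal.map_pow]
    exact Ideal.pow_right_mono hg n
  let gn : ∀ n, S ⧸ J ^ n →ₐ[R₀] B ⧸ K ^ n := fun n => Ideal.quotientMapₐ (K ^ n) g (hpow n)
  let fn : ∀ n, AdicCompletion J S →ₐ[R₀] B ⧸ K ^ n := fun n =>
    (gn n).comp ((AdicCompletion.evalₐ J n).restrictScalars R₀)
  have hcompat : ∀ {m n : ℕ} (hle : m ≤ n),
      (Ideal.Quotient.factorₐ R₀ (Ideal.pow_le_pow_right hle)).comp (fn n) = fn m := by
    intro m n hle
    ext x
    obtain ⟨a, rfl⟩ := AdicCompletion.mk_surjective J S x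
    simp only [fn, gn, AlgHom.comp_apply, AlgHom.restrictScalars_apply, AdicCompletion.evalₐ_mk]
    change Ideal.Quotient.mk (K ^ m) (g (a n)) = Ideal.Quotient.mk (K ^ m) (g (a m))
    rw [Ideal.Quotient.eq, ← map_sub]
    apply hpow m
    have h := a.2 hle
    rw [SModEq.sub_mem, smul_eq_mul, Ideal.mul_top] at h
    have h2 : a n - a m = -(a m - a n) := by ring
    rw [h2]
    exact (J ^ m).neg_mem h
  let L : AdicCompletion J S →ₐ[R₀] AdicCompletion K B := AdicCompletion.liftAlgHom K fn hcompat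
  let e : B ≃ₐ[B] AdicCompletion K B := AdicCompletion.ofAlgEquiv K
  refine ⟨((e.symm.toAlgHom.restrictScalars R₀)).comp L, fun s => ?_⟩
  change e.symm (L (AdicCompletion.of J S s)) = g s
  rw [AlgEquiv.symm_apply_eq]
  apply AdicCompletion.ext_evalₐ
  intro n
  change AdicCompletion.evalₐ K n (AdicCompletion.liftAlgHom K fn hcompat _) =
    AdicCompletion.evalₐ K n (AdicCompletion.of K B (g s))
  rw [AdicCompletion.evalₐ_liftAlgHom, AdicCompletion.evalₐ_of]
  simp only [fn, gn, AlgHom.comp_apply, AlgHom.restrictScalars_apply, AdicCompletion.evalₐ_of]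
  rfl

theorem eq_of_eq_on_of {S B : Type*} [CommRing S] [CommRing B] (J : Ideal S) (hJ : J.FG)
    (K : Ideal B) [IsHausdorff K B] (Ψ₁ Ψ₂ : AdicCompletion J S →+* B)
    (h₁ : J.map (Ψ₁.comp (algebraMap S (AdicCompletion J S))) ≤ K)
    (h₂ : J.map (Ψ₂.comp (algebraMap S (AdicCompletion J S))) ≤ K)
    (heq : ∀ s, Ψ₁ (AdicCompletion.of J S s) = Ψ₂ (AdicCompletion.of J S s)) : Ψ₁ = Ψ₂ := by
  have key : ∀ (Ψ : AdicCompletion J S →+* B),
      J.map (Ψ.comp (algebraMap S (AdicCompletion J S))) ≤ K → ∀ (n : ℕ)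
      (y : AdicCompletion J S), y ∈ (J ^ n • ⊤ : Submodule S (AdicCompletion J S)) →
      Ψ y ∈ K ^ n := by
    intro Ψ hΨ n y hy
    refine Submodule.smul_induction_on hy (fun c hc z _ => ?_) (fun y z hy hz => ?_)
    · rw [Algebra.smul_def, map_mul]
      apply Ideal.mul_mem_right
      have h1 : Ψ (algebraMap S (AdicCompletion J S) c) ∈
          (J ^ n).map (Ψ.comp (algebraMap S (AdicCompletion J S))) :=
        Ideal.mem_map_of_mem (Ψ.comp (algebraMap S (AdicCompletion J S))) hc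
      rw [Ideal.map_pow] at h1
      exact Ideal.pow_right_mono hΨ n h1
    · rw [map_add]
      exact (K ^ n).add_mem hy hz
  ext x
  rw [← sub_eq_zero]
  apply IsHausdorff.haus' (I := K)
  intro n
  rw [SModEq.zero, smul_eq_mul, Ideal.mul_top]
  obtain ⟨s, hs⟩ := Submodule.Quotient.mk_surjective _ (AdicCompletion.eval J S n x)
  have hy : x - AdicCompletion.of J S s ∈ (J ^ n • ⊤ : Submodule S (AdicCompletion J S)) := by
    rw [AdicCompletion.pow_smul_top_eq_ker_eval hJ, LinearMap.mem_ker, map_sub, ← hs,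
      AdicCompletion.eval_of]
    exact sub_self _
  have e : Ψ₁ x - Ψ₂ x = Ψ₁ (x - AdicCompletion.of J S s) - Ψ₂ (x - AdicCompletion.of J S s) := by
    rw [map_sub, map_sub, heq s]
    ring
  rw [e]
  exact (K ^ n).sub_mem (key Ψ₁ h₁ n _ hy) (key Ψ₂ h₂ n _ hy)

end Groth.Agent.Lib.helper28
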