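import Groth.Agent.Lib.Helper28.RelTwistChart

/-!
# The adjunct, for inverse image / direct image, of a morphism `L ⟶ j_* T` along an open immersion
(helper28)
-/

set_option autoImplicit false
universe u
open CategoryTheory CategoryTheory.Limits AlgebraicGeometry TopologicalSpace Opposite
open Scheme.Modules

namespace Groth.Agent.Lib.helper28.AdjOpenImm

open Groth.Agent.Lib.helper28.RelTwistChart

variable {X Z : Scheme.{u}} (j : Z ⟶ X) [IsOpenImmersion j] {L : X.Modules} {T : Z.Modules}
  (lam : L ⟶ (Scheme.Modules.pushforward j).obj T)

theorem homEquiv_symm_eq :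
    ((Scheme.Modules.pullbackPushforwardAdjunction j).homEquiv L T).symm lam =
      (Adjunction.leftAdjointUniq (Scheme.Modules.pullbackPushforwardAdjunction j)
        (restrictAdjunction j)).hom.app L ≫ adjHom j lam := by
  rw [Adjunction.homEquiv_counit]
  unfold adjHom
  rw [← Adjunction.leftAdjointUniq_hom_app_counit
    (Scheme.Modules.pullbackPushforwardAdjunction j) (restrictAdjunction j) T]
  rw [← Category.assoc, ← Category.assoc]
  congr 1
  exact (Adjunction.leftAdjointUniq (Scheme.Modules.pullbackPushforwardAdjunction j)
    (restrictAdjunction j)).hom.naturality lam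

/-- If `lam : L ⟶ j_* T` is bijective on sections over the opens inside the range of the open
immersion `j`, its adjunct `j^* L ⟶ T` is an isomorphism. -/
theorem isIso_homEquiv_symm (h : ∀ V : Z.Opens, Function.Bijective (lam.app (j ''ᵁ V))) :
    IsIso (((Scheme.Modules.pullbackPushforwardAdjunction j).homEquiv L T).symm lam) := by
  rw [homEquiv_symm_eq]
  have := isIso_adjHom j lam h
  infer_instance

end Groth.Agent.Lib.helper28.AdjOpenImm
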