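import Groth.Agent.Lib.Helper28.QCAlgHomAffine
import Groth.Prelude.Def_AffAlg

set_option autoImplicit false

universe u

/-! Fibre products of schemes affine over `S` correspond to pushouts of their direct-image
algebras in the category of quasi-coherent `O_S`-algebras (helper28). -/

namespace Groth.Agent.Lib.helper28.AffAlgPushout

open CategoryTheory CategoryTheory.Limits AlgebraicGeometry TopologicalSpace Opposite

section app

variable {X Y S : Scheme.{u}} (f : X ⟶ S) (g : Y ⟶ S)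

theorem algHom_app (h : Y ⟶ X) (w : h ≫ f = g) (U : S.Opens) :
    (AffAlg.algHom f g h w).app (op U) =
      h.appLE (f ⁻¹ᵁ U) (g ⁻¹ᵁ U) (by subst w; exact le_rfl) := by
  subst w
  rw [Scheme.Hom.appLE]
  simp [AffAlg.algHom]
  rfl

end app

variable {X X' Y Z S : Scheme.{u}} (g : Y ⟶ S) [IsAffineHom g]
  (f : X ⟶ Y) [IsAffineHom f] (f' : X' ⟶ Y) [IsAffineHom f'] (p : Z ⟶ X) (p' : Z ⟶ X')
  [IsAffineHom p] (hZ : IsPullback p p' f f')

include hZ in
theorem w' : p' ≫ f' ≫ g = p ≫ f ≫ g :=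
  (Category.assoc p' f' g).symm.trans ((congrArg (· ≫ g) hZ.w.symm).trans (Category.assoc p f g))

/-- `A(Y) ⟶ A(X)` -/
noncomputable def aYX : RelSpec.QCAlg.directImage g ⟶ RelSpec.QCAlg.directImage (f ≫ g) :=
  ⟨AffAlg.algHom g (f ≫ g) f rfl, AffAlg.algHom_comm g (f ≫ g) f rfl⟩

/-- `A(Y) ⟶ A(X')` -/
noncomputable def aYX' : RelSpec.QCAlg.directImage g ⟶ RelSpec.QCAlg.directImage (f' ≫ g) :=
  ⟨AffAlg.algHom g (f' ≫ g) f' rfl, AffAlg.algHom_comm g (f' ≫ g) f' rfl⟩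

/-- `A(X) ⟶ A(Z)` -/
noncomputable def aXZ :
    RelSpec.QCAlg.directImage (f ≫ g) ⟶ RelSpec.QCAlg.directImage (p ≫ f ≫ g) :=
  ⟨AffAlg.algHom (f ≫ g) (p ≫ f ≫ g) p rfl, AffAlg.algHom_comm (f ≫ g) (p ≫ f ≫ g) p rfl⟩

/-- `A(X') ⟶ A(Z)` -/
noncomputable def aX'Z :
    RelSpec.QCAlg.directImage (f' ≫ g) ⟶ RelSpec.QCAlg.directImage (p ≫ f ≫ g) :=
  ⟨AffAlg.algHom (f' ≫ g) (p ≫ f ≫ g) p' (w' g f f' p p' hZ),
    AffAlg.algHom_comm (f' ≫ g) (p ≫ f ≫ g) p' (w' g f f' p p' hZ)⟩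

include hZ in
/-- The pushout of rings over an affine open of `S`. -/
theorem isPushout_app (U : S.AffineZariskiSite) :
    IsPushout ((aYX g f).hom.app (op U.1)) ((aYX' g f').hom.app (op U.1))
      ((aXZ g f p).hom.app (op U.1)) ((aX'Z g f f' p p' hZ).hom.app (op U.1)) := by
  have hUS : IsAffineOpen (g ⁻¹ᵁ U.1) := U.2.preimage g
  have hUX : IsAffineOpen (f ⁻¹ᵁ (g ⁻¹ᵁ U.1)) := hUS.preimage f
  have hUT : IsAffineOpen (f' ⁻¹ᵁ (g ⁻¹ᵁ U.1)) := hUS.preimage f'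
  have hUY : (p ≫ f ≫ g) ⁻¹ᵁ U.1 = p ⁻¹ᵁ (f ⁻¹ᵁ (g ⁻¹ᵁ U.1)) ⊓ p' ⁻¹ᵁ (f' ⁻¹ᵁ (g ⁻¹ᵁ U.1)) := by
    have e : p' ⁻¹ᵁ (f' ⁻¹ᵁ (g ⁻¹ᵁ U.1)) = p ⁻¹ᵁ (f ⁻¹ᵁ (g ⁻¹ᵁ U.1)) := by
      change (p' ≫ f') ⁻¹ᵁ (g ⁻¹ᵁ U.1) = (p ≫ f) ⁻¹ᵁ (g ⁻¹ᵁ U.1)
      rw [hZ.w]
    rw [e, inf_idem]
    rfl
  have key := (isIso_pushoutSection_iff hZ (US := g ⁻¹ᵁ U.1) (UT := f' ⁻¹ᵁ (g ⁻¹ᵁ U.1))
    (UX := f ⁻¹ᵁ (g ⁻¹ᵁ U.1)) le_rfl le_rfl hUY).mp
    (isIso_pushoutSection_of_isAffineOpen hZ le_rfl le_rfl hUY hUS hUT hUX)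
  have e1 : (aYX g f).hom.app (op U.1) =
      f.appLE (g ⁻¹ᵁ U.1) (f ⁻¹ᵁ (g ⁻¹ᵁ U.1)) le_rfl := algHom_app g (f ≫ g) f rfl U.1
  have e2 : (aYX' g f').hom.app (op U.1) =
      f'.appLE (g ⁻¹ᵁ U.1) (f' ⁻¹ᵁ (g ⁻¹ᵁ U.1)) le_rfl := algHom_app g (f' ≫ g) f' rfl U.1
  have e3 : (aXZ g f p).hom.app (op U.1) = p.appLE (f ⁻¹ᵁ (g ⁻¹ᵁ U.1)) ((p ≫ f ≫ g) ⁻¹ᵁ U.1)
      (by rw [hUY]; exact inf_le_left) := algHom_app (f ≫ g) (p ≫ f ≫ g) p rfl U.1
  have e4 : (aX'Z g f f' p p' hZ).hom.app (op U.1) =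
      p'.appLE (f' ⁻¹ᵁ (g ⁻¹ᵁ U.1)) ((p ≫ f ≫ g) ⁻¹ᵁ U.1)
        (by rw [hUY]; exact inf_le_right) :=
    algHom_app (f' ≫ g) (p ≫ f ≫ g) p' (w' g f f' p p' hZ) U.1
  rw [e1, e2, e3, e4]
  exact key

section generic

variable {T : Scheme.{u}} {A₀ A₁ A₂ A₃ : RelSpec.QCAlg T}
  (a : A₀ ⟶ A₁) (b : A₀ ⟶ A₂) (c : A₁ ⟶ A₃) (d : A₂ ⟶ A₃)

/-- A square of quasi-coherent algebras which is a pushout of rings over every affine open is a
pushout of quasi-coherent algebras. -/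
theorem isPushout_of_affine
    (h : ∀ U : T.AffineZariskiSite, IsPushout (a.hom.app (op U.1)) (b.hom.app (op U.1))
      (c.hom.app (op U.1)) (d.hom.app (op U.1))) : IsPushout a b c d := by
  have hcomm : a ≫ c = b ≫ d := by
    apply QCAlgHomAffine.hom_ext_of_affine
    intro U x
    exact congrArg (fun r => r.hom x) (h U).w
  have hdesc : ∀ s : PushoutCocone a b, ∃ β : A₃ ⟶ s.pt, ∀ (U : T.AffineZariskiSite),
      β.hom.app (op U.1) = (h U).desc (s.inl.hom.app (op U.1)) (s.inr.hom.app (op U.1))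
        (congrArg (fun r : A₀ ⟶ s.pt => r.hom.app (op U.1)) s.condition) := by
    intro s
    have hc : ∀ U : T.AffineZariskiSite, a.hom.app (op U.1) ≫ s.inl.hom.app (op U.1) =
        b.hom.app (op U.1) ≫ s.inr.hom.app (op U.1) := fun U =>
      congrArg (fun r : A₀ ⟶ s.pt => r.hom.app (op U.1)) s.condition
    obtain ⟨β, hβ⟩ := QCAlgHomAffine.exists_hom_of_affine (A := A₃) (B := s.pt)
      (fun U => ((h U).desc (s.inl.hom.app (op U.1)) (s.inr.hom.app (op U.1)) (hc U)).hom)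
      (by
        intro U V hVU x
        have key : A₃.presheaf.map (homOfLE (Scheme.AffineZariskiSite.toOpens_mono hVU)).op ≫
            (h V).desc (s.inl.hom.app (op V.1)) (s.inr.hom.app (op V.1)) (hc V) =
            (h U).desc (s.inl.hom.app (op U.1)) (s.inr.hom.app (op U.1)) (hc U) ≫
              s.pt.presheaf.map (homOfLE (Scheme.AffineZariskiSite.toOpens_mono hVU)).op := by
          apply (h U).hom_ext
          · rw [← Category.assoc, ← c.hom.naturality, Category.assoc, (h V).inl_desc,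
              ← Category.assoc, (h U).inl_desc, s.inl.hom.naturality]
          · rw [← Category.assoc, ← d.hom.naturality, Category.assoc, (h V).inr_desc,
              ← Category.assoc, (h U).inr_desc, s.inr.hom.naturality]
        exact congrArg (fun r => r.hom x) key)
      (by
        intro U r
        have e1 : A₃.str.app (op U.1) = A₁.str.app (op U.1) ≫ c.hom.app (op U.1) :=
          (congrArg (fun k => k.app (op U.1)) c.comm).symm
        have e2 : A₁.str.app (op U.1) ≫ s.inl.hom.app (op U.1) = s.pt.str.app (op U.1) :=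
          congrArg (fun k => k.app (op U.1)) s.inl.comm
        have key : A₃.str.app (op U.1) ≫
            (h U).desc (s.inl.hom.app (op U.1)) (s.inr.hom.app (op U.1)) (hc U) =
            s.pt.str.app (op U.1) := by
          rw [e1, Category.assoc, (h U).inl_desc, e2]
        exact congrArg (fun k => k.hom r) key)
    refine ⟨β, fun U => ?_⟩
    apply CommRingCat.hom_ext
    exact RingHom.ext (hβ U)
  choose desc hd using hdesc
  refine ⟨⟨hcomm⟩, ⟨PushoutCocone.IsColimit.mk hcomm desc ?_ ?_ ?_⟩⟩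
  · intro s
    apply QCAlgHomAffine.hom_ext_of_affine
    intro U x
    have : c.hom.app (op U.1) ≫ (desc s).hom.app (op U.1) = s.inl.hom.app (op U.1) := by
      rw [hd s U, (h U).inl_desc]
    exact congrArg (fun r => r.hom x) this
  · intro s
    apply QCAlgHomAffine.hom_ext_of_affine
    intro U x
    have : d.hom.app (op U.1) ≫ (desc s).hom.app (op U.1) = s.inr.hom.app (op U.1) := by
      rw [hd s U, (h U).inr_desc]
    exact congrArg (fun r => r.hom x) this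
  · intro s m hl hr
    apply QCAlgHomAffine.hom_ext_of_affine
    intro U x
    have : m.hom.app (op U.1) = (desc s).hom.app (op U.1) := by
      apply (h U).hom_ext
      · rw [hd s U, (h U).inl_desc]
        exact congrArg (fun r : A₁ ⟶ s.pt => r.hom.app (op U.1)) hl
      · rw [hd s U, (h U).inr_desc]
        exact congrArg (fun r : A₂ ⟶ s.pt => r.hom.app (op U.1)) hr
    exact congrArg (fun r => r.hom x) this

end generic

include hZ in
/-- The direct-image algebra of a fibre product of schemes affine over `S` is the pushout. -/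
theorem isPushout_directImage :
    IsPushout (aYX g f) (aYX' g f') (aXZ g f p) (aX'Z g f f' p p' hZ) :=
  isPushout_of_affine _ _ _ _ fun U => isPushout_app g f f' p p' hZ U

end Groth.Agent.Lib.helper28.AffAlgPushout
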