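import Mathlib

/-!
# `A_(f) ⊗_R R' = (A ⊗_R R')_(f ⊗ 1)`: homogeneous localization commutes with base change (helper28)

`SemiBC φ α β θ`: the additive map `θ : B → B'` exhibits `B'` (an `R'`-module through `β`) as the
base change along `φ : R → R'` of `B` (an `R`-module through `α`), in universal-property form.

`semiBC_awayMap`: for graded rings `𝒜`, `𝒜'` over `R`, `R'` (structure maps in degree zero), a
graded homomorphism `ψ : 𝒜 → 𝒜'` which is such a base change, and `f ∈ 𝒜_d`, the map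
`A_(f) → A'_(ψ f)` is again a base change.
-/

set_option autoImplicit false
universe u

namespace Groth.Agent.Lib.helper28.AwayBaseChange

open HomogeneousLocalization DirectSum

section Def

variable {R R' B B' : Type u} [CommRing R] [CommRing R'] [CommRing B] [CommRing B']

/-- `θ : B → B'` is a base change along `φ : R → R'` (module structures through `α`, `β`). -/
structure SemiBC (φ : R →+* R') (α : R →+* B) (β : R' →+* B') (θ : B →+ B') : Prop where
  lift : ∀ (T : Type u) [AddCommGroup T] [Module R' T] (h : B →+ T),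
    (∀ r x, h (α r * x) = φ r • h x) →
      ∃! H : B' →+ T, (∀ r' x', H (β r' * x') = r' • H x') ∧ ∀ x, H (θ x) = h x

end Def

section Away

variable {R R' A A' : Type u} [CommRing R] [CommRing R'] [CommRing A] [CommRing A']
  {σ τ : Type u} [SetLike σ A] [AddSubgroupClass σ A] [SetLike τ A'] [AddSubgroupClass τ A']
  (𝒜 : ℕ → σ) [GradedRing 𝒜]

variable {d : ℕ} {f : A} (hf : f ∈ 𝒜 d)

/-- `x ↦ x_{nd} / f^n`, as an additive map `A → A_(f)`. -/
noncomputable def awayMk (n : ℕ) : A →+ Away 𝒜 f where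
  toFun x := Away.mk 𝒜 hf n (decompose 𝒜 x (n • d)) (SetLike.coe_mem _)
  map_zero' := by
    apply HomogeneousLocalization.val_injective
    rw [Away.val_mk, decompose_zero, DirectSum.zero_apply, ZeroMemClass.coe_zero,
      Localization.mk_zero, HomogeneousLocalization.val_zero]
  map_add' x y := by
    apply HomogeneousLocalization.val_injective
    rw [HomogeneousLocalization.val_add, Away.val_mk, Away.val_mk, Away.val_mk, decompose_add,
      DirectSum.add_apply, AddMemClass.coe_add, Localization.add_mk_self]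

theorem val_awayMk (n : ℕ) (x : A) :
    (awayMk 𝒜 hf n x).val =
      Localization.mk (decompose 𝒜 x (n • d) : A) ⟨f ^ n, by use n⟩ :=
  Away.val_mk 𝒜 n hf _ _

theorem awayMk_of_mem (n : ℕ) {x : A} (hx : x ∈ 𝒜 (n • d)) :
    awayMk 𝒜 hf n x = Away.mk 𝒜 hf n x hx := by
  apply HomogeneousLocalization.val_injective
  rw [val_awayMk, Away.val_mk, decompose_of_mem_same 𝒜 hx]

theorem awayMk_surjective (q : Away 𝒜 f) : ∃ (n : ℕ) (x : A), awayMk 𝒜 hf n x = q := by
  obtain ⟨n, x, hx, rfl⟩ := Away.mk_surjective 𝒜 hf q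
  exact ⟨n, x, awayMk_of_mem 𝒜 hf n hx⟩

theorem awayMk_zero_mul (n : ℕ) {a : A} (ha : a ∈ 𝒜 0) (x : A) :
    awayMk 𝒜 hf n (a * x) = fromZeroRingHom 𝒜 (Submonoid.powers f) ⟨a, ha⟩ * awayMk 𝒜 hf n x := by
  apply HomogeneousLocalization.val_injective
  rw [HomogeneousLocalization.val_mul, val_awayMk, val_awayMk,
    coe_decompose_mul_of_left_mem_zero 𝒜 ha]
  change _ = Localization.mk a 1 * _
  rw [Localization.mk_mul, one_mul]

theorem awayMk_succ (n : ℕ) (x : A) : awayMk 𝒜 hf (n + 1) (f * x) = awayMk 𝒜 hf n x := by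
  apply HomogeneousLocalization.val_injective
  rw [val_awayMk, val_awayMk]
  have h1 : (decompose 𝒜 (f * x) ((n + 1) • d) : A) = f * (decompose 𝒜 x (n • d) : A) := by
    rw [succ_nsmul']
    exact coe_decompose_mul_add_of_left_mem 𝒜 hf
  rw [h1, Localization.mk_eq_mk_iff]
  refine Localization.r_of_eq ?_
  change f ^ n * (f * _) = f ^ (n + 1) * _
  ring

theorem awayMk_add_pow (n k : ℕ) (x : A) :
    awayMk 𝒜 hf (n + k) (f ^ k * x) = awayMk 𝒜 hf n x := by
  induction k generalizing x with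
  | zero => rw [pow_zero, one_mul]; rfl
  | succ k ih =>
    rw [pow_succ', mul_assoc, ← add_assoc, awayMk_succ, ih]

theorem awayMk_decompose (n : ℕ) (x : A) :
    awayMk 𝒜 hf n (decompose 𝒜 x (n • d) : A) = awayMk 𝒜 hf n x := by
  apply HomogeneousLocalization.val_injective
  rw [val_awayMk, val_awayMk, decompose_of_mem_same 𝒜 (SetLike.coe_mem _)]

variable (𝒜' : ℕ → τ) [GradedRing 𝒜'] (ψ : 𝒜 →+*ᵍ 𝒜')

theorem map_awayMk (n : ℕ) (x : A) :
    Away.map ψ f (awayMk 𝒜 hf n x) = awayMk 𝒜' (ψ.map_mem hf) n (ψ x) := by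
  change Away.map ψ f (Away.mk 𝒜 hf n _ _) = Away.mk 𝒜' (ψ.map_mem hf) n _ _
  rw [Away.map_mk]
  apply HomogeneousLocalization.val_injective
  rw [Away.val_mk, Away.val_mk, GradedRingHom.map_directSumDecompose]
  rfl

end Away

section Main

variable {R R' A A' : Type u} [CommRing R] [CommRing R'] [CommRing A] [CommRing A']
  {σ τ : Type u} [SetLike σ A] [AddSubgroupClass σ A] [SetLike τ A'] [AddSubgroupClass τ A']
  (𝒜 : ℕ → σ) [GradedRing 𝒜] (𝒜' : ℕ → τ) [GradedRing 𝒜']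
  (φ : R →+* R') (α : R →+* A) (β : R' →+* A') (ψ : 𝒜 →+*ᵍ 𝒜')
  (hα : ∀ r, α r ∈ 𝒜 0) (hβ : ∀ r', β r' ∈ 𝒜' 0)

/-- A ring homomorphism landing in degree zero, as a homomorphism into the degree-zero subring. -/
def zeroHom : R →+* 𝒜 0 where
  toFun r := ⟨α r, hα r⟩
  map_one' := Subtype.ext (map_one α)
  map_mul' a b := Subtype.ext (map_mul α a b)
  map_zero' := Subtype.ext (map_zero α)
  map_add' a b := Subtype.ext (map_add α a b)

/-- The structure map `R → A_(f)`. -/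
def awayStr (f : A) : R →+* Away 𝒜 f :=
  (fromZeroRingHom 𝒜 (Submonoid.powers f)).comp (zeroHom 𝒜 α hα)

variable (hBC : SemiBC φ α β (ψ : A →+* A').toAddMonoidHom)

include hβ hBC in
/-- Extensions of maps supported in one degree are supported in that degree. -/
theorem lift_supported (T : Type u) [AddCommGroup T] [Module R' T] (m : ℕ) (h : A →+ T)
    (hlin : ∀ r x, h (α r * x) = φ r • h x)
    (hsupp : ∀ x, h (decompose 𝒜 x m : A) = h x)
    (H : A' →+ T) (hH1 : ∀ r' x', H (β r' * x') = r' • H x') (hH2 : ∀ x, H (ψ x) = h x)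
    (x' : A') : H (decompose 𝒜' x' m : A') = H x' := by
  obtain ⟨H₀, -, huniq⟩ := hBC.lift T h hlin
  have e1 : H = H₀ := huniq H ⟨hH1, hH2⟩
  have e2 : H.comp (GradedRing.proj 𝒜' m) = H₀ := by
    refine huniq _ ⟨fun r' y' => ?_, fun x => ?_⟩
    · change H (decompose 𝒜' (β r' * y') m : A') = r' • H (decompose 𝒜' y' m : A')
      rw [coe_decompose_mul_of_left_mem_zero 𝒜' (hβ r'), hH1]
    · change H (decompose 𝒜' (ψ x) m : A') = h x
      rw [← GradedRingHom.map_directSumDecompose, hH2, hsupp]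
  have := congrArg (fun k : A' →+ T => k x') (e2.trans e1.symm)
  exact this

variable {d : ℕ} {f : A} (hf : f ∈ 𝒜 d)

include hα hβ hBC hf in
/-- **Homogeneous localization commutes with base change.** -/
theorem semiBC_awayMap :
    SemiBC φ (awayStr 𝒜 α hα f) (awayStr 𝒜' β hβ (ψ f))
      (Away.map ψ f : Away 𝒜 f →+* Away 𝒜' (ψ f)).toAddMonoidHom := by
  have hf' : ψ f ∈ 𝒜' d := ψ.map_mem hf
  constructor
  intro T _ _ h hlin
  let g : ℕ → (A →+ T) := fun n => h.comp (awayMk 𝒜 hf n)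
  have hg_lin : ∀ n r x, g n (α r * x) = φ r • g n x := by
    intro n r x
    change h (awayMk 𝒜 hf n (α r * x)) = _
    rw [awayMk_zero_mul 𝒜 hf n (hα r)]
    exact hlin r _
  have hg_supp : ∀ n x, g n (decompose 𝒜 x (n • d) : A) = g n x := fun n x =>
    congrArg h (awayMk_decompose 𝒜 hf n x)
  have hex := fun n => hBC.lift T (g n) (hg_lin n)
  choose G hG hGuniq using hex
  have hGsupp : ∀ n x', G n (decompose 𝒜' x' (n • d) : A') = G n x' := fun n x' =>
    lift_supported 𝒜 𝒜' φ α β ψ hβ hBC T (n • d) (g n) (hg_lin n) (hg_supp n) (G n)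
      (hG n).1 (hG n).2 x'
  have hrel : ∀ n x', G (n + 1) (ψ f * x') = G n x' := by
    intro n x'
    have : (G (n + 1)).comp (AddMonoidHom.mulLeft (ψ f)) = G n := by
      refine hGuniq n _ ⟨fun r' y' => ?_, fun x => ?_⟩
      · change G (n + 1) (ψ f * (β r' * y')) = r' • G (n + 1) (ψ f * y')
        rw [mul_left_comm, (hG (n + 1)).1]
      · change G (n + 1) (ψ f * ψ x) = g n x
        rw [← map_mul]
        exact ((hG (n + 1)).2 (f * x)).trans (congrArg h (awayMk_succ 𝒜 hf n x))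
    exact congrArg (fun k : A' →+ T => k x') this
  have hrelk : ∀ n k x', G (n + k) (ψ f ^ k * x') = G n x' := by
    intro n k
    induction k with
    | zero => intro x'; rw [pow_zero, one_mul]; rfl
    | succ k ih =>
      intro x'
      rw [pow_succ', mul_assoc, ← add_assoc, hrel, ih]
  have core : ∀ (n₁ n₂ : ℕ) (y₁ y₂ : A') (k : ℕ),
      ψ f ^ k * (ψ f ^ n₂ * y₁) = ψ f ^ k * (ψ f ^ n₁ * y₂) → G n₁ y₁ = G n₂ y₂ := by
    intro n₁ n₂ y₁ y₂ k hk
    rw [← hrelk n₁ (k + n₂) y₁, ← hrelk n₂ (k + n₁) y₂, pow_add, pow_add, mul_assoc, mul_assoc, hk]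
    exact congrArg (fun m => G m _) (by omega)
  let F : NumDenSameDeg 𝒜' (Submonoid.powers (ψ f)) → T := fun c =>
    G (Classical.choose ((Submonoid.mem_powers_iff _ _).mp c.den_mem)) (c.num : A')
  have hF : ∀ c₁ c₂ : NumDenSameDeg 𝒜' (Submonoid.powers (ψ f)),
      NumDenSameDeg.embedding 𝒜' _ c₁ = NumDenSameDeg.embedding 𝒜' _ c₂ → F c₁ = F c₂ := by
    intro c₁ c₂ h12
    have s₁ := Classical.choose_spec ((Submonoid.mem_powers_iff _ _).mp c₁.den_mem)
    have s₂ := Classical.choose_spec ((Submonoid.mem_powers_iff _ _).mp c₂.den_mem)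
    change Localization.mk (c₁.num : A') ⟨c₁.den, c₁.den_mem⟩ =
      Localization.mk (c₂.num : A') ⟨c₂.den, c₂.den_mem⟩ at h12
    rw [Localization.mk_eq_mk_iff, Localization.r_iff_exists] at h12
    obtain ⟨⟨_, k, rfl⟩, hk⟩ := h12
    refine core _ _ _ _ k ?_
    rw [s₁, s₂]
    exact hk
  let h' : Away 𝒜' (ψ f) → T := Quotient.lift F hF
  have hkey : ∀ n x', h' (awayMk 𝒜' hf' n x') = G n x' := by
    intro n x'
    have hm : (ψ f) ^ n ∈ Submonoid.powers (ψ f) := ⟨n, rfl⟩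
    have s := Classical.choose_spec ((Submonoid.mem_powers_iff _ _).mp hm)
    refine Eq.trans ?_ (hGsupp n x')
    change G (Classical.choose ((Submonoid.mem_powers_iff _ _).mp hm))
      (decompose 𝒜' x' (n • d) : A') = _
    refine core _ _ _ _ 0 ?_
    rw [s]
  have hcommon : ∀ q₁ q₂ : Away 𝒜' (ψ f), ∃ (n : ℕ) (x₁ x₂ : A'),
      awayMk 𝒜' hf' n x₁ = q₁ ∧ awayMk 𝒜' hf' n x₂ = q₂ := by
    intro q₁ q₂
    obtain ⟨n₁, x₁, rfl⟩ := awayMk_surjective 𝒜' hf' q₁
    obtain ⟨n₂, x₂, rfl⟩ := awayMk_surjective 𝒜' hf' q₂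
    refine ⟨n₁ + n₂, ψ f ^ n₂ * x₁, ψ f ^ n₁ * x₂, awayMk_add_pow 𝒜' hf' n₁ n₂ x₁, ?_⟩
    rw [Nat.add_comm n₁ n₂]
    exact awayMk_add_pow 𝒜' hf' n₂ n₁ x₂
  have hadd : ∀ q₁ q₂, h' (q₁ + q₂) = h' q₁ + h' q₂ := by
    intro q₁ q₂
    obtain ⟨n, x₁, x₂, rfl, rfl⟩ := hcommon q₁ q₂
    rw [← map_add, hkey, hkey, hkey, map_add]
  have hstr : ∀ (r' : R') n x', awayStr 𝒜' β hβ (ψ f) r' * awayMk 𝒜' hf' n x' =
      awayMk 𝒜' hf' n (β r' * x') := fun r' n x' =>
    (awayMk_zero_mul 𝒜' hf' n (hβ r') x').symm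
  have hstr0 : ∀ (r : R) n x, awayStr 𝒜 α hα f r * awayMk 𝒜 hf n x =
      awayMk 𝒜 hf n (α r * x) := fun r n x =>
    (awayMk_zero_mul 𝒜 hf n (hα r) x).symm
  refine ⟨AddMonoidHom.mk' h' hadd, ⟨fun r' q => ?_, fun q => ?_⟩, fun H' hH' => ?_⟩
  · obtain ⟨n, x', rfl⟩ := awayMk_surjective 𝒜' hf' q
    rw [AddMonoidHom.mk'_apply, hstr, hkey, hkey, (hG n).1]
  · obtain ⟨n, x, rfl⟩ := awayMk_surjective 𝒜 hf q
    change h' (Away.map ψ f (awayMk 𝒜 hf n x)) = h _
    rw [map_awayMk, hkey]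
    exact (hG n).2 x
  · ext q
    obtain ⟨n, x', rfl⟩ := awayMk_surjective 𝒜' hf' q
    rw [AddMonoidHom.mk'_apply, hkey]
    have : H'.comp (awayMk 𝒜' hf' n) = G n := by
      refine hGuniq n _ ⟨fun r' y' => ?_, fun x => ?_⟩
      · change H' (awayMk 𝒜' hf' n (β r' * y')) = r' • H' (awayMk 𝒜' hf' n y')
        rw [← hstr, hH'.1]
      · change H' (awayMk 𝒜' hf' n (ψ x)) = h (awayMk 𝒜 hf n x)
        rw [← map_awayMk 𝒜 hf 𝒜' ψ n x]
        exact hH'.2 (awayMk 𝒜 hf n x)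
    exact congrArg (fun k : A' →+ T => k x') this

end Main

end Groth.Agent.Lib.helper28.AwayBaseChange
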