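import Groth.Agent.Lib.Helper28.AwayBaseChange

/-!
# `SemiBC` versus pushouts of commutative rings (helper28)

A commutative square of commutative rings is a pushout iff the right vertical map is a base
change (in the sense of `SemiBC`) of the left one.  Consequence: for a pushout square of graded
rings `𝒜 → 𝒜'` over `R → R'`, the squares of homogeneous localizations `A_(f) → A'_(ψ f)` are
pushouts again.
-/

set_option autoImplicit false
universe u

namespace Groth.Agent.Lib.helper28.AwayBaseChange

open CategoryTheory CategoryTheory.Limits HomogeneousLocalization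

section Bridge

variable {R R' B B' : Type u} [CommRing R] [CommRing R'] [CommRing B] [CommRing B']
  (φ : R →+* R') (α : R →+* B) (β : R' →+* B') (θ : B →+* B')

theorem semiBC_of_isPushout
    (hpo : IsPushout (CommRingCat.ofHom φ) (CommRingCat.ofHom α) (CommRingCat.ofHom β)
      (CommRingCat.ofHom θ)) :
    SemiBC φ α β θ.toAddMonoidHom := by
  let _ : Algebra R R' := φ.toAlgebra
  let _ : Algebra R B := α.toAlgebra
  let _ : Algebra R' B' := β.toAlgebra
  let _ : Algebra B B' := θ.toAlgebra
  let _ : Algebra R B' := (β.comp φ).toAlgebra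
  have : IsScalarTower R R' B' := IsScalarTower.of_algebraMap_eq' rfl
  have hw : θ.comp α = β.comp φ := by
    have := hpo.w
    exact congr($(this).hom).symm
  have : IsScalarTower R B B' := IsScalarTower.of_algebraMap_eq' hw.symm
  have hP : Algebra.IsPushout R R' B B' := CommRingCat.isPushout_iff_isPushout.mp hpo
  have hbc : IsBaseChange R' (IsScalarTower.toAlgHom R B B').toLinearMap := hP.out
  constructor
  intro T _ _ h hh
  let _ : Module R T := Module.compHom T φ
  have : IsScalarTower R R' T := IsScalarTower.of_algebraMap_smul (fun r x => rfl)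
  let hl : B →ₗ[R] T :=
    { toFun := h, map_add' := h.map_add, map_smul' := fun r n => hh r n }
  refine ⟨(hbc.lift hl).toAddMonoidHom, ⟨fun r' x' => ?_, fun x => hbc.lift_eq hl x⟩,
    fun H' hH' => ?_⟩
  · change hbc.lift hl (r' • x') = _
    rw [_root_.map_smul]
    rfl
  · let Hl : B' →ₗ[R'] T :=
      { toFun := H', map_add' := H'.map_add, map_smul' := fun r' x' => hH'.1 r' x' }
    have : Hl = hbc.lift hl := by
      apply hbc.algHom_ext
      intro x
      rw [hbc.lift_eq]
      exact hH'.2 x
    ext x'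
    exact congr($this x')

theorem isPushout_of_semiBC (hw : θ.comp α = β.comp φ)
    (hbc : SemiBC φ α β θ.toAddMonoidHom) :
    IsPushout (CommRingCat.ofHom φ) (CommRingCat.ofHom α) (CommRingCat.ofHom β)
      (CommRingCat.ofHom θ) := by
  let _ : Algebra R R' := φ.toAlgebra
  let _ : Algebra R B := α.toAlgebra
  let _ : Algebra R' B' := β.toAlgebra
  let _ : Algebra B B' := θ.toAlgebra
  let _ : Algebra R B' := (β.comp φ).toAlgebra
  have : IsScalarTower R R' B' := IsScalarTower.of_algebraMap_eq' rfl
  have : IsScalarTower R B B' := IsScalarTower.of_algebraMap_eq' hw.symm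
  refine CommRingCat.isPushout_iff_isPushout.mpr ⟨?_⟩
  apply IsBaseChange.of_lift_unique
  intro Q _ _ _ _ q
  let _ : AddCommGroup Q := Module.addCommMonoidToAddCommGroup R'
  obtain ⟨H, hH, hu⟩ := hbc.lift Q q.toAddMonoidHom (by
    intro r x
    change q (r • x) = algebraMap R R' r • q x
    rw [_root_.map_smul, algebraMap_smul])
  let Hl : B' →ₗ[R'] Q :=
    { toFun := H, map_add' := H.map_add, map_smul' := fun r' x' => hH.1 r' x' }
  refine ⟨Hl, ?_, ?_⟩
  · ext x
    exact hH.2 x
  · intro H'' hH''
    have : H''.toAddMonoidHom = H := by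
      apply hu
      refine ⟨fun r' x' => ?_, fun x => congr($hH'' x)⟩
      change H'' (r' • x') = _
      rw [_root_.map_smul]
      rfl
    ext x'
    exact congr($this x')

end Bridge

section Away

variable {R R' A A' : Type u} [CommRing R] [CommRing R'] [CommRing A] [CommRing A']
  {σ τ : Type u} [SetLike σ A] [AddSubgroupClass σ A] [SetLike τ A'] [AddSubgroupClass τ A']
  (𝒜 : ℕ → σ) [GradedRing 𝒜] (𝒜' : ℕ → τ) [GradedRing 𝒜']
  (φ : R →+* R') (α : R →+* A) (β : R' →+* A') (ψ : 𝒜 →+*ᵍ 𝒜')
  (hα : ∀ r, α r ∈ 𝒜 0) (hβ : ∀ r', β r' ∈ 𝒜' 0)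

theorem awayMap_comp_awayStr (hw : (ψ : A →+* A').comp α = β.comp φ) (f : A) :
    (Away.map ψ f : Away 𝒜 f →+* Away 𝒜' (ψ f)).comp (awayStr 𝒜 α hα f) =
      (awayStr 𝒜' β hβ (ψ f)).comp φ := by
  ext r
  have e : ψ (α r) = β (φ r) := congr($hw r)
  simp [awayStr, zeroHom, fromZeroRingHom, Away.map, HomogeneousLocalization.map_mk, e]

/-- **Homogeneous localization commutes with base change**, pushout form. -/
theorem isPushout_awayMap
    (hpo : IsPushout (CommRingCat.ofHom φ) (CommRingCat.ofHom α) (CommRingCat.ofHom β)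
      (CommRingCat.ofHom (ψ : A →+* A')))
    {d : ℕ} {f : A} (hf : f ∈ 𝒜 d) :
    IsPushout (CommRingCat.ofHom φ) (CommRingCat.ofHom (awayStr 𝒜 α hα f))
      (CommRingCat.ofHom (awayStr 𝒜' β hβ (ψ f)))
      (CommRingCat.ofHom (Away.map ψ f : Away 𝒜 f →+* Away 𝒜' (ψ f))) := by
  have hw : (ψ : A →+* A').comp α = β.comp φ := by
    have := hpo.w
    exact congr($(this).hom).symm
  exact isPushout_of_semiBC _ _ _ _ (awayMap_comp_awayStr 𝒜 𝒜' φ α β ψ hα hβ hw f)
    (semiBC_awayMap 𝒜 𝒜' φ α β ψ hα hβ (semiBC_of_isPushout φ α β _ hpo) hf)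

end Away

end Groth.Agent.Lib.helper28.AwayBaseChange
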