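import Mathlib
import Groth.Prelude.Def_W4c4cptpiccptjacBI

set_option autoImplicit false
universe u
open Finset

namespace Groth.Agent.Lib.helper28.BI

variable {V E : Type u} [Fintype V] [Fintype E] [DecidableEq V] [DecidableEq E]

/-- per-edge cut indicator -/
def cInd (ends : E → V × V) (S : Finset V) (e : E) : ℤ :=
  if ((ends e).1 ∈ S ∧ (ends e).2 ∉ S) ∨ ((ends e).1 ∉ S ∧ (ends e).2 ∈ S) then 1 else 0

theorem cut_eq_sum (ends : E → V × V) (S : Finset V) :
    (LabGraph.cut ends S : ℤ) = ∑ e : E, cInd ends S e := by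
  unfold LabGraph.cut cInd
  rw [Finset.card_filter]
  push_cast
  rfl

/-- per-edge twist contribution on a vertex set -/
def tInd (ends : E → V × V) (φ : V → ℤ) (Y : Finset V) (e : E) : ℤ :=
  (if (ends e).1 ∈ Y then φ (ends e).2 - φ (ends e).1 else 0) +
    (if (ends e).2 ∈ Y then φ (ends e).1 - φ (ends e).2 else 0)

theorem sum_twist (ends : E → V × V) (φ : V → ℤ) (Y : Finset V) :
    ∑ v ∈ Y, LabGraph.twist ends φ v = ∑ e : E, tInd ends φ Y e := by
  unfold LabGraph.twist tInd
  rw [Finset.sum_comm]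
  refine Finset.sum_congr rfl fun e _ => ?_
  rw [Finset.sum_add_distrib, Finset.sum_ite_eq, Finset.sum_ite_eq]

theorem sum_twist_univ (ends : E → V × V) (φ : V → ℤ) :
    ∑ v : V, LabGraph.twist ends φ v = 0 := by
  rw [sum_twist]
  refine Finset.sum_eq_zero fun e _ => ?_
  unfold tInd
  simp

theorem canDeg_univ (ends : E → V × V) (w : V → ℕ) :
    LabGraph.canDeg ends w Finset.univ = 2 * LabGraph.genus ends w - 2 := by
  unfold LabGraph.canDeg LabGraph.genus
  rw [Finset.sum_add_distrib, Finset.sum_sub_distrib, ← Finset.mul_sum]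
  have h1 : ∑ v : V, (LabGraph.endCount ends Finset.univ v : ℤ) = 2 * (Fintype.card E : ℤ) := by
    unfold LabGraph.endCount
    push_cast
    rw [Finset.sum_comm]
    simp only [Finset.sum_add_distrib, Finset.sum_ite_eq, Finset.mem_univ, if_true]
    simp only [Finset.sum_const, Finset.card_univ, nsmul_eq_mul]
    ring
  rw [h1]
  simp only [Finset.sum_const, Finset.card_univ, nsmul_eq_mul]
  ring

theorem canDeg_union (ends : E → V × V) (w : V → ℕ) (S T : Finset V) (h : Disjoint S T) :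
    LabGraph.canDeg ends w (S ∪ T) = LabGraph.canDeg ends w S + LabGraph.canDeg ends w T := by
  unfold LabGraph.canDeg
  rw [Finset.sum_union h]


theorem edge_upper (ends : E → V × V) (Y Z : Finset V) (e : E) :
    cInd ends (Y ∩ Z) e + cInd ends (Z ∪ Y) e - cInd ends Z e +
      2 * tInd ends (fun u => if u ∈ Z then (1 : ℤ) else 0) Y e ≤ cInd ends Y e := by
  unfold cInd tInd
  by_cases h1 : (ends e).1 ∈ Y <;> by_cases h2 : (ends e).1 ∈ Z <;>
    by_cases h3 : (ends e).2 ∈ Y <;> by_cases h4 : (ends e).2 ∈ Z <;>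
    simp [Finset.mem_inter, Finset.mem_union, h1, h2, h3, h4]

theorem edge_lower (ends : E → V × V) (Y Z : Finset V) (e : E) :
    -cInd ends Y e ≤ cInd ends Z e - cInd ends (Z \ Y) e - cInd ends (Y \ Z) e +
      2 * tInd ends (fun u => if u ∈ Z then (1 : ℤ) else 0) Y e := by
  unfold cInd tInd
  by_cases h1 : (ends e).1 ∈ Y <;> by_cases h2 : (ends e).1 ∈ Z <;>
    by_cases h3 : (ends e).2 ∈ Y <;> by_cases h4 : (ends e).2 ∈ Z <;>
    simp [Finset.mem_sdiff, h1, h2, h3, h4]

theorem bi_add_twist (ends : E → V × V) (w : V → ℕ) (hg : 3 ≤ LabGraph.genus ends w)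
    (d : V → ℤ) (hBI : LabGraph.SatisfiesBI ends w d) (Z : Finset V)
    (hZ : 2 * (LabGraph.canDeg ends w Finset.univ * (∑ v ∈ Z, d v) -
        (∑ v : V, d v) * LabGraph.canDeg ends w Z) =
      (LabGraph.cut ends Z : ℤ) * LabGraph.canDeg ends w Finset.univ) :
    LabGraph.SatisfiesBI ends w
      (fun v => d v + LabGraph.twist ends (fun u => if u ∈ Z then 1 else 0) v) := by
  intro Y
  set K := LabGraph.canDeg ends w Finset.univ with hKdef
  have hK : 0 ≤ K := by rw [hKdef, canDeg_univ]; linarith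
  set φ : V → ℤ := fun u => if u ∈ Z then 1 else 0 with hφ
  set F : Finset V → ℤ := fun S => K * (∑ v ∈ S, d v) - (∑ v : V, d v) * LabGraph.canDeg ends w S with hF
  have hFu : ∀ S T : Finset V, Disjoint S T → F (S ∪ T) = F S + F T := by
    intro S T h
    simp only [hF]
    rw [Finset.sum_union h, canDeg_union ends w S T h]
    ring
  have hb : ∀ S : Finset V, -((LabGraph.cut ends S : ℤ) * K) ≤ 2 * F S ∧
      2 * F S ≤ (LabGraph.cut ends S : ℤ) * K := by
    intro S
    have := hBI S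
    rw [show (2 : ℤ) * |K * (∑ v ∈ S, d v) - (∑ v : V, d v) * LabGraph.canDeg ends w S| =
      |2 * F S| by rw [abs_mul, abs_two]] at this
    exact abs_le.mp this
  have hZ' : 2 * F Z = (LabGraph.cut ends Z : ℤ) * K := hZ
  -- rewrite goal
  have hs1 : ∑ v ∈ Y, (d v + LabGraph.twist ends φ v) =
      ∑ v ∈ Y, d v + ∑ e : E, tInd ends φ Y e := by
    rw [Finset.sum_add_distrib, sum_twist]
  have hs2 : ∑ v : V, (d v + LabGraph.twist ends φ v) = ∑ v : V, d v := by
    rw [Finset.sum_add_distrib, sum_twist_univ, add_zero]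
  rw [hs1, hs2]
  set zY := ∑ e : E, tInd ends φ Y e with hzY
  have hgoal : K * (∑ v ∈ Y, d v + zY) - (∑ v : V, d v) * LabGraph.canDeg ends w Y =
      F Y + K * zY := by
    simp only [hF]; ring
  rw [hgoal, show (2 : ℤ) * |F Y + K * zY| = |2 * (F Y + K * zY)| by rw [abs_mul, abs_two], abs_le]
  -- decompositions
  have hY : F Y = F (Y \ Z) + F (Y ∩ Z) := by
    rw [← hFu _ _ (Finset.disjoint_sdiff_inter Y Z), Finset.sdiff_union_inter]
  have hZd : F Z = F (Z \ Y) + F (Z ∩ Y) := by
    rw [← hFu _ _ (Finset.disjoint_sdiff_inter Z Y), Finset.sdiff_union_inter]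
  have hU : F (Z ∪ Y) = F Z + F (Y \ Z) := by
    rw [← hFu _ _ Finset.disjoint_sdiff, Finset.union_sdiff_self_eq_union]
  have hcomm : Z ∩ Y = Y ∩ Z := Finset.inter_comm Z Y
  rw [hcomm] at hZd
  constructor
  · -- lower bound
    have h1 := (hb (Z \ Y)).2
    have h2 := (hb (Y \ Z)).1
    have hsum : -(LabGraph.cut ends Y : ℤ) ≤ (LabGraph.cut ends Z : ℤ) - LabGraph.cut ends (Z \ Y) -
        LabGraph.cut ends (Y \ Z) + 2 * zY := by
      rw [cut_eq_sum, cut_eq_sum, cut_eq_sum, cut_eq_sum, hzY, Finset.mul_sum,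
        ← Finset.sum_sub_distrib, ← Finset.sum_sub_distrib, ← Finset.sum_add_distrib,
        ← Finset.sum_neg_distrib]
      exact Finset.sum_le_sum fun e _ => edge_lower ends Y Z e
    nlinarith [mul_le_mul_of_nonneg_left hsum hK]
  · -- upper bound
    have h1 := (hb (Y ∩ Z)).2
    have h2 := (hb (Z ∪ Y)).2
    have hsum : (LabGraph.cut ends (Y ∩ Z) : ℤ) + LabGraph.cut ends (Z ∪ Y) - LabGraph.cut ends Z +
        2 * zY ≤ LabGraph.cut ends Y := by
      rw [cut_eq_sum, cut_eq_sum, cut_eq_sum, cut_eq_sum, hzY, Finset.mul_sum,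
        ← Finset.sum_add_distrib, ← Finset.sum_sub_distrib, ← Finset.sum_add_distrib]
      exact Finset.sum_le_sum fun e _ => edge_upper ends Y Z e
    nlinarith [mul_le_mul_of_nonneg_left hsum hK]

end Groth.Agent.Lib.helper28.BI
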