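import Mathlib
import Groth.Agent.Lib.Helper28.BI

set_option autoImplicit false
universe u
open Finset

namespace Groth.Agent.Lib.helper28.BI

variable {V E : Type u} [Fintype V] [Fintype E] [DecidableEq V] [DecidableEq E]

/-- the quadratic energy of a vertex labelling -/
def energy (ends : E → V × V) (φ : V → ℤ) : ℤ := ∑ e : E, (φ (ends e).1 - φ (ends e).2) ^ 2

/-- the total variation -/
def tvar (ends : E → V × V) (φ : V → ℤ) : ℤ := ∑ e : E, |φ (ends e).1 - φ (ends e).2|

theorem tvar_nonneg (ends : E → V × V) (φ : V → ℤ) : 0 ≤ tvar ends φ :=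
  Finset.sum_nonneg fun _ _ => abs_nonneg _

theorem energy_nonneg (ends : E → V × V) (φ : V → ℤ) : 0 ≤ energy ends φ :=
  Finset.sum_nonneg fun _ _ => sq_nonneg _

theorem tvar_sq_le (ends : E → V × V) (φ : V → ℤ) :
    (tvar ends φ) ^ 2 ≤ (Fintype.card E : ℤ) * energy ends φ := by
  unfold tvar energy
  have := sq_sum_le_card_mul_sum_sq (s := (Finset.univ : Finset E))
    (f := fun e => |φ (ends e).1 - φ (ends e).2|)
  simp only [sq_abs] at this
  simpa using this

theorem adj_le_tvar (ends : E → V × V) (φ : V → ℤ) {b c : V} (h : LabGraph.Adj ends b c) :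
    |φ c - φ b| ≤ tvar ends φ := by
  obtain ⟨e, he⟩ := h
  have h1 : |φ (ends e).1 - φ (ends e).2| ≤ tvar ends φ :=
    Finset.single_le_sum (f := fun e => |φ (ends e).1 - φ (ends e).2|)
      (fun _ _ => abs_nonneg _) (Finset.mem_univ e)
  rcases he with he | he
  · rw [he] at h1; rwa [abs_sub_comm]
  · rw [he] at h1; exact h1

theorem exists_dist (ends : E → V × V) (v₀ v : V)
    (h : Relation.ReflTransGen (LabGraph.Adj ends) v₀ v) :
    ∃ n : ℕ, ∀ φ : V → ℤ, |φ v - φ v₀| ≤ n * tvar ends φ := by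
  induction h with
  | refl => exact ⟨0, fun φ => by simp⟩
  | tail _ hbc ih =>
    obtain ⟨n, hn⟩ := ih
    refine ⟨n + 1, fun φ => ?_⟩
    have h1 := adj_le_tvar ends φ hbc
    have h2 := hn φ
    calc |φ _ - φ v₀| = |(φ _ - φ _) + (φ _ - φ v₀)| := by ring_nf
      _ ≤ |φ _ - φ _| + |φ _ - φ v₀| := abs_add_le _ _
      _ ≤ tvar ends φ + n * tvar ends φ := add_le_add h1 h2
      _ = ((n + 1 : ℕ) : ℤ) * tvar ends φ := by push_cast; ring

/-- variation of the energy under adding `ε` times an indicator -/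
theorem energy_add_ind (ends : E → V × V) (φ : V → ℤ) (Y : Finset V) (ε : ℤ) (hε : ε ^ 2 = 1) :
    energy ends (fun v => φ v + ε * (if v ∈ Y then 1 else 0)) - energy ends φ =
      (LabGraph.cut ends Y : ℤ) - 2 * ε * ∑ v ∈ Y, LabGraph.twist ends φ v := by
  rw [sum_twist, cut_eq_sum]
  unfold energy
  rw [← Finset.sum_sub_distrib, Finset.mul_sum, ← Finset.sum_sub_distrib]
  refine Finset.sum_congr rfl fun e _ => ?_
  unfold cInd tInd
  by_cases h1 : (ends e).1 ∈ Y <;> by_cases h2 : (ends e).2 ∈ Y <;>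
    simp only [h1, h2, if_true, if_false, not_true, not_false_eq_true, and_true, and_false,
      or_false, false_or, or_self, true_and, false_and] <;> nlinarith [hε]


theorem exists_bi (ends : E → V × V) (w : V → ℕ) (hconn : LabGraph.Connected ends)
    (hg : 3 ≤ LabGraph.genus ends w) (d : V → ℤ) :
    ∃ d' : V → ℤ, LabGraph.TwistEquiv ends d' d ∧ LabGraph.SatisfiesBI ends w d' := by
  classical
  obtain ⟨⟨v₀⟩, hc⟩ := hconn
  set K := LabGraph.canDeg ends w Finset.univ with hKdef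
  have hK : 1 ≤ K := by rw [hKdef, canDeg_univ]; linarith
  set D := ∑ v : V, d v with hD
  set c : V → ℤ := fun v => 2 * (w v : ℤ) - 2 + (LabGraph.endCount ends Finset.univ v : ℤ) with hcdef
  have hcan : ∀ Y : Finset V, LabGraph.canDeg ends w Y = ∑ v ∈ Y, c v := fun Y => rfl
  set a : V → ℤ := fun v => K * d v - D * c v with ha
  have hasum : ∑ v : V, a v = 0 := by
    simp only [ha]
    rw [Finset.sum_sub_distrib, ← Finset.mul_sum, ← Finset.mul_sum, ← hcan, ← hKdef, ← hD]
    ring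
  set P : (V → ℤ) → ℤ := fun φ => K * energy ends φ - 2 * ∑ v : V, a v * φ v with hP
  -- lower bound
  choose n hn using fun v => exists_dist ends v₀ v (hc v₀ v)
  set N : ℤ := ∑ v : V, |a v| * (n v : ℤ) with hN
  have hN0 : 0 ≤ N := Finset.sum_nonneg fun v _ => mul_nonneg (abs_nonneg _) (Int.natCast_nonneg _)
  have hlin : ∀ φ : V → ℤ, |∑ v : V, a v * φ v| ≤ N * tvar ends φ := by
    intro φ
    have h1 : ∑ v : V, a v * φ v = ∑ v : V, a v * (φ v - φ v₀) := by
      simp only [mul_sub]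
      rw [Finset.sum_sub_distrib, ← Finset.sum_mul, hasum, zero_mul, sub_zero]
    rw [h1, hN, Finset.sum_mul]
    refine (Finset.abs_sum_le_sum_abs _ _).trans (Finset.sum_le_sum fun v _ => ?_)
    rw [abs_mul, mul_assoc]
    exact mul_le_mul_of_nonneg_left (hn v φ) (abs_nonneg _)
  have hbdd : ∀ φ : V → ℤ, -(N ^ 2 * (Fintype.card E : ℤ)) ≤ P φ := by
    intro φ
    have h1 := hlin φ
    have h2 := tvar_sq_le ends φ
    have h3 := tvar_nonneg ends φ
    have h4 := energy_nonneg ends φ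
    set G := tvar ends φ
    set Q := energy ends φ
    set m : ℤ := (Fintype.card E : ℤ)
    have hm : 0 ≤ m := Int.natCast_nonneg _
    have h5 : 0 ≤ Q - 2 * N * G + N ^ 2 * m := by
      rcases hm.eq_or_lt with hm0 | hm0
      · rw [← hm0] at h2 ⊢
        have : G = 0 := by nlinarith
        rw [this]; simpa using h4
      · have : 0 ≤ m * (Q - 2 * N * G + N ^ 2 * m) := by nlinarith [sq_nonneg (G - N * m)]
        exact nonneg_of_mul_nonneg_right this hm0
    have h6 := (abs_le.mp h1).2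
    simp only [hP]
    nlinarith
  obtain ⟨z₀, ⟨φ₀, hφ₀⟩, hmin⟩ := Int.exists_least_of_bdd (P := fun z => ∃ φ, P φ = z)
    ⟨_, fun z ⟨φ, hz⟩ => hz ▸ hbdd φ⟩ ⟨_, 0, rfl⟩
  have hmin' : ∀ φ, P φ₀ ≤ P φ := fun φ => hφ₀ ▸ hmin _ ⟨φ, rfl⟩
  refine ⟨fun v => d v + LabGraph.twist ends φ₀ v, ⟨φ₀, fun v => by ring⟩, ?_⟩
  intro Y
  have hs2 : ∑ v : V, (d v + LabGraph.twist ends φ₀ v) = D := by
    rw [Finset.sum_add_distrib, sum_twist_univ, add_zero]
  rw [hs2, Finset.sum_add_distrib, ← hKdef]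
  -- variation
  have hvar : ∀ ε : ℤ, ε ^ 2 = 1 →
      P (fun v => φ₀ v + ε * (if v ∈ Y then 1 else 0)) - P φ₀ =
        K * (LabGraph.cut ends Y : ℤ) - 2 * ε * (K * (∑ v ∈ Y, d v + ∑ v ∈ Y, LabGraph.twist ends φ₀ v) -
          D * LabGraph.canDeg ends w Y) := by
    intro ε hε
    have h1 := energy_add_ind ends φ₀ Y ε hε
    have h2 : ∑ v : V, a v * (φ₀ v + ε * (if v ∈ Y then 1 else 0)) - ∑ v : V, a v * φ₀ v =
        ε * (K * ∑ v ∈ Y, d v - D * LabGraph.canDeg ends w Y) := by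
      rw [← Finset.sum_sub_distrib]
      have : ∀ v : V, a v * (φ₀ v + ε * (if v ∈ Y then 1 else 0)) - a v * φ₀ v =
          ε * (if v ∈ Y then a v else 0) := by
        intro v; split_ifs <;> ring
      simp_rw [this]
      rw [← Finset.mul_sum, Finset.sum_ite_mem, Finset.univ_inter, hcan]
      simp only [ha]
      rw [Finset.sum_sub_distrib, ← Finset.mul_sum, ← Finset.mul_sum]
    simp only [hP]
    linear_combination K * h1 - 2 * h2
  have hp := hvar 1 (by norm_num)
  have hm1 := hvar (-1) (by norm_num)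
  have hp' := hmin' (fun v => φ₀ v + 1 * (if v ∈ Y then 1 else 0))
  have hm' := hmin' (fun v => φ₀ v + (-1) * (if v ∈ Y then 1 else 0))
  rw [show (2 : ℤ) * |K * (∑ v ∈ Y, d v + ∑ v ∈ Y, LabGraph.twist ends φ₀ v) -
      D * LabGraph.canDeg ends w Y| = |2 * (K * (∑ v ∈ Y, d v + ∑ v ∈ Y, LabGraph.twist ends φ₀ v) -
      D * LabGraph.canDeg ends w Y)| by rw [abs_mul, abs_two], abs_le]
  constructor <;> linarith

end Groth.Agent.Lib.helper28.BI
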