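import Mathlib
import Groth.Agent.Lib.Helper28.BI

set_option autoImplicit false
universe u
open Finset

namespace Groth.Agent.Lib.helper28.BI

variable {V E : Type u} [Fintype V] [Fintype E] [DecidableEq V] [DecidableEq E]

theorem twist_shift (ends : E → V × V) (φ : V → ℤ) (c : ℤ) (v : V) :
    LabGraph.twist ends (fun u => φ u - c) v = LabGraph.twist ends φ v := by
  unfold LabGraph.twist
  refine Finset.sum_congr rfl fun e _ => ?_
  split_ifs <;> ring

theorem exists_crossing (ends : E → V × V) (Y : Finset V) (a b : V)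
    (h : Relation.ReflTransGen (LabGraph.Adj ends) a b) (ha : a ∉ Y) (hb : b ∈ Y) :
    ∃ e : E, ((ends e).1 ∈ Y ∧ (ends e).2 ∉ Y) ∨ ((ends e).1 ∉ Y ∧ (ends e).2 ∈ Y) := by
  induction h with
  | refl => exact absurd hb ha
  | @tail b' c' _ hbc ih =>
    by_cases hb' : b' ∈ Y
    · exact ih hb'
    · obtain ⟨e, he⟩ := hbc
      refine ⟨e, ?_⟩
      rcases he with he | he
      · right; rw [he]; exact ⟨hb', hb⟩
      · left; rw [he]; exact ⟨hb, hb'⟩

theorem normal_form (ends : E → V × V) (w : V → ℕ) (hconn : LabGraph.Connected ends)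
    (hg : 3 ≤ LabGraph.genus ends w) (d d' : V → ℤ)
    (hBI : LabGraph.SatisfiesBI ends w d) (hBI' : LabGraph.SatisfiesBI ends w d')
    (heq : LabGraph.TwistEquiv ends d d') :
    ∃ (q : ℕ) (h : V → ℕ), (∀ v : V, h v ≤ q) ∧ (∀ i : ℕ, i ≤ q → ∃ v : V, h v = i) ∧
      (∀ v : V, d v - d' v = LabGraph.twist ends (fun u => (h u : ℤ)) v) ∧
      (∀ i j : ℕ, i ≤ q → j ≤ q → i ≠ j →
        ((∃ e : E, (h (ends e).1 = i ∧ h (ends e).2 = j) ∨ (h (ends e).1 = j ∧ h (ends e).2 = i)) ↔
          (i + 1 = j ∨ j + 1 = i))) := by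
  classical
  obtain ⟨⟨v₀⟩, hc⟩ := hconn
  obtain ⟨φ, hφ⟩ := heq
  set K := LabGraph.canDeg ends w Finset.univ with hKdef
  have hK : 0 < K := by rw [hKdef, canDeg_univ]; linarith
  have hDD : ∑ v : V, d v = ∑ v : V, d' v := by
    have : ∑ v : V, (d v - d' v) = 0 := by
      simp_rw [hφ]; exact sum_twist_univ ends φ
    rw [Finset.sum_sub_distrib] at this
    linarith
  -- normalise φ
  obtain ⟨vmin, _, hvmin⟩ := Finset.exists_min_image Finset.univ φ ⟨v₀, Finset.mem_univ _⟩
  set h : V → ℕ := fun v => (φ v - φ vmin).toNat with hh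
  have hhZ : ∀ v, (h v : ℤ) = φ v - φ vmin := fun v =>
    Int.toNat_of_nonneg (sub_nonneg.mpr (hvmin v (Finset.mem_univ _)))
  have htw : ∀ v, d v - d' v = LabGraph.twist ends (fun u => (h u : ℤ)) v := by
    intro v
    rw [hφ v, ← twist_shift ends φ (φ vmin) v]
    simp_rw [hhZ]
  have hmin0 : h vmin = 0 := by simp [hh]
  obtain ⟨vmax, _, hvmax⟩ := Finset.exists_max_image Finset.univ h ⟨v₀, Finset.mem_univ _⟩
  set q := h vmax with hq
  have hle : ∀ v, h v ≤ q := fun v => hvmax v (Finset.mem_univ _)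
  -- key lemma
  have key : ∀ (t : ℕ) (e : E),
      (t ≤ h (ends e).1 → h (ends e).2 < t → h (ends e).1 = t ∧ h (ends e).2 + 1 = t) ∧
      (t ≤ h (ends e).2 → h (ends e).1 < t → h (ends e).2 = t ∧ h (ends e).1 + 1 = t) := by
    intro t
    set Y : Finset V := Finset.univ.filter (fun v => t ≤ h v) with hY
    have hmem : ∀ v, v ∈ Y ↔ t ≤ h v := fun v => by simp [hY]
    have h1 := hBI Y
    have h2 := hBI' Y
    rw [show (2 : ℤ) * |K * (∑ v ∈ Y, d v) - (∑ v : V, d v) * LabGraph.canDeg ends w Y| =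
      |2 * (K * (∑ v ∈ Y, d v) - (∑ v : V, d v) * LabGraph.canDeg ends w Y)| by
        rw [abs_mul, abs_two], abs_le] at h1
    rw [show (2 : ℤ) * |K * (∑ v ∈ Y, d' v) - (∑ v : V, d' v) * LabGraph.canDeg ends w Y| =
      |2 * (K * (∑ v ∈ Y, d' v) - (∑ v : V, d' v) * LabGraph.canDeg ends w Y)| by
        rw [abs_mul, abs_two], abs_le, ← hDD] at h2
    have h3 : ∑ v ∈ Y, d v - ∑ v ∈ Y, d' v = ∑ e : E, tInd ends (fun u => (h u : ℤ)) Y e := by
      rw [← Finset.sum_sub_distrib, ← sum_twist]
      exact Finset.sum_congr rfl fun v _ => htw v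
    have h4 : -(LabGraph.cut ends Y : ℤ) ≤ ∑ v ∈ Y, d v - ∑ v ∈ Y, d' v := by
      have : 0 ≤ K * ((∑ v ∈ Y, d v - ∑ v ∈ Y, d' v) + (LabGraph.cut ends Y : ℤ)) := by
        nlinarith [h1.1, h2.2]
      have := nonneg_of_mul_nonneg_right this hK
      linarith
    have hterm : ∀ e : E, tInd ends (fun u => (h u : ℤ)) Y e + cInd ends Y e ≤ 0 := by
      intro e
      unfold tInd cInd
      by_cases a1 : (ends e).1 ∈ Y <;> by_cases a2 : (ends e).2 ∈ Y
      · simp [a1, a2]
      · have b1 := (hmem _).mp a1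
        have b2 : h (ends e).2 < t := by rw [hmem] at a2; omega
        simp only [a1, a2, if_true, if_false, not_true, not_false_eq_true, and_true, and_false,
          or_false, add_zero]
        have : (h (ends e).2 : ℤ) + 1 ≤ (h (ends e).1 : ℤ) := by exact_mod_cast (by omega)
        linarith
      · have b2 := (hmem _).mp a2
        have b1 : h (ends e).1 < t := by rw [hmem] at a1; omega
        simp only [a1, a2, if_true, if_false, not_true, not_false_eq_true, and_true, and_false,
          false_or, zero_add]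
        have : (h (ends e).1 : ℤ) + 1 ≤ (h (ends e).2 : ℤ) := by exact_mod_cast (by omega)
        linarith
      · simp [a1, a2]
    have hsum0 : ∑ e : E, (tInd ends (fun u => (h u : ℤ)) Y e + cInd ends Y e) = 0 := by
      apply le_antisymm (Finset.sum_nonpos fun e _ => hterm e)
      rw [Finset.sum_add_distrib, ← h3, ← cut_eq_sum]
      linarith
    have hz := (Finset.sum_eq_zero_iff_of_nonpos (fun e _ => hterm e)).mp hsum0
    intro e
    have hze := hz e (Finset.mem_univ _)
    unfold tInd cInd at hze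
    constructor
    · intro b1 b2
      have a1 : (ends e).1 ∈ Y := (hmem _).mpr b1
      have a2 : (ends e).2 ∉ Y := by rw [hmem]; omega
      simp only [a1, a2, if_true, if_false, not_true, not_false_eq_true, and_true, and_false,
        or_false, add_zero] at hze
      have : (h (ends e).2 : ℤ) + 1 = (h (ends e).1 : ℤ) := by linarith
      have : h (ends e).2 + 1 = h (ends e).1 := by exact_mod_cast this
      omega
    · intro b2 b1
      have a2 : (ends e).2 ∈ Y := (hmem _).mpr b2
      have a1 : (ends e).1 ∉ Y := by rw [hmem]; omega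
      simp only [a1, a2, if_true, if_false, not_true, not_false_eq_true, and_true, and_false,
        false_or, zero_add] at hze
      have : (h (ends e).1 : ℤ) + 1 = (h (ends e).2 : ℤ) := by linarith
      have : h (ends e).1 + 1 = h (ends e).2 := by exact_mod_cast this
      omega
  -- crossing edges exist for 1 ≤ t ≤ q
  have hcross : ∀ t : ℕ, 1 ≤ t → t ≤ q →
      ∃ e : E, (h (ends e).1 = t ∧ h (ends e).2 + 1 = t) ∨ (h (ends e).2 = t ∧ h (ends e).1 + 1 = t) := by
    intro t ht1 htq
    set Y : Finset V := Finset.univ.filter (fun v => t ≤ h v) with hY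
    have hmem : ∀ v, v ∈ Y ↔ t ≤ h v := fun v => by simp [hY]
    have ha : vmin ∉ Y := by rw [hmem, hmin0]; omega
    have hb : vmax ∈ Y := by rw [hmem]; exact htq
    obtain ⟨e, he⟩ := exists_crossing ends Y vmin vmax (hc vmin vmax) ha hb
    refine ⟨e, ?_⟩
    rcases he with ⟨a1, a2⟩ | ⟨a1, a2⟩
    · left
      exact (key t e).1 ((hmem _).mp a1) (by rw [hmem] at a2; omega)
    · right
      exact (key t e).2 ((hmem _).mp a2) (by rw [hmem] at a1; omega)
  refine ⟨q, h, hle, ?_, htw, ?_⟩
  · intro i hi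
    rcases Nat.lt_or_ge i q with hlt | hge
    · obtain ⟨e, he⟩ := hcross (i + 1) (by omega) (by omega)
      rcases he with ⟨_, h2⟩ | ⟨_, h2⟩
      · exact ⟨(ends e).2, by omega⟩
      · exact ⟨(ends e).1, by omega⟩
    · exact ⟨vmax, by omega⟩
  · intro i j hi hj hij
    constructor
    · rintro ⟨e, he⟩
      rcases he with ⟨h1, h2⟩ | ⟨h1, h2⟩
      · rcases Nat.lt_or_gt_of_ne hij with hlt | hgt
        · have := (key j e).2 (by omega) (by omega)
          omega
        · have := (key i e).1 (by omega) (by omega)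
          omega
      · rcases Nat.lt_or_gt_of_ne hij with hlt | hgt
        · have := (key j e).1 (by omega) (by omega)
          omega
        · have := (key i e).2 (by omega) (by omega)
          omega
    · rintro (h1 | h1)
      · obtain ⟨e, he⟩ := hcross j (by omega) hj
        refine ⟨e, ?_⟩
        rcases he with ⟨a1, a2⟩ | ⟨a1, a2⟩
        · right; exact ⟨a1, by omega⟩
        · left; exact ⟨by omega, a1⟩
      · obtain ⟨e, he⟩ := hcross i (by omega) hi
        refine ⟨e, ?_⟩
        rcases he with ⟨a1, a2⟩ | ⟨a1, a2⟩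
        · left; exact ⟨a1, by omega⟩
        · right; exact ⟨by omega, a1⟩

end Groth.Agent.Lib.helper28.BI
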