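import Mathlib
import Groth.Agent.Lib.Helper7.IdealMod
import Groth.Agent.Lib.Helper7.KerSections
import Groth.Agent.Lib.Helper11.IsoLocus
import Groth.Agent.Lib.Helper11.InvMod
import Groth.Agent.Lib.Helper12.TensorInv
import Groth.Agent.Lib.Helper12.PullTensor
import Groth.Agent.Lib.Helper28.HomOfAffine
import Groth.Agent.Lib.Helper18.P1Euler
import Groth.Agent.Lib.Lead.ModTensor

/-!
# Comparing ideal modules over an open (helper28)

* `le_isoLocus_of_bijective_affine`: a morphism of quasi-coherent modules which is bijective on the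
  affine opens inside `U` is an isomorphism over `U`;
* `idealLE h : idealMod K ⟶ idealMod K'` for `K ≤ K'`, an isomorphism over every open on whose
  affine opens the two ideals agree (`le_isoLocus_idealLE`);
* `le_isoLocus_idealModι`: `idealMod K ⟶ O` is an isomorphism over every open on whose affine opens
  the ideal is the unit ideal;
* `IsoOn A B U`: `A|_U ≅ B|_U`; `IsoOn.of_le_isoLocus`, `IsoOn.isTrivOn`, `IsoOn.subsingleton_HHon`;
* `powMap f k : tensorPow A k ⟶ tensorPow B k` and `isoLocus_le_powMap`.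
-/

set_option autoImplicit false
set_option linter.unusedSectionVars false
set_option linter.style.haveILetI false
universe u
open CategoryTheory CategoryTheory.Limits AlgebraicGeometry Opposite TopologicalSpace
open Scheme.Modules

namespace Groth.Agent.Lib.helper28.BlowPts

open Groth.Agent.Lib.helper11.IsoLocus Groth.Agent.Lib.helper11.InvMod
  Groth.Agent.Lib.Lead.ModTensor Groth.Agent.Lib.helper7

variable {X : Scheme.{u}}

/-- a morphism of quasi-coherent modules which is bijective on the affine opens inside `U` is an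
isomorphism over `U` -/
theorem le_isoLocus_of_bijective_affine {A B : X.Modules} [A.IsQuasicoherent] [B.IsQuasicoherent]
    (φ : A ⟶ B) (U : X.Opens)
    (h : ∀ W : X.Opens, IsAffineOpen W → W ≤ U → Function.Bijective (φ.app W).hom) :
    U ≤ isoLocus φ := by
  rw [le_isoLocus_iff]
  haveI : (A.restrict U.ι).IsQuasicoherent := Scheme.Modules.isQuasicoherent_restrictFunctor U.ι A
  haveI : (B.restrict U.ι).IsQuasicoherent := Scheme.Modules.isQuasicoherent_restrictFunctor U.ι B
  refine KerSections.isIso_of_bijective_affine (A := A.restrict U.ι) (B := B.restrict U.ι)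
    ((restrictFunctor U.ι).map φ) fun W hW => ?_
  have hW' : IsAffineOpen (U.ι ''ᵁ W) := hW.image_of_isOpenImmersion U.ι
  have hle : U.ι ''ᵁ W ≤ U := by
    rintro _ ⟨x, -, rfl⟩
    exact x.2
  exact h _ hW' hle

section LE

variable {K K' : X.IdealSheafData}

theorem idealModι_comp_toSubscheme_of_le (h : K ≤ K') :
    ClSub.idealModι K ≫ ClSub.toSubscheme K' = 0 := by
  refine Groth.Agent.Lib.helper28.HomOfAffine.hom_ext_of_affine _ _ (fun U s => ?_)
  have h1 : ((ClSub.idealModι K ≫ ClSub.toSubscheme K').app U.1).hom s =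
      (K'.subschemeι.app U.1).hom (show Γ(X, U.1) from ((ClSub.idealModι K).app U.1).hom s) := rfl
  have h2 : (show Γ(X, U.1) from ((ClSub.idealModι K).app U.1).hom s) ∈
      RingHom.ker (K'.subschemeι.app U.1).hom := by
    rw [K'.ker_subschemeι_app ⟨U.1, U.2⟩]
    exact h _ (IdealMod.idealModι_app_mem K ⟨U.1, U.2⟩ s)
  have h3 : (K'.subschemeι.app U.1).hom
      (show Γ(X, U.1) from ((ClSub.idealModι K).app U.1).hom s) = 0 := (RingHom.mem_ker).mp h2
  exact h1.trans h3

/-- the inclusion of ideal sheaves, as a map of modules -/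
noncomputable def idealLE (h : K ≤ K') : ClSub.idealMod K ⟶ ClSub.idealMod K' :=
  kernel.lift _ (ClSub.idealModι K) (idealModι_comp_toSubscheme_of_le h)

@[reassoc]
theorem idealLE_ι (h : K ≤ K') : idealLE h ≫ ClSub.idealModι K' = ClSub.idealModι K :=
  kernel.lift_ι _ _ _

theorem idealLE_ι_app (h : K ≤ K') (U : X.Opens) (s : Γ(ClSub.idealMod K, U)) :
    ((ClSub.idealModι K').app U).hom (((idealLE h).app U).hom s) =
      ((ClSub.idealModι K).app U).hom s :=
  congrArg (fun φ : ClSub.idealMod K ⟶ Coh.structureModule X => (φ.app U).hom s) (idealLE_ι h)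

/-- the inclusion `idealMod K ⟶ idealMod K'` is an isomorphism over every open on whose affine opens
the two ideals agree -/
theorem le_isoLocus_idealLE (h : K ≤ K') (U : X.Opens)
    (hU : ∀ (W : X.Opens) (hW : IsAffineOpen W), W ≤ U → K'.ideal ⟨W, hW⟩ ≤ K.ideal ⟨W, hW⟩) :
    U ≤ isoLocus (idealLE h) := by
  haveI := IdealMod.idealMod_qcoh K
  haveI := IdealMod.idealMod_qcoh K'
  refine le_isoLocus_of_bijective_affine _ U fun W hW hle => ⟨?_, ?_⟩
  · intro s t hst
    apply IdealMod.idealModι_app_injective K W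
    rw [← idealLE_ι_app h W s, ← idealLE_ι_app h W t, hst]
  · intro t
    have h1 : ((ClSub.idealModι K').app W).hom t ∈ K.ideal ⟨W, hW⟩ :=
      hU W hW hle (IdealMod.idealModι_app_mem K' ⟨W, hW⟩ t)
    obtain ⟨s, hs⟩ := (IdealMod.mem_range_idealModι_iff_of_affine K ⟨W, hW⟩ _).mpr h1
    refine ⟨s, ?_⟩
    apply IdealMod.idealModι_app_injective K' W
    rw [idealLE_ι_app h W s]
    exact hs

/-- `idealMod K ⟶ O` is an isomorphism over every open on whose affine opens `K` is the unit
ideal -/
theorem le_isoLocus_idealModι (K : X.IdealSheafData) (U : X.Opens)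
    (hU : ∀ (W : X.Opens) (hW : IsAffineOpen W), W ≤ U → K.ideal ⟨W, hW⟩ = ⊤) :
    U ≤ isoLocus (ClSub.idealModι K) := by
  haveI := IdealMod.idealMod_qcoh K
  haveI : (Coh.structureModule X).IsQuasicoherent := IdealMod.structureModule_qcoh
  refine le_isoLocus_of_bijective_affine _ U fun W hW hle => ⟨?_, ?_⟩
  · exact IdealMod.idealModι_app_injective K W
  · intro t
    refine (IdealMod.mem_range_idealModι_iff_of_affine K ⟨W, hW⟩ t).mpr ?_
    rw [hU W hW hle]
    trivial

end LE

/-- `A|_U ≅ B|_U` -/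
def IsoOn (A B : X.Modules) (U : X.Opens) : Prop :=
  Nonempty (A.restrict U.ι ≅ B.restrict U.ι)

theorem IsoOn.of_le_isoLocus {A B : X.Modules} (φ : A ⟶ B) {U : X.Opens} (h : U ≤ isoLocus φ) :
    IsoOn A B U := by
  haveI : IsIso ((restrictFunctor U.ι).map φ) := (le_isoLocus_iff φ U).mp h
  exact ⟨asIso ((restrictFunctor U.ι).map φ)⟩

theorem IsoOn.symm {A B : X.Modules} {U : X.Opens} (h : IsoOn A B U) : IsoOn B A U := by
  obtain ⟨e⟩ := h
  exact ⟨e.symm⟩

theorem IsoOn.trans {A B C : X.Modules} {U : X.Opens} (h : IsoOn A B U) (h' : IsoOn B C U) :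
    IsoOn A C U := by
  obtain ⟨e⟩ := h
  obtain ⟨e'⟩ := h'
  exact ⟨e ≪≫ e'⟩

theorem IsoOn.isTrivOn {A B : X.Modules} {U : X.Opens} (h : IsoOn A B U) (hB : IsTrivOn B U) :
    IsTrivOn A U := by
  obtain ⟨e⟩ := h
  obtain ⟨e'⟩ := hB
  exact ⟨e ≪≫ e'⟩

theorem IsoOn.subsingleton_HHon {A B : X.Modules} {U : X.Opens} (h : IsoOn A B U) (p : ℕ)
    (hB : Subsingleton (Coh.HHon X B U p)) : Subsingleton (Coh.HHon X A U p) := by
  obtain ⟨e⟩ := h
  exact (Groth.Agent.Lib.Helper18.P1Euler.hhEquivOfIso e p).subsingleton_congr.mpr hB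

/-- the map on tensor powers induced by a morphism -/
noncomputable def powMap {A B : X.Modules} (f : A ⟶ B) : (k : ℕ) →
    (CohB1.tensorPow A k ⟶ CohB1.tensorPow B k)
  | 0 => 𝟙 _
  | k + 1 => tensorMap (powMap f k) f

theorem isoLocus_le_powMap {A B : X.Modules} (f : A ⟶ B) (k : ℕ) :
    isoLocus f ≤ isoLocus (powMap f k) := by
  induction k with
  | zero =>
    show _ ≤ isoLocus (𝟙 _)
    rw [Groth.Agent.Lib.helper12.PullTensor.isoLocus_id]
    exact le_top
  | succ k ih =>
    show _ ≤ isoLocus (tensorMap (powMap f k) f)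
    exact le_trans (le_inf ih le_rfl)
      (Groth.Agent.Lib.helper12.PullTensor.isoLocus_inf_le_tensorMap _ _)

end Groth.Agent.Lib.helper28.BlowPts
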