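import Groth.Agent.Lib.Helper28.BlowUpOpen
import Groth.Agent.Lib.Helper7.KerSections
import Groth.Agent.Lib.Helper7.QCohPushQC
import Groth.Agent.Lib.Helper11.S0002T3
import Groth.Agent.Lib.Helper11.PullUnit

/-!
# Direct images of the structure sheaf under a blow-up along a regularly embedded centre (helper28)

`φ : X ⟶ Y` a blow-up of `𝓘` (`BlowUp.IsBlowUp`) such that around every point of `Y`, on a Noetherian
affine open, `𝓘` is generated by a nonempty weakly regular sequence (`GoodAt`; away from the centre the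
sequence `[1]` qualifies).  Then (`main`): `O_Y(U) → O_X(φ⁻¹U)` is bijective for every open `U`, and
`R^p φ_* O_X = 0` for `p > 0`.  (SGA 6 VII 3.5 / Hartshorne V 3.4 in any dimension.)
* `bijective_app_of_cover`: bijectivity of `φ♯` on an affine cover gives it on all opens (`φ` qcqs).
-/

set_option autoImplicit false
set_option linter.unusedSectionVars false
universe u
open CategoryTheory CategoryTheory.Limits AlgebraicGeometry Opposite TopologicalSpace
open Scheme.Modules

namespace Groth.Agent.Lib.helper28.BlowUpDirect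

open Groth.Agent.Lib.helper11.InvPullback

/-- bijectivity of `φ♯` on an affine cover gives bijectivity on all opens (`φ` qcqs) -/
theorem bijective_app_of_cover {X Y : Scheme.{u}} (φ : X ⟶ Y) [QuasiCompact φ] [QuasiSeparated φ]
    (h : ∀ y : Y, ∃ V : Y.Opens, IsAffineOpen V ∧ y ∈ V ∧ Function.Bijective (φ.app V).hom) :
    ∀ U : Y.Opens, Function.Bijective (φ.app U) := by
  have : ((Scheme.Modules.pushforward φ).obj (Coh.structureModule X)).IsQuasicoherent :=
    Groth.Agent.Lib.helper7.QCohPushQC.isQuasicoherent_pushforward φ _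
  have hiso : IsIso (unitToPush φ) := by
    refine Groth.Agent.Lib.helper7.KerSections.isIso_of_bijective_cover (unitToPush φ)
      (fun V : {V : Y.Opens // IsAffineOpen V ∧ Function.Bijective (φ.app V).hom} => V.1)
      (fun V => V.2.1) (fun y => ?_) (fun V => V.2.2)
    obtain ⟨V, hV, hyV, hb⟩ := h y
    exact ⟨⟨V, hV, hb⟩, hyV⟩
  rw [Hom.isIso_iff_isIso_app] at hiso
  intro U
  exact (ConcreteCategory.isIso_iff_bijective (Hom.app (unitToPush φ) U)).mp (hiso U)

/-- near `y` the ideal sheaf is generated, on a Noetherian affine open, by a nonempty weakly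
regular sequence -/
def GoodAt {Y : Scheme.{u}} (𝓘 : Y.IdealSheafData) (y : Y) : Prop :=
  ∃ (V : Y.Opens) (hV : IsAffineOpen V), y ∈ V ∧ IsNoetherianRing Γ(Y, V) ∧
    ∃ rs : List Γ(Y, V), rs ≠ [] ∧ RingTheory.Sequence.IsWeaklyRegular Γ(Y, V) rs ∧
      𝓘.ideal ⟨V, hV⟩ = Ideal.ofList rs

theorem isProper_of_goodAt {X Y : Scheme.{u}} (φ : X ⟶ Y) (𝓘 : Y.IdealSheafData)
    (hφ : BlowUp.IsBlowUp φ 𝓘) (hgood : ∀ y : Y, GoodAt 𝓘 y) : IsProper φ := by
  refine Groth.Agent.Lib.helper16.BlowUpProper.isProper_of_isBlowUp 𝓘 φ hφ fun y => ?_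
  obtain ⟨V, hV, hyV, -, rs, -, -, hI⟩ := hgood y
  refine ⟨⟨V, hV⟩, hyV, ?_⟩
  rw [hI, Ideal.ofList]
  classical
  refine ⟨rs.toFinset, ?_⟩
  congr 1
  ext a
  simp

/-- **Direct images of the structure sheaf under a blow-up along a regularly embedded centre**:
`O_Y → φ_* O_X` is bijective on all opens, and `R^p φ_* O_X = 0` for `p > 0`. -/
theorem main {X Y : Scheme.{u}} (φ : X ⟶ Y) (𝓘 : Y.IdealSheafData)
    (hφ : BlowUp.IsBlowUp φ 𝓘) (hgood : ∀ y : Y, GoodAt 𝓘 y) :
    (∀ U : Y.Opens, Function.Bijective (φ.app U)) ∧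
      ∀ p : ℕ, 0 < p → IsZero ((Coh.RpushAb φ p).obj (Coh.toAb (Coh.structureModule X))) := by
  have := isProper_of_goodAt φ 𝓘 hφ hgood
  constructor
  · refine bijective_app_of_cover φ fun y => ?_
    obtain ⟨V, hV, hyV, hN, rs, hne, hreg, hI⟩ := hgood y
    exact ⟨V, hV, hyV, (Groth.Agent.Lib.helper28.BlowUpOpen.open_main φ 𝓘 hφ V hV rs hne hreg hI).1⟩
  · intro p hp
    refine Groth.Agent.Lib.helper11.S0002T3.isZero_RpushAb_of_affine_cover φ
      (Coh.structureModule X) p hp fun y => ?_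
    obtain ⟨V, hV, hyV, hN, rs, hne, hreg, hI⟩ := hgood y
    exact ⟨V, hV, hyV,
      (Groth.Agent.Lib.helper28.BlowUpOpen.open_main φ 𝓘 hφ V hV rs hne hreg hI).2 p hp⟩

end Groth.Agent.Lib.helper28.BlowUpDirect
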