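import Groth.Agent.Lib.Helper28.BlowUpGood
import Groth.Prelude.Def_RegImm

/-!
# Good covers for regular immersions of constant codimension (helper28)

`goodAt_of_isRegularImmersionOfCodim`: a closed immersion which is `RegImm.IsRegularImmersionOfCodim
.regular d`, `d ≥ 1`, into a locally Noetherian scheme satisfies `BlowUpDirect.GoodAt i.ker y` everywhere.
-/

set_option autoImplicit false
set_option linter.unusedSectionVars false
universe u
open CategoryTheory CategoryTheory.Limits AlgebraicGeometry Opposite TopologicalSpace

namespace Groth.Agent.Lib.helper28.BlowUpGood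

open Groth.Agent.Lib.helper28.BlowUpDirect

theorem goodAt_of_isRegularImmersionOfCodim {S Y : Scheme.{u}} [IsLocallyNoetherian Y] (i : S ⟶ Y)
    [IsClosedImmersion i] (d : ℕ) (hd : 1 ≤ d)
    (hi : RegImm.IsRegularImmersionOfCodim .regular d i) (y : Y) : GoodAt i.ker y := by
  by_cases hy : y ∈ Set.range i
  · obtain ⟨z, rfl⟩ := hy
    obtain ⟨U, hzU, -, rs, hlen, hreg, hker⟩ := hi.2 z
    refine ⟨U.1, U.2, hzU, IsLocallyNoetherian.component_noetherian U, rs, ?_, ?_, ?_⟩
    · rintro rfl
      simp at hlen
      omega
    · exact (show RingTheory.Sequence.IsRegular Γ(Y, U.1) rs from hreg).toIsWeaklyRegular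
    · rw [Scheme.Hom.ker_apply]
      exact hker
  · exact goodAt_of_notMem_range i y hy

end Groth.Agent.Lib.helper28.BlowUpGood
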