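import Groth.Agent.Lib.Helper27.Horseshoe7
import Groth.Agent.Lib.Helper18.HHLES
import Groth.Agent.Lib.Helper27.PullConst

set_option autoImplicit false
set_option linter.unusedSectionVars false
universe v u
open CategoryTheory CategoryTheory.Limits AlgebraicGeometry Opposite TopologicalSpace
open Scheme.Modules

namespace Groth.Agent.Lib.helper28.PushSES

/-- third-term isomorphism for a morphism of short exact sequences -/
theorem isIso_τ₃ {C : Type u} [Category.{v} C] [Abelian C] {S₁ S₂ : ShortComplex C}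
    (h₁ : S₁.ShortExact) (h₂ : S₂.ShortExact) (ψ : S₁ ⟶ S₂) [IsIso ψ.τ₁] [IsIso ψ.τ₂] :
    IsIso ψ.τ₃ := by
  have := h₁.epi_g
  have := h₂.epi_g
  have hz : S₂.f ≫ inv ψ.τ₂ ≫ S₁.g = 0 := by
    have h : S₂.f = inv ψ.τ₁ ≫ S₁.f ≫ ψ.τ₂ := by
      rw [← ψ.comm₁₂, IsIso.inv_hom_id_assoc]
    rw [h, Category.assoc, Category.assoc, IsIso.hom_inv_id_assoc, S₁.zero, comp_zero]
  let χ := h₂.gIsCokernel.desc (CokernelCofork.ofπ (inv ψ.τ₂ ≫ S₁.g) hz)
  have hχ : S₂.g ≫ χ = inv ψ.τ₂ ≫ S₁.g :=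
    h₂.gIsCokernel.fac (CokernelCofork.ofπ (inv ψ.τ₂ ≫ S₁.g) hz) WalkingParallelPair.one
  refine ⟨χ, ?_, ?_⟩
  · rw [← cancel_epi S₁.g, ← Category.assoc, ← ψ.comm₂₃, Category.assoc, hχ,
      IsIso.hom_inv_id_assoc, Category.comp_id]
  · rw [← cancel_epi S₂.g, ← Category.assoc, hχ, Category.assoc, ← ψ.comm₂₃,
      IsIso.inv_hom_id_assoc, Category.comp_id]

open Groth.Agent.Lib.Helper18 Groth.Agent.Lib.helper27

theorem toAb_push_obj {X Y : Scheme.{u}} (φ : X ⟶ Y) (M : X.Modules) :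
    (HH.toAbF Y).obj ((Scheme.Modules.pushforward φ).obj M) =
      (Coh.pushAb φ).obj ((HH.toAbF X).obj M) := rfl

theorem toAb_push_map {X Y : Scheme.{u}} (φ : X ⟶ Y) {M N : X.Modules} (f : M ⟶ N) :
    (HH.toAbF Y).map ((Scheme.Modules.pushforward φ).map f) =
      (Coh.pushAb φ).map ((HH.toAbF X).map f) := rfl

/-- a morphism of modules is an isomorphism if it is one on underlying abelian sheaves -/
theorem isIso_of_isIso_toAb {Y : Scheme.{u}} {M N : Y.Modules} (f : M ⟶ N)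
    (h : IsIso ((HH.toAbF Y).map f)) : IsIso f := by
  rw [Hom.isIso_iff_isIso_app]
  intro U
  have h1 : IsIso ((sheafToPresheaf _ _).map ((HH.toAbF Y).map f)) := inferInstance
  have h2 : IsIso (((sheafToPresheaf _ _).map ((HH.toAbF Y).map f)).app (op U)) := inferInstance
  exact h2

theorem pushAb_preservesFiniteLimits {X Y : Scheme.{u}} (f : X ⟶ Y) :
    PreservesFiniteLimits (Coh.pushAb f) := by
  have : PreservesLimitsOfSize.{u, u} (Coh.pushAb f) :=
    (PullConst.pbAdj f.base).rightAdjoint_preservesLimits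
  exact PreservesLimitsOfSize.preservesFiniteLimits _

/-- **Two-out-of-three for `unit` isomorphisms and acyclicity**: if `0 → T₁ → T₂ → T₃ → 0` is short
exact on `Y` with short exact pull-back to `X`, and `T₁`, `T₂` satisfy `Tᵢ ≅ φ_* φ^* Tᵢ` and
`R^p φ_* φ^* Tᵢ = 0` for `p > 0`, then so does `T₃`. -/
theorem main {X Y : Scheme.{u}} (φ : X ⟶ Y) (T : ShortComplex Y.Modules) (hT : T.ShortExact)
    (hpull : (T.map (Scheme.Modules.pullback φ)).ShortExact)
    (hu₁ : IsIso ((Scheme.Modules.pullbackPushforwardAdjunction φ).unit.app T.X₁))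
    (hu₂ : IsIso ((Scheme.Modules.pullbackPushforwardAdjunction φ).unit.app T.X₂))
    (h₁ : ∀ p : ℕ, 0 < p →
      IsZero ((Coh.RpushAb φ p).obj (Coh.toAb ((Scheme.Modules.pullback φ).obj T.X₁))))
    (h₂ : ∀ p : ℕ, 0 < p →
      IsZero ((Coh.RpushAb φ p).obj (Coh.toAb ((Scheme.Modules.pullback φ).obj T.X₂)))) :
    IsIso ((Scheme.Modules.pullbackPushforwardAdjunction φ).unit.app T.X₃) ∧
      ∀ p : ℕ, 0 < p →
        IsZero ((Coh.RpushAb φ p).obj (Coh.toAb ((Scheme.Modules.pullback φ).obj T.X₃))) := by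
  have := pushAb_preservesFiniteLimits φ
  have hS := HH.toAb_shortExact hpull
  obtain ⟨h₃, hex⟩ := (Horseshoe.rightAcyclic_shortExact (Coh.pushAb φ) hS).2.1 h₁ h₂
  refine ⟨?_, h₃⟩
  let adj := Scheme.Modules.pullbackPushforwardAdjunction φ
  let ψ : T.map (HH.toAbF Y) ⟶
      ((T.map (Scheme.Modules.pullback φ)).map (HH.toAbF X)).map (Coh.pushAb φ) :=
    { τ₁ := (HH.toAbF Y).map (adj.unit.app T.X₁)
      τ₂ := (HH.toAbF Y).map (adj.unit.app T.X₂)
      τ₃ := (HH.toAbF Y).map (adj.unit.app T.X₃)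
      comm₁₂ := by
        show (HH.toAbF Y).map (adj.unit.app T.X₁) ≫ (Coh.pushAb φ).map ((HH.toAbF X).map
          ((Scheme.Modules.pullback φ).map T.f)) = (HH.toAbF Y).map T.f ≫
            (HH.toAbF Y).map (adj.unit.app T.X₂)
        exact ((HH.toAbF Y).map_comp (adj.unit.app T.X₁)
            ((Scheme.Modules.pushforward φ).map ((Scheme.Modules.pullback φ).map T.f))).symm.trans
          ((congrArg (HH.toAbF Y).map (adj.unit.naturality T.f).symm).trans
            ((HH.toAbF Y).map_comp T.f (adj.unit.app T.X₂)))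
      comm₂₃ := by
        show (HH.toAbF Y).map (adj.unit.app T.X₂) ≫ (Coh.pushAb φ).map ((HH.toAbF X).map
          ((Scheme.Modules.pullback φ).map T.g)) = (HH.toAbF Y).map T.g ≫
            (HH.toAbF Y).map (adj.unit.app T.X₃)
        exact ((HH.toAbF Y).map_comp (adj.unit.app T.X₂)
            ((Scheme.Modules.pushforward φ).map ((Scheme.Modules.pullback φ).map T.g))).symm.trans
          ((congrArg (HH.toAbF Y).map (adj.unit.naturality T.g).symm).trans
            ((HH.toAbF Y).map_comp T.g (adj.unit.app T.X₃))) }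
  have i1 : IsIso ψ.τ₁ := inferInstanceAs (IsIso ((HH.toAbF Y).map (adj.unit.app T.X₁)))
  have i2 : IsIso ψ.τ₂ := inferInstanceAs (IsIso ((HH.toAbF Y).map (adj.unit.app T.X₂)))
  have hT' : (T.map (HH.toAbF Y)).ShortExact := HH.toAb_shortExact hT
  have i3 := isIso_τ₃ hT' hex ψ
  exact isIso_of_isIso_toAb _ i3

end Groth.Agent.Lib.helper28.PushSES
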