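import Groth.Agent.Lib.Helper28.BlowUpOpenTwist
import Groth.Agent.Lib.Helper28.BlowUpDirect
import Groth.Agent.Lib.Helper28.BlowUpGood2
import Groth.Agent.Lib.Helper12.AmpleBasis
import Groth.Agent.Lib.Helper11.AmpleAffine
import Groth.Agent.Lib.Helper12.TensorInv
import Groth.Agent.Lib.Helper28.PushSES
import Groth.Agent.Lib.Helper11.SqZero2
import Groth.Agent.Lib.Helper21.IdealPow2
import Groth.Agent.Lib.Helper16.FLF5

/-!
# Higher direct images of twists under a blow-up along a regularly embedded centre (helper28)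

`φ : X ⟶ Y` a blow-up of `𝓘`, `J = idealMod (𝓘.comap φ)` the exceptional ideal.
* `GoodAt2`: `GoodAt` with a regular sequence of length `≥ 2`; `goodAt2_of_isRegularImmersionOfCodim`;
* `isZero_RpushAb_tensorPow`: `R^p φ_*(J^{⊗ k}) = 0`, `p > 0`, `k ≥ 0`;
* `isZero_RpushAb_inverse`: `R^p φ_* L = 0`, `p > 0`, for `L` inverse to `J` (codimension `≥ 2`);
* `isZero_RpushAb_of_iso`, `isZero_RpushAb_X₃` (two-out-of-three along a short exact sequence);
* `isZero_RpushAb_exceptional_pow`, `isZero_RpushAb_exceptional_inverse`: `R^p φ_*(O_E(n)) = 0` for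
  `n ≥ 0` and `n = -1` (S13908).
-/

set_option autoImplicit false
set_option linter.unusedSectionVars false
set_option linter.style.haveILetI false
universe u
open CategoryTheory CategoryTheory.Limits AlgebraicGeometry Opposite TopologicalSpace
open Scheme.Modules

namespace Groth.Agent.Lib.helper28.BlowUpDirectTwist

open Groth.Agent.Lib.helper28.BlowUpDirect Groth.Agent.Lib.helper28.BlowUpOpenTwist
  Groth.Agent.Lib.Lead.ModTensor

/-- near `y` the ideal sheaf is generated, on a Noetherian affine open, by a weakly regular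
sequence of length at least two -/
def GoodAt2 {Y : Scheme.{u}} (𝓘 : Y.IdealSheafData) (y : Y) : Prop :=
  ∃ (V : Y.Opens) (hV : IsAffineOpen V), y ∈ V ∧ IsNoetherianRing Γ(Y, V) ∧
    ∃ rs : List Γ(Y, V), 2 ≤ rs.length ∧ RingTheory.Sequence.IsWeaklyRegular Γ(Y, V) rs ∧
      𝓘.ideal ⟨V, hV⟩ = Ideal.ofList rs

theorem GoodAt2.goodAt {Y : Scheme.{u}} {𝓘 : Y.IdealSheafData} {y : Y} (h : GoodAt2 𝓘 y) :
    GoodAt 𝓘 y := by
  obtain ⟨V, hV, hyV, hN, rs, hlen, hreg, hI⟩ := h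
  refine ⟨V, hV, hyV, hN, rs, ?_, hreg, hI⟩
  rintro rfl
  simp at hlen

/-- **`R^p φ_* (J^{⊗ k}) = 0`** for a blow-up along a regularly embedded centre (`J` the
exceptional ideal, `k ≥ 0`, `p > 0`). -/
theorem isZero_RpushAb_tensorPow {X Y : Scheme.{u}} (φ : X ⟶ Y) (𝓘 : Y.IdealSheafData)
    (hφ : BlowUp.IsBlowUp φ 𝓘) (hgood : ∀ y : Y, GoodAt 𝓘 y) (k p : ℕ) (hp : 0 < p) :
    IsZero ((Coh.RpushAb φ p).obj
      (Coh.toAb (CohB1.tensorPow (ClSub.idealMod (𝓘.comap φ)) k))) := by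
  have := isProper_of_goodAt φ 𝓘 hφ hgood
  have hJ : PicF.IsInvertible (ClSub.idealMod (𝓘.comap φ)) :=
    Groth.Agent.Lib.helper7.IdealCartier.invertible_of_effCartier _ hφ.1
  have hqc : (CohB1.tensorPow (ClSub.idealMod (𝓘.comap φ)) k).IsQuasicoherent :=
    Groth.Agent.Lib.helper12.AmpleBasis.isQuasicoherent_of_isInvertible
      (Groth.Agent.Lib.helper12.TensorInv.isInvertible_tensorPow hJ k)
  refine Groth.Agent.Lib.helper11.S0002T3.isZero_RpushAb_of_affine_cover φ _ p hp fun y => ?_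
  obtain ⟨V, hV, hyV, hN, rs, hne, hreg, hI⟩ := hgood y
  exact ⟨V, hV, hyV, (open_twist φ 𝓘 hφ V hV rs hne hreg hI).1 k p hp⟩

/-- **`R^p φ_* L = 0`** for a blow-up along a centre regularly embedded of codimension `≥ 2`
and `L` inverse to the exceptional ideal (`L = O(E)`), `p > 0`. -/
theorem isZero_RpushAb_inverse {X Y : Scheme.{u}} (φ : X ⟶ Y) (𝓘 : Y.IdealSheafData)
    (hφ : BlowUp.IsBlowUp φ 𝓘) (hgood : ∀ y : Y, GoodAt2 𝓘 y) (L : X.Modules)
    (hL : ClSub.IsInverseOf L (ClSub.idealMod (𝓘.comap φ))) (p : ℕ) (hp : 0 < p) :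
    IsZero ((Coh.RpushAb φ p).obj (Coh.toAb L)) := by
  have := isProper_of_goodAt φ 𝓘 hφ fun y => (hgood y).goodAt
  have hJ : PicF.IsInvertible (ClSub.idealMod (𝓘.comap φ)) :=
    Groth.Agent.Lib.helper7.IdealCartier.invertible_of_effCartier _ hφ.1
  have hLinv : PicF.IsInvertible L :=
    Groth.Agent.Lib.helper11.AmpleAffine.isInvertible_of_isInverseOf hJ (isInverseOf_symm hL)
  have hqc : L.IsQuasicoherent :=
    Groth.Agent.Lib.helper12.AmpleBasis.isQuasicoherent_of_isInvertible hLinv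
  refine Groth.Agent.Lib.helper11.S0002T3.isZero_RpushAb_of_affine_cover φ _ p hp fun y => ?_
  obtain ⟨V, hV, hyV, hN, rs, hlen, hreg, hI⟩ := hgood y
  have hne : rs ≠ [] := by
    rintro rfl
    simp at hlen
  exact ⟨V, hV, hyV, (open_twist φ 𝓘 hφ V hV rs hne hreg hI).2 hlen L hL p hp⟩

/-- off the image of a closed immersion, the kernel ideal is the unit ideal `(1, 1)` -/
theorem goodAt2_of_notMem_range {X Y : Scheme.{u}} [IsLocallyNoetherian Y] (f : X ⟶ Y)
    [IsClosedImmersion f] (y : Y) (hy : y ∉ Set.range f) : GoodAt2 f.ker y := by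
  have hopen : IsOpen (Set.range f)ᶜ := f.isClosedEmbedding.isClosed_range.isOpen_compl
  obtain ⟨V, hV, hyV, hVle⟩ := Opens.isBasis_iff_nbhd.mp Y.isBasis_affineOpens
    (show y ∈ (⟨(Set.range f)ᶜ, hopen⟩ : Y.Opens) from hy)
  have hN : IsNoetherianRing Γ(Y, V) := IsLocallyNoetherian.component_noetherian ⟨V, hV⟩
  refine ⟨V, hV, hyV, hN, [1, 1], by simp, ?_, ?_⟩
  · rw [RingTheory.Sequence.isWeaklyRegular_cons_iff, RingTheory.Sequence.isWeaklyRegular_cons_iff]
    exact ⟨IsSMulRegular.one _, IsSMulRegular.one _, RingTheory.Sequence.IsWeaklyRegular.nil _ _⟩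
  · have hempty : f ⁻¹ᵁ V = ⊥ := by
      ext x
      simp only [Opens.coe_bot, Set.mem_empty_iff_false, iff_false]
      intro hx
      exact hVle hx ⟨x, rfl⟩
    have hsub : Subsingleton Γ(X, f ⁻¹ᵁ V) := by
      rw [hempty]
      infer_instance
    have h1 : Ideal.span {r : Γ(Y, V) | r ∈ [1, 1]} = ⊤ := by
      rw [Ideal.eq_top_iff_one]
      exact Ideal.subset_span (by simp)
    rw [Scheme.Hom.ker_apply, Ideal.ofList, h1, eq_top_iff]
    intro a _
    rw [RingHom.mem_ker]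
    exact Subsingleton.elim _ _

theorem goodAt2_of_isRegularImmersionOfCodim {S Y : Scheme.{u}} [IsLocallyNoetherian Y]
    (i : S ⟶ Y) [IsClosedImmersion i] (d : ℕ) (hd : 2 ≤ d)
    (hi : RegImm.IsRegularImmersionOfCodim .regular d i) (y : Y) : GoodAt2 i.ker y := by
  by_cases hy : y ∈ Set.range i
  · obtain ⟨z, rfl⟩ := hy
    obtain ⟨U, hzU, -, rs, hlen, hreg, hker⟩ := hi.2 z
    refine ⟨U.1, U.2, hzU, IsLocallyNoetherian.component_noetherian U, rs, ?_, ?_, ?_⟩
    · omega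
    · exact (show RingTheory.Sequence.IsRegular Γ(Y, U.1) rs from hreg).toIsWeaklyRegular
    · rw [Scheme.Hom.ker_apply]
      exact hker
  · exact goodAt2_of_notMem_range i y hy

section SES

open Groth.Agent.Lib.Helper18 Groth.Agent.Lib.helper27

/-- vanishing of higher direct images is invariant under isomorphisms of modules -/
theorem isZero_RpushAb_of_iso {X Y : Scheme.{u}} (φ : X ⟶ Y) {M N : X.Modules} (e : M ≅ N) (p : ℕ)
    (h : IsZero ((Coh.RpushAb φ p).obj (Coh.toAb N))) :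
    IsZero ((Coh.RpushAb φ p).obj (Coh.toAb M)) :=
  h.of_iso ((Coh.RpushAb φ p).mapIso ((HH.toAbF X).mapIso e))

/-- two-out-of-three for the vanishing of higher direct images along a short exact sequence -/
theorem isZero_RpushAb_X₃ {X Y : Scheme.{u}} (φ : X ⟶ Y) (T : ShortComplex X.Modules)
    (hT : T.ShortExact)
    (h₁ : ∀ p : ℕ, 0 < p → IsZero ((Coh.RpushAb φ p).obj (Coh.toAb T.X₁)))
    (h₂ : ∀ p : ℕ, 0 < p → IsZero ((Coh.RpushAb φ p).obj (Coh.toAb T.X₂))) :
    ∀ p : ℕ, 0 < p → IsZero ((Coh.RpushAb φ p).obj (Coh.toAb T.X₃)) := by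
  have := Groth.Agent.Lib.helper28.PushSES.pushAb_preservesFiniteLimits φ
  have hS := HH.toAb_shortExact hT
  exact ((Horseshoe.rightAcyclic_shortExact (Coh.pushAb φ) hS).2.1 h₁ h₂).1

end SES

section Exceptional

open Groth.Agent.Lib.helper11.SqZero

/-- **`R^p φ_*(O_E(n)) = 0`**, `p > 0`, `n ≥ 0`, for the exceptional divisor `j : E ⟶ X` of a
blow-up along a regularly embedded centre; `O_E(n)` written `j_* j^* (J^n)`. -/
theorem isZero_RpushAb_exceptional_pow {X Y : Scheme.{u}} (φ : X ⟶ Y) (𝓘 : Y.IdealSheafData)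
    (hφ : BlowUp.IsBlowUp φ 𝓘) (hgood : ∀ y : Y, GoodAt 𝓘 y) (n p : ℕ) (hp : 0 < p) :
    IsZero ((Coh.RpushAb φ p).obj (Coh.toAb
      ((Scheme.Modules.pushforward (𝓘.comap φ).subschemeι).obj
        ((Scheme.Modules.pullback (𝓘.comap φ).subschemeι).obj
          (ClSub.idealMod ((𝓘.comap φ) ^ n)))))) := by
  have hJ : PicF.IsInvertible (ClSub.idealMod (𝓘.comap φ)) :=
    Groth.Agent.Lib.helper7.IdealCartier.invertible_of_effCartier _ hφ.1
  obtain ⟨a⟩ := Groth.Agent.Lib.helper21.IdealPow.nonempty_tensorPow_iso_idealMod_pow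
    (𝓘.comap φ) hJ n
  have hM : PicF.IsInvertible (ClSub.idealMod ((𝓘.comap φ) ^ n)) :=
    Groth.Agent.Lib.helper11.InvMod.isInvertible_of_iso a
      (Groth.Agent.Lib.helper12.TensorInv.isInvertible_tensorPow hJ n)
  haveI : (ClSub.idealMod ((𝓘.comap φ) ^ n)).IsQuasicoherent :=
    Groth.Agent.Lib.helper12.AmpleBasis.isQuasicoherent_of_isInvertible hM
  have hT := sesF_shortExact (𝓘.comap φ) (ClSub.idealMod ((𝓘.comap φ) ^ n))
    (Groth.Agent.Lib.helper16.FLF.isFinLocFree_of_isInvertible hM)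
  refine isZero_RpushAb_X₃ φ (sesF (𝓘.comap φ) (ClSub.idealMod ((𝓘.comap φ) ^ n))) hT
    (fun q hq => ?_) (fun q hq => ?_) p hp
  · have e1 : CohB1.tensorMod (ClSub.idealMod ((𝓘.comap φ) ^ n)) (ClSub.idealMod (𝓘.comap φ)) ≅
        CohB1.tensorPow (ClSub.idealMod (𝓘.comap φ)) (n + 1) :=
      tensorIso a.symm (Iso.refl _)
    exact isZero_RpushAb_of_iso φ e1 q (isZero_RpushAb_tensorPow φ 𝓘 hφ hgood (n + 1) q hq)
  · exact isZero_RpushAb_of_iso φ a.symm q (isZero_RpushAb_tensorPow φ 𝓘 hφ hgood n q hq)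

/-- **`R^p φ_*(O_E(-1)) = 0`**, `p > 0`, for the exceptional divisor `j : E ⟶ X` of a blow-up along
a centre regularly embedded of codimension `≥ 2`; `O_E(-1)` written `j_* j^* L`, `L ⊗ J ≅ O_X`. -/
theorem isZero_RpushAb_exceptional_inverse {X Y : Scheme.{u}} (φ : X ⟶ Y) (𝓘 : Y.IdealSheafData)
    (hφ : BlowUp.IsBlowUp φ 𝓘) (hgood : ∀ y : Y, GoodAt2 𝓘 y) (L : X.Modules)
    (hL : ClSub.IsInverseOf L (ClSub.idealMod (𝓘.comap φ))) (p : ℕ) (hp : 0 < p) :
    IsZero ((Coh.RpushAb φ p).obj (Coh.toAb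
      ((Scheme.Modules.pushforward (𝓘.comap φ).subschemeι).obj
        ((Scheme.Modules.pullback (𝓘.comap φ).subschemeι).obj L)))) := by
  have hJ : PicF.IsInvertible (ClSub.idealMod (𝓘.comap φ)) :=
    Groth.Agent.Lib.helper7.IdealCartier.invertible_of_effCartier _ hφ.1
  have hLinv : PicF.IsInvertible L :=
    Groth.Agent.Lib.helper11.AmpleAffine.isInvertible_of_isInverseOf hJ (isInverseOf_symm hL)
  haveI : L.IsQuasicoherent :=
    Groth.Agent.Lib.helper12.AmpleBasis.isQuasicoherent_of_isInvertible hLinv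
  have hT := sesF_shortExact (𝓘.comap φ) L
    (Groth.Agent.Lib.helper16.FLF.isFinLocFree_of_isInvertible hLinv)
  refine isZero_RpushAb_X₃ φ (sesF (𝓘.comap φ) L) hT (fun q hq => ?_) (fun q hq => ?_) p hp
  · obtain ⟨e1⟩ := hL
    exact isZero_RpushAb_of_iso φ e1 q
      ((main φ 𝓘 hφ fun y => (hgood y).goodAt).2 q hq)
  · exact isZero_RpushAb_inverse φ 𝓘 hφ hgood L hL q hq

end Exceptional

end Groth.Agent.Lib.helper28.BlowUpDirectTwist
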