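import Mathlib
import Groth.Agent.Lib.Helper28.BlowUpDirectTwist
import Groth.Agent.Lib.Helper12.TensorInv
import Groth.Agent.Lib.Helper11.InvMod

/-!
# Higher direct images under a blow-up, twisted by a pull-back from the base (helper28)

* `exists_good_le`: good affine neighbourhoods (ideal generated by a weakly regular sequence) can be
  shrunk into any open neighbourhood;
* `subsingleton_HHon_of_isTrivOn`: `H^p(U, L ⊗ N) = 0` if `H^p(U, N) = 0` and `L` is trivial on `U`;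
* `isZero_RpushAb_pullback_tensorPow`: `R^p φ_*(φ^*F ⊗ J^{⊗ k}) = 0` for `p > 0`, `F` invertible on the
  base, `J` the exceptional ideal of a blow-up along a regularly embedded centre.
-/

set_option autoImplicit false
set_option linter.style.haveILetI false
universe u
open CategoryTheory CategoryTheory.Limits AlgebraicGeometry Opposite TopologicalSpace
open Scheme.Modules

namespace Groth.Agent.Lib.helper28.BlowUpTwistBase

open Groth.Agent.Lib.helper28.BlowUpDirect Groth.Agent.Lib.helper28.BlowUpOpenTwist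
  Groth.Agent.Lib.helper28.BlowUpDirectTwist Groth.Agent.Lib.Lead.ModTensor
  Groth.Agent.Lib.helper11.InvMod

/-- good affine neighbourhoods can be shrunk -/
theorem exists_good_le {Y : Scheme.{u}} (𝓘 : Y.IdealSheafData) (V : Y.Opens) (hV : IsAffineOpen V)
    (hN : IsNoetherianRing Γ(Y, V)) (rs : List Γ(Y, V))
    (hreg : RingTheory.Sequence.IsWeaklyRegular Γ(Y, V) rs)
    (hI : 𝓘.ideal ⟨V, hV⟩ = Ideal.ofList rs) (y : Y) (hyV : y ∈ V) (W : Y.Opens) (hyW : y ∈ W) :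
    ∃ (V' : Y.Opens) (hV' : IsAffineOpen V'), y ∈ V' ∧ V' ≤ W ∧ V' ≤ V ∧
      IsNoetherianRing Γ(Y, V') ∧ ∃ rs' : List Γ(Y, V'), rs'.length = rs.length ∧
        RingTheory.Sequence.IsWeaklyRegular Γ(Y, V') rs' ∧ 𝓘.ideal ⟨V', hV'⟩ = Ideal.ofList rs' := by
  obtain ⟨g, hgW, hyg⟩ := hV.exists_basicOpen_le ⟨y, hyW⟩ hyV
  have hV' : IsAffineOpen (Y.basicOpen g) := hV.basicOpen g
  letI : Algebra Γ(Y, V) Γ(Y, Y.basicOpen g) :=
    (Y.presheaf.map (homOfLE (Y.basicOpen_le g)).op).hom.toAlgebra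
  haveI : IsLocalization.Away g Γ(Y, Y.basicOpen g) := hV.isLocalization_basicOpen g
  have hN' : IsNoetherianRing Γ(Y, Y.basicOpen g) :=
    IsLocalization.isNoetherianRing (Submonoid.powers g) Γ(Y, Y.basicOpen g) hN
  refine ⟨Y.basicOpen g, hV', hyg, hgW, Y.basicOpen_le g, hN',
    rs.map (algebraMap Γ(Y, V) Γ(Y, Y.basicOpen g)), by simp,
    RingTheory.Sequence.IsWeaklyRegular.of_isLocalization Γ(Y, Y.basicOpen g)
      (Submonoid.powers g) hreg, ?_⟩
  refine (𝓘.map_ideal_basicOpen ⟨V, hV⟩ g).symm.trans ?_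
  rw [hI, Ideal.map_ofList]
  rfl

theorem goodAt_le {Y : Scheme.{u}} {𝓘 : Y.IdealSheafData} {y : Y} (h : GoodAt 𝓘 y)
    (W : Y.Opens) (hyW : y ∈ W) :
    ∃ (V : Y.Opens) (hV : IsAffineOpen V), y ∈ V ∧ V ≤ W ∧ IsNoetherianRing Γ(Y, V) ∧
      ∃ rs : List Γ(Y, V), rs ≠ [] ∧ RingTheory.Sequence.IsWeaklyRegular Γ(Y, V) rs ∧
        𝓘.ideal ⟨V, hV⟩ = Ideal.ofList rs := by
  obtain ⟨V, hV, hyV, hN, rs, hne, hreg, hI⟩ := h
  obtain ⟨V', hV', hyV', hle, -, hN', rs', hlen, hreg', hI'⟩ :=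
    exists_good_le 𝓘 V hV hN rs hreg hI y hyV W hyW
  refine ⟨V', hV', hyV', hle, hN', rs', ?_, hreg', hI'⟩
  rintro rfl
  apply hne
  exact List.length_eq_zero_iff.mp (by simpa using hlen.symm)

/-- `H^p(U, L ⊗ N) = 0` if `H^p(U, N) = 0` and `L` is trivial on `U` -/
theorem subsingleton_HHon_of_isTrivOn {X : Scheme.{u}} (L N : X.Modules) (U : X.Opens)
    (hL : IsTrivOn L U) (p : ℕ) (h : Subsingleton (Coh.HHon X N U p)) :
    Subsingleton (Coh.HHon X (CohB1.tensorMod L N) U p) := by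
  obtain ⟨e⟩ := hL
  have i : (CohB1.tensorMod L N).restrict U.ι ≅ N.restrict U.ι :=
    (Scheme.Modules.restrictFunctor U.ι).mapIso (braid L N) ≪≫
      Groth.Agent.Lib.helper12.TensorInv.tensorTrivIso N L U e
  exact (Groth.Agent.Lib.Helper18.P1Euler.hhEquivOfIso i p).subsingleton_congr.mpr h

/-- **`R^p φ_*(φ^*F ⊗ J^{⊗ k}) = 0`** (`p > 0`, `k ≥ 0`) for a blow-up `φ` along a regularly
embedded centre, `J` the exceptional ideal and `F` invertible on the base. -/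
theorem isZero_RpushAb_pullback_tensorPow {X Y : Scheme.{u}} (φ : X ⟶ Y) (𝓘 : Y.IdealSheafData)
    (hφ : BlowUp.IsBlowUp φ 𝓘) (hgood : ∀ y : Y, GoodAt 𝓘 y) (F : Y.Modules)
    (hF : PicF.IsInvertible F) (k p : ℕ) (hp : 0 < p) :
    IsZero ((Coh.RpushAb φ p).obj (Coh.toAb (CohB1.tensorMod ((Scheme.Modules.pullback φ).obj F)
      (CohB1.tensorPow (ClSub.idealMod (𝓘.comap φ)) k)))) := by
  have := isProper_of_goodAt φ 𝓘 hφ hgood
  have hJ : PicF.IsInvertible (ClSub.idealMod (𝓘.comap φ)) :=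
    Groth.Agent.Lib.helper7.IdealCartier.invertible_of_effCartier _ hφ.1
  have hqc : (CohB1.tensorMod ((Scheme.Modules.pullback φ).obj F)
      (CohB1.tensorPow (ClSub.idealMod (𝓘.comap φ)) k)).IsQuasicoherent :=
    Groth.Agent.Lib.helper12.AmpleBasis.isQuasicoherent_of_isInvertible
      (Groth.Agent.Lib.helper12.TensorInv.isInvertible_tensorMod (isInvertible_pullback φ hF)
        (Groth.Agent.Lib.helper12.TensorInv.isInvertible_tensorPow hJ k))
  refine Groth.Agent.Lib.helper11.S0002T3.isZero_RpushAb_of_affine_cover φ _ p hp fun y => ?_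
  obtain ⟨U, hyU, hU⟩ := hF y
  obtain ⟨V, hV, hyV, hVU, hN, rs, hne, hreg, hI⟩ := goodAt_le (hgood y) U hyU
  refine ⟨V, hV, hyV, ?_⟩
  exact subsingleton_HHon_of_isTrivOn _ _ _ (IsTrivOn.pullback φ (IsTrivOn.of_le hVU hU)) p
    ((open_twist φ 𝓘 hφ V hV rs hne hreg hI).1 k p hp)

end Groth.Agent.Lib.helper28.BlowUpTwistBase
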