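import Mathlib
import Groth.Prelude.Def_LCI2
import Groth.Agent.LibKoszulIndep29
import Groth.Agent.LibKoszulDescent29
import Groth.Agent.LibKoszulFlat29
import Groth.Agent.LibKoszulComp29
import Groth.Agent.LibRegImmBasic29
import Groth.Agent.LibSecReg29
import Groth.Agent.Lib.Helper28.ReesPres

/-!
# The chart rings of the blow-up of a Koszul-regular ideal are lci (helper28)

* `isKoszulRegularSeq_of_cons_of_away`: if `x :: l` is Koszul-regular in `A` and the image of `l`
  is Koszul-regular in `A[1/x]`, then `l` is Koszul-regular.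
* `isKoszulRegularSeq_gens`: for a Koszul-regular sequence `f_1, …, f_r` of `A`, the sequence
  `X_i - 1, f_i X_j - f_j (j ≠ i)` of `A[X_1, …, X_r]` is Koszul-regular.
* `isLCI_chart`: the chart ring `A[I/f_i]` is an lci `A`-algebra.
-/

set_option autoImplicit false
set_option linter.style.haveILetI false
set_option linter.unusedTactic false

universe u

open CategoryTheory CategoryTheory.Limits

namespace Groth.Agent.Lib.helper28.KoszulChart

attribute [local instance] HasDerivedCategory.standard

open Groth.Agent.LibKoszulIndep29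

section Cons

open CochainComplex HomologicalComplex TensorProduct

variable {A A' : Type u} [CommRing A] [CommRing A']

/-- multiplication by `x` is injective on `H^n K(l)` if `H^{n-1} K(x :: l) = 0`. -/
theorem smul_injective_of_isZero (x : A) (l : List A) (n : ℤ)
    (h : IsZero ((Koszul.koszul A (x :: l)).homology (n - 1))) (m : H l n) (hm : x • m = 0) :
    m = 0 := by
  let φ : Koszul.koszul A l ⟶ Koszul.koszul A l := x • 𝟙 (Koszul.koszul A l)
  have hT := DerivedCategory.mappingCone_triangle_distinguished φ
  have hex := CochainComplex.homologyMap_exact₁_of_distTriang _ hT (n - 1) n (by omega)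
  have h0 : IsZero ((mappingCone φ).homology (n - 1)) := h
  have hmono : Mono (homologyMap φ n) := hex.mono_g (h0.eq_of_src _ _)
  have hinj := (ModuleCat.mono_iff_injective _).1 hmono
  apply hinj
  rw [map_zero]
  have h1 : homologyMap φ n = x • 𝟙 _ := by
    rw [Groth.Agent.Lib.helper26.Kos.homologyMap_smul', homologyMap_id]
  rw [h1]
  simp only [ModuleCat.hom_smul, ModuleCat.hom_id, LinearMap.smul_apply, LinearMap.id_apply]
  exact hm

/-- **Removing a first element which becomes invertible.** -/
theorem isKoszulRegularSeq_of_cons_of_away (φ : A →+* A') (x : A)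
    (hloc : letI := φ.toAlgebra; IsLocalization.Away x A') (l : List A)
    (h1 : LCI.IsKoszulRegularSeq A (x :: l)) (h2 : LCI.IsKoszulRegularSeq A' (l.map φ)) :
    LCI.IsKoszulRegularSeq A l := by
  intro n hn
  rcases lt_or_gt_of_ne hn with hlt | hgt
  · -- negative degrees
    letI := φ.toAlgebra
    haveI : IsLocalization.Away x A' := hloc
    have hflat : φ.Flat := IsLocalization.flat A' (Submonoid.powers x)
    have hz : ∀ m : H l n, m = 0 := by
      intro m
      have e1 := Groth.Agent.LibKoszulDescent29.one_tmul_eq_zero_of_isKoszulRegularSeq_map φ hflat l n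
        hn h2 m
      haveI : IsLocalizedModule (Submonoid.powers x) (TensorProduct.mk A A' (H l n) 1) :=
        (isLocalizedModule_iff_isBaseChange (Submonoid.powers x) A' _).mpr
          (TensorProduct.isBaseChange A (H l n) A')
      have e2 : (TensorProduct.mk A A' (H l n) 1) m = 0 := e1
      obtain ⟨⟨_, k, rfl⟩, hk⟩ :=
        (IsLocalizedModule.eq_zero_iff (Submonoid.powers x) (TensorProduct.mk A A' (H l n) 1)).1 e2
      have hk' : x ^ k • m = 0 := hk
      clear hk e2 e1
      induction k with
      | zero => simpa using hk'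
      | succ k ih =>
        apply ih
        apply smul_injective_of_isZero x l n (h1 (n - 1) (by omega))
        rw [← mul_smul, ← pow_succ']
        exact hk'
    haveI : Subsingleton (H l n) := ⟨fun a b => (hz a).trans (hz b).symm⟩
    exact ModuleCat.isZero_of_subsingleton _
  · haveI := subsingleton_H_of_pos l n hgt
    exact ModuleCat.isZero_of_subsingleton _

end Cons

section Poly

open MvPolynomial Groth.Agent.LibSecReg29 Groth.Agent.Lib.helper28

theorem ofList_ofFn {R : Type*} [CommSemiring R] {n : ℕ} (g : Fin n → R) :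
    Ideal.ofList (List.ofFn g) = Ideal.span (Set.range g) := by
  unfold Ideal.ofList
  congr 1
  ext x
  simp [List.mem_ofFn]

/-- the translated variables form a Koszul-regular sequence. -/
theorem isKoszulRegularSeq_X_sub_C (B : Type u) [CommRing B] (n : ℕ) (t : Fin n → B) :
    LCI.IsKoszulRegularSeq (MvPolynomial (Fin n) B)
      (List.ofFn fun j : Fin n => (X j - C (t j) : MvPolynomial (Fin n) B)) := by
  have h0 := Groth.Agent.LibRegImmBasic29.isKoszulRegularSeq_of_isWeaklyRegular _
    (isWeaklyRegular_X B n)
  have h1 := Groth.Agent.LibKoszulFlat29.isKoszulRegularSeq_map_of_flat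
    (φ := (transl t).toRingHom) (.of_bijective (transl_bijective t)) _ h0
  rw [List.map_ofFn] at h1
  have : ((transl t).toRingHom : MvPolynomial (Fin n) B → MvPolynomial (Fin n) B) ∘
      (fun i : Fin n => (X i : MvPolynomial (Fin n) B)) = fun j => X j - C (t j) := by
    funext j
    simp [transl]
  rw [this] at h1
  exact h1

/-- a single translated variable is a Koszul-regular sequence. -/
theorem isKoszulRegularSeq_singleton_X_sub_C (B : Type u) [CommRing B] (n : ℕ) (i : Fin n) (c : B) :
    LCI.IsKoszulRegularSeq (MvPolynomial (Fin n) B) [(X i - C c : MvPolynomial (Fin n) B)] := by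
  have hw : RingTheory.Sequence.IsWeaklyRegular (MvPolynomial (Fin n) B)
      [(X i : MvPolynomial (Fin n) B)] := by
    rw [RingTheory.Sequence.isWeaklyRegular_singleton_iff]
    exact (isRegular_X (R := B) (n := i)).left.isSMulRegular
  have h0 := Groth.Agent.LibRegImmBasic29.isKoszulRegularSeq_of_isWeaklyRegular _ hw
  have h1 := Groth.Agent.LibKoszulFlat29.isKoszulRegularSeq_map_of_flat
    (φ := (transl fun _ : Fin n => c).toRingHom) (.of_bijective (transl_bijective _)) _ h0
  have : [(X i : MvPolynomial (Fin n) B)].map (transl fun _ : Fin n => c).toRingHom =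
      [X i - C c] := by
    simp [transl]
  rw [this] at h1
  exact h1

variable {A : Type u} [CommRing A] {r : ℕ} (f : Fin r → A) (i : Fin r)

/-- the generators `X_i - 1`, `f_i X_j - f_j` (`j ≠ i`) of the relations ideal. -/
noncomputable def gen (j : Fin r) : MvPolynomial (Fin r) A :=
  if j = i then X i - 1 else C (f i) * X j - C (f j)

theorem gen_self : gen f i i = X i - 1 := if_pos rfl

theorem gen_of_ne {j : Fin r} (hj : j ≠ i) : gen f i j = C (f i) * X j - C (f j) := if_neg hj

theorem span_range_gen : Ideal.span (Set.range (gen f i)) = ReesPres.J f i := by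
  apply le_antisymm
  · rw [Ideal.span_le]
    rintro _ ⟨j, rfl⟩
    by_cases hj : j = i
    · subst hj
      rw [gen_self]
      exact ReesPres.X_sub_one_mem_J f j
    · rw [gen_of_ne f i hj]
      exact ReesPres.rel_mem_J f i j
  · rw [ReesPres.J, sup_le_iff, Ideal.span_le, Ideal.span_le]
    constructor
    · rintro _ rfl
      exact Ideal.subset_span ⟨i, gen_self f i⟩
    · rintro _ ⟨j, rfl⟩
      by_cases hj : j = i
      · subst hj
        have : (C (f j) * X j - C (f j) : MvPolynomial (Fin r) A) = C (f j) * gen f j j := by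
          rw [gen_self]
          ring
        change (C (f j) * X j - C (f j) : MvPolynomial (Fin r) A) ∈ _
        rw [this]
        exact Ideal.mul_mem_left _ _ (Ideal.subset_span ⟨j, rfl⟩)
      · exact Ideal.subset_span ⟨j, gen_of_ne f i hj⟩

/-- `f_i, X_i - 1, f_i X_j - f_j` generate the same ideal as `X_i - 1, f_1, …, f_r`. -/
theorem ofList_cons_gen :
    Ideal.ofList (C (f i) :: List.ofFn (gen f i)) =
      Ideal.ofList ([(X i - 1 : MvPolynomial (Fin r) A)] ++ List.ofFn fun j => C (f j)) := by
  rw [Ideal.ofList_cons, Ideal.ofList_append, Ideal.ofList_singleton, ofList_ofFn, ofList_ofFn]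
  apply le_antisymm
  · rw [sup_le_iff, Ideal.span_le, Ideal.span_le]
    constructor
    · rintro _ rfl
      exact Ideal.mem_sup_right (Ideal.subset_span ⟨i, rfl⟩)
    · rintro _ ⟨j, rfl⟩
      by_cases hj : j = i
      · subst hj
        rw [gen_self]
        exact Ideal.mem_sup_left (Ideal.subset_span rfl)
      · rw [gen_of_ne f i hj]
        refine Ideal.mem_sup_right (sub_mem (Ideal.mul_mem_right _ _ ?_) ?_)
        · exact Ideal.subset_span ⟨i, rfl⟩
        · exact Ideal.subset_span ⟨j, rfl⟩
  · rw [sup_le_iff, Ideal.span_le, Ideal.span_le]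
    constructor
    · rintro _ rfl
      exact Ideal.mem_sup_right (Ideal.subset_span ⟨i, gen_self f i⟩)
    · rintro _ ⟨j, rfl⟩
      by_cases hj : j = i
      · subst hj
        exact Ideal.mem_sup_left (Ideal.subset_span rfl)
      · have : (C (f j) : MvPolynomial (Fin r) A) = C (f i) * X j - gen f i j := by
          rw [gen_of_ne f i hj]
          ring
        change (C (f j) : MvPolynomial (Fin r) A) ∈ _
        rw [this]
        refine sub_mem (Ideal.mem_sup_left (Ideal.mul_mem_right _ _ (Ideal.subset_span rfl))) ?_
        exact Ideal.mem_sup_right (Ideal.subset_span ⟨j, rfl⟩)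

/-- `X_i - 1, f_1, …, f_r` is Koszul-regular in `A[X]`. -/
theorem isKoszulRegularSeq_X_sub_one_append (hf : LCI.IsKoszulRegularSeq A (List.ofFn f)) :
    LCI.IsKoszulRegularSeq (MvPolynomial (Fin r) A)
      ([(X i - 1 : MvPolynomial (Fin r) A)] ++ List.ofFn fun j => C (f j)) := by
  set I : Ideal A := Ideal.ofList (List.ofFn f) with hI
  have hfs : LCI.IsKoszulRegularSeq (MvPolynomial (Fin r) A) ((List.ofFn f).map C) := by
    refine Groth.Agent.LibKoszulFlat29.isKoszulRegularSeq_map_of_flat
      (φ := (C : A →+* MvPolynomial (Fin r) A)) ?_ _ hf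
    rw [← MvPolynomial.algebraMap_eq, RingHom.flat_algebraMap_iff]
    infer_instance
  have hmap : (List.ofFn f).map (C : A →+* MvPolynomial (Fin r) A) =
      List.ofFn fun j => (C (f j) : MvPolynomial (Fin r) A) := by
    rw [List.map_ofFn]
    rfl
  rw [hmap] at hfs
  refine Groth.Agent.LibKoszulComp29.isKoszulRegularSeq_append
    (π := MvPolynomial.map (Ideal.Quotient.mk I))
    (MvPolynomial.map_surjective _ Ideal.Quotient.mk_surjective) _ _ ?_ hfs ?_
  · rw [MvPolynomial.ker_map, Ideal.mk_ker, hI, Ideal.map_ofList, hmap]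
  · have : [(X i - 1 : MvPolynomial (Fin r) A)].map (MvPolynomial.map (Ideal.Quotient.mk I)) =
        [(X i - C 1 : MvPolynomial (Fin r) (A ⧸ I))] := by
      simp
    rw [this]
    exact isKoszulRegularSeq_singleton_X_sub_C (A ⧸ I) r i 1

/-- `f_i, X_i - 1, f_i X_j - f_j (j ≠ i)` is Koszul-regular in `A[X]`. -/
theorem isKoszulRegularSeq_cons_gen (hf : LCI.IsKoszulRegularSeq A (List.ofFn f)) :
    LCI.IsKoszulRegularSeq (MvPolynomial (Fin r) A) (C (f i) :: List.ofFn (gen f i)) :=
  isKoszulRegularSeq_of_ofList_eq _ _ (isKoszulRegularSeq_X_sub_one_append f i hf)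
    (ofList_cons_gen f i) (by simp)

end Poly

section Loc

open MvPolynomial Groth.Agent.LibSecReg29 Groth.Agent.Lib.helper28

attribute [local instance] MvPolynomial.algebraMvPolynomial

variable {A : Type u} [CommRing A] {r : ℕ} (f : Fin r → A) (i : Fin r)

/-- `f_j / f_i` in `A[1/f_i]`. -/
noncomputable def cc (j : Fin r) : Localization.Away (f i) :=
  IsLocalization.mk' (Localization.Away (f i)) (f j)
    (⟨f i, Submonoid.mem_powers _⟩ : Submonoid.powers (f i))

theorem cc_self : cc f i i = 1 := by
  unfold cc
  exact IsLocalization.mk'_self'' (M := Submonoid.powers (f i)) (Localization.Away (f i))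

theorem algebraMap_mul_cc (j : Fin r) :
    algebraMap A (Localization.Away (f i)) (f i) * cc f i j =
      algebraMap A (Localization.Away (f i)) (f j) := by
  unfold cc
  exact IsLocalization.mk'_spec' _ (f j) (⟨f i, Submonoid.mem_powers _⟩ : Submonoid.powers (f i))

theorem map_gen (j : Fin r) :
    MvPolynomial.map (algebraMap A (Localization.Away (f i))) (gen f i j) =
      (if j = i then 1 else C (algebraMap A (Localization.Away (f i)) (f i))) *
        (X j - C (cc f i j)) := by
  by_cases hj : j = i
  · subst hj
    rw [gen_self, if_pos rfl, cc_self]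
    simp
  · rw [gen_of_ne f i hj, if_neg hj, mul_sub, ← C_mul, algebraMap_mul_cc]
    simp

/-- **The relations of the chart `A[I/f_i]` form a Koszul-regular sequence.** -/
theorem isKoszulRegularSeq_gen (hf : LCI.IsKoszulRegularSeq A (List.ofFn f)) :
    LCI.IsKoszulRegularSeq (MvPolynomial (Fin r) A) (List.ofFn (gen f i)) := by
  refine isKoszulRegularSeq_of_cons_of_away
    (MvPolynomial.map (algebraMap A (Localization.Away (f i)))) (C (f i)) ?_ _
    (isKoszulRegularSeq_cons_gen f i hf) ?_
  · have := MvPolynomial.isLocalization (σ := Fin r) (Submonoid.powers (f i))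
      (Localization.Away (f i))
    rw [Submonoid.map_powers] at this
    exact this
  · refine isKoszulRegularSeq_of_ofList_eq _ _
      (isKoszulRegularSeq_X_sub_C (Localization.Away (f i)) r (cc f i)) ?_ (by simp)
    rw [List.map_ofFn, ofList_ofFn, ofList_ofFn]
    have hu : IsUnit (algebraMap A (Localization.Away (f i)) (f i)) :=
      IsLocalization.Away.algebraMap_isUnit (f i)
    obtain ⟨v, hv⟩ := hu.exists_left_inv
    apply le_antisymm
    · rw [Ideal.span_le]
      rintro _ ⟨j, rfl⟩
      change MvPolynomial.map (algebraMap A (Localization.Away (f i))) (gen f i j) ∈ _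
      rw [map_gen]
      exact Ideal.mul_mem_left _ _ (Ideal.subset_span ⟨j, rfl⟩)
    · rw [Ideal.span_le]
      rintro _ ⟨j, rfl⟩
      have : (X j - C (cc f i j) : MvPolynomial (Fin r) (Localization.Away (f i))) =
          (if j = i then 1 else C v) *
            MvPolynomial.map (algebraMap A (Localization.Away (f i))) (gen f i j) := by
        rw [map_gen]
        by_cases hj : j = i
        · rw [if_pos hj, if_pos hj, one_mul, one_mul]
        · rw [if_neg hj, if_neg hj, ← mul_assoc, ← C_mul, hv, C_1, one_mul]
      change (X j - C (cc f i j) : MvPolynomial (Fin r) (Localization.Away (f i))) ∈ _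
      rw [this]
      exact Ideal.mul_mem_left _ _ (Ideal.subset_span ⟨j, rfl⟩)

theorem ofList_gen : Ideal.ofList (List.ofFn (gen f i)) = ReesPres.J f i := by
  rw [ofList_ofFn, span_range_gen]

end Loc

section Ideal

variable {P : Type u} [CommRing P]

/-- an ideal generated by a Koszul-regular sequence is a Koszul-regular ideal. -/
theorem isKoszulRegularIdeal_of_seq (J : Ideal P) (l : List P) (hl : LCI.IsKoszulRegularSeq P l)
    (hJ : Ideal.ofList l = J) : LCI.IsKoszulRegularIdeal J := by
  intro 𝔭 _
  refine ⟨1, ?_, l.map (algebraMap P (Localization.Away (1 : P))), ?_, ?_⟩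
  · exact fun h => 𝔭.isPrime.ne_top ((Ideal.eq_top_iff_one _).2 h)
  · refine Groth.Agent.LibKoszulFlat29.isKoszulRegularSeq_map_of_flat
      (algebraMap P (Localization.Away (1 : P))) ?_ _ hl
    rw [RingHom.flat_algebraMap_iff]
    exact IsLocalization.flat _ (Submonoid.powers (1 : P))
  · rw [← hJ, Ideal.map_ofList]

end Ideal

section Chart

open Groth.Agent.Lib.helper16.ReesBlowup Groth.Agent.Lib.helper28 Groth.Agent.Lib.helper28.ReesPres

variable {A : Type u} [CommRing A] (I : Ideal A) {r : ℕ} (f : Fin r → A) (hmem : ∀ j, f j ∈ I)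

theorem ker_π_eq (hf : LCI.IsKoszulRegularSeq A (List.ofFn f)) (i : Fin r) :
    RingHom.ker (π I f hmem i) = J f i :=
  le_antisymm
    (ker_π_le I f hmem i
      (Groth.Agent.Lib.helper7.KoszulLow.isH1Regular_of_isKoszulRegularSeq_ofFn A f hf))
    (J_le_ker I f hmem i)

/-- **The chart ring `A[I/f_i]` of the blow-up of an ideal generated by a Koszul-regular sequence
is a local complete intersection over `A`.** -/
theorem isLCI_chart (hspan : I ≤ Ideal.span (Set.range f))
    (hf : LCI.IsKoszulRegularSeq A (List.ofFn f)) (i : Fin r) :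
    @LCI.IsLCI A _ (ReesFlat.C I (f i) (hmem i)) _ (toAway I (f i) (hmem i)).toAlgebra := by
  letI inst : Algebra A (ReesFlat.C I (f i) (hmem i)) := (toAway I (f i) (hmem i)).toAlgebra
  let g : MvPolynomial (Fin r) A →ₐ[A] ReesFlat.C I (f i) (hmem i) :=
    { π I f hmem i with
      commutes' := fun a => π_C I f hmem i a }
  have hg : Function.Surjective g := π_surjective I f hmem i hspan
  refine ⟨Algebra.FiniteType.of_surjective g hg, r, g, hg, ?_⟩
  have hk : RingHom.ker g.toRingHom = J f i := ker_π_eq I f hmem hf i
  rw [hk]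
  exact isKoszulRegularIdeal_of_seq _ _ (isKoszulRegularSeq_gen f i hf) (ofList_gen f i)

end Chart

end Groth.Agent.Lib.helper28.KoszulChart
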