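import Mathlib
import Groth.Agent.LibSecReg29
import Groth.Agent.Lib.Helper10.Jac1
import Groth.Agent.Lib.Helper28.KoszulChart
import Groth.Agent.Lib.Helper18.RegPoint
import Groth.Agent.Lib.Helper28.BlowUpDirectTwist
import Groth.Agent.Lib.Helper20.JacHyp2
import Groth.Agent.Lib.Helper12.Hyperplane3
import Groth.Agent.Lib.Lead.SerreFin

set_option autoImplicit false
set_option linter.style.haveILetI false
universe u
open MvPolynomial RingTheory.Sequence

namespace Groth.Agent.Lib.helper28.PnPoints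

section Algebra

open Groth.Agent.LibSecReg29 Groth.Agent.Lib.helper10.Jac Groth.Agent.Lib.helper28.KoszulChart

theorem vanishingIdeal_singleton_eq_span {k : Type u} [Field k] {σ : Type*} [Fintype σ] (x : σ → k) :
    (MvPolynomial.vanishingIdeal k {x} : Ideal (MvPolynomial σ k)) =
      Ideal.span (Set.range fun i => (X i - C (x i) : MvPolynomial σ k)) := by
  rw [← ptIdeal_eq_span]
  ext p
  rw [MvPolynomial.mem_vanishingIdeal_singleton_iff, mem_ptIdeal]
  rfl

/-- a maximal ideal of a polynomial ring `k[X_1..X_m]` over an algebraically closed field is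
generated by a weakly regular sequence of length `m` -/
theorem exists_regular_of_isMaximal_fin {k : Type u} [Field k] [IsAlgClosed k] {m : ℕ} {A : Type u}
    [CommRing A] (E : MvPolynomial (Fin m) k ≃+* A) (𝔭 : Ideal A) (h𝔭 : 𝔭.IsMaximal) :
    ∃ rs : List A, rs.length = m ∧ IsWeaklyRegular A rs ∧ 𝔭 = Ideal.ofList rs := by
  have hq : (𝔭.comap E.toRingHom).IsMaximal :=
    Ideal.comap_isMaximal_of_surjective E.toRingHom E.surjective
  obtain ⟨x, hx⟩ := MvPolynomial.isMaximal_iff_eq_vanishingIdeal_singleton.mp hq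
  let T : MvPolynomial (Fin m) k ≃+* MvPolynomial (Fin m) k :=
    (AlgEquiv.ofBijective (transl x) (transl_bijective x)).toRingEquiv
  have hT : ∀ i, T (X i) = X i - C (x i) := fun i => by
    simp [T, transl]
  let ρ := T.trans E
  refine ⟨(List.ofFn fun i : Fin m => (X i : MvPolynomial (Fin m) k)).map ρ, by simp, ?_, ?_⟩
  · exact (AddEquiv.isWeaklyRegular_congr (e := ρ.toAddEquiv) (List.forall₂_map_right_iff.mpr
      (List.forall₂_same.mpr fun r _ x => map_mul ρ r x))).mp (isWeaklyRegular_X k m)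
  · have h1 : 𝔭 = (𝔭.comap E.toRingHom).map E.toRingHom :=
      (Ideal.map_comap_of_surjective _ E.surjective _).symm
    rw [h1, hx, vanishingIdeal_singleton_eq_span, Ideal.map_span, List.map_ofFn, ofList_ofFn]
    congr 1
    ext a
    simp only [Set.mem_image, Set.mem_range, Function.comp_apply, exists_exists_eq_and]
    constructor
    · rintro ⟨i, rfl⟩
      exact ⟨i, by simp [ρ, hT]⟩
    · rintro ⟨i, rfl⟩
      exact ⟨i, by simp [ρ, hT]⟩

/-- the same for any finite set of variables -/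
theorem exists_regular_of_isMaximal {k : Type u} [Field k] [IsAlgClosed k] {σ : Type} [Fintype σ]
    {A : Type u} [CommRing A] (E : MvPolynomial σ k ≃+* A) (𝔭 : Ideal A) (h𝔭 : 𝔭.IsMaximal) :
    ∃ rs : List A, rs.length = Fintype.card σ ∧ IsWeaklyRegular A rs ∧ 𝔭 = Ideal.ofList rs :=
  exists_regular_of_isMaximal_fin
    ((MvPolynomial.renameEquiv k (Fintype.equivFin σ).symm).toRingEquiv.trans E) 𝔭 h𝔭

end Algebra

section Sch

open AlgebraicGeometry TopologicalSpace CategoryTheory Opposite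
open Groth.Agent.Lib.helper28.BlowUpDirectTwist

variable {Y : Scheme.{u}}

/-- the ideal of `vanishingIdeal Z` on an affine open `V` depends only on `Z ∩ V` -/
theorem vanishingIdeal_ideal_congr (Z Z' : Closeds Y) (V : Y.affineOpens)
    (h : ∀ z ∈ V.1, z ∈ Z ↔ z ∈ Z') :
    (Scheme.IdealSheafData.vanishingIdeal Z).ideal V =
      (Scheme.IdealSheafData.vanishingIdeal Z').ideal V := by
  rw [Scheme.IdealSheafData.vanishingIdeal_ideal, Scheme.IdealSheafData.vanishingIdeal_ideal]
  congr 1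
  ext q
  have hq : V.2.fromSpec q ∈ V.1 := V.2.range_fromSpec.subset ⟨q, rfl⟩
  exact h _ hq

theorem vanishingIdeal_ideal_eq_top (Z : Closeds Y) (V : Y.affineOpens)
    (h : ∀ z ∈ V.1, z ∉ Z) :
    (Scheme.IdealSheafData.vanishingIdeal Z).ideal V = ⊤ := by
  rw [Scheme.IdealSheafData.vanishingIdeal_ideal]
  have h1 : (V.2.fromSpec ⁻¹' (Z : Set Y)) = ∅ := by
    ext q
    simp only [Set.mem_preimage, Set.mem_empty_iff_false, iff_false]
    exact h _ (V.2.range_fromSpec.subset ⟨q, rfl⟩)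
  exact (congrArg PrimeSpectrum.vanishingIdeal h1).trans PrimeSpectrum.vanishingIdeal_empty

/-- off `Z` the vanishing ideal is the unit ideal `(1, 1)` -/
theorem goodAt2_of_notMem [IsLocallyNoetherian Y] (Z : Closeds Y) (y : Y) (hy : y ∉ Z) :
    GoodAt2 (Scheme.IdealSheafData.vanishingIdeal Z) y := by
  have hopen : IsOpen ((Z : Set Y)ᶜ) := Z.isClosed.isOpen_compl
  obtain ⟨V, hV, hyV, hVle⟩ := Opens.isBasis_iff_nbhd.mp Y.isBasis_affineOpens
    (show y ∈ (⟨(Z : Set Y)ᶜ, hopen⟩ : Y.Opens) from hy)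
  have hN : IsNoetherianRing Γ(Y, V) := IsLocallyNoetherian.component_noetherian ⟨V, hV⟩
  refine ⟨V, hV, hyV, hN, [1, 1], by simp, ?_, ?_⟩
  · rw [RingTheory.Sequence.isWeaklyRegular_cons_iff, RingTheory.Sequence.isWeaklyRegular_cons_iff]
    exact ⟨IsSMulRegular.one _, IsSMulRegular.one _, RingTheory.Sequence.IsWeaklyRegular.nil _ _⟩
  · have h1 : Ideal.span {r : Γ(Y, V) | r ∈ [1, 1]} = ⊤ := by
      rw [Ideal.eq_top_iff_one]
      exact Ideal.subset_span (by simp)
    rw [vanishingIdeal_ideal_eq_top Z ⟨V, hV⟩ (fun z hz => hVle hz), Ideal.ofList, h1]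

theorem isMaximal_primeIdealOf {U : Y.Opens} (hU : IsAffineOpen U) (y : Y) (hyU : y ∈ U)
    (hcl : IsClosed ({y} : Set Y)) : (hU.primeIdealOf ⟨y, hyU⟩).asIdeal.IsMaximal := by
  have h1 : (hU.fromSpec ⁻¹' ({y} : Set Y)) = {hU.primeIdealOf ⟨y, hyU⟩} := by
    ext q
    simp only [Set.mem_preimage, Set.mem_singleton_iff]
    constructor
    · intro h
      apply hU.fromSpec.isOpenEmbedding.injective
      rw [h, hU.fromSpec_primeIdealOf ⟨y, hyU⟩]
    · intro h
      rw [h, hU.fromSpec_primeIdealOf ⟨y, hyU⟩]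
  have h2 : IsClosed (hU.fromSpec ⁻¹' ({y} : Set Y)) := hcl.preimage hU.fromSpec.continuous
  rw [h1] at h2
  exact (PrimeSpectrum.isClosed_singleton_iff_isMaximal _).mp h2

/-- a point of a finite set `Z` of closed points whose maximal ideal on an affine chart is generated
by a weakly regular sequence of length `≥ 2` is a good point of `vanishingIdeal Z` -/
theorem goodAt2_of_chart [IsLocallyNoetherian Y] (Z : Closeds Y) (hfin : (Z : Set Y).Finite)
    (hcl : ∀ z ∈ Z, IsClosed ({z} : Set Y)) (y : Y) (hyZ : y ∈ Z) (U : Y.Opens)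
    (hU : IsAffineOpen U) (hyU : y ∈ U) (rs : List Γ(Y, U)) (h2 : 2 ≤ rs.length)
    (hreg : IsWeaklyRegular Γ(Y, U) rs)
    (hI : (hU.primeIdealOf ⟨y, hyU⟩).asIdeal = Ideal.ofList rs) :
    GoodAt2 (Scheme.IdealSheafData.vanishingIdeal Z) y := by
  have hZ' : IsClosed ((Z : Set Y) \ {y}) := by
    have h1 : ((Z : Set Y) \ {y}) = ⋃ z ∈ ((Z : Set Y) \ {y}), {z} :=
      (Set.biUnion_of_singleton _).symm
    rw [h1]
    exact (hfin.subset Set.sdiff_subset).isClosed_biUnion fun z hz => hcl z hz.1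
  have hyW : y ∈ (⟨((Z : Set Y) \ {y})ᶜ, hZ'.isOpen_compl⟩ : Y.Opens) := by
    show y ∉ (Z : Set Y) \ {y}
    simp
  obtain ⟨g, hgW, hyg⟩ := hU.exists_basicOpen_le ⟨y, hyW⟩ hyU
  have hV : IsAffineOpen (Y.basicOpen g) := hU.basicOpen g
  have hN : IsNoetherianRing Γ(Y, Y.basicOpen g) :=
    IsLocallyNoetherian.component_noetherian ⟨Y.basicOpen g, hV⟩
  letI : Algebra Γ(Y, U) Γ(Y, Y.basicOpen g) :=
    (Y.presheaf.map (homOfLE (Y.basicOpen_le g)).op).hom.toAlgebra
  haveI : IsLocalization.Away g Γ(Y, Y.basicOpen g) := hU.isLocalization_basicOpen g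
  refine ⟨Y.basicOpen g, hV, hyg, hN,
    rs.map (algebraMap Γ(Y, U) Γ(Y, Y.basicOpen g)), by simpa using h2,
    IsWeaklyRegular.of_isLocalization Γ(Y, Y.basicOpen g) (Submonoid.powers g) hreg, ?_⟩
  have hycl : IsClosed ({y} : Set Y) := hcl y hyZ
  have e1 : (Scheme.IdealSheafData.vanishingIdeal Z).ideal ⟨Y.basicOpen g, hV⟩ =
      (Scheme.IdealSheafData.vanishingIdeal ⟨{y}, hycl⟩).ideal ⟨Y.basicOpen g, hV⟩ := by
    refine vanishingIdeal_ideal_congr _ _ _ fun z hz => ?_
    constructor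
    · intro hzZ
      by_contra hne
      exact hgW hz ⟨hzZ, hne⟩
    · intro hzy
      have : z = y := hzy
      rw [this]
      exact hyZ
  have e2 := (Scheme.IdealSheafData.vanishingIdeal ⟨{y}, hycl⟩).map_ideal_basicOpen ⟨U, hU⟩ g
  have e3 := Groth.Agent.Lib.Helper18.RegPoint.vanishingIdeal_singleton_ideal_of_mem hycl ⟨U, hU⟩ hyU
  rw [e1]
  refine e2.symm.trans ?_
  rw [e3, hI, Ideal.map_ofList]
  rfl

end Sch

section Pn

open AlgebraicGeometry TopologicalSpace CategoryTheory Opposite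
open Groth.Agent.Lib.helper28.BlowUpDirectTwist
open Groth.Agent.Lib.helper20.JacHyp Groth.Agent.Lib.helper20.HypIdeal
  Groth.Agent.Lib.Helper18.ProjChart

/-- **every point of `P^n_k` (`n ≥ 2`, `k` algebraically closed) is a good point of the ideal of a
finite set of closed points**: near it the ideal is generated by a weakly regular sequence of
length `≥ 2`. -/
theorem goodAt2_projSpace {k : Type u} [Field k] [IsAlgClosed k] (n : ℕ) (hn : 2 ≤ n)
    (Z : Closeds ↥(CohB1.ProjSpace n k)) (hfin : (Z : Set ↥(CohB1.ProjSpace n k)).Finite)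
    (hcl : ∀ z ∈ Z, IsClosed ({z} : Set ↥(CohB1.ProjSpace n k))) (y : ↥(CohB1.ProjSpace n k)) :
    GoodAt2 (Scheme.IdealSheafData.vanishingIdeal Z) y := by
  by_cases hyZ : y ∈ Z
  · have hcov := Groth.Agent.Lib.Helper12.Hyperplane.iSup_basicOpen_X n k
    have hy : y ∈ (⨆ i : Fin (n + 1), Proj.basicOpen (CohB1.polyGrading n k)
        (X i : MvPolynomial (Fin (n + 1)) k)) := by
      rw [hcov]; trivial
    obtain ⟨l, hl⟩ := Opens.mem_iSup.mp hy
    have hU := isAffineOpen_ch (n := n) (k := k) l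
    have hmax := isMaximal_primeIdealOf hU y hl (hcl y hyZ)
    obtain ⟨rs, hlen, hreg, hI⟩ := exists_regular_of_isMaximal (chartRing l) _ hmax
    refine goodAt2_of_chart Z hfin hcl y hyZ (ch n k l) hU hl rs ?_ hreg hI
    have : Fintype.card (Idx n l) = n := by
      simp [Idx]
    have h3 : 2 ≤ Fintype.card (Idx n l) := by omega
    exact h3.trans hlen.symm.le
  · exact goodAt2_of_notMem Z y hyZ

end Pn

end Groth.Agent.Lib.helper28.PnPoints
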