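import Mathlib
import Groth.Prelude.Def_FGA
import Groth.Agent.Lib.Helper28.BlowPtsA
import Groth.Agent.Lib.Helper28.BlowUpTwistBase
import Groth.Agent.Lib.Helper28.PnPoints1

/-!
# Blow-up of finitely many closed points: local structure of the exceptional ideals (helper28)

`P : Fin s → Y` distinct closed points with closed union `Z`, `π : X ⟶ Y` a blow-up of the ideal of
`Z` (every point of `Y` good for that ideal), `K_t = I_{P_t} O_X`.

* `le_isoLocus_idealModι_comap`, `le_isoLocus_idealLE_comap`: over `π⁻¹V` (`V` affine) the ideal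
  module of `I_S O_X` only depends on `S ∩ V`;
* `subsingleton_HHon_tensorList`, `isTrivOn_tensorList`;
* `isInvertible_point`: `idealMod K_t` is invertible;
* `isZero_RpushAb_multi`: `R^p π_*(π^*F ⊗ ⨂_t K_t^{⊗ d_t}) = 0` for `p > 0`, `F` invertible.
-/

set_option autoImplicit false
set_option linter.unusedSectionVars false
set_option linter.style.haveILetI false
universe u
open CategoryTheory CategoryTheory.Limits AlgebraicGeometry Opposite TopologicalSpace
open Scheme.Modules

namespace Groth.Agent.Lib.helper28.BlowPts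

open Groth.Agent.Lib.helper11.IsoLocus Groth.Agent.Lib.helper11.InvMod
  Groth.Agent.Lib.Lead.ModTensor Groth.Agent.Lib.helper7
  Groth.Agent.Lib.helper28.BlowUpDirect Groth.Agent.Lib.helper28.BlowUpOpenTwist
  Groth.Agent.Lib.helper28.BlowUpDirectTwist Groth.Agent.Lib.helper28.BlowUpTwistBase
  Groth.Agent.Lib.helper28.PnPoints Groth.Agent.Lib.helper12.TensorInv

variable {X Y : Scheme.{u}}

section Local

/-- off `S`, the ideal module of `I_S O_X` is the structure module -/
theorem le_isoLocus_idealModι_comap (π : X ⟶ Y) (S : Closeds Y) (V : Y.Opens)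
    (hV : IsAffineOpen V) (h : ∀ z ∈ V, z ∉ S) :
    π ⁻¹ᵁ V ≤ isoLocus (ClSub.idealModι ((Scheme.IdealSheafData.vanishingIdeal S).comap π)) := by
  refine le_isoLocus_idealModι _ _ fun W hW hle => ?_
  rw [IdealComap.ideal_comap π _ hV hW hle, vanishingIdeal_ideal_eq_top S ⟨V, hV⟩ h, Ideal.map_top]

/-- over `π⁻¹V` the ideal module of `I_S O_X` only depends on `S ∩ V` -/
theorem le_isoLocus_idealLE_comap (π : X ⟶ Y) (S S' : Closeds Y) (hSS' : S' ≤ S) (V : Y.Opens)
    (hV : IsAffineOpen V) (h : ∀ z ∈ V, z ∈ S ↔ z ∈ S') :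
    π ⁻¹ᵁ V ≤ isoLocus (idealLE (Scheme.IdealSheafData.comap_mono π
      (Scheme.IdealSheafData.vanishingIdeal_antimono hSS'))) := by
  refine le_isoLocus_idealLE _ _ fun W hW hle => ?_
  rw [IdealComap.ideal_comap π _ hV hW hle, IdealComap.ideal_comap π _ hV hW hle,
    vanishingIdeal_ideal_congr S S' ⟨V, hV⟩ h]

end Local

section ListTensor

theorem isTrivOn_tensorList (U : X.Opens) (l : List X.Modules) (h : ∀ L ∈ l, IsTrivOn L U) :
    IsTrivOn (FGA.tensorList l) U := by
  induction l with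
  | nil => exact isTrivOn_structureModule U
  | cons a l ih =>
    exact isTrivOn_tensorMod (h a (List.mem_cons_self ..))
      (ih fun L hL => h L (List.mem_cons_of_mem _ hL))

theorem isInvertible_tensorList (l : List X.Modules) (h : ∀ L ∈ l, PicF.IsInvertible L) :
    PicF.IsInvertible (FGA.tensorList l) := by
  induction l with
  | nil => exact Groth.Agent.Lib.helper11.InvMod.isInvertible_structureModule X
  | cons a l ih =>
    exact isInvertible_tensorMod (h a (List.mem_cons_self ..))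
      (ih fun L hL => h L (List.mem_cons_of_mem _ hL))

/-- cohomology over `U` of a tensor product of a list of modules all of which but one are trivial
on `U` -/
theorem subsingleton_HHon_tensorList (U : X.Opens) (p : ℕ) (l₁ l₂ : List X.Modules) (N : X.Modules)
    (h₁ : ∀ L ∈ l₁, IsTrivOn L U) (h₂ : ∀ L ∈ l₂, IsTrivOn L U)
    (hN : Subsingleton (Coh.HHon X N U p)) :
    Subsingleton (Coh.HHon X (FGA.tensorList (l₁ ++ N :: l₂)) U p) := by
  induction l₁ with
  | nil =>
    show Subsingleton (Coh.HHon X (CohB1.tensorMod N (FGA.tensorList l₂)) U p)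
    have h3 : Subsingleton (Coh.HHon X (CohB1.tensorMod (FGA.tensorList l₂) N) U p) :=
      subsingleton_HHon_of_isTrivOn _ _ _ (isTrivOn_tensorList U l₂ h₂) p hN
    exact (Groth.Agent.Lib.Helper18.P1Euler.hhEquivOfIso
      ((restrictFunctor U.ι).mapIso (braid N (FGA.tensorList l₂))) p).subsingleton_congr.mpr h3
  | cons a l ih =>
    show Subsingleton (Coh.HHon X (CohB1.tensorMod a (FGA.tensorList (l ++ N :: l₂))) U p)
    exact subsingleton_HHon_of_isTrivOn _ _ _ (h₁ a (List.mem_cons_self ..)) p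
      (ih fun L hL => h₁ L (List.mem_cons_of_mem _ hL))

end ListTensor

section Points

variable {s : ℕ} (P : Fin s → Y) (hP : Function.Injective P)
  (hPc : ∀ i, IsClosed ({P i} : Set Y)) (hZ : IsClosed (Set.range P)) (π : X ⟶ Y)

include hPc in
theorem isClosed_range_diff (y : Y) : IsClosed (Set.range P \ {y}) := by
  have h : Set.range P \ {y} = ⋃ t : {t : Fin s // P t ≠ y}, {P t.1} := by
    ext z
    simp only [Set.mem_sdiff, Set.mem_range, Set.mem_singleton_iff, Set.mem_iUnion, Subtype.exists,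
      exists_prop]
    constructor
    · rintro ⟨⟨t, rfl⟩, hne⟩
      exact ⟨t, hne, rfl⟩
    · rintro ⟨t, hne, rfl⟩
      exact ⟨⟨t, rfl⟩, hne⟩
  rw [h]
  exact isClosed_iUnion_of_finite fun t => hPc t.1

/-- the complement of the points `P t ≠ y` -/
noncomputable def offOthers (y : Y) : Y.Opens :=
  ⟨(Set.range P \ {y})ᶜ, (isClosed_range_diff P hPc y).isOpen_compl⟩

theorem mem_offOthers (y : Y) : y ∈ offOthers P hPc y := by
  show y ∈ (Set.range P \ {y})ᶜ
  simp

theorem eq_of_mem_offOthers {y z : Y} (hz : z ∈ offOthers P hPc y) (hzP : z ∈ Set.range P) :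
    z = y := by
  by_contra hne
  exact hz ⟨hzP, hne⟩

/-- over `π⁻¹V`, `V` an affine open meeting `Z` at most in `y`, the exceptional ideal of a point
`P t ≠ y` is trivial -/
theorem le_isoLocus_idealModι_point (V : Y.Opens) (hV : IsAffineOpen V) (y : Y)
    (hVy : ∀ z ∈ V, z ∈ Set.range P → z = y) (t : Fin s) (ht : P t ≠ y) :
    π ⁻¹ᵁ V ≤ isoLocus (ClSub.idealModι
      ((Scheme.IdealSheafData.vanishingIdeal ⟨{P t}, hPc t⟩).comap π)) := by
  refine le_isoLocus_idealModι_comap π ⟨{P t}, hPc t⟩ V hV fun z hz hzt => ?_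
  have h1 : z = P t := hzt
  exact ht (h1 ▸ hVy z hz ⟨t, h1.symm⟩)

theorem singleton_le_range (t : Fin s) :
    (⟨{P t}, hPc t⟩ : Closeds Y) ≤ ⟨Set.range P, hZ⟩ := by
  intro z hz
  have h1 : z = P t := hz
  exact ⟨t, h1.symm⟩

/-- over `π⁻¹V`, `V` an affine open meeting `Z` at most in `y = P t`, the exceptional ideal of
`P t` agrees with the total exceptional ideal -/
theorem le_isoLocus_idealLE_point (V : Y.Opens) (hV : IsAffineOpen V) (t : Fin s)
    (hVy : ∀ z ∈ V, z ∈ Set.range P → z = P t) :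
    π ⁻¹ᵁ V ≤ isoLocus (idealLE (Scheme.IdealSheafData.comap_mono π
      (Scheme.IdealSheafData.vanishingIdeal_antimono (singleton_le_range P hPc hZ t)))) := by
  refine le_isoLocus_idealLE_comap π ⟨Set.range P, hZ⟩ ⟨{P t}, hPc t⟩
    (singleton_le_range P hPc hZ t) V hV fun z hz => ?_
  constructor
  · intro hzP
    exact hVy z hz hzP
  · intro hzt
    exact singleton_le_range P hPc hZ t hzt

variable (hπ : BlowUp.IsBlowUp π (Scheme.IdealSheafData.vanishingIdeal ⟨Set.range P, hZ⟩))

include hπ in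
/-- **the exceptional ideal over each point is invertible** -/
theorem isInvertible_point (t : Fin s) :
    PicF.IsInvertible (ClSub.idealMod
      ((Scheme.IdealSheafData.vanishingIdeal ⟨{P t}, hPc t⟩).comap π)) := by
  intro x
  have hJ : PicF.IsInvertible (ClSub.idealMod
      ((Scheme.IdealSheafData.vanishingIdeal ⟨Set.range P, hZ⟩).comap π)) :=
    IdealCartier.invertible_of_effCartier _ hπ.1
  obtain ⟨V, hV, hxV, hVle⟩ := Opens.isBasis_iff_nbhd.mp Y.isBasis_affineOpens
    (mem_offOthers P hPc (π x))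
  have hVy : ∀ z ∈ V, z ∈ Set.range P → z = π x := fun z hz hzP =>
    eq_of_mem_offOthers P hPc (hVle hz) hzP
  by_cases ht : P t = π x
  · obtain ⟨U', hxU', hU'⟩ := hJ x
    refine ⟨π ⁻¹ᵁ V ⊓ U', ⟨hxV, hxU'⟩, ?_⟩
    have h1 := le_isoLocus_idealLE_point P hPc hZ π V hV t (fun z hz hzP => (hVy z hz hzP).trans ht.symm)
    exact (IsoOn.of_le_isoLocus _ (inf_le_left.trans h1)).symm.isTrivOn
      (IsTrivOn.of_le inf_le_right hU')
  · refine ⟨π ⁻¹ᵁ V, hxV, ?_⟩
    have h1 := le_isoLocus_idealModι_point P hPc π V hV (π x) hVy t ht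
    exact (IsoOn.of_le_isoLocus _ h1).isTrivOn (isTrivOn_structureModule _)

include hP hπ in
/-- **`R^p π_*(π^*F ⊗ ⨂_t K_t^{⊗ d_t}) = 0`** for `p > 0`, `F` invertible on the base -/
theorem isZero_RpushAb_multi
    (hgood : ∀ y : Y, GoodAt (Scheme.IdealSheafData.vanishingIdeal ⟨Set.range P, hZ⟩) y)
    (F : Y.Modules) (hF : PicF.IsInvertible F) (d : Fin s → ℕ) (p : ℕ) (hp : 0 < p) :
    IsZero ((Coh.RpushAb π p).obj (Coh.toAb (CohB1.tensorMod ((Scheme.Modules.pullback π).obj F)
      (FGA.multiTwist (fun t : Fin s => ClSub.idealMod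
        ((Scheme.IdealSheafData.vanishingIdeal ⟨{P t}, hPc t⟩).comap π)) d)))) := by
  have := isProper_of_goodAt π _ hπ hgood
  have hinv := isInvertible_point P hPc hZ π hπ
  have hqc : (CohB1.tensorMod ((Scheme.Modules.pullback π).obj F)
      (FGA.multiTwist (fun t : Fin s => ClSub.idealMod
        ((Scheme.IdealSheafData.vanishingIdeal ⟨{P t}, hPc t⟩).comap π)) d)).IsQuasicoherent := by
    refine Groth.Agent.Lib.helper12.AmpleBasis.isQuasicoherent_of_isInvertible
      (isInvertible_tensorMod (isInvertible_pullback π hF) (isInvertible_tensorList _ ?_))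
    intro L hL
    obtain ⟨t, -, rfl⟩ := List.mem_map.mp hL
    exact isInvertible_tensorPow (hinv t) (d t)
  refine Groth.Agent.Lib.helper11.S0002T3.isZero_RpushAb_of_affine_cover π _ p hp fun y => ?_
  obtain ⟨UF, hyUF, hUF⟩ := hF y
  obtain ⟨V, hV, hyV, hVW, hN, rs, hne, hreg, hI⟩ := goodAt_le (hgood y) (UF ⊓ offOthers P hPc y)
    ⟨hyUF, mem_offOthers P hPc y⟩
  refine ⟨V, hV, hyV, ?_⟩
  have hVy : ∀ z ∈ V, z ∈ Set.range P → z = y := fun z hz hzP =>
    eq_of_mem_offOthers P hPc (hVW hz).2 hzP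
  refine subsingleton_HHon_of_isTrivOn _ _ _
    (IsTrivOn.pullback π (IsTrivOn.of_le (hVW.trans inf_le_left) hUF)) p ?_
  have hOT := (open_twist π _ hπ V hV rs hne hreg hI).1
  have htriv : ∀ t : Fin s, P t ≠ y → IsTrivOn (CohB1.tensorPow (ClSub.idealMod
      ((Scheme.IdealSheafData.vanishingIdeal ⟨{P t}, hPc t⟩).comap π)) (d t)) (π ⁻¹ᵁ V) := by
    intro t ht
    exact isTrivOn_tensorPow ((IsoOn.of_le_isoLocus _
      (le_isoLocus_idealModι_point P hPc π V hV y hVy t ht)).isTrivOn
        (isTrivOn_structureModule _)) (d t)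
  by_cases hy : ∃ t₀, P t₀ = y
  · obtain ⟨t₀, rfl⟩ := hy
    obtain ⟨l₁, l₂, hl⟩ := List.append_of_mem (List.mem_finRange t₀)
    have hnd := List.nodup_finRange s
    rw [hl, List.nodup_middle, List.nodup_cons] at hnd
    have hne1 : ∀ t ∈ l₁, P t ≠ P t₀ := fun t ht h =>
      hnd.1 (List.mem_append_left _ (hP h ▸ ht))
    have hne2 : ∀ t ∈ l₂, P t ≠ P t₀ := fun t ht h =>
      hnd.1 (List.mem_append_right _ (hP h ▸ ht))
    unfold FGA.multiTwist
    rw [hl, List.map_append, List.map_cons]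
    refine subsingleton_HHon_tensorList _ p _ _ _ ?_ ?_ ?_
    · intro L hL
      obtain ⟨t, ht, rfl⟩ := List.mem_map.mp hL
      exact htriv t (hne1 t ht)
    · intro L hL
      obtain ⟨t, ht, rfl⟩ := List.mem_map.mp hL
      exact htriv t (hne2 t ht)
    · have h1 := le_isoLocus_idealLE_point P hPc hZ π V hV t₀ hVy
      exact (IsoOn.of_le_isoLocus (powMap _ (d t₀))
        (h1.trans (isoLocus_le_powMap _ _))).symm.subsingleton_HHon p (hOT (d t₀) p hp)
  · have h1 : IsTrivOn (FGA.multiTwist (fun t : Fin s => ClSub.idealMod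
        ((Scheme.IdealSheafData.vanishingIdeal ⟨{P t}, hPc t⟩).comap π)) d) (π ⁻¹ᵁ V) := by
      refine isTrivOn_tensorList _ _ fun L hL => ?_
      obtain ⟨t, -, rfl⟩ := List.mem_map.mp hL
      exact htriv t fun h => hy ⟨t, h⟩
    have h2 := subsingleton_HHon_of_isTrivOn _ (Coh.structureModule X) _ h1 p (hOT 0 p hp)
    exact (Groth.Agent.Lib.Helper18.P1Euler.hhEquivOfIso
      ((restrictFunctor (π ⁻¹ᵁ V).ι).mapIso (rightUnitor _).symm) p).subsingleton_congr.mpr h2

end Points

end Groth.Agent.Lib.helper28.BlowPts
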