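import Groth.Agent.Lib.Helper28.BlowUpPushInv1
import Groth.Agent.Lib.Helper28.BlowUpDirectTwist
import Groth.Agent.Lib.Helper7.TensorReg

/-!
# Direct image of the inverse of the exceptional ideal of a blow-up (helper28)

`φ : X ⟶ Y` a blow-up of `𝓘` along a centre regularly embedded of codimension `≥ 2`,
`J = idealMod (𝓘.comap φ)`, `L ⊗ J ≅ O_X`.
* `open_section`, `exists_generator`: over a good affine open `V`, `Γ(φ⁻¹V, L)` is free of rank one
  over `Γ(φ⁻¹V, O_X)`;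
* `canonicalHom θ : O_X ⟶ L`, `smul_mem_range_canonicalHom`;
* `bijective_canonicalHom_app`, `nonempty_pushforward_iso` (S13917).
-/

set_option autoImplicit false
set_option linter.unusedSectionVars false
set_option linter.style.haveILetI false
universe u
open CategoryTheory CategoryTheory.Limits AlgebraicGeometry Opposite TopologicalSpace
open Scheme.Modules

namespace Groth.Agent.Lib.helper28.BlowUpPushInv

open Groth.Agent.Lib.helper28.ReesQuot Groth.Agent.Lib.helper16.BlowUpProper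
  Groth.Agent.Lib.helper28.BlowUpAffineTwist Groth.Agent.Lib.Lead.ModTensor
  Groth.Agent.Lib.helper28.BlowUpOpenTwist Groth.Agent.Lib.helper28.BlowUpDirect
  Groth.Agent.Lib.helper28.BlowUpDirectTwist

/-- over a good affine open `V` (regular sequence of length `≥ 2`) there is `t : O ⟶ L|_{φ⁻¹V}`
bijective on global sections -/
theorem open_section {X Y : Scheme.{u}} (φ : X ⟶ Y) (𝓘 : Y.IdealSheafData)
    (hφ : BlowUp.IsBlowUp φ 𝓘) (V : Y.Opens) (hV : IsAffineOpen V) [IsNoetherianRing Γ(Y, V)]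
    (rs : List Γ(Y, V)) (hne : rs ≠ []) (hreg : RingTheory.Sequence.IsWeaklyRegular Γ(Y, V) rs)
    (hI : 𝓘.ideal ⟨V, hV⟩ = Ideal.ofList rs) (h2 : 2 ≤ rs.length) (L : X.Modules)
    (hL : ClSub.IsInverseOf L (ClSub.idealMod (𝓘.comap φ))) :
    ∃ t : Coh.structureModule (φ ⁻¹ᵁ V : Scheme.{u}) ⟶ L.restrict (φ ⁻¹ᵁ V).ι,
      Function.Bijective (t.app ⊤).hom := by
  have : IsAffine (V : Scheme.{u}) := hV
  obtain ⟨hN, n, fs, hq, hfs, hlen⟩ := exists_data 𝓘 V hV rs hne hreg hI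
  have hb := isBlowUp_morphismRestrict 𝓘 φ hφ V
  have hJ : PicF.IsInvertible (ClSub.idealMod (𝓘.comap φ)) :=
    Groth.Agent.Lib.helper7.IdealCartier.invertible_of_effCartier _ hφ.1
  have heq : (𝓘.comap φ).comap (φ ⁻¹ᵁ V).ι = (𝓘.comap V.ι).comap (φ ∣_ V) := by
    rw [← Scheme.IdealSheafData.comap_comp, ← Scheme.IdealSheafData.comap_comp,
      morphismRestrict_ι]
  have hJ' : PicF.IsInvertible (ClSub.idealMod ((𝓘.comap φ).comap (φ ⁻¹ᵁ V).ι)) := by
    rw [heq]
    exact Groth.Agent.Lib.helper7.IdealCartier.invertible_of_effCartier _ hb.1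
  let α : (Scheme.Modules.pullback (φ ⁻¹ᵁ V).ι).obj (ClSub.idealMod (𝓘.comap φ)) ≅
      ClSub.idealMod ((𝓘.comap V.ι).comap (φ ∣_ V)) :=
    Groth.Agent.Lib.helper7.PullIdeal.pullIdealIso (φ ⁻¹ᵁ V).ι (𝓘.comap φ) hJ hJ' ≪≫
      eqToIso (congrArg ClSub.idealMod heq)
  have h3 : ClSub.IsInverseOf ((Scheme.Modules.pullback (φ ⁻¹ᵁ V).ι).obj L)
      (ClSub.idealMod ((𝓘.comap V.ι).comap (φ ∣_ V))) :=
    isInverseOf_of_iso (Iso.refl _) α
      (Groth.Agent.Lib.helper12.PullPic.isInverseOf_pullback (φ ⁻¹ᵁ V).ι hJ hL)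
  obtain ⟨t, ht⟩ := affine_section (V : Scheme.{u}) (𝓘.comap V.ι) fs hq hfs (φ ∣_ V) hb
    (by omega) _ h3
  exact ⟨t ≫ ((restrictFunctorIsoPullback (φ ⁻¹ᵁ V).ι).app L).inv,
    bijective_comp_app _ _ _ ht (bijective_app_of_isIso _ _)⟩

/-- a module map out of the structure sheaf of `↑W`, bijective on global sections, gives a free
generator of the sections over `W.ι ''ᵁ ⊤` -/
theorem exists_generator_image {X : Scheme.{u}} (W : X.Opens) (L : X.Modules)
    (t : Coh.structureModule (W : Scheme.{u}) ⟶ L.restrict W.ι)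
    (ht : Function.Bijective (t.app ⊤).hom) :
    ∃ t₀ : Γ(L, W.ι ''ᵁ ⊤), Function.Bijective (fun u : Γ(X, W.ι ''ᵁ ⊤) => u • t₀) := by
  obtain ⟨one, hone⟩ : ∃ one : Γ(Coh.structureModule (W : Scheme.{u}), ⊤),
      one = (1 : Γ((W : Scheme.{u}), ⊤)) := ⟨_, rfl⟩
  obtain ⟨t₀, ht₀⟩ : ∃ t₀ : Γ(L, W.ι ''ᵁ ⊤), t₀ = (t.app ⊤).hom one := ⟨_, rfl⟩
  refine ⟨t₀, ?_⟩
  have hsm : ∀ (r : Γ((W : Scheme.{u}), ⊤)) (x : Γ(L.restrict W.ι, ⊤)),
      (show Γ(L, W.ι ''ᵁ ⊤) from (r • x : Γ(L.restrict W.ι, ⊤))) =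
        ((W.ι.appIso ⊤).inv r • (show Γ(L, W.ι ''ᵁ ⊤) from x) : Γ(L, W.ι ''ᵁ ⊤)) :=
    fun r x => rfl
  have hmul : ∀ r : Γ((W : Scheme.{u}), ⊤),
      (r • one : Γ(Coh.structureModule (W : Scheme.{u}), ⊤)) =
        (show Γ(Coh.structureModule (W : Scheme.{u}), ⊤) from r) := by
    intro r
    rw [hone]
    exact mul_one r
  have h1 : ∀ u : Γ(X, W.ι ''ᵁ ⊤), u • t₀ =
      (t.app ⊤).hom (show Γ(Coh.structureModule (W : Scheme.{u}), ⊤) from
        (W.ι.appIso ⊤).hom u) := by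
    intro u
    have h2 := t.app_smul (U := ⊤) ((W.ι.appIso ⊤).hom u) one
    rw [hmul] at h2
    refine Eq.trans ?_ h2.symm
    have h4 : (W.ι.appIso ⊤).inv ((W.ι.appIso ⊤).hom u) = u := by
      rw [← CommRingCat.comp_apply, Iso.hom_inv_id, CommRingCat.id_apply]
    refine Eq.trans ?_ (hsm ((W.ι.appIso ⊤).hom u) ((t.app ⊤).hom one)).symm
    rw [h4, ht₀]
  have h5 : (fun u : Γ(X, W.ι ''ᵁ ⊤) => u • t₀) =
      (t.app ⊤).hom ∘ (fun u => (W.ι.appIso ⊤).hom u) := funext h1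
  rw [h5]
  refine ht.comp ?_
  exact (ConcreteCategory.isIso_iff_bijective (W.ι.appIso ⊤).hom).mp inferInstance

/-- a free generator of the sections of `L` over `W` -/
theorem exists_generator {X : Scheme.{u}} (W : X.Opens) (L : X.Modules)
    (t : Coh.structureModule (W : Scheme.{u}) ⟶ L.restrict W.ι)
    (ht : Function.Bijective (t.app ⊤).hom) :
    ∃ t₀ : Γ(L, W), Function.Bijective (fun u : Γ(X, W) => u • t₀) := by
  have key : ∀ W' : X.Opens, W' = W.ι ''ᵁ ⊤ →
      ∃ t₀ : Γ(L, W'), Function.Bijective (fun u : Γ(X, W') => u • t₀) := by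
    rintro _ rfl
    exact exists_generator_image W L t ht
  exact key W W.ι_image_top.symm

section Canonical

variable {X : Scheme.{u}} (L : X.Modules) (D : X.IdealSheafData)
  (θ : CohB1.tensorMod L (ClSub.idealMod D) ≅ Coh.structureModule X)

/-- the canonical map `O_X ≅ L ⊗ I_D ⟶ L` -/
noncomputable def canonicalHom : Coh.structureModule X ⟶ L :=
  θ.inv ≫ Groth.Agent.Lib.helper7.TensorReg.mulHom L D

/-- multiples of sections of `L` by sections of the ideal are in the image of the canonical map -/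
theorem smul_mem_range_canonicalHom (U : X.Opens) (s : Γ(L, U)) (r : Γ(X, U))
    (hr : (show Γ(Coh.structureModule X, U) from r) ∈
      Set.range ((ClSub.idealModι D).app U).hom) :
    r • s ∈ Set.range ((canonicalHom L D θ).app U).hom := by
  obtain ⟨j, hj⟩ := hr
  refine ⟨(θ.hom.app U).hom (SecTwist.tmul L (ClSub.idealMod D) U s j), ?_⟩
  have h1 : ((canonicalHom L D θ).app U).hom
      ((θ.hom.app U).hom (SecTwist.tmul L (ClSub.idealMod D) U s j)) =
      ((θ.hom ≫ canonicalHom L D θ).app U).hom (SecTwist.tmul L (ClSub.idealMod D) U s j) := rfl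
  have h2 : θ.hom ≫ canonicalHom L D θ = Groth.Agent.Lib.helper7.TensorReg.mulHom L D := by
    unfold canonicalHom
    rw [Iso.hom_inv_id_assoc]
  rw [h1, h2]
  exact Groth.Agent.Lib.helper7.TensorReg.mulHom_tmul L D U s j r hj

end Canonical

section IdealSections

/-- the pull-back of a section of `𝓘` over an affine open `V` is a section of the ideal module of
`𝓘.comap φ` over `φ⁻¹V` -/
theorem app_mem_range_idealModι {X Y : Scheme.{u}} (φ : X ⟶ Y) (𝓘 : Y.IdealSheafData)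
    (V : Y.Opens) (hV : IsAffineOpen V) (r : Γ(Y, V)) (hr : r ∈ 𝓘.ideal ⟨V, hV⟩) :
    (show Γ(Coh.structureModule X, φ ⁻¹ᵁ V) from (φ.app V).hom r) ∈
      Set.range ((ClSub.idealModι (𝓘.comap φ)).app (φ ⁻¹ᵁ V)).hom := by
  refine (Groth.Agent.Lib.helper7.IdealMod.mem_range_idealModι_iff (𝓘.comap φ) (φ ⁻¹ᵁ V)
    ((φ.app V).hom r)).mpr ?_
  have h0 : (𝓘.subschemeι.app V).hom r = 0 := by
    rw [← RingHom.mem_ker, Scheme.IdealSheafData.ker_subschemeι_app 𝓘 ⟨V, hV⟩]
    exact hr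
  have h := Scheme.Hom.congr_app (Scheme.IdealSheafData.subschemeMap_subschemeι (𝓘.comap φ) 𝓘 φ
    (𝓘.le_map_comap φ)).symm V
  rw [Scheme.Hom.comp_app, Scheme.Hom.comp_app] at h
  have h2 := congrArg (fun ψ => ψ.hom r) h
  refine h2.trans ?_
  show (CommRingCat.Hom.hom ((𝓘.comap φ).subscheme.presheaf.map _))
    ((CommRingCat.Hom.hom (Scheme.Hom.app _ _))
      ((CommRingCat.Hom.hom (Scheme.Hom.app 𝓘.subschemeι V)) r)) = 0
  rw [h0, map_zero, map_zero]

end IdealSections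

section Abstract

/-- if `Γ(W, L)` is free of rank one and two members `r1, r2` of a weakly regular sequence multiply
the generator into the image of `c : O_X ⟶ L`, then `c` is bijective on sections over `W` -/
theorem bijective_app_of_generator {X : Scheme.{u}} (W : X.Opens) (L : X.Modules)
    (c : Coh.structureModule X ⟶ L) (t₀ : Γ(L, W))
    (ht₀ : Function.Bijective (fun u : Γ(X, W) => u • t₀)) (r1 r2 : Γ(X, W)) (rs : List Γ(X, W))
    (hreg : RingTheory.Sequence.IsWeaklyRegular Γ(X, W) (r1 :: r2 :: rs))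
    (h1 : r1 • t₀ ∈ Set.range (c.app W).hom) (h2 : r2 • t₀ ∈ Set.range (c.app W).hom) :
    Function.Bijective (c.app W).hom := by
  obtain ⟨one, hone⟩ : ∃ one : Γ(Coh.structureModule X, W), one = (1 : Γ(X, W)) := ⟨_, rfl⟩
  have hmul : ∀ r : Γ(X, W), (r • one : Γ(Coh.structureModule X, W)) =
      (show Γ(Coh.structureModule X, W) from r) := by
    intro r
    rw [hone]
    exact mul_one r
  obtain ⟨a, ha⟩ := ht₀.2 ((c.app W).hom one)
  have ha' : a • t₀ = (c.app W).hom one := ha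
  -- `c u = (u * a) • t₀`
  have hc : ∀ u : Γ(X, W), (c.app W).hom (show Γ(Coh.structureModule X, W) from u) =
      (u * a) • t₀ := by
    intro u
    have h3 := c.app_smul (U := W) u one
    rw [hmul] at h3
    refine h3.trans ?_
    show u • (c.app W).hom one = _
    rw [← ha', mul_smul]
  have hdvd : ∀ r : Γ(X, W), r • t₀ ∈ Set.range (c.app W).hom → a ∣ r := by
    rintro r ⟨x, hx⟩
    obtain ⟨x', rfl⟩ : ∃ x' : Γ(X, W), (show Γ(Coh.structureModule X, W) from x') = x :=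
      ⟨x, rfl⟩
    have h4 := (hc x').symm.trans hx
    have h5 : x' * a = r := ht₀.1 h4
    exact ⟨x', by rw [← h5, mul_comm]⟩
  have hunit : IsUnit a :=
    isUnit_of_dvd_of_isWeaklyRegular r1 r2 rs hreg a (hdvd r1 h1) (hdvd r2 h2)
  have hbij : Function.Bijective (fun u : Γ(X, W) => u * a) := by
    obtain ⟨b, hb⟩ := hunit.exists_right_inv
    constructor
    · intro x y hxy
      have h7 : x * a * b = y * a * b := congrArg (fun z => z * b) hxy
      rwa [mul_assoc, mul_assoc, hb, mul_one, mul_one] at h7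
    · intro y
      refine ⟨y * b, ?_⟩
      show y * b * a = y
      rw [mul_assoc, mul_comm b a, hb, mul_one]
  have h6 : ((c.app W).hom : Γ(Coh.structureModule X, W) → Γ(L, W)) =
      (fun u : Γ(X, W) => u • t₀) ∘ (fun u : Γ(X, W) => u * a) :=
    funext hc
  rw [h6]
  exact ht₀.comp hbij

end Abstract

section Main

open Groth.Agent.Lib.helper11.InvPullback

/-- over a good affine open `V` the canonical map `O_X ⟶ L` is bijective on sections over `φ⁻¹V` -/
theorem bijective_canonicalHom_app {X Y : Scheme.{u}} (φ : X ⟶ Y) (𝓘 : Y.IdealSheafData)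
    (hφ : BlowUp.IsBlowUp φ 𝓘) (V : Y.Opens) (hV : IsAffineOpen V) [IsNoetherianRing Γ(Y, V)]
    (rs : List Γ(Y, V)) (hreg : RingTheory.Sequence.IsWeaklyRegular Γ(Y, V) rs)
    (hI : 𝓘.ideal ⟨V, hV⟩ = Ideal.ofList rs) (h2 : 2 ≤ rs.length) (L : X.Modules)
    (θ : CohB1.tensorMod L (ClSub.idealMod (𝓘.comap φ)) ≅ Coh.structureModule X) :
    Function.Bijective ((canonicalHom L (𝓘.comap φ) θ).app (φ ⁻¹ᵁ V)).hom := by
  have hne : rs ≠ [] := by
    rintro rfl
    simp at h2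
  obtain ⟨t, ht⟩ := open_section φ 𝓘 hφ V hV rs hne hreg hI h2 L ⟨θ⟩
  obtain ⟨t₀, ht₀⟩ := exists_generator (φ ⁻¹ᵁ V) L t ht
  have hbij := (Groth.Agent.Lib.helper28.BlowUpOpen.open_main φ 𝓘 hφ V hV rs hne hreg hI).1
  let ρ : Γ(Y, V) ≃+* Γ(X, φ ⁻¹ᵁ V) := RingEquiv.ofBijective (φ.app V).hom hbij
  have hρ : ∀ a, ρ a = (φ.app V).hom a := fun _ => rfl
  have hreg' : RingTheory.Sequence.IsWeaklyRegular Γ(X, φ ⁻¹ᵁ V) (rs.map ρ) :=
    (AddEquiv.isWeaklyRegular_congr (e := ρ.toAddEquiv) (List.forall₂_map_right_iff.mpr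
      (List.forall₂_same.mpr fun r _ x => map_mul ρ r x))).mp hreg
  obtain ⟨r1, r2, rs', rfl⟩ : ∃ r1 r2 rs', rs = r1 :: r2 :: rs' := by
    match rs, h2 with
    | r1 :: r2 :: rs', _ => exact ⟨r1, r2, rs', rfl⟩
  have hmem : ∀ r ∈ r1 :: r2 :: rs', (φ.app V).hom r • t₀ ∈
      Set.range ((canonicalHom L (𝓘.comap φ) θ).app (φ ⁻¹ᵁ V)).hom := by
    intro r hr
    refine smul_mem_range_canonicalHom L (𝓘.comap φ) θ (φ ⁻¹ᵁ V) t₀ _ ?_
    refine app_mem_range_idealModι φ 𝓘 V hV r ?_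
    rw [hI]
    exact Ideal.subset_span hr
  rw [List.map_cons, List.map_cons] at hreg'
  exact bijective_app_of_generator (φ ⁻¹ᵁ V) L _ t₀ ht₀ (ρ r1) (ρ r2) (rs'.map ρ) hreg'
    (hmem r1 (by simp)) (hmem r2 (by simp))

/-- **`φ_* L ≅ O_Y`** for a blow-up `φ : X ⟶ Y` along a centre regularly embedded of codimension
`≥ 2` and `L` inverse to the exceptional ideal (`L = O_X(E)`). -/
theorem nonempty_pushforward_iso {X Y : Scheme.{u}} (φ : X ⟶ Y) (𝓘 : Y.IdealSheafData)
    (hφ : BlowUp.IsBlowUp φ 𝓘) (hgood : ∀ y : Y, GoodAt2 𝓘 y) (L : X.Modules)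
    (hL : ClSub.IsInverseOf L (ClSub.idealMod (𝓘.comap φ))) :
    Nonempty ((Scheme.Modules.pushforward φ).obj L ≅ Coh.structureModule Y) := by
  have := isProper_of_goodAt φ 𝓘 hφ fun y => (hgood y).goodAt
  have hJ : PicF.IsInvertible (ClSub.idealMod (𝓘.comap φ)) :=
    Groth.Agent.Lib.helper7.IdealCartier.invertible_of_effCartier _ hφ.1
  have hLinv : PicF.IsInvertible L :=
    Groth.Agent.Lib.helper11.AmpleAffine.isInvertible_of_isInverseOf hJ (isInverseOf_symm hL)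
  have hqc : L.IsQuasicoherent :=
    Groth.Agent.Lib.helper12.AmpleBasis.isQuasicoherent_of_isInvertible hLinv
  have : ((Scheme.Modules.pushforward φ).obj L).IsQuasicoherent :=
    Groth.Agent.Lib.helper7.QCohPushQC.isQuasicoherent_pushforward φ _
  obtain ⟨θ⟩ := hL
  have hiso : IsIso (unitToPush φ ≫
      (Scheme.Modules.pushforward φ).map (canonicalHom L (𝓘.comap φ) θ)) := by
    refine Groth.Agent.Lib.helper7.KerSections.isIso_of_bijective_cover _
      (fun V : {V : Y.Opens // IsAffineOpen V ∧ Function.Bijective ((unitToPush φ ≫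
        (Scheme.Modules.pushforward φ).map (canonicalHom L (𝓘.comap φ) θ)).app V).hom} => V.1)
      (fun V => V.2.1) (fun y => ?_) (fun V => V.2.2)
    obtain ⟨V, hV, hyV, hN, rs, hlen, hreg, hI⟩ := hgood y
    have hne : rs ≠ [] := by
      rintro rfl
      simp at hlen
    refine ⟨⟨V, hV, ?_⟩, hyV⟩
    have h1 := (Groth.Agent.Lib.helper28.BlowUpOpen.open_main φ 𝓘 hφ V hV rs hne hreg hI).1
    have h2 := bijective_canonicalHom_app φ 𝓘 hφ V hV rs hreg hI hlen L θ
    exact bijective_comp_app _ _ _ h1 h2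
  exact ⟨(asIso (unitToPush φ ≫
    (Scheme.Modules.pushforward φ).map (canonicalHom L (𝓘.comap φ) θ))).symm⟩

end Main

end Groth.Agent.Lib.helper28.BlowUpPushInv
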