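import Groth.Agent.Lib.Helper28.BlowUpAffine
import Groth.Agent.Lib.Helper28.RegBlowUp2
import Groth.Agent.S2103
import Groth.Agent.Lib.Helper11.InvMod
import Groth.Agent.Lib.Helper11.PullUnit
import Groth.Agent.Lib.Helper7.IdealComap

/-!
# Blow-up along a regularly embedded centre, over a good affine open (helper28)

* `exists_quasiRegular_of_list`: a nonempty weakly regular list gives a quasi-regular family with the
  same ideal (via `H_1`-regular ⇒ quasi-regular, S2103);
* `open_main`: `φ : X ⟶ Y` a blow-up of `𝓘`, `V ⊆ Y` affine open with Noetherian ring on which `𝓘`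
  is generated by a nonempty weakly regular sequence ⇒ `Γ(V, O_Y) → Γ(φ⁻¹V, O_X)` bijective and
  `H^p(φ⁻¹V, O_X) = 0` for `p > 0`.
-/

set_option autoImplicit false
set_option linter.unusedSectionVars false
universe u
open CategoryTheory CategoryTheory.Limits AlgebraicGeometry Opposite TopologicalSpace

namespace Groth.Agent.Lib.helper28.BlowUpOpen

open Groth.Agent.Lib.helper28.ReesQuot Groth.Agent.Lib.helper16.BlowUpProper

/-- a nonempty weakly regular list gives a quasi-regular family generating the same ideal -/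
theorem exists_quasiRegular_of_list {A : Type u} [CommRing A] (rs : List A) (hne : rs ≠ [])
    (hreg : RingTheory.Sequence.IsWeaklyRegular A rs) :
    ∃ (n : ℕ) (fs : Fin (n + 1) → A), CAlgX.IsQuasiRegular fs ∧ Ideal.ofList rs = II fs := by
  obtain ⟨n, hn⟩ : ∃ n, rs.length = n + 1 :=
    ⟨rs.length - 1, (Nat.succ_pred_eq_of_pos (List.length_pos_of_ne_nil hne)).symm⟩
  refine ⟨n, fun i => rs.get (i.cast hn.symm), ?_, ?_⟩
  · apply Groth.Agent.S2103.result
    apply Groth.Agent.Lib.helper28.RegBlowUp.isH1Regular_of_isWeaklyRegular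
    have : List.ofFn (fun i : Fin (n + 1) => rs.get (i.cast hn.symm)) = rs := by
      apply List.ext_get
      · simp [hn]
      · intro i h1 h2
        rw [List.get_eq_getElem, List.get_eq_getElem, List.getElem_ofFn]
        rfl
    rw [this]
    exact hreg
  · rw [II, Ideal.ofList]
    congr 1
    ext a
    simp only [Set.mem_ofPred_eq, Set.mem_range]
    constructor
    · intro ha
      obtain ⟨i, rfl⟩ := List.get_of_mem ha
      exact ⟨i.cast hn, rfl⟩
    · rintro ⟨i, rfl⟩
      exact List.get_mem _ _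

/-- **Blow-up along a regularly embedded centre, over a good affine open**: if `φ : X ⟶ Y` is a
blow-up of `𝓘` and on the affine open `V` (with Noetherian ring) `𝓘` is generated by a nonempty
weakly regular sequence, then `Γ(V, O_Y) → Γ(φ⁻¹V, O_X)` is bijective and
`H^p(φ⁻¹V, O_X) = 0` for `p > 0`. -/
theorem open_main {X Y : Scheme.{u}} (φ : X ⟶ Y) (𝓘 : Y.IdealSheafData)
    (hφ : BlowUp.IsBlowUp φ 𝓘) (V : Y.Opens) (hV : IsAffineOpen V) [IsNoetherianRing Γ(Y, V)]
    (rs : List Γ(Y, V)) (hne : rs ≠ []) (hreg : RingTheory.Sequence.IsWeaklyRegular Γ(Y, V) rs)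
    (hI : 𝓘.ideal ⟨V, hV⟩ = Ideal.ofList rs) :
    Function.Bijective (φ.app V).hom ∧
      ∀ p : ℕ, 0 < p → Subsingleton (Coh.HHon X (Coh.structureModule X) (φ ⁻¹ᵁ V) p) := by
  have : IsAffine (V : Scheme.{u}) := hV
  have hle : (⊤ : (V : Scheme.{u}).Opens) ≤ V.ι ⁻¹ᵁ V := by simp
  have hρiso : IsIso (V.ι.appLE V ⊤ hle) := by
    rw [Scheme.Hom.appLE]
    have h1 : IsIso (V.ι.app V) := Scheme.Hom.isIso_app V.ι V (by simp)
    have h2 : IsIso ((V : Scheme.{u}).presheaf.map (homOfLE hle).op) :=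
      Groth.Agent.Lib.helper11.PullUnit.isIso_map_of_thin' _ (homOfLE hle) (homOfLE le_top)
    infer_instance
  let ρ : Γ(Y, V) ≃+* Γ((V : Scheme.{u}), ⊤) := (asIso (V.ι.appLE V ⊤ hle)).commRingCatIsoToRingEquiv
  have hρ : ∀ a, ρ a = (V.ι.appLE V ⊤ hle).hom a := fun _ => rfl
  have : IsNoetherianRing Γ((V : Scheme.{u}), ⊤) := isNoetherianRing_of_ringEquiv _ ρ
  have hreg' : RingTheory.Sequence.IsWeaklyRegular Γ((V : Scheme.{u}), ⊤) (rs.map ρ) :=
    (AddEquiv.isWeaklyRegular_congr (e := ρ.toAddEquiv) (List.forall₂_map_right_iff.mpr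
      (List.forall₂_same.mpr fun r _ x => map_mul ρ r x))).mp hreg
  have hI' : (𝓘.comap V.ι).ideal ⟨⊤, isAffineOpen_top _⟩ = Ideal.ofList (rs.map ρ) := by
    rw [Groth.Agent.Lib.helper7.IdealComap.ideal_comap V.ι 𝓘 hV (isAffineOpen_top _) hle, hI,
      Ideal.ofList, Ideal.ofList, Ideal.map_span]
    congr 1
    ext a
    simp only [Set.mem_image, Set.mem_ofPred_eq, List.mem_map]
    rfl
  obtain ⟨n, fs, hq, hfs⟩ := exists_quasiRegular_of_list (rs.map ρ) (by simpa using hne) hreg'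
  obtain ⟨h1, h2⟩ := Groth.Agent.Lib.helper28.BlowUpAffine.affine_main (V : Scheme.{u})
    (𝓘.comap V.ι) fs hq (hI'.trans hfs) (φ ∣_ V) (isBlowUp_morphismRestrict 𝓘 φ hφ V)
  constructor
  · have i1 : IsIso (φ ∣_ V).appTop := (ConcreteCategory.isIso_iff_bijective _).mpr h1
    rw [morphismRestrict_appTop] at i1
    have i3 : IsIso (X.presheaf.map (eqToHom (image_morphismRestrict_preimage φ V ⊤)).op) :=
      inferInstance
    have i2 : IsIso (φ.app (V.ι ''ᵁ ⊤)) :=
      @IsIso.of_isIso_comp_right _ _ _ _ _ (φ.app (V.ι ''ᵁ ⊤)) (X.presheaf.map (eqToHom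
        (image_morphismRestrict_preimage φ V ⊤)).op) i3 i1
    have h5 : V.ι ''ᵁ ⊤ = V := by simp
    rw [h5] at i2
    exact (ConcreteCategory.isIso_iff_bijective _).mp i2
  · intro p hp
    obtain ⟨e⟩ := Groth.Agent.Lib.helper11.InvMod.isTrivOn_structureModule (X := X) (φ ⁻¹ᵁ V)
    exact (Groth.Agent.Lib.Helper18.P1Euler.hhEquivOfIso e p).subsingleton_congr.mpr (h2 p hp)

end Groth.Agent.Lib.helper28.BlowUpOpen
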