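import Groth.Agent.Lib.Helper28.BlowUpAffineTwist
import Groth.Agent.Lib.Helper28.BlowUpOpen

/-!
# Blow-up along a regularly embedded centre over a good affine open: twisted coefficients (helper28)

* `exists_data`: over a good affine open `V` the ideal is generated by a quasi-regular family;
* `open_twist`: `H^p(φ⁻¹V, J^{⊗ k}) = 0` (`p > 0`, `k ≥ 0`) and `H^p(φ⁻¹V, L) = 0` for `L` inverse to
  the exceptional ideal `J` (regular sequence of length `≥ 2`).
-/

set_option autoImplicit false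
set_option linter.unusedSectionVars false
set_option linter.style.haveILetI false
universe u
open CategoryTheory CategoryTheory.Limits AlgebraicGeometry Opposite TopologicalSpace
open Scheme.Modules

namespace Groth.Agent.Lib.helper28.BlowUpOpenTwist

open Groth.Agent.Lib.helper28.ReesQuot Groth.Agent.Lib.helper16.BlowUpProper
  Groth.Agent.Lib.helper28.BlowUpAffineTwist Groth.Agent.Lib.Lead.ModTensor

/-- a nonempty weakly regular list gives a quasi-regular family generating the same ideal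
(with the length recorded) -/
theorem exists_quasiRegular_of_list' {A : Type u} [CommRing A] (rs : List A) (hne : rs ≠ [])
    (hreg : RingTheory.Sequence.IsWeaklyRegular A rs) :
    ∃ (n : ℕ) (fs : Fin (n + 1) → A), CAlgX.IsQuasiRegular fs ∧ Ideal.ofList rs = II fs ∧
      rs.length = n + 1 := by
  obtain ⟨n, hn⟩ : ∃ n, rs.length = n + 1 :=
    ⟨rs.length - 1, (Nat.succ_pred_eq_of_pos (List.length_pos_of_ne_nil hne)).symm⟩
  refine ⟨n, fun i => rs.get (i.cast hn.symm), ?_, ?_, hn⟩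
  · apply Groth.Agent.S2103.result
    apply Groth.Agent.Lib.helper28.RegBlowUp.isH1Regular_of_isWeaklyRegular
    have : List.ofFn (fun i : Fin (n + 1) => rs.get (i.cast hn.symm)) = rs := by
      apply List.ext_get
      · simp [hn]
      · intro i h1 h2
        rw [List.get_eq_getElem, List.get_eq_getElem, List.getElem_ofFn]
        rfl
    rw [this]
    exact hreg
  · rw [II, Ideal.ofList]
    congr 1
    ext a
    simp only [Set.mem_ofPred_eq, Set.mem_range]
    constructor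
    · intro ha
      obtain ⟨i, rfl⟩ := List.get_of_mem ha
      exact ⟨i.cast hn, rfl⟩
    · rintro ⟨i, rfl⟩
      exact List.get_mem _ _

/-- the data of the model over a good affine open -/
theorem exists_data {Y : Scheme.{u}} (𝓘 : Y.IdealSheafData) (V : Y.Opens) (hV : IsAffineOpen V)
    [IsNoetherianRing Γ(Y, V)] (rs : List Γ(Y, V)) (hne : rs ≠ [])
    (hreg : RingTheory.Sequence.IsWeaklyRegular Γ(Y, V) rs)
    (hI : 𝓘.ideal ⟨V, hV⟩ = Ideal.ofList rs) :
    IsNoetherianRing Γ((V : Scheme.{u}), ⊤) ∧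
    ∃ (n : ℕ) (fs : Fin (n + 1) → Γ((V : Scheme.{u}), ⊤)), CAlgX.IsQuasiRegular fs ∧
      (𝓘.comap V.ι).ideal ⟨⊤, @isAffineOpen_top _ hV⟩ = II fs ∧ rs.length = n + 1 := by
  have : IsAffine (V : Scheme.{u}) := hV
  have hle : (⊤ : (V : Scheme.{u}).Opens) ≤ V.ι ⁻¹ᵁ V := by simp
  have hρiso : IsIso (V.ι.appLE V ⊤ hle) := by
    rw [Scheme.Hom.appLE]
    have h1 : IsIso (V.ι.app V) := Scheme.Hom.isIso_app V.ι V (by simp)
    have h2 : IsIso ((V : Scheme.{u}).presheaf.map (homOfLE hle).op) :=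
      Groth.Agent.Lib.helper11.PullUnit.isIso_map_of_thin' _ (homOfLE hle) (homOfLE le_top)
    infer_instance
  let ρ : Γ(Y, V) ≃+* Γ((V : Scheme.{u}), ⊤) := (asIso (V.ι.appLE V ⊤ hle)).commRingCatIsoToRingEquiv
  have hρ : ∀ a, ρ a = (V.ι.appLE V ⊤ hle).hom a := fun _ => rfl
  have hN : IsNoetherianRing Γ((V : Scheme.{u}), ⊤) := isNoetherianRing_of_ringEquiv _ ρ
  have hreg' : RingTheory.Sequence.IsWeaklyRegular Γ((V : Scheme.{u}), ⊤) (rs.map ρ) :=
    (AddEquiv.isWeaklyRegular_congr (e := ρ.toAddEquiv) (List.forall₂_map_right_iff.mpr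
      (List.forall₂_same.mpr fun r _ x => map_mul ρ r x))).mp hreg
  have hI' : (𝓘.comap V.ι).ideal ⟨⊤, isAffineOpen_top _⟩ = Ideal.ofList (rs.map ρ) := by
    rw [Groth.Agent.Lib.helper7.IdealComap.ideal_comap V.ι 𝓘 hV (isAffineOpen_top _) hle, hI,
      Ideal.ofList, Ideal.ofList, Ideal.map_span]
    congr 1
    ext a
    simp only [Set.mem_image, Set.mem_ofPred_eq, List.mem_map]
    rfl
  obtain ⟨n, fs, hq, hfs, hlen⟩ :=
    exists_quasiRegular_of_list' (rs.map ρ) (by simpa using hne) hreg'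
  exact ⟨hN, n, fs, hq, hI'.trans hfs, by simpa using hlen⟩

/-- **Blow-up along a regularly embedded centre over a good affine open, twisted coefficients**:
`H^p(φ⁻¹V, J^{⊗ k}) = 0` for `p > 0`, `k ≥ 0` (`J` the exceptional ideal), and `H^p(φ⁻¹V, L) = 0`
for `L` inverse to `J` when the regular sequence has length `≥ 2`. -/
theorem open_twist {X Y : Scheme.{u}} (φ : X ⟶ Y) (𝓘 : Y.IdealSheafData)
    (hφ : BlowUp.IsBlowUp φ 𝓘) (V : Y.Opens) (hV : IsAffineOpen V) [IsNoetherianRing Γ(Y, V)]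
    (rs : List Γ(Y, V)) (hne : rs ≠ []) (hreg : RingTheory.Sequence.IsWeaklyRegular Γ(Y, V) rs)
    (hI : 𝓘.ideal ⟨V, hV⟩ = Ideal.ofList rs) :
    (∀ k p : ℕ, 0 < p → Subsingleton (Coh.HHon X
      (CohB1.tensorPow (ClSub.idealMod (𝓘.comap φ)) k) (φ ⁻¹ᵁ V) p)) ∧
    (2 ≤ rs.length → ∀ L : X.Modules, ClSub.IsInverseOf L (ClSub.idealMod (𝓘.comap φ)) →
      ∀ p : ℕ, 0 < p → Subsingleton (Coh.HHon X L (φ ⁻¹ᵁ V) p)) := by
  have : IsAffine (V : Scheme.{u}) := hV
  obtain ⟨hN, n, fs, hq, hfs, hlen⟩ := exists_data 𝓘 V hV rs hne hreg hI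
  have hb := isBlowUp_morphismRestrict 𝓘 φ hφ V
  obtain ⟨A1, A2⟩ := affine_twist (V : Scheme.{u}) (𝓘.comap V.ι) fs hq hfs (φ ∣_ V) hb
  have hJ : PicF.IsInvertible (ClSub.idealMod (𝓘.comap φ)) :=
    Groth.Agent.Lib.helper7.IdealCartier.invertible_of_effCartier _ hφ.1
  have heq : (𝓘.comap φ).comap (φ ⁻¹ᵁ V).ι = (𝓘.comap V.ι).comap (φ ∣_ V) := by
    rw [← Scheme.IdealSheafData.comap_comp, ← Scheme.IdealSheafData.comap_comp,
      morphismRestrict_ι]
  have hJ' : PicF.IsInvertible (ClSub.idealMod ((𝓘.comap φ).comap (φ ⁻¹ᵁ V).ι)) := by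
    rw [heq]
    exact Groth.Agent.Lib.helper7.IdealCartier.invertible_of_effCartier _ hb.1
  let α : (Scheme.Modules.pullback (φ ⁻¹ᵁ V).ι).obj (ClSub.idealMod (𝓘.comap φ)) ≅
      ClSub.idealMod ((𝓘.comap V.ι).comap (φ ∣_ V)) :=
    Groth.Agent.Lib.helper7.PullIdeal.pullIdealIso (φ ⁻¹ᵁ V).ι (𝓘.comap φ) hJ hJ' ≪≫
      eqToIso (congrArg ClSub.idealMod heq)
  constructor
  · intro k p hp
    have i1 : (CohB1.tensorPow (ClSub.idealMod (𝓘.comap φ)) k).restrict (φ ⁻¹ᵁ V).ι ≅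
        CohB1.tensorPow (ClSub.idealMod ((𝓘.comap V.ι).comap (φ ∣_ V))) k :=
      (restrictFunctorIsoPullback (φ ⁻¹ᵁ V).ι).app _ ≪≫
        Groth.Agent.Lib.helper12.PullAmple.pullTensorPowIso (φ ⁻¹ᵁ V).ι hJ k ≪≫
        tensorPowIso α k
    exact (Groth.Agent.Lib.Helper18.P1Euler.hhEquivOfIso i1 p).subsingleton_congr.mpr (A1 k p hp)
  · intro h2 L hL p hp
    have h3 : ClSub.IsInverseOf ((Scheme.Modules.pullback (φ ⁻¹ᵁ V).ι).obj L)
        (ClSub.idealMod ((𝓘.comap V.ι).comap (φ ∣_ V))) :=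
      isInverseOf_of_iso (Iso.refl _) α
        (Groth.Agent.Lib.helper12.PullPic.isInverseOf_pullback (φ ⁻¹ᵁ V).ι hJ hL)
    have h4 := A2 (by omega) _ h3 p hp
    exact (Groth.Agent.Lib.Helper18.P1Euler.hhEquivOfIso
      ((restrictFunctorIsoPullback (φ ⁻¹ᵁ V).ι).app L) p).subsingleton_congr.mpr h4

end Groth.Agent.Lib.helper28.BlowUpOpenTwist
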