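import Mathlib
import Groth.Prelude.Def_CAlgX
import Groth.Prelude.Def_CohB1
import Groth.Agent.Lib.Helper16.ReesBlowup
import Groth.Agent.Lib.Helper28.TwistPn

/-!
# The Rees algebra of a quasi-regular ideal modulo the ideal (helper28)

`fs : Fin (n+1) → A` a quasi-regular sequence generating `I`, `R = ⊕ Iᵏ Xᵏ` the Rees algebra.
Then `R / I R ≅ (A/I)[T_0, …, T_n]` as graded rings.  We construct the graded ring homomorphism
`psi fs hq : Rees.deg (reesAlgebra I) →+*ᵍ CohB1.polyGrading n (A ⧸ I)` with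
* `psi_G`: `ψ (P(f_0 X, …, f_n X)) = P mod I`;
* `psi_surj`: surjective in every degree;
* `psi_ker`: a homogeneous element of degree `k` in the kernel is `a Xᵏ` with `a ∈ I^(k+1)`.
-/

set_option autoImplicit false
set_option linter.unusedSectionVars false
universe u
open Polynomial

namespace Groth.Agent.Lib.helper28.ReesQuot

open Groth.Agent.Lib.helper16.ReesBlowup

variable {A : Type u} [CommRing A] {n : ℕ} (fs : Fin (n + 1) → A)

/-- the ideal generated by the sequence -/
abbrev II : Ideal A := Ideal.span (Set.range fs)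

theorem fs_mem (j : Fin (n + 1)) : fs j ∈ II fs := Ideal.subset_span ⟨j, rfl⟩

/-- `T_j ↦ f_j X` -/
noncomputable def G : MvPolynomial (Fin (n + 1)) A →ₐ[A] reesAlgebra (II fs) :=
  MvPolynomial.aeval (fun j => F (II fs) (fs j) (fs_mem fs j))

/-- `T_j ↦ f_j X`, into `A[X]` -/
noncomputable def evX : MvPolynomial (Fin (n + 1)) A →ₐ[A] A[X] :=
  MvPolynomial.aeval (fun j => Polynomial.C (fs j) * Polynomial.X)

theorem coe_G (P : MvPolynomial (Fin (n + 1)) A) : ((G fs P : reesAlgebra (II fs)) : A[X]) =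
    evX fs P := by
  have : (Subalgebra.val (reesAlgebra (II fs))).comp (G fs) = evX fs := by
    apply MvPolynomial.algHom_ext
    intro j
    simp [G, evX, F, Polynomial.C_mul_X_eq_monomial]
  exact congrArg (fun φ : MvPolynomial (Fin (n + 1)) A →ₐ[A] A[X] => φ P) this

theorem evX_monomial (d : Fin (n + 1) →₀ ℕ) (c : A) :
    evX fs (MvPolynomial.monomial d c) =
      Polynomial.monomial d.degree (MvPolynomial.eval fs (MvPolynomial.monomial d c)) := by
  rw [evX, MvPolynomial.aeval_monomial, MvPolynomial.eval_monomial]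
  simp only [Finsupp.prod, mul_pow, Finset.prod_mul_distrib, Finset.prod_pow_eq_pow_sum]
  rw [Polynomial.algebraMap_eq]
  have h1 : (∏ x ∈ d.support, (Polynomial.C (fs x) : A[X]) ^ d x) =
      Polynomial.C (∏ x ∈ d.support, fs x ^ d x) := by
    rw [map_prod]
    exact Finset.prod_congr rfl fun x _ => (map_pow _ _ _).symm
  rw [h1, ← mul_assoc, ← map_mul, Polynomial.C_mul_X_pow_eq_monomial]
  rfl

theorem coeff_evX (P : MvPolynomial (Fin (n + 1)) A) (k : ℕ) :
    (evX fs P).coeff k = MvPolynomial.eval fs (MvPolynomial.homogeneousComponent k P) := by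
  classical
  conv_lhs => rw [P.as_sum, map_sum]
  rw [Polynomial.finsetSum_coeff, MvPolynomial.homogeneousComponent_apply, map_sum]
  rw [Finset.sum_filter]
  refine Finset.sum_congr rfl fun d _ => ?_
  rw [evX_monomial, Polynomial.coeff_monomial]

theorem evX_of_isHomogeneous {P : MvPolynomial (Fin (n + 1)) A} {k : ℕ} (hP : P.IsHomogeneous k) :
    evX fs P = Polynomial.monomial k (MvPolynomial.eval fs P) := by
  ext m
  rw [coeff_evX, Polynomial.coeff_monomial]
  split_ifs with h
  · subst h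
    rw [MvPolynomial.homogeneousComponent_of_mem hP, if_pos rfl]
  · rw [MvPolynomial.homogeneousComponent_of_mem hP, if_neg (Ne.symm h), map_zero]

theorem eval_mem_pow {P : MvPolynomial (Fin (n + 1)) A} {k : ℕ} (hP : P.IsHomogeneous k) :
    MvPolynomial.eval fs P ∈ II fs ^ k :=
  (Ideal.mem_span_pow_iff_exists_isHomogeneous fs _).mpr ⟨P, hP, rfl⟩

theorem G_of_isHomogeneous {P : MvPolynomial (Fin (n + 1)) A} {k : ℕ} (hP : P.IsHomogeneous k) :
    G fs P = mon (II fs) k (MvPolynomial.eval fs P) (eval_mem_pow fs hP) := by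
  apply Subtype.ext
  rw [coe_G, evX_of_isHomogeneous fs hP, coe_mon]

theorem G_mem_deg {P : MvPolynomial (Fin (n + 1)) A} {k : ℕ} (hP : P.IsHomogeneous k) :
    G fs P ∈ Rees.deg (reesAlgebra (II fs)) k := by
  rw [G_of_isHomogeneous fs hP]
  exact mon_mem _ _ _ _

/-- every element of degree `k` is `P(f X)` for a homogeneous `P` of degree `k` -/
theorem exists_G_eq {k : ℕ} {p : reesAlgebra (II fs)} (hp : p ∈ Rees.deg (reesAlgebra (II fs)) k) :
    ∃ P : MvPolynomial (Fin (n + 1)) A, P.IsHomogeneous k ∧ G fs P = p := by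
  obtain ⟨x, hx, rfl⟩ := exists_mon_of_mem (II fs) hp
  obtain ⟨P, hP, rfl⟩ := (Ideal.mem_span_pow_iff_exists_isHomogeneous fs _).mp hx
  exact ⟨P, hP, G_of_isHomogeneous fs hP⟩

/-- the ideal `I R` of the Rees algebra -/
noncomputable abbrev IR : Ideal (reesAlgebra (II fs)) := (II fs).map (algebraMap A (reesAlgebra (II fs)))

theorem coeff_mem_of_mem_IR {p : reesAlgebra (II fs)} (hp : p ∈ IR fs) (k : ℕ) :
    (p : A[X]).coeff k ∈ II fs ^ (k + 1) := by
  induction hp using Submodule.span_induction generalizing k with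
  | mem x hx =>
    obtain ⟨i, hi, rfl⟩ := hx
    rw [Subalgebra.coe_algebraMap, Polynomial.algebraMap_eq, Polynomial.coeff_C]
    split_ifs with h
    · subst h
      simpa using hi
    · exact zero_mem _
  | zero => simp
  | add x y _ _ hx hy =>
    rw [Subalgebra.coe_add, Polynomial.coeff_add]
    exact add_mem (hx k) (hy k)
  | smul r x _ hx =>
    rw [smul_eq_mul, Subalgebra.coe_mul, Polynomial.coeff_mul]
    refine Ideal.sum_mem _ fun ij hij => ?_
    have h1 := r.2 ij.1
    have h2 := hx ij.2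
    have h3 : ij.1 + ij.2 = k := Finset.HasAntidiagonal.mem_antidiagonal.mp hij
    have h4 : II fs ^ (k + 1) = II fs ^ ij.1 * II fs ^ (ij.2 + 1) := by
      rw [← pow_add, ← h3, add_assoc]
    rw [h4]
    exact Ideal.mul_mem_mul h1 h2

/-- `A/I → R/IR` -/
noncomputable def beta : A ⧸ II fs →+* reesAlgebra (II fs) ⧸ IR fs :=
  Ideal.Quotient.lift (II fs)
    ((Ideal.Quotient.mk (IR fs)).comp (algebraMap A (reesAlgebra (II fs))))
    (fun _ ha => Ideal.Quotient.eq_zero_iff_mem.mpr (Ideal.mem_map_of_mem _ ha))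

/-- `(A/I)[T] → R/IR`, `T_j ↦ f_j X` -/
noncomputable def Theta : MvPolynomial (Fin (n + 1)) (A ⧸ II fs) →+* reesAlgebra (II fs) ⧸ IR fs :=
  MvPolynomial.eval₂Hom (beta fs)
    (fun j => Ideal.Quotient.mk (IR fs) (F (II fs) (fs j) (fs_mem fs j)))

theorem Theta_map (P : MvPolynomial (Fin (n + 1)) A) :
    Theta fs (MvPolynomial.map (Ideal.Quotient.mk (II fs)) P) =
      Ideal.Quotient.mk (IR fs) (G fs P) := by
  have : (Theta fs).comp (MvPolynomial.map (Ideal.Quotient.mk (II fs))) =
      (Ideal.Quotient.mk (IR fs)).comp (G fs).toRingHom := by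
    apply MvPolynomial.ringHom_ext
    · intro _
      simp [Theta, beta, G]
    · intro j
      simp [Theta, G]
  exact RingHom.congr_fun this P

theorem Theta_injective (hq : CAlgX.IsQuasiRegular fs) : Function.Injective (Theta fs) := by
  rw [injective_iff_map_eq_zero]
  intro P hP
  obtain ⟨P', rfl⟩ := MvPolynomial.map_surjective (Ideal.Quotient.mk (II fs))
    Ideal.Quotient.mk_surjective P
  rw [Theta_map, Ideal.Quotient.eq_zero_iff_mem] at hP
  have hc : ∀ d : Fin (n + 1) →₀ ℕ, MvPolynomial.coeff d P' ∈ II fs := by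
    intro d
    have h1 := coeff_mem_of_mem_IR fs hP d.degree
    rw [coe_G, coeff_evX] at h1
    have h2 := hq d.degree _ (MvPolynomial.homogeneousComponent_isHomogeneous d.degree P') h1 d
    rwa [MvPolynomial.coeff_homogeneousComponent, if_pos rfl] at h2
  ext d
  rw [MvPolynomial.coeff_map, MvPolynomial.coeff_zero]
  exact Ideal.Quotient.eq_zero_iff_mem.mpr (hc d)

theorem Theta_surjective : Function.Surjective (Theta fs) := by
  intro q
  obtain ⟨p, rfl⟩ := Ideal.Quotient.mk_surjective q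
  induction p using DirectSum.Decomposition.inductionOn (Rees.deg (reesAlgebra (II fs))) with
  | zero => exact ⟨0, by simp⟩
  | homogeneous p =>
    obtain ⟨P, -, hP⟩ := exists_G_eq fs p.2
    exact ⟨_, (Theta_map fs P).trans (by rw [hP])⟩
  | add p p' hp hp' =>
    obtain ⟨x, hx⟩ := hp
    obtain ⟨y, hy⟩ := hp'
    exact ⟨x + y, by rw [map_add, hx, hy, map_add]⟩

/-- the isomorphism `(A/I)[T] ≃ R/IR` -/
noncomputable def ThetaEquiv (hq : CAlgX.IsQuasiRegular fs) :
    MvPolynomial (Fin (n + 1)) (A ⧸ II fs) ≃+* reesAlgebra (II fs) ⧸ IR fs :=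
  RingEquiv.ofBijective (Theta fs) ⟨Theta_injective fs hq, Theta_surjective fs⟩

/-- `R → R/IR ≃ (A/I)[T]` -/
noncomputable def psiHom (hq : CAlgX.IsQuasiRegular fs) :
    reesAlgebra (II fs) →+* MvPolynomial (Fin (n + 1)) (A ⧸ II fs) :=
  ((ThetaEquiv fs hq).symm : _ →+* _).comp (Ideal.Quotient.mk (IR fs))

theorem psiHom_G (hq : CAlgX.IsQuasiRegular fs) (P : MvPolynomial (Fin (n + 1)) A) :
    psiHom fs hq (G fs P) = MvPolynomial.map (Ideal.Quotient.mk (II fs)) P := by
  rw [psiHom, RingHom.comp_apply, ← Theta_map]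
  exact (ThetaEquiv fs hq).symm_apply_apply _

theorem psiHom_eq_zero_iff (hq : CAlgX.IsQuasiRegular fs) (p : reesAlgebra (II fs)) :
    psiHom fs hq p = 0 ↔ p ∈ IR fs := by
  rw [psiHom, RingHom.comp_apply, ← Ideal.Quotient.eq_zero_iff_mem]
  exact (ThetaEquiv fs hq).symm.map_eq_zero_iff (x := Ideal.Quotient.mk (IR fs) p)

/-- **the graded ring homomorphism `R → (A/I)[T]`** -/
noncomputable def psi (hq : CAlgX.IsQuasiRegular fs) :
    Rees.deg (reesAlgebra (II fs)) →+*ᵍ CohB1.polyGrading n (A ⧸ II fs) :=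
  { psiHom fs hq with
    map_mem := fun {k x} hx => by
      obtain ⟨P, hP, rfl⟩ := exists_G_eq fs hx
      change psiHom fs hq (G fs P) ∈ _
      rw [psiHom_G]
      exact hP.map _ }

theorem psi_apply (hq : CAlgX.IsQuasiRegular fs) (p : reesAlgebra (II fs)) :
    psi fs hq p = psiHom fs hq p := rfl

theorem psi_algebraMap (hq : CAlgX.IsQuasiRegular fs) (a : A) :
    psi fs hq (algebraMap A (reesAlgebra (II fs)) a) =
      MvPolynomial.C (Ideal.Quotient.mk (II fs) a) := by
  have h1 : G fs (MvPolynomial.C a) = algebraMap A (reesAlgebra (II fs)) a := by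
    simp [G]
  rw [psi_apply, ← h1, psiHom_G, MvPolynomial.map_C]

theorem psi_F (hq : CAlgX.IsQuasiRegular fs) (j : Fin (n + 1)) :
    psi fs hq (F (II fs) (fs j) (fs_mem fs j)) = MvPolynomial.X j := by
  have h1 : G fs (MvPolynomial.X j) = F (II fs) (fs j) (fs_mem fs j) := by
    simp [G]
  rw [psi_apply, ← h1, psiHom_G, MvPolynomial.map_X]

theorem psi_algebraMap_of_mem (hq : CAlgX.IsQuasiRegular fs) {a : A} (ha : a ∈ II fs) :
    psi fs hq (algebraMap A (reesAlgebra (II fs)) a) = 0 := by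
  rw [psi_algebraMap, Ideal.Quotient.eq_zero_iff_mem.mpr ha, map_zero]

theorem psi_surj (hq : CAlgX.IsQuasiRegular fs) (k : ℕ)
    (b : MvPolynomial (Fin (n + 1)) (A ⧸ II fs)) (hb : b ∈ CohB1.polyGrading n (A ⧸ II fs) k) :
    ∃ a ∈ Rees.deg (reesAlgebra (II fs)) k, psi fs hq a = b := by
  obtain ⟨P', rfl⟩ := MvPolynomial.map_surjective (Ideal.Quotient.mk (II fs))
    Ideal.Quotient.mk_surjective b
  refine ⟨G fs (MvPolynomial.homogeneousComponent k P'),
    G_mem_deg fs (MvPolynomial.homogeneousComponent_isHomogeneous k P'), ?_⟩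
  rw [psi_apply, psiHom_G]
  ext d
  rw [MvPolynomial.coeff_map, MvPolynomial.coeff_homogeneousComponent]
  split_ifs with h
  · rw [MvPolynomial.coeff_map]
  · rw [map_zero]
    have hb' : (MvPolynomial.map (Ideal.Quotient.mk (II fs)) P').IsHomogeneous k := hb
    exact (hb'.coeff_eq_zero h).symm

theorem psi_ker (hq : CAlgX.IsQuasiRegular fs) (k : ℕ) (a : reesAlgebra (II fs))
    (h0 : psi fs hq a = 0) : (a : A[X]).coeff k ∈ II fs ^ (k + 1) := by
  rw [psi_apply, psiHom_eq_zero_iff] at h0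
  exact coeff_mem_of_mem_IR fs h0 k

open scoped HomogeneousIdeal in
theorem irrelevant_le (hq : CAlgX.IsQuasiRegular fs) :
    (HomogeneousIdeal.irrelevant (CohB1.polyGrading n (A ⧸ II fs))).toIdeal ≤
      ((HomogeneousIdeal.irrelevant (Rees.deg (reesAlgebra (II fs)))).toIdeal).map (psi fs hq) := by
  refine (Groth.Agent.Lib.helper28.TwistPn.irrelevant_le n (A ⧸ II fs)).trans ?_
  rw [Ideal.span_le]
  rintro _ ⟨j, rfl⟩
  rw [← psi_F fs hq j]
  exact Ideal.mem_map_of_mem _ (mon_one_mem_irrelevant (II fs) (fs j) (fs_mem fs j))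

end Groth.Agent.Lib.helper28.ReesQuot
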