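import Mathlib
import Groth.Agent.Lib.Helper28.ReesQuot
import Groth.Agent.Lib.Helper16.ReesBlowup3

/-!
# Sections of powers of the exceptional ideal, algebra (helper28)

* `mem_pow_of_mul_pow_mem`: for a quasi-regular family `fs` generating `I`: `a f_j^M ∈ I^{k+M} → a ∈ I^k`.
* `exists_mul_pow_mem_of_toAway_mem`: if `a` lies in `(f)^k` in the chart ring `R(I)_(fX)` of the
  blow-up then `a f^N ∈ I^{k+N}` for some `N`.
* `mem_pow_of_toAway_mem`: both together.
-/

set_option autoImplicit false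
set_option linter.unusedSectionVars false
universe u
open MvPolynomial

namespace Groth.Agent.Lib.helper28.BlowUpPushPow

open Groth.Agent.Lib.helper28.ReesQuot Groth.Agent.Lib.helper16.ReesBlowup

variable {A : Type u} [CommRing A] {n : ℕ} (fs : Fin (n + 1) → A)

theorem prod_pow_mem (d : Fin (n + 1) →₀ ℕ) : (∏ i, fs i ^ d i) ∈ II fs ^ d.degree := by
  have h1 : (∏ i, fs i ^ d i) ∈ ∏ i : Fin (n + 1), II fs ^ d i :=
    Ideal.prod_mem_prod fun i _ => Ideal.pow_mem_pow (fs_mem fs i) (d i)
  rw [Finset.prod_pow_eq_pow_sum] at h1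
  have h2 : d.degree = ∑ i, d i := by
    rw [Finsupp.degree]
    exact Finset.sum_subset (Finset.subset_univ _) fun i _ hi => by simpa using hi
  rw [h2]
  exact h1

theorem eval_mem_pow_succ_of_coeff_mem {P : MvPolynomial (Fin (n + 1)) A} {k : ℕ}
    (hP : P.IsHomogeneous k) (hc : ∀ d, P.coeff d ∈ II fs) :
    MvPolynomial.eval fs P ∈ II fs ^ (k + 1) := by
  rw [MvPolynomial.eval_eq']
  refine Ideal.sum_mem _ fun d hd => ?_
  have hdeg : d.degree = k := by
    have h0 := hP (MvPolynomial.mem_support_iff.mp hd)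
    rw [Finsupp.degree_eq_weight_one]
    exact h0
  rw [pow_succ']
  refine Ideal.mul_mem_mul (hc d) ?_
  rw [← hdeg]
  exact prod_pow_mem fs d

/-- **quasi-regular cancellation**: `a f_j^M ∈ I^{k+M} → a ∈ I^k` -/
theorem mem_pow_of_mul_pow_mem (hq : CAlgX.IsQuasiRegular fs) (j : Fin (n + 1)) (a : A) (k M : ℕ)
    (h : a * fs j ^ M ∈ II fs ^ (k + M)) : a ∈ II fs ^ k := by
  suffices H : ∀ k', k' ≤ k → a ∈ II fs ^ k' from H k le_rfl
  intro k'
  induction k' with
  | zero => intro _; simp
  | succ k' ih =>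
    intro hk
    have ha := ih (by omega)
    obtain ⟨P, hP, rfl⟩ := (Ideal.mem_span_pow_iff_exists_isHomogeneous fs _).mp ha
    have hQ : (P * X j ^ M).IsHomogeneous (k' + M) := by
      have := hP.mul ((isHomogeneous_X A j).pow M)
      simpa using this
    have hev : eval fs (P * X j ^ M) ∈ II fs ^ (k' + M + 1) := by
      rw [map_mul, map_pow, eval_X]
      exact Ideal.pow_le_pow_right (by omega) h
    have hc := hq (k' + M) _ hQ hev
    apply eval_mem_pow_succ_of_coeff_mem fs hP
    intro d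
    have h1 := hc (d + Finsupp.single j M)
    rwa [X_pow_eq_monomial, coeff_mul_monomial, mul_one] at h1

variable (I : Ideal A) (f : A) (hf : f ∈ I)

/-- if `a ∈ (f)^k` in the chart ring `R(I)_(fX)` then `a f^N ∈ I^{k+N}` for some `N` -/
theorem exists_mul_pow_mem_of_toAway_mem (a : A) (k : ℕ)
    (h : toAway I f hf a ∈ Ideal.span {toAway I f hf f} ^ k) : ∃ N, a * f ^ N ∈ I ^ (k + N) := by
  rw [Ideal.span_singleton_pow, Ideal.mem_span_singleton'] at h
  obtain ⟨z, hz⟩ := h
  obtain ⟨m, x, hx, rfl⟩ := frac_surjective I f hf z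
  have h1 := congrArg (Theta I f hf) hz
  rw [map_mul, map_pow, Theta_toAway, Theta_toAway] at h1
  have h2 := Theta_frac_mul I f hf m x hx
  have h3 : algebraMap A (Localization.Away f) (a * f ^ m) =
      algebraMap A (Localization.Away f) (x * f ^ k) := by
    rw [map_mul, map_mul, ← h1, ← h2, map_pow, map_pow]
    ring
  obtain ⟨⟨_, N, rfl⟩, hN⟩ := (IsLocalization.eq_iff_exists (Submonoid.powers f) _).mp h3
  refine ⟨N + m, ?_⟩
  have h4 : a * f ^ (N + m) = x * f ^ (k + N) := by
    rw [pow_add, pow_add]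
    linear_combination hN
  rw [h4]
  have h5 : I ^ (k + (N + m)) = I ^ m * I ^ (k + N) := by
    rw [← pow_add]
    congr 1
    omega
  rw [h5]
  exact Ideal.mul_mem_mul hx (Ideal.pow_mem_pow hf _)

/-- **sections of the `k`-th power of the exceptional ideal on one chart come from `I^k`** -/
theorem mem_pow_of_toAway_mem (hq : CAlgX.IsQuasiRegular fs) (j : Fin (n + 1)) (a : A) (k : ℕ)
    (h : toAway (II fs) (fs j) (fs_mem fs j) a ∈
      Ideal.span {toAway (II fs) (fs j) (fs_mem fs j) (fs j)} ^ k) : a ∈ II fs ^ k := by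
  obtain ⟨N, hN⟩ := exists_mul_pow_mem_of_toAway_mem (II fs) (fs j) (fs_mem fs j) a k h
  exact mem_pow_of_mul_pow_mem fs hq j a k N hN

end Groth.Agent.Lib.helper28.BlowUpPushPow
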