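import Mathlib
import Groth.Agent.Lib.Helper28.BlowUpPushPow1
import Groth.Agent.Lib.Helper28.BlowUpOpenTwist

/-!
# Sections of powers of the exceptional ideal over a good affine open (helper28)

* `affine_mem_pow`: blow-up `b : B ⟶ X` of an affine scheme in a quasi-regular ideal `I = (fs)`:
  there is an affine open `W₀ ⊆ B` such that `a ∈ I^k` as soon as `b^♯ a ∈ (I O_B(W₀))^k`.
* `mem_pow_of_forall_mem`: the same over a good affine open `V` of any base scheme.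
-/

set_option autoImplicit false
set_option linter.unusedSectionVars false
set_option linter.style.haveILetI false
universe u
open CategoryTheory CategoryTheory.Limits AlgebraicGeometry Opposite TopologicalSpace

namespace Groth.Agent.Lib.helper28.BlowUpPushPow

open Groth.Agent.Lib.helper28.ReesQuot Groth.Agent.Lib.helper16.ReesBlowup
  Groth.Agent.Lib.helper16.BlowUpProper Groth.Agent.Lib.helper28.BlowUpAffineTwist
  Groth.Agent.Lib.helper28.BlowUpOpenTwist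

theorem mem_pow_of_map_mem {R S : Type*} [CommRing R] [CommRing S] (ε : R →+* S)
    (hε : Function.Bijective ε) (J : Ideal R) (x : R) (k : ℕ) (h : ε x ∈ (J.map ε) ^ k) :
    x ∈ J ^ k := by
  rw [← Ideal.map_pow] at h
  have h1 := Ideal.mem_comap.mpr h
  rwa [Ideal.comap_map_of_bijective ε hε] at h1

theorem ringOf_isoSpec (X : Scheme.{u}) [IsAffine X] :
    ringOf (A := Γ(X, ⊤)) X.isoSpec.hom ⊤ = RingHom.id _ := by
  have h3 := toSpecΓ_ringOf_top (A := Γ(X, ⊤)) X.isoSpec.hom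
  have h4 : X.toSpecΓ ≫ Spec.map (CommRingCat.ofHom (ringOf (A := Γ(X, ⊤)) X.isoSpec.hom ⊤)) =
      X.toSpecΓ ≫ Spec.map (𝟙 _) := by
    rw [Spec.map_id, Category.comp_id]; exact h3
  have h5 := Spec.map_injective ((cancel_epi X.toSpecΓ).mp h4)
  exact congrArg CommRingCat.Hom.hom h5

/-- **affine base**: sections of the `k`-th power of the exceptional ideal on a suitable affine chart
of the blow-up come from `I^k`. -/
theorem affine_mem_pow (X : Scheme.{u}) [IsAffine X] (𝓘 : X.IdealSheafData) {n : ℕ}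
    (fs : Fin (n + 1) → Γ(X, ⊤)) (hq : CAlgX.IsQuasiRegular fs)
    (hI : 𝓘.ideal ⟨⊤, isAffineOpen_top X⟩ = II fs) {B : Scheme.{u}} (b : B ⟶ X)
    (hb : BlowUp.IsBlowUp b 𝓘) :
    ∃ W₀ : B.Opens, IsAffineOpen W₀ ∧ ∀ (a : Γ(X, ⊤)) (k : ℕ),
      (b.appLE ⊤ W₀ le_top).hom a ∈ ((II fs).map (b.appLE ⊤ W₀ le_top).hom) ^ k →
        a ∈ II fs ^ k := by
  obtain ⟨e, he_iso, he_bl, -⟩ := exists_model X 𝓘 fs hI b hb
  have hC := isAffineOpen_chart (II fs) (fs 0) (fs_mem fs 0)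
  refine ⟨e ⁻¹ᵁ chart (II fs) (fs 0) (fs_mem fs 0), hC.preimage_of_isIso e, fun a k h => ?_⟩
  -- the two descriptions of the ring map `Γ(X, ⊤) → Γ(B, W₀)`
  have h1 := ringOf_comp b X.isoSpec.hom ⊤ (e ⁻¹ᵁ chart (II fs) (fs 0) (fs_mem fs 0)) le_top
  rw [ringOf_isoSpec, RingHom.comp_id] at h1
  have h2 := ringOf_comp e (bl (II fs)) (chart (II fs) (fs 0) (fs_mem fs 0))
    (e ⁻¹ᵁ chart (II fs) (fs 0) (fs_mem fs 0)) le_rfl
  rw [he_bl, h1, ringOf_bl_chart] at h2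
  have hτ : Function.Bijective
      (Proj.awayToSection (Rees.deg (reesAlgebra (II fs))) (F (II fs) (fs 0) (fs_mem fs 0))).hom := by
    have := isIso_awayToSection (II fs) (fs 0) (fs_mem fs 0)
    exact ConcreteCategory.bijective_of_isIso _
  have hε : Function.Bijective (e.appLE (chart (II fs) (fs 0) (fs_mem fs 0))
      (e ⁻¹ᵁ chart (II fs) (fs 0) (fs_mem fs 0)) le_rfl).hom := by
    rw [← Scheme.Hom.app_eq_appLE]
    exact ConcreteCategory.bijective_of_isIso _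
  rw [h2, ← Ideal.map_map, ← Ideal.map_map] at h
  simp only [RingHom.comp_apply] at h
  have h3 := mem_pow_of_map_mem _ hε _ _ k h
  have h4 := mem_pow_of_map_mem _ hτ _ _ k h3
  rw [map_toAway_eq_span] at h4
  exact mem_pow_of_toAway_mem fs hq 0 a k h4

theorem appLE_congr {X Y : Scheme.{u}} {f g : X ⟶ Y} (h : f = g) (U : Y.Opens) (W : X.Opens)
    (e : W ≤ f ⁻¹ᵁ U) : f.appLE U W e = g.appLE U W (h ▸ e) := by
  subst h; rfl

theorem square_appLE {X Y : Scheme.{u}} (φ : X ⟶ Y) (V : Y.Opens)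
    (W₀ : ((φ ⁻¹ᵁ V : X.Opens) : Scheme.{u}).Opens)
    (hle : (φ ⁻¹ᵁ V).ι ''ᵁ W₀ ≤ φ ⁻¹ᵁ V) (hle' : (⊤ : (V : Scheme.{u}).Opens) ≤ V.ι ⁻¹ᵁ V) :
    φ.appLE V ((φ ⁻¹ᵁ V).ι ''ᵁ W₀) hle ≫ ((φ ⁻¹ᵁ V).ι.appIso W₀).hom =
      V.ι.appLE V ⊤ hle' ≫ (φ ∣_ V).appLE ⊤ W₀ le_top := by
  rw [Scheme.Hom.appIso_hom', Scheme.Hom.appLE_comp_appLE, Scheme.Hom.appLE_comp_appLE]
  exact appLE_congr (morphismRestrict_ι φ V).symm _ _ _

/-- **sections of the `k`-th power of the exceptional ideal over a good affine open `V` of the base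
come from `I(V)^k`**: if `φ^♯ a` lies in `(I O_X)^k` on all affine opens of `φ⁻¹V` then `a ∈ I(V)^k`. -/
theorem mem_pow_of_forall_mem {X Y : Scheme.{u}} (φ : X ⟶ Y) (𝓘 : Y.IdealSheafData)
    (hφ : BlowUp.IsBlowUp φ 𝓘) (V : Y.Opens) (hV : IsAffineOpen V) [IsNoetherianRing Γ(Y, V)]
    (rs : List Γ(Y, V)) (hne : rs ≠ []) (hreg : RingTheory.Sequence.IsWeaklyRegular Γ(Y, V) rs)
    (hI : 𝓘.ideal ⟨V, hV⟩ = Ideal.ofList rs) (a : Γ(Y, V)) (k : ℕ)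
    (h : ∀ (W : X.Opens) (hW : IsAffineOpen W) (hle : W ≤ φ ⁻¹ᵁ V),
      (φ.appLE V W hle).hom a ∈ (𝓘.comap φ).ideal ⟨W, hW⟩ ^ k) :
    a ∈ 𝓘.ideal ⟨V, hV⟩ ^ k := by
  have : IsAffine (V : Scheme.{u}) := hV
  obtain ⟨hN, n, fs, hq, hfs, -⟩ := exists_data 𝓘 V hV rs hne hreg hI
  have hb := isBlowUp_morphismRestrict 𝓘 φ hφ V
  obtain ⟨W₀, hW₀, hmain⟩ := affine_mem_pow (V : Scheme.{u}) (𝓘.comap V.ι) fs hq hfs (φ ∣_ V) hb
  have hW : IsAffineOpen ((φ ⁻¹ᵁ V).ι ''ᵁ W₀) := hW₀.image_of_isOpenImmersion _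
  have hWle : (φ ⁻¹ᵁ V).ι ''ᵁ W₀ ≤ φ ⁻¹ᵁ V := by
    rintro _ ⟨x, -, rfl⟩
    exact x.2
  have h1 := h _ hW hWle
  rw [Groth.Agent.Lib.helper7.IdealComap.ideal_comap φ 𝓘 hV hW hWle] at h1
  have hle : (⊤ : (V : Scheme.{u}).Opens) ≤ V.ι ⁻¹ᵁ V := by simp
  have hρiso : IsIso (V.ι.appLE V ⊤ hle) := by
    rw [Scheme.Hom.appLE]
    have h1 : IsIso (V.ι.app V) := Scheme.Hom.isIso_app V.ι V (by simp)
    have h2 : IsIso ((V : Scheme.{u}).presheaf.map (homOfLE hle).op) :=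
      Groth.Agent.Lib.helper11.PullUnit.isIso_map_of_thin' _ (homOfLE hle) (homOfLE le_top)
    infer_instance
  have hρ : Function.Bijective (V.ι.appLE V ⊤ hle).hom := ConcreteCategory.bijective_of_isIso _
  have hfs' : (𝓘.ideal ⟨V, hV⟩).map (V.ι.appLE V ⊤ hle).hom = II fs := by
    rw [← hfs, Groth.Agent.Lib.helper7.IdealComap.ideal_comap V.ι 𝓘 hV (isAffineOpen_top _) hle]
  have h2 := Ideal.mem_map_of_mem ((φ ⁻¹ᵁ V).ι.appIso W₀).hom.hom h1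
  rw [Ideal.map_pow, Ideal.map_map] at h2
  have hsq := square_appLE φ V W₀ hWle hle
  have hsq' : (((φ ⁻¹ᵁ V).ι.appIso W₀).hom.hom).comp (φ.appLE V _ hWle).hom =
      ((φ ∣_ V).appLE ⊤ W₀ le_top).hom.comp (V.ι.appLE V ⊤ hle).hom := by
    have h5 := congrArg CommRingCat.Hom.hom hsq
    simpa using h5
  have h3 : ((φ ⁻¹ᵁ V).ι.appIso W₀).hom.hom ((φ.appLE V _ hWle).hom a) =
      ((φ ∣_ V).appLE ⊤ W₀ le_top).hom ((V.ι.appLE V ⊤ hle).hom a) := RingHom.congr_fun hsq' a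
  rw [hsq', ← Ideal.map_map, hfs', h3] at h2
  have h4 := hmain _ k h2
  rw [← hfs'] at h4
  exact mem_pow_of_map_mem _ hρ _ a k h4

end Groth.Agent.Lib.helper28.BlowUpPushPow
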