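import Mathlib
import Groth.Agent.Lib.Helper28.BlowUpPushPow2
import Groth.Agent.Lib.Helper28.BlowUpPushInv2
import Groth.Agent.Lib.Helper28.BlowUpDirect
import Groth.Agent.Lib.Helper11.IdealOfMono
import Groth.Agent.Lib.Helper6.IdealSheaf

/-!
# `φ_*(J^k) = I^k` for a blow-up along a regularly embedded centre (helper28)

`φ : X ⟶ Y` a blow-up of `𝓘`, every point of `Y` good for `𝓘`. Then
`φ_* (idealMod ((𝓘.comap φ)^k)) ≅ idealMod (𝓘^k)` (`nonempty_push_idealMod_pow_iso`).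
-/

set_option autoImplicit false
set_option linter.unusedSectionVars false
set_option linter.style.haveILetI false
universe u
open CategoryTheory CategoryTheory.Limits AlgebraicGeometry Opposite TopologicalSpace
open Scheme.Modules

namespace Groth.Agent.Lib.helper28.BlowUpPushPow

open Groth.Agent.Lib.helper28.BlowUpDirect Groth.Agent.Lib.helper11.InvPullback
  Groth.Agent.Lib.helper11.IdealOfMono Groth.Agent.Lib.helper7

/-- restriction of a section of an ideal module to an affine open lies in the ideal -/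
theorem res_mem_ideal_of_mem_range {X : Scheme.{u}} (K : X.IdealSheafData) (U : X.Opens)
    (s : Γ(X, U)) (hs : s ∈ Set.range ((ClSub.idealModι K).app U).hom) (W : X.Opens)
    (hW : IsAffineOpen W) (hle : W ≤ U) :
    (X.presheaf.map (homOfLE hle).op).hom s ∈ K.ideal ⟨W, hW⟩ := by
  obtain ⟨t, rfl⟩ := hs
  have h1 := IdealMod.idealModι_app_mem K ⟨W, hW⟩
    ((ClSub.idealMod K).presheaf.map (homOfLE hle).op t)
  have h2 := Groth.Agent.Lib.helper16.QCohEpi.app_map (ClSub.idealModι K) hle t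
  rw [h2] at h1
  exact h1

theorem isIso_unitToPush {X Y : Scheme.{u}} (φ : X ⟶ Y) (𝓘 : Y.IdealSheafData)
    (hφ : BlowUp.IsBlowUp φ 𝓘) (hgood : ∀ y : Y, GoodAt 𝓘 y) : IsIso (unitToPush φ) := by
  have hbij := (main φ 𝓘 hφ hgood).1
  rw [Hom.isIso_iff_isIso_app]
  intro U
  exact (ConcreteCategory.isIso_iff_bijective (Hom.app (unitToPush φ) U)).mpr (hbij U)

/-- **`φ_*(J^k) ≅ I^k`** for a blow-up `φ` of `I` along a regularly embedded centre, `J = I O_X` -/
theorem nonempty_push_idealMod_pow_iso {X Y : Scheme.{u}} (φ : X ⟶ Y) (𝓘 : Y.IdealSheafData)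
    (hφ : BlowUp.IsBlowUp φ 𝓘) (hgood : ∀ y : Y, GoodAt 𝓘 y) (k : ℕ) :
    Nonempty ((Scheme.Modules.pushforward φ).obj (ClSub.idealMod ((𝓘.comap φ) ^ k)) ≅
      ClSub.idealMod (𝓘 ^ k)) := by
  have hprop := isProper_of_goodAt φ 𝓘 hφ hgood
  have hiso := isIso_unitToPush φ 𝓘 hφ hgood
  haveI : (ClSub.idealMod ((𝓘.comap φ) ^ k)).IsQuasicoherent := IdealMod.idealMod_qcoh _
  haveI : ((Scheme.Modules.pushforward φ).obj (ClSub.idealMod ((𝓘.comap φ) ^ k))).IsQuasicoherent :=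
    QCohPushQC.isQuasicoherent_pushforward φ _
  obtain ⟨i, hi⟩ : ∃ i : (Scheme.Modules.pushforward φ).obj (ClSub.idealMod ((𝓘.comap φ) ^ k)) ⟶
      Coh.structureModule Y,
      i ≫ unitToPush φ = (Scheme.Modules.pushforward φ).map (ClSub.idealModι ((𝓘.comap φ) ^ k)) :=
    ⟨(Scheme.Modules.pushforward φ).map (ClSub.idealModι ((𝓘.comap φ) ^ k)) ≫ inv (unitToPush φ),
      by rw [Category.assoc, IsIso.inv_hom_id, Category.comp_id]⟩
  haveI : Mono (ClSub.idealModι ((𝓘.comap φ) ^ k)) := IdealMod.mono_idealModι _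
  haveI : Mono ((Scheme.Modules.pushforward φ).map (ClSub.idealModι ((𝓘.comap φ) ^ k))) :=
    inferInstance
  haveI : Mono i := by
    have : Mono (i ≫ unitToPush φ) := by rw [hi]; infer_instance
    exact mono_of_mono i (unitToPush φ)
  -- sectionwise description of `i`
  have hsec : ∀ (V : Y.Opens)
      (t : Γ((Scheme.Modules.pushforward φ).obj (ClSub.idealMod ((𝓘.comap φ) ^ k)), V)),
      (φ.app V).hom ((i.app V).hom t : Γ(Y, V)) =
        (((ClSub.idealModι ((𝓘.comap φ) ^ k)).app (φ ⁻¹ᵁ V)).hom t : Γ(X, φ ⁻¹ᵁ V)) := by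
    intro V t
    have h1 := congrArg (fun ψ => (Hom.app ψ V).hom t) hi
    exact h1
  have hcp : (𝓘 ^ k).comap φ = (𝓘.comap φ) ^ k := Groth.Agent.Lib.helper6.comap_pow φ 𝓘 k
  have heq : idealOfHom _ i = 𝓘 ^ k := by
    refine Scheme.IdealSheafData.ext_of_iSup_eq_top
      (fun V : {V : Y.affineOpens // IsNoetherianRing Γ(Y, V.1) ∧ ∃ rs : List Γ(Y, V.1), rs ≠ [] ∧
        RingTheory.Sequence.IsWeaklyRegular Γ(Y, V.1) rs ∧ 𝓘.ideal V = Ideal.ofList rs} => V.1)
      ?_ ?_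
    · rw [eq_top_iff]
      intro y _
      obtain ⟨V, hV, hyV, hN, rs, hne, hreg, hI⟩ := hgood y
      exact Opens.mem_iSup.mpr ⟨⟨⟨V, hV⟩, hN, rs, hne, hreg, hI⟩, hyV⟩
    · rintro ⟨⟨V, hV⟩, hN, rs, hne, hreg, hI⟩
      show (idealOfHom _ i).ideal ⟨V, hV⟩ = (𝓘 ^ k).ideal ⟨V, hV⟩
      ext s
      rw [idealOfHom_ideal, mem_imgIdeal_iff]
      constructor
      · rintro ⟨t, rfl⟩
        refine mem_pow_of_forall_mem φ 𝓘 hφ V hV rs hne hreg hI _ k fun W hW hle => ?_
        have h1 := res_mem_ideal_of_mem_range ((𝓘.comap φ) ^ k) (φ ⁻¹ᵁ V) _ ⟨t, rfl⟩ W hW hle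
        rw [← hsec V t] at h1
        exact h1
      · intro hs
        have h1 := Groth.Agent.Lib.helper28.BlowUpPushInv.app_mem_range_idealModι φ (𝓘 ^ k) V hV s hs
        rw [hcp] at h1
        obtain ⟨t, ht⟩ := h1
        refine ⟨t, ?_⟩
        apply ((ConcreteCategory.isIso_iff_bijective (φ.app V)).mp
          ((main φ 𝓘 hφ hgood).1 V |> (ConcreteCategory.isIso_iff_bijective (φ.app V)).mpr)).1
        exact (hsec V t).trans ht
  exact ⟨idealModIso _ i ≪≫ eqToIso (congrArg ClSub.idealMod heq)⟩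

end Groth.Agent.Lib.helper28.BlowUpPushPow
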