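import Mathlib
import Groth.Agent.Lib.Helper28.BlowPtsB
import Groth.Agent.Lib.Helper28.BlowUpPushPow3
import Groth.Agent.Lib.Helper11.TwistH1
import Groth.Agent.Lib.Lead.DimOneVanish
import Groth.Agent.Lib.Lead.HHPushGen
import Groth.Agent.Lib.Helper18.HHLES
import Groth.Agent.Lib.Helper18.ProjFormulaLF

/-!
# Cohomology of line bundles on the blow-up of finitely many closed points (helper28)

`P : Fin s → Y` distinct closed points with closed union `Z`, `π : X ⟶ Y` a blow-up of the ideal of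
`Z` (every point of `Y` good for that ideal), `K_t = I_{P_t} O_X`, `F` invertible on `Y`,
`M = π^*F ⊗ ⨂_t K_t^{⊗ d_t}`.

* `subsingleton_HH_of_le_isoLocus`: if `g : A ⟶ B` is an isomorphism off finitely many closed points
  then `H^i(B) = 0 ⇒ H^i(A) = 0` for `i ≥ 2`;
* `multiMap`, the multiplication `M ⟶ π^*F`, an isomorphism off the exceptional locus;
* `pushPullIso : π_* π^* F ≅ F`;
* `subsingleton_HH_multi`: `H^i(Y, F) = 0 ⇒ H^i(X, M) = 0` for `i ≥ 2`.
-/

set_option autoImplicit false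
set_option linter.unusedSectionVars false
set_option linter.style.haveILetI false
universe u
open CategoryTheory CategoryTheory.Limits AlgebraicGeometry Opposite TopologicalSpace
open Scheme.Modules

namespace Groth.Agent.Lib.helper28.BlowPts

open Groth.Agent.Lib.helper11.IsoLocus Groth.Agent.Lib.helper11.InvMod
  Groth.Agent.Lib.Lead.ModTensor Groth.Agent.Lib.helper7
  Groth.Agent.Lib.helper28.BlowUpDirect Groth.Agent.Lib.helper28.BlowUpOpenTwist
  Groth.Agent.Lib.helper28.BlowUpDirectTwist Groth.Agent.Lib.helper28.BlowUpTwistBase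
  Groth.Agent.Lib.helper28.PnPoints Groth.Agent.Lib.helper12.TensorInv
  Groth.Agent.Lib.Helper18

variable {X Y : Scheme.{u}}

section Abstract

/-- `0 → ker f → X → im f → 0`. -/
theorem shortExact_kernel_image {C : Type*} [Category C] [Abelian C] {X Y : C} (f : X ⟶ Y) :
    (ShortComplex.mk (kernel.ι f) (Abelian.factorThruImage f) (by
      rw [← cancel_mono (Abelian.image.ι f), Category.assoc, Abelian.image.fac, kernel.condition,
        zero_comp])).ShortExact := by
  refine ShortComplex.ShortExact.mk' ?_ inferInstance inferInstance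
  refine ShortComplex.exact_of_f_is_kernel _ ?_
  exact isKernelOfComp (f := Abelian.factorThruImage f) (Abelian.image.ι f) f (kernelIsKernel f) _
    (Abelian.image.fac f)

/-- `0 → im f → Y → coker f → 0`. -/
theorem shortExact_image_cokernel {C : Type*} [Category C] [Abelian C] {X Y : C} (f : X ⟶ Y) :
    (ShortComplex.mk (Abelian.image.ι f) (cokernel.π f) (kernel.condition _)).ShortExact := by
  refine ShortComplex.ShortExact.mk' ?_ inferInstance inferInstance
  exact ShortComplex.exact_of_f_is_kernel _ (kernelIsKernel (cokernel.π f))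

/-- if `g : A ⟶ B` is an isomorphism over an open whose complement consists of closed points, then
`H^i(B) = 0` implies `H^i(A) = 0` for `i ≥ 2` -/
theorem subsingleton_HH_of_le_isoLocus [IsLocallyNoetherian Y] {A B : Y.Modules} (g : A ⟶ B)
    (U : Y.Opens) (hU : ∀ x : Y, x ∉ U → IsClosed ({x} : Set Y)) (hg : U ≤ isoLocus g) (i : ℕ)
    (hi : 2 ≤ i) (hB : Subsingleton (Coh.HH Y B i)) : Subsingleton (Coh.HH Y A i) := by
  obtain ⟨j, rfl⟩ : ∃ j, i = j + 2 := ⟨i - 2, by omega⟩
  have hK : ∀ O : Y.Opens, O ≤ U → Subsingleton Γ(kernel g, O) := by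
    intro O hO
    refine ⟨fun a b => ?_⟩
    apply KerSections.kernel_ι_app_injective g O
    have hiso : IsIso (g.app O) := isIso_app_of_le_isoLocus g (hO.trans hg)
    apply ((ConcreteCategory.isIso_iff_bijective _).mp hiso).1
    exact (KerSections.kernel_ι_app_comp g O a).trans (KerSections.kernel_ι_app_comp g O b).symm
  have hC : ∀ O : Y.Opens, O ≤ U → Subsingleton Γ(cokernel g, O) := by
    intro O hO
    refine ⟨fun a b => ?_⟩
    rw [Groth.Agent.Lib.helper11.TwistH1.eq_zero_of_le_isoLocus g (hO.trans hg) a,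
      Groth.Agent.Lib.helper11.TwistH1.eq_zero_of_le_isoLocus g (hO.trans hg) b]
  have hK1 : Subsingleton (Coh.HH Y (kernel g) (j + 2)) :=
    Groth.Agent.Lib.Lead.DimOneVanish.subsingleton_HH_of_sections_vanish (kernel g) U hU hK (j + 1)
  have hC1 : Subsingleton (Coh.HH Y (cokernel g) (j + 1)) :=
    Groth.Agent.Lib.Lead.DimOneVanish.subsingleton_HH_of_sections_vanish (cokernel g) U hU hC j
  have hS2 := shortExact_image_cokernel g
  have hS1 := shortExact_kernel_image g
  have hI : Subsingleton (Coh.HH Y (Abelian.image g) (j + 2)) := by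
    refine ⟨fun a b => ?_⟩
    have h : ∀ x : Coh.HH Y (Abelian.image g) (j + 2), x = 0 := by
      intro x
      have hx : HH.map (Abelian.image.ι g) (j + 1 + 1) x = 0 := Subsingleton.elim _ _
      obtain ⟨c, rfl⟩ := (HH.exact₁ hS2 (j + 1) x).1 hx
      rw [Subsingleton.elim c 0, map_zero]
    rw [h a, h b]
  refine ⟨fun a b => ?_⟩
  have h : ∀ x : Coh.HH Y A (j + 2), x = 0 := by
    intro x
    have hx : HH.map (Abelian.factorThruImage g) (j + 2) x = 0 := Subsingleton.elim _ _
    obtain ⟨c, rfl⟩ := (HH.exact₂ hS1 (j + 2) x).1 hx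
    rw [Subsingleton.elim c 0, map_zero]
  rw [h a, h b]

end Abstract

section Maps

/-- the map `A^{⊗ k} ⟶ O` induced by `f : A ⟶ O` -/
noncomputable def powToUnit {A : X.Modules} (f : A ⟶ Coh.structureModule X) : (k : ℕ) →
    (CohB1.tensorPow A k ⟶ Coh.structureModule X)
  | 0 => 𝟙 _
  | k + 1 => tensorMap (powToUnit f k) f ≫ (leftUnitor _).hom

theorem le_isoLocus_comp' {A B C : X.Modules} (φ : A ⟶ B) (ψ : B ⟶ C) (U : X.Opens)
    (h1 : U ≤ isoLocus φ) (h2 : U ≤ isoLocus ψ) : U ≤ isoLocus (φ ≫ ψ) := by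
  rw [le_isoLocus_iff] at h1 h2 ⊢
  rw [Functor.map_comp]
  infer_instance

theorem le_isoLocus_tensorMap {A B C D : X.Modules} (φ : A ⟶ B) (ψ : C ⟶ D) (U : X.Opens)
    (h1 : U ≤ isoLocus φ) (h2 : U ≤ isoLocus ψ) : U ≤ isoLocus (tensorMap φ ψ) :=
  le_trans (le_inf h1 h2) (Groth.Agent.Lib.helper12.PullTensor.isoLocus_inf_le_tensorMap φ ψ)

theorem le_isoLocus_of_isIso {A B : X.Modules} (φ : A ⟶ B) [IsIso φ] (U : X.Opens) :
    U ≤ isoLocus φ := by
  rw [(isoLocus_eq_top_iff φ).mpr inferInstance]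
  exact le_top

theorem le_isoLocus_powToUnit {A : X.Modules} (f : A ⟶ Coh.structureModule X) (k : ℕ)
    (U : X.Opens) (h : U ≤ isoLocus f) : U ≤ isoLocus (powToUnit f k) := by
  induction k with
  | zero => exact le_isoLocus_of_isIso (𝟙 _) U
  | succ k ih =>
    exact le_isoLocus_comp' _ _ U (le_isoLocus_tensorMap _ _ U ih h) (le_isoLocus_of_isIso _ U)

/-- the multiplication `⨂_{t ∈ l} A_t ⟶ O` induced by maps `A_t ⟶ O` -/
noncomputable def listToUnit {ι : Type*} (f : ι → X.Modules)
    (m : ∀ t, f t ⟶ Coh.structureModule X) : (l : List ι) →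
    (FGA.tensorList (l.map f) ⟶ Coh.structureModule X)
  | [] => 𝟙 _
  | a :: l => tensorMap (m a) (listToUnit f m l) ≫ (leftUnitor _).hom

theorem le_isoLocus_listToUnit {ι : Type*} (f : ι → X.Modules)
    (m : ∀ t, f t ⟶ Coh.structureModule X) (l : List ι) (U : X.Opens)
    (h : ∀ t ∈ l, U ≤ isoLocus (m t)) : U ≤ isoLocus (listToUnit f m l) := by
  induction l with
  | nil => exact le_isoLocus_of_isIso (𝟙 _) U
  | cons a l ih =>
    exact le_isoLocus_comp' _ _ U (le_isoLocus_tensorMap _ _ U (h a (List.mem_cons_self ..))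
      (ih fun t ht => h t (List.mem_cons_of_mem _ ht))) (le_isoLocus_of_isIso _ U)

/-- the multiplication `⨂_t K_t^{⊗ d_t} ⟶ O` for a family of ideals -/
noncomputable def multiToUnit {s : ℕ} (K : Fin s → X.IdealSheafData) (d : Fin s → ℕ) :
    FGA.multiTwist (fun t => ClSub.idealMod (K t)) d ⟶ Coh.structureModule X :=
  listToUnit (fun t => CohB1.tensorPow (ClSub.idealMod (K t)) (d t))
    (fun t => powToUnit (ClSub.idealModι (K t)) (d t)) (List.finRange s)

theorem le_isoLocus_multiToUnit {s : ℕ} (K : Fin s → X.IdealSheafData) (d : Fin s → ℕ)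
    (U : X.Opens) (h : ∀ t, U ≤ isoLocus (ClSub.idealModι (K t))) :
    U ≤ isoLocus (multiToUnit K d) :=
  le_isoLocus_listToUnit _ _ _ U fun t _ => le_isoLocus_powToUnit _ _ U (h t)

/-- the multiplication `G ⊗ ⨂_t K_t^{⊗ d_t} ⟶ G` -/
noncomputable def multiMap {s : ℕ} (G : X.Modules) (K : Fin s → X.IdealSheafData) (d : Fin s → ℕ) :
    CohB1.tensorMod G (FGA.multiTwist (fun t => ClSub.idealMod (K t)) d) ⟶ G :=
  tensorMap (𝟙 G) (multiToUnit K d) ≫ (rightUnitor G).hom

theorem le_isoLocus_multiMap {s : ℕ} (G : X.Modules) (K : Fin s → X.IdealSheafData)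
    (d : Fin s → ℕ) (U : X.Opens) (h : ∀ t, U ≤ isoLocus (ClSub.idealModι (K t))) :
    U ≤ isoLocus (multiMap G K d) :=
  le_isoLocus_comp' _ _ U (le_isoLocus_tensorMap _ _ U (le_isoLocus_of_isIso _ U)
    (le_isoLocus_multiToUnit K d U h)) (le_isoLocus_of_isIso _ U)

end Maps

section Main

variable {s : ℕ} (P : Fin s → Y) (hP : Function.Injective P)
  (hPc : ∀ i, IsClosed ({P i} : Set Y)) (hZ : IsClosed (Set.range P)) (π : X ⟶ Y)

/-- the complement of the points -/
noncomputable def offPoints : Y.Opens := ⟨(Set.range P)ᶜ, hZ.isOpen_compl⟩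

theorem preimage_offPoints_le (t : Fin s) :
    π ⁻¹ᵁ offPoints P hZ ≤ isoLocus (ClSub.idealModι
      ((Scheme.IdealSheafData.vanishingIdeal ⟨{P t}, hPc t⟩).comap π)) := by
  intro x hx
  obtain ⟨V, hV, hxV, hVle⟩ := Opens.isBasis_iff_nbhd.mp Y.isBasis_affineOpens
    (show π x ∈ offPoints P hZ from hx)
  refine le_isoLocus_idealModι_comap π ⟨{P t}, hPc t⟩ V hV (fun z hz hzt => ?_) hxV
  have h1 : z = P t := hzt
  exact hVle hz ⟨t, h1.symm⟩

/-- `π_* π^* F ≅ F` when `O_Y ≅ π_* O_X` and `F` is finite locally free -/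
noncomputable def pushPullIso (hiso : IsIso (Groth.Agent.Lib.helper11.InvPullback.unitToPush π))
    (F : Y.Modules) (hF : FlatMod.IsFinLocFree F) :
    (Scheme.Modules.pushforward π).obj ((Scheme.Modules.pullback π).obj F) ≅ F :=
  (Scheme.Modules.pushforward π).mapIso (leftUnitor _).symm ≪≫
    (Groth.Agent.Lib.Helper18.ProjFormulaLF.projIso π (Coh.structureModule X) F hF).symm ≪≫
    tensorIso (asIso (Groth.Agent.Lib.helper11.InvPullback.unitToPush π)).symm (Iso.refl F) ≪≫
    leftUnitor F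

variable (hπ : BlowUp.IsBlowUp π (Scheme.IdealSheafData.vanishingIdeal ⟨Set.range P, hZ⟩))

include hP hπ in
/-- **`H^i(Y, F) = 0 ⇒ H^i(X, π^*F ⊗ ⨂_t K_t^{⊗ d_t}) = 0`** for `i ≥ 2`, on the blow-up of finitely
many closed points. -/
theorem subsingleton_HH_multi [IsLocallyNoetherian Y]
    (hgood : ∀ y : Y, GoodAt (Scheme.IdealSheafData.vanishingIdeal ⟨Set.range P, hZ⟩) y)
    (F : Y.Modules) (hF : PicF.IsInvertible F) (d : Fin s → ℕ) (i : ℕ) (hi : 2 ≤ i)
    (hFi : Subsingleton (Coh.HH Y F i)) :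
    Subsingleton (Coh.HH X (CohB1.tensorMod ((Scheme.Modules.pullback π).obj F)
      (FGA.multiTwist (fun t : Fin s => ClSub.idealMod
        ((Scheme.IdealSheafData.vanishingIdeal ⟨{P t}, hPc t⟩).comap π)) d)) i) := by
  have hR := fun p hp => isZero_RpushAb_multi P hP hPc hZ π hπ hgood F hF d p hp
  refine (Groth.Agent.Lib.Lead.HHPushGen.pushEquivAdd π _ hR i).toEquiv.subsingleton_congr.mp ?_
  have hiso := Groth.Agent.Lib.helper28.BlowUpPushPow.isIso_unitToPush π _ hπ hgood
  have hFlf : FlatMod.IsFinLocFree F :=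
    Groth.Agent.Lib.helper16.FLF.isFinLocFree_of_isInvertible hF
  have hT : Subsingleton (Coh.HH Y ((Scheme.Modules.pushforward π).obj
      ((Scheme.Modules.pullback π).obj F)) i) :=
    (Groth.Agent.Lib.Helper18.P1Euler.hhEquivOfIso (pushPullIso π hiso F hFlf)
      i).subsingleton_congr.mpr hFi
  refine subsingleton_HH_of_le_isoLocus ((Scheme.Modules.pushforward π).map
    (multiMap ((Scheme.Modules.pullback π).obj F)
      (fun t : Fin s => (Scheme.IdealSheafData.vanishingIdeal ⟨{P t}, hPc t⟩).comap π) d))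
    (offPoints P hZ) ?_ ?_ i hi hT
  · intro x hx
    have h1 : x ∈ Set.range P := not_not.mp hx
    obtain ⟨t, rfl⟩ := h1
    exact hPc t
  · exact Groth.Agent.Lib.Helper18.ProjFormulaLF.le_isoLocus_pushforward π _ (offPoints P hZ)
      (le_isoLocus_multiMap _ _ _ _ fun t => preimage_offPoints_le P hPc hZ π t)

end Main

end Groth.Agent.Lib.helper28.BlowPts
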