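import Mathlib
import Groth.Agent.Lib.Helper28.BlowPtsC

/-!
# Blow-up of finitely many closed points: `H⁰` and the total exceptional ideal (helper28)

* `mono_tensorMap`, `mono_powToUnit`, `mono_listToUnit`, `mono_multiMap`: the multiplication maps are
  monomorphisms when the ideal modules are invertible;
* `subsingleton_HH_zero_multi`: `H⁰(Y, F) = 0 ⇒ H⁰(X, π^*F ⊗ ⨂_t K_t^{⊗ d_t}) = 0`;
* `subsingleton_HH_pow`: for a blow-up `π` of an ideal `𝓘` (all points good) whose support consists
  of closed points, `H^i(Y, F) = 0 ⇒ H^i(X, π^*F ⊗ J^{⊗ d}) = 0` for `i ≥ 2` (`J = 𝓘 O_X`).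
-/

set_option autoImplicit false
set_option linter.unusedSectionVars false
set_option linter.style.haveILetI false
universe u
open CategoryTheory CategoryTheory.Limits AlgebraicGeometry Opposite TopologicalSpace
open Scheme.Modules

namespace Groth.Agent.Lib.helper28.BlowPts

open Groth.Agent.Lib.helper11.IsoLocus Groth.Agent.Lib.helper11.InvMod
  Groth.Agent.Lib.Lead.ModTensor Groth.Agent.Lib.helper7
  Groth.Agent.Lib.helper28.BlowUpDirect Groth.Agent.Lib.helper28.BlowUpOpenTwist
  Groth.Agent.Lib.helper28.BlowUpDirectTwist Groth.Agent.Lib.helper28.BlowUpTwistBase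
  Groth.Agent.Lib.helper28.PnPoints Groth.Agent.Lib.helper12.TensorInv
  Groth.Agent.Lib.Helper18

variable {X Y : Scheme.{u}}

section Mono

theorem braid_naturality {M M' N N' : X.Modules} (f : M ⟶ M') (g : N ⟶ N') :
    tensorMap f g ≫ (braid M' N').hom = (braid M N).hom ≫ tensorMap g f := by
  exact ((L X).map_comp _ _).symm.trans ((congrArg (L X).map
    (BraidedCategory.braiding_naturality ((V X).map f) ((V X).map g))).trans ((L X).map_comp _ _))

theorem mono_tensorMap_right {K I E : X.Modules} (g : K ⟶ I) [Mono g]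
    (hE : PicF.IsInvertible E) : Mono (tensorMap (𝟙 E) g) := by
  haveI := Groth.Agent.Lib.helper11.TwistH1.mono_tensorMap_left g hE
  have h := braid_naturality (𝟙 E) g
  have h2 : tensorMap (𝟙 E) g = (braid E K).hom ≫ tensorMap g (𝟙 E) ≫ (braid E I).inv := by
    rw [← Category.assoc, ← h, Category.assoc, Iso.hom_inv_id, Category.comp_id]
  rw [h2]
  infer_instance

theorem mono_tensorMap {A A' B B' : X.Modules} (f : A ⟶ A') (g : B ⟶ B') [Mono f] [Mono g]
    (hB : PicF.IsInvertible B) (hA' : PicF.IsInvertible A') : Mono (tensorMap f g) := by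
  haveI := Groth.Agent.Lib.helper11.TwistH1.mono_tensorMap_left f hB
  haveI := mono_tensorMap_right g hA'
  have h : tensorMap f g = tensorMap f (𝟙 B) ≫ tensorMap (𝟙 A') g := by
    rw [← tensorMap_comp, Category.comp_id, Category.id_comp]
  rw [h]
  infer_instance

theorem mono_powToUnit {A : X.Modules} (f : A ⟶ Coh.structureModule X) [Mono f]
    (hA : PicF.IsInvertible A) (k : ℕ) : Mono (powToUnit f k) := by
  induction k with
  | zero => exact inferInstanceAs (Mono (𝟙 _))
  | succ k ih =>
    haveI := ih
    haveI := mono_tensorMap (powToUnit f k) f hA (isInvertible_structureModule X)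
    exact inferInstanceAs (Mono (tensorMap (powToUnit f k) f ≫ (leftUnitor _).hom))

theorem mono_listToUnit {ι : Type*} (f : ι → X.Modules)
    (m : ∀ t, f t ⟶ Coh.structureModule X) (hm : ∀ t, Mono (m t))
    (hf : ∀ t, PicF.IsInvertible (f t)) (l : List ι) : Mono (listToUnit f m l) := by
  induction l with
  | nil => exact inferInstanceAs (Mono (𝟙 _))
  | cons a l ih =>
    haveI := ih
    haveI := hm a
    have hl : PicF.IsInvertible (FGA.tensorList (l.map f)) := by
      refine isInvertible_tensorList _ fun L hL => ?_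
      obtain ⟨t, -, rfl⟩ := List.mem_map.mp hL
      exact hf t
    haveI := mono_tensorMap (m a) (listToUnit f m l) hl (isInvertible_structureModule X)
    exact inferInstanceAs (Mono (tensorMap (m a) (listToUnit f m l) ≫ (leftUnitor _).hom))

theorem mono_multiToUnit {s : ℕ} (K : Fin s → X.IdealSheafData)
    (hK : ∀ t, PicF.IsInvertible (ClSub.idealMod (K t))) (d : Fin s → ℕ) :
    Mono (multiToUnit K d) := by
  haveI : ∀ t, Mono (ClSub.idealModι (K t)) := fun t => IdealMod.mono_idealModι _
  unfold multiToUnit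
  exact mono_listToUnit (fun t => CohB1.tensorPow (ClSub.idealMod (K t)) (d t))
    (fun t => powToUnit (ClSub.idealModι (K t)) (d t))
    (fun t => mono_powToUnit _ (hK t) (d t))
    (fun t => isInvertible_tensorPow (hK t) (d t)) (List.finRange s)

theorem mono_multiMap {s : ℕ} (G : X.Modules) (hG : PicF.IsInvertible G)
    (K : Fin s → X.IdealSheafData) (hK : ∀ t, PicF.IsInvertible (ClSub.idealMod (K t)))
    (d : Fin s → ℕ) : Mono (multiMap G K d) := by
  haveI := mono_multiToUnit K hK d
  haveI := mono_tensorMap_right (multiToUnit K d) hG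
  unfold multiMap
  exact mono_comp _ _

/-- a monomorphism induces an injection on `H⁰` -/
theorem injective_map_zero_of_mono {A B : X.Modules} (g : A ⟶ B) [Mono g] :
    Function.Injective (HH.map g 0) := by
  have hS : (ShortComplex.mk g (cokernel.π g) (cokernel.condition g)).ShortExact :=
    ShortComplex.ShortExact.mk' (ShortComplex.exact_cokernel g) inferInstance inferInstance
  exact HH.injective_map_f_zero (S := ShortComplex.mk g (cokernel.π g) (cokernel.condition g)) hS

end Mono

section Main

variable {s : ℕ} (P : Fin s → Y) (hP : Function.Injective P)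
  (hPc : ∀ i, IsClosed ({P i} : Set Y)) (hZ : IsClosed (Set.range P)) (π : X ⟶ Y)
  (hπ : BlowUp.IsBlowUp π (Scheme.IdealSheafData.vanishingIdeal ⟨Set.range P, hZ⟩))

include hP hπ in
/-- **`H⁰(Y, F) = 0 ⇒ H⁰(X, π^*F ⊗ ⨂_t K_t^{⊗ d_t}) = 0`** on the blow-up of finitely many closed
points. -/
theorem subsingleton_HH_zero_multi
    (hgood : ∀ y : Y, GoodAt (Scheme.IdealSheafData.vanishingIdeal ⟨Set.range P, hZ⟩) y)
    (F : Y.Modules) (hF : PicF.IsInvertible F) (d : Fin s → ℕ)
    (hF0 : Subsingleton (Coh.HH Y F 0)) :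
    Subsingleton (Coh.HH X (CohB1.tensorMod ((Scheme.Modules.pullback π).obj F)
      (FGA.multiTwist (fun t : Fin s => ClSub.idealMod
        ((Scheme.IdealSheafData.vanishingIdeal ⟨{P t}, hPc t⟩).comap π)) d)) 0) := by
  have hR := fun p hp => isZero_RpushAb_multi P hP hPc hZ π hπ hgood F hF d p hp
  refine (Groth.Agent.Lib.Lead.HHPushGen.pushEquivAdd π _ hR 0).toEquiv.subsingleton_congr.mp ?_
  have hiso := Groth.Agent.Lib.helper28.BlowUpPushPow.isIso_unitToPush π _ hπ hgood
  have hFlf : FlatMod.IsFinLocFree F :=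
    Groth.Agent.Lib.helper16.FLF.isFinLocFree_of_isInvertible hF
  have hT : Subsingleton (Coh.HH Y ((Scheme.Modules.pushforward π).obj
      ((Scheme.Modules.pullback π).obj F)) 0) :=
    (Groth.Agent.Lib.Helper18.P1Euler.hhEquivOfIso (pushPullIso π hiso F hFlf)
      0).subsingleton_congr.mpr hF0
  haveI := mono_multiMap ((Scheme.Modules.pullback π).obj F) (isInvertible_pullback π hF)
    (fun t : Fin s => (Scheme.IdealSheafData.vanishingIdeal ⟨{P t}, hPc t⟩).comap π)
    (isInvertible_point P hPc hZ π hπ) d
  haveI : Mono ((Scheme.Modules.pushforward π).map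
      (multiMap ((Scheme.Modules.pullback π).obj F)
        (fun t : Fin s => (Scheme.IdealSheafData.vanishingIdeal ⟨{P t}, hPc t⟩).comap π) d)) :=
    inferInstance
  exact (injective_map_zero_of_mono ((Scheme.Modules.pushforward π).map
    (multiMap ((Scheme.Modules.pullback π).obj F)
      (fun t : Fin s => (Scheme.IdealSheafData.vanishingIdeal ⟨{P t}, hPc t⟩).comap π) d))).subsingleton

end Main

end Groth.Agent.Lib.helper28.BlowPts
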