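import Groth.Agent.Lib.Helper20.GKS0
import Groth.Agent.Lib.Helper28.ProjSec
import Groth.Agent.Lib.Helper12.GradedFT

/-!
# Generators of an ideal sheaf on projective space in one degree, chart-level algebra (helper28)

Block B7 of helper20's plan for S11924. `P = Proj A[X_0..X_n]`, `D l = D₊(X_l)`.
* `exists_pow_mul_mem_of_mem_map`: an element whose image in `R_g` lies in `J R_g` is multiplied
  into `J` by a power of `g`;
* `valA_mul`, `valA_pow`, `gam_shift`, `gam_shift_other`, `gam_change`: computations with the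
  functions `p / X_l^d`;
* `exists_homogenization`: every section `a` of the ideal over `D l` is `p / X_l^e` with
  `p / X_i^e` a section of the ideal over `D i` for all `i`.
-/

set_option autoImplicit false
set_option linter.unusedSectionVars false
set_option linter.style.haveILetI false
universe u
open CategoryTheory CategoryTheory.Limits AlgebraicGeometry Opposite TopologicalSpace

namespace Groth.Agent.Lib.helper28.ProjIdealGen

section Alg

/-- an element whose image in the localization `R_g` lies in `J R_g` is multiplied into `J` by a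
power of `g` -/
theorem exists_pow_mul_mem_of_mem_map {R T : Type*} [CommRing R] [CommRing T] [Algebra R T]
    (g : R) [IsLocalization.Away g T] (J : Ideal R) (c : R)
    (h : algebraMap R T c ∈ J.map (algebraMap R T)) : ∃ M : ℕ, g ^ M * c ∈ J := by
  obtain ⟨⟨j, s⟩, hjs⟩ := (IsLocalization.mem_map_algebraMap_iff (Submonoid.powers g) T).mp h
  obtain ⟨m, hm⟩ := s.2
  have hm0 : g ^ m = (s : R) := hm
  have h1 : algebraMap R T (c * g ^ m) = algebraMap R T j.1 := by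
    rw [map_mul, hm0]
    exact hjs
  obtain ⟨⟨t, m', hm'⟩, ht⟩ := (IsLocalization.eq_iff_exists (Submonoid.powers g) T).mp h1
  have hm0' : g ^ m' = t := hm'
  refine ⟨m' + m, ?_⟩
  have h2 : g ^ (m' + m) * c = g ^ m' * j.1 := by
    have h3 : t * (c * g ^ m) = t * j.1 := ht
    rw [← hm0'] at h3
    rw [pow_add, ← h3]
    ring
  rw [h2]
  exact J.mul_mem_left _ j.2

end Alg

open Groth.Agent.Lib.Helper20.GKS Groth.Agent.Lib.helper28.TwistFree
  Groth.Agent.Lib.helper28.ProjSec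

noncomputable section

variable {n : ℕ} {A : Type u} [CommRing A]

local notation "𝒜ₙ" => CohB1.polyGrading n A
local notation "S" => MvPolynomial (Fin (n + 1)) A

theorem valA_mul {U : (Proj 𝒜ₙ).Opens} (a b : Γ(Proj 𝒜ₙ, U)) (x : U) :
    valA (a * b) x = valA a x * valA b x :=
  HomogeneousLocalization.val_mul _ _

theorem valA_one {U : (Proj 𝒜ₙ).Opens} (x : U) : valA (1 : Γ(Proj 𝒜ₙ, U)) x = 1 :=
  HomogeneousLocalization.val_one

theorem valA_pow {U : (Proj 𝒜ₙ).Opens} (a : Γ(Proj 𝒜ₙ, U)) (M : ℕ) (x : U) :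
    valA (a ^ M) x = valA a x ^ M := by
  induction M with
  | zero => rw [pow_zero, pow_zero, valA_one]
  | succ M ih => rw [pow_succ, pow_succ, valA_mul, ih]

theorem valA_res {U V : (Proj 𝒜ₙ).Opens} (hVU : V ≤ U) (a : Γ(Proj 𝒜ₙ, U)) (x : V) :
    valA ((Proj 𝒜ₙ).presheaf.map (homOfLE hVU).op a) x = valA a ⟨x.1, hVU x.2⟩ := rfl

/-- `X_l`, as an element of degree one -/
def Xd (l : Fin (n + 1)) : 𝒜ₙ 1 := ⟨MvPolynomial.X l, by simpa using X_pow_mem (A := A) l 1⟩

/-- `X_l^M * p` -/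
def shift (l : Fin (n + 1)) (M : ℕ) {e : ℕ} (p : 𝒜ₙ e) : 𝒜ₙ (M + e) :=
  ⟨(MvPolynomial.X l : S) ^ M * p.1, SetLike.mul_mem_graded (X_pow_mem l M) p.2⟩

/-- `X_l^M p / X_l^(M+e) = p / X_l^e` -/
theorem gam_shift (l : Fin (n + 1)) (U : (Proj 𝒜ₙ).Opens) (hU : InChart l U) (M : ℕ) {e : ℕ}
    (p : 𝒜ₙ e) : gam l U hU (shift l M p) = gam l U hU p := by
  refine valA_ext _ _ fun x => ?_
  rw [valA_gam, valA_gam, Localization.mk_eq_mk_iff, Localization.r_iff_exists]
  refine ⟨1, ?_⟩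
  simp only [OneMemClass.coe_one, one_mul, shift]
  ring

/-- `X_l^M p / X_i^(M+e) = (X_l / X_i)^M * (p / X_i^e)` -/
theorem gam_shift_other (l i : Fin (n + 1)) (U : (Proj 𝒜ₙ).Opens) (hU : InChart i U) (M : ℕ)
    {e : ℕ} (p : 𝒜ₙ e) :
    gam i U hU (shift l M p) = gam i U hU (Xd l) ^ M * gam i U hU p := by
  refine valA_ext _ _ fun x => ?_
  rw [valA_mul, valA_pow, valA_gam, valA_gam, valA_gam, Localization.mk_pow, Localization.mk_mul,
    Localization.mk_eq_mk_iff, Localization.r_iff_exists]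
  refine ⟨1, ?_⟩
  simp only [OneMemClass.coe_one, one_mul, shift, Xd, Submonoid.coe_mul, SubmonoidClass.coe_pow,
    pow_one]
  ring

/-- `p / X_i^e = (X_l / X_i)^e * (p / X_l^e)` on an open of `D i ⊓ D l` -/
theorem gam_change (l i : Fin (n + 1)) (U : (Proj 𝒜ₙ).Opens) (hUi : InChart i U)
    (hUl : InChart l U) {e : ℕ} (p : 𝒜ₙ e) :
    gam i U hUi p = gam i U hUi (Xd l) ^ e * gam l U hUl p := by
  refine valA_ext _ _ fun x => ?_
  rw [valA_mul, valA_pow, valA_gam, valA_gam, valA_gam, Localization.mk_pow, Localization.mk_mul,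
    Localization.mk_eq_mk_iff, Localization.r_iff_exists]
  refine ⟨1, ?_⟩
  simp only [OneMemClass.coe_one, one_mul, Xd, Submonoid.coe_mul, SubmonoidClass.coe_pow,
    pow_one]
  ring

/-- the standard chart `D₊(X_l)` -/
abbrev D (l : Fin (n + 1)) : (Proj 𝒜ₙ).Opens := Proj.basicOpen 𝒜ₙ (MvPolynomial.X l : S)

theorem isAffineOpen_D (l : Fin (n + 1)) : IsAffineOpen (D (A := A) l) :=
  Proj.isAffineOpen_basicOpen 𝒜ₙ _ (Xd l).2 one_pos

theorem inChart_D (l : Fin (n + 1)) : InChart l (D (A := A) l) :=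
  (inChart_iff_le l _).mpr le_rfl

/-- the chart `D₊(X_l)`, as an affine open -/
abbrev Da (l : Fin (n + 1)) : (Proj 𝒜ₙ).affineOpens := ⟨D l, isAffineOpen_D l⟩

/-- every function on `D₊(X_l)` is of the form `p / X_l^k` -/
theorem exists_gam_eq (l : Fin (n + 1)) (a : Γ(Proj 𝒜ₙ, D (A := A) l)) :
    ∃ (k : ℕ) (p : 𝒜ₙ k), gam l (D l) (inChart_D l) p = a := by
  obtain ⟨k, f, hf, hval⟩ := O_eq_fraction 𝒜ₙ one_pos (Xd l).2 a
  refine ⟨k, ⟨f, by simpa using hf⟩, valA_ext _ _ fun x => ?_⟩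
  rw [valA_gam]
  exact (hval x).symm

/-- the locus where `X_l / X_i` is invertible on `D₊(X_i)` is `D₊(X_i) ⊓ D₊(X_l)` -/
theorem basicOpen_gam_Xd (l i : Fin (n + 1)) :
    (Proj 𝒜ₙ).basicOpen (gam i (D (A := A) i) (inChart_D i) (Xd l)) = D i ⊓ D l := by
  have h := basicOpen_eq 𝒜ₙ (f := (MvPolynomial.X i : S))
    (gam i (D (A := A) i) (inChart_D i) (Xd l)) 1 (MvPolynomial.X l : S) (fun x => rfl)
  refine h.trans ?_
  rw [Proj.basicOpen_mul]

/-- if `p / X_l^k` is a section of `J` over `D₊(X_l)` then `(X_l/X_i)^M * (p / X_i^k)` is a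
section of `J` over `D₊(X_i)` for some `M` -/
theorem exists_pow_mul_mem (J : (Proj 𝒜ₙ).IdealSheafData) (l i : Fin (n + 1)) {k : ℕ}
    (p : 𝒜ₙ k) (ha : gam l (D l) (inChart_D l) p ∈ J.ideal (Da l)) :
    ∃ M : ℕ, gam i (D i) (inChart_D i) (Xd l) ^ M * gam i (D i) (inChart_D i) p ∈
      J.ideal (Da i) := by
  set g : Γ(Proj 𝒜ₙ, (Da (A := A) i).1) := gam i (D i) (inChart_D i) (Xd l) with hg
  have hV : (Proj 𝒜ₙ).basicOpen g = D i ⊓ D l := basicOpen_gam_Xd l i
  have hVi : (Proj 𝒜ₙ).basicOpen g ≤ D i := hV.le.trans inf_le_left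
  have hVl : (Proj 𝒜ₙ).basicOpen g ≤ D l := hV.le.trans inf_le_right
  have hVl' : (Proj 𝒜ₙ).affineBasicOpen g ≤ Da l := hVl
  have h1 := J.ideal_le_comap_ideal hVl' ha
  rw [Ideal.mem_comap] at h1
  have h1' : gam l ((Proj 𝒜ₙ).basicOpen g) ((inChart_D l).mono hVl) p ∈
      J.ideal ((Proj 𝒜ₙ).affineBasicOpen g) := by
    rw [← gam_res l (inChart_D l) hVl p]
    exact h1
  have h3 : gam i ((Proj 𝒜ₙ).basicOpen g) ((inChart_D i).mono hVi) p ∈
      J.ideal ((Proj 𝒜ₙ).affineBasicOpen g) := by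
    rw [gam_change l i _ ((inChart_D i).mono hVi) ((inChart_D l).mono hVl) p]
    exact (J.ideal _).mul_mem_left _ h1'
  rw [← J.map_ideal_basicOpen (Da i) g, ← gam_res i (inChart_D i) hVi p] at h3
  haveI := (isAffineOpen_D (A := A) i).isLocalization_basicOpen g
  exact exists_pow_mul_mem_of_mem_map (T := Γ(Proj 𝒜ₙ, (Proj 𝒜ₙ).basicOpen g)) g
    (J.ideal (Da i)) (gam i (D i) (inChart_D i) p) h3

/-- **homogenization**: every section `a` of `J` over `D₊(X_l)` is `p / X_l^e` with `p / X_i^e` a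
section of `J` over `D₊(X_i)` for every `i` -/
theorem exists_homogenization (J : (Proj 𝒜ₙ).IdealSheafData) (l : Fin (n + 1))
    (a : Γ(Proj 𝒜ₙ, D (A := A) l)) (ha : a ∈ J.ideal (Da l)) :
    ∃ (e : ℕ) (p : 𝒜ₙ e), gam l (D l) (inChart_D l) p = a ∧
      ∀ i, gam i (D i) (inChart_D i) p ∈ J.ideal (Da i) := by
  obtain ⟨k, p₀, rfl⟩ := exists_gam_eq l a
  choose M hM using fun i => exists_pow_mul_mem J l i p₀ ha
  refine ⟨Finset.univ.sup M + k, shift l (Finset.univ.sup M) p₀,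
    gam_shift l _ _ (Finset.univ.sup M) p₀, fun i => ?_⟩
  rw [gam_shift_other]
  have hle : M i ≤ Finset.univ.sup M := Finset.le_sup (Finset.mem_univ i)
  obtain ⟨d, hd⟩ := Nat.exists_eq_add_of_le hle
  rw [hd, pow_add, mul_comm (_ ^ M i), mul_assoc]
  exact (J.ideal _).mul_mem_left _ (hM i)

/-- transport of a homogeneous element along an equality of degrees -/
def castDeg {e e' : ℕ} (h : e = e') (p : 𝒜ₙ e) : 𝒜ₙ e' := ⟨p.1, h ▸ p.2⟩

theorem gam_castDeg (l : Fin (n + 1)) (U : (Proj 𝒜ₙ).Opens) (hU : InChart l U) {e e' : ℕ}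
    (h : e = e') (p : 𝒜ₙ e) : gam l U hU (castDeg h p) = gam l U hU p := by
  subst h
  rfl

/-- padding to a given degree `d ≥ e` by a power of `X_l` -/
def pad (l : Fin (n + 1)) {e : ℕ} (d : ℕ) (h : e ≤ d) (p : 𝒜ₙ e) : 𝒜ₙ d :=
  castDeg (Nat.sub_add_cancel h) (shift l (d - e) p)

theorem gam_pad (l : Fin (n + 1)) (U : (Proj 𝒜ₙ).Opens) (hU : InChart l U) {e : ℕ} (d : ℕ)
    (h : e ≤ d) (p : 𝒜ₙ e) : gam l U hU (pad l d h p) = gam l U hU p := by
  rw [pad, gam_castDeg, gam_shift]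

theorem gam_pad_other (l i : Fin (n + 1)) (U : (Proj 𝒜ₙ).Opens) (hU : InChart i U) {e : ℕ}
    (d : ℕ) (h : e ≤ d) (p : 𝒜ₙ e) :
    gam i U hU (pad l d h p) = gam i U hU (Xd l) ^ (d - e) * gam i U hU p := by
  rw [pad, gam_castDeg, gam_shift_other]

end

end Groth.Agent.Lib.helper28.ProjIdealGen
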