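import Mathlib
import Groth.Agent.Lib.Helper28.ProjIdealGen1
import Groth.Agent.Lib.Helper20.JacHyp2

/-!
# Jets at a closed point of a standard chart of `P^n_k` (helper28)

* `exists_form_psi_eq`: a polynomial of total degree `≤ c` in the chart coordinates is the
  dehomogenisation of a form of degree `c`;
* `exists_low_degree_sub_mem`: modulo the `(e+1)`-st power of the ideal of a `k`-point every
  polynomial is congruent to one of total degree `≤ e`;
* `dh_eq_gam`: helper20's `dh G l` is the function `gam l (D l) G`;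
* `exists_gam_sub_mem`: for a maximal ideal `m` of the ring of functions on the chart `D₊(X_l)` of
  `P^n_k` (`k` algebraically closed), every function is congruent modulo `m^(e+1)` to `G / X_l^c` for a
  form `G` of any prescribed degree `c ≥ e`.
-/

set_option autoImplicit false
set_option linter.unusedSectionVars false
set_option linter.style.haveILetI false
universe u
open CategoryTheory CategoryTheory.Limits AlgebraicGeometry Opposite TopologicalSpace MvPolynomial

namespace Groth.Agent.Lib.helper28.Jets

open Groth.Agent.Lib.Helper20.GKS Groth.Agent.Lib.helper28.ProjIdealGen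
  Groth.Agent.Lib.helper20.JacHyp Groth.Agent.Lib.helper20.HypIdeal
  Groth.Agent.Lib.Helper18.ProjChart

section Homog

variable {n : ℕ} {k : Type u} [CommRing k]

theorem exists_form_monomial (l : Fin (n + 1)) (s : Idx n l →₀ ℕ) (a : k) :
    ∃ G : MvPolynomial (Fin (n + 1)) k, G.IsHomogeneous s.degree ∧
      ψ n k l G = monomial s a := by
  induction s using Finsupp.induction with
  | zero =>
    refine ⟨C a, ?_, ?_⟩
    · rw [map_zero]
      exact isHomogeneous_C _ _
    · rw [ψ_C]
      rfl
  | single_add j b s hj hb ih =>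
    obtain ⟨G, hG, hψ⟩ := ih
    refine ⟨X j.1 ^ b * G, ?_, ?_⟩
    · have h1 := ((isHomogeneous_X k j.1).pow b).mul hG
      rw [map_add, Finsupp.degree_single]
      rwa [one_mul] at h1
    · rw [map_mul, map_pow, ψ_X_ne, hψ, X_pow_eq_monomial, monomial_mul, one_mul]

theorem exists_form_psi_eq (l : Fin (n + 1)) (f : MvPolynomial (Idx n l) k) (c : ℕ)
    (hf : f.totalDegree ≤ c) :
    ∃ G : MvPolynomial (Fin (n + 1)) k, G.IsHomogeneous c ∧ ψ n k l G = f := by
  have key : ∀ s ∈ f.support, ∃ G : MvPolynomial (Fin (n + 1)) k, G.IsHomogeneous c ∧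
      ψ n k l G = monomial s (f.coeff s) := by
    intro s hs
    obtain ⟨G, hG, hψ⟩ := exists_form_monomial l s (f.coeff s)
    have hle : s.degree ≤ c := (le_totalDegree hs).trans hf
    refine ⟨X l ^ (c - s.degree) * G, ?_, ?_⟩
    · have h1 := ((isHomogeneous_X k l).pow (c - s.degree)).mul hG
      rw [one_mul, Nat.sub_add_cancel hle] at h1
      exact h1
    · rw [map_mul, map_pow, ψ_X_self, one_pow, one_mul, hψ]
  choose! G hG hψ using key
  refine ⟨∑ s ∈ f.support, G s, IsHomogeneous.sum _ _ _ fun s hs => hG s hs, ?_⟩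
  rw [map_sum]
  conv_rhs => rw [← support_sum_monomial_coeff f]
  exact Finset.sum_congr rfl fun s hs => hψ s hs

end Homog

section Trunc

variable {k : Type u} [Field k] {σ : Type*}

/-- modulo the `(e+1)`-st power of the ideal of a `k`-point every polynomial is congruent to a
polynomial of total degree `≤ e` -/
theorem exists_low_degree_sub_mem (x : σ → k) (e : ℕ) (f : MvPolynomial σ k) :
    ∃ g : MvPolynomial σ k, g.totalDegree ≤ e ∧ f - g ∈ RingHom.ker (eval x) ^ (e + 1) := by
  induction e generalizing f with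
  | zero =>
    refine ⟨C (eval x f), by simp, ?_⟩
    rw [zero_add, pow_one, RingHom.mem_ker]
    simp
  | succ e ih =>
    induction f using MvPolynomial.induction_on with
    | C a =>
      exact ⟨C a, by simp, by rw [sub_self]; exact Ideal.zero_mem _⟩
    | add p q hp hq =>
      obtain ⟨g₁, h₁, h₁'⟩ := hp
      obtain ⟨g₂, h₂, h₂'⟩ := hq
      refine ⟨g₁ + g₂, (totalDegree_add _ _).trans (max_le h₁ h₂), ?_⟩
      have : p + q - (g₁ + g₂) = (p - g₁) + (q - g₂) := by ring
      rw [this]
      exact Ideal.add_mem _ h₁' h₂'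
    | mul_X p i hp =>
      obtain ⟨g₁, h₁, h₁'⟩ := hp
      obtain ⟨g₀, h₀, h₀'⟩ := ih p
      refine ⟨g₀ * (X i - C (x i)) + C (x i) * g₁, ?_, ?_⟩
      · refine (totalDegree_add _ _).trans (max_le ?_ ?_)
        · refine (totalDegree_mul _ _).trans ?_
          have h2 : (X i - C (x i) : MvPolynomial σ k).totalDegree ≤ 1 := by
            refine (totalDegree_sub _ _).trans (max_le ?_ ?_)
            · exact (totalDegree_X (R := k) i).le
            · simp
          omega
        · refine (totalDegree_mul _ _).trans ?_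
          simp only [totalDegree_C, zero_add]
          exact h₁
      · have h3 : p * X i - (g₀ * (X i - C (x i)) + C (x i) * g₁) =
            (p - g₀) * (X i - C (x i)) + C (x i) * (p - g₁) := by ring
        rw [h3]
        refine Ideal.add_mem _ ?_ (Ideal.mul_mem_left _ _ h₁')
        rw [pow_succ (RingHom.ker (eval x)) (e + 1)]
        refine Ideal.mul_mem_mul h₀' ?_
        rw [RingHom.mem_ker]
        simp

end Trunc

section Chart

variable {n : ℕ} {k : Type u} [Field k]

/-- helper20's `dh G l` is the function `G / X_l^d` of `gam` -/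
theorem dh_eq_gam (l : Fin (n + 1)) {d : ℕ} (G : LefPen.Form n k d) :
    dh G l = gam l (D (A := k) l) (inChart_D l) G := by
  refine valA_ext _ _ fun x => ?_
  rw [valA_gam]
  rfl

variable [IsAlgClosed k]

/-- **jets at a closed point of a chart of `P^n_k`**: every function on `D₊(X_l)` is congruent
modulo `m^(e+1)` (`m` a maximal ideal) to `G / X_l^c` for a form `G` of prescribed degree `c ≥ e` -/
theorem exists_gam_sub_mem (l : Fin (n + 1))
    (m : Ideal Γ(Proj (CohB1.polyGrading n k), D (A := k) l)) (hm : m.IsMaximal) (e c : ℕ)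
    (hec : e ≤ c) (a : Γ(Proj (CohB1.polyGrading n k), D (A := k) l)) :
    ∃ G : CohB1.polyGrading n k c, a - gam l (D l) (inChart_D l) G ∈ m ^ (e + 1) := by
  obtain ⟨E, hE⟩ : ∃ E : MvPolynomial (Idx n l) k ≃+* Γ(Proj (CohB1.polyGrading n k), D (A := k) l),
      E = chartRing (n := n) (k := k) l := ⟨_, rfl⟩
  have hsurj : Function.Surjective E.toRingHom := E.surjective
  have hq : (m.comap E.toRingHom).IsMaximal :=
    Ideal.comap_isMaximal_of_surjective _ hsurj
  obtain ⟨x, hx⟩ := MvPolynomial.isMaximal_iff_eq_vanishingIdeal_singleton.mp hq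
  have hker : m.comap E.toRingHom = RingHom.ker (eval x) := by
    rw [hx]
    ext p
    rw [MvPolynomial.mem_vanishingIdeal_singleton_iff, RingHom.mem_ker]
    rfl
  obtain ⟨f₀, rfl⟩ := E.surjective a
  obtain ⟨g, hg, hfg⟩ := exists_low_degree_sub_mem x e f₀
  obtain ⟨G, hG, hψ⟩ := exists_form_psi_eq l g c (hg.trans hec)
  have hGm : G ∈ CohB1.polyGrading n k c := (mem_homogeneousSubmodule c G).mpr hG
  refine ⟨⟨G, hGm⟩, ?_⟩
  have h1 : E g = gam l (D l) (inChart_D l) (⟨G, hGm⟩ : CohB1.polyGrading n k c) := by
    rw [← hψ, hE]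
    exact (chartRing_psi l (⟨G, hGm⟩ : LefPen.Form n k c)).trans (dh_eq_gam l _)
  rw [← h1, ← map_sub]
  have h2 : (m.comap E.toRingHom) ^ (e + 1) ≤
      (m ^ (e + 1)).comap E.toRingHom := Ideal.le_comap_pow _ _
  rw [hker] at h2
  exact h2 hfg

end Chart

end Groth.Agent.Lib.helper28.Jets
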