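import Mathlib
import Groth.Agent.Lib.Helper28.BlowPtsE
import Groth.Agent.Lib.Helper28.BlowPtsD
import Groth.Agent.Lib.Helper20.GKS1
import Groth.Agent.Lib.Helper21.IdealPow1
import Groth.Agent.Lib.Helper18.HHZero
import Groth.Agent.Lib.Helper18.RegPoint
import Groth.Agent.Lib.Helper2.TensorQCoh
import Groth.Agent.Lib.Helper2.ModSec2
import Groth.Agent.Lib.Helper7.QCohExt

/-!
# `H¹(P^n, m_p^{e+1} ⊗ O(c)) = 0` for `c ≥ e` (helper28)

* `formSec G U`: the section of `O(c)` over `U` given by a form `G` of degree `c`;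
* `exists_preimage_of_nrm_mem`: a section of `O(c)` over a chart whose normalisation lies in the ideal
  `K` comes from `K ⊗ O(c)`;
* `subsingleton_H1_idealPow_twist`: `H¹(P^n_k, m_p^{e+1} ⊗ O(c)) = 0` for a closed point `p`, `c ≥ e`
  (given `H¹(O(c)) = 0`).
-/

set_option autoImplicit false
set_option linter.unusedSectionVars false
set_option linter.style.haveILetI false
universe u
open CategoryTheory CategoryTheory.Limits AlgebraicGeometry Opposite TopologicalSpace MvPolynomial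

namespace Groth.Agent.Lib.helper28.Jets

open Groth.Agent.Lib.Helper20.GKS Groth.Agent.Lib.helper28.ProjIdealGen
  Groth.Agent.Lib.helper20.TwistVal Groth.Agent.Lib.Helper20.ProjMulHom
  Groth.Agent.Lib.Lead.ModTensor Groth.Agent.Lib.helper7 Groth.Agent.Lib.Helper18
  Groth.Agent.Lib.helper11.IsoLocus

noncomputable section

variable {n : ℕ} {k : Type u} [Field k]

local notation "𝒜ₙ" => CohB1.polyGrading n k

/-- the section of `O(c)` over `U` given by a form of degree `c` -/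
def formSec {c : ℕ} (G : 𝒜ₙ c) (U : (Proj 𝒜ₙ).Opens) : Γ(Twist.twist 𝒜ₙ (c : ℤ), U) :=
  ((mulHom 𝒜ₙ (zero_add (c : ℤ)) G).app U).hom
    (show Γ(Twist.twist 𝒜ₙ 0, U) from Groth.Agent.Lib.helper28.TwistZero.oneSect 𝒜ₙ U)

lemma valO_formSec {c : ℕ} (G : 𝒜ₙ c) (U : (Proj 𝒜ₙ).Opens) (x : U) :
    valO 𝒜ₙ (formSec G U) x = mkOne 𝒜ₙ G.1 x.1 := by
  unfold formSec
  rw [mulHom_valO]
  have h3 : valO 𝒜ₙ (show Γ(Twist.twist 𝒜ₙ 0, U) from
      Groth.Agent.Lib.helper28.TwistZero.oneSect 𝒜ₙ U) x = 1 :=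
    Localization.mk_self (1 : x.1.asHomogeneousIdeal.toIdeal.primeCompl)
  rw [h3, one_mul]

lemma formSec_res {c : ℕ} (G : 𝒜ₙ c) {U V : (Proj 𝒜ₙ).Opens} (hVU : V ≤ U) :
    (Twist.twist 𝒜ₙ (c : ℤ)).presheaf.map (homOfLE hVU).op (formSec G U) = formSec G V := by
  apply valO_ext
  intro x
  rw [valO_res, valO_formSec, valO_formSec]

lemma nrm_formSec (l : Fin (n + 1)) (U : (Proj 𝒜ₙ).Opens) (hU : InChart l U) {c : ℕ} (G : 𝒜ₙ c) :
    nrm l U hU (c : ℤ) (formSec G U) = gam l U hU G := by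
  apply valA_ext
  intro x
  rw [valA_nrm, valO_formSec, valA_gam']

/-- a section of `O(c)` over the chart `D₊(X_l)` whose normalisation lies in the ideal `K` comes
from `K ⊗ O(c)` -/
theorem exists_preimage_of_nrm_mem (l : Fin (n + 1)) (K : (Proj 𝒜ₙ).IdealSheafData) (c : ℤ)
    (σ : Γ(Twist.twist 𝒜ₙ c, D (A := k) l))
    (h : nrm l (D (A := k) l) (inChart_D l) c σ ∈ K.ideal (Da (A := k) l)) :
    ∃ u : Γ(CohB1.tensorMod (ClSub.idealMod K) (Twist.twist 𝒜ₙ c), D (A := k) l),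
      ((tensorMap (ClSub.idealModι K) (𝟙 (Twist.twist 𝒜ₙ c)) ≫
        (leftUnitor (Twist.twist 𝒜ₙ c)).hom).app (D (A := k) l)).hom u = σ := by
  obtain ⟨b, hb⟩ := (IdealMod.mem_range_idealModι_iff_of_affine K (Da (A := k) l) _).mpr h
  obtain ⟨τ, hτ⟩ := nrm_surjective l (D (A := k) l) (inChart_D l) c 1
  refine ⟨SecTwist.tmul _ _ (D (A := k) l) b τ, ?_⟩
  have h1 : ((tensorMap (ClSub.idealModι K) (𝟙 (Twist.twist 𝒜ₙ c)) ≫
      (leftUnitor (Twist.twist 𝒜ₙ c)).hom).app (D (A := k) l)).hom (SecTwist.tmul _ _ (D (A := k) l) b τ) =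
      ((leftUnitor (Twist.twist 𝒜ₙ c)).hom.val.app (op (D (A := k) l))).hom
        (((tensorMap (ClSub.idealModι K) (𝟙 (Twist.twist 𝒜ₙ c))).val.app (op (D (A := k) l))).hom
          (SecTwist.tmul _ _ (D (A := k) l) b τ)) := rfl
  rw [h1, Groth.Agent.Lib.helper12.PullTensor.tensorMap_tmul]
  have h2 : (((𝟙 (Twist.twist 𝒜ₙ c) : Twist.twist 𝒜ₙ c ⟶ Twist.twist 𝒜ₙ c).val.app
      (op (D (A := k) l))).hom τ) = τ := rfl
  rw [h2]
  have h3 := Groth.Agent.Lib.helper21.IdealPow.leftUnitor_tmul (Twist.twist 𝒜ₙ c) (D (A := k) l) τ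
    (((ClSub.idealModι K).app (D (A := k) l)).hom b)
  refine h3.trans ?_
  apply nrm_injective l (D (A := k) l) (inChart_D l) c
  have h4 := (nrm l (D (A := k) l) (inChart_D l) c).map_smul
    (nrm l (D (A := k) l) (inChart_D l) c σ) τ
  rw [hτ, smul_eq_mul, mul_one] at h4
  refine Eq.trans ?_ h4
  exact congrArg (fun r : Γ(Proj 𝒜ₙ, D (A := k) l) =>
    nrm l (D (A := k) l) (inChart_D l) c (r • τ)) hb

/-- the multiplication `K ⊗ O(c) ⟶ O(c)` -/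
def jmap (K : (Proj 𝒜ₙ).IdealSheafData) (c : ℤ) :
    CohB1.tensorMod (ClSub.idealMod K) (Twist.twist 𝒜ₙ c) ⟶ Twist.twist 𝒜ₙ c :=
  tensorMap (ClSub.idealModι K) (𝟙 (Twist.twist 𝒜ₙ c)) ≫ (leftUnitor (Twist.twist 𝒜ₙ c)).hom

theorem isInvertible_twist (c : ℤ) : PicF.IsInvertible (Twist.twist 𝒜ₙ c) :=
  Groth.Agent.Lib.helper28.TwistPn.isInvertible n k c

instance mono_jmap (K : (Proj 𝒜ₙ).IdealSheafData) (c : ℤ) : Mono (jmap K c) := by
  haveI : Mono (ClSub.idealModι K) := IdealMod.mono_idealModι K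
  haveI := Groth.Agent.Lib.helper11.TwistH1.mono_tensorMap_left (ClSub.idealModι K)
    (isInvertible_twist (n := n) (k := k) c)
  unfold jmap
  exact mono_comp _ _

theorem shortExact_jmap (K : (Proj 𝒜ₙ).IdealSheafData) (c : ℤ) :
    (ShortComplex.mk (jmap K c) (cokernel.π (jmap K c)) (cokernel.condition _)).ShortExact :=
  ShortComplex.ShortExact.mk' (ShortComplex.exact_cokernel (jmap K c)) inferInstance inferInstance

open Groth.Agent.Lib.helper28.BlowPts in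
/-- **global forms of degree `c` surject onto the `e`-jets at a closed point, `c ≥ e`** -/
theorem surjective_sections_cokernel [IsAlgClosed k] (p : Proj 𝒜ₙ)
    (hp : IsClosed ({p} : Set (Proj 𝒜ₙ))) (e c : ℕ) (hec : e ≤ c)
    (K : (Proj 𝒜ₙ).IdealSheafData)
    (hK : K = Scheme.IdealSheafData.vanishingIdeal ⟨{p}, hp⟩ ^ (e + 1))
    (t : Γ(cokernel (jmap K (c : ℤ)), (⊤ : (Proj 𝒜ₙ).Opens))) :
    ∃ s : Γ(Twist.twist 𝒜ₙ (c : ℤ), (⊤ : (Proj 𝒜ₙ).Opens)),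
      ((cokernel.π (jmap K (c : ℤ))).app ⊤).hom s = t := by
  obtain ⟨l, hl'⟩ := Groth.Agent.Lib.helper28.TwistPn.exists_X_notMem n k p
  have hl : p ∈ D (A := k) l := (Proj.mem_basicOpen 𝒜ₙ _ p).mpr hl'
  have hWaff : IsAffineOpen (D (A := k) l) := isAffineOpen_D l
  obtain ⟨𝓘, h𝓘⟩ : ∃ 𝓘 : (Proj 𝒜ₙ).IdealSheafData,
      𝓘 = Scheme.IdealSheafData.vanishingIdeal ⟨{p}, hp⟩ := ⟨_, rfl⟩
  rw [← h𝓘] at hK
  have hmax : (𝓘.ideal (Da (A := k) l)).IsMaximal := by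
    rw [h𝓘, Groth.Agent.Lib.Helper18.RegPoint.vanishingIdeal_singleton_ideal_of_mem hp
      (Da (A := k) l) hl]
    exact Groth.Agent.Lib.helper28.PnPoints.isMaximal_primeIdealOf (isAffineOpen_D l) p hl hp
  haveI : (ClSub.idealMod K).IsQuasicoherent := IdealMod.idealMod_qcoh K
  haveI : (Twist.twist 𝒜ₙ (c : ℤ)).IsQuasicoherent :=
    Groth.Agent.Lib.helper28.TwistQCoh.twist_isQuasicoherent 𝒜ₙ (c : ℤ)
  haveI : (CohB1.tensorMod (ClSub.idealMod K) (Twist.twist 𝒜ₙ (c : ℤ))).IsQuasicoherent :=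
    Groth.Agent.Lib.helper2.TensorQCoh.isQuasicoherent_tensorMod _ _
  have hS := shortExact_jmap K (c : ℤ)
  -- step 1: lift on the chart
  obtain ⟨σ, hσ⟩ := Groth.Agent.Lib.helper7.QCohExt.surjective_app_of_shortExact
    (ShortComplex.mk (jmap K (c : ℤ)) (cokernel.π (jmap K (c : ℤ))) (cokernel.condition _)) hS
    (D (A := k) l) hWaff
    ((cokernel (jmap K (c : ℤ))).presheaf.map (homOfLE (le_top : D (A := k) l ≤ ⊤)).op t)
  -- step 2: approximate by a form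
  obtain ⟨G, hG⟩ := exists_gam_sub_mem l (𝓘.ideal (Da (A := k) l)) hmax e c hec
    (nrm l (D (A := k) l) (inChart_D l) (c : ℤ) σ)
  refine ⟨formSec G ⊤, ?_⟩
  have hδ : nrm l (D (A := k) l) (inChart_D l) (c : ℤ) (σ - formSec G (D (A := k) l)) ∈
      K.ideal (Da (A := k) l) := by
    rw [map_sub, nrm_formSec, hK]
    exact hG
  obtain ⟨u, hu⟩ := exists_preimage_of_nrm_mem l K (c : ℤ) (σ - formSec G (D (A := k) l)) hδ
  have h0 : ((cokernel.π (jmap K (c : ℤ))).app (D (A := k) l)).hom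
      (σ - formSec G (D (A := k) l)) = 0 := by
    rw [← hu]
    exact congrArg (fun ψ : CohB1.tensorMod (ClSub.idealMod K) (Twist.twist 𝒜ₙ (c : ℤ)) ⟶
      cokernel (jmap K (c : ℤ)) => (ψ.app (D (A := k) l)).hom u) (cokernel.condition (jmap K (c : ℤ)))
  have h1 : ((cokernel.π (jmap K (c : ℤ))).app (D (A := k) l)).hom (formSec G (D (A := k) l)) =
      ((cokernel.π (jmap K (c : ℤ))).app (D (A := k) l)).hom σ := by
    rw [map_sub, sub_eq_zero] at h0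
    exact h0.symm
  -- step 5: glue
  have hW' : IsOpen ({p}ᶜ : Set (Proj 𝒜ₙ)) := hp.isOpen_compl
  have hcov : (⊤ : (Proj 𝒜ₙ).Opens) ≤ D (A := k) l ⊔ ⟨{p}ᶜ, hW'⟩ := by
    intro x _
    by_cases hx : x = p
    · exact Or.inl (hx ▸ hl)
    · exact Or.inr hx
  have hiso : (⟨{p}ᶜ, hW'⟩ : (Proj 𝒜ₙ).Opens) ≤ isoLocus (jmap K (c : ℤ)) := by
    refine le_isoLocus_comp' _ _ _ (le_isoLocus_tensorMap _ _ _ ?_ (le_isoLocus_of_isIso _ _))
      (le_isoLocus_of_isIso _ _)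
    refine le_isoLocus_idealModι K _ fun V hV hle => ?_
    have hpV : p ∉ V := fun h => hle h rfl
    rw [hK, h𝓘]
    show (Scheme.IdealSheafData.vanishingIdeal ⟨{p}, hp⟩).ideal ⟨V, hV⟩ ^ (e + 1) = ⊤
    rw [Groth.Agent.Lib.Helper18.RegPoint.vanishingIdeal_singleton_ideal_of_notMem hp ⟨V, hV⟩ hpV,
      Ideal.top_pow]
  refine Groth.Agent.Lib.helper2.ModSec.sec_ext₂ (cokernel (jmap K (c : ℤ)))
    (le_top : D (A := k) l ≤ ⊤) (le_top : (⟨{p}ᶜ, hW'⟩ : (Proj 𝒜ₙ).Opens) ≤ ⊤) hcov _ _ ?_ ?_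
  · rw [← Groth.Agent.Lib.helper16.QCohEpi.app_map, formSec_res, h1, hσ]
  · rw [Groth.Agent.Lib.helper11.TwistH1.eq_zero_of_le_isoLocus (jmap K (c : ℤ)) hiso
        ((cokernel (jmap K (c : ℤ))).presheaf.map (homOfLE le_top).op t),
      Groth.Agent.Lib.helper11.TwistH1.eq_zero_of_le_isoLocus (jmap K (c : ℤ)) hiso
        ((cokernel (jmap K (c : ℤ))).presheaf.map (homOfLE le_top).op _)]

/-- **`H¹(P^n_k, m_p^{e+1} ⊗ O(c)) = 0`** for a closed point `p` and `c ≥ e`, given `H¹(O(c)) = 0` -/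
theorem subsingleton_H1_idealPow_twist [IsAlgClosed k] (p : Proj 𝒜ₙ)
    (hp : IsClosed ({p} : Set (Proj 𝒜ₙ))) (e c : ℕ) (hec : e ≤ c)
    (hH1 : Subsingleton (Coh.HH (Proj 𝒜ₙ) (Twist.twist 𝒜ₙ (c : ℤ)) 1)) :
    Subsingleton (Coh.HH (Proj 𝒜ₙ) (CohB1.tensorMod
      (ClSub.idealMod (Scheme.IdealSheafData.vanishingIdeal ⟨{p}, hp⟩ ^ (e + 1)))
      (Twist.twist 𝒜ₙ (c : ℤ))) 1) := by
  obtain ⟨K, hK⟩ : ∃ K : (Proj 𝒜ₙ).IdealSheafData,
      K = Scheme.IdealSheafData.vanishingIdeal ⟨{p}, hp⟩ ^ (e + 1) := ⟨_, rfl⟩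
  have hsec := surjective_sections_cokernel p hp e c hec K hK
  rw [← hK]
  have hS := shortExact_jmap K (c : ℤ)
  have hsurj : Function.Surjective (HH.map (cokernel.π (jmap K (c : ℤ))) 0) := by
    intro t0
    obtain ⟨s, hs⟩ := hsec (HH.equiv₀ _ t0)
    refine ⟨(HH.equiv₀ _).symm s, ?_⟩
    apply (HH.equiv₀ _).injective
    rw [HH.equiv₀_naturality, LinearEquiv.apply_symm_apply]
    exact hs
  refine ⟨fun x y => ?_⟩
  have hx : ∀ x : Coh.HH (Proj 𝒜ₙ) (CohB1.tensorMod (ClSub.idealMod K)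
      (Twist.twist 𝒜ₙ (c : ℤ))) 1, x = 0 := by
    intro x
    obtain ⟨a, ha⟩ := (HH.exact₁ (S := ShortComplex.mk (jmap K (c : ℤ))
      (cokernel.π (jmap K (c : ℤ))) (cokernel.condition _)) hS 0 x).1 (Subsingleton.elim _ _)
    obtain ⟨a', rfl⟩ := hsurj a
    rw [← ha]
    exact (HH.exact₃ (S := ShortComplex.mk (jmap K (c : ℤ))
      (cokernel.π (jmap K (c : ℤ))) (cokernel.condition _)) hS 0 _).2 ⟨a', rfl⟩
  rw [hx x, hx y]

end

end Groth.Agent.Lib.helper28.Jets
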