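import Mathlib
import Groth.Agent.Lib.Helper10.PlaneAlg
import Groth.Agent.Lib.Helper28.PnPoints1

set_option autoImplicit false
set_option linter.style.haveILetI false
universe u
open MvPolynomial Module

namespace Groth.Agent.Lib.helper28.PnPoints

section Count

variable (k : Type u) [Field k]

/-- the truncation of a polynomial to total degree `≤ m` -/
noncomputable def trunc (m : ℕ) (p : MvPolynomial (Fin 2) k) : MvPolynomial (Fin 2) k :=
  ∑ x ∈ p.support.filter (fun x => x.degree ≤ m), monomial x (p.coeff x)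

theorem trunc_mem (m : ℕ) (p : MvPolynomial (Fin 2) k) :
    trunc k m p ∈ restrictTotalDegree (Fin 2) k m := by
  refine Submodule.sum_mem _ fun x hx => ?_
  rw [mem_restrictTotalDegree]
  refine (totalDegree_monomial_le x _).trans ?_
  exact (Finset.mem_filter.mp hx).2

theorem sub_trunc_mem (m : ℕ) (p : MvPolynomial (Fin 2) k) :
    p - trunc k m p ∈ idealOfVars (Fin 2) k ^ (m + 1) := by
  classical
  rw [mem_pow_idealOfVars_iff']
  intro x hx
  rw [coeff_sub, trunc, coeff_sum]
  simp only [coeff_monomial]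
  rw [Finset.sum_ite_eq' ]
  by_cases h : x ∈ p.support
  · rw [if_pos (Finset.mem_filter.mpr ⟨h, by omega⟩), sub_self]
  · rw [if_neg (fun h' => h (Finset.mem_filter.mp h').1)]
    rw [notMem_support_iff.mp h, sub_zero]

/-- `dim_k k[x,y]/(x,y)^b = b(b+1)/2` -/
theorem two_mul_finrank_quot_idealOfVars_pow (b : ℕ) :
    2 * finrank k (MvPolynomial (Fin 2) k ⧸ idealOfVars (Fin 2) k ^ b) = b * (b + 1) := by
  cases b with
  | zero =>
    rw [pow_zero, Ideal.one_eq_top]
    haveI : Subsingleton (MvPolynomial (Fin 2) k ⧸ (⊤ : Ideal (MvPolynomial (Fin 2) k))) :=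
      Ideal.Quotient.subsingleton_iff.mpr rfl
    rw [finrank_zero_of_subsingleton]
  | succ m =>
    rw [← Groth.Agent.Lib.helper10.PA.two_mul_finrank_restrictTotalDegree (k := k) m]
    congr 1
    let f : restrictTotalDegree (Fin 2) k m →ₗ[k]
        (MvPolynomial (Fin 2) k ⧸ idealOfVars (Fin 2) k ^ (m + 1)) :=
      (Ideal.Quotient.mkₐ k (idealOfVars (Fin 2) k ^ (m + 1))).toLinearMap.comp
        (restrictTotalDegree (Fin 2) k m).subtype
    have hf : Function.Bijective f := by
      constructor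
      · rw [injective_iff_map_eq_zero]
        rintro ⟨p, hp⟩ h0
        have h1 : p ∈ idealOfVars (Fin 2) k ^ (m + 1) := Ideal.Quotient.eq_zero_iff_mem.mp h0
        rw [mem_pow_idealOfVars_iff] at h1
        rw [mem_restrictTotalDegree] at hp
        apply Subtype.ext
        show p = 0
        rw [← MvPolynomial.support_eq_empty, Finset.eq_empty_iff_forall_notMem]
        intro x hx
        have h2 := h1 x hx
        have h3 : x.degree ≤ m := (le_totalDegree hx).trans hp
        omega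
      · intro q
        obtain ⟨p, rfl⟩ := Ideal.Quotient.mk_surjective q
        refine ⟨⟨trunc k m p, trunc_mem k m p⟩, ?_⟩
        show Ideal.Quotient.mk _ (trunc k m p) = Ideal.Quotient.mk _ p
        rw [Ideal.Quotient.eq, ← neg_sub]
        exact neg_mem (sub_trunc_mem k m p)
    exact (LinearEquiv.ofBijective f hf).finrank_eq.symm

end Count

section Max

open Groth.Agent.LibSecReg29

variable {k : Type u} [Field k] [IsAlgClosed k]

/-- a maximal ideal of a `k`-algebra `A ≅ k[X_1..X_m]` is the image of `(X_1, .., X_m)` under a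
suitable `k`-algebra isomorphism -/
theorem exists_algEquiv_of_isMaximal {m : ℕ} {A : Type u} [CommRing A] [Algebra k A]
    (E : MvPolynomial (Fin m) k ≃ₐ[k] A) (𝔭 : Ideal A) (h𝔭 : 𝔭.IsMaximal) :
    ∃ ρ : MvPolynomial (Fin m) k ≃ₐ[k] A,
      𝔭 = (idealOfVars (Fin m) k).map (ρ : MvPolynomial (Fin m) k →+* A) := by
  have hsurj : Function.Surjective (E : MvPolynomial (Fin m) k →+* A) := E.surjective
  have hq : (𝔭.comap (E : MvPolynomial (Fin m) k →+* A)).IsMaximal :=
    Ideal.comap_isMaximal_of_surjective _ hsurj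
  obtain ⟨x, hx⟩ := MvPolynomial.isMaximal_iff_eq_vanishingIdeal_singleton.mp hq
  let T : MvPolynomial (Fin m) k ≃ₐ[k] MvPolynomial (Fin m) k :=
    AlgEquiv.ofBijective (transl x) (transl_bijective x)
  have hT : ∀ i, T (X i) = X i - C (x i) := fun i => by
    simp [T, transl]
  refine ⟨T.trans E, ?_⟩
  have h1 : 𝔭 = (𝔭.comap (E : MvPolynomial (Fin m) k →+* A)).map
      (E : MvPolynomial (Fin m) k →+* A) := (Ideal.map_comap_of_surjective _ hsurj _).symm
  rw [h1, hx, vanishingIdeal_singleton_eq_span, Ideal.map_span, idealOfVars, Ideal.map_span]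
  congr 1
  ext a
  simp only [Set.mem_image, Set.mem_range, exists_exists_eq_and]
  constructor
  · rintro ⟨i, rfl⟩
    exact ⟨i, by simp [hT]⟩
  · rintro ⟨i, rfl⟩
    exact ⟨i, by simp [hT]⟩

theorem two_mul_finrank_quot_pow_of_isMaximal {A : Type u} [CommRing A] [Algebra k A]
    (E : MvPolynomial (Fin 2) k ≃ₐ[k] A) (𝔭 : Ideal A) (h𝔭 : 𝔭.IsMaximal) (b : ℕ) :
    2 * finrank k (A ⧸ 𝔭 ^ b) = b * (b + 1) := by
  obtain ⟨ρ, hρ⟩ := exists_algEquiv_of_isMaximal E 𝔭 h𝔭
  have h1 : 𝔭 ^ b = (idealOfVars (Fin 2) k ^ b).map (ρ : MvPolynomial (Fin 2) k →+* A) := by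
    rw [hρ, Ideal.map_pow]
  rw [← two_mul_finrank_quot_idealOfVars_pow k b]
  congr 1
  exact (Ideal.quotientEquivAlg _ _ ρ h1).toLinearEquiv.finrank_eq.symm

end Max

section Chart

open AlgebraicGeometry TopologicalSpace CategoryTheory Opposite
open Groth.Agent.Lib.helper20.JacHyp Groth.Agent.Lib.helper20.HypIdeal
  Groth.Agent.Lib.Helper18.ProjChart

variable {k : Type u} [Field k] [IsAlgClosed k]

/-- **`dim_k O_{P²}(V)/m_p^b = b(b+1)/2`** on a standard chart `V ∋ p` of `P²_k`, `p` a closed point -/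
theorem two_mul_finrank_quot_chart (l : Fin 3)
    [Algebra k Γ(Proj (CohB1.polyGrading 2 k), ch 2 k l)]
    (halg : ∀ c : k, algebraMap k Γ(Proj (CohB1.polyGrading 2 k), ch 2 k l) c = strMap l c)
    (p : ↥(Proj (CohB1.polyGrading 2 k)))
    (hp : IsClosed ({p} : Set ↥(Proj (CohB1.polyGrading 2 k)))) (hl : p ∈ ch 2 k l) (b : ℕ) :
    2 * finrank k (Γ(Proj (CohB1.polyGrading 2 k), ch 2 k l) ⧸
      ((Scheme.IdealSheafData.vanishingIdeal ⟨{p}, hp⟩) ^ b).ideal
        ⟨ch 2 k l, isAffineOpen_ch l⟩) = b * (b + 1) := by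
  have hU := isAffineOpen_ch (n := 2) (k := k) l
  have hmax := isMaximal_primeIdealOf hU p hl hp
  have hcard : Fintype.card (Idx 2 l) = 2 := by simp [Idx]
  let e : Fin 2 ≃ Idx 2 l := (Fintype.equivFinOfCardEq hcard).symm
  let E₀ : MvPolynomial (Idx 2 l) k ≃ₐ[k] Γ(Proj (CohB1.polyGrading 2 k), ch 2 k l) :=
    AlgEquiv.ofRingEquiv (f := chartRing l) (fun c => by
      rw [MvPolynomial.algebraMap_eq, chartRing_C, halg])
  have h1 : ((Scheme.IdealSheafData.vanishingIdeal ⟨{p}, hp⟩) ^ b).ideal ⟨ch 2 k l, hU⟩ =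
      (hU.primeIdealOf ⟨p, hl⟩).asIdeal ^ b := by
    rw [Scheme.IdealSheafData.ideal_pow, Pi.pow_apply,
      Groth.Agent.Lib.Helper18.RegPoint.vanishingIdeal_singleton_ideal_of_mem hp ⟨_, hU⟩ hl]
  rw [h1]
  exact two_mul_finrank_quot_pow_of_isMaximal ((renameEquiv k e).trans E₀) _ hmax b

end Chart

end Groth.Agent.Lib.helper28.PnPoints
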