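import Mathlib
import Groth.Agent.Lib.Helper28.PnPoints2
import Groth.Agent.Lib.Helper28.BlowUpTwistBase
import Groth.Agent.Lib.Helper28.BlowUpPushPow3
import Groth.Agent.Lib.Lead.HHPushGen
import Groth.Agent.Lib.Helper18.ProjFormulaLF
import Groth.Agent.Lib.Helper9.VAKey1
import Groth.Agent.Lib.Helper18.Punctual
import Groth.Agent.Lib.Helper18.DegCalc
import Groth.Agent.Lib.Helper20.MumfordClassic
import Groth.Agent.Lib.Helper7.SurfInt
import Groth.Agent.Lib.Helper19.ProjSpaceProper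
import Groth.Agent.Lib.Helper11.AmpleInv
import Groth.Agent.Lib.Lead.CurveEuler

/-!
# Euler characteristic of line bundles on the blow-up of `P²_k` at a closed point (helper28)

`χ(X, σ^*O(a) ⊗ E^b) = (a² + 3a)/2 − (b² + b)/2 + 1`.
-/

set_option autoImplicit false
set_option linter.unusedSectionVars false
set_option linter.style.haveILetI false
universe u
open CategoryTheory CategoryTheory.Limits AlgebraicGeometry Opposite TopologicalSpace
open Scheme.Modules Module

namespace Groth.Agent.Lib.helper28.PnPoints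

open Groth.Agent.Lib.helper28.BlowUpDirect Groth.Agent.Lib.helper28.BlowUpDirectTwist
  Groth.Agent.Lib.helper28.BlowUpTwistBase Groth.Agent.Lib.helper28.BlowUpPushPow
  Groth.Agent.Lib.Lead.ModTensor Groth.Agent.Lib.helper7
  Groth.Agent.Lib.helper20.JacHyp Groth.Agent.Lib.helper20.HypIdeal

theorem two_mul_choose_two (r : ℤ) : 2 * Ring.choose r 2 = r * (r - 1) := by
  have h := Ring.descPochhammer_eq_factorial_smul_choose r 2
  have h2 : (descPochhammer ℤ 2).smeval r = r * (r - 1) := by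
    rw [← Polynomial.eval_eq_smeval]
    simp [descPochhammer_succ_right]
  rw [h2] at h
  rw [h]
  simp

theorem arith (a : ℤ) (b : ℕ) (c d : ℤ) (hc : 2 * c = (a + 2) * (a + 2 - 1))
    (hd : 2 * d = (b : ℤ) * (b + 1)) :
    c - d = (a * a + 3 * a) / 2 - ((b : ℤ) * b + b) / 2 + 1 := by
  have h1 : a * a + 3 * a = 2 * (c - 1) := by linarith
  have h2 : (b : ℤ) * b + b = 2 * d := by linarith
  rw [h1, h2, Int.mul_ediv_cancel_left _ (by norm_num : (2 : ℤ) ≠ 0),
    Int.mul_ediv_cancel_left _ (by norm_num : (2 : ℤ) ≠ 0)]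
  ring

/-- the support of a power of the ideal of a closed point lies in the point -/
theorem support_pow_vanishingIdeal_subset {Y : Scheme.{u}} (p : Y) (hp : IsClosed ({p} : Set Y))
    (b : ℕ) :
    (((Scheme.IdealSheafData.vanishingIdeal ⟨{p}, hp⟩) ^ b).support : Set Y) ⊆ {p} := by
  cases b with
  | zero =>
    rw [pow_zero, Scheme.IdealSheafData.one_eq_top, Scheme.IdealSheafData.support_top]
    intro x hx
    exact (hx : x ∈ (∅ : Set Y)).elim
  | succ n =>
    rw [Scheme.IdealSheafData.support_pow_succ, Scheme.IdealSheafData.coe_support_vanishingIdeal]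
    exact le_rfl

/-- **`χ(X, σ^*O(a) ⊗ E^b) = (a² + 3a)/2 − (b² + b)/2 + 1`** on the blow-up `σ : X ⟶ P²_k` at a closed
point, `E` the ideal of the exceptional line. -/
theorem euler_blowup_plane_point (k : Type u) [Field k] [IsAlgClosed k]
    (p : ↥(CohB1.ProjSpace 2 k)) (hp : IsClosed ({p} : Set ↥(CohB1.ProjSpace 2 k)))
    {X : Scheme.{u}} [X.Over (Spec (CommRingCat.of k))] (σ : X ⟶ CohB1.ProjSpace 2 k)
    (hσk : σ ≫ CohB1.ProjSpace.toSpec 2 k = X ↘ Spec (CommRingCat.of k))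
    (hσ : BlowUp.IsBlowUp σ (Scheme.IdealSheafData.vanishingIdeal ⟨{p}, hp⟩)) (a : ℤ) (b : ℕ) :
    Curv2.euler k X (CohB1.tensorMod ((Scheme.Modules.pullback σ).obj (Twist.twistProjSpace 2 k a))
      (ClSub.idealMod ((BlowUp.exceptional σ (Scheme.IdealSheafData.vanishingIdeal ⟨{p}, hp⟩)) ^ b))) =
      (a * a + 3 * a) / 2 - ((b : ℤ) * b + b) / 2 + 1 := by
  obtain ⟨𝓘, h𝓘⟩ : ∃ 𝓘 : (CohB1.ProjSpace 2 k).IdealSheafData,
      𝓘 = Scheme.IdealSheafData.vanishingIdeal ⟨{p}, hp⟩ := ⟨_, rfl⟩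
  rw [← h𝓘] at hσ ⊢
  haveI hLN : IsLocallyNoetherian (CohB1.ProjSpace 2 k) :=
    Groth.Agent.Lib.Lead.SerreFin.isLocallyNoetherian_projSpace 2 k
  haveI hprop : IsProper (CohB1.ProjSpace 2 k ↘ Spec (CommRingCat.of k)) :=
    Groth.Agent.Lib.helper19.ProjSpaceProper.proper_toSpec 2 k
  have hgood2 : ∀ y, GoodAt2 𝓘 y := fun y => by
    rw [h𝓘]
    exact goodAt2_projSpace 2 le_rfl _ (Set.finite_singleton p)
      (fun z hz => by rw [show z = p from hz]; exact hp) y
  have hgood : ∀ y, GoodAt 𝓘 y := fun y => (hgood2 y).goodAt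
  have hF : PicF.IsInvertible (Twist.twistProjSpace 2 k a) :=
    Groth.Agent.Lib.helper28.TwistPn.isInvertible 2 k a
  have hJ : PicF.IsInvertible (ClSub.idealMod (𝓘.comap σ)) :=
    IdealCartier.invertible_of_effCartier _ hσ.1
  obtain ⟨α⟩ := Groth.Agent.Lib.helper21.IdealPow.nonempty_tensorPow_iso_idealMod_pow
    (𝓘.comap σ) hJ b
  -- vanishing of the higher direct images
  have hR : ∀ i : ℕ, 0 < i → IsZero ((Coh.RpushAb σ i).obj (Coh.toAb
      (CohB1.tensorMod ((Scheme.Modules.pullback σ).obj (Twist.twistProjSpace 2 k a))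
        (ClSub.idealMod ((𝓘.comap σ) ^ b))))) := fun i hi =>
    isZero_RpushAb_of_iso σ (tensorIso (Iso.refl _) α.symm) i
      (isZero_RpushAb_pullback_tensorPow σ 𝓘 hσ hgood _ hF b i hi)
  -- Leray
  haveI : σ.IsOver (Spec (CommRingCat.of k)) := ⟨hσk⟩
  have hE1 : Curv2.euler k X (CohB1.tensorMod ((Scheme.Modules.pullback σ).obj
      (Twist.twistProjSpace 2 k a)) (ClSub.idealMod ((𝓘.comap σ) ^ b))) =
      Curv2.euler k (CohB1.ProjSpace 2 k) ((Scheme.Modules.pushforward σ).obj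
        (CohB1.tensorMod ((Scheme.Modules.pullback σ).obj (Twist.twistProjSpace 2 k a))
          (ClSub.idealMod ((𝓘.comap σ) ^ b)))) := by
    unfold Curv2.euler
    congr 1
    funext i
    congr 2
    exact (Groth.Agent.Lib.Lead.HHPushGen.pushEquivOver σ _ hR k i).finrank_eq.symm
  -- identification of the direct image
  obtain ⟨β⟩ := nonempty_push_idealMod_pow_iso σ 𝓘 hσ hgood b
  have hFlf : FlatMod.IsFinLocFree (Twist.twistProjSpace 2 k a) :=
    Groth.Agent.Lib.helper16.FLF.isFinLocFree_of_isInvertible hF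
  have γ : (Scheme.Modules.pushforward σ).obj
      (CohB1.tensorMod ((Scheme.Modules.pullback σ).obj (Twist.twistProjSpace 2 k a))
        (ClSub.idealMod ((𝓘.comap σ) ^ b))) ≅
      CohB1.tensorMod (ClSub.idealMod (𝓘 ^ b)) (Twist.twistProjSpace 2 k a) :=
    (Scheme.Modules.pushforward σ).mapIso (braid _ _) ≪≫
      (Groth.Agent.Lib.Helper18.ProjFormulaLF.projIso σ _ _ hFlf).symm ≪≫
      tensorIso β (Iso.refl _)
  show Curv2.euler k X (CohB1.tensorMod ((Scheme.Modules.pullback σ).obj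
      (Twist.twistProjSpace 2 k a)) (ClSub.idealMod ((𝓘.comap σ) ^ b))) = _
  rw [hE1, Groth.Agent.Lib.Lead.CurveEuler.euler_eq_of_iso k _ γ]
  -- the exact sequence `0 → I^b → O → O/I^b → 0` twisted by `O(a)`
  have hF1 := (Groth.Agent.Lib.helper16.FLF.isInvertible_iff_isFinLocFreeOfRank_one _).1 hF
  have hOc := Groth.Agent.Lib.helper11.AmpleInv.isCoh_structureModule (CohB1.ProjSpace 2 k)
  have hQc : Coh.IsCoh (ClSub.quotMod (𝓘 ^ b)) := SnapperQuot.isCoh_quotMod _
  have hIc : Coh.IsCoh (ClSub.idealMod (𝓘 ^ b)) := by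
    haveI : Mono (ClSub.idealModι (𝓘 ^ b)) := IdealMod.mono_idealModι _
    exact Groth.Agent.Lib.Lead.HilbPos.isCoh_of_mono (ClSub.idealModι (𝓘 ^ b))
      (IdealMod.idealMod_qcoh _) hOc
  have hadd := Groth.Agent.Lib.Helper18.DegCalc.euler_tensor_additive k (CohB1.ProjSpace 2 k)
    (IdealMod.idealSeq (𝓘 ^ b)) (IdealMod.idealSeq_shortExact (𝓘 ^ b)) hIc hQc hF1
  have hadd' : Curv2.euler k (CohB1.ProjSpace 2 k)
      (CohB1.tensorMod (Coh.structureModule _) (Twist.twistProjSpace 2 k a)) =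
      Curv2.euler k (CohB1.ProjSpace 2 k)
        (CohB1.tensorMod (ClSub.idealMod (𝓘 ^ b)) (Twist.twistProjSpace 2 k a)) +
      Curv2.euler k (CohB1.ProjSpace 2 k)
        (CohB1.tensorMod (ClSub.quotMod (𝓘 ^ b)) (Twist.twistProjSpace 2 k a)) := hadd
  -- `χ(O(a))`
  have hO : Curv2.euler k (CohB1.ProjSpace 2 k)
      (CohB1.tensorMod (Coh.structureModule _) (Twist.twistProjSpace 2 k a)) =
      Ring.choose (a + 2) 2 := by
    rw [Groth.Agent.Lib.Lead.CurveEuler.euler_eq_of_iso k _ (leftUnitor _),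
      Groth.Agent.Lib.Helper20.MumfordClassic.euler_O k 2 (by norm_num) a]
    norm_num
  -- the punctual part
  haveI : JacobsonSpace ↥(CohB1.ProjSpace 2 k) :=
    LocallyOfFiniteType.jacobsonSpace (CohB1.ProjSpace 2 k ↘ Spec (CommRingCat.of k))
  have hsub : (((𝓘 ^ b).support : Closeds ↥(CohB1.ProjSpace 2 k)) : Set ↥(CohB1.ProjSpace 2 k)) ⊆
      {p} := by
    rw [h𝓘]
    exact support_pow_vanishingIdeal_subset p hp b
  have hfinK : (((𝓘 ^ b).support : Closeds ↥(CohB1.ProjSpace 2 k)) :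
      Set ↥(CohB1.ProjSpace 2 k)).Finite := (Set.finite_singleton p).subset hsub
  have hsupp : topologicalKrullDim (CohB1.support (ClSub.quotMod (𝓘 ^ b))) ≤ 0 :=
    (Groth.Agent.Lib.helper8.DimLt.topologicalKrullDim_le_of_subset
      (SnapperQuot.support_quotMod_subset (𝓘 ^ b))).trans
      (RegInt.dim_le_zero_of_finite_closed _ hfinK (𝓘 ^ b).support.isClosed)
  have hQ1 := Groth.Agent.Lib.Helper18.Punctual.euler_tensor_of_support_dim_le_zero k
    (CohB1.ProjSpace 2 k) _ hQc hsupp 1 _ hF1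
  have hQ2 := SurfInt.euler_quotMod_eq_finrank_H0 k (CohB1.ProjSpace 2 k) (𝓘 ^ b) hfinK
  -- the chart
  have hcov := Groth.Agent.Lib.Helper12.Hyperplane.iSup_basicOpen_X 2 k
  have hy : p ∈ (⨆ i : Fin 3, Proj.basicOpen (CohB1.polyGrading 2 k)
      (MvPolynomial.X i : MvPolynomial (Fin 3) k)) := by
    rw [hcov]; trivial
  obtain ⟨l, hl⟩ := Opens.mem_iSup.mp hy
  letI inst : Algebra k Γ(CohB1.ProjSpace 2 k, ch 2 k l) := (strMap l).toAlgebra
  have hfr := Groth.Agent.Lib.helper9.VAKey1.finrank_H0_quotMod_eq_of_support_le k (𝓘 ^ b)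
    (isAffineOpen_ch (n := 2) (k := k) l) (hsub.trans (Set.singleton_subset_iff.mpr hl))
    (fun c => rfl)
  have hcount := @two_mul_finrank_quot_chart k _ _ l inst (fun c => rfl) p hp hl b
  have hcount' : 2 * finrank k (Coh.HH (CohB1.ProjSpace 2 k) (ClSub.quotMod (𝓘 ^ b)) 0) =
      b * (b + 1) := by
    rw [hfr]
    subst h𝓘
    exact hcount
  -- arithmetic
  have hc := two_mul_choose_two (a + 2)
  have hd : 2 * ((finrank k (Coh.HH (CohB1.ProjSpace 2 k) (ClSub.quotMod (𝓘 ^ b)) 0) : ℕ) : ℤ) =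
      (b : ℤ) * (b + 1) := by exact_mod_cast hcount'
  have hmain : Curv2.euler k (CohB1.ProjSpace 2 k)
      (CohB1.tensorMod (ClSub.idealMod (𝓘 ^ b)) (Twist.twistProjSpace 2 k a)) =
      Ring.choose (a + 2) 2 -
        ((finrank k (Coh.HH (CohB1.ProjSpace 2 k) (ClSub.quotMod (𝓘 ^ b)) 0) : ℕ) : ℤ) := by
    rw [← hO, hadd', hQ1, hQ2]
    push_cast
    ring
  rw [hmain]
  exact arith a b _ _ hc hd

end Groth.Agent.Lib.helper28.PnPoints
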