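import Mathlib
import Groth.Agent.Lib.Helper28.BlowPtsF
import Groth.Agent.Lib.Helper28.PnPoints3

/-!
# Cohomology of `π^*F ⊗ J^{⊗ d}` on a blow-up via the base (helper28)

* `hhEquiv_blowup_pow`: `H^i(X, π^*F ⊗ J^{⊗ d}) ≃ H^i(Y, I^d ⊗ F)` for a blow-up `π : X ⟶ Y` of `I`
  along a regularly embedded centre (`J = I O_X`, `F` invertible);
* `subsingleton_H1_blowup_point`: `H¹(X, π^*O(c) ⊗ J^{⊗ d}) = 0` on the blow-up of `P^n_k` at a closed
  point when `d = 0` or `0 < d ≤ c` (given `H¹(P^n, O(c)) = 0`).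
-/

set_option autoImplicit false
set_option linter.unusedSectionVars false
set_option linter.style.haveILetI false
universe u
open CategoryTheory CategoryTheory.Limits AlgebraicGeometry Opposite TopologicalSpace
open Scheme.Modules

namespace Groth.Agent.Lib.helper28.BlowPts

open Groth.Agent.Lib.helper28.BlowUpDirect Groth.Agent.Lib.helper28.BlowUpDirectTwist
  Groth.Agent.Lib.helper28.BlowUpTwistBase Groth.Agent.Lib.helper28.BlowUpPushPow
  Groth.Agent.Lib.Lead.ModTensor Groth.Agent.Lib.helper7 Groth.Agent.Lib.helper28.PnPoints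

/-- **`H^i(X, π^*F ⊗ J^{⊗ d}) ≃ H^i(Y, I^d ⊗ F)`** on the blow-up of `I` -/
theorem nonempty_hhEquiv_blowup_pow {X Y : Scheme.{u}} (π : X ⟶ Y) (𝓘 : Y.IdealSheafData)
    (hπ : BlowUp.IsBlowUp π 𝓘) (hgood : ∀ y : Y, GoodAt 𝓘 y) (F : Y.Modules)
    (hF : PicF.IsInvertible F) (d i : ℕ) :
    Nonempty (Coh.HH X (CohB1.tensorMod ((Scheme.Modules.pullback π).obj F)
      (CohB1.tensorPow (ClSub.idealMod (𝓘.comap π)) d)) i ≃
      Coh.HH Y (CohB1.tensorMod (ClSub.idealMod (𝓘 ^ d)) F) i) := by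
  have hJ : PicF.IsInvertible (ClSub.idealMod (𝓘.comap π)) :=
    IdealCartier.invertible_of_effCartier _ hπ.1
  obtain ⟨α⟩ := Groth.Agent.Lib.helper21.IdealPow.nonempty_tensorPow_iso_idealMod_pow
    (𝓘.comap π) hJ d
  have hR : ∀ p : ℕ, 0 < p → IsZero ((Coh.RpushAb π p).obj (Coh.toAb
      (CohB1.tensorMod ((Scheme.Modules.pullback π).obj F)
        (CohB1.tensorPow (ClSub.idealMod (𝓘.comap π)) d)))) := fun p hp =>
    isZero_RpushAb_pullback_tensorPow π 𝓘 hπ hgood _ hF d p hp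
  obtain ⟨β⟩ := nonempty_push_idealMod_pow_iso π 𝓘 hπ hgood d
  have hFlf : FlatMod.IsFinLocFree F :=
    Groth.Agent.Lib.helper16.FLF.isFinLocFree_of_isInvertible hF
  have γ : (Scheme.Modules.pushforward π).obj
      (CohB1.tensorMod ((Scheme.Modules.pullback π).obj F)
        (CohB1.tensorPow (ClSub.idealMod (𝓘.comap π)) d)) ≅
      CohB1.tensorMod (ClSub.idealMod (𝓘 ^ d)) F :=
    (Scheme.Modules.pushforward π).mapIso (tensorIso (Iso.refl _) α ≪≫ braid _ _) ≪≫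
      (Groth.Agent.Lib.Helper18.ProjFormulaLF.projIso π _ _ hFlf).symm ≪≫
      tensorIso β (Iso.refl _)
  exact ⟨(Groth.Agent.Lib.Lead.HHPushGen.pushEquivAdd π _ hR i).symm.toEquiv.trans
    (Groth.Agent.Lib.Helper18.P1Euler.hhEquivOfIso γ i)⟩

open Groth.Agent.Lib.helper28.Jets in
/-- **`H¹(X, π^*O(c) ⊗ J^{⊗ d}) = 0`** on the blow-up of `P^n_k` (`n ≥ 2`) at a closed point, when `d = 0`
or `0 < d ≤ c`, given `H¹(P^n, O(c)) = 0`. -/
theorem subsingleton_H1_blowup_point (k : Type u) [Field k] [IsAlgClosed k] (n : ℕ) (hn : 2 ≤ n)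
    (p : ↥(CohB1.ProjSpace n k)) (hp : IsClosed ({p} : Set ↥(CohB1.ProjSpace n k)))
    {X : Scheme.{u}} (π : X ⟶ CohB1.ProjSpace n k)
    (hπ : BlowUp.IsBlowUp π (Scheme.IdealSheafData.vanishingIdeal ⟨{p}, hp⟩))
    (c : ℤ) (d : ℕ) (hcd : d = 0 ∨ (0 < d ∧ (d : ℤ) ≤ c))
    (hH1 : Subsingleton (Coh.HH (CohB1.ProjSpace n k) (Twist.twistProjSpace n k c) 1)) :
    Subsingleton (Coh.HH X (CohB1.tensorMod ((Scheme.Modules.pullback π).obj
        (Twist.twistProjSpace n k c))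
      (CohB1.tensorPow (ClSub.idealMod
        ((Scheme.IdealSheafData.vanishingIdeal ⟨{p}, hp⟩).comap π)) d)) 1) := by
  haveI hLN : IsLocallyNoetherian (CohB1.ProjSpace n k) :=
    Groth.Agent.Lib.Lead.SerreFin.isLocallyNoetherian_projSpace n k
  have hgood : ∀ y, GoodAt (Scheme.IdealSheafData.vanishingIdeal ⟨{p}, hp⟩) y := fun y =>
    (goodAt2_projSpace n hn _ (Set.finite_singleton p)
      (fun z hz => by rw [show z = p from hz]; exact hp) y).goodAt
  have hF : PicF.IsInvertible (Twist.twistProjSpace n k c) :=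
    Groth.Agent.Lib.helper28.TwistPn.isInvertible n k c
  obtain ⟨e⟩ := nonempty_hhEquiv_blowup_pow π _ hπ hgood _ hF d 1
  refine e.subsingleton_congr.mpr ?_
  rcases hcd with rfl | ⟨hd, hdc⟩
  · -- `I^0 = ⊤`
    rw [pow_zero, Scheme.IdealSheafData.one_eq_top]
    have hiso : IsIso (ClSub.idealModι (⊤ : (CohB1.ProjSpace n k).IdealSheafData)) := by
      rw [← Groth.Agent.Lib.helper11.IsoLocus.isoLocus_eq_top_iff]
      exact top_le_iff.mp (le_isoLocus_idealModι _ ⊤ fun W hW _ => rfl)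
    exact (Groth.Agent.Lib.Helper18.P1Euler.hhEquivOfIso
      (tensorIso (asIso (ClSub.idealModι ⊤)) (Iso.refl _) ≪≫ leftUnitor _)
      1).subsingleton_congr.mpr hH1
  · obtain ⟨e', rfl⟩ : ∃ e', d = e' + 1 := ⟨d - 1, by omega⟩
    obtain ⟨c', rfl⟩ : ∃ c' : ℕ, c = (c' : ℤ) := ⟨c.toNat, by omega⟩
    exact subsingleton_H1_idealPow_twist (n := n) (k := k) p hp e' c' (by omega) hH1

end Groth.Agent.Lib.helper28.BlowPts
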