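import Mathlib
import Groth.Agent.Lib.Helper28.BlowPtsG
import Groth.Agent.Lib.Helper20.TwistEquivPn
import Groth.Agent.Lib.Helper12.InvDual2
import Groth.Agent.Lib.Helper12.PullTensor
import Groth.Agent.Lib.Helper18.HHSum0
import Groth.Agent.S0844

/-!
# Cohomology of the modules `π^*O(c) ⊗ J^{⊗ d}` on a blow-up of `P^n` in at most one point (helper28)

* `subsingleton_HH_blowup_pow_ge_two`: `H^i(Y, F) = 0 ⇒ H^i(X, π^*F ⊗ J^{⊗ d}) = 0` for `i ≥ 2` on the blow-up
  of finitely many closed points (`J` the total exceptional ideal);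
* `IsCD π K M c d`: `M ≅ π^*O(c) ⊗ K^{⊗ d}`; stability under tensor products and powers;
* `subsingleton_HH_of_isCD`: the vanishing of `H^i`, `1 ≤ i ≤ n`, for such modules, at most one point;
* `subsingleton_HH_cokernel_twists`: `H^i(X, coker(f) ⊗ H^{⊗ t}) = 0` for `1 ≤ i ≤ n − 1`.
-/

set_option autoImplicit false
set_option linter.unusedSectionVars false
set_option linter.style.haveILetI false
universe u
open CategoryTheory CategoryTheory.Limits AlgebraicGeometry Opposite TopologicalSpace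
open Scheme.Modules

namespace Groth.Agent.Lib.helper28.BlowPts

open Groth.Agent.Lib.helper28.BlowUpDirect Groth.Agent.Lib.helper28.BlowUpDirectTwist
  Groth.Agent.Lib.helper28.BlowUpTwistBase Groth.Agent.Lib.helper28.BlowUpPushPow
  Groth.Agent.Lib.Lead.ModTensor Groth.Agent.Lib.helper7 Groth.Agent.Lib.helper28.PnPoints
  Groth.Agent.Lib.helper11.IsoLocus Groth.Agent.Lib.Helper18
  Groth.Agent.Lib.Helper20.TwistEquivPn Groth.Agent.Lib.Helper20.TensorEquiv

section General

variable {X Y : Scheme.{u}}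

/-- the multiplication map `K ⊗ F ⟶ F` -/
noncomputable def idealMul (K : Y.IdealSheafData) (F : Y.Modules) :
    CohB1.tensorMod (ClSub.idealMod K) F ⟶ F :=
  tensorMap (ClSub.idealModι K) (𝟙 F) ≫ (leftUnitor F).hom

theorem le_isoLocus_idealMul (K : Y.IdealSheafData) (F : Y.Modules) (U : Y.Opens)
    (hU : ∀ (W : Y.Opens) (hW : IsAffineOpen W), W ≤ U → K.ideal ⟨W, hW⟩ = ⊤) :
    U ≤ isoLocus (idealMul K F) :=
  le_isoLocus_comp' _ _ U
    (le_isoLocus_tensorMap _ _ U (le_isoLocus_idealModι K U hU) (le_isoLocus_of_isIso _ U))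
    (le_isoLocus_of_isIso _ U)

theorem pow_vanishingIdeal_ideal_eq_top (S : Closeds Y) (d : ℕ) (W : Y.Opens) (hW : IsAffineOpen W)
    (h : ∀ z ∈ W, z ∉ S) :
    (Scheme.IdealSheafData.vanishingIdeal S ^ d).ideal ⟨W, hW⟩ = ⊤ := by
  have h1 : (Scheme.IdealSheafData.vanishingIdeal S ^ d).ideal ⟨W, hW⟩ =
      (Scheme.IdealSheafData.vanishingIdeal S).ideal ⟨W, hW⟩ ^ d := rfl
  rw [h1, vanishingIdeal_ideal_eq_top S ⟨W, hW⟩ h, Ideal.top_pow]

/-- `H^i(Y, F) = 0 ⇒ H^i(Y, I_S^d ⊗ F) = 0` for `i ≥ 2`, `S` a closed set of closed points -/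
theorem subsingleton_HH_idealPow_tensor [IsLocallyNoetherian Y] (S : Closeds Y)
    (hS : ∀ x ∈ S, IsClosed ({x} : Set Y)) (F : Y.Modules) (d i : ℕ) (hi : 2 ≤ i)
    (hF : Subsingleton (Coh.HH Y F i)) :
    Subsingleton (Coh.HH Y (CohB1.tensorMod
      (ClSub.idealMod (Scheme.IdealSheafData.vanishingIdeal S ^ d)) F) i) := by
  refine subsingleton_HH_of_le_isoLocus (idealMul _ F) ⟨(S : Set Y)ᶜ, S.isClosed.isOpen_compl⟩
    ?_ ?_ i hi hF
  · intro x hx
    exact hS x (not_not.mp hx)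
  · refine le_isoLocus_idealMul _ F _ fun W hW hle => ?_
    exact pow_vanishingIdeal_ideal_eq_top S d W hW fun z hz hzS => hle hz hzS

/-- `H^i(Y, F) = 0 ⇒ H^i(Y, I_S^d ⊗ F) = 0` for all `i` when `S` is empty -/
theorem subsingleton_HH_idealPow_tensor_of_empty (S : Closeds Y) (hS : ∀ x : Y, x ∉ S)
    (F : Y.Modules) (d i : ℕ) (hF : Subsingleton (Coh.HH Y F i)) :
    Subsingleton (Coh.HH Y (CohB1.tensorMod
      (ClSub.idealMod (Scheme.IdealSheafData.vanishingIdeal S ^ d)) F) i) := by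
  have hiso : IsIso (idealMul (Scheme.IdealSheafData.vanishingIdeal S ^ d) F) := by
    rw [← isoLocus_eq_top_iff]
    refine top_le_iff.mp (le_isoLocus_idealMul _ F ⊤ fun W hW _ => ?_)
    exact pow_vanishingIdeal_ideal_eq_top S d W hW fun z _ => hS z
  exact subsingleton_of_iso (asIso (idealMul (Scheme.IdealSheafData.vanishingIdeal S ^ d) F)).symm
    i hF

/-- **`H^i(Y, F) = 0 ⇒ H^i(X, π^*F ⊗ J^{⊗ d}) = 0`** for `i ≥ 2`, on the blow-up of a closed set of
closed points, `J` the total exceptional ideal. -/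
theorem subsingleton_HH_blowup_pow_ge_two [IsLocallyNoetherian Y] (S : Closeds Y)
    (hS : ∀ x ∈ S, IsClosed ({x} : Set Y)) (π : X ⟶ Y)
    (hπ : BlowUp.IsBlowUp π (Scheme.IdealSheafData.vanishingIdeal S))
    (hgood : ∀ y : Y, GoodAt (Scheme.IdealSheafData.vanishingIdeal S) y)
    (F : Y.Modules) (hF : PicF.IsInvertible F) (d i : ℕ) (hi : 2 ≤ i)
    (hFi : Subsingleton (Coh.HH Y F i)) :
    Subsingleton (Coh.HH X (CohB1.tensorMod ((Scheme.Modules.pullback π).obj F)
      (CohB1.tensorPow (ClSub.idealMod ((Scheme.IdealSheafData.vanishingIdeal S).comap π)) d)) i) := by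
  obtain ⟨e⟩ := nonempty_hhEquiv_blowup_pow π _ hπ hgood F hF d i
  exact e.subsingleton_congr.mpr (subsingleton_HH_idealPow_tensor S hS F d i hi hFi)

/-- the same for all `i` when `S` is empty -/
theorem subsingleton_HH_blowup_pow_of_empty (S : Closeds Y) (hS : ∀ x : Y, x ∉ S) (π : X ⟶ Y)
    (hπ : BlowUp.IsBlowUp π (Scheme.IdealSheafData.vanishingIdeal S))
    (hgood : ∀ y : Y, GoodAt (Scheme.IdealSheafData.vanishingIdeal S) y)
    (F : Y.Modules) (hF : PicF.IsInvertible F) (d i : ℕ)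
    (hFi : Subsingleton (Coh.HH Y F i)) :
    Subsingleton (Coh.HH X (CohB1.tensorMod ((Scheme.Modules.pullback π).obj F)
      (CohB1.tensorPow (ClSub.idealMod ((Scheme.IdealSheafData.vanishingIdeal S).comap π)) d)) i) := by
  obtain ⟨e⟩ := nonempty_hhEquiv_blowup_pow π _ hπ hgood F hF d i
  exact e.subsingleton_congr.mpr (subsingleton_HH_idealPow_tensor_of_empty S hS F d i hFi)

/-- `H^i(Q ⊗ L) = 0` for `Q ≅ G^m` if `H^i(G ⊗ L) = 0`, `L` with a tensor inverse -/
theorem subsingleton_HH_sigma_tensor {G L L' : X.Modules}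
    (e : CohB1.tensorMod L L' ≅ Coh.structureModule X) (m : ℕ) (Q : X.Modules)
    (hQ : Nonempty (Q ≅ ∐ fun _ : Fin m => G)) (i : ℕ)
    (h : Subsingleton (Coh.HH X (CohB1.tensorMod G L) i)) :
    Subsingleton (Coh.HH X (CohB1.tensorMod Q L) i) := by
  obtain ⟨eQ⟩ := hQ
  haveI := isEquivalence_tensorRight e
  have e2 : CohB1.tensorMod (∐ fun _ : Fin m => G) L ≅ ∐ fun _ : Fin m => CohB1.tensorMod G L :=
    PreservesCoproduct.iso (tensorRight L) (fun _ : Fin m => G)
  have h2 : Subsingleton (Coh.HH X (∐ fun _ : Fin m => CohB1.tensorMod G L) i) :=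
    (HH.sigmaEquiv (fun _ : Fin m => CohB1.tensorMod G L) i).toEquiv.subsingleton
  exact subsingleton_of_iso (tensorIso eQ (Iso.refl L) ≪≫ e2).symm i h2

end General

section Pn

variable (k : Type u) [Field k] (n : ℕ) {X : Scheme.{u}} (π : X ⟶ CohB1.ProjSpace n k)
  (K : X.IdealSheafData)

/-- `M ≅ π^*O(c) ⊗ K^{⊗ d}` -/
def IsCD (M : X.Modules) (c : ℤ) (d : ℕ) : Prop :=
  Nonempty (M ≅ CohB1.tensorMod ((Scheme.Modules.pullback π).obj (Twist.twistProjSpace n k c))
    (CohB1.tensorPow (ClSub.idealMod K) d))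

variable {k n π K}

theorem IsCD.of_iso {M M' : X.Modules} {c : ℤ} {d : ℕ} (h : IsCD k n π K M c d) (e : M' ≅ M) :
    IsCD k n π K M' c d :=
  ⟨e ≪≫ h.some⟩

theorem IsCD.congr {M : X.Modules} {c c' : ℤ} {d d' : ℕ} (h : IsCD k n π K M c d) (hc : c = c')
    (hd : d = d') : IsCD k n π K M c' d' := by
  subst hc hd
  exact h

variable (k n π) in
/-- `π^*O(a) ⊗ π^*O(b) ≅ π^*O(a + b)` -/
noncomputable def pullTwistAdd (a b : ℤ) :
    CohB1.tensorMod ((Scheme.Modules.pullback π).obj (Twist.twistProjSpace n k a))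
      ((Scheme.Modules.pullback π).obj (Twist.twistProjSpace n k b)) ≅
      (Scheme.Modules.pullback π).obj (Twist.twistProjSpace n k (a + b)) :=
  (Groth.Agent.Lib.helper12.PullTensor.pullTensorIso π _ _
    (Groth.Agent.Lib.helper28.TwistPn.isInvertible n k b)).symm ≪≫
    (Scheme.Modules.pullback π).mapIso (Groth.Agent.Lib.helper28.TwistPn.tensorIso n k a b)

theorem IsCD.tensor {M M' : X.Modules} {c c' : ℤ} {d d' : ℕ} (h : IsCD k n π K M c d)
    (h' : IsCD k n π K M' c' d') : IsCD k n π K (CohB1.tensorMod M M') (c + c') (d + d') :=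
  ⟨tensorIso h.some h'.some ≪≫ tensorTensorTensorComm _ _ _ _ ≪≫
    tensorIso (pullTwistAdd k n π c c') (tensorPowAdd (ClSub.idealMod K) d d')⟩

variable (k n π K) in
theorem isCD_pull (c : ℤ) :
    IsCD k n π K ((Scheme.Modules.pullback π).obj (Twist.twistProjSpace n k c)) c 0 :=
  ⟨(rightUnitor _).symm⟩

variable (k n π K) in
theorem isCD_unit : IsCD k n π K (Coh.structureModule X) 0 0 :=
  (isCD_pull k n π K 0).of_iso ((Groth.Agent.Lib.helper11.InvMod.pullbackUnitIso π).symm ≪≫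
    (Scheme.Modules.pullback π).mapIso (Groth.Agent.Lib.helper28.TwistPn.zeroIso n k))

theorem IsCD.tensorPow {M : X.Modules} {c : ℤ} {d : ℕ} (h : IsCD k n π K M c d) (t : ℕ) :
    IsCD k n π K (CohB1.tensorPow M t) ((t : ℤ) * c) (t * d) := by
  induction t with
  | zero => exact (isCD_unit k n π K).congr (by simp) (by simp)
  | succ t ih =>
    exact (ih.tensor h).congr (by push_cast; ring) (by ring)

theorem IsCD.isInvertible {M : X.Modules} {c : ℤ} {d : ℕ} (h : IsCD k n π K M c d)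
    (hK : PicF.IsInvertible (ClSub.idealMod K)) : PicF.IsInvertible M :=
  Groth.Agent.Lib.helper11.InvMod.isInvertible_of_iso h.some.symm
    (Groth.Agent.Lib.helper12.TensorInv.isInvertible_tensorMod
      (Groth.Agent.Lib.helper11.InvMod.isInvertible_pullback π
        (Groth.Agent.Lib.helper28.TwistPn.isInvertible n k c))
      (Groth.Agent.Lib.helper12.TensorInv.isInvertible_tensorPow hK d))

end Pn

end Groth.Agent.Lib.helper28.BlowPts
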