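import Mathlib
import Groth.Agent.Lib.Helper28.BlowPtsH

/-!
# Vanishing for `coker(f) ⊗ H^{⊗ t}` on a blow-up of `P^n` in at most one point (helper28)

* `subsingleton_HH_of_isCD`: `H^i(X, M) = 0` for `M ≅ π^*O(c) ⊗ J^{⊗ d}`, `1 ≤ i ≤ n` (with `c ≥ −n` if `i = n`, and
  `d = 0` or `0 < d ≤ c` if `i = 1`), on the blow-up of `P^n_k` in at most one closed point;
* `subsingleton_HH_cokernel_twists`: `H^i(X, coker(f) ⊗ H^{⊗ t}) = 0` for `1 ≤ i ≤ n − 1`, `f : O(−2e₀)^a ⟶ O(−e₀)^b`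
  a monomorphism, `H ≅ π^*O(n+1) ⊗ J^{⊗ (n−1)}`.
-/

set_option autoImplicit false
set_option linter.unusedSectionVars false
set_option linter.style.haveILetI false
universe u
open CategoryTheory CategoryTheory.Limits AlgebraicGeometry Opposite TopologicalSpace
open Scheme.Modules

namespace Groth.Agent.Lib.helper28.BlowPts

open Groth.Agent.Lib.helper28.BlowUpDirect Groth.Agent.Lib.helper28.BlowUpDirectTwist
  Groth.Agent.Lib.helper28.BlowUpTwistBase Groth.Agent.Lib.helper28.BlowUpPushPow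
  Groth.Agent.Lib.Lead.ModTensor Groth.Agent.Lib.helper7 Groth.Agent.Lib.helper28.PnPoints
  Groth.Agent.Lib.helper11.IsoLocus Groth.Agent.Lib.Helper18
  Groth.Agent.Lib.Helper20.TwistEquivPn Groth.Agent.Lib.Helper20.TensorEquiv

variable (k : Type u) [Field k] [IsAlgClosed k] (n : ℕ) (s : ℕ)
  (P : Fin s → ↥(CohB1.ProjSpace n k))
  (hPc : ∀ i, IsClosed ({P i} : Set ↥(CohB1.ProjSpace n k))) (hZ : IsClosed (Set.range P))
  {X : Scheme.{u}} (π : X ⟶ CohB1.ProjSpace n k)
  (hπ : BlowUp.IsBlowUp π (Scheme.IdealSheafData.vanishingIdeal ⟨Set.range P, hZ⟩))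

include hPc hπ in
/-- `H^i(X, π^*O(c) ⊗ J^{⊗ d}) = 0`, at most one point blown up -/
theorem subsingleton_HH_of_isCD (hn : 2 ≤ n) (hs : s ≤ 1) (M : X.Modules) (c : ℤ) (d : ℕ)
    (hM : IsCD k n π ((Scheme.IdealSheafData.vanishingIdeal ⟨Set.range P, hZ⟩).comap π) M c d)
    (i : ℕ) (hi : 1 ≤ i) (hin : i ≤ n) (hc : i = n → -(n : ℤ) ≤ c)
    (hcd : i = 1 → d = 0 ∨ (0 < d ∧ (d : ℤ) ≤ c)) :
    Subsingleton (Coh.HH X M i) := by
  obtain ⟨e⟩ := hM
  refine subsingleton_of_iso e.symm i ?_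
  haveI hLN : IsLocallyNoetherian (CohB1.ProjSpace n k) :=
    Groth.Agent.Lib.Lead.SerreFin.isLocallyNoetherian_projSpace n k
  have hcl : ∀ z ∈ (⟨Set.range P, hZ⟩ : Closeds ↥(CohB1.ProjSpace n k)),
      IsClosed ({z} : Set ↥(CohB1.ProjSpace n k)) := fun z hz => by
    obtain ⟨t, rfl⟩ := hz
    exact hPc t
  have hgood : ∀ y, GoodAt (Scheme.IdealSheafData.vanishingIdeal ⟨Set.range P, hZ⟩) y := fun y =>
    (goodAt2_projSpace n hn ⟨Set.range P, hZ⟩ (Set.finite_range P) hcl y).goodAt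
  have hF : PicF.IsInvertible (Twist.twistProjSpace n k c) :=
    Groth.Agent.Lib.helper28.TwistPn.isInvertible n k c
  have hFi : Subsingleton (Coh.HH (CohB1.ProjSpace n k) (Twist.twistProjSpace n k c) i) :=
    Groth.Agent.S0844.result k n c i (by omega) (fun h => by have := hc h.1; omega)
  by_cases hi2 : 2 ≤ i
  · exact subsingleton_HH_blowup_pow_ge_two ⟨Set.range P, hZ⟩ hcl π hπ hgood _ hF d i hi2 hFi
  obtain rfl : i = 1 := by omega
  rcases Nat.le_one_iff_eq_zero_or_eq_one.mp hs with rfl | rfl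
  · refine subsingleton_HH_blowup_pow_of_empty ⟨Set.range P, hZ⟩ ?_ π hπ hgood _ hF d 1 hFi
    rintro x ⟨t, -⟩
    exact t.elim0
  · have key : ∀ (S : Closeds ↥(CohB1.ProjSpace n k)) (hS : S = ⟨{P 0}, hPc 0⟩)
        (hπ' : BlowUp.IsBlowUp π (Scheme.IdealSheafData.vanishingIdeal S)),
        Subsingleton (Coh.HH X (CohB1.tensorMod ((Scheme.Modules.pullback π).obj
          (Twist.twistProjSpace n k c))
          (CohB1.tensorPow (ClSub.idealMod
            ((Scheme.IdealSheafData.vanishingIdeal S).comap π)) d)) 1) := by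
      rintro S rfl hπ'
      exact subsingleton_H1_blowup_point k n hn (P 0) (hPc 0) π hπ' c d (hcd rfl) hFi
    refine key _ ?_ hπ
    apply Closeds.ext
    show Set.range P = {P 0}
    rw [Set.range_unique]
    rfl

include hPc hπ in
/-- **`H^i(X, coker(f) ⊗ H^{⊗ t}) = 0`** for `1 ≤ i ≤ n − 1` -/
theorem subsingleton_HH_cokernel_twists (hn : 3 ≤ n) (hs : s ≤ 1)
    (a b : ℕ) (P₁ Q₁ : X.Modules)
    (hP₁ : Nonempty (P₁ ≅ ∐ fun _ : Fin a =>
      (Scheme.Modules.pullback π).obj (Twist.twistProjSpace n k (-2))))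
    (hQ₁ : Nonempty (Q₁ ≅ ∐ fun _ : Fin b =>
      (Scheme.Modules.pullback π).obj (Twist.twistProjSpace n k (-1))))
    (f : P₁ ⟶ Q₁) [Mono f] (Hm : X.Modules)
    (hHm : Nonempty (Hm ≅ CohB1.tensorMod
      ((Scheme.Modules.pullback π).obj (Twist.twistProjSpace n k ((n : ℤ) + 1)))
      (CohB1.tensorPow (ClSub.idealMod
        ((Scheme.IdealSheafData.vanishingIdeal ⟨Set.range P, hZ⟩).comap π)) (n - 1))))
    (i t : ℕ) (hi : 1 ≤ i) (hin : i + 1 ≤ n) :
    Subsingleton (Coh.HH X (CohB1.tensorMod (cokernel f) (CohB1.tensorPow Hm t)) i) := by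
  have hJ : PicF.IsInvertible (ClSub.idealMod
      ((Scheme.IdealSheafData.vanishingIdeal ⟨Set.range P, hZ⟩).comap π)) :=
    IdealCartier.invertible_of_effCartier _ hπ.1
  have hHmCD : IsCD k n π ((Scheme.IdealSheafData.vanishingIdeal ⟨Set.range P, hZ⟩).comap π)
      Hm ((n : ℤ) + 1) (n - 1) := hHm
  have hL := hHmCD.tensorPow t
  obtain ⟨L', -, ⟨e⟩, -⟩ := Groth.Agent.Lib.helper12.InvDual.exists_inverse (hL.isInvertible hJ)
  -- the twisted sequence
  have hS : (ShortComplex.mk f (cokernel.π f) (cokernel.condition f)).ShortExact :=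
    ShortComplex.ShortExact.mk' (ShortComplex.exact_of_g_is_cokernel _ (cokernelIsCokernel f))
      inferInstance inferInstance
  have hS' := shortExact_mapSC e hS
  -- the middle term
  have hQ : Subsingleton (Coh.HH X (CohB1.tensorMod Q₁ (CohB1.tensorPow Hm t)) i) := by
    refine subsingleton_HH_sigma_tensor e b Q₁ hQ₁ i ?_
    refine subsingleton_HH_of_isCD k n s P hPc hZ π hπ (by omega) hs _ _ _
      ((isCD_pull k n π _ (-1)).tensor hL) i hi (by omega) (fun h => by omega) (fun _ => ?_)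
    rcases Nat.eq_zero_or_pos t with rfl | ht
    · left; simp
    · right
      have h1 : 0 < t * (n - 1) := Nat.mul_pos ht (by omega)
      refine ⟨by omega, ?_⟩
      have h2 : ((0 + t * (n - 1) : ℕ) : ℤ) = (t : ℤ) * ((n : ℤ) - 1) := by
        rw [zero_add, Nat.cast_mul, Nat.cast_sub (by omega)]
        norm_num
      rw [h2]
      have h3 : (1 : ℤ) ≤ t := by exact_mod_cast ht
      nlinarith
  -- the left term
  have hP : Subsingleton (Coh.HH X (CohB1.tensorMod P₁ (CohB1.tensorPow Hm t)) (i + 1)) := by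
    refine subsingleton_HH_sigma_tensor e a P₁ hP₁ (i + 1) ?_
    refine subsingleton_HH_of_isCD k n s P hPc hZ π hπ (by omega) hs _ _ _
      ((isCD_pull k n π _ (-2)).tensor hL) (i + 1) (by omega) (by omega) (fun _ => ?_)
      (fun h => by omega)
    have h3 : (0 : ℤ) ≤ (t : ℤ) * ((n : ℤ) + 1) := by positivity
    omega
  exact HH.subsingleton_X₃ hS' i hQ hP

end Groth.Agent.Lib.helper28.BlowPts
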