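import Mathlib
import Groth.Agent.Lib.Helper28.BlowPtsI
import Groth.Agent.Lib.Helper18.HHSum
import Groth.Agent.Lib.Helper18.HHEuler

/-!
# Dimensions of `H^i(X, σ^*F ⊗ J^b)` on a blow-up of closed points via the base (helper28)

* `shortExact_idealMul`, `subsingleton_HH_cokernel_idealMul`: `0 → K ⊗ F → F → C → 0` with `C` acyclic when `K` is a power
  of the ideal of a closed set of closed points;
* `finrank_HH_idealMul_eq`: `dim H^{i+2}(Y, K ⊗ F) = dim H^{i+2}(Y, F)`;
* `injective_HH_zero_idealLE`: `H⁰(Y, K ⊗ F) ↪ H⁰(Y, K' ⊗ F)` for `K ≤ K'`;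
* `finrank_HH_blowup_eq`: `dim H^i(X, σ^*F ⊗ idealMod (J^b)) = dim H^i(Y, I^b ⊗ F)`.
-/

set_option autoImplicit false
set_option linter.unusedSectionVars false
set_option linter.style.haveILetI false
universe u
open CategoryTheory CategoryTheory.Limits AlgebraicGeometry Opposite TopologicalSpace
open Scheme.Modules Module

namespace Groth.Agent.Lib.helper28.BlowPts

open Groth.Agent.Lib.helper28.BlowUpDirect Groth.Agent.Lib.helper28.BlowUpDirectTwist
  Groth.Agent.Lib.helper28.BlowUpTwistBase Groth.Agent.Lib.helper28.BlowUpPushPow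
  Groth.Agent.Lib.Lead.ModTensor Groth.Agent.Lib.helper7 Groth.Agent.Lib.helper28.PnPoints
  Groth.Agent.Lib.helper11.IsoLocus Groth.Agent.Lib.Helper18
  Groth.Agent.Lib.Helper20.TwistEquivPn Groth.Agent.Lib.Helper20.TensorEquiv

variable {X Y : Scheme.{u}}

instance mono_idealMul (K : Y.IdealSheafData) (F : Y.Modules) [hF : Fact (PicF.IsInvertible F)] :
    Mono (idealMul K F) := by
  haveI : Mono (ClSub.idealModι K) := IdealMod.mono_idealModι K
  haveI := Groth.Agent.Lib.helper11.TwistH1.mono_tensorMap_left (ClSub.idealModι K) hF.out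
  unfold idealMul
  exact mono_comp _ _

theorem shortExact_idealMul (K : Y.IdealSheafData) (F : Y.Modules) (hF : PicF.IsInvertible F) :
    (ShortComplex.mk (idealMul K F) (cokernel.π (idealMul K F))
      (cokernel.condition _)).ShortExact := by
  haveI : Fact (PicF.IsInvertible F) := ⟨hF⟩
  exact ShortComplex.ShortExact.mk' (ShortComplex.exact_cokernel (idealMul K F))
    inferInstance inferInstance

/-- the cokernel of `I_S^d ⊗ F ⟶ F` is acyclic, `S` a closed set of closed points -/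
theorem subsingleton_HH_cokernel_idealMul [IsLocallyNoetherian Y] (S : Closeds Y)
    (hS : ∀ x ∈ S, IsClosed ({x} : Set Y)) (F : Y.Modules) (d i : ℕ) :
    Subsingleton (Coh.HH Y (cokernel (idealMul (Scheme.IdealSheafData.vanishingIdeal S ^ d) F))
      (i + 1)) := by
  refine Groth.Agent.Lib.Lead.DimOneVanish.subsingleton_HH_of_sections_vanish _
    ⟨(S : Set Y)ᶜ, S.isClosed.isOpen_compl⟩ (fun x hx => hS x (not_not.mp hx)) ?_ i
  intro O hO
  have hle : (⟨(S : Set Y)ᶜ, S.isClosed.isOpen_compl⟩ : Y.Opens) ≤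
      isoLocus (idealMul (Scheme.IdealSheafData.vanishingIdeal S ^ d) F) :=
    le_isoLocus_idealMul _ F _ fun W hW hle =>
      pow_vanishingIdeal_ideal_eq_top S d W hW fun z hz hzS => hle hz hzS
  refine ⟨fun a b => ?_⟩
  rw [Groth.Agent.Lib.helper11.TwistH1.eq_zero_of_le_isoLocus _ (hO.trans hle) a,
    Groth.Agent.Lib.helper11.TwistH1.eq_zero_of_le_isoLocus _ (hO.trans hle) b]

section Over

variable (k : Type u) [Field k] [Y.Over (Spec (CommRingCat.of k))]

/-- `dim H^{i+2}(Y, I_S^d ⊗ F) = dim H^{i+2}(Y, F)` -/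
theorem finrank_HH_idealMul_eq [IsLocallyNoetherian Y] (S : Closeds Y)
    (hS : ∀ x ∈ S, IsClosed ({x} : Set Y)) (F : Y.Modules) (hF : PicF.IsInvertible F) (d i : ℕ) :
    finrank k (Coh.HH Y (CohB1.tensorMod
      (ClSub.idealMod (Scheme.IdealSheafData.vanishingIdeal S ^ d)) F) (i + 2)) =
      finrank k (Coh.HH Y F (i + 2)) :=
  (HH.overEquiv k (HH.mapFEquiv_succ (shortExact_idealMul _ F hF) (i + 1)
    (subsingleton_HH_cokernel_idealMul S hS F d i)
    (subsingleton_HH_cokernel_idealMul S hS F d (i + 1)))).finrank_eq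

end Over

/-- `H⁰(Y, K ⊗ F) ↪ H⁰(Y, K' ⊗ F)` for `K ≤ K'`, `F` invertible -/
theorem injective_HH_zero_idealLE {K K' : Y.IdealSheafData} (h : K ≤ K') (F : Y.Modules)
    (hF : PicF.IsInvertible F) :
    Function.Injective (HH.map (tensorMap (idealLE h) (𝟙 F)) 0) := by
  haveI : Mono (ClSub.idealModι K) := IdealMod.mono_idealModι K
  haveI : Mono (idealLE h) := by
    have h1 : Mono (idealLE h ≫ ClSub.idealModι K') := by
      rw [idealLE_ι]
      infer_instance
    exact mono_of_mono (idealLE h) (ClSub.idealModι K')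
  haveI := Groth.Agent.Lib.helper11.TwistH1.mono_tensorMap_left (idealLE h) hF
  exact injective_map_zero_of_mono _

/-- `H⁰(Y, K ⊗ F) = 0` if `H⁰(Y, K' ⊗ F) = 0` and `K ≤ K'` -/
theorem subsingleton_HH_zero_of_le {K K' : Y.IdealSheafData} (h : K ≤ K') (F : Y.Modules)
    (hF : PicF.IsInvertible F)
    (h0 : Subsingleton (Coh.HH Y (CohB1.tensorMod (ClSub.idealMod K') F) 0)) :
    Subsingleton (Coh.HH Y (CohB1.tensorMod (ClSub.idealMod K) F) 0) :=
  (injective_HH_zero_idealLE h F hF).subsingleton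

/-- `H⁰(Y, K ⊗ F) = 0` if `H⁰(Y, F) = 0` -/
theorem subsingleton_HH_zero_idealMul (K : Y.IdealSheafData) (F : Y.Modules)
    (hF : PicF.IsInvertible F) (h0 : Subsingleton (Coh.HH Y F 0)) :
    Subsingleton (Coh.HH Y (CohB1.tensorMod (ClSub.idealMod K) F) 0) := by
  haveI : Fact (PicF.IsInvertible F) := ⟨hF⟩
  exact (injective_map_zero_of_mono (idealMul K F)).subsingleton

section Blow

variable (k : Type u) [Field k] [Y.Over (Spec (CommRingCat.of k))] [X.Over (Spec (CommRingCat.of k))]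

/-- **`dim H^i(X, σ^*F ⊗ idealMod (J^b)) = dim H^i(Y, I^b ⊗ F)`** on the blow-up of `I` -/
theorem finrank_HH_blowup_eq (σ : X ⟶ Y) [σ.IsOver (Spec (CommRingCat.of k))]
    (𝓘 : Y.IdealSheafData) (hσ : BlowUp.IsBlowUp σ 𝓘) (hgood : ∀ y : Y, GoodAt 𝓘 y)
    (F : Y.Modules) (hF : PicF.IsInvertible F) (b i : ℕ) :
    finrank k (Coh.HH X (CohB1.tensorMod ((Scheme.Modules.pullback σ).obj F)
      (ClSub.idealMod ((𝓘.comap σ) ^ b))) i) =
      finrank k (Coh.HH Y (CohB1.tensorMod (ClSub.idealMod (𝓘 ^ b)) F) i) := by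
  have hJ : PicF.IsInvertible (ClSub.idealMod (𝓘.comap σ)) :=
    IdealCartier.invertible_of_effCartier _ hσ.1
  obtain ⟨α⟩ := Groth.Agent.Lib.helper21.IdealPow.nonempty_tensorPow_iso_idealMod_pow
    (𝓘.comap σ) hJ b
  have hR : ∀ i : ℕ, 0 < i → IsZero ((Coh.RpushAb σ i).obj (Coh.toAb
      (CohB1.tensorMod ((Scheme.Modules.pullback σ).obj F)
        (ClSub.idealMod ((𝓘.comap σ) ^ b))))) := fun i hi =>
    isZero_RpushAb_of_iso σ (tensorIso (Iso.refl _) α.symm) i
      (isZero_RpushAb_pullback_tensorPow σ 𝓘 hσ hgood _ hF b i hi)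
  obtain ⟨β⟩ := nonempty_push_idealMod_pow_iso σ 𝓘 hσ hgood b
  have hFlf : FlatMod.IsFinLocFree F :=
    Groth.Agent.Lib.helper16.FLF.isFinLocFree_of_isInvertible hF
  have γ : (Scheme.Modules.pushforward σ).obj
      (CohB1.tensorMod ((Scheme.Modules.pullback σ).obj F)
        (ClSub.idealMod ((𝓘.comap σ) ^ b))) ≅
      CohB1.tensorMod (ClSub.idealMod (𝓘 ^ b)) F :=
    (Scheme.Modules.pushforward σ).mapIso (braid _ _) ≪≫
      (Groth.Agent.Lib.Helper18.ProjFormulaLF.projIso σ _ _ hFlf).symm ≪≫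
      tensorIso β (Iso.refl _)
  rw [← (Groth.Agent.Lib.Lead.HHPushGen.pushEquivOver σ _ hR k i).finrank_eq]
  exact (HH.isoEquivOver k γ i).finrank_eq

end Blow

end Groth.Agent.Lib.helper28.BlowPts
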