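import Mathlib
import Groth.Agent.Lib.Helper28.BlowPtsJ
import Groth.Agent.Lib.Lead.SerreVan
import Groth.Agent.S0022

/-!
# The cohomology of `pH − bE` on the blow-up of `P²_k` at a closed point (helper28)

`finrank_HH_blowup_plane_point`: for `M = σ^*O(a) ⊗ idealMod (J^b)` on the blow-up `σ : X ⟶ P²_k` of a closed point,
* `b ≤ a`: `h⁰ = C(a+2,2) − C(b+1,2)`, `h¹ = h² = 0`;
* `a = b − 1`: `h⁰ = h¹ = h² = 0`;
* `a ≤ b − 2`: `h⁰ = 0`, `h¹ = C(b+1,2) − C(a+2,2)`, `h² = C(−a−1,2)`.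
-/

set_option autoImplicit false
set_option linter.unusedSectionVars false
set_option linter.style.haveILetI false
universe u
open CategoryTheory CategoryTheory.Limits AlgebraicGeometry Opposite TopologicalSpace
open Scheme.Modules Module

namespace Groth.Agent.Lib.helper28.BlowPts

open Groth.Agent.Lib.helper28.BlowUpDirect Groth.Agent.Lib.helper28.BlowUpDirectTwist
  Groth.Agent.Lib.helper28.BlowUpTwistBase Groth.Agent.Lib.helper28.BlowUpPushPow
  Groth.Agent.Lib.Lead.ModTensor Groth.Agent.Lib.helper7 Groth.Agent.Lib.helper28.PnPoints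
  Groth.Agent.Lib.helper11.IsoLocus Groth.Agent.Lib.Helper18
  Groth.Agent.Lib.Helper20.TwistEquivPn Groth.Agent.Lib.Helper20.TensorEquiv

theorem two_mul_nat_choose_two (m : ℕ) : 2 * ((m + 1).choose 2 : ℤ) = (m : ℤ) * (m + 1) := by
  induction m with
  | zero => simp
  | succ m ih =>
    rw [Nat.choose_succ_succ' (m + 1) 1, Nat.choose_one_right]
    push_cast
    linarith

section Base

variable (k : Type u) [Field k] [IsAlgClosed k]
  (x : ↥(CohB1.ProjSpace 2 k)) (hx : IsClosed ({x} : Set ↥(CohB1.ProjSpace 2 k)))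

/-- `I_x^b ⊗ O(a)` is coherent -/
theorem isCoh_idealPow_twist (b : ℕ) (a : ℤ) :
    Coh.IsCoh (CohB1.tensorMod (ClSub.idealMod (Scheme.IdealSheafData.vanishingIdeal ⟨{x}, hx⟩ ^ b))
      (Twist.twistProjSpace 2 k a)) := by
  haveI hLN : IsLocallyNoetherian (CohB1.ProjSpace 2 k) :=
    Groth.Agent.Lib.Lead.SerreFin.isLocallyNoetherian_projSpace 2 k
  have hOc := Groth.Agent.Lib.helper11.AmpleInv.isCoh_structureModule (CohB1.ProjSpace 2 k)
  have hIc : Coh.IsCoh (ClSub.idealMod (Scheme.IdealSheafData.vanishingIdeal ⟨{x}, hx⟩ ^ b)) := by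
    haveI : Mono (ClSub.idealModι (Scheme.IdealSheafData.vanishingIdeal ⟨{x}, hx⟩ ^ b)) :=
      IdealMod.mono_idealModι _
    exact Groth.Agent.Lib.Lead.HilbPos.isCoh_of_mono (ClSub.idealModι _)
      (IdealMod.idealMod_qcoh _) hOc
  exact Groth.Agent.Lib.Lead.SerreVan.isCoh_twist 2 k hIc a

/-- `H^i(P², I_x^b ⊗ O(a)) = 0` for `i ≥ 3` -/
theorem subsingleton_HH_idealPow_twist_of_gt (b : ℕ) (a : ℤ) (i : ℕ) (hi : 2 < i) :
    Subsingleton (Coh.HH (CohB1.ProjSpace 2 k) (CohB1.tensorMod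
      (ClSub.idealMod (Scheme.IdealSheafData.vanishingIdeal ⟨{x}, hx⟩ ^ b))
      (Twist.twistProjSpace 2 k a)) i) := by
  haveI : Coh.IsQCoh (CohB1.tensorMod
      (ClSub.idealMod (Scheme.IdealSheafData.vanishingIdeal ⟨{x}, hx⟩ ^ b))
      (Twist.twistProjSpace 2 k a)) := (isCoh_idealPow_twist k x hx b a).1
  exact Groth.Agent.S0022.result 2 k _ i hi

/-- `H¹(P², I_x^b ⊗ O(a)) = 0` for `b ≤ a + 1` -/
theorem subsingleton_H1_idealPow_twist' (b : ℕ) (a : ℤ) (hab : (b : ℤ) ≤ a + 1) :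
    Subsingleton (Coh.HH (CohB1.ProjSpace 2 k) (CohB1.tensorMod
      (ClSub.idealMod (Scheme.IdealSheafData.vanishingIdeal ⟨{x}, hx⟩ ^ b))
      (Twist.twistProjSpace 2 k a)) 1) := by
  have hH1 : Subsingleton (Coh.HH (CohB1.ProjSpace 2 k) (Twist.twistProjSpace 2 k a) 1) :=
    Groth.Agent.S0844.result k 2 a 1 (by omega) (by omega)
  rcases Nat.eq_zero_or_pos b with rfl | hb
  · rw [pow_zero, Scheme.IdealSheafData.one_eq_top]
    have hiso : IsIso (ClSub.idealModι (⊤ : (CohB1.ProjSpace 2 k).IdealSheafData)) := by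
      rw [← isoLocus_eq_top_iff]
      exact top_le_iff.mp (le_isoLocus_idealModι _ ⊤ fun W hW _ => rfl)
    exact (Groth.Agent.Lib.Helper18.P1Euler.hhEquivOfIso
      (tensorIso (asIso (ClSub.idealModι ⊤)) (Iso.refl _) ≪≫ leftUnitor _)
      1).subsingleton_congr.mpr hH1
  · obtain ⟨e', rfl⟩ : ∃ e', b = e' + 1 := ⟨b - 1, by omega⟩
    obtain ⟨c', rfl⟩ : ∃ c' : ℕ, a = (c' : ℤ) := ⟨a.toNat, by omega⟩
    exact Groth.Agent.Lib.helper28.Jets.subsingleton_H1_idealPow_twist (n := 2) (k := k) x hx e' c'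
      (by omega) hH1

end Base

section Main

variable (k : Type u) [Field k] [IsAlgClosed k]
  (x : ↥(CohB1.ProjSpace 2 k)) (hx : IsClosed ({x} : Set ↥(CohB1.ProjSpace 2 k)))
  {X : Scheme.{u}} [X.Over (Spec (CommRingCat.of k))] (σ : X ⟶ CohB1.ProjSpace 2 k)

/-- `dim H^i(X, σ^*O(a) ⊗ idealMod (J^b))` -/
noncomputable def hX (a : ℤ) (b i : ℕ) : ℕ :=
  finrank k (Coh.HH X (CohB1.tensorMod ((Scheme.Modules.pullback σ).obj (Twist.twistProjSpace 2 k a))
    (ClSub.idealMod (((Scheme.IdealSheafData.vanishingIdeal ⟨{x}, hx⟩).comap σ) ^ b))) i)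

/-- `dim H^i(P², I_x^b ⊗ O(a))` -/
noncomputable def hY (a : ℤ) (b i : ℕ) : ℕ :=
  finrank k (Coh.HH (CohB1.ProjSpace 2 k) (CohB1.tensorMod
    (ClSub.idealMod (Scheme.IdealSheafData.vanishingIdeal ⟨{x}, hx⟩ ^ b))
    (Twist.twistProjSpace 2 k a)) i)

/-- `dim H^i(P², O(a))` -/
noncomputable def hO (a : ℤ) (i : ℕ) : ℕ :=
  finrank k (Coh.HH (CohB1.ProjSpace 2 k) (Twist.twistProjSpace 2 k a) i)

theorem hY_gt (a : ℤ) (b i : ℕ) (hi : 2 < i) : hY k x hx a b i = 0 := by
  haveI := subsingleton_HH_idealPow_twist_of_gt k x hx b a i hi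
  exact finrank_zero_of_subsingleton

theorem hY_one (a : ℤ) (b : ℕ) (hab : (b : ℤ) ≤ a + 1) : hY k x hx a b 1 = 0 := by
  haveI := subsingleton_H1_idealPow_twist' k x hx b a hab
  exact finrank_zero_of_subsingleton

theorem hY_two (a : ℤ) (b : ℕ) : hY k x hx a b 2 = hO k a 2 := by
  haveI hLN : IsLocallyNoetherian (CohB1.ProjSpace 2 k) :=
    Groth.Agent.Lib.Lead.SerreFin.isLocallyNoetherian_projSpace 2 k
  exact finrank_HH_idealMul_eq k ⟨{x}, hx⟩ (fun z hz => by rw [show z = x from hz]; exact hx)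
    _ (Groth.Agent.Lib.helper28.TwistPn.isInvertible 2 k a) b 0

theorem hO_zero_of (a : ℤ) (i : ℕ) (h₀ : ¬ (i = 0 ∧ 0 ≤ a)) (h₂ : ¬ (i = 2 ∧ a ≤ -3)) :
    hO k a i = 0 := by
  haveI : Subsingleton (Coh.HH (CohB1.ProjSpace 2 k) (Twist.twistProjSpace 2 k a) i) :=
    Groth.Agent.S0844.result k 2 a i h₀ (fun h => h₂ ⟨h.1, by have := h.2; push_cast at this; omega⟩)
  exact finrank_zero_of_subsingleton

/-- the Euler characteristic as a finite sum, when the dimensions vanish above `N` -/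
theorem euler_eq_sum_of_finrank {Z : Scheme.{u}} [Z.Over (Spec (CommRingCat.of k))] (F : Z.Modules)
    (N : ℕ) (hN : ∀ i, N < i → finrank k (Coh.HH Z F i) = 0) :
    Curv2.euler k Z F =
      ∑ i ∈ Finset.range (N + 1), (-1 : ℤ) ^ i * (finrank k (Coh.HH Z F i) : ℤ) := by
  unfold Curv2.euler
  apply finsum_eq_sum_of_support_subset
  intro i hi
  simp only [Function.mem_support, ne_eq] at hi
  simp only [Finset.coe_range, Set.mem_Iio]
  by_contra hlt
  apply hi
  rw [hN i (by omega)]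
  simp

theorem hO_two_of_le (a : ℤ) (ha : a ≤ -3) : (hO k a 2 : ℤ) = Ring.choose (a + 2) 2 := by
  have h1 := Groth.Agent.Lib.Helper20.MumfordClassic.euler_O k 2 (by norm_num) a
  have hsum := euler_eq_sum_of_finrank k (Twist.twistProjSpace 2 k a) 2 fun i hi =>
    hO_zero_of k a i (by omega) (by omega)
  rw [hsum] at h1
  have h00 : hO k a 0 = 0 := hO_zero_of k a 0 (by omega) (by omega)
  have h01 : hO k a 1 = 0 := hO_zero_of k a 1 (by omega) (by omega)
  unfold hO at h00 h01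
  rw [Finset.sum_range_succ, Finset.sum_range_succ, Finset.sum_range_one, h00, h01] at h1
  norm_num at h1
  unfold hO
  exact_mod_cast h1

variable (hσk : σ ≫ CohB1.ProjSpace.toSpec 2 k = X ↘ Spec (CommRingCat.of k))
  (hσ : BlowUp.IsBlowUp σ (Scheme.IdealSheafData.vanishingIdeal ⟨{x}, hx⟩))

include hσk hσ in
theorem hX_eq_hY (a : ℤ) (b i : ℕ) : hX k x hx σ a b i = hY k x hx a b i := by
  haveI hLN : IsLocallyNoetherian (CohB1.ProjSpace 2 k) :=
    Groth.Agent.Lib.Lead.SerreFin.isLocallyNoetherian_projSpace 2 k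
  haveI : σ.IsOver (Spec (CommRingCat.of k)) := ⟨hσk⟩
  have hgood : ∀ y, GoodAt (Scheme.IdealSheafData.vanishingIdeal ⟨{x}, hx⟩) y := fun y =>
    (goodAt2_projSpace 2 le_rfl _ (Set.finite_singleton x)
      (fun z hz => by rw [show z = x from hz]; exact hx) y).goodAt
  exact finrank_HH_blowup_eq k σ _ hσ hgood _
    (Groth.Agent.Lib.helper28.TwistPn.isInvertible 2 k a) b i

include hσk hσ in
/-- `h⁰ − h¹ + h² = C(a+2,2) − C(b+1,2)` -/
theorem euler_hX (a : ℤ) (b : ℕ) :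
    (hX k x hx σ a b 0 : ℤ) - hX k x hx σ a b 1 + hX k x hx σ a b 2 =
      Ring.choose (a + 2) 2 - ((b + 1).choose 2 : ℤ) := by
  have h1 := euler_blowup_plane_point k x hx σ hσk hσ a b
  have hsum := euler_eq_sum_of_finrank k (CohB1.tensorMod ((Scheme.Modules.pullback σ).obj
      (Twist.twistProjSpace 2 k a))
    (ClSub.idealMod (((Scheme.IdealSheafData.vanishingIdeal ⟨{x}, hx⟩).comap σ) ^ b))) 2
    fun i hi => (hX_eq_hY k x hx σ hσk hσ a b i).trans (hY_gt k x hx a b i hi)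
  have h2 : Curv2.euler k X (CohB1.tensorMod ((Scheme.Modules.pullback σ).obj
      (Twist.twistProjSpace 2 k a))
    (ClSub.idealMod (((Scheme.IdealSheafData.vanishingIdeal ⟨{x}, hx⟩).comap σ) ^ b))) =
      (a * a + 3 * a) / 2 - ((b : ℤ) * b + b) / 2 + 1 := h1
  rw [hsum, Finset.sum_range_succ, Finset.sum_range_succ, Finset.sum_range_one] at h2
  have h3 := arith a b _ _ (two_mul_choose_two (a + 2)) (two_mul_nat_choose_two b)
  unfold hX
  rw [h3]
  rw [← h2]
  norm_num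
  ring

include hσk hσ in
/-- `H⁰(P², I_x^{c+1} ⊗ O(c)) = 0` -/
theorem subsingleton_H0_idealPow_succ_twist (c : ℕ) :
    Subsingleton (Coh.HH (CohB1.ProjSpace 2 k) (CohB1.tensorMod
      (ClSub.idealMod (Scheme.IdealSheafData.vanishingIdeal ⟨{x}, hx⟩ ^ (c + 1)))
      (Twist.twistProjSpace 2 k (c : ℤ))) 0) := by
  have he := euler_hX k x hx σ hσk hσ (c : ℤ) (c + 1)
  rw [hX_eq_hY k x hx σ hσk hσ, hX_eq_hY k x hx σ hσk hσ, hX_eq_hY k x hx σ hσk hσ,
    hY_one k x hx (c : ℤ) (c + 1) (by push_cast; omega), hY_two,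
    hO_zero_of k (c : ℤ) 2 (by omega) (by omega)] at he
  have hR := two_mul_choose_two ((c : ℤ) + 2)
  have hD := two_mul_nat_choose_two (c + 1)
  have h0 : hY k x hx (c : ℤ) (c + 1) 0 = 0 := by
    have : (hY k x hx (c : ℤ) (c + 1) 0 : ℤ) = 0 := by
      push_cast at he hD
      nlinarith
    exact_mod_cast this
  haveI hprop : IsProper (CohB1.ProjSpace 2 k ↘ Spec (CommRingCat.of k)) :=
    Groth.Agent.Lib.helper19.ProjSpaceProper.proper_toSpec 2 k
  haveI := Groth.Agent.Lib.Lead.ProperEuler.finite_HH k (CohB1.ProjSpace 2 k) _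
    (isCoh_idealPow_twist k x hx (c + 1) (c : ℤ)) 0
  exact Module.finrank_zero_iff.mp h0

include hσk hσ in
theorem hY_zero (a : ℤ) (b : ℕ) (hab : a + 1 ≤ (b : ℤ)) : hY k x hx a b 0 = 0 := by
  have hF := Groth.Agent.Lib.helper28.TwistPn.isInvertible 2 k a
  rcases lt_or_ge a 0 with ha | ha
  · haveI : Subsingleton (Coh.HH (CohB1.ProjSpace 2 k) (CohB1.tensorMod
        (ClSub.idealMod (Scheme.IdealSheafData.vanishingIdeal ⟨{x}, hx⟩ ^ b))
        (Twist.twistProjSpace 2 k a)) 0) :=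
      subsingleton_HH_zero_idealMul _ _ hF
        (Groth.Agent.S0844.result k 2 a 0 (by omega) (by omega))
    exact finrank_zero_of_subsingleton
  · obtain ⟨c, rfl⟩ : ∃ c : ℕ, a = (c : ℤ) := ⟨a.toNat, by omega⟩
    have hle : Scheme.IdealSheafData.vanishingIdeal ⟨{x}, hx⟩ ^ b ≤
        Scheme.IdealSheafData.vanishingIdeal ⟨{x}, hx⟩ ^ (c + 1) :=
      pow_le_pow_right_of_le_one' (by rw [Scheme.IdealSheafData.one_eq_top]; exact le_top)
        (by omega)
    haveI : Subsingleton (Coh.HH (CohB1.ProjSpace 2 k) (CohB1.tensorMod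
        (ClSub.idealMod (Scheme.IdealSheafData.vanishingIdeal ⟨{x}, hx⟩ ^ b))
        (Twist.twistProjSpace 2 k (c : ℤ))) 0) :=
      subsingleton_HH_zero_of_le hle _ hF (subsingleton_H0_idealPow_succ_twist k x hx σ hσk hσ c)
    exact finrank_zero_of_subsingleton

include hσk hσ in
/-- **the cohomology of `aH − bE` on the blow-up of `P²_k` at a closed point** -/
theorem finrank_HH_blowup_plane_point (a : ℤ) (b : ℕ) :
    ((b : ℤ) ≤ a →
      (hX k x hx σ a b 0 : ℤ) = ((a + 2).toNat.choose 2 : ℤ) - ((b + 1).choose 2 : ℤ) ∧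
      hX k x hx σ a b 1 = 0 ∧ hX k x hx σ a b 2 = 0) ∧
    (a = (b : ℤ) - 1 →
      hX k x hx σ a b 0 = 0 ∧ hX k x hx σ a b 1 = 0 ∧ hX k x hx σ a b 2 = 0) ∧
    (a ≤ (b : ℤ) - 2 →
      hX k x hx σ a b 0 = 0 ∧
      (hX k x hx σ a b 1 : ℤ) = ((b + 1).choose 2 : ℤ) - ((a + 2).toNat.choose 2 : ℤ) ∧
      hX k x hx σ a b 2 = (-a - 1).toNat.choose 2) := by
  have he := euler_hX k x hx σ hσk hσ a b
  have e0 := hX_eq_hY k x hx σ hσk hσ a b 0
  have e1 := hX_eq_hY k x hx σ hσk hσ a b 1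
  have e2 := (hX_eq_hY k x hx σ hσk hσ a b 2).trans (hY_two k x hx a b)
  have hR := two_mul_choose_two (a + 2)
  refine ⟨fun hab => ?_, fun hab => ?_, fun hab => ?_⟩
  · -- `b ≤ a`
    have h1 : hX k x hx σ a b 1 = 0 := e1.trans (hY_one k x hx a b (by omega))
    have h2 : hX k x hx σ a b 2 = 0 := e2.trans (hO_zero_of k a 2 (by omega) (by omega))
    refine ⟨?_, h1, h2⟩
    rw [h1, h2] at he
    obtain ⟨c, rfl⟩ : ∃ c : ℕ, a = (c : ℤ) := ⟨a.toNat, by omega⟩
    have hc : (((c : ℤ) + 2).toNat.choose 2 : ℤ) = Ring.choose ((c : ℤ) + 2) 2 := by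
      have h3 : ((c : ℤ) + 2).toNat = c + 1 + 1 := by omega
      have h4 := two_mul_nat_choose_two (c + 1)
      rw [h3]
      push_cast at h4 ⊢
      nlinarith
    rw [hc]
    push_cast at he ⊢
    linarith
  · -- `a = b − 1`
    have h0 : hX k x hx σ a b 0 = 0 := e0.trans (hY_zero k x hx σ hσk hσ a b (by omega))
    have h1 : hX k x hx σ a b 1 = 0 := e1.trans (hY_one k x hx a b (by omega))
    have h2 : hX k x hx σ a b 2 = 0 := e2.trans (hO_zero_of k a 2 (by omega) (by omega))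
    exact ⟨h0, h1, h2⟩
  · -- `a ≤ b − 2`
    have h0 : hX k x hx σ a b 0 = 0 := e0.trans (hY_zero k x hx σ hσk hσ a b (by omega))
    rw [h0] at he
    refine ⟨h0, ?_, ?_⟩
    · rcases le_or_gt a (-3) with ha | ha
      · have h2 := hO_two_of_le k a ha
        rw [← e2] at h2
        have h3 : (a + 2).toNat = 0 := by omega
        rw [h3]
        push_cast at he ⊢
        simp only [Nat.choose_zero_succ, Nat.cast_zero, sub_zero]
        linarith
      · have h2 : hX k x hx σ a b 2 = 0 := e2.trans (hO_zero_of k a 2 (by omega) (by omega))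
        rw [h2] at he
        rcases lt_or_ge a 0 with ha0 | ha0
        · have h3 : ((a + 2).toNat.choose 2 : ℤ) = 0 := by
            have h4 : (a + 2).toNat = 0 ∨ (a + 2).toNat = 1 := by omega
            rcases h4 with h4 | h4 <;> rw [h4] <;> simp
          have h5 : Ring.choose (a + 2) 2 = 0 := by
            have h6 : a = -1 ∨ a = -2 := by omega
            have h7 : (a + 2) * (a + 2 - 1) = 0 := by
              rcases h6 with rfl | rfl <;> norm_num
            linarith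
          rw [h3]
          push_cast at he ⊢
          linarith
        · obtain ⟨c, rfl⟩ : ∃ c : ℕ, a = (c : ℤ) := ⟨a.toNat, by omega⟩
          have hc : (((c : ℤ) + 2).toNat.choose 2 : ℤ) = Ring.choose ((c : ℤ) + 2) 2 := by
            have h3 : ((c : ℤ) + 2).toNat = c + 1 + 1 := by omega
            have h4 := two_mul_nat_choose_two (c + 1)
            rw [h3]
            push_cast at h4 ⊢
            nlinarith
          rw [hc]
          push_cast at he ⊢
          linarith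
    · rcases le_or_gt a (-3) with ha | ha
      · have h2 := hO_two_of_le k a ha
        rw [← e2] at h2
        obtain ⟨m, hm⟩ : ∃ m : ℕ, -a - 1 = ((m + 1 : ℕ) : ℤ) := ⟨(-a - 2).toNat, by omega⟩
        have h4 := two_mul_nat_choose_two m
        have h5 : (-a - 1).toNat = m + 1 := by omega
        rw [h5]
        have h6 : (hX k x hx σ a b 2 : ℤ) = ((m + 1).choose 2 : ℤ) := by
          have h7 : a = -(m : ℤ) - 2 := by push_cast at hm; omega
          subst h7
          nlinarith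
        exact_mod_cast h6
      · have h2 : hX k x hx σ a b 2 = 0 := e2.trans (hO_zero_of k a 2 (by omega) (by omega))
        rw [h2]
        have h4 : (-a - 1).toNat = 0 ∨ (-a - 1).toNat = 1 := by omega
        rcases h4 with h4 | h4 <;> rw [h4] <;> simp

end Main

end Groth.Agent.Lib.helper28.BlowPts
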