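import Mathlib
import Groth.Agent.Lib.Helper28.BlowPtsI
import Groth.Agent.Lib.Helper12.GGExt

/-!
# Morphisms out of invertible modules and cohomology; cokernels of `O(−2e₀)^a ⟶ O(−e₀)^b` (helper28)

* `hom_unit_eq_zero`, `hom_eq_zero_of_H0`: `Hom(L, M) = 0` if `H⁰(M ⊗ L⁻¹) = 0`;
* `exists_lift_of_H1`: `Hom(L, B) → Hom(L, C)` is onto for `0 → A → B → C → 0` with `H¹(A ⊗ L⁻¹) = 0`;
* `hom_sigma_eq_zero`, `exists_lift_sigma`: the same for `Q ≅ L^b`;
* `nonempty_iso_cokernel_iff`: for monomorphisms `f, f' : P ⟶ Q` with `Hom(Q, P) = 0` and the lifting property,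
  `coker f ≅ coker f'` iff `f ≫ β = γ ≫ f'` for automorphisms `β, γ`;
* `subsingleton_HH_pullback`: `H^i(Y, F) = 0 ⇒ H^i(X, π^*F) = 0` for a blow-up along a regularly embedded centre.
-/

set_option autoImplicit false
set_option linter.unusedSectionVars false
set_option linter.style.haveILetI false
universe u
open CategoryTheory CategoryTheory.Limits AlgebraicGeometry Opposite TopologicalSpace
open Scheme.Modules

namespace Groth.Agent.Lib.helper28.BlowPts

open Groth.Agent.Lib.helper28.BlowUpDirect Groth.Agent.Lib.helper28.BlowUpDirectTwist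
  Groth.Agent.Lib.helper28.BlowUpTwistBase Groth.Agent.Lib.helper28.BlowUpPushPow
  Groth.Agent.Lib.Lead.ModTensor Groth.Agent.Lib.helper7 Groth.Agent.Lib.helper28.PnPoints
  Groth.Agent.Lib.helper11.IsoLocus Groth.Agent.Lib.Helper18
  Groth.Agent.Lib.Helper20.TwistEquivPn Groth.Agent.Lib.Helper20.TensorEquiv

section Abstract

variable {X : Scheme.{u}}

/-- a morphism `O ⟶ N` vanishes if `H⁰(N) = 0` -/
theorem hom_unit_eq_zero {N : X.Modules} (h : Subsingleton (Coh.HH X N 0))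
    (t : Coh.structureModule X ⟶ N) : t = 0 := by
  haveI : Subsingleton (N.val.obj (op ⊤)) := (HH.equiv₀ N).symm.toEquiv.subsingleton
  apply N.unitHomEquiv.injective
  refine PresheafOfModules.sections_ext _ _ (fun V => ?_)
  have h1 := PresheafOfModules.sections_property (N.unitHomEquiv t)
    (homOfLE (le_top : V.unop ≤ ⊤)).op
  have h2 := PresheafOfModules.sections_property (N.unitHomEquiv 0)
    (homOfLE (le_top : V.unop ≤ ⊤)).op
  have hss : Subsingleton ((N.val.presheaf ⋙ forget Ab).obj (op ⊤)) := this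
  have h3 : (N.unitHomEquiv t).val (op ⊤) = (N.unitHomEquiv 0).val (op ⊤) := Subsingleton.elim _ _
  exact h1.symm.trans ((congrArg _ h3).trans h2)

variable {L L' : X.Modules} (e : CohB1.tensorMod L L' ≅ Coh.structureModule X)

include e in
/-- `Hom(L, M) = 0` if `H⁰(M ⊗ L⁻¹) = 0` -/
theorem hom_eq_zero_of_H0 (M : X.Modules) (h : Subsingleton (Coh.HH X (CohB1.tensorMod M L') 0))
    (g : L ⟶ M) : g = 0 := by
  haveI := isEquivalence_tensorRight (braid L' L ≪≫ e)
  haveI := preservesZeroMorphisms_tensorRight (braid L' L ≪≫ e)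
  have h1 : e.inv ≫ tensorMap g (𝟙 L') = 0 := hom_unit_eq_zero h _
  have h2 : tensorMap g (𝟙 L') = 0 := by rw [← cancel_epi e.inv, h1, comp_zero]
  apply (tensorRight L').map_injective
  exact h2.trans ((tensorRight L').map_zero _ _).symm

include e in
/-- `Hom(L, B) → Hom(L, C)` is onto if `H¹(A ⊗ L⁻¹) = 0` -/
theorem exists_lift_of_H1 {S : ShortComplex X.Modules} (hS : S.ShortExact)
    (h : Subsingleton (Coh.HH X (CohB1.tensorMod S.X₁ L') 1)) (g : L ⟶ S.X₃) :
    ∃ g' : L ⟶ S.X₂, g' ≫ S.g = g := by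
  have e' : CohB1.tensorMod L' L ≅ Coh.structureModule X := braid L' L ≪≫ e
  haveI := isEquivalence_tensorRight e'
  have hS' := shortExact_mapSC e' hS
  have hsurj := Groth.Agent.Lib.helper12.GGExt.surjective_app_top_of_H1 hS' h
  obtain ⟨u, hu⟩ := Groth.Agent.Lib.helper12.GGExt.exists_lift_unit (tensorMap S.g (𝟙 L')) hsurj
    (e.inv ≫ tensorMap g (𝟙 L'))
  obtain ⟨v, hv⟩ : ∃ v : CohB1.tensorMod L L' ⟶ CohB1.tensorMod S.X₂ L', v = e.hom ≫ u := ⟨_, rfl⟩
  have hv2 : v ≫ tensorMap S.g (𝟙 L') = tensorMap g (𝟙 L') := by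
    rw [hv, Category.assoc, hu, Iso.hom_inv_id_assoc]
  refine ⟨(tensorRight L').preimage v, ?_⟩
  apply (tensorRight L').map_injective
  rw [Functor.map_comp, Functor.map_preimage]
  exact hv2

include e in
/-- `Hom(Q, M) = 0` for `Q ≅ L^b` if `H⁰(M ⊗ L⁻¹) = 0` -/
theorem hom_sigma_eq_zero (b : ℕ) (Q : X.Modules) (eQ : Q ≅ ∐ fun _ : Fin b => L) (M : X.Modules)
    (h : Subsingleton (Coh.HH X (CohB1.tensorMod M L') 0)) (g : Q ⟶ M) : g = 0 := by
  rw [← cancel_epi eQ.inv, comp_zero]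
  apply Sigma.hom_ext
  intro j
  rw [comp_zero]
  exact hom_eq_zero_of_H0 e M h _

include e in
/-- lifting morphisms out of `Q ≅ L^b` -/
theorem exists_lift_sigma (b : ℕ) (Q : X.Modules) (eQ : Q ≅ ∐ fun _ : Fin b => L)
    {S : ShortComplex X.Modules} (hS : S.ShortExact)
    (h : Subsingleton (Coh.HH X (CohB1.tensorMod S.X₁ L') 1)) (g : Q ⟶ S.X₃) :
    ∃ g' : Q ⟶ S.X₂, g' ≫ S.g = g := by
  choose w hw using fun j : Fin b =>
    exists_lift_of_H1 e hS h (Sigma.ι (fun _ : Fin b => L) j ≫ eQ.inv ≫ g)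
  refine ⟨eQ.hom ≫ Sigma.desc w, ?_⟩
  rw [← cancel_epi eQ.inv, Category.assoc, Iso.inv_hom_id_assoc]
  apply Sigma.hom_ext
  intro j
  rw [Sigma.ι_desc_assoc, hw]

end Abstract

section Cokernel

variable {C : Type*} [Category C] [Abelian C]

/-- for monomorphisms `f, f' : P ⟶ Q` such that `Hom(Q, P) = 0` and morphisms `Q ⟶ coker` lift to `Q`:
`coker f ≅ coker f'` iff `f` and `f'` are conjugate under `Aut Q × Aut P` -/
theorem nonempty_iso_cokernel_iff {P Q : C} (f f' : P ⟶ Q) [Mono f] [Mono f']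
    (h0 : ∀ g : Q ⟶ P, g = 0)
    (hlift : ∀ g : Q ⟶ cokernel f, ∃ g' : Q ⟶ Q, g' ≫ cokernel.π f = g)
    (hlift' : ∀ g : Q ⟶ cokernel f', ∃ g' : Q ⟶ Q, g' ≫ cokernel.π f' = g) :
    Nonempty (cokernel f ≅ cokernel f') ↔
      ∃ (β : Q ≅ Q) (γ : P ≅ P), f ≫ β.hom = γ.hom ≫ f' := by
  constructor
  · rintro ⟨φ⟩
    obtain ⟨β₀, hβ₀⟩ := hlift' (cokernel.π f ≫ φ.hom)
    obtain ⟨β₁, hβ₁⟩ := hlift (cokernel.π f' ≫ φ.inv)
    -- a morphism `Q ⟶ Q` killed by the projection to the cokernel vanishes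
    have hker : ∀ (f₀ : P ⟶ Q) [Mono f₀] (u : Q ⟶ Q), u ≫ cokernel.π f₀ = 0 → u = 0 := by
      intro f₀ _ u hu
      have hk := Abelian.monoIsKernelOfCokernel _ (cokernelIsCokernel f₀)
      obtain ⟨l, hl⟩ := KernelFork.IsLimit.lift' hk u hu
      have hl' : l ≫ f₀ = u := hl
      rw [← hl', h0 l, zero_comp]
    have h01 : β₀ ≫ β₁ = 𝟙 Q := by
      have := hker f (β₀ ≫ β₁ - 𝟙 Q) (by
        rw [Preadditive.sub_comp, Category.assoc, hβ₁, ← Category.assoc, hβ₀, Category.assoc,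
          Iso.hom_inv_id, Category.comp_id, Category.id_comp, sub_self])
      exact sub_eq_zero.mp this
    have h10 : β₁ ≫ β₀ = 𝟙 Q := by
      have := hker f' (β₁ ≫ β₀ - 𝟙 Q) (by
        rw [Preadditive.sub_comp, Category.assoc, hβ₀, ← Category.assoc, hβ₁, Category.assoc,
          Iso.inv_hom_id, Category.comp_id, Category.id_comp, sub_self])
      exact sub_eq_zero.mp this
    -- the induced maps on `P`
    have hk := Abelian.monoIsKernelOfCokernel _ (cokernelIsCokernel f)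
    have hk' := Abelian.monoIsKernelOfCokernel _ (cokernelIsCokernel f')
    have z₀ : (f ≫ β₀) ≫ cokernel.π f' = 0 := by
      rw [Category.assoc, hβ₀, ← Category.assoc, cokernel.condition, zero_comp]
    have z₁ : (f' ≫ β₁) ≫ cokernel.π f = 0 := by
      rw [Category.assoc, hβ₁, ← Category.assoc, cokernel.condition, zero_comp]
    obtain ⟨γ₀, hγ₀'⟩ := KernelFork.IsLimit.lift' hk' (f ≫ β₀) z₀
    obtain ⟨γ₁, hγ₁'⟩ := KernelFork.IsLimit.lift' hk (f' ≫ β₁) z₁
    have hγ₀ : γ₀ ≫ f' = f ≫ β₀ := hγ₀'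
    have hγ₁ : γ₁ ≫ f = f' ≫ β₁ := hγ₁'
    refine ⟨⟨β₀, β₁, h01, h10⟩, ⟨γ₀, γ₁, ?_, ?_⟩, hγ₀.symm⟩
    · rw [← cancel_mono f, Category.assoc, hγ₁, ← Category.assoc, hγ₀, Category.assoc, h01,
        Category.comp_id, Category.id_comp]
    · rw [← cancel_mono f', Category.assoc, hγ₀, ← Category.assoc, hγ₁, Category.assoc, h10,
        Category.comp_id, Category.id_comp]
  · rintro ⟨β, γ, h⟩
    exact ⟨cokernel.mapIso f f' γ β h⟩

end Cokernel

section Blow

variable {X Y : Scheme.{u}}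

/-- **`H^i(Y, F) = 0 ⇒ H^i(X, π^*F) = 0`** for a blow-up along a regularly embedded centre -/
theorem subsingleton_HH_pullback (π : X ⟶ Y) (𝓘 : Y.IdealSheafData)
    (hπ : BlowUp.IsBlowUp π 𝓘) (hgood : ∀ y : Y, GoodAt 𝓘 y) (F : Y.Modules)
    (hF : PicF.IsInvertible F) (i : ℕ) (hFi : Subsingleton (Coh.HH Y F i)) :
    Subsingleton (Coh.HH X ((Scheme.Modules.pullback π).obj F) i) := by
  have hR : ∀ p : ℕ, 0 < p → IsZero ((Coh.RpushAb π p).obj (Coh.toAb
      ((Scheme.Modules.pullback π).obj F))) := fun p hp =>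
    isZero_RpushAb_of_iso π (rightUnitor _).symm p
      (isZero_RpushAb_pullback_tensorPow π 𝓘 hπ hgood _ hF 0 p hp)
  refine (Groth.Agent.Lib.Lead.HHPushGen.pushEquivAdd π _ hR i).toEquiv.subsingleton_congr.mp ?_
  have hiso := Groth.Agent.Lib.helper28.BlowUpPushPow.isIso_unitToPush π _ hπ hgood
  have hFlf : FlatMod.IsFinLocFree F :=
    Groth.Agent.Lib.helper16.FLF.isFinLocFree_of_isInvertible hF
  exact (Groth.Agent.Lib.Helper18.P1Euler.hhEquivOfIso (pushPullIso π hiso F hFlf)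
    i).subsingleton_congr.mpr hFi

end Blow

end Groth.Agent.Lib.helper28.BlowPts
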