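import Mathlib
import Groth.Agent.Lib.Helper28.BlowPtsL

/-!
# Cokernels of `O(−2e₀)^a ⟶ O(−e₀)^b` on a blow-up of `P^n` at closed points: isomorphism classes (helper28)

`nonempty_iso_cokernel_blowup_iff`: `coker f ≅ coker f'` iff `f ≫ β = γ ≫ f'` for automorphisms `β` of `Q`, `γ` of `P`.
-/

set_option autoImplicit false
set_option linter.unusedSectionVars false
set_option linter.style.haveILetI false
universe u
open CategoryTheory CategoryTheory.Limits AlgebraicGeometry Opposite TopologicalSpace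
open Scheme.Modules

namespace Groth.Agent.Lib.helper28.BlowPts

open Groth.Agent.Lib.helper28.BlowUpDirect Groth.Agent.Lib.helper28.BlowUpDirectTwist
  Groth.Agent.Lib.helper28.BlowUpTwistBase Groth.Agent.Lib.helper28.BlowUpPushPow
  Groth.Agent.Lib.Lead.ModTensor Groth.Agent.Lib.helper7 Groth.Agent.Lib.helper28.PnPoints
  Groth.Agent.Lib.helper11.IsoLocus Groth.Agent.Lib.Helper18
  Groth.Agent.Lib.Helper20.TwistEquivPn Groth.Agent.Lib.Helper20.TensorEquiv

variable (k : Type u) [Field k] (n : ℕ) {X : Scheme.{u}} (π : X ⟶ CohB1.ProjSpace n k)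

/-- `π^*O(a) ⊗ π^*O(b) ≅ π^*O(c)` for `a + b = c` -/
noncomputable def pullTwistAdd' (a b c : ℤ) (h : a + b = c) :
    CohB1.tensorMod ((Scheme.Modules.pullback π).obj (Twist.twistProjSpace n k a))
      ((Scheme.Modules.pullback π).obj (Twist.twistProjSpace n k b)) ≅
      (Scheme.Modules.pullback π).obj (Twist.twistProjSpace n k c) :=
  pullTwistAdd k n π a b ≪≫ (Scheme.Modules.pullback π).mapIso (twistCongr n k h)

/-- `π^*O(a) ⊗ π^*O(−a) ≅ O_X` -/
noncomputable def pullTwistInv (a b : ℤ) (h : a + b = 0) :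
    CohB1.tensorMod ((Scheme.Modules.pullback π).obj (Twist.twistProjSpace n k a))
      ((Scheme.Modules.pullback π).obj (Twist.twistProjSpace n k b)) ≅ Coh.structureModule X :=
  pullTwistAdd' k n π a b 0 h ≪≫
    (Scheme.Modules.pullback π).mapIso (Groth.Agent.Lib.helper28.TwistPn.zeroIso n k).symm ≪≫
    Groth.Agent.Lib.helper11.InvMod.pullbackUnitIso π

variable [IsAlgClosed k] (s : ℕ) (P : Fin s → ↥(CohB1.ProjSpace n k))
  (hPc : ∀ i, IsClosed ({P i} : Set ↥(CohB1.ProjSpace n k))) (hZ : IsClosed (Set.range P))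
  (hπ : BlowUp.IsBlowUp π (Scheme.IdealSheafData.vanishingIdeal ⟨Set.range P, hZ⟩))

include hPc hπ in
/-- **`coker f ≅ coker f'` iff `f`, `f'` are conjugate** -/
theorem nonempty_iso_cokernel_blowup_iff (hn : 2 ≤ n) (a b : ℕ) (P₁ Q₁ : X.Modules)
    (hP₁ : Nonempty (P₁ ≅ ∐ fun _ : Fin a =>
      (Scheme.Modules.pullback π).obj (Twist.twistProjSpace n k (-2))))
    (hQ₁ : Nonempty (Q₁ ≅ ∐ fun _ : Fin b =>
      (Scheme.Modules.pullback π).obj (Twist.twistProjSpace n k (-1))))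
    (f f' : P₁ ⟶ Q₁) [Mono f] [Mono f'] :
    Nonempty (cokernel f ≅ cokernel f') ↔
      ∃ (β : Q₁ ≅ Q₁) (γ : P₁ ≅ P₁), f ≫ β.hom = γ.hom ≫ f' := by
  haveI hLN : IsLocallyNoetherian (CohB1.ProjSpace n k) :=
    Groth.Agent.Lib.Lead.SerreFin.isLocallyNoetherian_projSpace n k
  have hcl : ∀ z ∈ (⟨Set.range P, hZ⟩ : Closeds ↥(CohB1.ProjSpace n k)),
      IsClosed ({z} : Set ↥(CohB1.ProjSpace n k)) := fun z hz => by
    obtain ⟨t, rfl⟩ := hz
    exact hPc t
  have hgood : ∀ y, GoodAt (Scheme.IdealSheafData.vanishingIdeal ⟨Set.range P, hZ⟩) y := fun y =>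
    (goodAt2_projSpace n hn ⟨Set.range P, hZ⟩ (Set.finite_range P) hcl y).goodAt
  obtain ⟨eQ⟩ := hQ₁
  -- `L = π^*O(−1)`, `L' = π^*O(1)`
  have e := pullTwistInv k n π (-1) 1 (by norm_num)
  have e' := pullTwistInv k n π 1 (-1) (by norm_num)
  -- cohomology of `π^*O(−2) ⊗ π^*O(1) ≅ π^*O(−1)`
  have hH : ∀ i : ℕ, i ≤ 1 → Subsingleton (Coh.HH X (CohB1.tensorMod
      ((Scheme.Modules.pullback π).obj (Twist.twistProjSpace n k (-2)))
      ((Scheme.Modules.pullback π).obj (Twist.twistProjSpace n k 1))) i) := fun i hi =>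
    subsingleton_of_iso (pullTwistAdd' k n π (-2) 1 (-1) (by norm_num)).symm i
      (subsingleton_HH_pullback π _ hπ hgood _
        (Groth.Agent.Lib.helper28.TwistPn.isInvertible n k (-1)) i
        (Groth.Agent.S0844.result k n (-1) i (by omega) (by omega)))
  have hP : ∀ i : ℕ, i ≤ 1 → Subsingleton (Coh.HH X (CohB1.tensorMod P₁
      ((Scheme.Modules.pullback π).obj (Twist.twistProjSpace n k 1))) i) := fun i hi =>
    subsingleton_HH_sigma_tensor e' a P₁ hP₁ i (hH i hi)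
  have hS : ∀ (f₀ : P₁ ⟶ Q₁) [Mono f₀],
      (ShortComplex.mk f₀ (cokernel.π f₀) (cokernel.condition f₀)).ShortExact := fun f₀ _ =>
    ShortComplex.ShortExact.mk' (ShortComplex.exact_of_g_is_cokernel _ (cokernelIsCokernel f₀))
      inferInstance inferInstance
  exact nonempty_iso_cokernel_iff f f'
    (fun g => hom_sigma_eq_zero e b Q₁ eQ P₁ (hP 0 (by omega)) g)
    (fun g => exists_lift_sigma e b Q₁ eQ (hS f) (hP 1 le_rfl) g)
    (fun g => exists_lift_sigma e b Q₁ eQ (hS f') (hP 1 le_rfl) g)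

end Groth.Agent.Lib.helper28.BlowPts
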