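import Mathlib
import Groth.Prelude.Def_W4c1nerontoraddGraph

/-!
Mod-2 "joins" in the labelled multigraphs of `LabGraph` (helper28).
* `SAdj`, `SConn`: adjacency / connectivity through the edges of a finite edge set `S`.
* `IsJoin P a b`: the odd-degree vertices of `P` are exactly `a` and `b` (mod 2 formulation).
* `exists_join`: connected through `S` ⇒ some join `P ⊆ S`.
* `circuit_of_min_join`: a minimal `(ends e0).1–(ends e0).2` join in `S` plus `e0 ∉ S` is a circuit.
* `conn_of_join`: a join between distinct vertices connects them (handshake lemma).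
* `const_of_conn`: a function with equal values across the edges of `P` is constant on `P`-connected pieces.
-/

set_option autoImplicit false
universe u
namespace Groth.Agent.Lib.helper28.GJ
open LabGraph

variable {V E : Type u} [Fintype V] [Fintype E] [DecidableEq V] [DecidableEq E]

/-- adjacency through an edge of `S` -/
def SAdj (ends : E → V × V) (S : Finset E) (v w : V) : Prop :=
  ∃ e ∈ S, ends e = (v, w) ∨ ends e = (w, v)

lemma sAdj_symm (ends : E → V × V) (S : Finset E) {v w : V} (h : SAdj ends S v w) :
    SAdj ends S w v := by
  obtain ⟨e, he, h⟩ := h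
  exact ⟨e, he, h.symm⟩

/-- connected through edges of `S` -/
def SConn (ends : E → V × V) (S : Finset E) : V → V → Prop := Relation.ReflTransGen (SAdj ends S)

lemma sConn_symm (ends : E → V × V) (S : Finset E) {a b : V} (h : SConn ends S a b) :
    SConn ends S b a := by
  induction h with
  | refl => exact Relation.ReflTransGen.refl
  | tail _ hcd ih => exact Relation.ReflTransGen.head (sAdj_symm ends S hcd) ih

lemma sConn_edge (ends : E → V × V) (S : Finset E) {e : E} (he : e ∈ S) :
    SConn ends S (ends e).1 (ends e).2 :=
  Relation.ReflTransGen.single ⟨e, he, Or.inl rfl⟩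

lemma sConn_iff_edge (ends : E → V × V) (S : Finset E) {e : E} (he : e ∈ S) (a : V) :
    SConn ends S a (ends e).1 ↔ SConn ends S a (ends e).2 :=
  ⟨fun h => h.trans (sConn_edge ends S he),
   fun h => h.trans (sConn_symm ends S (sConn_edge ends S he))⟩

/-- vertex indicator in `ZMod 2` -/
def dl (a v : V) : ZMod 2 := if v = a then 1 else 0

/-- number of ends of the edge `e` at `v` -/
def ec (ends : E → V × V) (e : E) (v : V) : ℕ :=
  (if (ends e).1 = v then 1 else 0) + (if (ends e).2 = v then 1 else 0)

lemma endCount_eq (ends : E → V × V) (C : Finset E) (v : V) :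
    endCount ends C v = ∑ e ∈ C, ec ends e v := rfl

lemma ec_cast (ends : E → V × V) (e : E) (v : V) :
    (ec ends e v : ZMod 2) = dl (ends e).1 v + dl (ends e).2 v := by
  unfold ec dl
  push_cast
  congr 1
  · by_cases h : (ends e).1 = v
    · simp [h]
    · simp [h, Ne.symm h]
  · by_cases h : (ends e).2 = v
    · simp [h]
    · simp [h, Ne.symm h]

lemma two_zero : (2 : ZMod 2) = 0 := by decide

/-- `P` has odd degree exactly at `a` and `b` (and nowhere if `a = b`). -/
def IsJoin (ends : E → V × V) (P : Finset E) (a b : V) : Prop :=
  ∀ v, (endCount ends P v : ZMod 2) = dl a v + dl b v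

lemma exists_join (ends : E → V × V) {S : Finset E} {a b : V} (h : SConn ends S a b) :
    ∃ P ⊆ S, IsJoin ends P a b := by
  induction h with
  | refl =>
    refine ⟨∅, Finset.empty_subset _, fun v => ?_⟩
    simp only [endCount_eq, Finset.sum_empty, Nat.cast_zero]
    linear_combination (-(dl a v)) * two_zero
  | @tail c d hac hcd ih =>
    obtain ⟨P, hPS, hP⟩ := ih
    obtain ⟨e, heS, he⟩ := hcd
    have hec : ∀ v, (ec ends e v : ZMod 2) = dl c v + dl d v := by
      intro v
      rw [ec_cast]
      rcases he with he | he <;> rw [he]
      exact add_comm _ _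
    by_cases heP : e ∈ P
    · refine ⟨P.erase e, (Finset.erase_subset _ _).trans hPS, fun v => ?_⟩
      have h1 := hP v
      rw [endCount_eq, ← Finset.add_sum_erase _ _ heP] at h1
      push_cast at h1
      rw [endCount_eq]
      push_cast
      linear_combination h1 - hec v - (dl d v) * two_zero + 0 * two_zero
        + (dl c v) * two_zero - (dl c v) * two_zero
    · refine ⟨insert e P, Finset.insert_subset heS hPS, fun v => ?_⟩
      have h1 := hP v
      rw [endCount_eq] at h1
      push_cast at h1
      rw [endCount_eq, Finset.sum_insert heP]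
      push_cast
      rw [h1, hec]
      linear_combination (dl c v) * two_zero

lemma circuit_of_min_join (ends : E → V × V) {S : Finset E} {e0 : E} (he0 : e0 ∉ S) {P : Finset E}
    (hPS : P ⊆ S) (hP : IsJoin ends P (ends e0).1 (ends e0).2)
    (hmin : ∀ Q ⊆ S, IsJoin ends Q (ends e0).1 (ends e0).2 → P.card ≤ Q.card) :
    IsCircuit ends (insert e0 P) := by
  have he0P : e0 ∉ P := fun h => he0 (hPS h)
  refine ⟨Finset.insert_nonempty _ _, fun v => ?_, fun C' hC' hne => ?_⟩
  · rw [← ZMod.natCast_eq_zero_iff_even, endCount_eq, Finset.sum_insert he0P]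
    push_cast
    rw [ec_cast]
    have h1 := hP v
    rw [endCount_eq] at h1
    push_cast at h1
    rw [h1]
    linear_combination (dl (ends e0).1 v + dl (ends e0).2 v) * two_zero
  · by_contra hcon
    have heven : ∀ v, (endCount ends C' v : ZMod 2) = 0 := fun v => by
      have h1 := not_exists.1 hcon v
      rw [not_not] at h1
      exact ZMod.natCast_eq_zero_iff_even.2 h1
    by_cases hin : e0 ∈ C'
    · have hQP : C'.erase e0 ⊆ P := by
        intro x hx
        rcases Finset.mem_insert.1 (hC'.1 (Finset.mem_of_mem_erase hx)) with h | h
        · exact absurd h (Finset.ne_of_mem_erase hx)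
        · exact h
      have hQ : IsJoin ends (C'.erase e0) (ends e0).1 (ends e0).2 := by
        intro v
        have h1 := heven v
        rw [endCount_eq, ← Finset.add_sum_erase _ _ hin] at h1
        push_cast at h1
        rw [ec_cast] at h1
        rw [endCount_eq]
        push_cast
        linear_combination h1 - (dl (ends e0).1 v + dl (ends e0).2 v) * two_zero
      have hcard := hmin _ (hQP.trans hPS) hQ
      have heq : C'.erase e0 = P := Finset.eq_of_subset_of_card_le hQP hcard
      have h2 : insert e0 P ⊆ C' := by
        rw [← heq, Finset.insert_erase hin]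
      exact hC'.2 h2
    · have hC'P : C' ⊆ P := by
        intro x hx
        rcases Finset.mem_insert.1 (hC'.1 hx) with h | h
        · exact absurd (h ▸ hx) hin
        · exact h
      have hQ : IsJoin ends (P \ C') (ends e0).1 (ends e0).2 := by
        intro v
        have h1 := hP v
        have h2 := heven v
        rw [endCount_eq] at h1 h2
        rw [← Finset.sum_sdiff hC'P] at h1
        push_cast at h1 h2
        rw [endCount_eq]
        push_cast
        linear_combination h1 - h2
      have hcard := hmin _ (Finset.sdiff_subset.trans hPS) hQ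
      have hlt : (P \ C').card < P.card := Finset.card_lt_card (Finset.sdiff_ssubset hC'P hne)
      omega

lemma conn_of_join (ends : E → V × V) {P : Finset E} {a b : V} (hab : a ≠ b)
    (hP : IsJoin ends P a b) : SConn ends P a b := by
  classical
  by_contra hnot
  set K : Finset V := Finset.univ.filter (fun v => SConn ends P a v) with hK
  have haK : a ∈ K := by simp [hK, SConn, Relation.ReflTransGen.refl]
  have hbK : b ∉ K := by simp [hK, hnot]
  have hsum : ∑ v ∈ K, (endCount ends P v : ZMod 2) = 0 := by
    simp only [endCount_eq]
    push_cast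
    rw [Finset.sum_comm]
    apply Finset.sum_eq_zero
    intro e he
    simp only [ec_cast, dl, Finset.sum_add_distrib, Finset.sum_ite_eq']
    have hiff : (ends e).1 ∈ K ↔ (ends e).2 ∈ K := by
      simp only [hK, Finset.mem_filter, Finset.mem_univ, true_and]
      exact sConn_iff_edge ends P he a
    by_cases h1 : (ends e).1 ∈ K
    · rw [if_pos h1, if_pos (hiff.1 h1)]
      exact (by decide : (1 : ZMod 2) + 1 = 0)
    · rw [if_neg h1, if_neg (fun h => h1 (hiff.2 h))]
      exact add_zero _
  have hsum2 : ∑ v ∈ K, (dl a v + dl b v) = 1 := by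
    simp only [dl, Finset.sum_add_distrib, Finset.sum_ite_eq', haK, hbK, if_true, if_false, add_zero]
  rw [Finset.sum_congr rfl (fun v _ => hP v), hsum2] at hsum
  exact one_ne_zero hsum

lemma const_of_conn (ends : E → V × V) {P : Finset E} {h : V → ℤ}
    (hz : ∀ e ∈ P, h (ends e).1 = h (ends e).2) {a b : V} (hc : SConn ends P a b) : h a = h b := by
  induction hc with
  | refl => rfl
  | tail _ hcd ih =>
    obtain ⟨e, he, h'⟩ := hcd
    rw [ih]
    have h1 := hz e he
    rcases h' with h' | h' <;> rw [h'] at h1
    · exact h1
    · exact h1.symm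

end Groth.Agent.Lib.helper28.GJ
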