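import Mathlib
import Groth.Agent.Lib.Helper28.GraphJoin

/-!
More multigraph lemmas on top of `GraphJoin` (helper28):
* `exists_circuit_of_conn`: if the endpoints of `e0 ∉ S` are connected through `S`, some circuit
  `insert e0 P` with `P ⊆ S` exists.
* `forest_potential`: on an edge set containing no circuit every integer edge vector is a
  coboundary `g (ends e).1 - g (ends e).2`.
* `exists_flow`, `exists_cycle_of_circuit`: a circuit carries an integer cycle with entries `±1`
  (and `1` at a chosen edge).
* `sum_mul_dg`: coboundaries are orthogonal to cycles.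
* `sol`: CRT induction: if for every prime `p` the edges with `p ∣ l e` contain no circuit, then every
  integer edge vector is a coboundary modulo `l`.
-/

set_option autoImplicit false
universe u
namespace Groth.Agent.Lib.helper28.GJ
open LabGraph

variable {V E : Type u} [Fintype V] [Fintype E] [DecidableEq V] [DecidableEq E]

lemma exists_circuit_of_conn (ends : E → V × V) {S : Finset E} {e0 : E} (he0 : e0 ∉ S)
    (hc : SConn ends S (ends e0).1 (ends e0).2) :
    ∃ P ⊆ S, IsCircuit ends (insert e0 P) := by
  classical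
  obtain ⟨P0, hP0S, hP0⟩ := exists_join ends hc
  let J : Finset (Finset E) :=
    S.powerset.filter (fun Q => IsJoin ends Q (ends e0).1 (ends e0).2)
  have hJ : J.Nonempty := ⟨P0, by simp [J, hP0S, hP0]⟩
  obtain ⟨P, hPJ, hPmin⟩ := Finset.exists_min_image J Finset.card hJ
  have hPS : P ⊆ S := Finset.mem_powerset.1 (Finset.mem_filter.1 hPJ).1
  have hP : IsJoin ends P (ends e0).1 (ends e0).2 := (Finset.mem_filter.1 hPJ).2
  exact ⟨P, hPS, circuit_of_min_join ends he0 hPS hP
    (fun Q hQS hQ => hPmin Q (by simp [J, hQS, hQ]))⟩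

lemma forest_potential (ends : E → V × V) (F : Finset E)
    (hF : ∀ C : Finset E, C ⊆ F → ¬ IsCircuit ends C) (x : E → ℤ) :
    ∃ g : V → ℤ, ∀ e ∈ F, g (ends e).1 - g (ends e).2 = x e := by
  classical
  suffices h : ∀ S : Finset E, S ⊆ F → ∃ g : V → ℤ, ∀ e ∈ S, g (ends e).1 - g (ends e).2 = x e from
    h F subset_rfl
  intro S
  induction S using Finset.induction_on with
  | empty => intro _; exact ⟨0, fun e he => absurd he (Finset.notMem_empty e)⟩
  | insert e0 S he0 ih =>
    intro hS
    obtain ⟨g, hg⟩ := ih ((Finset.subset_insert _ _).trans hS)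
    by_cases hc : SConn ends S (ends e0).1 (ends e0).2
    · exfalso
      obtain ⟨P, hPS, hcirc⟩ := exists_circuit_of_conn ends he0 hc
      exact hF _ ((Finset.insert_subset_insert _ hPS).trans hS) hcirc
    · refine ⟨fun v => g v + if SConn ends S (ends e0).2 v then
        (g (ends e0).1 - g (ends e0).2 - x e0) else 0, fun e he => ?_⟩
      rcases Finset.mem_insert.1 he with h0 | h
      · rw [h0]
        have h1 : ¬ SConn ends S (ends e0).2 (ends e0).1 := fun h => hc (sConn_symm ends S h)
        have h2 : SConn ends S (ends e0).2 (ends e0).2 := Relation.ReflTransGen.refl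
        simp only [if_neg h1, if_pos h2]
        ring
      · have hiff := sConn_iff_edge ends S h (ends e0).2
        by_cases h1 : SConn ends S (ends e0).2 (ends e).1
        · simp only [if_pos h1, if_pos (hiff.1 h1)]
          rw [← hg e h]; ring
        · simp only [if_neg h1, if_neg (fun h' => h1 (hiff.2 h'))]
          rw [← hg e h]; ring

/-- coboundaries are orthogonal to cycles -/
lemma sum_mul_dg (ends : E → V × V) (γ : E → ℤ) (hγ : ∀ v, boundary ends γ v = 0) (g : V → ℤ) :
    ∑ e, γ e * (g (ends e).1 - g (ends e).2) = 0 := by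
  have h1 : ∑ v, g v * boundary ends γ v = 0 := by
    simp [hγ]
  have h2 : ∑ v, g v * boundary ends γ v = ∑ e, γ e * (g (ends e).2 - g (ends e).1) := by
    simp only [boundary, Finset.mul_sum]
    rw [Finset.sum_comm]
    refine Finset.sum_congr rfl fun e _ => ?_
    simp only [mul_sub, mul_ite, mul_zero, Finset.sum_sub_distrib, Finset.sum_ite_eq,
      Finset.mem_univ, if_true]
    ring
  rw [h2] at h1
  have h3 : ∑ e, γ e * (g (ends e).1 - g (ends e).2) =
      -∑ e, γ e * (g (ends e).2 - g (ends e).1) := by
    rw [← Finset.sum_neg_distrib]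
    refine Finset.sum_congr rfl fun e _ => ?_
    ring
  rw [h3, h1, neg_zero]

/-- minimal join -/
def IsMinJoin (ends : E → V × V) (P : Finset E) (a b : V) : Prop :=
  IsJoin ends P a b ∧ ∀ Q ⊆ P, IsJoin ends Q a b → Q = P

lemma boundary_add (ends : E → V × V) (γ γ' : E → ℤ) (v : V) :
    boundary ends (γ + γ') v = boundary ends γ v + boundary ends γ' v := by
  simp only [boundary, Pi.add_apply, ← Finset.sum_add_distrib]
  refine Finset.sum_congr rfl fun e _ => ?_
  split_ifs <;> ring

lemma boundary_single (ends : E → V × V) (e1 : E) (s : ℤ) (v : V) :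
    boundary ends (Pi.single e1 s) v =
      (if (ends e1).2 = v then s else 0) - (if (ends e1).1 = v then s else 0) := by
  simp only [boundary]
  rw [Finset.sum_eq_single e1]
  · simp
  · intro e _ he
    simp [Pi.single_apply, he]
  · intro h; exact absurd (Finset.mem_univ _) h

lemma exists_flow (ends : E → V × V) : ∀ (n : ℕ) (P : Finset E) (a b : V), P.card = n →
    IsMinJoin ends P a b →
    ∃ γ : E → ℤ, (∀ e, e ∉ P → γ e = 0) ∧ (∀ e ∈ P, γ e = 1 ∨ γ e = -1) ∧
      ∀ v, boundary ends γ v = (if v = b then 1 else 0) - (if v = a then 1 else 0) := by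
  intro n
  induction n with
  | zero =>
    intro P a b hcard hmin
    have hP : P = ∅ := Finset.card_eq_zero.1 hcard
    subst hP
    have hab : a = b := by
      have h1 := hmin.1 a
      simp only [endCount_eq, Finset.sum_empty, Nat.cast_zero, dl, if_true] at h1
      by_contra hne
      rw [if_neg hne, add_zero] at h1
      exact zero_ne_one h1
    subst hab
    refine ⟨0, fun _ _ => rfl, fun e he => absurd he (Finset.notMem_empty e), fun v => ?_⟩
    simp [boundary]
  | succ n ih =>
    intro P a b hcard hmin
    have hab : a ≠ b := by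
      intro hab
      subst hab
      have h0 : IsJoin ends (∅ : Finset E) a a := by
        intro v
        simp only [endCount_eq, Finset.sum_empty, Nat.cast_zero]
        linear_combination (-(dl a v)) * two_zero
      have := hmin.2 ∅ (Finset.empty_subset _) h0
      rw [← this] at hcard
      simp at hcard
    -- an edge at a
    have hodd : (endCount ends P a : ZMod 2) = 1 := by
      rw [hmin.1 a]
      simp [dl, hab]
    have hex : ∃ e1 ∈ P, (ends e1).1 = a ∨ (ends e1).2 = a := by
      by_contra hcon
      have h0 : endCount ends P a = 0 := by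
        rw [endCount_eq]
        apply Finset.sum_eq_zero
        intro e he
        have h1 : ¬ ((ends e).1 = a ∨ (ends e).2 = a) := fun h => hcon ⟨e, he, h⟩
        rw [not_or] at h1
        simp [ec, h1.1, h1.2]
      rw [h0] at hodd
      simp at hodd
    obtain ⟨e1, he1P, he1a⟩ := hex
    set a' : V := if (ends e1).1 = a then (ends e1).2 else (ends e1).1 with ha'
    have hec : ∀ v, (ec ends e1 v : ZMod 2) = dl a v + dl a' v := by
      intro v
      rw [ec_cast]
      by_cases h1 : (ends e1).1 = a
      · rw [ha', if_pos h1, h1]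
      · have h2 : (ends e1).2 = a := he1a.resolve_left h1
        rw [ha', if_neg h1, h2, add_comm]
    have hjoin' : IsJoin ends (P.erase e1) a' b := by
      intro v
      have h1 := hmin.1 v
      rw [endCount_eq, ← Finset.add_sum_erase _ _ he1P] at h1
      push_cast at h1
      rw [endCount_eq]
      push_cast
      linear_combination h1 - hec v - (dl a' v) * two_zero
    have hmin' : IsMinJoin ends (P.erase e1) a' b := by
      refine ⟨hjoin', fun Q hQ hQj => ?_⟩
      have he1Q : e1 ∉ Q := fun h => Finset.notMem_erase e1 P (hQ h)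
      have hQ' : IsJoin ends (insert e1 Q) a b := by
        intro v
        have h1 := hQj v
        rw [endCount_eq] at h1
        push_cast at h1
        rw [endCount_eq, Finset.sum_insert he1Q]
        push_cast
        rw [h1, hec]
        linear_combination (dl a' v) * two_zero
      have h2 := hmin.2 (insert e1 Q)
        (Finset.insert_subset he1P (hQ.trans (Finset.erase_subset _ _))) hQ'
      rw [← h2, Finset.erase_insert he1Q]
    have hcard' : (P.erase e1).card = n := by
      rw [Finset.card_erase_of_mem he1P, hcard]; rfl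
    obtain ⟨γ', hsupp, hpm, hbd⟩ := ih (P.erase e1) a' b hcard' hmin'
    set s : ℤ := if (ends e1).1 = a then 1 else -1 with hs
    refine ⟨γ' + Pi.single e1 s, ?_, ?_, ?_⟩
    · intro e he
      have h1 : e ≠ e1 := fun h => he (h ▸ he1P)
      have h2 : e ∉ P.erase e1 := fun h => he (Finset.mem_of_mem_erase h)
      simp [hsupp e h2, Pi.single_apply, h1]
    · intro e he
      by_cases h1 : e = e1
      · subst h1
        have h2 := hsupp e (Finset.notMem_erase e P)
        simp only [Pi.add_apply, h2, Pi.single_eq_same, zero_add, hs]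
        split_ifs
        · left; rfl
        · right; rfl
      · have h2 := hpm e (Finset.mem_erase.2 ⟨h1, he⟩)
        simpa [Pi.single_apply, h1] using h2
    · intro v
      rw [boundary_add, hbd, boundary_single]
      by_cases h1 : (ends e1).1 = a
      · have h3 : a' = (ends e1).2 := by rw [ha', if_pos h1]
        rw [hs, if_pos h1, h3, h1]
        simp only [eq_comm (a := v)]
        ring
      · have h2 : (ends e1).2 = a := he1a.resolve_left h1
        have h3 : a' = (ends e1).1 := by rw [ha', if_neg h1]
        rw [hs, if_neg h1, h3, h2]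
        simp only [eq_comm (a := v)]
        split_ifs <;> ring

lemma exists_cycle_of_circuit (ends : E → V × V) {C : Finset E} (hC : IsCircuit ends C) {e0 : E}
    (he0 : e0 ∈ C) :
    ∃ γ : E → ℤ, (∀ e, e ∉ C → γ e = 0) ∧ γ e0 = 1 ∧ ∀ v, boundary ends γ v = 0 := by
  have heven : ∀ v, (endCount ends C v : ZMod 2) = 0 := fun v =>
    ZMod.natCast_eq_zero_iff_even.2 (hC.2.1 v)
  have hjoin : IsJoin ends (C.erase e0) (ends e0).2 (ends e0).1 := by
    intro v
    have h1 := heven v
    rw [endCount_eq, ← Finset.add_sum_erase _ _ he0] at h1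
    push_cast at h1
    rw [ec_cast] at h1
    rw [endCount_eq]
    push_cast
    linear_combination h1 - (dl (ends e0).1 v + dl (ends e0).2 v) * two_zero
  have hmin : IsMinJoin ends (C.erase e0) (ends e0).2 (ends e0).1 := by
    refine ⟨hjoin, fun Q hQ hQj => ?_⟩
    have he0Q : e0 ∉ Q := fun h => Finset.notMem_erase e0 C (hQ h)
    have hsub : insert e0 Q ⊆ C :=
      Finset.insert_subset he0 (hQ.trans (Finset.erase_subset _ _))
    have hevenQ : ∀ v, Even (endCount ends (insert e0 Q) v) := by
      intro v
      rw [← ZMod.natCast_eq_zero_iff_even, endCount_eq, Finset.sum_insert he0Q]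
      push_cast
      have h1 := hQj v
      rw [endCount_eq] at h1
      push_cast at h1
      rw [h1, ec_cast]
      linear_combination (dl (ends e0).1 v + dl (ends e0).2 v) * two_zero
    have heq : insert e0 Q = C := by
      by_contra hne
      have hss : insert e0 Q ⊂ C := lt_of_le_of_ne hsub hne
      obtain ⟨v, hv⟩ := hC.2.2 _ hss (Finset.insert_nonempty _ _)
      exact hv (hevenQ v)
    rw [← heq, Finset.erase_insert he0Q]
  obtain ⟨γ', hsupp, _, hbd⟩ := exists_flow ends _ (C.erase e0) _ _ rfl hmin
  refine ⟨γ' + Pi.single e0 1, ?_, ?_, ?_⟩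
  · intro e he
    have h1 : e ≠ e0 := fun h => he (h ▸ he0)
    have h2 : e ∉ C.erase e0 := fun h => he (Finset.mem_of_mem_erase h)
    simp [hsupp e h2, Pi.single_apply, h1]
  · simp [hsupp e0 (Finset.notMem_erase e0 C)]
  · intro v
    rw [boundary_add, hbd, boundary_single]
    simp only [eq_comm (a := v)]
    ring

lemma sol (ends : E → V × V) : ∀ N : ℕ, 0 < N → ∀ l : E → ℕ, (∀ e, l e ∣ N) →
    (∀ p : ℕ, p.Prime → ∀ C : Finset E, C ⊆ Finset.univ.filter (fun e => p ∣ l e) →
      ¬ IsCircuit ends C) →
    ∀ x : E → ℤ, ∃ g : V → ℤ, ∀ e, (l e : ℤ) ∣ x e - (g (ends e).1 - g (ends e).2) := by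
  intro N
  induction N using Nat.recOnPosPrimePosCoprime with
  | prime_pow p k hp hk =>
    intro _ l hl hfor x
    obtain ⟨g, hg⟩ := forest_potential ends _ (hfor p hp) x
    refine ⟨g, fun e => ?_⟩
    by_cases hpe : p ∣ l e
    · rw [hg e (by simp [hpe]), sub_self]
      exact dvd_zero _
    · obtain ⟨j, _, hj⟩ := (Nat.dvd_prime_pow hp).1 (hl e)
      have hj0 : j = 0 := by
        by_contra hne
        exact hpe (hj ▸ dvd_pow_self p hne)
      rw [hj, hj0, pow_zero, Nat.cast_one]
      exact one_dvd _
  | zero => intro h; exact absurd h (lt_irrefl 0)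
  | one =>
    intro _ l hl _ x
    refine ⟨0, fun e => ?_⟩
    have : l e = 1 := Nat.dvd_one.1 (hl e)
    rw [this, Nat.cast_one]
    exact one_dvd _
  | coprime a b ha hb hab iha ihb =>
    intro _ l hl hfor x
    have hfa : ∀ p : ℕ, p.Prime → ∀ C : Finset E,
        C ⊆ Finset.univ.filter (fun e => p ∣ Nat.gcd (l e) a) → ¬ IsCircuit ends C := by
      intro p hp C hC
      apply hfor p hp C
      intro e he
      have := hC he
      simp only [Finset.mem_filter, Finset.mem_univ, true_and] at this ⊢
      exact this.trans (Nat.gcd_dvd_left _ _)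
    have hfb : ∀ p : ℕ, p.Prime → ∀ C : Finset E,
        C ⊆ Finset.univ.filter (fun e => p ∣ Nat.gcd (l e) b) → ¬ IsCircuit ends C := by
      intro p hp C hC
      apply hfor p hp C
      intro e he
      have := hC he
      simp only [Finset.mem_filter, Finset.mem_univ, true_and] at this ⊢
      exact this.trans (Nat.gcd_dvd_left _ _)
    obtain ⟨ga, hga⟩ := iha (by omega) (fun e => Nat.gcd (l e) a)
      (fun e => Nat.gcd_dvd_right _ _) hfa x
    obtain ⟨gb, hgb⟩ := ihb (by omega) (fun e => Nat.gcd (l e) b)
      (fun e => Nat.gcd_dvd_right _ _) hfb x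
    have hbez : (1 : ℤ) = a * Nat.gcdA a b + b * Nat.gcdB a b := by
      have := Nat.gcd_eq_gcd_ab a b
      rw [hab] at this
      exact_mod_cast this
    refine ⟨fun v => (b * Nat.gcdB a b) * ga v + (a * Nat.gcdA a b) * gb v, fun e => ?_⟩
    have key : l e ∣ Nat.gcd (l e) a * Nat.gcd (l e) b :=
      Nat.dvd_gcd_mul_gcd_iff_dvd_mul.2 (hl e)
    have k1 : (l e : ℤ) ∣ (b : ℤ) * (x e - (ga (ends e).1 - ga (ends e).2)) := by
      obtain ⟨t, ht⟩ := hga e
      rw [ht]
      have h1 : (l e : ℤ) ∣ ((Nat.gcd (l e) a : ℕ) : ℤ) * (b : ℤ) := by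
        have : l e ∣ Nat.gcd (l e) a * b :=
          key.trans (Nat.mul_dvd_mul_left _ (Nat.gcd_dvd_right _ _))
        exact_mod_cast this
      obtain ⟨w, hw⟩ := h1
      exact ⟨w * t, by linear_combination t * hw⟩
    have k2 : (l e : ℤ) ∣ (a : ℤ) * (x e - (gb (ends e).1 - gb (ends e).2)) := by
      obtain ⟨t, ht⟩ := hgb e
      rw [ht]
      have h1 : (l e : ℤ) ∣ ((Nat.gcd (l e) b : ℕ) : ℤ) * (a : ℤ) := by
        have : l e ∣ Nat.gcd (l e) b * a := by
          rw [mul_comm]
          exact key.trans (Nat.mul_dvd_mul_right (Nat.gcd_dvd_right _ _) _)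
        exact_mod_cast this
      obtain ⟨w, hw⟩ := h1
      exact ⟨w * t, by linear_combination t * hw⟩
    have h3 := dvd_add (Dvd.dvd.mul_left k1 (Nat.gcdB a b)) (Dvd.dvd.mul_left k2 (Nat.gcdA a b))
    have heq : x e - ((↑b * Nat.gcdB a b * ga (ends e).1 + ↑a * Nat.gcdA a b * gb (ends e).1) -
        (↑b * Nat.gcdB a b * ga (ends e).2 + ↑a * Nat.gcdA a b * gb (ends e).2)) =
        Nat.gcdB a b * (↑b * (x e - (ga (ends e).1 - ga (ends e).2))) +
          Nat.gcdA a b * (↑a * (x e - (gb (ends e).1 - gb (ends e).2))) := by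
      linear_combination (x e) * hbez
    show (l e : ℤ) ∣ x e - ((↑b * Nat.gcdB a b * ga (ends e).1 + ↑a * Nat.gcdA a b * gb (ends e).1) -
        (↑b * Nat.gcdB a b * ga (ends e).2 + ↑a * Nat.gcdA a b * gb (ends e).2))
    rw [heq]
    exact h3

end Groth.Agent.Lib.helper28.GJ
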