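import Mathlib
import Groth.Prelude.Def_W4c1nerontoraddGraph
import Groth.Agent.Lib.Helper28.GraphJoin2

set_option autoImplicit false
universe u

namespace Groth.Agent.Lib.helper28.BU
open LabGraph

variable {V E : Type u} [Fintype V] [Fintype E] [DecidableEq V] [DecidableEq E]

/-- circuit-coprime iff all congruence systems along edges are solvable -/
lemma coprime_iff_sol (ends : E → V × V) (l : E → ℕ) (hl : ∀ e, 0 < l e) :
    IsCircuitCoprime ends l ↔
      ∀ x : E → ℤ, ∃ g : V → ℤ, ∀ e, (l e : ℤ) ∣ x e - (g (ends e).1 - g (ends e).2) := by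
  constructor
  · intro hcop x
    have hN : 0 < ∏ e, l e := Finset.prod_pos (fun e _ => hl e)
    have hfor : ∀ p : ℕ, p.Prime → ∀ C : Finset E,
        C ⊆ Finset.univ.filter (fun e => p ∣ l e) → ¬ LabGraph.IsCircuit ends C := by
      intro p hp C hC hcirc
      have h1 := hcop C hcirc
      have h2 : p ∣ C.gcd l := Finset.dvd_gcd (fun e he => (Finset.mem_filter.1 (hC he)).2)
      rw [h1] at h2
      exact hp.one_lt.ne' (Nat.dvd_one.1 h2)
    exact Groth.Agent.Lib.helper28.GJ.sol ends _ hN l
      (fun e => Finset.dvd_prod_of_mem l (Finset.mem_univ e)) hfor x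
  · intro h C hC
    by_contra hne
    obtain ⟨e0, he0⟩ := hC.1
    obtain ⟨p, hp, hpd⟩ := Nat.exists_prime_and_dvd hne
    obtain ⟨γ, hsupp, hγ0, hγ⟩ := Groth.Agent.Lib.helper28.GJ.exists_cycle_of_circuit ends hC he0
    obtain ⟨g, hg⟩ := h (Pi.single (M := fun _ : E => ℤ) e0 (1 : ℤ))
    choose y hy using hg
    have h0 := Groth.Agent.Lib.helper28.GJ.sum_mul_dg ends γ hγ g
    have h1 : ∑ e, γ e * (Pi.single (M := fun _ : E => ℤ) e0 (1 : ℤ) e - (l e : ℤ) * y e) = 0 := by
      rw [← h0]
      refine Finset.sum_congr rfl (fun e _ => ?_)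
      have h2 := hy e
      congr 1
      linarith
    have h2 : ∑ e, γ e * (Pi.single (M := fun _ : E => ℤ) e0 (1 : ℤ) e - (l e : ℤ) * y e) =
        1 - ∑ e ∈ C, γ e * ((l e : ℤ) * y e) := by
      simp only [mul_sub, Finset.sum_sub_distrib]
      congr 1
      · rw [Finset.sum_eq_single e0]
        · simp [hγ0]
        · intro e _ he
          simp [Pi.single_apply, he]
        · intro h'; exact absurd (Finset.mem_univ _) h'
      · symm
        apply Finset.sum_subset (Finset.subset_univ _)
        intro e _ he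
        rw [hsupp e he, zero_mul]
    rw [h2] at h1
    have h3 : (p : ℤ) ∣ ∑ e ∈ C, γ e * ((l e : ℤ) * y e) := Finset.dvd_sum (fun e he => by
      have h4 : (p : ℤ) ∣ (l e : ℤ) := Int.natCast_dvd_natCast.2 (hpd.trans (Finset.gcd_dvd he))
      exact Dvd.dvd.mul_left (Dvd.dvd.mul_right h4 _) _)
    have h4 : (p : ℤ) ∣ 1 := by
      have h5 : (1 : ℤ) = ∑ e ∈ C, γ e * ((l e : ℤ) * y e) := by linarith
      rw [h5]; exact h3
    have h6 : p ∣ 1 := by exact_mod_cast h4
    exact hp.one_lt.ne' (Nat.dvd_one.1 h6)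

/-! ### path vertices -/

lemma pathVert_zero (ends : E → V × V) (l : E → ℕ) (e : E) :
    pathVert ends l e 0 = Sum.inl (ends e).1 := by
  simp [pathVert]

lemma pathVert_mid (ends : E → V × V) (l : E → ℕ) (e : E) (j : ℕ) (h0 : j ≠ 0) (h : j < l e) :
    pathVert ends l e j = Sum.inr ⟨e, ⟨j - 1, by omega⟩⟩ := by
  simp [pathVert, h0, h]

lemma pathVert_end (ends : E → V × V) (l : E → ℕ) (e : E) (j : ℕ) (h0 : j ≠ 0) (h : l e ≤ j) :
    pathVert ends l e j = Sum.inl (ends e).2 := by
  have : ¬ j < l e := by omega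
  simp [pathVert, h0, this]

lemma pathVert_eq_inr (ends : E → V × V) (l : E → ℕ) (e : E) (j : ℕ) (e0 : E) (i : Fin (l e0 - 1)) :
    pathVert ends l e j = Sum.inr ⟨e0, i⟩ ↔ e = e0 ∧ j = i.val + 1 := by
  constructor
  · intro h
    unfold pathVert at h
    split_ifs at h with h0 h1
    · simp only [Sum.inr.injEq, Sigma.mk.injEq] at h
      obtain ⟨rfl, h2⟩ := h
      have h3 := eq_of_heq h2
      refine ⟨rfl, ?_⟩
      have h4 := congrArg Fin.val h3
      simp only at h4
      omega
  · rintro ⟨rfl, rfl⟩
    have h1 : i.val + 1 < l e := by have := i.isLt; omega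
    rw [pathVert_mid ends l e (i.val + 1) (by omega) h1]
    simp

lemma pathVert_eq_inl_first (ends : E → V × V) (l : E → ℕ) (e : E) (j : ℕ) (hj : j < l e) (v : V) :
    pathVert ends l e j = Sum.inl v ↔ j = 0 ∧ (ends e).1 = v := by
  constructor
  · intro h
    unfold pathVert at h
    split_ifs at h with h0
    · simp only [Sum.inl.injEq] at h
      exact ⟨h0, h⟩
  · rintro ⟨rfl, rfl⟩
    exact pathVert_zero ends l e

lemma pathVert_eq_inl_second (ends : E → V × V) (l : E → ℕ) (e : E) (j : ℕ) (hj : j < l e) (v : V) :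
    pathVert ends l e (j + 1) = Sum.inl v ↔ j + 1 = l e ∧ (ends e).2 = v := by
  constructor
  · intro h
    by_cases h1 : j + 1 < l e
    · rw [pathVert_mid ends l e (j + 1) (by omega) h1] at h
      exact absurd h (by simp)
    · rw [pathVert_end ends l e (j + 1) (by omega) (by omega)] at h
      simp only [Sum.inl.injEq] at h
      exact ⟨by omega, h⟩
  · rintro ⟨h1, rfl⟩
    exact pathVert_end ends l e (j + 1) (by omega) (by omega)

/-- multidegree of the blow-up at a new vertex: the second difference along the path -/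
lemma mdeg_inr (ends : E → V × V) (l : E → ℕ) (ψ : BlVert V E l → ℤ) (e0 : E) (i : Fin (l e0 - 1)) :
    mdeg (blEnds ends l) (fun _ => 1) ψ (Sum.inr ⟨e0, i⟩) =
      ψ (pathVert ends l e0 i.val) + ψ (pathVert ends l e0 (i.val + 2))
        - 2 * ψ (pathVert ends l e0 (i.val + 1)) := by
  have hi := i.isLt
  unfold mdeg
  rw [Fintype.sum_sigma]
  rw [Finset.sum_eq_single e0]
  · simp only [blEnds, pathVert_eq_inr, true_and, Nat.cast_one, Int.ediv_one]
    rw [Finset.sum_add_distrib]
    rw [Finset.sum_eq_single (⟨i.val + 1, by omega⟩ : Fin (l e0)),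
      Finset.sum_eq_single (⟨i.val, by omega⟩ : Fin (l e0))]
    · simp only [if_true]
      ring
    · intro b _ hb
      rw [if_neg]
      intro h
      apply hb
      apply Fin.ext
      simp only
      omega
    · intro h; exact absurd (Finset.mem_univ _) h
    · intro b _ hb
      rw [if_neg]
      intro h
      apply hb
      apply Fin.ext
      simp only
      omega
    · intro h; exact absurd (Finset.mem_univ _) h
  · intro e _ he
    apply Finset.sum_eq_zero
    intro j _
    simp only [blEnds, pathVert_eq_inr, he, false_and, if_false, add_zero]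
  · intro h; exact absurd (Finset.mem_univ _) h

/-- multidegree of the blow-up at an old vertex -/
lemma mdeg_inl (ends : E → V × V) (l : E → ℕ) (hl : ∀ e, 0 < l e) (ψ : BlVert V E l → ℤ) (v : V) :
    mdeg (blEnds ends l) (fun _ => 1) ψ (Sum.inl v) =
      ∑ e, ((if (ends e).1 = v then ψ (pathVert ends l e 1) - ψ (pathVert ends l e 0) else 0) +
        (if (ends e).2 = v then ψ (pathVert ends l e (l e - 1)) - ψ (pathVert ends l e (l e))
          else 0)) := by
  unfold mdeg
  rw [Fintype.sum_sigma]
  refine Finset.sum_congr rfl (fun e _ => ?_)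
  have hle := hl e
  simp only [blEnds, Nat.cast_one, Int.ediv_one]
  rw [Finset.sum_add_distrib]
  congr 1
  · rw [Finset.sum_eq_single (⟨0, hle⟩ : Fin (l e))]
    · simp only [pathVert_zero, Sum.inl.injEq, zero_add]
    · intro b _ hb
      rw [if_neg]
      intro h
      apply hb
      apply Fin.ext
      exact ((pathVert_eq_inl_first ends l e b.val b.isLt v).1 h).1
    · intro h; exact absurd (Finset.mem_univ _) h
  · rw [Finset.sum_eq_single (⟨l e - 1, by omega⟩ : Fin (l e))]
    · have h1 : l e - 1 + 1 = l e := by omega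
      simp only [h1]
      rw [pathVert_end ends l e (l e) (by omega) le_rfl]
      simp only [Sum.inl.injEq]
    · intro b _ hb
      rw [if_neg]
      intro h
      apply hb
      apply Fin.ext
      have := ((pathVert_eq_inl_second ends l e b.val b.isLt v).1 h).1
      simp only
      omega
    · intro h; exact absurd (Finset.mem_univ _) h

/-! ### sequences with prescribed second differences -/

lemma seq_diff (u b : ℕ → ℤ) (L : ℕ)
    (h : ∀ i, i + 2 ≤ L → u i + u (i + 2) - 2 * u (i + 1) + b i = 0) :
    ∀ k, k + 1 ≤ L → u (k + 1) - u k = (u 1 - u 0) - ∑ i ∈ Finset.range k, b i := by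
  intro k
  induction k with
  | zero => intro _; simp
  | succ k ih =>
    intro hk
    have h1 := ih (by omega)
    have h2 := h k (by omega)
    rw [Finset.sum_range_succ]
    have e1 : k + 1 + 1 = k + 2 := rfl
    rw [e1]
    linarith

lemma seq_closed (u b : ℕ → ℤ) (L : ℕ)
    (h : ∀ i, i + 2 ≤ L → u i + u (i + 2) - 2 * u (i + 1) + b i = 0) :
    ∀ k, k ≤ L → u k = u 0 + (k : ℤ) * (u 1 - u 0)
      - ∑ j ∈ Finset.range k, ∑ i ∈ Finset.range j, b i := by
  intro k
  induction k with
  | zero => intro _; simp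
  | succ k ih =>
    intro hk
    have h1 := ih (by omega)
    have h2 := seq_diff u b L h k hk
    rw [Finset.sum_range_succ]
    push_cast
    linarith

end Groth.Agent.Lib.helper28.BU
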