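import Groth.Agent.Lib.Helper28.ReesHyp
import Groth.Agent.Lib.Helper28.TwistAmple
import Groth.Agent.Lib.Helper28.TwistAll
import Groth.Agent.Lib.Helper20.ClosedImmHH
import Groth.Agent.Lib.Helper11.AmpleVan
import Groth.Agent.Lib.Helper11.AmpleInv
import Groth.Agent.Lib.Helper16.BlowUpProper
import Groth.Agent.Lib.Helper18.P1Euler
import Groth.Agent.Lib.Helper18.HHLES
import Groth.Agent.Lib.Lead.ModTensor
import Groth.Agent.S0844

/-!
# Cohomology of the structure sheaf of the blow-up of a quasi-regular ideal (helper28)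

`A` Noetherian, `fs : Fin (n+1) → A` quasi-regular, `I = (fs)`, `Bl = Proj (Rees I)`.
* `subsingleton_HH_push`: `H^p(Bl, g_* O_{P^n_{A/I}}(k)) = 0` for `p > 0`, `k ≥ 0`;
* `exists_subsingleton_HH_twist`: Serre vanishing `H^p(Bl, O(k)) = 0`, `k ≫ 0`, `p > 0`;
* `subsingleton_HH_twist`: `H^p(Bl, O(k)) = 0` for all `k ≥ 0`, `p > 0` (descending induction along
  `0 → O(k+1) → O(k) → g_* O(k) → 0`);
* `subsingleton_HH_structureModule`: `H^p(Bl, O) = 0` for `p > 0`.
-/

set_option autoImplicit false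
set_option linter.unusedSectionVars false
universe u
open CategoryTheory CategoryTheory.Limits AlgebraicGeometry Opposite TopologicalSpace Polynomial
open scoped HomogeneousIdeal

namespace Groth.Agent.Lib.helper28.BlowUpCoh

open Groth.Agent.Lib.helper16.ReesBlowup Groth.Agent.Lib.helper28.ReesQuot
  Groth.Agent.Lib.helper28.TwistSES Groth.Agent.Lib.helper28.ReesTau
  Groth.Agent.Lib.helper28.ReesHyp Groth.Agent.Lib.Helper18

/-- vanishing of the middle term of a short exact sequence -/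
theorem subsingleton_HH_middle {X : Scheme.{u}} (S : ShortComplex X.Modules) (hS : S.ShortExact)
    (p : ℕ) (h₁ : Subsingleton (Coh.HH X S.X₁ p)) (h₃ : Subsingleton (Coh.HH X S.X₃ p)) :
    Subsingleton (Coh.HH X S.X₂ p) := by
  refine ⟨fun a b => ?_⟩
  have h : ∀ x : Coh.HH X S.X₂ p, x = 0 := by
    intro x
    have hx : HH.map S.g p x = 0 := Subsingleton.elim _ _
    obtain ⟨y, rfl⟩ := (HH.exact₂ hS p x).1 hx
    rw [Subsingleton.elim y 0, map_zero]
  rw [h a, h b]

theorem twist_eq {R A : Type u} [CommRing R] [CommRing A] [Algebra R A] (𝒜 : ℕ → Submodule R A)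
    [GradedAlgebra 𝒜] (n : ℤ) : Twist.twist 𝒜 n = GrTwist.twist 𝒜 n := rfl

theorem subsingleton_HH_grTwist {R A : Type u} [CommRing R] [CommRing A] [Algebra R A]
    (𝒜 : ℕ → Submodule R A) [GradedAlgebra 𝒜] (n : ℤ) (p : ℕ)
    (h : Subsingleton (Coh.HH (Proj 𝒜) (Twist.twist 𝒜 n) p)) :
    Subsingleton (Coh.HH (Proj 𝒜) (GrTwist.twist 𝒜 n) p) := h

variable {A : Type u} [CommRing A] {n : ℕ} (fs : Fin (n + 1) → A)
  (hq : CAlgX.IsQuasiRegular fs)

theorem subsingleton_HH_push (k : ℕ) (p : ℕ) (hp : 0 < p) :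
    Subsingleton (Coh.HH (Proj (AA fs))
      ((Coh.push (Proj.map (psi fs hq) (ReesQuot.irrelevant_le fs hq))).obj
        (GrTwist.twist (CohB1.polyGrading n (A ⧸ II fs)) (k : ℤ))) p) := by
  have := isClosedImmersion_map fs hq
  rw [← Groth.Agent.Lib.Helper20.ClosedImmHH.subsingleton_iff_push_closed]
  exact Groth.Agent.S0844.result (A ⧸ II fs) n (k : ℤ) p (fun h => by omega)
    (fun h => by have := h.2; have : (0 : ℤ) ≤ k := Int.natCast_nonneg k; omega)

include hq in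
theorem subsingleton_HH_twist_of_succ (k : ℕ) (p : ℕ) (hp : 0 < p)
    (h : Subsingleton (Coh.HH (Proj (AA fs)) (GrTwist.twist (AA fs) ((k : ℤ) + 1)) p)) :
    Subsingleton (Coh.HH (Proj (AA fs)) (GrTwist.twist (AA fs) (k : ℤ)) p) :=
  subsingleton_HH_middle (ses (hyp fs hq) (k : ℤ))
    (shortExact_ses (hyp fs hq) (k : ℤ)) p h (subsingleton_HH_push fs hq k p hp)

theorem hcov' (x : ProjectiveSpectrum (AA fs)) : ∃ f ∈ AA fs 1, f ∉ x.asHomogeneousIdeal :=
  hcov fs x

variable [IsNoetherianRing A]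

theorem compactSpace_Bl : CompactSpace (Proj (AA fs)) := by
  have := Groth.Agent.Lib.helper16.BlowUpProper.isProper_bl (II fs) (Ideal.fg_of_isNoetherianRing _)
  exact QuasiCompact.compactSpace_of_compactSpace (bl (II fs))

theorem isAmple_twist_one : CohB1.IsAmple (Twist.twist (AA fs) 1) := by
  have := compactSpace_Bl fs
  have h := Groth.Agent.Lib.helper28.TwistAmple.isAmple_twist (AA fs) (hcov fs) 1 Nat.one_pos
  rwa [Nat.cast_one] at h

theorem serre_raw :
    ∃ n₀ : ℕ, ∀ k : ℕ, n₀ ≤ k → ∀ p : ℕ, 0 < p →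
      Subsingleton (Coh.HH (Proj (AA fs)) (CohB1.tensorMod (Coh.structureModule (Proj (AA fs)))
        (CohB1.tensorPow (Twist.twist (AA fs) 1) k)) p) := by
  have := Groth.Agent.Lib.helper16.BlowUpProper.isProper_bl (II fs) (Ideal.fg_of_isNoetherianRing _)
  exact Groth.Agent.Lib.helper11.AmpleVan.serre_vanishing_of_isAmple (bl (II fs))
    (isAmple_twist_one fs)
    (Coh.structureModule _) (Groth.Agent.Lib.helper11.AmpleInv.isCoh_structureModule _)

/-- `O ⊗ O(1)^{⊗ k} ≅ O(k)` -/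
noncomputable def twistIso (k : ℕ) :
    CohB1.tensorMod (Coh.structureModule (Proj (AA fs)))
      (CohB1.tensorPow (Twist.twist (AA fs) 1) k) ≅ Twist.twist (AA fs) (k : ℤ) :=
  Groth.Agent.Lib.Lead.ModTensor.leftUnitor _ ≪≫
    (Groth.Agent.Lib.helper28.TwistAll.twistPowIso (AA fs) (hcov fs) k).symm

/-- Serre vanishing on the blow-up: `H^p(Bl, O(k)) = 0` for `k ≫ 0`, `p > 0`. -/
theorem exists_subsingleton_HH_twist :
    ∃ n₀ : ℕ, ∀ k : ℕ, n₀ ≤ k → ∀ p : ℕ, 0 < p →
      Subsingleton (Coh.HH (Proj (AA fs)) (GrTwist.twist (AA fs) (k : ℤ)) p) := by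
  obtain ⟨n₀, hn₀⟩ := serre_raw fs
  refine ⟨n₀, fun k hk p hp => subsingleton_HH_grTwist (AA fs) (k : ℤ) p ?_⟩
  exact (Groth.Agent.Lib.Helper18.P1Euler.hhEquivOfIso (twistIso fs k) p).symm.subsingleton_congr.mpr
    (hn₀ k hk p hp)

include hq in
/-- `H^p(Bl_I, O(k)) = 0` for all `k ≥ 0`, `p > 0` (`I` quasi-regular). -/
theorem subsingleton_HH_twist (k : ℕ) (p : ℕ) (hp : 0 < p) :
    Subsingleton (Coh.HH (Proj (AA fs)) (GrTwist.twist (AA fs) (k : ℤ)) p) := by
  obtain ⟨n₀, hn₀⟩ := exists_subsingleton_HH_twist fs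
  suffices H : ∀ m k : ℕ, n₀ ≤ k + m →
      Subsingleton (Coh.HH (Proj (AA fs)) (GrTwist.twist (AA fs) (k : ℤ)) p) from
    H n₀ k (Nat.le_add_left _ _)
  intro m
  induction m with
  | zero => intro k hk; exact hn₀ k hk p hp
  | succ m ih =>
    intro k hk
    refine subsingleton_HH_twist_of_succ fs hq k p hp ?_
    have h := ih (k + 1) (by omega)
    rwa [Nat.cast_add, Nat.cast_one] at h

include hq in
/-- **`H^p(Bl_I, O) = 0` for `p > 0`** (`I` generated by a quasi-regular sequence, `A` Noetherian). -/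
theorem subsingleton_HH_structureModule (p : ℕ) (hp : 0 < p) :
    Subsingleton (Coh.HH (Proj (AA fs)) (Coh.structureModule (Proj (AA fs))) p) := by
  have h := subsingleton_HH_twist fs hq 0 p hp
  rw [Nat.cast_zero, ← twist_eq] at h
  exact (Groth.Agent.Lib.Helper18.P1Euler.hhEquivOfIso
    (Groth.Agent.Lib.helper28.TwistZero.twistZeroIso (AA fs)) p).subsingleton_congr.mpr h

end Groth.Agent.Lib.helper28.BlowUpCoh
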