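import Groth.Agent.Lib.Helper28.BlowUpH0
import Groth.Agent.Lib.Helper28.BlowUpCoh
import Groth.Agent.Lib.Helper16.BlowUpProper

/-!
# Blow-up of an affine Noetherian scheme in a quasi-regular ideal (helper28)

* `bijective_bl_appTop`, `subsingleton_HH_Bl`: the model `Proj (Rees I) ⟶ Spec A`;
* `affine_main`: for ANY blow-up `b : B ⟶ X` of an affine Noetherian `X` in an ideal generated by a
  quasi-regular family, `Γ(X, O) → Γ(B, O)` is bijective and `H^p(B, O_B) = 0` for `p > 0`.
-/

set_option autoImplicit false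
set_option linter.unusedSectionVars false
universe u
open CategoryTheory CategoryTheory.Limits AlgebraicGeometry Opposite TopologicalSpace

namespace Groth.Agent.Lib.helper28.BlowUpAffine

open Groth.Agent.Lib.helper16.ReesBlowup Groth.Agent.Lib.helper28.ReesQuot
  Groth.Agent.Lib.helper28.ReesTau Groth.Agent.Lib.helper16.BlowUpProper

section model

variable {A : Type u} [CommRing A] [IsNoetherianRing A] {n : ℕ} (fs : Fin (n + 1) → A)
  (hq : CAlgX.IsQuasiRegular fs)

include hq in
theorem bijective_bl_appTop : Function.Bijective (bl (II fs)).appTop.hom := by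
  have h := Groth.Agent.Lib.helper28.BlowUpH0.bijective_ringOf_top fs hq
  have h1 : ringOf (bl (II fs)) ⊤ =
      ((Scheme.ΓSpecIso (CommRingCat.of A)).inv ≫ (bl (II fs)).appTop).hom := by
    rw [ringOf]
    simp [Scheme.Hom.appLE]
  rw [h1, CommRingCat.hom_comp] at h
  have h2 : Function.Bijective (Scheme.ΓSpecIso (CommRingCat.of A)).inv.hom :=
    (ConcreteCategory.isIso_iff_bijective _).mp inferInstance
  rw [RingHom.coe_comp] at h
  exact (Function.Bijective.of_comp_iff _ h2).mp h

include hq in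
theorem subsingleton_HH_Bl (p : ℕ) (hp : 0 < p) :
    Subsingleton (Coh.HH (Bl (II fs)) (Coh.structureModule (Bl (II fs))) p) :=
  Groth.Agent.Lib.helper28.BlowUpCoh.subsingleton_HH_structureModule fs hq p hp

end model

/-- **Blow-up of an affine Noetherian scheme in a quasi-regular ideal**: `Γ(X, O) → Γ(B, O)` is
bijective and `H^p(B, O_B) = 0` for `p > 0`. -/
theorem affine_main (X : Scheme.{u}) [IsAffine X] [IsNoetherianRing Γ(X, ⊤)]
    (𝓘 : X.IdealSheafData) {n : ℕ} (fs : Fin (n + 1) → Γ(X, ⊤)) (hq : CAlgX.IsQuasiRegular fs)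
    (hI : 𝓘.ideal ⟨⊤, isAffineOpen_top X⟩ = II fs) {B : Scheme.{u}} (b : B ⟶ X)
    (hb : BlowUp.IsBlowUp b 𝓘) :
    Function.Bijective b.appTop.hom ∧
      ∀ p : ℕ, 0 < p → Subsingleton (Coh.HH B (Coh.structureModule B) p) := by
  have hb' : BlowUp.IsBlowUp (pullback.fst X.isoSpec.hom (bl (II fs))) 𝓘 := by
    rw [← hI]
    exact isBlowUp_pullback_fst_isoSpec X 𝓘
  obtain ⟨θ, hθ, -⟩ := hb'.2 B b hb.1
  have hθ' : θ ≫ pullback.fst X.isoSpec.hom (bl (II fs)) = b := hθ
  have : IsIso θ := Groth.Agent.S17083.isIso_of_isBlowUp _ _ _ hb hb' θ hθ'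
  have : IsIso (pullback.snd X.isoSpec.hom (bl (II fs))) := inferInstance
  obtain ⟨e, he, hiso⟩ : ∃ e : B ⟶ Bl (II fs), e ≫ bl (II fs) = b ≫ X.isoSpec.hom ∧ IsIso e := by
    refine ⟨θ ≫ pullback.snd X.isoSpec.hom (bl (II fs)), ?_, inferInstance⟩
    rw [Category.assoc, ← pullback.condition, ← Category.assoc, hθ']
  constructor
  · have h1 := congrArg Scheme.Hom.appTop he
    rw [Scheme.Hom.comp_appTop, Scheme.Hom.comp_appTop] at h1
    have he' : Function.Bijective e.appTop.hom := by
      have : IsIso e.appTop := inferInstanceAs (IsIso (e.app ⊤))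
      exact (ConcreteCategory.isIso_iff_bijective _).mp this
    have h2 : Function.Bijective ((bl (II fs)).appTop ≫ e.appTop).hom := by
      rw [CommRingCat.hom_comp, RingHom.coe_comp]
      exact he'.comp (bijective_bl_appTop fs hq)
    rw [h1, CommRingCat.hom_comp, RingHom.coe_comp] at h2
    have h3 : Function.Bijective X.isoSpec.hom.appTop.hom := by
      have : IsIso X.isoSpec.hom.appTop := inferInstanceAs (IsIso (X.isoSpec.hom.app ⊤))
      exact (ConcreteCategory.isIso_iff_bijective _).mp this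
    exact (Function.Bijective.of_comp_iff _ h3).mp h2
  · intro p hp
    exact Groth.Agent.Lib.Helper18.P1Euler.subsingleton_HH_structureModule_of_isIso
      e p (subsingleton_HH_Bl fs hq p hp)

end Groth.Agent.Lib.helper28.BlowUpAffine
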