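import Groth.Agent.Lib.Helper28.BlowUpH0
import Groth.Agent.Lib.Helper28.TwistZero
import Groth.Agent.Lib.Helper11.IdealOfMono
import Groth.Agent.Lib.Helper20.AcyclicEmb

/-!
# `O(1)` on the blow-up of an ideal is the exceptional ideal (helper28)

Generic part (`𝒜` a graded algebra, `t` a global section of `O(-1)` on `Proj 𝒜`):
* `tHom 𝒜 t : O(1) ⟶ O`, multiplication by `t` (`tHom_val`: pointwise formula), `mono_tHom`;
* `imgIdeal_basicOpen`: on `D₊(F)`, `F ∈ 𝒜 1`, the image of `tHom` is generated by `F · t`.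
* `isoOfEq H i K h : H ≅ idealMod K` for a mono `i : H ⟶ O_X` with image ideal `K`, `isoOfEq_hom_ι`.
Rees algebra part (`Bl = Proj (Rees I)`, `I = (fs)`, `τ = ReesTau.tau fs`):
* `idealOfHom_eq`: the image ideal of `tHom τ : O(1) ⟶ O` is the exceptional ideal `I · O_Bl`;
* `excIso fs hq : O(1) ≅ idealMod (I · O_Bl)` with `excIso_hom_ι` (compatible with the inclusions).
-/

set_option autoImplicit false
set_option linter.unusedSectionVars false
universe u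
open CategoryTheory CategoryTheory.Limits AlgebraicGeometry Opposite TopologicalSpace Polynomial
open scoped HomogeneousIdeal

namespace Groth.Agent.Lib.helper28.BlowUpExc

open Groth.Agent.Lib.helper28.TwistSES Groth.Agent.Lib.helper28.GTwistFree
  Groth.Agent.Lib.helper28.GTwistQCoh

section generic

variable {R A : Type u} [CommRing R] [CommRing A] [Algebra R A] (𝒜 : ℕ → Submodule R A)
  [GradedAlgebra 𝒜] (t : GrTwist.sectN (𝒜 := 𝒜) (-1) (op ⊤))

/-- multiplication by `t`: `O(1) ⟶ O(0)` -/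
noncomputable def mulT : GrTwist.twist 𝒜 1 ⟶ GrTwist.twist 𝒜 0 :=
  mulSec 𝒜 1 (-1) 0 (by norm_num) t

/-- `O ≅ O(0)`, typed with `GrTwist.twist` -/
noncomputable def z0 : Coh.structureModule (Proj 𝒜) ≅ GrTwist.twist 𝒜 0 :=
  Groth.Agent.Lib.helper28.TwistZero.twistZeroIso 𝒜

/-- multiplication by `t`: `O(1) ⟶ O` -/
noncomputable def tHom : GrTwist.twist 𝒜 1 ⟶ Coh.structureModule (Proj 𝒜) :=
  mulT 𝒜 t ≫ (z0 𝒜).inv

theorem tHom_comp : tHom 𝒜 t ≫ (z0 𝒜).hom = mulT 𝒜 t := by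
  rw [tHom, Category.assoc, Iso.inv_hom_id, Category.comp_id]

/-- a section of `O` as a section of the structure module -/
def ofO {W : (Proj 𝒜).Opens} (a : Γ(Proj 𝒜, W)) : Γ(Coh.structureModule (Proj 𝒜), W) := a

/-- a section of the structure module as a section of `O` -/
def toOm {W : (Proj 𝒜).Opens} (a : Γ(Coh.structureModule (Proj 𝒜), W)) :
    GrTwist.O (𝒜 := 𝒜) (op W) := a

/-- a dependent function section of `O` as a section of the structure sheaf -/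
def ofFun {W : (Proj 𝒜).Opens} (c : GrTwist.O (𝒜 := 𝒜) (op W)) : Γ(Proj 𝒜, W) := c

theorem z0_app (W : (Proj 𝒜).Opens) (a : Γ(Coh.structureModule (Proj 𝒜), W)) (x : W) :
    (((toSectN 𝒜 (((z0 𝒜).hom.app W).hom a)).1 x :
      GrTwist.twistAt 𝒜 0 x.1) : GrTwist.Loc 𝒜 x.1) = ((toOm 𝒜 a).1 x).val := by
  have h1 : (toSectN 𝒜 (((z0 𝒜).hom.app W).hom a)) =
      ((toOm 𝒜 a) •
        (Groth.Agent.Lib.helper28.TwistZero.oneSect 𝒜 W : GrTwist.sectN (𝒜 := 𝒜) 0 (op W)) :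
          GrTwist.sectN (𝒜 := 𝒜) 0 (op W)) :=
    Groth.Agent.Lib.helper28.TwistZero.unitToTwistZero_app 𝒜 W a
  refine (congrArg (fun s : GrTwist.sectN (𝒜 := 𝒜) 0 (op W) =>
    ((s.1 x : GrTwist.twistAt 𝒜 0 x.1) : GrTwist.Loc 𝒜 x.1)) h1).trans ?_
  refine (smul_val 𝒜 (toOm 𝒜 a) _ x).trans ?_
  have h2 : (((Groth.Agent.Lib.helper28.TwistZero.oneSect 𝒜 W : GrTwist.sectN (𝒜 := 𝒜) 0 (op W)).1 x :
      GrTwist.twistAt 𝒜 0 x.1) : GrTwist.Loc 𝒜 x.1) = 1 := by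
    show Localization.mk (1 : A) _ = 1
    exact Localization.mk_self 1
  rw [h2, mul_one]

/-- **pointwise formula for `tHom`** -/
theorem tHom_val (W : (Proj 𝒜).Opens) (s : Γ(GrTwist.twist 𝒜 1, W)) (x : W) :
    ((toOm 𝒜 (((tHom 𝒜 t).app W).hom s)).1 x).val =
      (((toSectN 𝒜 s).1 x : GrTwist.twistAt 𝒜 1 x.1) : GrTwist.Loc 𝒜 x.1) *
        ((t.1 ⟨x.1, trivial⟩ : GrTwist.twistAt 𝒜 (-1) x.1) : GrTwist.Loc 𝒜 x.1) := by
  rw [← z0_app]
  have h : ((z0 𝒜).hom.app W).hom (((tHom 𝒜 t).app W).hom s) = ((mulT 𝒜 t).app W).hom s := by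
    rw [← tHom_comp]
    rfl
  rw [h]
  exact mulSec_val 𝒜 1 (-1) 0 (by norm_num) t W s x

theorem mono_tHom (hinj : ∀ (x : ProjectiveSpectrum 𝒜) (q : GrTwist.Loc 𝒜 x),
    q * ((t.1 ⟨x, trivial⟩ : GrTwist.twistAt 𝒜 (-1) x) : GrTwist.Loc 𝒜 x) = 0 → q = 0) :
    Mono (tHom 𝒜 t) := by
  refine Groth.Agent.Lib.Helper20.AcyclicEmb.mono_of_injective_app _ fun U => ?_
  intro s s' hss'
  refine sectN_ext 𝒜 s s' fun x => ?_
  have h1 := tHom_val 𝒜 t U s x
  have h2 := tHom_val 𝒜 t U s' x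
  have h0 : ((tHom 𝒜 t).app U).hom s = ((tHom 𝒜 t).app U).hom s' := hss'
  rw [h0] at h1
  have h3 := h1.symm.trans h2
  rw [← sub_eq_zero, ← sub_mul] at h3
  exact sub_eq_zero.mp (hinj x.1 _ h3)

open Groth.Agent.Lib.helper11.IdealOfMono in
/-- **the image of `tHom` on `D₊(F)`** is generated by any function `g` with `g = F · t`. -/
theorem imgIdeal_basicOpen (F : A) (hF : F ∈ 𝒜 1) (g : Γ(Proj 𝒜, Proj.basicOpen 𝒜 F))
    (hg : ∀ x : (Proj.basicOpen 𝒜 F : (Proj 𝒜).Opens), ((toOm 𝒜 (ofO 𝒜 g)).1 x).val =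
      (Localization.mk F 1 : GrTwist.Loc 𝒜 x.1) *
        ((t.1 ⟨x.1, trivial⟩ : GrTwist.twistAt 𝒜 (-1) x.1) : GrTwist.Loc 𝒜 x.1)) :
    imgIdeal (GrTwist.twist 𝒜 1) (tHom 𝒜 t) (Proj.basicOpen 𝒜 F) = Ideal.span {g} := by
  have h1 : ∀ x : (ProjectiveSpectrum.basicOpen 𝒜 F : Opens (ProjectiveSpectrum.top 𝒜)),
      (1 : A) ∉ x.1.asHomogeneousIdeal := fun x =>
    Groth.Agent.Lib.helper28.TwistZero.one_notMem 𝒜 x.1
  have hFx : ∀ x : (ProjectiveSpectrum.basicOpen 𝒜 F : Opens (ProjectiveSpectrum.top 𝒜)),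
      F ∉ x.1.asHomogeneousIdeal := fun x => (ProjectiveSpectrum.mem_basicOpen 𝒜 F x.1).mp x.2
  let e : GrTwist.sectN (𝒜 := 𝒜) 1 (op (ProjectiveSpectrum.basicOpen 𝒜 F)) :=
    GTwistFree.fracSectN 𝒜 1 (ProjectiveSpectrum.basicOpen 𝒜 F) (⟨F, hF⟩ : 𝒜 1)
      (⟨1, SetLike.GradedOne.one_mem⟩ : 𝒜 0) h1 (by norm_num)
  have hbij := bijective_smul_fracSectN 𝒜 1 Nat.one_pos hF (ProjectiveSpectrum.basicOpen 𝒜 F) rfl
    (⟨F, hF⟩ : 𝒜 1) (⟨1, SetLike.GradedOne.one_mem⟩ : 𝒜 0) hFx h1 (by norm_num)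
  have he : ∀ x : (Proj.basicOpen 𝒜 F : (Proj 𝒜).Opens),
      ((e.1 x : GrTwist.twistAt 𝒜 1 x.1) : GrTwist.Loc 𝒜 x.1) = Localization.mk F 1 := fun x => rfl
  apply le_antisymm
  · rintro a ⟨s, rfl⟩
    obtain ⟨c, hc⟩ := hbij.2 (toSectN 𝒜 s)
    have hc' : (c • e : GrTwist.sectN (𝒜 := 𝒜) 1 (op (ProjectiveSpectrum.basicOpen 𝒜 F))) =
        toSectN 𝒜 s := hc
    rw [Ideal.mem_span_singleton']
    refine ⟨ofFun 𝒜 (W := Proj.basicOpen 𝒜 F) c, ?_⟩
    refine O_ext' 𝒜 (toOm 𝒜 (ofO 𝒜 (ofFun 𝒜 (W := Proj.basicOpen 𝒜 F) c * g)))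
      (toOm 𝒜 (((tHom 𝒜 t).app (Proj.basicOpen 𝒜 F)).hom s)) fun x => ?_
    rw [tHom_val, ← hc', smul_val, he, mul_assoc, ← hg x]
    exact HomogeneousLocalization.val_mul _ _
  · rw [Ideal.span_le, Set.singleton_subset_iff]
    refine ⟨(e : Γ(GrTwist.twist 𝒜 1, Proj.basicOpen 𝒜 F)), ?_⟩
    refine O_ext' 𝒜 (toOm 𝒜 (((tHom 𝒜 t).app (Proj.basicOpen 𝒜 F)).hom e)) (toOm 𝒜 (ofO 𝒜 g))
      fun x => ?_
    rw [tHom_val, hg x]
    rfl

end generic

section isoOfEq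

open Groth.Agent.Lib.helper11.IdealOfMono

variable {X : Scheme.{u}} (H : X.Modules) (i : H ⟶ Coh.structureModule X) [H.IsQuasicoherent]
  [Mono i] (K : X.IdealSheafData) (h : idealOfHom H i = K)

/-- a quasi-coherent submodule of `O_X` with image ideal `K` is `idealMod K` -/
noncomputable def isoOfEq : H ≅ ClSub.idealMod K :=
  idealModIso H i ≪≫ eqToIso (congrArg ClSub.idealMod h)

theorem isoOfEq_hom_ι : (isoOfEq H i K h).hom ≫ ClSub.idealModι K = i := by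
  subst h
  rw [isoOfEq, Iso.trans_hom, eqToIso.hom, eqToHom_refl, Category.comp_id, idealModIso_hom_ι]

end isoOfEq

section rees

open Groth.Agent.Lib.helper16.ReesBlowup Groth.Agent.Lib.helper28.ReesQuot
  Groth.Agent.Lib.helper28.ReesTau Groth.Agent.Lib.helper28.ReesHyp
  Groth.Agent.Lib.helper11.IdealOfMono

theorem ringOf_chart_val {A : Type u} [CommRing A] (I : Ideal A) (a : A) (f : A) (hf : f ∈ I)
    (x : (chart I f hf : (Bl I).Opens)) :
    ((toOm (Rees.deg (reesAlgebra I)) (ofO (Rees.deg (reesAlgebra I))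
      (ringOf (bl I) (chart I f hf) a))).1 x).val =
      Localization.mk (algebraMap A (reesAlgebra I) a) 1 := by
  rw [ringOf_bl_chart]
  have h3 := ProjectiveSpectrum.Proj.awayToSection_apply (Rees.deg (reesAlgebra I)) (F I f hf)
    (toAway I f hf a) x
  refine h3.trans ?_
  rw [val_toAway, Localization.mk_one_eq_algebraMap, IsLocalization.map_eq, RingHom.id_apply]
  exact (Localization.mk_one_eq_algebraMap _).symm

variable {A : Type u} [CommRing A] {n : ℕ} (fs : Fin (n + 1) → A)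

theorem iSup_chart_fs : ⨆ j : Fin (n + 1), chart (II fs) (fs j) (fs_mem fs j) = ⊤ := by
  rw [eq_top_iff]
  intro x _
  obtain ⟨j, hj⟩ := exists_FF_notMem fs x
  exact Opens.mem_iSup.mpr ⟨j, (ProjectiveSpectrum.mem_basicOpen (AA fs) _ x).mpr hj⟩

theorem imgIdeal_chart' {A : Type u} [CommRing A] (I : Ideal A) (f : A) (hf : f ∈ I)
    (t : GrTwist.sectN (𝒜 := Rees.deg (reesAlgebra I)) (-1) (op ⊤))
    (ht : ∀ (x : ProjectiveSpectrum (Rees.deg (reesAlgebra I))) (hx : F I f hf ∉ x.asHomogeneousIdeal),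
      ((t.1 ⟨x, trivial⟩ : GrTwist.twistAt (Rees.deg (reesAlgebra I)) (-1) x) :
        GrTwist.Loc (Rees.deg (reesAlgebra I)) x) =
      Localization.mk (algebraMap A (reesAlgebra I) f) ⟨F I f hf, hx⟩) :
    imgIdeal (GrTwist.twist (Rees.deg (reesAlgebra I)) 1) (tHom (Rees.deg (reesAlgebra I)) t)
      (chart I f hf) = (Ideal.span {ringOf (bl I) (chart I f hf) f} :
        Ideal Γ(Proj (Rees.deg (reesAlgebra I)), chart I f hf)) := by
  have key := imgIdeal_basicOpen (Rees.deg (reesAlgebra I)) t (F I f hf) (F_mem I _ hf)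
    (ringOf (bl I) (chart I f hf) f)
  refine key fun x => ?_
  have hx : F I f hf ∉ x.1.asHomogeneousIdeal :=
    (ProjectiveSpectrum.mem_basicOpen (Rees.deg (reesAlgebra I)) _ x.1).mp x.2
  refine (ringOf_chart_val I f f hf x).trans ?_
  refine Eq.trans ?_ (congrArg (fun q => (Localization.mk (F I f hf) 1 :
    GrTwist.Loc (Rees.deg (reesAlgebra I)) x.1) * q) (ht x.1 hx).symm)
  show _ = Localization.mk _ _ * Localization.mk _ _
  rw [Localization.mk_mul, Localization.mk_eq_mk_iff, Localization.r_iff_exists]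
  refine ⟨1, ?_⟩
  simp only [OneMemClass.coe_one, one_mul]

instance instQC {A σ : Type u} [CommRing A] [SetLike σ A] [AddSubgroupClass σ A] (𝒜 : ℕ → σ)
    [GradedRing 𝒜] (k : ℤ) : (GrTwist.twist 𝒜 k).IsQuasicoherent :=
  twist_isQuasicoherent 𝒜 k

/-- **the image of `tHom` is the exceptional ideal** (general form) -/
theorem idealOfHom_eq' {A : Type u} [CommRing A] (I : Ideal A) {ι : Type*} (f : ι → A)
    (hf : ∀ i, f i ∈ I) (hcov : ⨆ i, chart I (f i) (hf i) = ⊤)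
    (t : GrTwist.sectN (𝒜 := Rees.deg (reesAlgebra I)) (-1) (op ⊤))
    (ht : ∀ (i : ι) (x : ProjectiveSpectrum (Rees.deg (reesAlgebra I)))
      (hx : F I (f i) (hf i) ∉ x.asHomogeneousIdeal),
      ((t.1 ⟨x, trivial⟩ : GrTwist.twistAt (Rees.deg (reesAlgebra I)) (-1) x) :
        GrTwist.Loc (Rees.deg (reesAlgebra I)) x) =
      Localization.mk (algebraMap A (reesAlgebra I) (f i)) ⟨F I (f i) (hf i), hx⟩) :
    idealOfHom (GrTwist.twist (Rees.deg (reesAlgebra I)) 1) (tHom (Rees.deg (reesAlgebra I)) t) =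
      (idl I).comap (bl I) := by
  refine Scheme.IdealSheafData.ext_of_iSup_eq_top
    (fun i => (⟨chart I (f i) (hf i), isAffineOpen_chart I (f i) (hf i)⟩ : (Bl I).affineOpens))
    hcov fun i => ?_
  rw [ideal_chart]
  exact imgIdeal_chart' I (f i) (hf i) t (ht i)

variable (hq : CAlgX.IsQuasiRegular fs)

theorem idealOfHom_eq :
    idealOfHom (GrTwist.twist (AA fs) 1) (tHom (AA fs) (tau fs)) =
      (idl (II fs)).comap (bl (II fs)) :=
  idealOfHom_eq' (II fs) fs (fs_mem fs) (iSup_chart_fs fs) (tau fs)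
    (fun j x hx => (tau_val fs x).trans (tauAt_eq fs x j hx))

include hq in
theorem mono_tauHom : Mono (tHom (AA fs) (tau fs)) :=
  mono_tHom (AA fs) (tau fs) (hyp fs hq).inj

/-- the exceptional ideal of the model blow-up, typed on `Proj (AA fs)` -/
noncomputable abbrev excIdeal : (Proj (AA fs)).IdealSheafData := (idl (II fs)).comap (bl (II fs))

include hq in
theorem exists_excIso : ∃ e : GrTwist.twist (AA fs) 1 ≅ ClSub.idealMod (excIdeal fs),
    e.hom ≫ ClSub.idealModι (excIdeal fs) = tHom (AA fs) (tau fs) :=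
  haveI := mono_tauHom fs hq
  ⟨isoOfEq (GrTwist.twist (AA fs) 1) (tHom (AA fs) (tau fs)) (excIdeal fs) (idealOfHom_eq fs),
    isoOfEq_hom_ι (GrTwist.twist (AA fs) 1) (tHom (AA fs) (tau fs)) (excIdeal fs)
      (idealOfHom_eq fs)⟩

/-- **`O(1) ≅ I·O_Bl`**: the twisting sheaf `O(1)` on the blow-up is the exceptional ideal. -/
noncomputable def excIso : GrTwist.twist (AA fs) 1 ≅ ClSub.idealMod (excIdeal fs) :=
  (exists_excIso fs hq).choose

theorem excIso_hom_ι :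
    (excIso fs hq).hom ≫ ClSub.idealModι (excIdeal fs) = tHom (AA fs) (tau fs) :=
  (exists_excIso fs hq).choose_spec

end rees

end Groth.Agent.Lib.helper28.BlowUpExc
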