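import Groth.Agent.Lib.Helper28.BlowUpCoh

/-!
# Cohomology of `O(k)`, `k ≥ -n`, on the blow-up of a quasi-regular ideal (helper28)

`A` Noetherian, `fs : Fin (n+1) → A` quasi-regular, `Bl = Proj (Rees I)`.
* `subsingleton_HH_push_int`: cohomology of `g_* O_{P^n_{A/I}}(k)` for all `k ∈ ℤ` (S0844);
* `subsingleton_HH_twist_int`: `H^p(Bl, O(k)) = 0` for `p > 0`, `k ≥ -n`.
-/

set_option autoImplicit false
set_option linter.unusedSectionVars false
universe u
open CategoryTheory CategoryTheory.Limits AlgebraicGeometry Opposite TopologicalSpace Polynomial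
open scoped HomogeneousIdeal

namespace Groth.Agent.Lib.helper28.BlowUpTwistNeg

open Groth.Agent.Lib.helper16.ReesBlowup Groth.Agent.Lib.helper28.ReesQuot
  Groth.Agent.Lib.helper28.TwistSES Groth.Agent.Lib.helper28.ReesTau
  Groth.Agent.Lib.helper28.ReesHyp Groth.Agent.Lib.Helper18 Groth.Agent.Lib.helper28.BlowUpCoh

variable {A : Type u} [CommRing A] {n : ℕ} (fs : Fin (n + 1) → A)
  (hq : CAlgX.IsQuasiRegular fs)

/-- `H^p(Bl, g_* O_{P^n_{A/I}}(k)) = 0` unless (`p = 0` and `k ≥ 0`) or (`p = n` and `k ≤ -n-1`) -/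
theorem subsingleton_HH_push_int (k : ℤ) (p : ℕ) (h₀ : ¬ (p = 0 ∧ 0 ≤ k))
    (hn : ¬ (p = n ∧ k ≤ -((n : ℤ) + 1))) :
    Subsingleton (Coh.HH (Proj (AA fs))
      ((Coh.push (Proj.map (psi fs hq) (ReesQuot.irrelevant_le fs hq))).obj
        (GrTwist.twist (CohB1.polyGrading n (A ⧸ II fs)) k)) p) := by
  have := isClosedImmersion_map fs hq
  rw [← Groth.Agent.Lib.Helper20.ClosedImmHH.subsingleton_iff_push_closed]
  exact Groth.Agent.S0844.result (A ⧸ II fs) n k p h₀ hn

include hq in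
theorem subsingleton_HH_twist_of_succ_int (k : ℤ) (p : ℕ) (h₀ : ¬ (p = 0 ∧ 0 ≤ k))
    (hn : ¬ (p = n ∧ k ≤ -((n : ℤ) + 1)))
    (h : Subsingleton (Coh.HH (Proj (AA fs)) (GrTwist.twist (AA fs) (k + 1)) p)) :
    Subsingleton (Coh.HH (Proj (AA fs)) (GrTwist.twist (AA fs) k) p) :=
  subsingleton_HH_middle (ses (hyp fs hq) k)
    (shortExact_ses (hyp fs hq) k) p h (subsingleton_HH_push_int fs hq k p h₀ hn)

variable [IsNoetherianRing A]

include hq in
/-- `H^p(Bl_I, O(k)) = 0` for all `k ≥ -n`, `p > 0` (`I` generated by `n+1` quasi-regular elements). -/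
theorem subsingleton_HH_twist_int (k : ℤ) (hk : -(n : ℤ) ≤ k) (p : ℕ) (hp : 0 < p) :
    Subsingleton (Coh.HH (Proj (AA fs)) (GrTwist.twist (AA fs) k) p) := by
  suffices H : ∀ m : ℕ, ∀ k : ℤ, -(n : ℤ) ≤ k → 0 ≤ k + m →
      Subsingleton (Coh.HH (Proj (AA fs)) (GrTwist.twist (AA fs) k) p) from
    H n k hk (by omega)
  intro m
  induction m with
  | zero =>
    intro k _ hk0
    obtain ⟨k', rfl⟩ := Int.eq_ofNat_of_zero_le (by simpa using hk0)
    exact subsingleton_HH_twist fs hq k' p hp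
  | succ m ih =>
    intro k hk hkm
    refine subsingleton_HH_twist_of_succ_int fs hq k p (fun h => by omega) (fun h => by omega) ?_
    exact ih (k + 1) (by omega) (by push_cast at hkm ⊢; omega)

end Groth.Agent.Lib.helper28.BlowUpTwistNeg
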