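import Groth.Agent.Lib.Helper28.BlowUpAffine
import Groth.Agent.Lib.Helper28.BlowUpExc
import Groth.Agent.Lib.Helper28.BlowUpTwistNeg
import Groth.Agent.Lib.Helper7.PullIdeal
import Groth.Agent.Lib.Helper7.IdealCartier
import Groth.Agent.Lib.Helper12.PullPic
import Groth.Agent.Lib.Helper12.PullAmple
import Groth.Agent.Lib.Lead.ModTensor
import Groth.Agent.Lib.Helper16.QCohPullback
import Groth.Agent.Lib.Helper28.TwistAll

/-!
# Blow-up of an affine Noetherian scheme in a quasi-regular ideal: twisted coefficients (helper28)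

* `subsingleton_HH_pullback_of_isIso`: cohomology vanishing is invariant under pull-back along an
  isomorphism of schemes;
* `exists_model`: a blow-up `b : B ⟶ X` of an affine scheme in `(fs)` is isomorphic to
  `Proj (Rees (fs))`, compatibly with the exceptional ideals;
* `nonempty_iso_pullback_twist`: the exceptional ideal module of `B` is the pull-back of `O(1)`;
* `affine_twist`: `H^p(B, J^{⊗ k}) = 0` (`p > 0`, `k ≥ 0`) and `H^p(B, L) = 0` for `L` inverse to `J`
  (at least two generators).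
-/

set_option autoImplicit false
set_option linter.unusedSectionVars false
set_option linter.style.haveILetI false
universe u
open CategoryTheory CategoryTheory.Limits AlgebraicGeometry Opposite TopologicalSpace
open Scheme.Modules

namespace Groth.Agent.Lib.helper28.BlowUpAffineTwist

section IsoPull

variable {Y Z : Scheme.{u}} (e : Y ⟶ Z) [IsIso e]

/-- the pushforward along an isomorphism of schemes is an equivalence -/
noncomputable def pushforwardEquivalence : Y.Modules ≌ Z.Modules :=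
  CategoryTheory.Equivalence.mk (pushforward e) (pushforward (inv e))
    ((pushforwardId Y).symm ≪≫ pushforwardCongr (IsIso.hom_inv_id e).symm ≪≫
      (pushforwardComp e (inv e)).symm)
    (pushforwardComp (inv e) e ≪≫ pushforwardCongr (IsIso.inv_hom_id e) ≪≫ pushforwardId Z)

theorem isIso_unit_of_isIso (N : Z.Modules) :
    IsIso ((pullbackPushforwardAdjunction e).unit.app N) := by
  haveI : (pushforward e).IsEquivalence := (pushforwardEquivalence e).isEquivalence_functor
  haveI : (Scheme.Modules.pullback e).IsEquivalence :=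
    (pullbackPushforwardAdjunction e).isEquivalence_left_of_isEquivalence_right
  infer_instance

/-- cohomology vanishing is invariant under pullback along an isomorphism of schemes -/
theorem subsingleton_HH_pullback_of_isIso (N : Z.Modules) [N.IsQuasicoherent] (p : ℕ)
    (h : Subsingleton (Coh.HH Z N p)) :
    Subsingleton (Coh.HH Y ((Scheme.Modules.pullback e).obj N) p) := by
  haveI : ((Scheme.Modules.pullback e).obj N).IsQuasicoherent :=
    Groth.Agent.Lib.helper16.QCohPullback.isQuasicoherent_pullback _ N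
  haveI := isIso_unit_of_isIso e N
  rw [Groth.Agent.Lib.Helper18.HH.subsingleton_iff_push e]
  have h' : Subsingleton (Coh.HH Z ((𝟭 Z.Modules).obj N) p) := h
  exact (Groth.Agent.Lib.Helper18.P1Euler.hhEquivOfIso
    (asIso ((Scheme.Modules.pullbackPushforwardAdjunction e).unit.app N)) p).symm.subsingleton

end IsoPull

section generic

variable {R A : Type u} [CommRing R] [CommRing A] [Algebra R A] (𝒜 : ℕ → Submodule R A)
  [GradedAlgebra 𝒜]
  (hcov : ∀ x : ProjectiveSpectrum 𝒜, ∃ f ∈ 𝒜 1, f ∉ x.asHomogeneousIdeal)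

include hcov in
theorem isInvertible_grTwist (k : ℤ) : PicF.IsInvertible (GrTwist.twist 𝒜 k) :=
  Groth.Agent.Lib.helper28.TwistAll.isInvertible_twist 𝒜 hcov k

/-- `O(k) ≅ O(1)^{⊗ k}` -/
noncomputable def grTwistPowIso (k : ℕ) :
    GrTwist.twist 𝒜 (k : ℤ) ≅ CohB1.tensorPow (GrTwist.twist 𝒜 1) k :=
  Groth.Agent.Lib.helper28.TwistAll.twistPowIso 𝒜 hcov k

include hcov in
theorem isInverseOf_grTwist : ClSub.IsInverseOf (GrTwist.twist 𝒜 1) (GrTwist.twist 𝒜 (-1)) :=
  ⟨Groth.Agent.Lib.helper28.TwistTensor.twistTensorIso 𝒜 hcov 1 (-1) ≪≫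
    eqToIso (by norm_num) ≪≫ (Groth.Agent.Lib.helper28.TwistZero.twistZeroIso 𝒜).symm⟩

end generic

section model

open Groth.Agent.Lib.helper16.ReesBlowup Groth.Agent.Lib.helper28.ReesQuot
  Groth.Agent.Lib.helper28.ReesTau Groth.Agent.Lib.helper16.BlowUpProper
  Groth.Agent.Lib.helper28.BlowUpExc

/-- an ideal sheaf on an affine scheme is the pull-back of the ideal sheaf of its global ideal -/
theorem idl_comap_isoSpec (X : Scheme.{u}) [IsAffine X] (𝓘 : X.IdealSheafData) :
    (idl (𝓘.ideal ⟨⊤, isAffineOpen_top X⟩)).comap X.isoSpec.hom = 𝓘 := by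
  apply Scheme.IdealSheafData.ext_of_isAffine
  rw [ideal_comap_idl]
  have : ringOf (A := Γ(X, ⊤)) X.isoSpec.hom ⊤ = RingHom.id _ := by
    have h3 := toSpecΓ_ringOf_top (A := Γ(X, ⊤)) X.isoSpec.hom
    have h4 : X.toSpecΓ ≫ Spec.map (CommRingCat.ofHom (ringOf (A := Γ(X, ⊤)) X.isoSpec.hom ⊤)) =
        X.toSpecΓ ≫ Spec.map (𝟙 _) := by
      rw [Spec.map_id, Category.comp_id]; exact h3
    have h5 := Spec.map_injective ((cancel_epi X.toSpecΓ).mp h4)
    exact congrArg CommRingCat.Hom.hom h5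
  rw [this, Ideal.map_id]

/-- **comparison with the model**: a blow-up `b : B ⟶ X` of an affine scheme in the ideal `(fs)`
is isomorphic to `Proj (Rees (fs))`, compatibly with the exceptional ideals. -/
theorem exists_model (X : Scheme.{u}) [IsAffine X] (𝓘 : X.IdealSheafData) {n : ℕ}
    (fs : Fin (n + 1) → Γ(X, ⊤)) (hI : 𝓘.ideal ⟨⊤, isAffineOpen_top X⟩ = II fs)
    {B : Scheme.{u}} (b : B ⟶ X) (hb : BlowUp.IsBlowUp b 𝓘) :
    ∃ e : B ⟶ Bl (II fs), IsIso e ∧ e ≫ bl (II fs) = b ≫ X.isoSpec.hom ∧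
      (excIdeal fs).comap e = 𝓘.comap b := by
  have hb' : BlowUp.IsBlowUp (pullback.fst X.isoSpec.hom (bl (II fs))) 𝓘 := by
    rw [← hI]
    exact isBlowUp_pullback_fst_isoSpec X 𝓘
  obtain ⟨θ, hθ, -⟩ := hb'.2 B b hb.1
  have hθ' : θ ≫ pullback.fst X.isoSpec.hom (bl (II fs)) = b := hθ
  have : IsIso θ := Groth.Agent.S17083.isIso_of_isBlowUp _ _ _ hb hb' θ hθ'
  have : IsIso (pullback.snd X.isoSpec.hom (bl (II fs))) := inferInstance
  have he : (θ ≫ pullback.snd X.isoSpec.hom (bl (II fs))) ≫ bl (II fs) = b ≫ X.isoSpec.hom := by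
    rw [Category.assoc, ← pullback.condition, ← Category.assoc, hθ']
  refine ⟨θ ≫ pullback.snd X.isoSpec.hom (bl (II fs)), inferInstance, he, ?_⟩
  have h1 : (excIdeal fs).comap (θ ≫ pullback.snd X.isoSpec.hom (bl (II fs))) =
      (idl (II fs)).comap ((θ ≫ pullback.snd X.isoSpec.hom (bl (II fs))) ≫ bl (II fs)) :=
    (Scheme.IdealSheafData.comap_comp _ _ _).symm
  rw [h1, he, Scheme.IdealSheafData.comap_comp, ← hI, idl_comap_isoSpec]

/-- the exceptional ideal module of any blow-up of an affine Noetherian scheme in `(fs)` is the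
pull-back of `O(1)` from the model -/
theorem nonempty_iso_pullback_twist (X : Scheme.{u}) [IsAffine X] (𝓘 : X.IdealSheafData) {n : ℕ}
    (fs : Fin (n + 1) → Γ(X, ⊤)) (hq : CAlgX.IsQuasiRegular fs)
    {B : Scheme.{u}} (b : B ⟶ X) (hb : BlowUp.IsBlowUp b 𝓘) (e : B ⟶ Bl (II fs))
    (he : (excIdeal fs).comap e = 𝓘.comap b) :
    Nonempty (ClSub.idealMod (𝓘.comap b) ≅
      (Scheme.Modules.pullback e).obj (GrTwist.twist (AA fs) 1)) := by
  have h1 : PicF.IsInvertible (ClSub.idealMod (excIdeal fs)) :=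
    Groth.Agent.Lib.helper7.IdealCartier.invertible_of_effCartier _ (isEffCartier_comap_bl (II fs))
  have h2 : PicF.IsInvertible (ClSub.idealMod ((excIdeal fs).comap e)) := by
    rw [he]
    exact Groth.Agent.Lib.helper7.IdealCartier.invertible_of_effCartier _ hb.1
  exact ⟨(eqToIso (congrArg ClSub.idealMod he)).symm ≪≫
    (Groth.Agent.Lib.helper7.PullIdeal.pullIdealIso e (excIdeal fs) h1 h2).symm ≪≫
    (Scheme.Modules.pullback e).mapIso (excIso fs hq).symm⟩

open Groth.Agent.Lib.Lead.ModTensor in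
/-- **Blow-up of an affine Noetherian scheme in a quasi-regular ideal, twisted coefficients**:
`H^p(B, J^{⊗ k}) = 0` for `p > 0`, `k ≥ 0` (`J` the exceptional ideal), and `H^p(B, L) = 0` for
`p > 0` and `L` an inverse of `J`, if the ideal has at least two generators. -/
theorem affine_twist (X : Scheme.{u}) [IsAffine X] [IsNoetherianRing Γ(X, ⊤)]
    (𝓘 : X.IdealSheafData) {n : ℕ} (fs : Fin (n + 1) → Γ(X, ⊤)) (hq : CAlgX.IsQuasiRegular fs)
    (hI : 𝓘.ideal ⟨⊤, isAffineOpen_top X⟩ = II fs) {B : Scheme.{u}} (b : B ⟶ X)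
    (hb : BlowUp.IsBlowUp b 𝓘) :
    (∀ k p : ℕ, 0 < p →
      Subsingleton (Coh.HH B (CohB1.tensorPow (ClSub.idealMod (𝓘.comap b)) k) p)) ∧
    (1 ≤ n → ∀ L : B.Modules, ClSub.IsInverseOf L (ClSub.idealMod (𝓘.comap b)) →
      ∀ p : ℕ, 0 < p → Subsingleton (Coh.HH B L p)) := by
  obtain ⟨e, hiso, -, he⟩ := exists_model X 𝓘 fs hI b hb
  obtain ⟨ε⟩ := nonempty_iso_pullback_twist X 𝓘 fs hq b hb e he
  have hinv1 : PicF.IsInvertible (GrTwist.twist (AA fs) 1) := isInvertible_grTwist (AA fs) (hcov fs) 1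
  constructor
  · intro k p hp
    have i1 : CohB1.tensorPow (ClSub.idealMod (𝓘.comap b)) k ≅
        (Scheme.Modules.pullback e).obj (GrTwist.twist (AA fs) (k : ℤ)) :=
      tensorPowIso ε k ≪≫
        (Groth.Agent.Lib.helper12.PullAmple.pullTensorPowIso e hinv1 k).symm ≪≫
        (Scheme.Modules.pullback e).mapIso (grTwistPowIso (AA fs) (hcov fs) k).symm
    have h1 := subsingleton_HH_pullback_of_isIso e (GrTwist.twist (AA fs) (k : ℤ)) p
      (Groth.Agent.Lib.helper28.BlowUpCoh.subsingleton_HH_twist fs hq k p hp)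
    exact (Groth.Agent.Lib.Helper18.P1Euler.hhEquivOfIso i1 p).subsingleton_congr.mpr h1
  · intro hn L hL p hp
    have h2 : ClSub.IsInverseOf ((Scheme.Modules.pullback e).obj (GrTwist.twist (AA fs) 1))
        ((Scheme.Modules.pullback e).obj (GrTwist.twist (AA fs) (-1))) :=
      Groth.Agent.Lib.helper12.PullPic.isInverseOf_pullback' e hinv1
        (isInverseOf_grTwist (AA fs) (hcov fs))
    have h3 : ClSub.IsInverseOf (ClSub.idealMod (𝓘.comap b))
        ((Scheme.Modules.pullback e).obj (GrTwist.twist (AA fs) (-1))) :=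
      isInverseOf_of_iso ε.symm (Iso.refl _) h2
    obtain ⟨i2⟩ := isInverseOf_unique (isInverseOf_symm hL) h3
    have h1 := subsingleton_HH_pullback_of_isIso e (GrTwist.twist (AA fs) (-1)) p
      (Groth.Agent.Lib.helper28.BlowUpTwistNeg.subsingleton_HH_twist_int fs hq (-1)
        (by omega) p hp)
    exact (Groth.Agent.Lib.Helper18.P1Euler.hhEquivOfIso i2 p).subsingleton_congr.mpr h1

end model

end Groth.Agent.Lib.helper28.BlowUpAffineTwist
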