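import Groth.Agent.Lib.Helper28.ReesProj
import Groth.Agent.Lib.Helper28.ReesFlat

/-!
# Affine charts of an arbitrary blowing up (helper28)

`exists_chart`: if `b : X' ⟶ X` is a blowing up of `𝓘`, `U ⊆ X` is an affine open and
`x' ∈ b⁻¹(U)`, there are `a ∈ 𝓘(U)`, an affine open `x' ∈ W' ⊆ b⁻¹(U)` and a ring isomorphism
`A[I/a] ≃ Γ(X', W')` (where `A = Γ(X, U)`, `I = 𝓘(U)`) compatible with the maps from `A`.
-/

set_option autoImplicit false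
set_option linter.style.haveILetI false
set_option linter.unusedTactic false
universe u

open CategoryTheory CategoryTheory.Limits AlgebraicGeometry Opposite TopologicalSpace

namespace Groth.Agent.Lib.helper28.BlowUpChart

open Groth.Agent.Lib.helper28.ReesAlg Groth.Agent.Lib.helper28.ReesProj
  Groth.Agent.Lib.helper28.ReesFlat
  Groth.Agent.Lib.helper16.ReesBlowup Groth.Agent.Lib.helper16.BlowUpProper

variable {X : Scheme.{u}} (𝓘 : X.IdealSheafData)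

/-- `ringOf` of the canonical isomorphism `U ≅ Spec Γ(X, U)` is the canonical identification. -/
theorem ringOf_isoSpec (U : X.Opens) (hU : IsAffineOpen U) :
    ringOf hU.isoSpec.hom (⊤ : (U : Scheme.{u}).Opens) =
      (U.ι.appLE U ⊤ (by rw [Scheme.Opens.ι_preimage_self])).hom := by
  haveI : IsAffine (U : Scheme.{u}) := hU
  have hle : (⊤ : (U : Scheme.{u}).Opens) ≤ U.ι ⁻¹ᵁ U := by
    rw [Scheme.Opens.ι_preimage_self]
  refine ringOf_eq _ _ (isAffineOpen_top _) (U.ι.appLE U ⊤ hle) ?_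
  rw [Scheme.Opens.toSpecΓ_top, IsAffineOpen.isoSpec_hom, Scheme.Opens.toSpecΓ, Category.assoc]
  congr 3
  simp only [Scheme.Hom.appLE, Scheme.Opens.topIso_inv, Scheme.Opens.ι_app]
  rw [Scheme.Opens.toScheme_presheaf_map]
  exact ((X.presheaf.map_comp _ _).symm.trans (congrArg X.presheaf.map (Subsingleton.elim _ _))).symm

/-- For `q : Y ⟶ U`, `ringOf (q ≫ isoSpec)` is `appLE` of `q ≫ U.ι`. -/
theorem ringOf_comp_isoSpec {Y : Scheme.{u}} (U : X.Opens) (hU : IsAffineOpen U)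
    (q : Y ⟶ (U : Scheme.{u})) (W : Y.Opens) :
    ringOf (q ≫ hU.isoSpec.hom) W =
      ((q ≫ U.ι).appLE U W (by
        rw [Scheme.Hom.comp_preimage, Scheme.Opens.ι_preimage_self]; exact le_top)).hom := by
  rw [ringOf_comp q hU.isoSpec.hom ⊤ W le_top, ringOf_isoSpec, ← CommRingCat.hom_comp,
    Scheme.Hom.appLE_comp_appLE]

/-- `appLE` of `j ≫ f` for an open immersion `j`. -/
theorem appLE_comp_of_isOpenImmersion {Y X' : Scheme.{u}} (j : Y ⟶ X') [IsOpenImmersion j]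
    (f : X' ⟶ X) (U : X.Opens) (W : Y.Opens) (e : W ≤ (j ≫ f) ⁻¹ᵁ U) :
    (j ≫ f).appLE U W e =
      f.appLE U (j ''ᵁ W) (by
        rintro _ ⟨y, hy, rfl⟩
        exact e hy) ≫ (j.appIso W).hom := by
  rw [Scheme.Hom.appIso_hom', Scheme.Hom.appLE_comp_appLE]

theorem appLE_congr_hom {Y : Scheme.{u}} {f f' : Y ⟶ X} (h : f = f') (U : X.Opens) (W : Y.Opens)
    (e : W ≤ f ⁻¹ᵁ U) : f.appLE U W e = f'.appLE U W (h ▸ e) := by
  subst h; rfl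

/-- **Affine charts of a blowing up.** -/
theorem exists_chart {X' : Scheme.{u}} (b : X' ⟶ X) (hb : BlowUp.IsBlowUp b 𝓘)
    (U : X.Opens) (hU : IsAffineOpen U) (x' : X') (hx' : x' ∈ b ⁻¹ᵁ U) :
    ∃ (a : Γ(X, U)) (ha : a ∈ IU 𝓘 U hU) (W' : X'.Opens) (_ : IsAffineOpen W')
      (hle : W' ≤ b ⁻¹ᵁ U) (θ : C (IU 𝓘 U hU) a ha ≃+* Γ(X', W')),
      x' ∈ W' ∧ θ.toRingHom.comp (toAway (IU 𝓘 U hU) a ha) = (b.appLE U W' hle).hom := by
  have hres : BlowUp.IsBlowUp (b ∣_ U) (𝓘.comap U.ι) := isBlowUp_morphismRestrict 𝓘 b hb U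
  have hbl : BlowUp.IsBlowUp (bl (IU 𝓘 U hU) ≫ hU.isoSpec.inv) (𝓘.comap U.ι) := by
    have h2 := isBlowUp_comp_iso _ _ (isBlowUp_bl (I := IU 𝓘 U hU)) hU.isoSpec.symm
    rw [← idl_comap 𝓘 U hU]
    exact h2
  obtain ⟨φ, hφ, -⟩ := hbl.2 _ (b ∣_ U) hres.1
  haveI : IsIso φ := Groth.Agent.S17083.isIso_of_isBlowUp _ _ _ hres hbl φ hφ
  have hφ' : φ ≫ bl (IU 𝓘 U hU) = (b ∣_ U) ≫ hU.isoSpec.hom := by
    rw [← hφ, Category.assoc, Category.assoc, Iso.inv_hom_id, Category.comp_id]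
  let y : ((b ⁻¹ᵁ U : X'.Opens) : Scheme.{u}) := ⟨x', hx'⟩
  have hy : φ y ∈ ⨆ i : IU 𝓘 U hU, chart (IU 𝓘 U hU) i.1 i.2 := by rw [iSup_chart]; trivial
  obtain ⟨⟨a, ha⟩, hya⟩ := Opens.mem_iSup.mp hy
  let W'' : ((b ⁻¹ᵁ U : X'.Opens) : Scheme.{u}).Opens := φ ⁻¹ᵁ chart (IU 𝓘 U hU) a ha
  have hW'' : IsAffineOpen W'' := (isAffineOpen_chart (IU 𝓘 U hU) a ha).preimage_of_isIso φ
  let W' : X'.Opens := (b ⁻¹ᵁ U).ι ''ᵁ W''
  have hW' : IsAffineOpen W' := hW''.image_of_isOpenImmersion _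
  have hle : W' ≤ b ⁻¹ᵁ U := by
    rintro _ ⟨z, -, rfl⟩
    exact z.2
  haveI := isIso_awayToSection (IU 𝓘 U hU) a ha
  let θ₀ : CommRingCat.of (C (IU 𝓘 U hU) a ha) ≅ Γ(X', W') :=
    asIso (Proj.awayToSection (Rees.deg (reesAlgebra (IU 𝓘 U hU))) (F (IU 𝓘 U hU) a ha)) ≪≫
      asIso (φ.app (chart (IU 𝓘 U hU) a ha)) ≪≫ ((b ⁻¹ᵁ U).ι.appIso W'').symm
  refine ⟨a, ha, W', hW', hle, θ₀.commRingCatIsoToRingEquiv, ⟨y, hya, rfl⟩, ?_⟩
  -- compatibility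
  have e1 : ringOf (φ ≫ bl (IU 𝓘 U hU)) W'' =
      (φ.app (chart (IU 𝓘 U hU) a ha)).hom.comp
        ((Proj.awayToSection (Rees.deg (reesAlgebra (IU 𝓘 U hU))) (F (IU 𝓘 U hU) a ha)).hom.comp
          (toAway (IU 𝓘 U hU) a ha)) := by
    rw [ringOf_comp φ (bl (IU 𝓘 U hU)) (chart (IU 𝓘 U hU) a ha) W'' le_rfl, ringOf_bl_chart,
      Scheme.Hom.appLE_eq_app]
  have e2 : ringOf (φ ≫ bl (IU 𝓘 U hU)) W'' =
      (b.appLE U W' hle ≫ ((b ⁻¹ᵁ U).ι.appIso W'').hom).hom := by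
    rw [hφ', ringOf_comp_isoSpec, appLE_congr_hom (morphismRestrict_ι b U),
      appLE_comp_of_isOpenImmersion]
  ext x
  have e3 := RingHom.congr_fun (e1.symm.trans e2) x
  simp only [RingHom.comp_apply, CommRingCat.hom_comp] at e3
  change ((b ⁻¹ᵁ U).ι.appIso W'').inv.hom _ = _
  erw [e3]
  exact RingHom.congr_fun (congrArg CommRingCat.Hom.hom ((b ⁻¹ᵁ U).ι.appIso W'').hom_inv_id) _

end Groth.Agent.Lib.helper28.BlowUpChart
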