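import Groth.Agent.Lib.Helper28.BlowUpChart
import Groth.Agent.Lib.Helper28.ReesPres

/-!
# Affine charts of a blowing up attached to generators (helper28)

`exists_chart_of_span`: as `BlowUpChart.exists_chart`, but for generators `f_1, …, f_r` of `𝓘(U)`
the chart can be chosen of the form `A[I/f_i]`.
-/

set_option autoImplicit false
set_option linter.style.haveILetI false
set_option linter.unusedTactic false
universe u

open CategoryTheory CategoryTheory.Limits AlgebraicGeometry Opposite TopologicalSpace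

namespace Groth.Agent.Lib.helper28.BlowUpChart

open Groth.Agent.Lib.helper28.ReesAlg Groth.Agent.Lib.helper28.ReesProj
  Groth.Agent.Lib.helper28.ReesFlat
  Groth.Agent.Lib.helper16.ReesBlowup Groth.Agent.Lib.helper16.BlowUpProper

section alg

variable {A : Type u} [CommRing A] (I : Ideal A) {r : ℕ} (f : Fin r → A) (hmem : ∀ j, f j ∈ I)

theorem irrelevant_le_span_of_span (hspan : I ≤ Ideal.span (Set.range f)) :
    (HomogeneousIdeal.irrelevant (Rees.deg (reesAlgebra I))).toIdeal ≤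
      Ideal.span (Set.range fun j : Fin r => F I (f j) (hmem j)) := by
  refine (irrelevant_le_span I).trans ?_
  rw [Ideal.span_le]
  rintro _ ⟨⟨x, hx⟩, rfl⟩
  have key : ∀ y ∈ Ideal.span (Set.range f), ∃ hy : y ∈ I ^ 1,
      mon I 1 y hy ∈ Ideal.span (Set.range fun j : Fin r => F I (f j) (hmem j)) := by
    intro y hy
    refine Submodule.span_induction (p := fun y _ => ∃ hy : y ∈ I ^ 1,
      mon I 1 y hy ∈ Ideal.span (Set.range fun j : Fin r => F I (f j) (hmem j))) ?_ ?_ ?_ ?_ hy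
    · rintro _ ⟨j, rfl⟩
      exact ⟨by simpa using hmem j, Ideal.subset_span ⟨j, rfl⟩⟩
    · refine ⟨zero_mem _, ?_⟩
      rw [(mon_eq_zero_iff I 1 0 (zero_mem _)).mpr rfl]
      exact zero_mem _
    · rintro x y _ _ ⟨hx, hx'⟩ ⟨hy, hy'⟩
      refine ⟨add_mem hx hy, ?_⟩
      rw [mon_add I 1 x y hx hy]
      exact add_mem hx' hy'
    · rintro c x _ ⟨hx, hx'⟩
      change ∃ hy : c * x ∈ I ^ 1, mon I 1 (c * x) hy ∈ _
      refine ⟨Ideal.mul_mem_left _ _ hx, ?_⟩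
      rw [mon_smul I 1 c x hx]
      exact Ideal.mul_mem_left _ _ hx'
  obtain ⟨_, h⟩ := key x (hspan hx)
  exact h

theorem iSup_chart_of_span (hspan : I ≤ Ideal.span (Set.range f)) :
    ⨆ j : Fin r, chart I (f j) (hmem j) = ⊤ :=
  Proj.iSup_basicOpen_eq_top _ _ (irrelevant_le_span_of_span I f hmem hspan)

end alg

variable {X : Scheme.{u}} (𝓘 : X.IdealSheafData)

/-- **Affine charts of a blowing up, for given generators.** -/
theorem exists_chart_of_span {X' : Scheme.{u}} (b : X' ⟶ X) (hb : BlowUp.IsBlowUp b 𝓘)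
    (U : X.Opens) (hU : IsAffineOpen U) {r : ℕ} (f : Fin r → Γ(X, U))
    (hmem : ∀ j, f j ∈ IU 𝓘 U hU) (hspan : IU 𝓘 U hU ≤ Ideal.span (Set.range f))
    (x' : X') (hx' : x' ∈ b ⁻¹ᵁ U) :
    ∃ (i : Fin r) (W' : X'.Opens) (_ : IsAffineOpen W')
      (hle : W' ≤ b ⁻¹ᵁ U) (θ : C (IU 𝓘 U hU) (f i) (hmem i) ≃+* Γ(X', W')),
      x' ∈ W' ∧ θ.toRingHom.comp (toAway (IU 𝓘 U hU) (f i) (hmem i)) = (b.appLE U W' hle).hom := by
  have hres : BlowUp.IsBlowUp (b ∣_ U) (𝓘.comap U.ι) := isBlowUp_morphismRestrict 𝓘 b hb U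
  have hbl : BlowUp.IsBlowUp (bl (IU 𝓘 U hU) ≫ hU.isoSpec.inv) (𝓘.comap U.ι) := by
    have h2 := isBlowUp_comp_iso _ _ (isBlowUp_bl (I := IU 𝓘 U hU)) hU.isoSpec.symm
    rw [← idl_comap 𝓘 U hU]
    exact h2
  obtain ⟨φ, hφ, -⟩ := hbl.2 _ (b ∣_ U) hres.1
  haveI : IsIso φ := Groth.Agent.S17083.isIso_of_isBlowUp _ _ _ hres hbl φ hφ
  have hφ' : φ ≫ bl (IU 𝓘 U hU) = (b ∣_ U) ≫ hU.isoSpec.hom := by
    rw [← hφ, Category.assoc, Category.assoc, Iso.inv_hom_id, Category.comp_id]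
  let y : ((b ⁻¹ᵁ U : X'.Opens) : Scheme.{u}) := ⟨x', hx'⟩
  have hy : φ y ∈ ⨆ j : Fin r, chart (IU 𝓘 U hU) (f j) (hmem j) := by
    rw [iSup_chart_of_span _ f hmem hspan]; trivial
  obtain ⟨i, hya⟩ := Opens.mem_iSup.mp hy
  obtain ⟨a, ha, haf⟩ : ∃ (a : Γ(X, U)) (ha : a ∈ IU 𝓘 U hU), a = f i := ⟨f i, hmem i, rfl⟩
  let W'' : ((b ⁻¹ᵁ U : X'.Opens) : Scheme.{u}).Opens := φ ⁻¹ᵁ chart (IU 𝓘 U hU) (f i) (hmem i)
  have hW'' : IsAffineOpen W'' :=
    (isAffineOpen_chart (IU 𝓘 U hU) (f i) (hmem i)).preimage_of_isIso φ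
  let W' : X'.Opens := (b ⁻¹ᵁ U).ι ''ᵁ W''
  have hW' : IsAffineOpen W' := hW''.image_of_isOpenImmersion _
  have hle : W' ≤ b ⁻¹ᵁ U := by
    rintro _ ⟨z, -, rfl⟩
    exact z.2
  haveI := isIso_awayToSection (IU 𝓘 U hU) (f i) (hmem i)
  let θ₀ : CommRingCat.of (C (IU 𝓘 U hU) (f i) (hmem i)) ≅ Γ(X', W') :=
    asIso (Proj.awayToSection (Rees.deg (reesAlgebra (IU 𝓘 U hU)))
        (F (IU 𝓘 U hU) (f i) (hmem i))) ≪≫
      asIso (φ.app (chart (IU 𝓘 U hU) (f i) (hmem i))) ≪≫ ((b ⁻¹ᵁ U).ι.appIso W'').symm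
  refine ⟨i, W', hW', hle, θ₀.commRingCatIsoToRingEquiv, ⟨y, hya, rfl⟩, ?_⟩
  have e1 : ringOf (φ ≫ bl (IU 𝓘 U hU)) W'' =
      (φ.app (chart (IU 𝓘 U hU) (f i) (hmem i))).hom.comp
        ((Proj.awayToSection (Rees.deg (reesAlgebra (IU 𝓘 U hU)))
          (F (IU 𝓘 U hU) (f i) (hmem i))).hom.comp
          (toAway (IU 𝓘 U hU) (f i) (hmem i))) := by
    rw [ringOf_comp φ (bl (IU 𝓘 U hU)) (chart (IU 𝓘 U hU) (f i) (hmem i)) W'' le_rfl,
      ringOf_bl_chart, Scheme.Hom.appLE_eq_app]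
  have e2 : ringOf (φ ≫ bl (IU 𝓘 U hU)) W'' =
      (b.appLE U W' hle ≫ ((b ⁻¹ᵁ U).ι.appIso W'').hom).hom := by
    rw [hφ', ringOf_comp_isoSpec, appLE_congr_hom (morphismRestrict_ι b U),
      appLE_comp_of_isOpenImmersion]
  ext x
  have e3 := RingHom.congr_fun (e1.symm.trans e2) x
  simp only [RingHom.comp_apply, CommRingCat.hom_comp] at e3
  change ((b ⁻¹ᵁ U).ι.appIso W'').inv.hom _ = _
  erw [e3]
  exact RingHom.congr_fun (congrArg CommRingCat.Hom.hom ((b ⁻¹ᵁ U).ι.appIso W'').hom_inv_id) _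

end Groth.Agent.Lib.helper28.BlowUpChart
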