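import Groth.Agent.Lib.Helper28.BlowUpDirect
import Groth.Agent.Lib.Helper16.FLF5
import Groth.Agent.Lib.Helper20.AcyclicEmb
import Groth.Agent.Lib.Helper11.HUOpen

/-!
# Blow-up along a regularly embedded centre: finite locally free coefficients (helper28)

* `subsingleton_HH_freeMod`: `H^p(X, O^n) = 0` if `H^p(X, O) = 0`;
* `subsingleton_HHon_pullback_of_free`: `H^p(σ⁻¹D, σ^*E) = 0` if `H^p(σ⁻¹D, O) = 0` and `E` is free on `W ⊇ D`;
* `main_flf`: under the hypotheses of `BlowUpDirect.main` and `E` finite locally free on `Y`: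
  `E → σ_* σ^* E` is an isomorphism and `R^p σ_* σ^* E = 0` for `p > 0`.
-/

set_option autoImplicit false
set_option linter.unusedSectionVars false
universe u
open CategoryTheory CategoryTheory.Limits AlgebraicGeometry Opposite TopologicalSpace
open Scheme.Modules

namespace Groth.Agent.Lib.helper28.BlowUpDirectFLF

open Groth.Agent.Lib.helper28.BlowUpDirect Groth.Agent.Lib.helper11.InvMod
  Groth.Agent.Lib.helper16.FLF

/-- cohomology of a free module of finite rank vanishes if that of `O` does -/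
theorem subsingleton_HH_freeMod (X : Scheme.{u}) (n p : ℕ)
    (h : Subsingleton (Coh.HH X (Coh.structureModule X) p)) :
    Subsingleton (Coh.HH X (FlatMod.freeMod X n) p) := by
  have : HasFiniteBiproducts X.Modules := HasFiniteBiproducts.of_hasFiniteProducts
  have h1 := Groth.Agent.Lib.Helper20.AcyclicEmb.subsingleton_HH_biproduct
    (fun _ : Fin n => Coh.structureModule X) p (fun _ => h)
  exact (Groth.Agent.Lib.Helper18.P1Euler.hhEquivOfIso
    (biproduct.isoCoproduct (fun _ : Fin n => Coh.structureModule X)) p).symm.subsingleton_congr.mpr h1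

/-- vanishing of the cohomology of `σ^* E` over `σ⁻¹ D` when `E` is free on `W ⊇ D` -/
theorem subsingleton_HHon_pullback_of_free {X Y : Scheme.{u}} (σ : X ⟶ Y) (E : Y.Modules)
    (D W : Y.Opens) (hDW : D ≤ W) (n : ℕ) (e : E.restrict W.ι ≅ FlatMod.freeMod (↑W) n) (p : ℕ)
    (h : Subsingleton (Coh.HHon X (Coh.structureModule X) (σ ⁻¹ᵁ D) p)) :
    Subsingleton (Coh.HHon X ((Scheme.Modules.pullback σ).obj E) (σ ⁻¹ᵁ D) p) := by
  have eD : E.restrict D.ι ≅ FlatMod.freeMod (↑D) n :=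
    (Groth.Agent.Lib.helper11.InvMod.restrictRestrictIso E hDW).symm ≪≫ (restrictFunctor (Y.homOfLE hDW)).mapIso e ≪≫
      restrictFreeModIso (Y.homOfLE hDW) n
  have e1 : ((Scheme.Modules.pullback σ).obj E).restrict (σ ⁻¹ᵁ D).ι ≅
      FlatMod.freeMod (↑(σ ⁻¹ᵁ D)) n :=
    pullbackRestrictIso σ E D ≪≫ (Scheme.Modules.pullback (σ ∣_ D)).mapIso eD ≪≫
      pullbackFreeModIso (σ ∣_ D) n
  obtain ⟨e2⟩ := isTrivOn_structureModule (X := X) (σ ⁻¹ᵁ D)
  have h2 : Subsingleton (Coh.HH (↑(σ ⁻¹ᵁ D)) (Coh.structureModule (↑(σ ⁻¹ᵁ D))) p) :=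
    (Groth.Agent.Lib.Helper18.P1Euler.hhEquivOfIso e2 p).symm.subsingleton_congr.mpr h
  exact (Groth.Agent.Lib.Helper18.P1Euler.hhEquivOfIso e1 p).subsingleton_congr.mpr
    (subsingleton_HH_freeMod _ n p h2)

/-- **Direct images of `σ^* E`, `E` finite locally free, under a blow-up along a regularly embedded
centre**: `E → σ_* σ^* E` is an isomorphism and `R^p σ_* σ^* E = 0` for `p > 0`. -/
theorem main_flf {X Y : Scheme.{u}} (φ : X ⟶ Y) (𝓘 : Y.IdealSheafData)
    (hφ : BlowUp.IsBlowUp φ 𝓘) (hgood : ∀ y : Y, GoodAt 𝓘 y) (E : Y.Modules)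
    (hE : FlatMod.IsFinLocFree E) :
    IsIso ((Scheme.Modules.pullbackPushforwardAdjunction φ).unit.app E) ∧
      ∀ p : ℕ, 0 < p →
        IsZero ((Coh.RpushAb φ p).obj (Coh.toAb ((Scheme.Modules.pullback φ).obj E))) := by
  have := isProper_of_goodAt φ 𝓘 hφ hgood
  refine ⟨Groth.Agent.Lib.helper11.PullUnit.isIso_unit_of_isFinLocFree φ
    (main φ 𝓘 hφ hgood).1 E hE, fun p hp => ?_⟩
  have hqc : ((Scheme.Modules.pullback φ).obj E).IsQuasicoherent :=
    isQuasicoherent_of_isFinLocFree _ (isFinLocFree_pullback φ hE)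
  refine Groth.Agent.Lib.helper11.S0002T3.isZero_RpushAb_of_affine_cover φ _ p hp fun z => ?_
  obtain ⟨V, hV, hzV, hN, rs, hne, hreg, hI⟩ := hgood z
  obtain ⟨W, n, hzW, ⟨e⟩⟩ := hE z
  obtain ⟨a, haW, hza⟩ := hV.exists_basicOpen_le (V := V ⊓ W) ⟨z, ⟨hzV, hzW⟩⟩ hzV
  refine ⟨Y.basicOpen a, hV.basicOpen a, hza, ?_⟩
  have h0 := (Groth.Agent.Lib.helper28.BlowUpOpen.open_main φ 𝓘 hφ V hV rs hne hreg hI).2 p hp
  have h1 := Groth.Agent.Lib.helper11.HUOpen.subsingleton_HU_of_HHon _ _ p h0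
  have hc : CompactSpace (↑(φ ⁻¹ᵁ V) : Scheme.{u}) :=
    isCompact_iff_compactSpace.mp
      (QuasiCompact.isCompact_preimage (f := φ) _ V.isOpen hV.isCompact)
  have hsep : (↑(φ ⁻¹ᵁ V) : Scheme.{u}).IsSeparated := by
    have : IsAffine (↑V : Scheme.{u}) := hV
    refine ⟨?_⟩
    rw [← terminal.comp_from (φ ∣_ V)]
    infer_instance
  have h2 := Groth.Agent.Lib.helper11.HUOpen.subsingleton_HU_basicOpen (φ ⁻¹ᵁ V)
    ((φ.app V).hom a) (Coh.structureModule X) p h1
  have h3 : φ ⁻¹ᵁ Y.basicOpen a = X.basicOpen ((φ.app V).hom a) := Scheme.preimage_basicOpen φ a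
  rw [← h3] at h2
  have h4 := Groth.Agent.Lib.helper11.HUOpen.subsingleton_HHon_of_HU _ _ p h2
  exact subsingleton_HHon_pullback_of_free φ E (Y.basicOpen a) W (haW.trans inf_le_right) n e p h4

end Groth.Agent.Lib.helper28.BlowUpDirectFLF
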