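import Groth.Agent.Lib.Helper28.BlowUpDirect
import Groth.Agent.Lib.Helper7.ConormalZero
import Groth.Agent.Lib.Helper16.FLF5

/-!
# Good covers for regular closed immersions (helper28)

Feeds `BlowUpDirect.main`:
* `goodAt_of_notMem_range`: off the image of a closed immersion the kernel ideal is `(1)`;
* `false_of_ker_eq_bot`: conormal rank `d ≥ 1` excludes the empty regular sequence;
* `goodAt_of_isRegularClosedImmersion`: `Mor2.IsRegularClosedImmersion f` with conormal sheaf of rank
  `d ≥ 1` on a locally Noetherian scheme gives `GoodAt f.ker y` for all `y`.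
-/

set_option autoImplicit false
set_option linter.unusedSectionVars false
universe u
open CategoryTheory CategoryTheory.Limits AlgebraicGeometry Opposite TopologicalSpace

namespace Groth.Agent.Lib.helper28.BlowUpGood

open Groth.Agent.Lib.helper28.BlowUpDirect

/-- off the image of a closed immersion, the kernel ideal is the unit ideal -/
theorem goodAt_of_notMem_range {X Y : Scheme.{u}} [IsLocallyNoetherian Y] (f : X ⟶ Y)
    [IsClosedImmersion f] (y : Y) (hy : y ∉ Set.range f) : GoodAt f.ker y := by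
  have hopen : IsOpen (Set.range f)ᶜ := f.isClosedEmbedding.isClosed_range.isOpen_compl
  obtain ⟨V, hV, hyV, hVle⟩ := Opens.isBasis_iff_nbhd.mp Y.isBasis_affineOpens
    (show y ∈ (⟨(Set.range f)ᶜ, hopen⟩ : Y.Opens) from hy)
  have hN : IsNoetherianRing Γ(Y, V) := IsLocallyNoetherian.component_noetherian ⟨V, hV⟩
  refine ⟨V, hV, hyV, hN, [1], by simp, ?_, ?_⟩
  · rw [RingTheory.Sequence.isWeaklyRegular_cons_iff]
    exact ⟨IsSMulRegular.one _, RingTheory.Sequence.IsWeaklyRegular.nil _ _⟩
  · have hempty : f ⁻¹ᵁ V = ⊥ := by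
      ext x
      simp only [Opens.coe_bot, Set.mem_empty_iff_false, iff_false]
      intro hx
      exact hVle hx ⟨x, rfl⟩
    have hsub : Subsingleton Γ(X, f ⁻¹ᵁ V) := by
      rw [hempty]
      infer_instance
    have h1 : Ideal.span {r : Γ(Y, V) | r ∈ [1]} = ⊤ := by
      rw [Ideal.eq_top_iff_one]
      exact Ideal.subset_span (by simp)
    rw [Scheme.Hom.ker_apply, Ideal.ofList, h1, eq_top_iff]
    intro a _
    rw [RingHom.mem_ker]
    exact Subsingleton.elim _ _

/-- a closed immersion whose conormal sheaf has rank `d ≥ 1` has nonzero kernel ideal on every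
affine open meeting its image -/
theorem false_of_ker_eq_bot {X Y : Scheme.{u}} (f : X ⟶ Y) [IsClosedImmersion f] (d : ℕ)
    (hd : 1 ≤ d) (hC : FlatMod.IsFinLocFreeOfRank d (Omega.conormal f)) (z : X) (U : Y.Opens)
    (hU : IsAffineOpen U) (hz : f z ∈ U) (hI : f.ker.ideal ⟨U, hU⟩ = ⊥) : False := by
  have hT : IsAffineOpen (f ⁻¹ᵁ U) := hU.preimage f
  have hiso : IsIso (f.app U) := by
    rw [ConcreteCategory.isIso_iff_bijective]
    refine ⟨?_, f.app_surjective U hU⟩
    rw [Scheme.Hom.ker_apply] at hI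
    exact (RingHom.injective_iff_ker_eq_bot _).mpr hI
  have : IsOpenImmersion ((f ⁻¹ᵁ U).ι ≫ f) :=
    Groth.Agent.Lib.helper7.ConormalZero.isOpenImmersion_of_isIso_app f hU hT hiso
  have hsub := Groth.Agent.Lib.helper7.ConormalZero.subsingleton_stalk_of_isOpenImmersion f z
    (f ⁻¹ᵁ U) hz
  have hr := Groth.Agent.Lib.helper16.FLF.finrank_stalk_of_isFinLocFreeOfRank
    (Omega.conormal f) hC z
  rw [Module.finrank_zero_of_subsingleton] at hr
  omega

/-- **the good cover for a regular closed immersion of codimension `≥ 1`** -/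
theorem goodAt_of_isRegularClosedImmersion {X Y : Scheme.{u}} [IsLocallyNoetherian Y] (f : X ⟶ Y)
    (hf : Mor2.IsRegularClosedImmersion f) (d : ℕ) (hd : 1 ≤ d)
    (hC : FlatMod.IsFinLocFreeOfRank d (Omega.conormal f)) (y : Y) : GoodAt f.ker y := by
  have := hf.1
  by_cases hy : y ∈ Set.range f
  · obtain ⟨z, rfl⟩ := hy
    obtain ⟨U, hU, hzU, rs, hreg, hI⟩ := hf.2 z
    refine ⟨U, hU, hzU, IsLocallyNoetherian.component_noetherian ⟨U, hU⟩, rs, ?_,
      hreg.toIsWeaklyRegular, hI⟩
    rintro rfl
    refine false_of_ker_eq_bot f d hd hC z U hU hzU ?_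
    rw [hI, Ideal.ofList]
    simp
  · exact goodAt_of_notMem_range f y hy

end Groth.Agent.Lib.helper28.BlowUpGood
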