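import Groth.Agent.Lib.Helper12.SerreGamma3
import Groth.Prelude.Def_GrTwist
import Groth.Prelude.Def_GrMod3

/-!
# `O(n)` versus `A(n)~`, and Serre's `Γ`-theorem for `O(n)` (helper28)

The sections of the prelude's `GrTwist.twist 𝒜 n` and of `GrMod.tilde 𝒜 𝒜 n` are the same functions
(`Localization S = LocalizedModule S A` definitionally): `toLM`, `mem_tildeAt`, `toSect`.
* `eventually`: `A` Noetherian graded ⇒ for `n ≫ 0` every global section of `O(n)` on `Proj 𝒜` is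
  `a / 1` for a unique `a ∈ 𝒜 n` (from helper12's `alpha_bijective_eventually`).
-/

set_option autoImplicit false
set_option linter.unusedSectionVars false
universe u
open CategoryTheory AlgebraicGeometry Opposite TopologicalSpace

namespace Groth.Agent.Lib.helper28.GTwistGrMod

variable {A σ : Type u} [CommRing A] [SetLike σ A] [AddSubgroupClass σ A] (𝒜 : ℕ → σ)
  [GradedRing 𝒜]

/-- the identity map `A_x → (A as a module)_x` -/
def toLM (x : ProjectiveSpectrum 𝒜) (q : GrTwist.Loc 𝒜 x) : GrMod.LocMod 𝒜 (M := A) x := q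

theorem toLM_mk (x : ProjectiveSpectrum 𝒜) (a : A) (s : x.asHomogeneousIdeal.toIdeal.primeCompl) :
    toLM 𝒜 x (Localization.mk a s) = LocalizedModule.mk a s := rfl

theorem toLM_zero (x : ProjectiveSpectrum 𝒜) : toLM 𝒜 x 0 = 0 := rfl

theorem toLM_add (x : ProjectiveSpectrum 𝒜) (q q' : GrTwist.Loc 𝒜 x) :
    toLM 𝒜 x (q + q') = toLM 𝒜 x q + toLM 𝒜 x q' := rfl

theorem toLM_mul (x : ProjectiveSpectrum 𝒜) (c q : GrTwist.Loc 𝒜 x) :
    toLM 𝒜 x (c * q) = c • toLM 𝒜 x q := rfl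

theorem mem_tildeAt (n : ℤ) (x : ProjectiveSpectrum 𝒜) {q : GrTwist.Loc 𝒜 x}
    (hq : q ∈ GrTwist.twistAt 𝒜 n x) : toLM 𝒜 x q ∈ GrMod.tildeAt 𝒜 𝒜 n x := by
  induction hq using Submodule.span_induction with
  | mem q h =>
    obtain ⟨i, j, a, s, hs, hij, rfl⟩ := h
    exact Submodule.subset_span ⟨i, j, a, s, hs, hij, rfl⟩
  | zero => exact zero_mem _
  | add q q' _ _ h h' => exact add_mem h h'
  | smul c q _ h => exact Submodule.smul_mem _ c h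

/-- a section of `O(n)` as a section of `A(n)~` -/
def toSect {n : ℤ} {U : Opens (ProjectiveSpectrum.top 𝒜)} (s : GrTwist.sectN (𝒜 := 𝒜) n (op U)) :
    GrMod.sect 𝒜 𝒜 n (op U) :=
  ⟨fun x => ⟨toLM 𝒜 x.1 (s.1 x).1, mem_tildeAt 𝒜 n x.1 (s.1 x).2⟩, fun x => by
    obtain ⟨V, hxV, i, i', j, a, b, hb, hij, hfrac⟩ := s.2 x
    exact ⟨V, hxV, i, i', j, a, b, hb, hij, fun y => congrArg (toLM 𝒜 _) (hfrac y)⟩⟩

theorem toSect_val {n : ℤ} {U : Opens (ProjectiveSpectrum.top 𝒜)}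
    (s : GrTwist.sectN (𝒜 := 𝒜) n (op U)) (x : U) :
    (((toSect 𝒜 s).1 x : GrMod.tildeAt 𝒜 𝒜 n x.1) : GrMod.LocMod 𝒜 (M := A) x.1) =
      toLM 𝒜 x.1 (s.1 x).1 := rfl

open Groth.Agent.Lib.helper12.SerreGamma in
/-- **Serre's theorem for `O(n)`**: for `n ≫ 0` the global sections of `O(n)` on `Proj 𝒜` are
the `a / 1`, `a ∈ 𝒜 n`, uniquely. -/
theorem eventually [IsNoetherianRing A] :
    ∃ N : ℕ, ∀ n : ℕ, N ≤ n →
      (∀ a ∈ 𝒜 n, (∀ x : ProjectiveSpectrum 𝒜,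
          (Localization.mk a 1 : GrTwist.Loc 𝒜 x) = 0) → a = 0) ∧
      ∀ s : GrTwist.sectN (𝒜 := 𝒜) (n : ℤ) (op ⊤), ∃ a ∈ 𝒜 n,
        ∀ x : ProjectiveSpectrum 𝒜,
          ((s.1 ⟨x, trivial⟩ : GrTwist.twistAt 𝒜 (n : ℤ) x) : GrTwist.Loc 𝒜 x) =
            Localization.mk a 1 := by
  have hTF : ∃ k : ℕ, (Submodule.span A (⋃ i ∈ Set.Ici k, (𝒜 i : Set A))).FG :=
    ⟨0, IsNoetherian.noetherian _⟩
  obtain ⟨N, hN⟩ := alpha_bijective_eventually 𝒜 𝒜 hTF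
  refine ⟨N, fun n hn => ⟨fun a ha h0 => ?_, fun s => ?_⟩⟩
  · have h1 : GrMod.alpha 𝒜 𝒜 n ⟨a, ha⟩ = 0 := by
      refine Subtype.ext (funext fun x => Subtype.ext ?_)
      exact h0 x.1
    have h2 := (hN n hn).1 (h1.trans (map_zero _).symm)
    exact congrArg Subtype.val h2
  · obtain ⟨⟨a, ha⟩, h⟩ := (hN n hn).2 (toSect 𝒜 s)
    refine ⟨a, ha, fun x => ?_⟩
    have h3 := congrArg (fun w => gval 𝒜 𝒜 w x) h
    exact h3.symm

end Groth.Agent.Lib.helper28.GTwistGrMod
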