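import Groth.Agent.Lib.Helper28.GTwistMul

/-!
# `O(0) = O` on `Proj` (helper28)
-/

set_option autoImplicit false
universe u

open CategoryTheory AlgebraicGeometry Opposite TopologicalSpace

namespace Groth.Agent.Lib.helper28.GTwistZero

open Groth.Agent.Lib.helper28.GFrac Groth.Agent.Lib.helper28.GTwistSec
  Groth.Agent.Lib.helper28.GTwistFree Groth.Agent.Lib.helper28.GTwistMul

variable {A σ : Type u} [CommRing A] [SetLike σ A] [AddSubgroupClass σ A] (𝒜 : ℕ → σ)
  [GradedRing 𝒜]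

theorem val_mem_twistAt_zero (x : ProjectiveSpectrum 𝒜) (c : GrTwist.A0 𝒜 x) :
    c.val ∈ GrTwist.twistAt 𝒜 0 x := by
  obtain ⟨⟨i, a, b, hb⟩, rfl⟩ := HomogeneousLocalization.mk_surjective c
  rw [HomogeneousLocalization.val_mk]
  exact Submodule.subset_span ⟨i, i, a, b, hb, by simp, rfl⟩

theorem exists_val_eq (x : ProjectiveSpectrum 𝒜) (q : GrTwist.Loc 𝒜 x)
    (hq : q ∈ GrTwist.twistAt 𝒜 0 x) : ∃ c : GrTwist.A0 𝒜 x, c.val = q := by
  obtain ⟨i, j, a, s, hs, hij, rfl⟩ := exists_fraction_of_mem 𝒜 0 x q hq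
  rcases hij with hij | ha
  · obtain rfl : i = j := by
      have : (i : ℤ) = j := by simpa using hij
      exact_mod_cast this
    exact ⟨HomogeneousLocalization.mk ⟨i, a, s, hs⟩, HomogeneousLocalization.val_mk _⟩
  · refine ⟨0, ?_⟩
    rw [HomogeneousLocalization.val_zero, ha, Localization.mk_zero]

/-- A section of the structure sheaf as a section of `O(0)`. -/
def toTwist0 (V : Opens (ProjectiveSpectrum.top 𝒜)) (c : GrTwist.O (𝒜 := 𝒜) (op V)) :
    GrTwist.sectN (𝒜 := 𝒜) 0 (op V) :=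
  ⟨fun x => ⟨(c.1 x).val, val_mem_twistAt_zero 𝒜 x.1 (c.1 x)⟩, fun x => by
    obtain ⟨Vb, mb, ib, k, r, t, ninb, wb⟩ := c.2 x
    exact ⟨Vb, mb, ib, k, k, r, t, ninb, Or.inl (by simp), fun y => by
      have h1 : c.1 (ib y) = HomogeneousLocalization.mk ⟨k, r, t, ninb y⟩ := wb y
      change (c.1 (ib y)).val = _
      rw [h1]
      rfl⟩⟩

theorem toTwist0_val (V : Opens (ProjectiveSpectrum.top 𝒜)) (c : GrTwist.O (𝒜 := 𝒜) (op V))
    (x : V) : (((toTwist0 𝒜 V c).1 x : GrTwist.twistAt 𝒜 0 x.1) : GrTwist.Loc 𝒜 x.1) =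
      (c.1 x).val := rfl

theorem toTwist0_add (V : Opens (ProjectiveSpectrum.top 𝒜)) (c c' : GrTwist.O (𝒜 := 𝒜) (op V)) :
    toTwist0 𝒜 V (c + c') = toTwist0 𝒜 V c + toTwist0 𝒜 V c' :=
  sectN_ext' 𝒜 _ _ fun x => by
    change ((c + c').1 x).val = (c.1 x).val + (c'.1 x).val
    exact HomogeneousLocalization.val_add _ _

theorem toTwist0_mul (V : Opens (ProjectiveSpectrum.top 𝒜)) (c c' : GrTwist.O (𝒜 := 𝒜) (op V)) :
    toTwist0 𝒜 V (c * c') = c • toTwist0 𝒜 V c' :=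
  sectN_ext' 𝒜 _ _ fun x => by
    rw [smul_val]
    change ((c * c').1 x).val = (c.1 x).val * (c'.1 x).val
    exact HomogeneousLocalization.val_mul _ _

theorem bijective_toTwist0 (V : Opens (ProjectiveSpectrum.top 𝒜)) :
    Function.Bijective (toTwist0 𝒜 V) := by
  classical
  constructor
  · intro c c' h
    refine O_ext' 𝒜 c c' fun x => ?_
    exact congrArg (fun s : GrTwist.sectN (𝒜 := 𝒜) 0 (op V) =>
      ((s.1 x : GrTwist.twistAt 𝒜 0 x.1) : GrTwist.Loc 𝒜 x.1)) h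
  · intro s
    have hex : ∀ x : V, ∃ c : GrTwist.A0 𝒜 x.1, c.val = (s.1 x).1 := fun x =>
      exists_val_eq 𝒜 x.1 (s.1 x).1 (s.1 x).2
    choose f hf using hex
    refine ⟨⟨f, fun x => ?_⟩, sectN_ext' 𝒜 _ _ fun x => hf x⟩
    obtain ⟨Va, ma, ia, i, j, a, g, nina, ca, wa⟩ := s.2 x
    rcases ca with ca | ca
    · obtain rfl : i = j := by
        have : (i : ℤ) = j := by simpa using ca
        exact_mod_cast this
      refine ⟨Va, ma, ia, i, a, g, nina, fun y => ?_⟩
      apply HomogeneousLocalization.val_injective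
      rw [HomogeneousLocalization.val_mk]
      exact (hf (ia y)).trans (wa y)
    · refine ⟨Va, ma, ia, j, 0, g, nina, fun y => ?_⟩
      apply HomogeneousLocalization.val_injective
      rw [HomogeneousLocalization.val_mk]
      refine (hf (ia y)).trans ((wa y).trans ?_)
      rw [ca]
      rfl

end Groth.Agent.Lib.helper28.GTwistZero
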