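import Groth.Agent.Lib.Helper28.TwistSESGlobal

/-!
# Descending induction for global sections of `O(k)` along `0 → O(k+1) → O(k) → g_* O(k) → 0` (helper28)

`InjAt 𝒜 k`, `SurjAt 𝒜 k`: the map `a ↦ a/1 : 𝒜_k → Γ(Proj 𝒜, O(k))` is injective / surjective.
Under `TwistSES.Hyp ψ hψ t`: `injAt_of_succ`, `surjAt_of_succ` pass from `k+1` to `k`, given the
same statements for `ℬ` in degree `k`.
-/

set_option autoImplicit false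
set_option linter.unusedSectionVars false
universe u
open CategoryTheory CategoryTheory.Limits AlgebraicGeometry Opposite TopologicalSpace
open scoped HomogeneousIdeal

namespace Groth.Agent.Lib.helper28.TwistGlobalStep

open Groth.Agent.Lib.helper28.TwistSES Groth.Agent.Lib.helper28.TwistSESGlobal

variable {A σ : Type u} [CommRing A] [SetLike σ A] [AddSubgroupClass σ A] (𝒜 : ℕ → σ)
  [GradedRing 𝒜]

/-- `a ↦ a/1 : 𝒜_k → Γ(Proj 𝒜, O(k))` is injective -/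
def InjAt (k : ℕ) : Prop :=
  ∀ a ∈ 𝒜 k, (∀ x : ProjectiveSpectrum 𝒜, (Localization.mk a 1 : GrTwist.Loc 𝒜 x) = 0) → a = 0

/-- `a ↦ a/1 : 𝒜_k → Γ(Proj 𝒜, O(k))` is surjective -/
def SurjAt (k : ℕ) : Prop :=
  ∀ s : GrTwist.sectN (𝒜 := 𝒜) (k : ℤ) (op ⊤), ∃ a ∈ 𝒜 k, ∀ x : ProjectiveSpectrum 𝒜,
    ((s.1 ⟨x, trivial⟩ : GrTwist.twistAt 𝒜 (k : ℤ) x) : GrTwist.Loc 𝒜 x) = Localization.mk a 1

variable {𝒜}
variable {B τ : Type u} [CommRing B] [SetLike τ B] [AddSubgroupClass τ B] {ℬ : ℕ → τ}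
  [GradedRing ℬ]
variable {ψ : 𝒜 →+*ᵍ ℬ} {hψ : ℬ₊ ≤ (𝒜₊).map ψ} {t : GrTwist.sectN (𝒜 := 𝒜) (-1) (op ⊤)}

theorem locMap_mk_one (y : ProjectiveSpectrum ℬ) (a : A) :
    GrTwist.locMap ψ hψ y (Localization.mk a 1) = Localization.mk (ψ a) 1 := by
  rw [GrTwist.locMap_mk]
  exact congrArg (Localization.mk (ψ a)) (Subtype.ext (map_one ψ))

theorem injAt_of_succ (H : Hyp ψ hψ t) (k : ℕ) (hB : InjAt ℬ k)
    (hker : ∀ a ∈ 𝒜 k, ψ a = 0 → ∃ a' ∈ 𝒜 (k + 1),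
      (∀ x : ProjectiveSpectrum 𝒜, (Localization.mk a 1 : GrTwist.Loc 𝒜 x) =
        Localization.mk a' 1 *
          ((t.1 ⟨x, trivial⟩ : GrTwist.twistAt 𝒜 (-1) x) : GrTwist.Loc 𝒜 x)) ∧
      (a' = 0 → a = 0))
    (h : InjAt 𝒜 (k + 1)) : InjAt 𝒜 k := by
  intro a ha h0
  have hψa : ψ a = 0 := by
    refine hB (ψ a) (ψ.map_mem ha) fun y => ?_
    rw [← locMap_mk_one (hψ := hψ), h0, map_zero]
  obtain ⟨a', ha', hrel, himp⟩ := hker a ha hψa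
  refine himp (h a' ha' fun x => H.inj x _ ?_)
  rw [← hrel x, h0 x]

theorem globalOf_val {i : ℕ} (a : 𝒜 i) (x : ProjectiveSpectrum 𝒜) :
    (((GrTwist.globalOf 𝒜 a).1 ⟨x, trivial⟩ : GrTwist.twistAt 𝒜 (i : ℤ) x) : GrTwist.Loc 𝒜 x) =
      Localization.mk a.1 1 := rfl

theorem sub_val {m : ℤ} (s s' : GrTwist.sectN (𝒜 := 𝒜) m (op ⊤)) (x : ProjectiveSpectrum 𝒜) :
    (((s - s').1 ⟨x, trivial⟩ : GrTwist.twistAt 𝒜 m x) : GrTwist.Loc 𝒜 x) =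
      ((s.1 ⟨x, trivial⟩ : GrTwist.twistAt 𝒜 m x) : GrTwist.Loc 𝒜 x) -
        ((s'.1 ⟨x, trivial⟩ : GrTwist.twistAt 𝒜 m x) : GrTwist.Loc 𝒜 x) := rfl

open Groth.Agent.Lib.helper28.GTwistMul in
theorem surjAt_of_succ (H : Hyp ψ hψ t) (k : ℕ) (hB : SurjAt ℬ k)
    (hmul : ∀ a' ∈ 𝒜 (k + 1), ∃ a'' ∈ 𝒜 k, ∀ x : ProjectiveSpectrum 𝒜,
      (Localization.mk a'' 1 : GrTwist.Loc 𝒜 x) = Localization.mk a' 1 *
          ((t.1 ⟨x, trivial⟩ : GrTwist.twistAt 𝒜 (-1) x) : GrTwist.Loc 𝒜 x))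
    (h : SurjAt 𝒜 (k + 1)) : SurjAt 𝒜 k := by
  intro s
  obtain ⟨b, hb, hσ⟩ := hB (GrTwist.comapApp ψ hψ (k : ℤ) ⊤ ⊤ (fun _ _ => trivial) s)
  obtain ⟨a₀, ha₀, rfl⟩ := H.surj k b hb
  obtain ⟨u, hu⟩ := exists_mul_of_comap_eq_zero H (k : ℤ) (s - GrTwist.globalOf 𝒜 ⟨a₀, ha₀⟩)
    (fun y => by
      rw [sub_val, globalOf_val, map_sub, locMap_mk_one, sub_eq_zero]
      exact hσ y)
  obtain ⟨a', ha', hua'⟩ := h (castSect 𝒜 (Nat.cast_succ k).symm u)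
  obtain ⟨a'', ha'', hrel⟩ := hmul a' ha'
  refine ⟨a₀ + a'', add_mem ha₀ ha'', fun x => ?_⟩
  have h1 := hu x
  rw [sub_val, globalOf_val, sub_eq_iff_eq_add] at h1
  have h2 := hua' x
  rw [castSect_val] at h2
  rw [h1, h2, ← hrel x, ← Localization.add_mk_self, add_comm]

end Groth.Agent.Lib.helper28.TwistGlobalStep
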