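import Groth.Agent.Lib.Helper28.ReesHyp
import Groth.Agent.Lib.Helper28.TwistGlobalStep
import Groth.Agent.Lib.Helper28.GTwistGrMod
import Groth.Agent.Lib.Helper20.ProjH0
import Groth.Agent.Lib.Helper28.GTwistZero
import Groth.Agent.Lib.Helper16.ReesBlowup2

/-!
# Global functions on the blow-up of a quasi-regular ideal (helper28)

`A` Noetherian, `fs : Fin (n+1) → A` quasi-regular, `I = (fs)`, `Bl = Proj (Rees I)`.
* `poly_injAt`, `poly_surjAt`: `Γ(P^n_R, O(k)) = R[T]_k` in the `TwistGlobalStep` form (helper20's `ProjH0`);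
* `injAt_surjAt`: `Γ(Bl, O(k)) = I^k` for all `k ≥ 0` (descending induction from Serre's theorem);
* `ringOf_top_val`: the value of the global function `a ∈ A` on `Bl` at `x` is `a/1`;
* `bijective_ringOf_top`: `A → Γ(Bl, O_Bl)` is bijective.
-/

set_option autoImplicit false
set_option linter.unusedSectionVars false
universe u
open CategoryTheory CategoryTheory.Limits AlgebraicGeometry Opposite TopologicalSpace Polynomial
open scoped HomogeneousIdeal

namespace Groth.Agent.Lib.helper28.BlowUpH0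

open Groth.Agent.Lib.helper28.TwistGlobalStep

section bridge

variable {R A : Type u} [CommRing R] [CommRing A] [Algebra R A] (𝒜 : ℕ → Submodule R A)
  [GradedAlgebra 𝒜]

/-- `GrTwist` sections are `Twist` sections -/
def toTw {n : ℤ} {U : Opens (ProjectiveSpectrum.top 𝒜)} (s : GrTwist.sectN (𝒜 := 𝒜) n (op U)) :
    Twist.sectN (𝒜 := 𝒜) n (op U) := s

end bridge

section poly

open Groth.Agent.Lib.Helper20.ProjH0

variable (n : ℕ) (R : Type u) [CommRing R]

theorem poly_injAt (k : ℕ) : InjAt (CohB1.polyGrading n R) k := by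
  intro b hb h
  have h1 : glob n R k ⟨b, hb⟩ = glob n R k 0 := by
    refine Subtype.ext (funext fun y => Subtype.ext ?_)
    show (Localization.mk b _ : Localization.AtPrime y.1.asHomogeneousIdeal.toIdeal) =
      Localization.mk 0 _
    rw [Localization.mk_zero]
    exact h y.1
  exact congrArg Subtype.val (glob_injective n R k h1)

theorem poly_surjAt (k : ℕ) : SurjAt (CohB1.polyGrading n R) k := by
  intro σ
  obtain ⟨p, hp⟩ := glob_surjective n R k (toTw (CohB1.polyGrading n R) σ)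
  refine ⟨p.1, p.2, fun y => ?_⟩
  have h1 := congrArg (fun τ : Twist.sectN (𝒜 := CohB1.polyGrading n R) (k : ℤ) (op ⊤) =>
    ((τ.1 ⟨y, trivial⟩ : Twist.twistAt (CohB1.polyGrading n R) (k : ℤ) y) :
      Localization.AtPrime y.asHomogeneousIdeal.toIdeal)) hp
  exact h1.symm

end poly

open Groth.Agent.Lib.helper16.ReesBlowup Groth.Agent.Lib.helper28.ReesQuot
  Groth.Agent.Lib.helper28.TwistSES Groth.Agent.Lib.helper28.ReesTau
  Groth.Agent.Lib.helper28.ReesHyp

section ringOf

variable {A : Type u} [CommRing A] (I : Ideal A)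

/-- a global function on the blow-up, as a dependent function -/
def asO (c : Γ(Bl I, ⊤)) : GrTwist.O (𝒜 := Rees.deg (reesAlgebra I)) (op ⊤) := c

theorem ringOf_top_val (a : A) (x : ProjectiveSpectrum (Rees.deg (reesAlgebra I)))
    (f : A) (hf : f ∈ I) (hx : F I f hf ∉ x.asHomogeneousIdeal) :
    ((asO I (ringOf (bl I) ⊤ a)).1 ⟨x, trivial⟩).val =
      Localization.mk (algebraMap A (reesAlgebra I) a) 1 := by
  have hxc : x ∈ (chart I f hf : (Bl I).Opens) :=
    (ProjectiveSpectrum.mem_basicOpen (Rees.deg (reesAlgebra I)) _ x).mpr hx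
  have h1 : (asO I (ringOf (bl I) ⊤ a)).1 ⟨x, trivial⟩ =
      (((Bl I).presheaf.map (homOfLE (le_top : chart I f hf ≤ ⊤)).op (ringOf (bl I) ⊤ a) :
        GrTwist.O (𝒜 := Rees.deg (reesAlgebra I)) (op (chart I f hf))).1 ⟨x, hxc⟩) := rfl
  have h2 : (Bl I).presheaf.map (homOfLE (le_top : chart I f hf ≤ ⊤)).op (ringOf (bl I) ⊤ a) =
      ringOf (bl I) (chart I f hf) a := by
    rw [ringOf_res (bl I) (chart I f hf)]
    rfl
  rw [h1, h2, ringOf_bl_chart]
  have h3 := ProjectiveSpectrum.Proj.awayToSection_apply (Rees.deg (reesAlgebra I)) (F I f hf)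
    (toAway I f hf a) ⟨x, hxc⟩
  refine h3.trans ?_
  rw [val_toAway, Localization.mk_one_eq_algebraMap, IsLocalization.map_eq, RingHom.id_apply]
  exact (Localization.mk_one_eq_algebraMap _).symm

end ringOf

variable {A : Type u} [CommRing A] {n : ℕ} (fs : Fin (n + 1) → A)

theorem mul_identity (k : ℕ) (c : A) (hc : c ∈ II fs ^ (k + 1)) (hc' : c ∈ II fs ^ k)
    (j : Fin (n + 1)) :
    mon (II fs) k c hc' * FF fs j = mon (II fs) (k + 1) c hc *
      algebraMap A (reesAlgebra (II fs)) (fs j) := by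
  apply Subtype.ext
  show monomial k c * monomial 1 (fs j) = monomial (k + 1) c * C (fs j)
  rw [Polynomial.monomial_mul_C, Polynomial.monomial_mul_monomial]

theorem mk_mon_eq (k : ℕ) (c : A) (hc : c ∈ II fs ^ (k + 1)) (hc' : c ∈ II fs ^ k)
    (x : ProjectiveSpectrum (AA fs)) :
    (Localization.mk (mon (II fs) k c hc') 1 : GrTwist.Loc (AA fs) x) =
      Localization.mk (mon (II fs) (k + 1) c hc) 1 *
        (((tau fs).1 ⟨x, trivial⟩ : GrTwist.twistAt (AA fs) (-1) x) : GrTwist.Loc (AA fs) x) := by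
  obtain ⟨j, hj⟩ := exists_FF_notMem fs x
  refine Eq.trans ?_ (congrArg (fun t => (Localization.mk
    (mon (II fs) (k + 1) c hc) 1 : GrTwist.Loc (AA fs) x) * t)
    ((tau_val fs x).trans (tauAt_eq fs x j hj)).symm)
  exact mk_eq_mk_mul_mk _ _ _ ⟨FF fs j, hj⟩ (mul_identity fs k c hc hc' j)

variable (hq : CAlgX.IsQuasiRegular fs)

theorem hker (k : ℕ) : ∀ a ∈ AA fs k, psi fs hq a = 0 → ∃ a' ∈ AA fs (k + 1),
    (∀ x : ProjectiveSpectrum (AA fs), (Localization.mk a 1 : GrTwist.Loc (AA fs) x) =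
      Localization.mk a' 1 *
        (((tau fs).1 ⟨x, trivial⟩ : GrTwist.twistAt (AA fs) (-1) x) : GrTwist.Loc (AA fs) x)) ∧
    (a' = 0 → a = 0) := by
  intro a ha h0
  have hc := psi_ker fs hq k a h0
  obtain ⟨c, hc', rfl⟩ := exists_mon_of_mem (II fs) ha
  have hcc : ((mon (II fs) k c hc' : reesAlgebra (II fs)) : A[X]).coeff k = c := by
    rw [coe_mon, Polynomial.coeff_monomial, if_pos rfl]
  rw [hcc] at hc
  refine ⟨mon (II fs) (k + 1) c hc, mon_mem _ _ _ _, fun x => mk_mon_eq fs k c hc hc' x,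
    fun h => ?_⟩
  rw [mon_eq_zero_iff] at h ⊢
  exact h

theorem hmul (k : ℕ) : ∀ a' ∈ AA fs (k + 1), ∃ a'' ∈ AA fs k,
    ∀ x : ProjectiveSpectrum (AA fs), (Localization.mk a'' 1 : GrTwist.Loc (AA fs) x) =
      Localization.mk a' 1 *
        (((tau fs).1 ⟨x, trivial⟩ : GrTwist.twistAt (AA fs) (-1) x) : GrTwist.Loc (AA fs) x) := by
  intro a' ha'
  obtain ⟨c, hc, rfl⟩ := exists_mon_of_mem (II fs) ha'
  have hc' : c ∈ II fs ^ k := Ideal.pow_le_pow_right (Nat.le_succ k) hc
  exact ⟨mon (II fs) k c hc', mon_mem _ _ _ _, fun x => mk_mon_eq fs k c hc hc' x⟩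

variable [IsNoetherianRing A]

include hq in
/-- **`Γ(Bl_I, O(k)) = I^k`** for a quasi-regular ideal of a Noetherian ring. -/
theorem injAt_surjAt (k : ℕ) : InjAt (AA fs) k ∧ SurjAt (AA fs) k := by
  obtain ⟨N, hN⟩ := Groth.Agent.Lib.helper28.GTwistGrMod.eventually (AA fs)
  suffices H : ∀ m k : ℕ, N ≤ k + m → InjAt (AA fs) k ∧ SurjAt (AA fs) k from
    H N k (Nat.le_add_left _ _)
  intro m
  induction m with
  | zero => intro k hk; exact hN k hk
  | succ m ih =>
    intro k hk
    have h := ih (k + 1) (by omega)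
    exact ⟨injAt_of_succ (hyp fs hq) k (poly_injAt n _ k) (hker fs hq k) h.1,
      surjAt_of_succ (hyp fs hq) k (poly_surjAt n _ k) (hmul fs k) h.2⟩

include hq in
open Groth.Agent.Lib.helper28.GTwistMul Groth.Agent.Lib.helper28.GTwistZero
  Groth.Agent.Lib.helper28.GTwistFree in
/-- **`A → Γ(Bl_I, O)` is bijective** for a quasi-regular ideal of a Noetherian ring. -/
theorem bijective_ringOf_top : Function.Bijective (ringOf (bl (II fs)) ⊤) := by
  obtain ⟨hinj, hsurj⟩ := injAt_surjAt fs hq 0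
  constructor
  · rw [injective_iff_map_eq_zero]
    intro r hr
    have h1 : algebraMap A (reesAlgebra (II fs)) r = 0 := by
      refine hinj _ (algebraMap_mem_zero fs r) fun x => ?_
      obtain ⟨j, hj⟩ := exists_FF_notMem fs x
      rw [← ringOf_top_val (II fs) r x (fs j) (fs_mem fs j) hj, hr]
      exact HomogeneousLocalization.val_zero
    have := congrArg (fun p : reesAlgebra (II fs) => (p : A[X]).coeff 0) h1
    simpa using this
  · intro c
    obtain ⟨a, ha, hca⟩ := hsurj (castSect (AA fs) Nat.cast_zero.symm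
      (toTwist0 (AA fs) ⊤ (asO (II fs) c)))
    obtain ⟨r, hr, rfl⟩ := exists_mon_of_mem (II fs) ha
    refine ⟨r, ?_⟩
    refine O_ext' (AA fs) (asO (II fs) (ringOf (bl (II fs)) ⊤ r)) (asO (II fs) c) fun x => ?_
    obtain ⟨j, hj⟩ := exists_FF_notMem fs x.1
    rw [ringOf_top_val (II fs) r x.1 (fs j) (fs_mem fs j) hj, algebraMap_eq_mon]
    have h2 := hca x.1
    rw [castSect_val, toTwist0_val] at h2
    exact h2.symm

end Groth.Agent.Lib.helper28.BlowUpH0
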