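import Groth.Agent.Lib.Helper28.TwistSES
import Groth.Agent.Lib.Helper18.HHLES

/-!
# Global sections of the sequence `0 → O(k+1) → O(k) → g_* O(k) → 0` (helper28)

* `exists_preimage_of_hom_eq_zero`: left exactness of sections for a short exact sequence of modules.
* `exists_mul_of_comap_eq_zero`: under `TwistSES.Hyp`, a global section of `O(k)` on `Proj 𝒜` whose
  image in `O_{Proj ℬ}(k)` vanishes is `u · t` for a global section `u` of `O(k+1)`.
-/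

set_option autoImplicit false
set_option linter.unusedSectionVars false
universe u
open CategoryTheory CategoryTheory.Limits AlgebraicGeometry Opposite TopologicalSpace
open scoped HomogeneousIdeal

namespace Groth.Agent.Lib.helper28.TwistSESGlobal

open Groth.Agent.Lib.helper28.TwistSES Groth.Agent.Lib.Helper18

/-- left exactness of sections: a section of the middle term killed by `g` comes from the left -/
theorem exists_preimage_of_hom_eq_zero {X : Scheme.{u}} {S : ShortComplex X.Modules}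
    (hS : S.ShortExact) (U : X.Opens) (s : S.X₂.val.obj (op U))
    (h : (S.g.val.app (op U)).hom s = 0) :
    ∃ t : S.X₁.val.obj (op U), (S.f.val.app (op U)).hom t = s := by
  have hS' := HH.toAb_shortExact hS
  obtain ⟨t, ht⟩ := TopCat.Sheaf.sections_exact_of_left_exact (U := U) hS'.exact hS'.mono_f s h
  exact ⟨t, ht⟩

variable {A σ : Type u} [CommRing A] [SetLike σ A] [AddSubgroupClass σ A] {𝒜 : ℕ → σ}
  [GradedRing 𝒜]
variable {B τ : Type u} [CommRing B] [SetLike τ B] [AddSubgroupClass τ B] {ℬ : ℕ → τ}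
  [GradedRing ℬ]
variable {ψ : 𝒜 →+*ᵍ ℬ} {hψ : ℬ₊ ≤ (𝒜₊).map ψ} {t : GrTwist.sectN (𝒜 := 𝒜) (-1) (op ⊤)}

theorem val_of_mulSec_eq (k : ℤ) (U : (Proj 𝒜).Opens)
    (u : (GrTwist.twist 𝒜 (k + 1)).val.obj (op U)) (s : (GrTwist.twist 𝒜 k).val.obj (op U))
    (h : ((mulSec 𝒜 (k + 1) (-1) k (hk k) t).val.app (op U)).hom u = s) (x : U) :
    (((asSect s).1 x : GrTwist.twistAt 𝒜 k x.1) : GrTwist.Loc 𝒜 x.1) =
      (((asSect u).1 x : GrTwist.twistAt 𝒜 (k + 1) x.1) : GrTwist.Loc 𝒜 x.1) *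
        ((t.1 ⟨x.1, trivial⟩ : GrTwist.twistAt 𝒜 (-1) x.1) : GrTwist.Loc 𝒜 x.1) := by
  subst h
  exact mulSec_hom_val (k + 1) (-1) k (hk k) t U u x

theorem exists_mul_of_comap_eq_zero (H : Hyp ψ hψ t) (k : ℤ)
    (s : GrTwist.sectN (𝒜 := 𝒜) k (op ⊤))
    (h0 : ∀ y : ProjectiveSpectrum ℬ, GrTwist.locMap ψ hψ y
      ((s.1 ⟨ProjectiveSpectrum.comap ψ hψ y, trivial⟩ :
        GrTwist.twistAt 𝒜 k (ProjectiveSpectrum.comap ψ hψ y)) :
        GrTwist.Loc 𝒜 (ProjectiveSpectrum.comap ψ hψ y)) = 0) :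
    ∃ u : GrTwist.sectN (𝒜 := 𝒜) (k + 1) (op ⊤), ∀ x : ProjectiveSpectrum 𝒜,
      ((s.1 ⟨x, trivial⟩ : GrTwist.twistAt 𝒜 k x) : GrTwist.Loc 𝒜 x) =
        ((u.1 ⟨x, trivial⟩ : GrTwist.twistAt 𝒜 (k + 1) x) : GrTwist.Loc 𝒜 x) *
          ((t.1 ⟨x, trivial⟩ : GrTwist.twistAt 𝒜 (-1) x) : GrTwist.Loc 𝒜 x) := by
  have hz : ((ses H k).g.val.app (op ⊤)).hom (ofSect s) = 0 := by
    refine ext_val (𝒞 := ℬ) (U := Proj.map ψ hψ ⁻¹ᵁ ⊤) _ 0 fun z => ?_
    refine (comap_hom_val (ψ := ψ) (hψ := hψ) k ⊤ (ofSect s) z).trans ?_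
    exact h0 z.1
  obtain ⟨u, hu⟩ := exists_preimage_of_hom_eq_zero (shortExact_ses H k) ⊤ (ofSect s) hz
  refine ⟨asSect u, fun x => ?_⟩
  exact val_of_mulSec_eq k ⊤ u (ofSect s) hu ⟨x, trivial⟩

end Groth.Agent.Lib.helper28.TwistSESGlobal
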