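import Groth.Agent.Lib.Helper28.BlowUpAffineTwist
import Groth.Agent.Lib.Helper28.BlowUpOpenTwist
import Groth.Agent.Lib.Helper28.TwistSESGlobal
import Groth.Agent.Lib.Helper20.ProjH0
import Groth.Agent.Lib.Helper11.InvMod

/-!
# Global sections of the inverse of the exceptional ideal of a blow-up, local model (helper28)

* `isUnit_of_dvd_of_isWeaklyRegular`: a common divisor of the first two members of a weakly regular
  sequence is a unit;
* `bijective_app_of_isIso`, `bijective_app_top_pullback`: bijectivity on sections is invariant under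
  isomorphisms of modules and pull-back along isomorphisms of schemes;
* `bijective_ses_f_top`: `Γ(O(k+1)) → Γ(O(k))` is bijective when `Γ(g_* O(k)) = 0`;
* `affine_section`, `open_section`: for `L` inverse to the exceptional ideal of a blow-up in a
  quasi-regular ideal with at least two generators there is `t : O ⟶ L` bijective on global sections.
-/

set_option autoImplicit false
set_option linter.unusedSectionVars false
set_option linter.style.haveILetI false
universe u
open CategoryTheory CategoryTheory.Limits AlgebraicGeometry Opposite TopologicalSpace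
open Scheme.Modules

namespace Groth.Agent.Lib.helper28.BlowUpPushInv

section Alg

/-- if `a` divides the first two members of a weakly regular sequence then `a` is a unit -/
theorem isUnit_of_dvd_of_isWeaklyRegular {A : Type u} [CommRing A] (r1 r2 : A) (rs : List A)
    (hreg : RingTheory.Sequence.IsWeaklyRegular A (r1 :: r2 :: rs)) (a : A) (h1 : a ∣ r1)
    (h2 : a ∣ r2) : IsUnit a := by
  rw [RingTheory.Sequence.isWeaklyRegular_cons_iff, RingTheory.Sequence.isWeaklyRegular_cons_iff]
    at hreg
  obtain ⟨hr1, hr2, -⟩ := hreg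
  obtain ⟨g1, rfl⟩ := h1
  obtain ⟨g2, rfl⟩ := h2
  have h3 : (a * g2) • (Submodule.Quotient.mk g1 : QuotSMulTop (a * g1) A) = 0 := by
    rw [← Submodule.Quotient.mk_smul, Submodule.Quotient.mk_eq_zero]
    refine (Submodule.mem_smul_pointwise_iff_exists _ _ _).mpr ⟨g2, Submodule.mem_top, ?_⟩
    simp only [smul_eq_mul]
    ring
  have h4 : (Submodule.Quotient.mk g1 : QuotSMulTop (a * g1) A) = 0 := by
    apply hr2
    simpa using h3
  rw [Submodule.Quotient.mk_eq_zero] at h4
  obtain ⟨h, -, hh⟩ := (Submodule.mem_smul_pointwise_iff_exists _ _ _).mp h4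
  simp only [smul_eq_mul] at hh
  have hg1 : IsSMulRegular A g1 := by
    intro x y hxy
    apply hr1
    simp only [smul_eq_mul] at hxy ⊢
    rw [mul_assoc, mul_assoc, hxy]
  have h5 : g1 • (a * h) = g1 • (1 : A) := by
    simp only [smul_eq_mul]
    rw [mul_one]
    calc g1 * (a * h) = a * g1 * h := by ring
      _ = g1 := hh
  have h6 := hg1 h5
  exact IsUnit.of_mul_eq_one h h6

end Alg

section Transport

/-- an isomorphism of modules is bijective on sections -/
theorem bijective_app_of_isIso {X : Scheme.{u}} {M N : X.Modules} (f : M ⟶ N) [IsIso f]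
    (U : X.Opens) : Function.Bijective (f.app U).hom :=
  (ConcreteCategory.isIso_iff_bijective (f.app U)).mp inferInstance

theorem bijective_comp_app {X : Scheme.{u}} {M N K : X.Modules} (f : M ⟶ N) (g : N ⟶ K)
    (U : X.Opens) (hf : Function.Bijective (f.app U).hom) (hg : Function.Bijective (g.app U).hom) :
    Function.Bijective ((f ≫ g).app U).hom := by
  rw [Hom.comp_app, AddCommGrpCat.hom_comp]
  exact hg.comp hf

variable {Y Z : Scheme.{u}} (e : Y ⟶ Z) [IsIso e]

/-- bijectivity on global sections is invariant under pull-back along an isomorphism of schemes -/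
theorem bijective_app_top_pullback {M N : Z.Modules} (ψ : M ⟶ N)
    (h : Function.Bijective (ψ.app ⊤).hom) :
    Function.Bijective (((Scheme.Modules.pullback e).map ψ).app ⊤).hom := by
  have hM := Groth.Agent.Lib.helper28.BlowUpAffineTwist.isIso_unit_of_isIso e M
  have hN := Groth.Agent.Lib.helper28.BlowUpAffineTwist.isIso_unit_of_isIso e N
  have hnat := (pullbackPushforwardAdjunction e).unit.naturality ψ
  have h1 : ∀ x : Γ(M, ⊤), (((pullbackPushforwardAdjunction e).unit.app N).app ⊤).hom
      ((ψ.app ⊤).hom x) = (((Scheme.Modules.pullback e).map ψ).app ⊤).hom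
        ((((pullbackPushforwardAdjunction e).unit.app M).app ⊤).hom x) := fun x =>
    congrArg (fun χ => (Hom.app χ (⊤ : Z.Opens)).hom x) hnat
  have ha := bijective_app_of_isIso ((pullbackPushforwardAdjunction e).unit.app M) ⊤
  have hb := bijective_app_of_isIso ((pullbackPushforwardAdjunction e).unit.app N) ⊤
  constructor
  · intro y y' hyy'
    obtain ⟨x, rfl⟩ := ha.2 y
    obtain ⟨x', rfl⟩ := ha.2 y'
    have h2 := (h1 x).trans (hyy'.trans (h1 x').symm)
    rw [h.1 (hb.1 h2)]
  · intro z
    obtain ⟨w, rfl⟩ := hb.2 z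
    obtain ⟨x, rfl⟩ := h.2 w
    exact ⟨_, (h1 x).symm⟩

end Transport

section SES

open Groth.Agent.Lib.helper28.TwistSES Groth.Agent.Lib.helper28.TwistSESGlobal
open scoped HomogeneousIdeal

variable {A σ : Type u} [CommRing A] [SetLike σ A] [AddSubgroupClass σ A] {𝒜 : ℕ → σ}
  [GradedRing 𝒜]
variable {B τ : Type u} [CommRing B] [SetLike τ B] [AddSubgroupClass τ B] {ℬ : ℕ → τ}
  [GradedRing ℬ]
variable {ψ : 𝒜 →+*ᵍ ℬ} {hψ : ℬ₊ ≤ (𝒜₊).map ψ} {t : GrTwist.sectN (𝒜 := 𝒜) (-1) (op ⊤)}

/-- `Γ(O(k+1)) → Γ(O(k))` is bijective when `g_* O(k)` has no global sections -/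
theorem bijective_ses_f_top (H : Hyp ψ hψ t) (k : ℤ)
    (hsub : Subsingleton ((ses H k).X₃.val.obj (op (⊤ : (Proj 𝒜).Opens)))) :
    Function.Bijective ((ses H k).f.val.app (op (⊤ : (Proj 𝒜).Opens))).hom := by
  constructor
  · exact injective_mulSec H k ⊤
  · intro s
    have h0 : ((ses H k).g.val.app (op (⊤ : (Proj 𝒜).Opens))).hom s = 0 := hsub.elim _ _
    exact exists_preimage_of_hom_eq_zero (shortExact_ses H k) ⊤ s h0

end SES

section generic

variable {R A : Type u} [CommRing R] [CommRing A] [Algebra R A] (𝒜 : ℕ → Submodule R A)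
  [GradedAlgebra 𝒜]

/-- `O ≅ O(k)` for `k = 0` -/
noncomputable def grTwistZeroIso (k : ℤ) (hk : k = 0) :
    Coh.structureModule (Proj 𝒜) ≅ GrTwist.twist 𝒜 k :=
  Groth.Agent.Lib.helper28.TwistZero.twistZeroIso 𝒜 ≪≫ eqToIso (by rw [hk]; rfl)

end generic

section model

open Groth.Agent.Lib.helper16.ReesBlowup Groth.Agent.Lib.helper28.ReesQuot
  Groth.Agent.Lib.helper28.TwistSES Groth.Agent.Lib.helper28.ReesTau
  Groth.Agent.Lib.helper28.ReesHyp Groth.Agent.Lib.helper16.BlowUpProper
  Groth.Agent.Lib.helper28.BlowUpExc Groth.Agent.Lib.helper28.BlowUpAffineTwist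
  Groth.Agent.Lib.Lead.ModTensor

variable {A : Type u} [CommRing A] {n : ℕ} (fs : Fin (n + 1) → A)
  (hq : CAlgX.IsQuasiRegular fs)

/-- `Γ(Bl, O(0)) → Γ(Bl, O(-1))` (multiplication by `τ`) is bijective if `n ≥ 1` -/
theorem bijective_tau_top (hn : 1 ≤ n) :
    Function.Bijective
      ((ses (hyp fs hq) (-1)).f.val.app (op (⊤ : (Proj (AA fs)).Opens))).hom := by
  refine bijective_ses_f_top (hyp fs hq) (-1) ?_
  have h1 := Groth.Agent.Lib.helper28.BlowUpTwistNeg.subsingleton_HH_push_int fs hq (-1) 0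
    (by omega) (by omega)
  exact (Groth.Agent.Lib.Helper20.ProjH0.h0Equiv (Proj (AA fs))
    ((Coh.push (Proj.map (psi fs hq) (ReesQuot.irrelevant_le fs hq))).obj
      (GrTwist.twist (CohB1.polyGrading n (A ⧸ II fs)) (-1)))).symm.toEquiv.subsingleton

/-- the map `O ⟶ O(-1)` on the model given by `τ` -/
noncomputable def tauHom' : Coh.structureModule (Proj (AA fs)) ⟶ GrTwist.twist (AA fs) (-1) :=
  (grTwistZeroIso (AA fs) (-1 + 1) (by norm_num)).hom ≫ (ses (hyp fs hq) (-1)).f

theorem bijective_tauHom' (hn : 1 ≤ n) :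
    Function.Bijective ((tauHom' fs hq).app (⊤ : (Proj (AA fs)).Opens)).hom := by
  exact bijective_comp_app _ _ _ (bijective_app_of_isIso _ _) (bijective_tau_top fs hq hn)

/-- **local model**: for `L` inverse to the exceptional ideal of a blow-up `b : B ⟶ X` of an affine
scheme in a quasi-regular ideal with at least two generators, there is `t : O_B ⟶ L` bijective on
global sections. -/
theorem affine_section (X : Scheme.{u}) [IsAffine X]
    (𝓘 : X.IdealSheafData) {n : ℕ} (fs : Fin (n + 1) → Γ(X, ⊤)) (hq : CAlgX.IsQuasiRegular fs)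
    (hI : 𝓘.ideal ⟨⊤, isAffineOpen_top X⟩ = II fs) {B : Scheme.{u}} (b : B ⟶ X)
    (hb : BlowUp.IsBlowUp b 𝓘) (hn : 1 ≤ n) (L : B.Modules)
    (hL : ClSub.IsInverseOf L (ClSub.idealMod (𝓘.comap b))) :
    ∃ t : Coh.structureModule B ⟶ L, Function.Bijective (t.app ⊤).hom := by
  obtain ⟨e, hiso, -, he⟩ := exists_model X 𝓘 fs hI b hb
  obtain ⟨ε⟩ := nonempty_iso_pullback_twist X 𝓘 fs hq b hb e he
  have hinv1 : PicF.IsInvertible (GrTwist.twist (AA fs) 1) :=
    isInvertible_grTwist (AA fs) (hcov fs) 1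
  have h2 : ClSub.IsInverseOf ((Scheme.Modules.pullback e).obj (GrTwist.twist (AA fs) 1))
      ((Scheme.Modules.pullback e).obj (GrTwist.twist (AA fs) (-1))) :=
    Groth.Agent.Lib.helper12.PullPic.isInverseOf_pullback' e hinv1
      (isInverseOf_grTwist (AA fs) (hcov fs))
  have h3 : ClSub.IsInverseOf (ClSub.idealMod (𝓘.comap b))
      ((Scheme.Modules.pullback e).obj (GrTwist.twist (AA fs) (-1))) :=
    isInverseOf_of_iso ε.symm (Iso.refl _) h2
  obtain ⟨i2⟩ := isInverseOf_unique (isInverseOf_symm hL) h3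
  refine ⟨(Groth.Agent.Lib.helper11.InvMod.pullbackUnitIso e).inv ≫
    (Scheme.Modules.pullback e).map (tauHom' fs hq) ≫ i2.inv, ?_⟩
  exact bijective_comp_app _ _ _ (bijective_app_of_isIso _ _)
    (bijective_comp_app _ _ _ (bijective_app_top_pullback e _ (bijective_tauHom' fs hq hn))
      (bijective_app_of_isIso _ _))

end model

end Groth.Agent.Lib.helper28.BlowUpPushInv
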