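import Mathlib
import Groth.Agent.Lib.Helper28.ReesPres
import Groth.Agent.Lib.Helper28.BlowUpTor

/-!
# The exceptional divisor on a chart is a polynomial ring over the centre (helper28)

`I = (f_1, …, f_r)` with `f` an `H₁`-regular sequence, `C = A[I/f_i]` the chart ring.  Then
`C / I C` is the polynomial ring over `A/I` in the variables `f_j/f_i`, `j ≠ i`.  Stated for
arbitrary models `A → A'` of `A/I` and `C → C'` of `C/IC` (`exists_polyEquiv_of_chart`); this is
the isomorphism underlying `ExcSmooth.smooth_of_chart`.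
-/

set_option autoImplicit false
set_option linter.style.haveILetI false
set_option linter.unusedTactic false

universe u

open MvPolynomial

namespace Groth.Agent.Lib.helper28.ExcPoly

open Groth.Agent.Lib.helper16.ReesBlowup Groth.Agent.Lib.helper28.ReesPres

variable {A : Type u} [CommRing A] (I : Ideal A) {r : ℕ} (f : Fin r → A) (hmem : ∀ j, f j ∈ I)
  (i : Fin r)

/-- **The exceptional divisor on a chart is an affine space over the centre**: the explicit
isomorphism. -/
theorem exists_polyEquiv_of_chart (hH1 : CAlgX.IsH1Regular f)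
    (hspan : I ≤ Ideal.span (Set.range f))
    {A' C' : Type u} [CommRing A'] [CommRing C'] (p : A →+* A') (hp : Function.Surjective p)
    (hpk : I ≤ RingHom.ker p)
    (q : ReesFlat.C I (f i) (hmem i) →+* C') (hq : Function.Surjective q)
    (hqk : RingHom.ker q ≤ Ideal.map (toAway I (f i) (hmem i)) I)
    (g : A' →+* C') (hsq : g.comp p = q.comp (toAway I (f i) (hmem i))) :
    ∃ φ : MvPolynomial {j : Fin r // j ≠ i} A' ≃+* C', ∀ a, φ (C a) = g a := by
  classical
  let τ : Fin r → MvPolynomial {j : Fin r // j ≠ i} A' :=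
    fun j => if h : j = i then 1 else X ⟨j, h⟩
  have hτi : τ i = 1 := dif_pos rfl
  have hτj : ∀ j : {j : Fin r // j ≠ i}, τ j.1 = X j := fun j => dif_neg j.2
  let ρ : A →+* MvPolynomial {j : Fin r // j ≠ i} A' := (C : A' →+* _).comp p
  have hρ : ∀ x ∈ I, ρ x = 0 := fun x hx => by
    change C (p x) = 0
    rw [RingHom.mem_ker.mp (hpk hx), map_zero]
  obtain ⟨l, hl1, hl2⟩ := exists_lift I f hmem i hH1 hspan ρ τ hτi
    (fun j => by rw [hρ _ (hmem i), hρ _ (hmem j), zero_mul])
  have hlk : RingHom.ker q ≤ RingHom.ker l := by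
    refine hqk.trans ?_
    rw [Ideal.map_le_iff_le_comap]
    intro x hx
    rw [Ideal.mem_comap, RingHom.mem_ker, ← RingHom.comp_apply, hl1]
    exact hρ x hx
  let lb : C' →+* MvPolynomial {j : Fin r // j ≠ i} A' := q.liftOfSurjective hq ⟨l, hlk⟩
  have hlb : ∀ c, lb (q c) = l c := RingHom.liftOfSurjective_comp_apply q hq ⟨l, hlk⟩
  let φ : MvPolynomial {j : Fin r // j ≠ i} A' →+* C' :=
    eval₂Hom g (fun j => q (t I f hmem i j.1))
  have hφC : ∀ a, φ (C a) = g a := fun a => eval₂Hom_C _ _ a
  have hφX : ∀ j, φ (X j) = q (t I f hmem i j.1) := fun j => eval₂Hom_X' _ _ j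
  have hgp : ∀ a, g (p a) = q (toAway I (f i) (hmem i) a) := fun a => RingHom.congr_fun hsq a
  have h1 : lb.comp φ = RingHom.id _ := by
    refine MvPolynomial.ringHom_ext (fun a' => ?_) (fun j => ?_)
    · obtain ⟨a, rfl⟩ := hp a'
      rw [RingHom.comp_apply, hφC, hgp, hlb, ← RingHom.comp_apply, hl1]
      rfl
    · rw [RingHom.comp_apply, hφX, hlb, hl2, hτj]
      rfl
  have hφinj : Function.Injective φ :=
    Function.LeftInverse.injective (g := lb) (fun x => RingHom.congr_fun h1 x)
  have hφsurj : Function.Surjective φ := by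
    intro c'
    obtain ⟨c, rfl⟩ := hq c'
    obtain ⟨P, rfl⟩ := π_surjective I f hmem i hspan c
    refine ⟨eval₂Hom ρ τ P, ?_⟩
    have h2 : φ.comp (eval₂Hom ρ τ) = q.comp (π I f hmem i) := by
      refine MvPolynomial.ringHom_ext (fun a => ?_) (fun j => ?_)
      · change φ (eval₂Hom ρ τ (C a)) = q (π I f hmem i (C a))
        rw [eval₂Hom_C, π_C]
        change φ (C (p a)) = _
        rw [hφC, hgp]
      · change φ (eval₂Hom ρ τ (X j)) = q (π I f hmem i (X j))
        rw [eval₂Hom_X', π_X]
        by_cases h : j = i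
        · subst h
          rw [hτi, map_one, t_self, map_one]
        · have h3 : τ j = X ⟨j, h⟩ := hτj ⟨j, h⟩
          rw [h3]
          exact hφX ⟨j, h⟩
    exact RingHom.congr_fun h2 P
  exact ⟨RingEquiv.ofBijective φ ⟨hφinj, hφsurj⟩, fun a => hφC a⟩

end Groth.Agent.Lib.helper28.ExcPoly
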