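import Mathlib
import Groth.Prelude.Def_BlowUp2
import Groth.Prelude.Def_RegImm
import Groth.Agent.Lib.Helper28.RegBlowUp2
import Groth.Agent.Lib.Helper28.ExcPoly
import Groth.Agent.Lib.Helper26.ExtRees2
import Groth.Agent.Lib.Helper26.CMPoly2
import Groth.Agent.Lib.Helper17.LciCM

/-!
# Cohen–Macaulayness and blowing up (helper28)

* `isCM_stalk_iff`: Cohen–Macaulayness of a stalk in terms of the coordinate ring of an affine open.
* `isCohenMacaulayRing_of_stalks`: the coordinate ring of an affine open of a locally Noetherian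
  scheme with Cohen–Macaulay stalks is a Cohen–Macaulay ring.
* `isCohenMacaulayRing_quotient_ofList`: the quotient of a Cohen–Macaulay ring by a weakly regular
  sequence is a Cohen–Macaulay ring.
* `isCM_stalk_of_effCartier`: on a locally Noetherian scheme, Cohen–Macaulayness of the local
  ring of an effective Cartier divisor at a point implies that of the ambient local ring.
* `isCM_stalk_blowUp`: the blowing up of a Cohen–Macaulay locally Noetherian scheme in an ideal
  locally generated by a regular sequence is Cohen–Macaulay.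
-/

set_option autoImplicit false
set_option linter.style.haveILetI false
set_option linter.unusedTactic false

universe u

open CategoryTheory CategoryTheory.Limits AlgebraicGeometry Opposite TopologicalSpace IsLocalRing
open LocCoh

namespace Groth.Agent.Lib.helper28.CMBlowUp

section stalk

variable {X : Scheme.{u}}

/-- Cohen–Macaulayness of the stalk at a point of an affine open, in terms of the coordinate
ring -/
theorem isCM_stalk_iff {U : X.Opens} (hU : IsAffineOpen U) (x : X) (hx : x ∈ U) :
    IsCohenMacaulayLocalRing (X.presheaf.stalk x) ↔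
      IsCohenMacaulayLocalRing (Localization.AtPrime (hU.primeIdealOf ⟨x, hx⟩).asIdeal) := by
  letI : Algebra Γ(X, U) (X.presheaf.stalk x) :=
    TopCat.Presheaf.algebra_section_stalk X.presheaf ⟨x, hx⟩
  haveI := hU.isLocalization_stalk ⟨x, hx⟩
  let e : Localization.AtPrime (hU.primeIdealOf ⟨x, hx⟩).asIdeal ≃ₐ[Γ(X, U)] X.presheaf.stalk x :=
    IsLocalization.algEquiv (hU.primeIdealOf ⟨x, hx⟩).asIdeal.primeCompl _ _
  exact ⟨fun h => Groth.Agent.S9808.cm_of_ringEquiv e.symm.toRingEquiv,
    fun h => Groth.Agent.S9808.cm_of_ringEquiv e.toRingEquiv⟩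

theorem isCM_atPrime_congr {A : Type u} [CommRing A] (p p' : Ideal A) [p.IsPrime]
    [p'.IsPrime] (hpp : p = p') (h : IsCohenMacaulayLocalRing (Localization.AtPrime p')) :
    IsCohenMacaulayLocalRing (Localization.AtPrime p) := by
  subst hpp
  exact h

/-- the coordinate ring of an affine open of a locally Noetherian scheme with Cohen–Macaulay
stalks is a Cohen–Macaulay ring -/
theorem isCohenMacaulayRing_of_stalks [IsLocallyNoetherian X] {U : X.Opens} (hU : IsAffineOpen U)
    (h : ∀ x : X, x ∈ U → IsCohenMacaulayLocalRing (X.presheaf.stalk x)) :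
    IsCohenMacaulayRing Γ(X, U) := by
  haveI : IsNoetherianRing Γ(X, U) := IsLocallyNoetherian.component_noetherian ⟨U, hU⟩
  refine { isCohenMacaulayLocalRing_localization := ?_ }
  intro Q hQ
  let y : PrimeSpectrum Γ(X, U) := ⟨Q, hQ⟩
  have hy : hU.fromSpec y ∈ U := by
    rw [← SetLike.mem_coe, ← hU.range_fromSpec]
    exact Set.mem_range_self y
  letI : Algebra Γ(X, U) (X.presheaf.stalk (hU.fromSpec y)) :=
    TopCat.Presheaf.algebra_section_stalk X.presheaf ⟨hU.fromSpec y, hy⟩
  haveI : IsLocalization.AtPrime (X.presheaf.stalk (hU.fromSpec y)) Q :=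
    hU.isLocalization_stalk' y hy
  let e : Localization.AtPrime Q ≃ₐ[Γ(X, U)] X.presheaf.stalk (hU.fromSpec y) :=
    IsLocalization.algEquiv Q.primeCompl _ _
  haveI := h _ hy
  exact Groth.Agent.S9808.cm_of_ringEquiv e.symm.toRingEquiv

end stalk

section ring

/-- the quotient of a Cohen–Macaulay ring by a weakly regular sequence is Cohen–Macaulay -/
theorem isCohenMacaulayRing_quotient_ofList (A : Type u) [CommRing A] [hA : IsCohenMacaulayRing A]
    (rs : List A) (hrs : RingTheory.Sequence.IsWeaklyRegular A rs) :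
    IsCohenMacaulayRing (A ⧸ Ideal.ofList rs) := by
  apply Groth.Agent.Lib.helper17.LciCM.isCohenMacaulayRing_quotient_of_local
  intro Q _ hIQ
  haveI := hA.isCohenMacaulayLocalRing_localization Q
  have hmem : ∀ r ∈ rs.map (algebraMap A (Localization.AtPrime Q)),
      r ∈ maximalIdeal (Localization.AtPrime Q) := by
    intro r hr
    obtain ⟨a, ha, rfl⟩ := List.mem_map.mp hr
    rw [← Localization.AtPrime.map_eq_maximalIdeal]
    exact Ideal.mem_map_of_mem _ (hIQ (Ideal.subset_span ha))
  have hreg : RingTheory.Sequence.IsWeaklyRegular (Localization.AtPrime Q)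
      (rs.map (algebraMap A (Localization.AtPrime Q))) := hrs.of_flat
  haveI h5 := Groth.Agent.Lib.helper17.LciCM.cm_quot_ofList (Localization.AtPrime Q) _ hmem hreg
  have h6 : Ideal.ofList (rs.map (algebraMap A (Localization.AtPrime Q))) =
      (Ideal.ofList rs).map (algebraMap A (Localization.AtPrime Q)) :=
    (Ideal.map_ofList _ _).symm
  exact Groth.Agent.S9808.cm_of_ringEquiv (R := Localization.AtPrime Q ⧸ Ideal.ofList
      (rs.map (algebraMap A (Localization.AtPrime Q))))
      (Ideal.quotEquivOfEq h6)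

/-- polynomial rings in finitely many variables (indexed by any finite type) over a
Cohen–Macaulay ring are Cohen–Macaulay -/
theorem isCohenMacaulayRing_mvPolynomial_fintype (R : Type u) [CommRing R] [IsCohenMacaulayRing R]
    (σ : Type) [Fintype σ] : IsCohenMacaulayRing (MvPolynomial σ R) := by
  haveI := Groth.Agent.Lib.helper26.CMPoly.isCohenMacaulayRing_mvPolynomial R (Fintype.card σ)
  exact Groth.Agent.Lib.helper26.CMPoly.isCohenMacaulayRing_of_ringEquiv
    (MvPolynomial.renameEquiv R (Fintype.equivFin σ)).symm.toRingEquiv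

end ring

section scheme

open Groth.Agent.Lib.helper16.BlowUpProper Groth.Agent.Lib.helper28.RegBlowUp
  Groth.Agent.Lib.helper28.ReesAlg Groth.Agent.Lib.helper28.BlowUpChart
  Groth.Agent.Lib.helper28.BlowUpFlat Groth.Agent.Lib.helper16.ReesBlowup

variable {X X' : Scheme.{u}}

/-- **Cohen–Macaulayness lifts from an effective Cartier divisor to the ambient scheme.** -/
theorem isCM_stalk_of_effCartier [IsLocallyNoetherian X'] (E : X'.IdealSheafData)
    (hE : BlowUp.IsEffCartierIdeal E) (e : E.subscheme)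
    (h : IsCohenMacaulayLocalRing (E.subscheme.presheaf.stalk e)) :
    IsCohenMacaulayLocalRing (X'.presheaf.stalk (E.subschemeι e)) := by
  obtain ⟨W, hyW, t, ht, hEW⟩ := hE (E.subschemeι e)
  have hW : IsAffineOpen W.1 := W.2
  have hV : IsAffineOpen (E.subschemeι ⁻¹ᵁ W.1) := hW.preimage E.subschemeι
  have heV : e ∈ E.subschemeι ⁻¹ᵁ W.1 := hyW
  haveI : IsNoetherianRing Γ(X', W.1) := IsLocallyNoetherian.component_noetherian W
  rw [isCM_stalk_iff hV e heV] at h
  rw [isCM_stalk_iff hW (E.subschemeι e) hyW]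
  have hc := IsAffineOpen.comap_primeIdealOf_appLE (f := E.subschemeι) W.1 hW _ hV le_rfl heV
  have hc' : (hV.primeIdealOf ⟨e, heV⟩).asIdeal.comap (E.subschemeι.app W.1).hom =
      (hW.primeIdealOf ⟨E.subschemeι e, hyW⟩).asIdeal := by
    have := congrArg PrimeSpectrum.asIdeal hc
    rw [← Scheme.Hom.app_eq_appLE] at this
    exact this
  exact (Groth.Agent.Lib.helper26.ExtRees.cmLocal_quot_iff (E.subschemeι.app W.1).hom
    (E.subschemeι.app_surjective W.1 hW) t (by rw [E.ker_subschemeι_app W, hEW]) _ _ hc'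
    (isRegular_iff_mem_nonZeroDivisors.mpr ht).left.isSMulRegular).2 h

/-- **The blowing up of a Cohen–Macaulay locally Noetherian scheme in an ideal locally generated
by a regular sequence is Cohen–Macaulay.** -/
theorem isCM_stalk_blowUp {T : Scheme.{u}} [IsLocallyNoetherian X]
    (hcm : ∀ x : X, IsCohenMacaulayLocalRing (X.presheaf.stalk x))
    (I : X.IdealSheafData) (hI : RegImm.IsRegularIdeal RegImm.Kind.regular I)
    (π : T ⟶ X) (hπ : BlowUp.IsBlowUp π I) (t : T) :
    IsCohenMacaulayLocalRing (T.presheaf.stalk t) := by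
  classical
  have hft : ∀ x : X, ∃ U : X.affineOpens, x ∈ U.1 ∧ (I.ideal U).FG := by
    intro x
    obtain ⟨U, hU, hxU, -⟩ := Opens.isBasis_iff_nbhd.mp X.isBasis_affineOpens (Opens.mem_top x)
    haveI : IsNoetherianRing Γ(X, U) := IsLocallyNoetherian.component_noetherian ⟨U, hU⟩
    exact ⟨⟨U, hU⟩, hxU, IsNoetherian.noetherian _⟩
  haveI hprop : IsProper π := isProper_of_isBlowUp I π hπ hft
  haveI : IsLocallyNoetherian T := LocallyOfFiniteType.isLocallyNoetherian π
  by_cases hz : π t ∈ I.support
  · -- on the exceptional divisor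
    have hzs : t ∈ (I.comap π).support := by
      rw [Scheme.IdealSheafData.support_comap]
      exact hz
    obtain ⟨e, he⟩ : ∃ e, (I.comap π).subschemeι e = t := by
      rw [← SetLike.mem_coe, ← Scheme.IdealSheafData.range_subschemeι] at hzs
      exact hzs
    obtain ⟨U, hxU, rs, hrs, hIrs⟩ := hI (π t) hz
    have hrs' : RingTheory.Sequence.IsRegular Γ(X, U.1) rs := hrs
    obtain ⟨U₁, hU⟩ := U
    obtain ⟨f, hf⟩ : ∃ f : Fin rs.length → Γ(X, U₁), f = rs.get := ⟨_, rfl⟩
    have hspan_eq : Ideal.span (Set.range f) = Ideal.ofList rs := by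
      rw [hf, Set.range_list_get]
    have hIU : IU I U₁ hU = Ideal.ofList rs := hIrs
    have hmem : ∀ j, f j ∈ IU I U₁ hU := fun j => by
      rw [hIU, ← hspan_eq]
      exact Ideal.subset_span ⟨j, rfl⟩
    have hspan : IU I U₁ hU ≤ Ideal.span (Set.range f) := by
      rw [hIU, hspan_eq]
    have hH1 : CAlgX.IsH1Regular f := by
      apply isH1Regular_of_isWeaklyRegular
      rw [hf, List.ofFn_get]
      exact hrs'.toIsWeaklyRegular
    obtain ⟨k, W', hW', hle, θ, htW', hθ⟩ :=
      exists_chart_of_span I π hπ U₁ hU f hmem hspan t hxU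
    have hV : IsAffineOpen ((I.comap π).subschemeι ⁻¹ᵁ W') := hW'.preimage _
    have heV : e ∈ (I.comap π).subschemeι ⁻¹ᵁ W' := by
      change (I.comap π).subschemeι e ∈ W'
      rw [he]
      exact htW'
    haveI hA : IsCohenMacaulayRing Γ(X, U₁) :=
      isCohenMacaulayRing_of_stalks hU (fun x _ => hcm x)
    haveI hAI : IsCohenMacaulayRing (Γ(X, U₁) ⧸ Ideal.ofList rs) :=
      isCohenMacaulayRing_quotient_ofList _ rs hrs'.toIsWeaklyRegular
    -- the coordinate ring of the exceptional divisor on the chart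
    have hsurjι : Function.Surjective ((I.comap π).subschemeι.app W').hom :=
      (I.comap π).subschemeι.app_surjective W' hW'
    obtain ⟨q, hq⟩ : ∃ q : ReesFlat.C (IU I U₁ hU) (f k) (hmem k) →+*
        Γ((I.comap π).subscheme, (I.comap π).subschemeι ⁻¹ᵁ W'),
        q = ((I.comap π).subschemeι.app W').hom.comp θ.toRingHom := ⟨_, rfl⟩
    have hqs : Function.Surjective q := by
      rw [hq]
      exact hsurjι.comp θ.surjective
    have hqker : RingHom.ker q = Ideal.map (toAway (IU I U₁ hU) (f k) (hmem k)) (IU I U₁ hU) := by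
      rw [Groth.Agent.Lib.helper16.ReesBlowup.map_toAway_eq_span]
      ext c
      rw [hq, RingHom.mem_ker, RingHom.comp_apply, ← RingHom.mem_ker,
        (I.comap π).ker_subschemeι_app ⟨W', hW'⟩,
        ideal_chart_eq I U₁ hU (f k) (hmem k) W' hW' hle θ hθ]
      constructor
      · intro h1
        obtain ⟨c', hc', hcc'⟩ := (Ideal.mem_map_iff_of_surjective
          (θ : ReesFlat.C (IU I U₁ hU) (f k) (hmem k) →+* Γ(T, W')) θ.surjective).mp h1
        have : c' = c := θ.injective hcc'
        rw [← this]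
        exact hc'
      · intro h1
        exact Ideal.mem_map_of_mem _ h1
    have hkill : ∀ a ∈ Ideal.ofList rs,
        (q.comp (toAway (IU I U₁ hU) (f k) (hmem k))) a = 0 := by
      intro a ha
      rw [RingHom.comp_apply, ← RingHom.mem_ker, hqker]
      exact Ideal.mem_map_of_mem _ (hIU ▸ ha)
    obtain ⟨φ, -⟩ := Groth.Agent.Lib.helper28.ExcPoly.exists_polyEquiv_of_chart
      (IU I U₁ hU) f hmem k hH1 hspan
      (Ideal.Quotient.mk (Ideal.ofList rs)) Ideal.Quotient.mk_surjective
      (by rw [Ideal.mk_ker, hIU]) q hqs hqker.le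
      (Ideal.Quotient.lift (Ideal.ofList rs) (q.comp (toAway (IU I U₁ hU) (f k) (hmem k))) hkill)
      (RingHom.ext fun a => Ideal.Quotient.lift_mk (Ideal.ofList rs) _ hkill)
    haveI : IsCohenMacaulayRing
        (MvPolynomial {j : Fin rs.length // j ≠ k} (Γ(X, U₁) ⧸ Ideal.ofList rs)) :=
      isCohenMacaulayRing_mvPolynomial_fintype _ _
    have hC' : IsCohenMacaulayRing
        Γ((I.comap π).subscheme, (I.comap π).subschemeι ⁻¹ᵁ W') :=
      Groth.Agent.Lib.helper26.CMPoly.isCohenMacaulayRing_of_ringEquiv φ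
    have h1 : IsCohenMacaulayLocalRing ((I.comap π).subscheme.presheaf.stalk e) := by
      rw [isCM_stalk_iff hV e heV]
      exact hC'.isCohenMacaulayLocalRing_localization _
    have h2 := isCM_stalk_of_effCartier (I.comap π) hπ.1 e h1
    rw [he] at h2
    exact h2
  · -- off the centre the blowing up is an isomorphism
    obtain ⟨U₀, hU₀⟩ : ∃ U₀ : X.Opens, (U₀ : Set X) = (I.support : Set X)ᶜ :=
      ⟨⟨(I.support : Set X)ᶜ, I.support.isClosed.isOpen_compl⟩, rfl⟩
    haveI hiso : IsIso (π ∣_ U₀) :=
      Groth.Agent.Lib.helper16.HCart.isIso_morphismRestrict_of_isBlowUp I π hπ U₀ (by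
        rw [hU₀]
        exact disjoint_compl_right)
    have hzU : t ∈ π ⁻¹ᵁ U₀ := by
      change π t ∈ (U₀ : Set X)
      rw [hU₀]
      exact hz
    haveI : IsIso (π.stalkMap t) :=
      ((MorphismProperty.isomorphisms CommRingCat).arrow_mk_iso_iff
        (morphismRestrictStalkMap π U₀ ⟨t, hzU⟩)).mp inferInstance
    haveI := hcm (π t)
    exact Groth.Agent.S9808.cm_of_ringEquiv (asIso (π.stalkMap t)).commRingCatIsoToRingEquiv

end scheme

end Groth.Agent.Lib.helper28.CMBlowUp
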