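import Mathlib
import Groth.Prelude.Def_W4c2conddiscmodels

set_option autoImplicit false
universe u
open Finset

namespace Groth.Agent.Lib.helper28.ChainCtr

variable {V E : Type u} [Fintype V] [Fintype E] [DecidableEq V] [DecidableEq E]

/-- the antisymmetric edge flow attached to a vertex vector -/
def flow (ends : E → V × V) (β y : V → ℤ) (e : E) : ℤ :=
  β (ends e).2 * y (ends e).1 - β (ends e).1 * y (ends e).2

theorem sum_edgeMult_aux (ends : E → V × V) (v : V) (h : V → ℤ) (hv : h v = 0) (e : E) :
    ∑ w : V, (if ends e = (v, w) ∨ ends e = (w, v) then (1:ℤ) else 0) * h w =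
      (if (ends e).1 = v then h (ends e).2 else 0) + (if (ends e).2 = v then h (ends e).1 else 0) := by
  generalize ends e = p
  obtain ⟨a, b⟩ := p
  simp only [Prod.mk.injEq]
  by_cases ha : a = v <;> by_cases hb : b = v
  · rw [ha, hb]
    simp only [if_true, hv, add_zero]
    apply Finset.sum_eq_zero
    intro w _
    by_cases hw : v = w
    · rw [← hw]; simp [hv]
    · simp [hw]
  · rw [ha]
    simp only [if_true, if_neg hb, add_zero, true_and]
    rw [Finset.sum_eq_single b]
    · simp
    · intro w _ hw
      have : ¬ (b = w ∨ v = w ∧ b = v) := by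
        rintro (h1 | ⟨_, h2⟩)
        · exact hw h1.symm
        · exact hb h2
      simp [this]
    · intro hh; exact absurd (Finset.mem_univ b) hh
  · rw [hb]
    simp only [if_true, if_neg ha, zero_add, and_true]
    rw [Finset.sum_eq_single a]
    · simp
    · intro w _ hw
      have : ¬ (a = v ∧ v = w ∨ a = w) := by
        rintro (⟨h1, _⟩ | h2)
        · exact ha h1
        · exact hw h2.symm
      simp [this]
    · intro hh; exact absurd (Finset.mem_univ a) hh
  · simp only [if_neg ha, if_neg hb, add_zero]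
    apply Finset.sum_eq_zero
    intro w _
    have : ¬ ((a = v ∧ b = w) ∨ (a = w ∧ b = v)) := by
      rintro (⟨h1, _⟩ | ⟨_, h2⟩)
      · exact ha h1
      · exact hb h2
    simp [this]

theorem sum_edgeMult (ends : E → V × V) (v : V) (h : V → ℤ) (hv : h v = 0) :
    ∑ w ∈ univ.erase v, (LabGraph.edgeMult ends v w : ℤ) * h w =
      ∑ e : E, ((if (ends e).1 = v then h (ends e).2 else 0) +
        (if (ends e).2 = v then h (ends e).1 else 0)) := by
  rw [Finset.sum_erase _ (by rw [hv, mul_zero])]
  have h1 : ∀ w : V, (LabGraph.edgeMult ends v w : ℤ) =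
      ∑ e : E, (if ends e = (v, w) ∨ ends e = (w, v) then (1:ℤ) else 0) := by
    intro w
    unfold LabGraph.edgeMult
    rw [Finset.card_filter]
    push_cast
    rfl
  simp_rw [h1, Finset.sum_mul]
  rw [Finset.sum_comm]
  exact Finset.sum_congr rfl fun e _ => sum_edgeMult_aux ends v h hv e

theorem beta_mul_diag (ends : E → V × V) (β : V → ℤ) (hβ : LabGraph.IsMultFn ends β) (v : V) :
    β v * LabGraph.mfMatrix ends β v v =
      -(∑ u ∈ univ.erase v, β u * (LabGraph.edgeMult ends v u : ℤ)) := by
  unfold LabGraph.mfMatrix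
  rw [if_pos rfl]
  exact Int.mul_ediv_cancel' (Dvd.dvd.neg_right (hβ v).2)

theorem mfMatrix_off (ends : E → V × V) (β : V → ℤ) {v w : V} (h : v ≠ w) :
    LabGraph.mfMatrix ends β v w = (LabGraph.edgeMult ends v w : ℤ) := by
  unfold LabGraph.mfMatrix
  rw [if_neg h]

theorem beta_mul_mulVec (ends : E → V × V) (β : V → ℤ) (hβ : LabGraph.IsMultFn ends β)
    (y : V → ℤ) (v : V) :
    β v * (Matrix.mulVec (LabGraph.mfMatrix ends β) y) v =
      LabGraph.boundary ends (flow ends β y) v := by
  have h0 : (Matrix.mulVec (LabGraph.mfMatrix ends β) y) v =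
      LabGraph.mfMatrix ends β v v * y v +
        ∑ w ∈ univ.erase v, (LabGraph.edgeMult ends v w : ℤ) * y w := by
    rw [Matrix.mulVec, dotProduct, ← Finset.add_sum_erase _ _ (Finset.mem_univ v)]
    congr 1
    refine Finset.sum_congr rfl fun w hw => ?_
    rw [mfMatrix_off ends β (Finset.ne_of_mem_erase hw).symm]
  have h1 := sum_edgeMult ends v (fun w => β v * y w - β w * y v) (by ring)
  have h2 : β v * (Matrix.mulVec (LabGraph.mfMatrix ends β) y) v =
      ∑ w ∈ univ.erase v, (LabGraph.edgeMult ends v w : ℤ) * (β v * y w - β w * y v) := by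
    rw [h0, mul_add, ← mul_assoc, beta_mul_diag ends β hβ v, Finset.mul_sum, neg_mul,
      Finset.sum_mul, ← Finset.sum_neg_distrib, ← Finset.sum_add_distrib]
    refine Finset.sum_congr rfl fun w _ => ?_
    ring
  rw [h2, h1]
  unfold LabGraph.boundary
  refine Finset.sum_congr rfl fun e _ => ?_
  by_cases h1 : (ends e).1 = v <;> by_cases h2 : (ends e).2 = v
  · simp only [h1, h2, if_true, flow]; ring
  · simp only [h1, h2, if_true, if_false, flow]; rw [← h1]; ring
  · simp only [h1, h2, if_true, if_false, flow]; rw [← h2]; ring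
  · simp only [h1, h2, if_false]; ring

section Chain

variable (ends : E → V × V) (β : V → ℤ) {k : ℕ} (f : Fin (k + 1) → V) (e : Fin k → E)

theorem ctrMk_step (hC : LabGraph.IsChain ends f e) (j : Fin k) :
    DualGr.ctrMk ends (univ.image e) (f j.castSucc) = DualGr.ctrMk ends (univ.image e) (f j.succ) := by
  have he : e j ∈ univ.image e := Finset.mem_image.mpr ⟨j, Finset.mem_univ _, rfl⟩
  have := DualGr.ctrMk_fst_eq_ctrMk_snd ends (univ.image e) he
  rcases hC.2.2 j with h | h
  · rw [h] at this; exact this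
  · rw [h] at this; exact this.symm

theorem ctrMk_chain (hC : LabGraph.IsChain ends f e) (i : Fin (k + 1)) :
    DualGr.ctrMk ends (univ.image e) (f i) = DualGr.ctrMk ends (univ.image e) (f 0) := by
  induction i using Fin.induction with
  | zero => rfl
  | succ j ih => rw [← ctrMk_step ends f e hC j, ih]

theorem rel_of_eqvGen (hC : LabGraph.IsChain ends f e) {u v : V}
    (h : Relation.EqvGen (DualGr.CtrRel ends (univ.image e)) u v) :
    u = v ∨ (u ∈ Set.range f ∧ v ∈ Set.range f) := by
  induction h with
  | rel x y hxy =>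
    obtain ⟨e', he', hends⟩ := hxy
    obtain ⟨j, _, rfl⟩ := Finset.mem_image.mp he'
    right
    rcases hC.2.2 j with h | h
    · rw [h] at hends
      simp only [Prod.mk.injEq] at hends
      obtain ⟨rfl, rfl⟩ := hends
      exact ⟨⟨_, rfl⟩, ⟨_, rfl⟩⟩
    · rw [h] at hends
      simp only [Prod.mk.injEq] at hends
      obtain ⟨rfl, rfl⟩ := hends
      exact ⟨⟨_, rfl⟩, ⟨_, rfl⟩⟩
  | refl x => left; rfl
  | symm x y _ ih =>
    rcases ih with h | ⟨h1, h2⟩
    · left; exact h.symm
    · right; exact ⟨h2, h1⟩
  | trans x y z _ _ ih1 ih2 =>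
    rcases ih1 with h | ⟨h1, h2⟩
    · rw [h]; exact ih2
    · rcases ih2 with h' | ⟨h3, h4⟩
      · rw [← h']; right; exact ⟨h1, h2⟩
      · right; exact ⟨h1, h4⟩

theorem ctrMk_eq_iff (hC : LabGraph.IsChain ends f e) (u v : V) :
    DualGr.ctrMk ends (univ.image e) u = DualGr.ctrMk ends (univ.image e) v ↔
      u = v ∨ (u ∈ Set.range f ∧ v ∈ Set.range f) := by
  constructor
  · intro h
    exact rel_of_eqvGen ends f e hC (Quotient.exact h)
  · rintro (h | ⟨⟨i, rfl⟩, ⟨j, rfl⟩⟩)
    · rw [h]
    · rw [ctrMk_chain ends f e hC i, ctrMk_chain ends f e hC j]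

theorem ctrFn_ctrMk (hC : LabGraph.IsChain ends f e) (hconst : ∀ i j, β (f i) = β (f j)) (v : V) :
    LabGraph.ctrFn ends (univ.image e) β (DualGr.ctrMk ends (univ.image e) v) = β v := by
  unfold LabGraph.ctrFn
  have h1 : DualGr.ctrMk ends (univ.image e)
      (Quotient.out (s := DualGr.ctrSetoid ends (univ.image e)) (DualGr.ctrMk ends (univ.image e) v)) =
      DualGr.ctrMk ends (univ.image e) v := Quotient.out_eq _
  rcases (ctrMk_eq_iff ends f e hC _ _).mp h1 with h | ⟨⟨i, hi⟩, ⟨j, hj⟩⟩
  · rw [h]
  · rw [← hi, ← hj]; exact hconst i j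


theorem flow_ctr (hC : LabGraph.IsChain ends f e) (hconst : ∀ i j, β (f i) = β (f j))
    (y' : DualGr.CtrVert ends (univ.image e) → ℤ) :
    flow (DualGr.ctrEnds ends (univ.image e)) (LabGraph.ctrFn ends (univ.image e) β) y' =
      DualGr.resE (univ.image e)
        (flow ends β (fun v => y' (DualGr.ctrMk ends (univ.image e) v))) := by
  funext e'
  simp only [flow, DualGr.ctrEnds, DualGr.resE, LinearMap.coe_mk, AddHom.coe_mk,
    ctrFn_ctrMk ends β f e hC hconst]

theorem contraction_formula (hβ : LabGraph.IsMultFn ends β)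
    (hβ' : LabGraph.IsMultFn (DualGr.ctrEnds ends (univ.image e))
      (LabGraph.ctrFn ends (univ.image e) β))
    (hC : LabGraph.IsChain ends f e) (hconst : ∀ i j, β (f i) = β (f j))
    (y' : DualGr.CtrVert ends (univ.image e) → ℤ) (a' : DualGr.CtrVert ends (univ.image e)) :
    LabGraph.ctrFn ends (univ.image e) β a' *
      (Matrix.mulVec (LabGraph.mfMatrix (DualGr.ctrEnds ends (univ.image e))
        (LabGraph.ctrFn ends (univ.image e) β)) y') a' =
    ∑ v ∈ univ.filter (fun v => DualGr.ctrMk ends (univ.image e) v = a'),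
      β v * (Matrix.mulVec (LabGraph.mfMatrix ends β)
        (fun v => y' (DualGr.ctrMk ends (univ.image e) v))) v := by
  rw [beta_mul_mulVec _ _ hβ', flow_ctr ends β f e hC hconst, ← DualGr.boundaryHom_apply,
    ← DualGr.pushV_boundaryHom]
  simp only [DualGr.pushV, LinearMap.coe_mk, AddHom.coe_mk, DualGr.boundaryHom_apply]
  refine Finset.sum_congr rfl fun v _ => ?_
  rw [beta_mul_mulVec _ _ hβ]


theorem isMultFn_ctr (hβ : LabGraph.IsMultFn ends β)
    (hC : LabGraph.IsChain ends f e) (hconst : ∀ i j, β (f i) = β (f j)) :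
    LabGraph.IsMultFn (DualGr.ctrEnds ends (univ.image e))
      (LabGraph.ctrFn ends (univ.image e) β) := by
  intro a'
  refine ⟨(hβ _).1, ?_⟩
  have hβq := ctrFn_ctrMk ends β f e hC hconst
  have h1 : ∑ w ∈ univ.erase a', LabGraph.ctrFn ends (univ.image e) β w *
        (LabGraph.edgeMult (DualGr.ctrEnds ends (univ.image e)) a' w : ℤ) =
      ∑ w ∈ univ.erase a', (LabGraph.edgeMult (DualGr.ctrEnds ends (univ.image e)) a' w : ℤ) *
        (if w = a' then 0 else LabGraph.ctrFn ends (univ.image e) β w) := by
    refine Finset.sum_congr rfl fun w hw => ?_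
    rw [if_neg (Finset.ne_of_mem_erase hw), mul_comm]
  rw [h1, sum_edgeMult (DualGr.ctrEnds ends (univ.image e)) a'
    (fun w => if w = a' then 0 else LabGraph.ctrFn ends (univ.image e) β w) (if_pos rfl)]
  -- the summand as a function on E
  set F : E → ℤ := fun e0 =>
    (if DualGr.ctrMk ends (univ.image e) (ends e0).1 = a' then
      (if DualGr.ctrMk ends (univ.image e) (ends e0).2 = a' then 0 else β (ends e0).2) else 0) +
    (if DualGr.ctrMk ends (univ.image e) (ends e0).2 = a' then
      (if DualGr.ctrMk ends (univ.image e) (ends e0).1 = a' then 0 else β (ends e0).1) else 0) with hF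
  have h2 : (∑ e' : DualGr.CtrEdge (univ.image e),
      ((if (DualGr.ctrEnds ends (univ.image e) e').1 = a' then
          (fun w => if w = a' then 0 else LabGraph.ctrFn ends (univ.image e) β w)
            (DualGr.ctrEnds ends (univ.image e) e').2 else 0) +
        (if (DualGr.ctrEnds ends (univ.image e) e').2 = a' then
          (fun w => if w = a' then 0 else LabGraph.ctrFn ends (univ.image e) β w)
            (DualGr.ctrEnds ends (univ.image e) e').1 else 0))) =
      ∑ e0 : E, (if e0 ∉ univ.image e then F e0 else 0) := by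
    rw [← Finset.sum_filter,
      Finset.sum_subtype (Finset.univ.filter (fun e0 : E => e0 ∉ univ.image e))
        (p := fun e0 => e0 ∉ univ.image e) (by intro e0; simp)]
    refine Finset.sum_congr rfl fun e' _ => ?_
    simp only [hF, DualGr.ctrEnds, hβq]
  rw [h2]
  -- the comparison sums
  set S : V → ℤ := fun v => ∑ u ∈ univ.erase v, β u * (LabGraph.edgeMult ends v u : ℤ) with hS
  set A : E → ℤ := fun e0 =>
    (if DualGr.ctrMk ends (univ.image e) (ends e0).1 = a' then
      (if (ends e0).2 = (ends e0).1 then 0 else β (ends e0).2) else 0) +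
    (if DualGr.ctrMk ends (univ.image e) (ends e0).2 = a' then
      (if (ends e0).1 = (ends e0).2 then 0 else β (ends e0).1) else 0) with hA
  have hSA : ∑ v ∈ univ.filter (fun v => DualGr.ctrMk ends (univ.image e) v = a'), S v =
      ∑ e0 : E, A e0 := by
    have hSv : ∀ v, S v = ∑ e0 : E, ((if (ends e0).1 = v then
        (if (ends e0).2 = v then 0 else β (ends e0).2) else 0) +
        (if (ends e0).2 = v then (if (ends e0).1 = v then 0 else β (ends e0).1) else 0)) := by
      intro v
      have := sum_edgeMult ends v (fun w => if w = v then 0 else β w) (if_pos rfl)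
      rw [← this]
      refine Finset.sum_congr rfl fun w hw => ?_
      rw [if_neg (Finset.ne_of_mem_erase hw), mul_comm]
    simp_rw [hSv]
    rw [Finset.sum_comm]
    refine Finset.sum_congr rfl fun e0 _ => ?_
    rw [Finset.sum_add_distrib]
    have e1 : ∑ v ∈ univ.filter (fun v => DualGr.ctrMk ends (univ.image e) v = a'),
        (if (ends e0).1 = v then (if (ends e0).2 = v then 0 else β (ends e0).2) else 0) =
        ∑ v ∈ univ.filter (fun v => DualGr.ctrMk ends (univ.image e) v = a'),
        (if (ends e0).1 = v then (if (ends e0).2 = (ends e0).1 then 0 else β (ends e0).2) else 0) := by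
      refine Finset.sum_congr rfl fun v _ => ?_
      by_cases hv : (ends e0).1 = v
      · rw [if_pos hv, if_pos hv, hv]
      · rw [if_neg hv, if_neg hv]
    have e2 : ∑ v ∈ univ.filter (fun v => DualGr.ctrMk ends (univ.image e) v = a'),
        (if (ends e0).2 = v then (if (ends e0).1 = v then 0 else β (ends e0).1) else 0) =
        ∑ v ∈ univ.filter (fun v => DualGr.ctrMk ends (univ.image e) v = a'),
        (if (ends e0).2 = v then (if (ends e0).1 = (ends e0).2 then 0 else β (ends e0).1) else 0) := by
      refine Finset.sum_congr rfl fun v _ => ?_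
      by_cases hv : (ends e0).2 = v
      · rw [if_pos hv, if_pos hv, hv]
      · rw [if_neg hv, if_neg hv]
    rw [e1, e2, Finset.sum_ite_eq, Finset.sum_ite_eq]
    simp only [Finset.mem_filter, Finset.mem_univ, true_and, hA]
  have hdS : LabGraph.ctrFn ends (univ.image e) β a' ∣
      ∑ v ∈ univ.filter (fun v => DualGr.ctrMk ends (univ.image e) v = a'), S v := by
    refine Finset.dvd_sum fun v hv => ?_
    rw [Finset.mem_filter] at hv
    rw [← hv.2, hβq]
    exact (hβ v).2
  have hdiff : ∀ e0 : E, LabGraph.ctrFn ends (univ.image e) β a' ∣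
      A e0 - (if e0 ∉ univ.image e then F e0 else 0) := by
    intro e0
    by_cases h1 : DualGr.ctrMk ends (univ.image e) (ends e0).1 = a' <;>
      by_cases h2 : DualGr.ctrMk ends (univ.image e) (ends e0).2 = a'
    · have hF0 : F e0 = 0 := by simp only [hF, h1, h2, if_true, add_zero]
      rw [hF0, ite_self, sub_zero]
      by_cases hab : (ends e0).1 = (ends e0).2
      · simp only [hA, h1, h2, if_true, hab, add_zero, dvd_zero]
      · simp only [hA, h1, h2, if_true, if_neg hab, if_neg (Ne.symm hab)]
        rcases (ctrMk_eq_iff ends f e hC _ _).mp (h1.trans h2.symm) with h | ⟨⟨i, hi⟩, ⟨j, hj⟩⟩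
        · exact absurd h hab
        · have ha : LabGraph.ctrFn ends (univ.image e) β a' = β (f i) := by
            rw [← h1, hβq, hi]
          rw [ha, ← hi, ← hj, hconst j i]
          exact dvd_add (dvd_refl _) (dvd_refl _)
    · have hne : (ends e0).2 ≠ (ends e0).1 := by
        intro h; rw [h] at h2; exact h2 h1
      have hnD : e0 ∉ univ.image e := by
        intro hD
        exact h2 ((DualGr.ctrMk_fst_eq_ctrMk_snd ends (univ.image e) hD).symm.trans h1)
      simp only [hA, hF, h1, h2, if_true, if_false, if_neg hne, hnD, not_false_eq_true, sub_self,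
        dvd_zero]
    · have hne : (ends e0).1 ≠ (ends e0).2 := by
        intro h; rw [h] at h1; exact h1 h2
      have hnD : e0 ∉ univ.image e := by
        intro hD
        exact h1 ((DualGr.ctrMk_fst_eq_ctrMk_snd ends (univ.image e) hD).trans h2)
      simp only [hA, hF, h1, h2, if_true, if_false, if_neg hne, hnD, not_false_eq_true, sub_self,
        dvd_zero]
    · simp only [hA, hF, h1, h2, if_false, add_zero, ite_self, sub_self, dvd_zero]
  have hd2 : LabGraph.ctrFn ends (univ.image e) β a' ∣
      ∑ e0 : E, (A e0 - (if e0 ∉ univ.image e then F e0 else 0)) :=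
    Finset.dvd_sum fun e0 _ => hdiff e0
  rw [Finset.sum_sub_distrib, ← hSA] at hd2
  have := dvd_sub hdS hd2
  rwa [sub_sub_cancel] at this

end Chain

end Groth.Agent.Lib.helper28.ChainCtr
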