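import Mathlib
import Groth.Agent.Lib.Helper28.ChainCtr

set_option autoImplicit false
universe u
open Finset

namespace Groth.Agent.Lib.helper28.ChainCtr

variable {V E : Type u} [Fintype V] [Fintype E] [DecidableEq V] [DecidableEq E]

section Chain2

variable (ends : E → V × V) (β : V → ℤ) (m : ℕ) (f : Fin (m + 1) → V) (e : Fin m → E)

theorem cut (hC : LabGraph.IsChain ends f e) (hconn : ∀ i, LabGraph.IsConnecting ends (e i))
    (i : Fin m) :
    ∃ T : V → Prop, (∀ e' : E, (T (ends e').1 ↔ ¬ T (ends e').2) ↔ e' = e i) ∧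
      ∀ k : Fin (m + 1), T (f k) ↔ i.val < k.val := by
  obtain ⟨S, hS⟩ := hconn i
  refine ⟨fun u => (u ∈ S ↔ f i.succ ∈ S), ?_, ?_⟩
  · intro e'
    rw [← hS e']
    by_cases h1 : (ends e').1 ∈ S <;> by_cases h2 : (ends e').2 ∈ S <;>
      by_cases h3 : f i.succ ∈ S <;> simp [h1, h2, h3]
  · set T : V → Prop := fun u => (u ∈ S ↔ f i.succ ∈ S) with hT
    have hcross : ∀ e' : E, (T (ends e').1 ↔ ¬ T (ends e').2) ↔ e' = e i := by
      intro e'
      rw [← hS e']
      by_cases h1 : (ends e').1 ∈ S <;> by_cases h2 : (ends e').2 ∈ S <;>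
        by_cases h3 : f i.succ ∈ S <;> simp [hT, h1, h2, h3]
    have hstep : ∀ j : Fin m, j ≠ i → (T (f j.castSucc) ↔ T (f j.succ)) := by
      intro j hj
      have hne : e j ≠ e i := fun h => hj (hC.2.1 h)
      have hc := (hcross (e j)).not.mpr hne
      rcases hC.2.2 j with h | h
      · rw [h] at hc
        by_cases h1 : T (f j.castSucc) <;> by_cases h2 : T (f j.succ) <;> simp_all
      · rw [h] at hc
        by_cases h1 : T (f j.castSucc) <;> by_cases h2 : T (f j.succ) <;> simp_all
    have hi1 : T (f i.succ) := Iff.rfl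
    have hi0 : ¬ T (f i.castSucc) := by
      have hc := (hcross (e i)).mpr rfl
      rcases hC.2.2 i with h | h
      · rw [h] at hc
        exact fun h0 => (hc.mp h0) hi1
      · rw [h] at hc
        exact fun h0 => (hc.mp hi1) h0
    have hup : ∀ n, i.val + 1 ≤ n → ∀ h : n < m + 1, T (f ⟨n, h⟩) := by
      intro n hn
      induction n, hn using Nat.le_induction with
      | base => intro h; exact hi1
      | succ n hn ih =>
        intro h
        have hn' : n < m := by omega
        have := hstep ⟨n, hn'⟩ (by intro h'; rw [← h'] at hn; simp at hn)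
        exact this.mp (ih (by omega))
    have hdown : ∀ d n, n + d = i.val → ∀ h : n < m + 1, ¬ T (f ⟨n, h⟩) := by
      intro d
      induction d with
      | zero =>
        intro n hn h
        have : (⟨n, h⟩ : Fin (m + 1)) = i.castSucc := Fin.ext (by simpa using hn)
        rw [this]; exact hi0
      | succ d ih =>
        intro n hn h
        have hn' : n < m := by omega
        have h1 := ih (n + 1) (by omega) (by omega)
        have := hstep ⟨n, hn'⟩ (by intro h'; rw [← h'] at hn; simp at hn)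
        exact fun h0 => h1 (this.mp h0)
    intro k
    by_cases hk : i.val < k.val
    · simp only [hk, iff_true]
      exact hup k.val hk k.isLt
    · simp only [hk, iff_false]
      exact hdown (i.val - k.val) k.val (by omega) k.isLt


theorem mem_D_of_mem (hC : LabGraph.IsChain ends f e) (j : Fin m) :
    (ends (e j)).1 ∈ Set.range f ∧ (ends (e j)).2 ∈ Set.range f := by
  rcases hC.2.2 j with h | h <;> rw [h] <;> exact ⟨⟨_, rfl⟩, ⟨_, rfl⟩⟩

/-- no off-chain edge joins two distinct chain vertices -/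
theorem no_chord (hC : LabGraph.IsChain ends f e) (hconn : ∀ i, LabGraph.IsConnecting ends (e i))
    (e' : E) (he' : e' ∉ univ.image e) (a b : Fin (m + 1))
    (h1 : (ends e').1 = f a) (h2 : (ends e').2 = f b) : a = b := by
  by_contra hab
  have hD : ∀ i, e' ≠ e i := fun i h => he' (Finset.mem_image.mpr ⟨i, Finset.mem_univ _, h.symm⟩)
  rcases lt_or_gt_of_ne hab with h | h
  · have ham : a.val < m := lt_of_lt_of_le h (Nat.lt_succ_iff.mp b.isLt)
    obtain ⟨T, hT1, hT2⟩ := cut ends m f e hC hconn ⟨a.val, ham⟩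
    have ha : ¬ T (f a) := by rw [hT2]; simp
    have hb : T (f b) := by rw [hT2]; exact h
    refine hD _ ((hT1 e').mp ?_)
    rw [h1, h2]
    exact ⟨fun h0 => absurd h0 ha, fun h0 => absurd hb h0⟩
  · have hbm : b.val < m := lt_of_lt_of_le h (Nat.lt_succ_iff.mp a.isLt)
    obtain ⟨T, hT1, hT2⟩ := cut ends m f e hC hconn ⟨b.val, hbm⟩
    have hb : ¬ T (f b) := by rw [hT2]; simp
    have ha : T (f a) := by rw [hT2]; exact h
    refine hD _ ((hT1 e').mp ?_)
    rw [h1, h2]
    exact ⟨fun _ => hb, fun _ => ha⟩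

theorem deg_eq (hβ : LabGraph.IsMultFn ends β) (hβm : ∀ i, β (f i) = m)
    (hα : ∀ i, LabGraph.mfMatrix ends β (f i) (f i) = -2) (i : Fin (m + 1)) :
    ∑ u ∈ univ.erase (f i), β u * (LabGraph.edgeMult ends (f i) u : ℤ) = 2 * m := by
  have h1 := beta_mul_diag ends β hβ (f i)
  rw [hα i, hβm i] at h1
  linarith

theorem edgeMult_pos (e' : E) (v w : V) (h : ends e' = (v, w) ∨ ends e' = (w, v)) :
    1 ≤ LabGraph.edgeMult ends v w := by
  unfold LabGraph.edgeMult
  exact Finset.card_pos.mpr ⟨e', by simp [h]⟩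

theorem hm_pos (hβ : LabGraph.IsMultFn ends β) (hβm : ∀ i, β (f i) = m) : 0 < m := by
  have := (hβ (f 0)).1
  rw [hβm 0] at this
  exact_mod_cast this

/-- interior chain vertices have no neighbours off the chain -/
theorem interior_nbr (hβ : LabGraph.IsMultFn ends β) (hC : LabGraph.IsChain ends f e)
    (hβm : ∀ i, β (f i) = m) (hα : ∀ i, LabGraph.mfMatrix ends β (f i) (f i) = -2)
    (n : ℕ) (hn : n + 2 < m + 1) (u : V) (hu : u ∉ Set.range f) :
    LabGraph.edgeMult ends (f ⟨n + 1, by omega⟩) u = 0 := by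
  by_contra hne
  have hpos : 1 ≤ LabGraph.edgeMult ends (f ⟨n + 1, by omega⟩) u := Nat.one_le_iff_ne_zero.mpr hne
  have hdeg := deg_eq ends β m f hβ hβm hα ⟨n + 1, by omega⟩
  set w := f ⟨n + 1, by omega⟩ with hw
  set a := f ⟨n, by omega⟩ with ha
  set b := f ⟨n + 2, by omega⟩ with hb
  have hinj := hC.1
  have haw : a ≠ w := fun h => by have := hinj h; simp at this
  have hbw : b ≠ w := fun h => by have := hinj h; simp at this
  have hab : a ≠ b := fun h => by have := hinj h; simp at this
  have hua : u ≠ a := fun h => hu ⟨_, h.symm⟩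
  have hub : u ≠ b := fun h => hu ⟨_, h.symm⟩
  have huw : u ≠ w := fun h => hu ⟨_, h.symm⟩
  have hsub : ({a, b, u} : Finset V) ⊆ univ.erase w := by
    intro x hx
    simp only [Finset.mem_insert, Finset.mem_singleton] at hx
    rw [Finset.mem_erase]
    refine ⟨?_, Finset.mem_univ _⟩
    rcases hx with rfl | rfl | rfl
    · exact haw
    · exact hbw
    · exact huw
  have hle := Finset.sum_le_sum_of_subset_of_nonneg (f := fun u => β u * (LabGraph.edgeMult ends w u : ℤ))
    hsub (fun x _ _ => mul_nonneg (hβ x).1.le (Int.natCast_nonneg _))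
  rw [hdeg, Finset.sum_insert (by simp [hab, hua.symm]), Finset.sum_insert (by simp [hub.symm]),
    Finset.sum_singleton] at hle
  have e1 : 1 ≤ LabGraph.edgeMult ends w a := by
    have := hC.2.2 ⟨n, by omega⟩
    refine edgeMult_pos ends (e ⟨n, by omega⟩) w a ?_
    rcases this with h | h
    · right; rw [h]; rfl
    · left; rw [h]; rfl
  have e2 : 1 ≤ LabGraph.edgeMult ends w b := by
    have := hC.2.2 ⟨n + 1, by omega⟩
    refine edgeMult_pos ends (e ⟨n + 1, by omega⟩) w b ?_
    rcases this with h | h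
    · left; rw [h]; rfl
    · right; rw [h]; rfl
  have hβa : β a = m := hβm _
  have hβb : β b = m := hβm _
  have hβu := (hβ u).1
  have hm := hm_pos ends β m f hβ hβm
  rw [hβa, hβb] at hle
  have e1' : (1 : ℤ) ≤ (LabGraph.edgeMult ends w a : ℤ) := by exact_mod_cast e1
  have e2' : (1 : ℤ) ≤ (LabGraph.edgeMult ends w b : ℤ) := by exact_mod_cast e2
  have e3' : (1 : ℤ) ≤ (LabGraph.edgeMult ends w u : ℤ) := by exact_mod_cast hpos
  have hm' : (0 : ℤ) < (m : ℤ) := by exact_mod_cast hm
  nlinarith


/-- the boundary term of an edge at a vertex -/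
def bterm (γ : E → ℤ) (w : V) (e' : E) : ℤ :=
  (if (ends e').2 = w then γ e' else 0) - (if (ends e').1 = w then γ e' else 0)

theorem boundary_split (hC : LabGraph.IsChain ends f e) (γ : E → ℤ) (w : V) :
    LabGraph.boundary ends γ w = ∑ j : Fin m, bterm ends γ w (e j) +
      ∑ e' ∈ univ.filter (fun e' => e' ∉ univ.image e), bterm ends γ w e' := by
  unfold LabGraph.boundary
  rw [← Finset.sum_filter_add_sum_filter_not univ (fun e' => e' ∈ univ.image e)]
  congr 1
  rw [Finset.filter_mem_eq_inter, Finset.univ_inter, Finset.sum_image (fun a _ b _ h => hC.2.1 h)]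
  rfl

theorem chain_term (hC : LabGraph.IsChain ends f e) (hβm : ∀ i, β (f i) = m) (y : V → ℤ) (w : V)
    (j : Fin m) :
    bterm ends (flow ends β y) w (e j) =
      m * (((if f j.succ = w then 1 else 0) - (if f j.castSucc = w then 1 else 0)) *
        (y (f j.castSucc) - y (f j.succ))) := by
  rcases hC.2.2 j with h | h
  · unfold bterm flow
    rw [h]
    simp only [hβm]
    split_ifs <;> ring
  · unfold bterm flow
    rw [h]
    simp only [hβm]
    split_ifs <;> ring

theorem interior_off (hβ : LabGraph.IsMultFn ends β) (hC : LabGraph.IsChain ends f e)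
    (hconn : ∀ i, LabGraph.IsConnecting ends (e i))
    (hβm : ∀ i, β (f i) = m) (hα : ∀ i, LabGraph.mfMatrix ends β (f i) (f i) = -2)
    (n : ℕ) (hn : n + 2 < m + 1) (γ : E → ℤ) (e' : E) (he' : e' ∉ univ.image e) :
    bterm ends γ (f ⟨n + 1, by omega⟩) e' = 0 := by
  set w := f ⟨n + 1, by omega⟩ with hw
  have key : ∀ b : V, (ends e' = (w, b) ∨ ends e' = (b, w)) → b = w := by
    intro b hb
    by_cases hbr : b ∈ Set.range f
    · obtain ⟨k, rfl⟩ := hbr
      rcases hb with h | h
      · have := no_chord ends m f e hC hconn e' he' ⟨n + 1, by omega⟩ k (by rw [h]) (by rw [h])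
        rw [← this]
      · have := no_chord ends m f e hC hconn e' he' k ⟨n + 1, by omega⟩ (by rw [h]) (by rw [h])
        rw [this]
    · exfalso
      have h0 : LabGraph.edgeMult ends w b = 0 := interior_nbr ends β m f e hβ hC hβm hα n hn b hbr
      have h1 := edgeMult_pos ends e' w b hb
      omega
  unfold bterm
  by_cases h1 : (ends e').1 = w <;> by_cases h2 : (ends e').2 = w
  · rw [if_pos h1, if_pos h2, sub_self]
  · exfalso
    exact h2 (key (ends e').2 (Or.inl (by rw [← h1])))
  · exfalso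
    exact h1 (key (ends e').1 (Or.inr (by rw [← h2])))
  · rw [if_neg h1, if_neg h2, sub_self]

theorem local_eq (hβ : LabGraph.IsMultFn ends β) (hC : LabGraph.IsChain ends f e)
    (hconn : ∀ i, LabGraph.IsConnecting ends (e i))
    (hβm : ∀ i, β (f i) = m) (hα : ∀ i, LabGraph.mfMatrix ends β (f i) (f i) = -2)
    (y : V → ℤ) (n : ℕ) (hn : n + 2 < m + 1) :
    (Matrix.mulVec (LabGraph.mfMatrix ends β) y) (f ⟨n + 1, by omega⟩) =
      y (f ⟨n, by omega⟩) - 2 * y (f ⟨n + 1, by omega⟩) + y (f ⟨n + 2, by omega⟩) := by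
  have hm := hm_pos ends β m f hβ hβm
  have hm' : (m : ℤ) ≠ 0 := by exact_mod_cast hm.ne'
  have h1 := beta_mul_mulVec ends β hβ y (f ⟨n + 1, by omega⟩)
  rw [boundary_split ends m f e hC, hβm] at h1
  have h2 : ∑ e' ∈ univ.filter (fun e' => e' ∉ univ.image e),
      bterm ends (flow ends β y) (f ⟨n + 1, by omega⟩) e' = 0 := by
    refine Finset.sum_eq_zero fun e' he' => ?_
    rw [Finset.mem_filter] at he'
    exact interior_off ends β m f e hβ hC hconn hβm hα n hn _ e' he'.2
  rw [h2, add_zero] at h1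
  simp_rw [chain_term ends β m f e hC hβm] at h1
  have hinj := hC.1
  rw [Finset.sum_eq_add (⟨n, by omega⟩ : Fin m) (⟨n + 1, by omega⟩ : Fin m)
    (by intro h; simp at h)] at h1
  · have e1 : f (⟨n, by omega⟩ : Fin m).succ = f ⟨n + 1, by omega⟩ := rfl
    have e2 : f (⟨n, by omega⟩ : Fin m).castSucc ≠ f ⟨n + 1, by omega⟩ := by
      intro h; have := hinj h; simp at this
    have e3 : f (⟨n + 1, by omega⟩ : Fin m).succ ≠ f ⟨n + 1, by omega⟩ := by
      intro h; have := hinj h; simp at this
    have e4 : f (⟨n + 1, by omega⟩ : Fin m).castSucc = f ⟨n + 1, by omega⟩ := rfl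
    rw [if_pos e1, if_neg e2, if_neg e3, if_pos e4] at h1
    have e5 : f (⟨n, by omega⟩ : Fin m).castSucc = f ⟨n, by omega⟩ := rfl
    have e6 : f (⟨n + 1, by omega⟩ : Fin m).succ = f ⟨n + 2, by omega⟩ := rfl
    rw [e1, e4, e5, e6] at h1
    have : (m : ℤ) * (Matrix.mulVec (LabGraph.mfMatrix ends β) y) (f ⟨n + 1, by omega⟩) =
        m * (y (f ⟨n, by omega⟩) - 2 * y (f ⟨n + 1, by omega⟩) + y (f ⟨n + 2, by omega⟩)) := by
      rw [h1]; ring
    exact mul_left_cancel₀ hm' this
  · intro j _ hj
    have e1 : f j.succ ≠ f ⟨n + 1, by omega⟩ := by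
      intro h
      have := hinj h
      apply hj.1
      apply Fin.ext
      have := congrArg Fin.val this
      simp at this
      simpa using this
    have e2 : f j.castSucc ≠ f ⟨n + 1, by omega⟩ := by
      intro h
      have := hinj h
      apply hj.2
      apply Fin.ext
      have := congrArg Fin.val this
      simpa using this
    rw [if_neg e1, if_neg e2]; ring
  · intro h; exact absurd (Finset.mem_univ _) h
  · intro h; exact absurd (Finset.mem_univ _) h


theorem tele (n : ℕ) (a : Fin (n + 1) → ℤ) :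
    ∑ j : Fin n, (a j.castSucc - a j.succ) = a 0 - a (Fin.last n) := by
  induction n with
  | zero => simp
  | succ n ih =>
    rw [Fin.sum_univ_castSucc]
    have := ih (fun i => a i.castSucc)
    simp only [Fin.succ_castSucc] at this ⊢
    rw [this, Fin.succ_last]
    simp only [Fin.castSucc_zero]
    ring

theorem ap (hm : 0 < m) (y : V → ℤ)
    (hy : ∀ (n : ℕ) (hn : n + 2 < m + 1),
      y (f ⟨n, by omega⟩) - 2 * y (f ⟨n + 1, by omega⟩) + y (f ⟨n + 2, by omega⟩) = 0) :
    ∀ (n : ℕ) (h : n < m + 1),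
      y (f ⟨n, h⟩) = y (f 0) + n * (y (f ⟨1, by omega⟩) - y (f 0)) := by
  have key : ∀ n : ℕ, (∀ h : n < m + 1,
      y (f ⟨n, h⟩) = y (f 0) + n * (y (f ⟨1, by omega⟩) - y (f 0))) ∧
      (∀ h : n + 1 < m + 1,
      y (f ⟨n + 1, h⟩) = y (f 0) + ((n + 1 : ℕ) : ℤ) * (y (f ⟨1, by omega⟩) - y (f 0))) := by
    intro n
    induction n with
    | zero =>
      refine ⟨fun h => ?_, fun h => ?_⟩
      · have : (⟨0, h⟩ : Fin (m + 1)) = 0 := Fin.ext (by simp)
        rw [this]; simp
      · simp
    | succ n ih =>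
      refine ⟨ih.2, fun h => ?_⟩
      have h1 := ih.1 (by omega)
      have h2 := ih.2 (by omega)
      have h3 := hy n (by omega)
      rw [h1, h2] at h3
      push_cast at h3 ⊢
      linarith
  intro n h
  exact (key n).1 h


theorem exists_g (hβ : LabGraph.IsMultFn ends β) (hC : LabGraph.IsChain ends f e)
    (hconn : ∀ i, LabGraph.IsConnecting ends (e i))
    (hβm : ∀ i, β (f i) = m) (hα : ∀ i, LabGraph.mfMatrix ends β (f i) (f i) = -2) :
    ∃ g : V → ℤ, (∀ i : Fin (m + 1), g (f i) = (i.val : ℤ)) ∧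
      ∀ w, (Matrix.mulVec (LabGraph.mfMatrix ends β) g) w =
        (if f 0 = w then 1 else 0) - (if f (Fin.last m) = w then 1 else 0) := by
  classical
  have hm := hm_pos ends β m f hβ hβm
  have hinj := hC.1
  obtain ⟨T, hT1, hT2⟩ := cut ends m f e hC hconn ⟨m - 1, by omega⟩
  let g : V → ℤ := fun u => if T u then β u else ∑ i : Fin (m + 1), if f i = u then (i.val : ℤ) else 0
  have hg3 : ∀ u, T u → g u = β u := fun u hu => if_pos hu
  have hg2 : ∀ u, u ∉ Set.range f → ¬ T u → g u = 0 := by
    intro u hu hT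
    change (if T u then β u else ∑ i : Fin (m + 1), if f i = u then (i.val : ℤ) else 0) = 0
    rw [if_neg hT]
    refine Finset.sum_eq_zero fun i _ => ?_
    rw [if_neg (fun h => hu ⟨i, h⟩)]
  have hg1 : ∀ i : Fin (m + 1), g (f i) = (i.val : ℤ) := by
    intro i
    by_cases hi : T (f i)
    · rw [hg3 _ hi, hβm]
      have := (hT2 i).mp hi
      have h2 := i.isLt
      simp only at this
      have : i.val = m := by omega
      rw [this]
    · change (if T (f i) then β (f i) else ∑ j : Fin (m + 1), if f j = f i then (j.val : ℤ) else 0) = _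
      rw [if_neg hi, Finset.sum_eq_single i]
      · rw [if_pos rfl]
      · intro j _ hj
        rw [if_neg (fun h => hj (hinj h))]
      · intro h; exact absurd (Finset.mem_univ _) h
  have hflow0 : ∀ e' : E, e' ∉ univ.image e → flow ends β g e' = 0 := by
    intro e' he'
    have hne : e' ≠ e ⟨m - 1, by omega⟩ :=
      fun h => he' (Finset.mem_image.mpr ⟨_, Finset.mem_univ _, h.symm⟩)
    have hnc := (hT1 e').not.mpr hne
    unfold flow
    by_cases ha : T (ends e').1 <;> by_cases hb : T (ends e').2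
    · rw [hg3 _ ha, hg3 _ hb]; ring
    · exact absurd (⟨fun _ => hb, fun _ => ha⟩ : (T (ends e').1 ↔ ¬ T (ends e').2)) hnc
    · exact absurd (⟨fun h => absurd h ha, fun h => absurd hb h⟩ :
        (T (ends e').1 ↔ ¬ T (ends e').2)) hnc
    · -- both outside T
      have interior_contra : ∀ (i : Fin (m + 1)) (b : V), ¬ T (f i) → b ∉ Set.range f →
          (ends e' = (f i, b) ∨ ends e' = (b, f i)) → i.val = 0 := by
        intro i b hTi hb' hends
        by_contra hi0
        have hlt : ¬ (m - 1 < i.val) := fun h => hTi ((hT2 i).mpr h)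
        have hn : (i.val - 1) + 2 < m + 1 := by omega
        have h0 := interior_nbr ends β m f e hβ hC hβm hα (i.val - 1) hn b hb'
        have hfi : f ⟨i.val - 1 + 1, by omega⟩ = f i := congrArg f (Fin.ext (by simp; omega))
        rw [hfi] at h0
        have h1 := edgeMult_pos ends e' (f i) b hends
        omega
      by_cases har : (ends e').1 ∈ Set.range f <;> by_cases hbr : (ends e').2 ∈ Set.range f
      · obtain ⟨i, hi⟩ := har
        obtain ⟨j, hj⟩ := hbr
        have := no_chord ends m f e hC hconn e' he' i j hi.symm hj.symm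
        rw [← hi, ← hj, this]; ring
      · obtain ⟨i, hi⟩ := har
        have hi0 := interior_contra i (ends e').2 (by rw [hi]; exact ha) hbr
          (Or.inl (by rw [hi]))
        rw [hg2 _ hbr hb, ← hi, hg1, hi0]; simp
      · obtain ⟨j, hj⟩ := hbr
        have hj0 := interior_contra j (ends e').1 (by rw [hj]; exact hb) har
          (Or.inr (by rw [hj]))
        rw [hg2 _ har ha, ← hj, hg1, hj0]; simp
      · rw [hg2 _ har ha, hg2 _ hbr hb]; ring
  refine ⟨g, hg1, fun w => ?_⟩
  have h1 := beta_mul_mulVec ends β hβ g w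
  rw [boundary_split ends m f e hC] at h1
  have h2 : ∑ e' ∈ univ.filter (fun e' => e' ∉ univ.image e), bterm ends (flow ends β g) w e' = 0 := by
    refine Finset.sum_eq_zero fun e' he' => ?_
    rw [Finset.mem_filter] at he'
    unfold bterm
    rw [hflow0 e' he'.2]; simp
  rw [h2, add_zero] at h1
  simp_rw [chain_term ends β m f e hC hβm, hg1] at h1
  have h3 : ∀ j : Fin m, (m : ℤ) * (((if f j.succ = w then 1 else 0) - (if f j.castSucc = w then 1 else 0)) *
      (((j.castSucc : Fin (m + 1)).val : ℤ) - ((j.succ : Fin (m + 1)).val : ℤ))) =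
      m * ((fun i : Fin (m + 1) => if f i = w then (1 : ℤ) else 0) j.castSucc -
        (fun i : Fin (m + 1) => if f i = w then (1 : ℤ) else 0) j.succ) := by
    intro j
    simp only [Fin.val_castSucc, Fin.val_succ]
    push_cast
    ring
  simp_rw [h3] at h1
  have ht := tele m (fun i : Fin (m + 1) => if f i = w then (1 : ℤ) else 0)
  rw [← Finset.mul_sum, ht] at h1
  have hβw : (β w : ℤ) ≠ 0 := (hβ w).1.ne'
  apply mul_left_cancel₀ hβw
  rw [h1]
  by_cases h0 : f 0 = w <;> by_cases hl : f (Fin.last m) = w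
  · simp [h0, hl]
  · simp only [h0, hl, if_true, if_false]; rw [← h0, hβm]
  · simp only [h0, hl, if_true, if_false]; rw [← hl, hβm]
  · simp [h0, hl]


theorem sum_fiber_liftAt (hC : LabGraph.IsChain ends f e) (hβm : ∀ i, β (f i) = m)
    (x : DualGr.CtrVert ends (univ.image e) → ℤ) (a' : DualGr.CtrVert ends (univ.image e)) :
    ∑ v ∈ univ.filter (fun v => DualGr.ctrMk ends (univ.image e) v = a'),
      β v * LabGraph.liftAt ends (univ.image e) (f 0) x v =
    LabGraph.ctrFn ends (univ.image e) β a' * x a' := by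
  have hconst : ∀ i j, β (f i) = β (f j) := fun i j => by rw [hβm, hβm]
  have hβq := ctrFn_ctrMk ends β f e hC hconst
  obtain ⟨v₀, rfl⟩ := DualGr.ctrMk_surjective ends (univ.image e) a'
  by_cases hv₀ : v₀ ∈ Set.range f
  · obtain ⟨i, rfl⟩ := hv₀
    rw [ctrMk_chain ends f e hC i, Finset.sum_eq_single (f 0)]
    · unfold LabGraph.liftAt
      rw [if_neg (fun h => h.2 rfl), hβq]
    · intro v hv hne
      rw [Finset.mem_filter] at hv
      unfold LabGraph.liftAt
      rw [if_pos ⟨hv.2, hne⟩, mul_zero]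
    · intro h
      exact absurd (by rw [Finset.mem_filter]; exact ⟨Finset.mem_univ _, rfl⟩) h
  · rw [Finset.sum_eq_single v₀]
    · unfold LabGraph.liftAt
      rw [if_neg, hβq]
      rintro ⟨h, _⟩
      rcases (ctrMk_eq_iff ends f e hC _ _).mp h with h | ⟨h, _⟩
      · exact hv₀ ⟨0, h.symm⟩
      · exact hv₀ h
    · intro v hv hne
      rw [Finset.mem_filter] at hv
      rcases (ctrMk_eq_iff ends f e hC _ _).mp hv.2 with h | ⟨_, h⟩
      · exact absurd h hne
      · exact absurd h hv₀
    · intro h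
      exact absurd (by rw [Finset.mem_filter]; exact ⟨Finset.mem_univ _, rfl⟩) h

theorem injective_main (hβ : LabGraph.IsMultFn ends β) (hC : LabGraph.IsChain ends f e)
    (hconn : ∀ i, LabGraph.IsConnecting ends (e i))
    (hβm : ∀ i, β (f i) = m) (hα : ∀ i, LabGraph.mfMatrix ends β (f i) (f i) = -2)
    (x : DualGr.CtrVert ends (univ.image e) → ℤ)
    (hfx : LabGraph.liftAt ends (univ.image e) (f 0) x ∈
      LinearMap.range (Matrix.mulVecLin (LabGraph.mfMatrix ends β))) :
    x ∈ LinearMap.range (Matrix.mulVecLin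
      (LabGraph.mfMatrix (DualGr.ctrEnds ends (univ.image e))
        (LabGraph.ctrFn ends (univ.image e) β))) := by
  obtain ⟨y, hy⟩ := hfx
  rw [Matrix.mulVecLin_apply] at hy
  have hconst : ∀ i j, β (f i) = β (f j) := fun i j => by rw [hβm, hβm]
  have hβ' := isMultFn_ctr ends β f e hβ hC hconst
  have hm := hm_pos ends β m f hβ hβm
  have hinj := hC.1
  have hloc : ∀ (n : ℕ) (hn : n + 2 < m + 1),
      y (f ⟨n, by omega⟩) - 2 * y (f ⟨n + 1, by omega⟩) + y (f ⟨n + 2, by omega⟩) = 0 := by
    intro n hn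
    rw [← local_eq ends β m f e hβ hC hconn hβm hα y n hn, hy]
    unfold LabGraph.liftAt
    rw [if_pos]
    refine ⟨ctrMk_chain ends f e hC _, fun h => ?_⟩
    have := hinj h
    simp at this
  have hap := ap m f hm y hloc
  obtain ⟨g, hg1, hg2⟩ := exists_g ends β m f e hβ hC hconn hβm hα
  set d : ℤ := y (f ⟨1, by omega⟩) - y (f 0) with hd
  set yt : V → ℤ := y - d • g with hyt
  have hyt1 : ∀ i : Fin (m + 1), yt (f i) = y (f 0) := by
    intro i
    have := hap i.val i.isLt
    simp only [hyt, Pi.sub_apply, Pi.smul_apply, smul_eq_mul, hg1]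
    rw [show (⟨i.val, i.isLt⟩ : Fin (m + 1)) = i from rfl] at this
    rw [this]; ring
  set y' : DualGr.CtrVert ends (univ.image e) → ℤ :=
    fun a' => yt (Quotient.out (s := DualGr.ctrSetoid ends (univ.image e)) a') with hy'
  have hy'q : (fun v => y' (DualGr.ctrMk ends (univ.image e) v)) = yt := by
    funext v
    have h1 : DualGr.ctrMk ends (univ.image e)
        (Quotient.out (s := DualGr.ctrSetoid ends (univ.image e)) (DualGr.ctrMk ends (univ.image e) v)) =
        DualGr.ctrMk ends (univ.image e) v := Quotient.out_eq _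
    rcases (ctrMk_eq_iff ends f e hC _ _).mp h1 with h | ⟨⟨i, hi⟩, ⟨j, hj⟩⟩
    · simp only [hy']; rw [h]
    · simp only [hy']; rw [← hi, ← hj, hyt1, hyt1]
  refine ⟨y', ?_⟩
  rw [Matrix.mulVecLin_apply]
  funext a'
  have hβa : LabGraph.ctrFn ends (univ.image e) β a' ≠ 0 := (hβ' a').1.ne'
  apply mul_left_cancel₀ hβa
  rw [contraction_formula ends β f e hβ hβ' hC hconst, hy'q, hyt, Matrix.mulVec_sub,
    Matrix.mulVec_smul, hy, ← sum_fiber_liftAt ends β m f e hC hβm x a']
  have hsum : ∀ v, β v * (LabGraph.liftAt ends (univ.image e) (f 0) x -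
      d • Matrix.mulVec (LabGraph.mfMatrix ends β) g) v =
      β v * LabGraph.liftAt ends (univ.image e) (f 0) x v -
        d * ((if f 0 = v then β v else 0) - (if f (Fin.last m) = v then β v else 0)) := by
    intro v
    simp only [Pi.sub_apply, Pi.smul_apply, smul_eq_mul, hg2]
    split_ifs <;> ring
  simp_rw [hsum]
  rw [Finset.sum_sub_distrib, ← Finset.mul_sum, Finset.sum_sub_distrib, Finset.sum_ite_eq,
    Finset.sum_ite_eq]
  simp only [Finset.mem_filter, Finset.mem_univ, true_and]
  rw [ctrMk_chain ends f e hC (Fin.last m), hβm, hβm]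
  ring

end Chain2

end Groth.Agent.Lib.helper28.ChainCtr
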