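import Mathlib
import Groth.Agent.Lib.Helper28.ChainCtr2

set_option autoImplicit false
universe u
open Finset

namespace Groth.Agent.Lib.helper28.ChainCtr

variable {V E : Type u} [Fintype V] [Fintype E] [DecidableEq V] [DecidableEq E]

section Chain3

variable (ends : E → V × V) (β : V → ℤ) (m : ℕ) (f : Fin (m + 1) → V) (e : Fin m → E)

/-- edges between chain vertices are exactly the chain edges -/
theorem chain_edge_of (hC : LabGraph.IsChain ends f e) (hconn : ∀ i, LabGraph.IsConnecting ends (e i))
    (a b : Fin (m + 1)) (hab : b.val < a.val) (e' : E)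
    (he' : ends e' = (f a, f b) ∨ ends e' = (f b, f a)) :
    ∃ j : Fin m, e' = e j ∧ j.val = b.val ∧ a.val = b.val + 1 := by
  have hinj := hC.1
  by_cases hD : e' ∈ univ.image e
  · obtain ⟨j, _, rfl⟩ := Finset.mem_image.mp hD
    refine ⟨j, rfl, ?_⟩
    rcases hC.2.2 j with h | h <;> rcases he' with h' | h' <;> rw [h] at h' <;>
      simp only [Prod.mk.injEq] at h' <;> obtain ⟨h1, h2⟩ := h' <;>
      have h1' := congrArg Fin.val (hinj h1) <;> have h2' := congrArg Fin.val (hinj h2) <;>
      simp at h1' h2' <;> omega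
  · exfalso
    rcases he' with h | h
    · have := no_chord ends m f e hC hconn e' hD a b (by rw [h]) (by rw [h])
      rw [this] at hab; exact lt_irrefl _ hab
    · have := no_chord ends m f e hC hconn e' hD b a (by rw [h]) (by rw [h])
      rw [this] at hab; exact lt_irrefl _ hab

theorem edgeMult_chain_succ (hC : LabGraph.IsChain ends f e)
    (hconn : ∀ i, LabGraph.IsConnecting ends (e i))
    (a b : Fin (m + 1)) (hab : a.val = b.val + 1) :
    LabGraph.edgeMult ends (f a) (f b) = 1 := by
  have hbm : b.val < m := by have := a.isLt; omega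
  unfold LabGraph.edgeMult
  rw [Finset.card_eq_one]
  refine ⟨e ⟨b.val, hbm⟩, ?_⟩
  ext e'
  simp only [Finset.mem_filter, Finset.mem_univ, true_and, Finset.mem_singleton]
  constructor
  · intro h
    obtain ⟨j, hj, hj2, _⟩ := chain_edge_of ends m f e hC hconn a b (by omega) e' h
    rw [hj]; congr 1; exact Fin.ext hj2
  · rintro rfl
    have ha : a = (⟨b.val, hbm⟩ : Fin m).succ := Fin.ext (by simp [hab])
    have hb : b = (⟨b.val, hbm⟩ : Fin m).castSucc := Fin.ext (by simp)
    rcases hC.2.2 ⟨b.val, hbm⟩ with h | h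
    · right; rw [h, ← ha, ← hb]
    · left; rw [h, ← ha, ← hb]

theorem edgeMult_chain_far (hC : LabGraph.IsChain ends f e)
    (hconn : ∀ i, LabGraph.IsConnecting ends (e i))
    (a b : Fin (m + 1)) (hab : b.val + 1 < a.val) :
    LabGraph.edgeMult ends (f a) (f b) = 0 := by
  unfold LabGraph.edgeMult
  rw [Finset.card_eq_zero, Finset.filter_eq_empty_iff]
  intro e' _ h
  obtain ⟨j, _, _, h3⟩ := chain_edge_of ends m f e hC hconn a b (by omega) e' h
  omega


theorem elim (hC : LabGraph.IsChain ends f e) (hconn : ∀ i, LabGraph.IsConnecting ends (e i))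
    (z : V → ℤ) :
    ∃ y : V → ℤ, ∀ i : Fin (m + 1), 0 < i.val →
      (z - Matrix.mulVec (LabGraph.mfMatrix ends β) y) (f i) = 0 := by
  have hinj := hC.1
  have key : ∀ k : ℕ, k ≤ m → ∃ y : V → ℤ, ∀ i : Fin (m + 1), m - k < i.val →
      (z - Matrix.mulVec (LabGraph.mfMatrix ends β) y) (f i) = 0 := by
    intro k
    induction k with
    | zero =>
      intro _
      refine ⟨0, fun i hi => ?_⟩
      have := i.isLt
      omega
    | succ k ih =>
      intro hk
      obtain ⟨y, hy⟩ := ih (by omega)
      set jj : Fin (m + 1) := ⟨m - k, by omega⟩ with hjj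
      set jp : Fin (m + 1) := ⟨m - k - 1, by omega⟩ with hjp
      set c : ℤ := (z - Matrix.mulVec (LabGraph.mfMatrix ends β) y) (f jj) with hc
      refine ⟨y + c • Pi.single (f jp) 1, fun i hi => ?_⟩
      have hexp : (z - Matrix.mulVec (LabGraph.mfMatrix ends β) (y + c • Pi.single (f jp) 1)) (f i) =
          (z - Matrix.mulVec (LabGraph.mfMatrix ends β) y) (f i) -
            c * LabGraph.mfMatrix ends β (f i) (f jp) := by
        rw [Matrix.mulVec_add, Matrix.mulVec_smul, Matrix.mulVec_single_one]
        simp only [Pi.sub_apply, Pi.add_apply, Pi.smul_apply, smul_eq_mul, Matrix.col_apply]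
        ring
      rw [hexp]
      have hne : f i ≠ f jp := by
        intro h
        have := congrArg Fin.val (hinj h)
        simp only [hjp] at this
        omega
      rw [mfMatrix_off ends β hne]
      by_cases hi2 : i.val = m - k
      · have : i = jj := Fin.ext hi2
        rw [this, edgeMult_chain_succ ends m f e hC hconn jj jp (by simp only [hjj, hjp]; omega)]
        simp [hc]
      · rw [hy i (by omega),
          edgeMult_chain_far ends m f e hC hconn i jp (by simp only [hjp]; omega)]
        simp
  obtain ⟨y, hy⟩ := key m le_rfl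
  exact ⟨y, fun i hi => hy i (by omega)⟩


theorem liftAt_chain (hC : LabGraph.IsChain ends f e)
    (x : DualGr.CtrVert ends (univ.image e) → ℤ) (i : Fin (m + 1)) (hi : i ≠ 0) :
    LabGraph.liftAt ends (univ.image e) (f 0) x (f i) = 0 := by
  unfold LabGraph.liftAt
  rw [if_pos ⟨ctrMk_chain ends f e hC i, fun h => hi (hC.1 h)⟩]

theorem liftAt_zero (x : DualGr.CtrVert ends (univ.image e) → ℤ) :
    LabGraph.liftAt ends (univ.image e) (f 0) x (f 0) =
      x (DualGr.ctrMk ends (univ.image e) (f 0)) := by
  unfold LabGraph.liftAt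
  rw [if_neg (fun h => h.2 rfl)]

theorem liftAt_off (hC : LabGraph.IsChain ends f e)
    (x : DualGr.CtrVert ends (univ.image e) → ℤ) (v : V) (hv : v ∉ Set.range f) :
    LabGraph.liftAt ends (univ.image e) (f 0) x v = x (DualGr.ctrMk ends (univ.image e) v) := by
  unfold LabGraph.liftAt
  rw [if_neg]
  rintro ⟨h, _⟩
  rcases (ctrMk_eq_iff ends f e hC _ _).mp h with h | ⟨h, _⟩
  · exact hv ⟨0, h.symm⟩
  · exact hv h

theorem lift_range (hβ : LabGraph.IsMultFn ends β) (hC : LabGraph.IsChain ends f e)
    (hconn : ∀ i, LabGraph.IsConnecting ends (e i))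
    (hβm : ∀ i, β (f i) = m) (hα : ∀ i, LabGraph.mfMatrix ends β (f i) (f i) = -2)
    (x : DualGr.CtrVert ends (univ.image e) → ℤ)
    (hx : x ∈ LinearMap.range (Matrix.mulVecLin
      (LabGraph.mfMatrix (DualGr.ctrEnds ends (univ.image e))
        (LabGraph.ctrFn ends (univ.image e) β)))) :
    LabGraph.liftAt ends (univ.image e) (f 0) x ∈
      LinearMap.range (Matrix.mulVecLin (LabGraph.mfMatrix ends β)) := by
  obtain ⟨y', hy'⟩ := hx
  rw [Matrix.mulVecLin_apply] at hy'
  have hconst : ∀ i j, β (f i) = β (f j) := fun i j => by rw [hβm, hβm]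
  have hβ' := isMultFn_ctr ends β f e hβ hC hconst
  have hβq := ctrFn_ctrMk ends β f e hC hconst
  have hm := hm_pos ends β m f hβ hβm
  have hm' : (m : ℤ) ≠ 0 := by exact_mod_cast hm.ne'
  have hinj := hC.1
  set yh : V → ℤ := fun v => y' (DualGr.ctrMk ends (univ.image e) v) with hyh
  have hyc : ∀ i, yh (f i) = yh (f 0) := fun i => by
    simp only [hyh]; rw [ctrMk_chain ends f e hC i]
  have hcf := fun a' => contraction_formula ends β f e hβ hβ' hC hconst y' a'
  rw [hy'] at hcf
  have hout : ∀ w, w ∉ Set.range f →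
      (Matrix.mulVec (LabGraph.mfMatrix ends β) yh) w = x (DualGr.ctrMk ends (univ.image e) w) := by
    intro w hw
    have h1 := hcf (DualGr.ctrMk ends (univ.image e) w)
    rw [Finset.sum_eq_single w, hβq] at h1
    · exact (mul_left_cancel₀ (hβ w).1.ne' h1).symm
    · intro v hv hne
      rw [Finset.mem_filter] at hv
      rcases (ctrMk_eq_iff ends f e hC _ _).mp hv.2 with h | ⟨_, h⟩
      · exact absurd h hne
      · exact absurd h hw
    · intro h
      exact absurd (by rw [Finset.mem_filter]; exact ⟨Finset.mem_univ _, rfl⟩) h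
  have hint : ∀ (n : ℕ) (hn : n + 2 < m + 1),
      (Matrix.mulVec (LabGraph.mfMatrix ends β) yh) (f ⟨n + 1, by omega⟩) = 0 := by
    intro n hn
    rw [local_eq ends β m f e hβ hC hconn hβm hα yh n hn, hyc, hyc ⟨n + 1, _⟩, hyc ⟨n + 2, _⟩]
    ring
  have hint' : ∀ i : Fin (m + 1), i ≠ 0 → i ≠ Fin.last m →
      (Matrix.mulVec (LabGraph.mfMatrix ends β) yh) (f i) = 0 := by
    intro i h0 hl
    have h1 : 0 < i.val := Nat.pos_of_ne_zero (fun h => h0 (Fin.ext h))
    have h2 : i.val ≠ m := fun h => hl (Fin.ext h)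
    have h3 := i.isLt
    have := hint (i.val - 1) (by omega)
    have hfi : (⟨i.val - 1 + 1, by omega⟩ : Fin (m + 1)) = i := Fin.ext (by simp; omega)
    rw [hfi] at this
    exact this
  have h0l : (0 : Fin (m + 1)) ≠ Fin.last m := by
    intro h
    have := congrArg Fin.val h
    simp at this
    omega
  have hsum : (Matrix.mulVec (LabGraph.mfMatrix ends β) yh) (f 0) +
      (Matrix.mulVec (LabGraph.mfMatrix ends β) yh) (f (Fin.last m)) =
      x (DualGr.ctrMk ends (univ.image e) (f 0)) := by
    have h1 := hcf (DualGr.ctrMk ends (univ.image e) (f 0))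
    have hfil : univ.filter (fun v => DualGr.ctrMk ends (univ.image e) v =
        DualGr.ctrMk ends (univ.image e) (f 0)) = univ.image f := by
      ext v
      simp only [Finset.mem_filter, Finset.mem_univ, true_and, Finset.mem_image]
      constructor
      · intro h
        rcases (ctrMk_eq_iff ends f e hC _ _).mp h with h | ⟨⟨i, hi⟩, _⟩
        · exact ⟨0, h.symm⟩
        · exact ⟨i, hi⟩
      · rintro ⟨i, rfl⟩
        exact ctrMk_chain ends f e hC i
    rw [hfil, Finset.sum_image (fun a _ b _ h => hinj h), hβq, hβm] at h1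
    simp_rw [hβm] at h1
    rw [← Finset.mul_sum, Finset.sum_eq_add (0 : Fin (m + 1)) (Fin.last m) h0l
      (fun i _ hi => hint' i hi.1 hi.2) (fun h => absurd (Finset.mem_univ _) h)
      (fun h => absurd (Finset.mem_univ _) h)] at h1
    exact (mul_left_cancel₀ hm' h1).symm
  obtain ⟨g, hg1, hg2⟩ := exists_g ends β m f e hβ hC hconn hβm hα
  set d : ℤ := (Matrix.mulVec (LabGraph.mfMatrix ends β) yh) (f (Fin.last m)) with hd
  refine ⟨yh + d • g, ?_⟩
  rw [Matrix.mulVecLin_apply, Matrix.mulVec_add, Matrix.mulVec_smul]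
  funext v
  simp only [Pi.add_apply, Pi.smul_apply, smul_eq_mul, hg2]
  by_cases hv : v ∈ Set.range f
  · obtain ⟨i, rfl⟩ := hv
    by_cases hi0 : i = 0
    · subst hi0
      rw [liftAt_zero, if_pos rfl, if_neg (fun h => h0l (hinj h).symm), ← hsum]
      ring
    · by_cases hil : i = Fin.last m
      · subst hil
        rw [liftAt_chain ends m f e hC x _ hi0, if_neg (fun h => hi0 (hinj h).symm), if_pos rfl]
        ring
      · rw [liftAt_chain ends m f e hC x _ hi0, if_neg (fun h => hi0 (hinj h).symm),
          if_neg (fun h => hil (hinj h).symm), hint' i hi0 hil]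
        ring
  · rw [liftAt_off ends m f e hC x v hv, if_neg (fun h => hv ⟨_, h⟩), if_neg (fun h => hv ⟨_, h⟩),
      hout v hv]
    ring


/-- `liftAt` as a linear map -/
noncomputable def liftLin : (DualGr.CtrVert ends (univ.image e) → ℤ) →ₗ[ℤ] (V → ℤ) where
  toFun := LabGraph.liftAt ends (univ.image e) (f 0)
  map_add' x x' := by
    funext v
    unfold LabGraph.liftAt
    simp only [Pi.add_apply]
    split_ifs <;> simp
  map_smul' c x := by
    funext v
    unfold LabGraph.liftAt
    simp only [Pi.smul_apply, RingHom.id_apply]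
    split_ifs <;> simp

theorem betaHom_liftAt (hC : LabGraph.IsChain ends f e) (hβm : ∀ i, β (f i) = m)
    (x : DualGr.CtrVert ends (univ.image e) → ℤ) :
    LabGraph.betaHom β (LabGraph.liftAt ends (univ.image e) (f 0) x) =
      LabGraph.betaHom (LabGraph.ctrFn ends (univ.image e) β) x := by
  unfold LabGraph.betaHom
  rw [Fintype.linearCombination_apply, Fintype.linearCombination_apply]
  rw [← Finset.sum_fiberwise univ (DualGr.ctrMk ends (univ.image e))]
  refine Finset.sum_congr rfl fun a' _ => ?_
  have := sum_fiber_liftAt ends β m f e hC hβm x a'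
  simp only [smul_eq_mul]
  rw [mul_comm, ← this]
  refine Finset.sum_congr rfl fun v _ => ?_
  ring

theorem betaHom_mulVec (hβ : LabGraph.IsMultFn ends β) (y : V → ℤ) :
    LabGraph.betaHom β (Matrix.mulVec (LabGraph.mfMatrix ends β) y) = 0 := by
  unfold LabGraph.betaHom
  rw [Fintype.linearCombination_apply]
  have : ∀ v, (Matrix.mulVec (LabGraph.mfMatrix ends β) y) v • β v =
      LabGraph.boundary ends (flow ends β y) v := by
    intro v
    rw [← beta_mul_mulVec ends β hβ y v, smul_eq_mul, mul_comm]
  simp_rw [this]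
  unfold LabGraph.boundary
  rw [Finset.sum_comm]
  refine Finset.sum_eq_zero fun e' _ => ?_
  rw [Finset.sum_sub_distrib, Finset.sum_ite_eq, Finset.sum_ite_eq]
  simp

theorem surj_main (hβ : LabGraph.IsMultFn ends β) (hC : LabGraph.IsChain ends f e)
    (hconn : ∀ i, LabGraph.IsConnecting ends (e i))
    (hβm : ∀ i, β (f i) = m) (hα : ∀ i, LabGraph.mfMatrix ends β (f i) (f i) = -2) :
    ∃ φ : LabGraph.CompGrp (DualGr.ctrEnds ends (univ.image e)) (LabGraph.ctrFn ends (univ.image e) β) →+
        LabGraph.CompGrp ends β,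
      Function.Surjective φ ∧
      ∀ (x : LinearMap.ker (LabGraph.betaHom (LabGraph.ctrFn ends (univ.image e) β)))
        (y : LinearMap.ker (LabGraph.betaHom β)),
        (y : V → ℤ) = LabGraph.liftAt ends (univ.image e) (f 0) (x : DualGr.CtrVert ends (univ.image e) → ℤ) →
        φ (Submodule.Quotient.mk x) = Submodule.Quotient.mk y := by
  classical
  set K' := LinearMap.ker (LabGraph.betaHom (LabGraph.ctrFn ends (univ.image e) β)) with hK'
  set K := LinearMap.ker (LabGraph.betaHom β) with hK
  let L : K' →ₗ[ℤ] K := LinearMap.codRestrict K ((liftLin ends m f e).comp K'.subtype) (fun x => by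
    rw [hK, LinearMap.mem_ker]
    change LabGraph.betaHom β (LabGraph.liftAt ends (univ.image e) (f 0) x.1) = 0
    rw [betaHom_liftAt ends β m f e hC hβm]
    exact x.2)
  have hLval : ∀ x : K', ((L x : K) : V → ℤ) = LabGraph.liftAt ends (univ.image e) (f 0) x.1 :=
    fun x => rfl
  have hL : (LinearMap.range (Matrix.mulVecLin
      (LabGraph.mfMatrix (DualGr.ctrEnds ends (univ.image e))
        (LabGraph.ctrFn ends (univ.image e) β)))).comap K'.subtype ≤
      ((LinearMap.range (Matrix.mulVecLin (LabGraph.mfMatrix ends β))).comap K.subtype).comap L := by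
    intro x hx
    rw [Submodule.mem_comap, Submodule.mem_comap]
    rw [Submodule.mem_comap] at hx
    exact lift_range ends β m f e hβ hC hconn hβm hα x.1 hx
  refine ⟨(Submodule.mapQ _ _ L hL).toAddMonoidHom, ?_, ?_⟩
  · intro c
    obtain ⟨z, rfl⟩ := Submodule.Quotient.mk_surjective _ c
    obtain ⟨y, hy⟩ := elim ends β m f e hC hconn z.1
    set w : V → ℤ := z.1 - Matrix.mulVec (LabGraph.mfMatrix ends β) y with hw
    set x : DualGr.CtrVert ends (univ.image e) → ℤ := fun a' =>
      w (if a' = DualGr.ctrMk ends (univ.image e) (f 0) then f 0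
        else Quotient.out (s := DualGr.ctrSetoid ends (univ.image e)) a') with hx
    have hlift : LabGraph.liftAt ends (univ.image e) (f 0) x = w := by
      funext v
      by_cases hv : v ∈ Set.range f
      · obtain ⟨i, rfl⟩ := hv
        by_cases hi0 : i = 0
        · subst hi0
          rw [liftAt_zero]
          simp only [hx, if_true]
        · rw [liftAt_chain ends m f e hC x i hi0]
          exact (hy i (Nat.pos_of_ne_zero (fun h => hi0 (Fin.ext h)))).symm
      · rw [liftAt_off ends m f e hC x v hv]
        have hne : DualGr.ctrMk ends (univ.image e) v ≠ DualGr.ctrMk ends (univ.image e) (f 0) := by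
          intro h
          rcases (ctrMk_eq_iff ends f e hC _ _).mp h with h | ⟨h, _⟩
          · exact hv ⟨0, h.symm⟩
          · exact hv h
        simp only [hx, if_neg hne]
        have h1 : DualGr.ctrMk ends (univ.image e)
            (Quotient.out (s := DualGr.ctrSetoid ends (univ.image e))
              (DualGr.ctrMk ends (univ.image e) v)) =
            DualGr.ctrMk ends (univ.image e) v := Quotient.out_eq _
        rcases (ctrMk_eq_iff ends f e hC _ _).mp h1 with h | ⟨_, h⟩
        · rw [h]
        · exact absurd h hv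
    have hxK : x ∈ K' := by
      rw [hK', LinearMap.mem_ker, ← betaHom_liftAt ends β m f e hC hβm, hlift, hw, map_sub,
        betaHom_mulVec ends β hβ, sub_zero]
      exact z.2
    refine ⟨Submodule.Quotient.mk ⟨x, hxK⟩, ?_⟩
    change Submodule.mapQ _ _ L hL (Submodule.Quotient.mk ⟨x, hxK⟩) = _
    rw [Submodule.mapQ_apply, Submodule.Quotient.eq, Submodule.mem_comap]
    refine ⟨-y, ?_⟩
    rw [Matrix.mulVecLin_apply, Matrix.mulVec_neg]
    change _ = LabGraph.liftAt ends (univ.image e) (f 0) x - z.1
    rw [hlift, hw]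
    abel
  · intro x y hxy
    change Submodule.mapQ _ _ L hL (Submodule.Quotient.mk x) = _
    rw [Submodule.mapQ_apply]
    congr 1
    exact Subtype.ext hxy.symm

end Chain3

end Groth.Agent.Lib.helper28.ChainCtr
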