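import Groth.Agent.Lib.Helper28.LimitSections
import Groth.Agent.Lib.Helper28.RelProjExists
import Groth.Agent.Lib.Helper2.ModSec

set_option autoImplicit false
set_option linter.style.haveILetI false

universe u

/-! Gluing chartwise modules on a scheme over `Y` along the category of affine opens of `Y` with
basic-open inclusions: the limit restricts to each chart module (helper28). -/

namespace Groth.Agent.Lib.helper28.ChartGlue

open AlgebraicGeometry CategoryTheory CategoryTheory.Limits Opposite TopologicalSpace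
open Groth.Agent.Lib.helper28.RelProjExists Groth.Agent.Lib.helper28.LimitSections
  Groth.Agent.Lib.helper2

variable {Y P : Scheme.{u}} (p : P ⟶ Y) (Φ : (BIdx Y)ᵒᵖ ⥤ P.Modules)

/-- Restriction of sections. -/
noncomputable abbrev res (M : P.Modules) {W₁ W₂ : P.Opens} (i : W₁ ≤ W₂) (s : Γ(M, W₂)) : Γ(M, W₁) :=
  M.presheaf.map (homOfLE i).op s

theorem res_res (M : P.Modules) {W₁ W₂ W₃ : P.Opens} (i : W₁ ≤ W₂) (j : W₂ ≤ W₃) (s : Γ(M, W₃)) :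
    res M i (res M j s) = res M (i.trans j) s := by
  unfold res
  rw [← ConcreteCategory.comp_apply, ← Functor.map_comp]
  rfl

/-- The transition morphism attached to a morphism of `BIdx`. -/
noncomputable abbrev rho {Z V : BIdx Y} (f : Z ⟶ V) : Φ.obj (op V) ⟶ Φ.obj (op Z) := Φ.map f.op

theorem rho_res {Z V : BIdx Y} (f : Z ⟶ V) {W₁ W₂ : P.Opens} (i : W₁ ≤ W₂)
    (s : Γ(Φ.obj (op V), W₂)) :
    res _ i ((rho Φ f).app W₂ s) = (rho Φ f).app W₁ (res _ i s) :=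
  ModSec.map_app_apply (rho Φ f) (homOfLE i) s

theorem rho_comp {Z' Z V : BIdx Y} (k : Z' ⟶ Z) (g : Z ⟶ V) (W : P.Opens)
    (s : Γ(Φ.obj (op V), W)) :
    (rho Φ k).app W ((rho Φ g).app W s) = (rho Φ (k ≫ g)).app W s := by
  have h : rho Φ (k ≫ g) = rho Φ g ≫ rho Φ k := by
    unfold rho
    rw [op_comp, Φ.map_comp]
  rw [h]
  rfl

theorem rho_id (V : BIdx Y) (W : P.Opens) (s : Γ(Φ.obj (op V), W)) :
    (rho Φ (𝟙 V)).app W s = s := by
  have h : rho Φ (𝟙 V) = 𝟙 _ := by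
    unfold rho
    rw [op_id, Φ.map_id]
  rw [h]
  rfl

theorem bhom_eq {Z V : BIdx Y} (f g : Z ⟶ V) : f = g := Subsingleton.elim f g

/-- Two affine opens meet in opens that are basic in both. -/
theorem exists_common (V₁ V₂ : BIdx Y) (y : Y) (h₁ : y ∈ V₁.1) (h₂ : y ∈ V₂.1) :
    ∃ (Z : BIdx Y) (_ : Z ⟶ V₁) (_ : Z ⟶ V₂), y ∈ Z.1 := by
  obtain ⟨a, b, hab, hya⟩ := exists_basicOpen_le_affine_inter V₁.2 V₂.2 y ⟨h₁, h₂⟩
  exact ⟨BIdx.mk (Y.basicOpen a) (V₁.2.basicOpen a), ⟨⟨a, rfl⟩⟩, ⟨⟨b, hab⟩⟩, hya⟩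

/-- The hypotheses on the system of chart modules. -/
structure IsChartSys : Prop where
  /-- sections of the module of the chart over `V` are separated by covers of `W ⊓ p⁻¹ V` -/
  sep : ∀ (V : BIdx Y) (W : P.Opens) (I : Type u) (Wi : I → P.Opens) (hle : ∀ i, Wi i ≤ W)
    (_ : W ⊓ p ⁻¹ᵁ V.1 ≤ ⨆ i, Wi i) (s s' : Γ(Φ.obj (op V), W)),
    (∀ i, res _ (hle i) s = res _ (hle i) s') → s = s'
  /-- and glue along them -/
  glue : ∀ (V : BIdx Y) (W : P.Opens) (I : Type u) (Wi : I → P.Opens) (hle : ∀ i, Wi i ≤ W)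
    (_ : W ⊓ p ⁻¹ᵁ V.1 ≤ ⨆ i, Wi i) (σ : ∀ i, Γ(Φ.obj (op V), Wi i)),
    (∀ i j, res _ (inf_le_left : Wi i ⊓ Wi j ≤ Wi i) (σ i) =
      res _ (inf_le_right : Wi i ⊓ Wi j ≤ Wi j) (σ j)) →
    ∃ s : Γ(Φ.obj (op V), W), ∀ i, res _ (hle i) s = σ i
  /-- the transition morphisms are bijective on sections over opens lying over the smaller open -/
  bij : ∀ {Z V : BIdx Y} (f : Z ⟶ V) (W₀ : P.Opens), W₀ ≤ p ⁻¹ᵁ Z.1 →
    Function.Bijective ((rho Φ f).app W₀)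

variable {p Φ} (h : IsChartSys p Φ) (U : BIdx Y) (W : P.Opens) (hW : W ≤ p ⁻¹ᵁ U.1)
  (t : Γ(Φ.obj (op U), W))

theorem key {Z' Z V : BIdx Y} (k : Z' ⟶ Z) (g : Z ⟶ V) {W' W'' : P.Opens} (i : W' ≤ W'')
    (s : Γ(Φ.obj (op V), W'')) :
    (rho Φ k).app W' (res _ i ((rho Φ g).app W'' s)) = (rho Φ (k ≫ g)).app W' (res _ i s) := by
  rw [rho_res, rho_comp]

theorem res_self (M : P.Modules) (W₀ : P.Opens) (a : Γ(M, W₀)) : res M (le_refl W₀) a = a := by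
  unfold res
  have : (homOfLE (le_refl W₀)).op = 𝟙 (op W₀) := rfl
  rw [this, M.presheaf.map_id]
  rfl

variable (p) in
/-- The section `a` of the chart module over `V` is compatible with `t`. -/
def Compat (V : BIdx Y) (W₀ : P.Opens) (hW₀ : W₀ ≤ W) (a : Γ(Φ.obj (op V), W₀)) : Prop :=
  ∀ (Z : BIdx Y) (f : Z ⟶ U) (g : Z ⟶ V) (W₁ : P.Opens) (h₁ : W₁ ≤ W₀) (_ : W₁ ≤ p ⁻¹ᵁ Z.1),
    (rho Φ g).app W₁ (res _ h₁ a) = (rho Φ f).app W₁ (res _ (h₁.trans hW₀) t)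

include h in
theorem compat_of_eq (V : BIdx Y) (W₀ : P.Opens) (hW₀ : W₀ ≤ W) (a : Γ(Φ.obj (op V), W₀))
    (Z₀ : BIdx Y) (f₀ : Z₀ ⟶ U) (g₀ : Z₀ ⟶ V) (hZ₀ : W₀ ≤ p ⁻¹ᵁ Z₀.1)
    (e : (rho Φ g₀).app W₀ a = (rho Φ f₀).app W₀ (res _ hW₀ t)) :
    Compat p U W t V W₀ hW₀ a := by
  intro Z f g W₁ h₁ h₂
  -- cover `W₁` by opens over common basic opens of `Z` and `Z₀`
  have hc : ∀ x : {y : P // y ∈ W₁}, ∃ (Zx : BIdx Y) (_ : Zx ⟶ Z) (_ : Zx ⟶ Z₀),
      p.base x.1 ∈ Zx.1 := fun x =>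
    exists_common Z Z₀ (p.base x.1) (h₂ x.2) (hZ₀ (h₁ x.2))
  choose Zx k k₀ hx using hc
  refine h.sep Z W₁ {y : P // y ∈ W₁} (fun x => W₁ ⊓ p ⁻¹ᵁ (Zx x).1) (fun x => inf_le_left)
    ?_ _ _ ?_
  · intro y hy
    exact Opens.mem_iSup.mpr ⟨⟨y, hy.1⟩, hy.1, hx ⟨y, hy.1⟩⟩
  · intro x
    apply (h.bij (k x) (W₁ ⊓ p ⁻¹ᵁ (Zx x).1) inf_le_right).1
    have e2 := congrArg (fun z => (rho Φ (k₀ x)).app (W₁ ⊓ p ⁻¹ᵁ (Zx x).1)
      (res _ (inf_le_left.trans h₁ : W₁ ⊓ p ⁻¹ᵁ (Zx x).1 ≤ W₀) z)) e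
    simp only at e2
    rw [key, key, res_res] at e2
    rw [key, key, res_res, res_res, bhom_eq (k x ≫ g) (k₀ x ≫ g₀),
      bhom_eq (k x ≫ f) (k₀ x ≫ f₀)]
    exact e2

include h hW in
theorem compat_unique (V : BIdx Y) (W₀ : P.Opens) (hW₀ : W₀ ≤ W) (a a' : Γ(Φ.obj (op V), W₀))
    (ha : Compat p U W t V W₀ hW₀ a) (ha' : Compat p U W t V W₀ hW₀ a') : a = a' := by
  have hc : ∀ x : {y : P // y ∈ W₀ ⊓ p ⁻¹ᵁ V.1}, ∃ (Zx : BIdx Y) (_ : Zx ⟶ U) (_ : Zx ⟶ V),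
      p.base x.1 ∈ Zx.1 := fun x =>
    exists_common U V (p.base x.1) (hW (hW₀ x.2.1)) x.2.2
  choose Zx f g hx using hc
  refine h.sep V W₀ _ (fun x => W₀ ⊓ p ⁻¹ᵁ (Zx x).1) (fun x => inf_le_left) ?_ _ _ ?_
  · intro y hy
    exact Opens.mem_iSup.mpr ⟨⟨y, hy⟩, hy.1, hx ⟨y, hy⟩⟩
  · intro x
    apply (h.bij (g x) (W₀ ⊓ p ⁻¹ᵁ (Zx x).1) inf_le_right).1
    rw [ha (Zx x) (f x) (g x) _ inf_le_left inf_le_right,
      ha' (Zx x) (f x) (g x) _ inf_le_left inf_le_right]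

theorem compat_res (V : BIdx Y) (W₀ W₀' : P.Opens) (hW₀ : W₀ ≤ W) (i : W₀' ≤ W₀)
    (a : Γ(Φ.obj (op V), W₀)) (ha : Compat p U W t V W₀ hW₀ a) :
    Compat p U W t V W₀' (i.trans hW₀) (res _ i a) := by
  intro Z f g W₁ h₁ h₂
  rw [res_res]
  exact ha Z f g W₁ (h₁.trans i) h₂

include h in
theorem compat_glue (V : BIdx Y) (W₀ : P.Opens) (hW₀ : W₀ ≤ W) (a : Γ(Φ.obj (op V), W₀))
    (I : Type u) (Wi : I → P.Opens) (hle : ∀ i, Wi i ≤ W₀)
    (hcov : W₀ ⊓ p ⁻¹ᵁ V.1 ≤ ⨆ i, Wi i)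
    (ha : ∀ i, Compat p U W t V (Wi i) ((hle i).trans hW₀) (res _ (hle i) a)) :
    Compat p U W t V W₀ hW₀ a := by
  intro Z f g W₁ h₁ h₂
  refine h.sep Z W₁ I (fun i => W₁ ⊓ Wi i) (fun i => inf_le_left) ?_ _ _ ?_
  · intro y hy
    have hyV : y ∈ p ⁻¹ᵁ V.1 := le_of_bhom g (h₂ hy.1)
    obtain ⟨i, hi⟩ := Opens.mem_iSup.mp (hcov ⟨h₁ hy.1, hyV⟩)
    exact Opens.mem_iSup.mpr ⟨i, hy.1, hi⟩
  · intro i
    rw [rho_res, rho_res, res_res, res_res]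
    have := ha i Z f g (W₁ ⊓ Wi i) inf_le_right (inf_le_left.trans h₂)
    rw [res_res] at this
    exact this

include h hW in
/-- Every section `t` of the chart module over `U` extends to a compatible section of every chart
module. -/
theorem exists_compat (V : BIdx Y) : ∃ a : Γ(Φ.obj (op V), W), Compat p U W t V W (le_refl W) a := by
  have hc : ∀ x : {y : P // y ∈ W ⊓ p ⁻¹ᵁ V.1}, ∃ (Zx : BIdx Y) (_ : Zx ⟶ U) (_ : Zx ⟶ V),
      p.base x.1 ∈ Zx.1 := fun x =>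
    exists_common U V (p.base x.1) (hW x.2.1) x.2.2
  choose Zx f g hx using hc
  let Wx : {y : P // y ∈ W ⊓ p ⁻¹ᵁ V.1} → P.Opens := fun x => W ⊓ p ⁻¹ᵁ (Zx x).1
  have hσ : ∀ x, ∃ σ : Γ(Φ.obj (op V), Wx x),
      (rho Φ (g x)).app (Wx x) σ = (rho Φ (f x)).app (Wx x) (res _ inf_le_left t) := fun x =>
    (h.bij (g x) (Wx x) inf_le_right).2 _
  choose σ hσ' using hσ
  have hσc : ∀ x, Compat p U W t V (Wx x) inf_le_left (σ x) := fun x =>
    compat_of_eq h U W t V (Wx x) inf_le_left (σ x) (Zx x) (f x) (g x) inf_le_right (hσ' x)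
  have hcov : W ⊓ p ⁻¹ᵁ V.1 ≤ ⨆ x, Wx x := by
    intro y hy
    exact Opens.mem_iSup.mpr ⟨⟨y, hy⟩, hy.1, hx ⟨y, hy⟩⟩
  obtain ⟨a, ha⟩ := h.glue V W _ Wx (fun x => inf_le_left) hcov σ (by
    intro x x'
    exact compat_unique h U W hW t V (Wx x ⊓ Wx x') (inf_le_left.trans inf_le_left) _ _
      (compat_res U W t V (Wx x) _ inf_le_left inf_le_left (σ x) (hσc x))
      (compat_res U W t V (Wx x') _ inf_le_left inf_le_right (σ x') (hσc x')))
  refine ⟨a, compat_glue h U W t V W (le_refl W) a _ Wx (fun x => inf_le_left) hcov ?_⟩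
  intro x
  rw [ha x]
  exact hσc x

include h hW in
/-- The limit of a chart system restricts to each chart module. -/
theorem bijective_limit_π :
    Function.Bijective ((limit.π Φ (op U)).app W) := by
  have hw : ∀ {V' V : BIdx Y} (k : V' ⟶ V) (l : Γ(limit Φ, W)),
      (rho Φ k).app W ((limit.π Φ (op V)).app W l) = (limit.π Φ (op V')).app W l := by
    intro V' V k l
    have := limit.w Φ k.op
    rw [← this]
    rfl
  constructor
  · -- injectivity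
    rw [injective_iff_map_eq_zero]
    intro l hl
    have hzero : ∀ V : BIdx Y, (limit.π Φ (op V)).app W l = 0 := by
      intro V
      have hc : ∀ x : {y : P // y ∈ W ⊓ p ⁻¹ᵁ V.1}, ∃ (Zx : BIdx Y) (_ : Zx ⟶ U) (_ : Zx ⟶ V),
          p.base x.1 ∈ Zx.1 := fun x =>
        exists_common U V (p.base x.1) (hW x.2.1) x.2.2
      choose Zx f g hx using hc
      refine h.sep V W _ (fun x => W ⊓ p ⁻¹ᵁ (Zx x).1) (fun x => inf_le_left) ?_ _ _ ?_
      · intro y hy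
        exact Opens.mem_iSup.mpr ⟨⟨y, hy⟩, hy.1, hx ⟨y, hy⟩⟩
      · intro x
        apply (h.bij (g x) (W ⊓ p ⁻¹ᵁ (Zx x).1) inf_le_right).1
        rw [← rho_res, ← rho_res, hw (g x) l, ← hw (f x) l, hl]
        simp only [map_zero]
    obtain ⟨l₀, -, hu⟩ := existsUnique_section Φ W (fun j => (limit.π Φ j).app W l)
      (fun {j j'} k => by
        have := limit.w Φ k
        rw [← this]
        rfl)
    have h1 : l = l₀ := hu l (fun j => rfl)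
    have h2 : (0 : Γ(limit Φ, W)) = l₀ := hu 0 (fun j => by
      obtain ⟨V⟩ := j
      rw [hzero V]
      exact map_zero _)
    rw [h1, ← h2]
  · -- surjectivity
    intro t
    have hex := fun V => exists_compat h U W hW t V
    choose s hs using hex
    obtain ⟨l, hl, -⟩ := existsUnique_section Φ W (fun j => s j.unop)
      (fun {j j'} k => by
        obtain ⟨V⟩ := j
        obtain ⟨V'⟩ := j'
        change (rho Φ k.unop).app W (s V) = s V'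
        refine compat_unique h U W hW t V' W (le_refl W) _ _ ?_ (hs V')
        intro Z f g W₁ h₁ h₂
        rw [rho_res, rho_comp]
        exact hs V Z f (g ≫ k.unop) W₁ h₁ h₂)
    refine ⟨l, ?_⟩
    have h1 := hl (op U)
    refine h1.trans ?_
    refine compat_unique h U W hW t U W (le_refl W) _ _ (hs U) ?_
    exact compat_of_eq h U W t U W (le_refl W) t U (𝟙 U) (𝟙 U) hW (by rw [res_self])

end Groth.Agent.Lib.helper28.ChartGlue
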