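import Mathlib

/-! Two subspaces of the same finite dimension have a common complement (helper28). -/

namespace Groth.Agent.Lib.helper28

variable {k : Type*} [Field k] {V : Type*} [AddCommGroup V] [Module k V]

theorem exists_notMem_of_ne_top (U₁ U₂ : Submodule k V) (h₁ : U₁ ≠ ⊤) (h₂ : U₂ ≠ ⊤) :
    ∃ v : V, v ∉ U₁ ∧ v ∉ U₂ := by
  obtain ⟨a, ha⟩ : ∃ a, a ∉ U₁ := by
    by_contra h; push Not at h; exact h₁ (eq_top_iff.mpr fun x _ => h x)
  obtain ⟨b, hb⟩ : ∃ b, b ∉ U₂ := by
    by_contra h; push Not at h; exact h₂ (eq_top_iff.mpr fun x _ => h x)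
  by_cases ha2 : a ∈ U₂
  · by_cases hb1 : b ∈ U₁
    · refine ⟨a + b, fun h => ha ?_, fun h => hb ?_⟩
      · have := U₁.sub_mem h hb1; simpa using this
      · have := U₂.sub_mem h ha2; simpa using this
    · exact ⟨b, hb1, hb⟩
  · exact ⟨a, ha, ha2⟩

theorem isCompl_sup_span_of_isCompl_sup_span {U W' : Submodule k V} {v : V} (hv : v ∉ U)
    (h : IsCompl (U ⊔ (k ∙ v)) W') : IsCompl U (W' ⊔ (k ∙ v)) := by
  constructor
  · rw [Submodule.disjoint_def]
    intro x hxU hxW
    obtain ⟨w, hw, y, hy, rfl⟩ := Submodule.mem_sup.mp hxW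
    obtain ⟨c, rfl⟩ := Submodule.mem_span_singleton.mp hy
    have hw' : w ∈ U ⊔ (k ∙ v) := by
      have : w = (w + c • v) - c • v := by abel
      rw [this]
      exact Submodule.sub_mem _ (Submodule.mem_sup_left hxU)
        (Submodule.mem_sup_right (Submodule.smul_mem _ _ (Submodule.mem_span_singleton_self v)))
    have hw0 : w = 0 := by
      have := h.disjoint
      rw [Submodule.disjoint_def] at this
      exact this w hw' hw
    rw [hw0, zero_add] at hxU ⊢
    by_cases hc : c = 0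
    · rw [hc, zero_smul]
    · exfalso
      apply hv
      have := U.smul_mem c⁻¹ hxU
      rwa [smul_smul, inv_mul_cancel₀ hc, one_smul] at this
  · rw [codisjoint_iff, ← sup_assoc, sup_comm U W', sup_assoc, sup_comm, ← codisjoint_iff]
    exact h.codisjoint

theorem exists_common_compl [FiniteDimensional k V] :
    ∀ (m : ℕ) (U₁ U₂ : Submodule k V), Module.finrank k U₁ = Module.finrank k U₂ →
      Module.finrank k U₁ + m = Module.finrank k V →
      ∃ W : Submodule k V, IsCompl U₁ W ∧ IsCompl U₂ W := by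
  intro m
  induction m with
  | zero =>
    intro U₁ U₂ h12 hm
    have h1 : U₁ = ⊤ := Submodule.eq_top_of_finrank_eq (by omega)
    have h2 : U₂ = ⊤ := Submodule.eq_top_of_finrank_eq (by omega)
    exact ⟨⊥, h1 ▸ isCompl_top_bot, h2 ▸ isCompl_top_bot⟩
  | succ m ih =>
    intro U₁ U₂ h12 hm
    have h1 : U₁ ≠ ⊤ := by
      intro h; rw [h, finrank_top] at hm; omega
    have h2 : U₂ ≠ ⊤ := by
      intro h; rw [h, finrank_top] at h12; omega
    obtain ⟨v, hv1, hv2⟩ := exists_notMem_of_ne_top U₁ U₂ h1 h2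
    have hv0 : v ≠ 0 := fun h => hv1 (h ▸ U₁.zero_mem)
    have hfr : ∀ U : Submodule k V, v ∉ U →
        Module.finrank k ↥(U ⊔ (k ∙ v)) = Module.finrank k U + 1 := by
      intro U hvU
      have hdisj : U ⊓ (k ∙ v) = ⊥ := by
        rw [← disjoint_iff]
        exact (Submodule.disjoint_span_singleton' hv0).mpr hvU
      have := Submodule.finrank_sup_add_finrank_inf_eq U (k ∙ v)
      rw [hdisj, finrank_bot, add_zero, finrank_span_singleton hv0] at this
      exact this
    obtain ⟨W', hW1, hW2⟩ := ih (U₁ ⊔ (k ∙ v)) (U₂ ⊔ (k ∙ v))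
      (by rw [hfr U₁ hv1, hfr U₂ hv2, h12]) (by rw [hfr U₁ hv1]; omega)
    exact ⟨W' ⊔ (k ∙ v), isCompl_sup_span_of_isCompl_sup_span hv1 hW1,
      isCompl_sup_span_of_isCompl_sup_span hv2 hW2⟩

theorem exists_common_compl' [FiniteDimensional k V] (U₁ U₂ : Submodule k V)
    (h : Module.finrank k U₁ = Module.finrank k U₂) :
    ∃ W : Submodule k V, IsCompl U₁ W ∧ IsCompl U₂ W := by
  have hle := Submodule.finrank_le U₁
  exact exists_common_compl (Module.finrank k V - Module.finrank k U₁) U₁ U₂ h (by omega)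

end Groth.Agent.Lib.helper28
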