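import Groth.Agent.Lib.Helper28.CompSegInd
import Groth.Agent.Lib.Helper12.VAmple4

/-!
# Composite Segre: charts at all large levels (helper28)

`exists_chart`: a chart `(n, a)` of `L` relative to `f : X ⟶ Y` over the affine open `V ⊆ Y` with
`f⁻¹ V = X_s`, `s : O ⟶ P`, such that `O(V)` is generated over `O(Z)` by ratios `π / s`, gives for
all large `e` a chart `(n, c)` of `(L ⊗ P^e) ⊗ P` relative to `q = f ≫ g` over `⊤ ⊆ Z` with the
same open set.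
-/

set_option autoImplicit false
set_option linter.style.haveILetI false
set_option linter.unusedSectionVars false
universe u
open CategoryTheory AlgebraicGeometry TopologicalSpace Opposite TensorProduct

namespace Groth.Agent.Lib.helper28.CompSeg

open Groth.Agent.Lib.helper28.SymLinePow Groth.Agent.Lib.helper11.TensorASec
  Groth.Agent.Lib.helper28 Groth.Agent.Lib.helper11.IsoLocus Groth.Agent.Lib.helper11.GenLocus

section Alg

theorem closure_comp {A B C : Type*} [CommRing A] [CommRing B] [CommRing C] (χ : A →+* B)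
    (φ : B →+* C) (R : Set B) (T' : Set C)
    (hR : Subring.closure (Set.range χ ∪ R) = ⊤)
    (hT : Subring.closure (Set.range φ ∪ T') = ⊤) :
    Subring.closure (Set.range (φ.comp χ) ∪ (T' ∪ φ '' R)) = ⊤ := by
  rw [eq_top_iff, ← hT, Subring.closure_le]
  have h1 : ∀ y : B, φ y ∈ Subring.closure (Set.range (φ.comp χ) ∪ (T' ∪ φ '' R)) := by
    intro y
    have hy : y ∈ Subring.closure (Set.range χ ∪ R) := by rw [hR]; trivial
    induction hy using Subring.closure_induction with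
    | mem x hx =>
      rcases hx with ⟨z, rfl⟩ | hx
      · exact Subring.subset_closure (Or.inl ⟨z, rfl⟩)
      · exact Subring.subset_closure (Or.inr (Or.inr ⟨x, hx, rfl⟩))
    | zero => rw [map_zero]; exact zero_mem _
    | one => rw [map_one]; exact one_mem _
    | add x y _ _ hx hy => rw [map_add]; exact add_mem hx hy
    | neg x _ hx => rw [map_neg]; exact neg_mem hx
    | mul x y _ _ hx hy => rw [map_mul]; exact mul_mem hx hy
  rintro x (⟨y, rfl⟩ | hx)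
  · exact h1 y
  · exact Subring.subset_closure (Or.inr (Or.inl hx))

end Alg

variable {X Y Z : Scheme.{u}} (f : X ⟶ Y) (g : Y ⟶ Z) [QuasiCompact (f ≫ g)]
  [QuasiSeparated (f ≫ g)]
  (L P : X.Modules) [Fact (PicF.IsInvertible L)] [Fact (PicF.IsInvertible P)]
  (lv : ∀ e, Lvl (f ≫ g) L P e)
  (𝒮L : RelProj.QCGrAlg X) (jL : L ⟶ 𝒮L.toModule) (hjL : RelProj.IsGrSymAlg L 𝒮L jL)
  (hU : IsAffineOpen (⊤ : Z.Opens)) (s : Coh.structureModule X ⟶ P)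
  (E : Y.Modules) [E.IsQuasicoherent]
  (𝒯E : RelProj.QCGrAlg Y) (jE : E ⟶ 𝒯E.toModule) (hjE : RelProj.IsGrSymAlg E 𝒯E jE)
  (β : E ⟶ (Scheme.Modules.pushforward f).obj L) (V : Y.Opens) (hV : IsAffineOpen V)
  [CompactSpace X] [QuasiSeparatedSpace X] (hgl : f ⁻¹ᵁ V = CohB1.genLocus P s)

/-- `Sym(q_* M_e) → q_* Sym(M_e)` at level `e`. -/
noncomputable abbrev uLv (e : ℕ) : RelProj.QGrHom (f ≫ g) (lv e).𝒯 (lv e).𝒮M :=
  uM (f ≫ g) L (CohB1.tensorPow P e) P (lv e).𝒮M (lv e).jM (lv e).hjM (lv e).𝒯 (lv e).jF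
    (lv e).h𝒯

include hgl in
theorem exists_chart [LocallyOfFiniteType f] (n : ℕ) (hn : 0 < n)
    (a : 𝒯E.presheaf.obj (op V)) (ha : a ∈ 𝒯E.deg V hV n)
    (hO : IsAffineOpen (RLpsiU.XT 𝒮L (uL L 𝒮L jL hjL f E 𝒯E jE hjE β) V n a))
    (hH3 : ∀ t : Γ(X, RLpsiU.XT 𝒮L (uL L 𝒮L jL hjL f E 𝒯E jE hjE β) V n a),
      RLpsiU.H3 (uL L 𝒮L jL hjL f E 𝒯E jE hjE β) V hV n a _
        (RLpsiU.XT_le 𝒮L (uL L 𝒮L jL hjL f E 𝒯E jE hjE β) V n a) t)
    (R : Set Γ(Y, V))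
    (hR : Subring.closure (Set.range (g.appLE ⊤ V (fun _ _ => trivial)).hom ∪ R) = ⊤)
    (hπ : ∀ r ∈ R, ∃ π : Coh.structureModule X ⟶ P,
      SecTwist.val π (f ⁻¹ᵁ V) = (f.app V).hom r • SecTwist.val s (f ⁻¹ᵁ V)) :
    ∃ e₀ : ℕ, ∀ e, e₀ ≤ e → ∃ c ∈ (lv e).𝒯.deg ⊤ hU n,
      RLpsiU.XT (lv e).𝒮M (uLv f g L P lv e) ⊤ n c =
        RLpsiU.XT 𝒮L (uL L 𝒮L jL hjL f E 𝒯E jE hjE β) V n a ∧
      ∀ (hle' : RLpsiU.XT 𝒮L (uL L 𝒮L jL hjL f E 𝒯E jE hjE β) V n a ≤ (f ≫ g) ⁻¹ᵁ ⊤)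
        (t : Γ(X, RLpsiU.XT 𝒮L (uL L 𝒮L jL hjL f E 𝒯E jE hjE β) V n a)),
        RLpsiU.H3 (uLv f g L P lv e) ⊤ hU n c _ hle' t := by
  classical
  have hOle := RLpsiU.XT_le 𝒮L (uL L 𝒮L jL hjL f E 𝒯E jE hjE β) V n a
  obtain ⟨k, b, hb⟩ := Groth.Agent.Lib.helper12.VAmple4.exists_generators_of_finiteType _
    (f.finiteType_appLE hV hO hOle)
  have hH3b := fun i : Fin k => hH3 (b i)
  choose m hm a' ha' hrel using hH3b
  obtain ⟨eA, hA⟩ := good_of_mem_deg (f ≫ g) L P lv 𝒮L jL hjL hU s f E 𝒯E jE hjE β V hV hgl n hn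
    a ha
  have hA'all := fun i : Fin k => good_of_mem_deg (f ≫ g) L P lv 𝒮L jL hjL hU s f E 𝒯E jE hjE β
    V hV hgl (m i * n) (Nat.mul_pos (hm i) hn) (a' i) (ha' i)
  choose eA' hA' using hA'all
  refine ⟨max eA (Finset.univ.sup eA'), fun e he => ?_⟩
  obtain ⟨c, hc, hv, hr, hq⟩ := hA e (le_of_max_le_left he)
  have hc'all := fun i : Fin k => hA' i e
    ((Finset.le_sup (f := eA') (Finset.mem_univ i)).trans (le_of_max_le_right he))
  choose c' hc' hv' hr' hq' using hc'all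
  refine ⟨c, hc, ?_, ?_⟩
  · refine XT_eq (f ≫ g) L (CohB1.tensorPow P e) P 𝒮L jL hjL (lv e).𝒮N (lv e).jN (lv e).hjN
      (lv e).𝒮M (lv e).jM (lv e).hjM (lv e).𝒯 (lv e).jF (lv e).h𝒯 ⊤ (f ⁻¹ᵁ V)
      (le_preimage_top (f ≫ g) (f ⁻¹ᵁ V)) (SecTwist.pow s e (f ⁻¹ᵁ V))
      (SecTwist.val s ((f ≫ g) ⁻¹ᵁ ⊤)) (Fact.out) (Fact.out) (Fact.out) (Fact.out) ?_ ?_ ?_ n
      _ ?_ c hv hr
    · intro W' hW' hle
      have e1 : (CohB1.tensorPow P e).presheaf.map (homOfLE hle).op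
          (SecTwist.pow s e (f ⁻¹ᵁ V)) = SecTwist.pow s e W' :=
        SecTwist.map_pow s e (homOfLE hle)
      rw [e1]
      exact bijective_smul_pow P s W' hW'
        (bijective_smul_val P s W' (hle.trans hgl.le)) e
    · intro W' hW' hle
      have e1 : P.presheaf.map (homOfLE (hle.trans (le_preimage_top (f ≫ g) (f ⁻¹ᵁ V)))).op
          (SecTwist.val s ((f ≫ g) ⁻¹ᵁ ⊤)) = SecTwist.val s W' :=
        SecTwist.map_val s (homOfLE (hle.trans (le_preimage_top (f ≫ g) (f ⁻¹ᵁ V))))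
      rw [e1]
      exact bijective_smul_val P s W' (hle.trans hgl.le)
    · intro V₁ hV₁ hle hbij
      rw [hgl]
      exact le_genLocus_of_bijective_val P s V₁ hV₁ hbij
    · intro W' hW' hle
      exact (uL L 𝒮L jL hjL f E 𝒯E jE hjE β).map_mem V hV W' hW' hle ha
  · intro hle' t
    let T : Set Γ(X, RLpsiU.XT 𝒮L (uL L 𝒮L jL hjL f E 𝒯E jE hjE β) V n a) :=
      Set.range b ∪ (f.appLE V _ hOle).hom '' R
    have hT0 : Subring.closure (Set.range (((f.appLE V _ hOle).hom).comp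
        (g.appLE ⊤ V (fun _ _ => trivial)).hom) ∪ T) = ⊤ :=
      closure_comp _ _ R (Set.range b) hR hb
    have hcomp : ((f.appLE V _ hOle).hom).comp (g.appLE ⊤ V (fun _ _ => trivial)).hom =
        ((f ≫ g).appLE ⊤ _ hle').hom := by
      rw [← CommRingCat.hom_comp]
      exact congrArg CommRingCat.Hom.hom
        (Scheme.Hom.appLE_comp_appLE f g ⊤ V _ (fun _ _ => trivial) hOle)
    rw [hcomp] at hT0
    refine RLpsiU.H3.of_adjoin hc T ?_ ?_ t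
    · letI := ((f ≫ g).appLE ⊤ _ hle').hom.toAlgebra
      have h1 := Algebra.adjoin_eq_ring_closure (R := Γ(Z, ⊤)) T
      apply Subalgebra.toSubring_injective
      rw [h1]
      exact hT0
    · rintro t' (⟨i, rfl⟩ | ⟨r, hrR, rfl⟩)
      · exact H3_of_rel (f ≫ g) L (CohB1.tensorPow P e) P 𝒮L jL hjL (lv e).𝒮N (lv e).jN
          (lv e).hjN (lv e).𝒮M (lv e).jM (lv e).hjM (lv e).𝒯 (lv e).jF (lv e).h𝒯 ⊤ hU (f ⁻¹ᵁ V)
          (le_preimage_top (f ≫ g) (f ⁻¹ᵁ V)) (SecTwist.pow s e (f ⁻¹ᵁ V))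
          (SecTwist.val s ((f ≫ g) ⁻¹ᵁ ⊤)) _ hO hOle (b i) n (m i) (hm i) _ _ c (c' i) (hc' i)
          hr (hr' i) (hrel i)
      · obtain ⟨π, hπr⟩ := hπ r hrR
        obtain ⟨c'', hc'', hr''⟩ := hq (SecTwist.val π ((f ≫ g) ⁻¹ᵁ ⊤)) ((f.app V).hom r) (by
          have e1 : P.presheaf.map (homOfLE (le_preimage_top (f ≫ g) (f ⁻¹ᵁ V))).op
              (SecTwist.val π ((f ≫ g) ⁻¹ᵁ ⊤)) = SecTwist.val π (f ⁻¹ᵁ V) :=
            SecTwist.map_val π (homOfLE (le_preimage_top (f ≫ g) (f ⁻¹ᵁ V)))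
          have e2 : P.presheaf.map (homOfLE (le_preimage_top (f ≫ g) (f ⁻¹ᵁ V))).op
              (SecTwist.val s ((f ≫ g) ⁻¹ᵁ ⊤)) = SecTwist.val s (f ⁻¹ᵁ V) :=
            SecTwist.map_val s (homOfLE (le_preimage_top (f ≫ g) (f ⁻¹ᵁ V)))
          rw [e1, e2]
          exact hπr)
        exact H3_of_ratio (f ≫ g) L (CohB1.tensorPow P e) P 𝒮L jL hjL (lv e).𝒮N (lv e).jN
          (lv e).hjN (lv e).𝒮M (lv e).jM (lv e).hjM (lv e).𝒯 (lv e).jF (lv e).h𝒯 ⊤ hU (f ⁻¹ᵁ V)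
          (le_preimage_top (f ≫ g) (f ⁻¹ᵁ V)) (SecTwist.pow s e (f ⁻¹ᵁ V))
          (SecTwist.val s ((f ≫ g) ⁻¹ᵁ ⊤)) _ hO hOle ((f.app V).hom r) n _ c c'' hc'' hr hr''

end Groth.Agent.Lib.helper28.CompSeg
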