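import Groth.Agent.Lib.Helper28.VAmpleSec1
import Groth.Agent.Lib.Helper28.SymLineAmpleImm
import Groth.Agent.Lib.Helper28.RLpsiTwist
import Groth.Agent.Lib.Helper28.RLpsiU2
import Groth.Agent.Lib.Helper28.SymPairLift2
import Groth.Agent.Lib.Helper28.ProjBundleClosed
import Groth.Agent.Lib.Helper7.QCohPushQC

/-!
# Very ampleness (in the `P(E)` sense) from sections (helper28)

* `isRelVeryAmple_of_domQ_eq_top`: if `u : Sym(E) → q_* Sym(L)` has `Proj(u)` everywhere defined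
  and an immersion, then `L` is very ample relative to `q`.
* `isRelVeryAmple_of_sections`: `f` quasi-compact quasi-separated, `M` invertible; if every point
  lies in an affine `W_σ`, `σ ∈ Γ(f⁻¹U, M)`, `U ⊆ Y` affine, with `Γ(W_σ, O)` generated over `Γ(U, O)`
  by ratios `τ / σ`, then `M` is very ample relative to `f` (through `E = f_* M`).
-/

set_option autoImplicit false
set_option linter.style.haveILetI false
universe u
open CategoryTheory CategoryTheory.Limits AlgebraicGeometry TopologicalSpace Opposite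

namespace Groth.Agent.Lib.helper28.VAmpleSec

open Groth.Agent.Lib.helper28.SymLineGenLocus Groth.Agent.Lib.helper28.SymLineExtend
open Groth.Agent.Lib.helper12.TwistExtend
open Groth.Agent.Lib.helper28 Groth.Agent.Lib.helper28.ProjQGlue
open HomogeneousLocalization

section Gen

variable {X Y PL : Scheme.{u}} (q : X ⟶ Y)
  (L : X.Modules) [L.IsQuasicoherent] (hL : PicF.IsInvertible L)
  (𝒮L : RelProj.QCGrAlg X) (jL : L ⟶ 𝒮L.toModule) (hjL : RelProj.IsGrSymAlg L 𝒮L jL)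
  (pL : PL ⟶ X) (chartL : ∀ (U : X.Opens) (hU : IsAffineOpen U),
    (((pL ⁻¹ᵁ U : PL.Opens) : Scheme.{u}) ≅ Proj (𝒮L.deg U hU)))
  (hPL : RelProj.IsRelProj 𝒮L pL chartL)
  (E : Y.Modules) [E.IsQuasicoherent] (𝒯 : RelProj.QCGrAlg Y) (jT : E ⟶ 𝒯.toModule)
  (h𝒯 : RelProj.IsGrSymAlg E 𝒯 jT) (u : RelProj.QGrHom q 𝒯 𝒮L)

include hL hjL hPL h𝒯 in
theorem isRelVeryAmple_of_domQ_eq_top (hdom : RelProj.domQ u pL chartL = ⊤)
    (himm : ∀ (P : Scheme.{u}) (p : P ⟶ Y)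
      (chart : ∀ (U : Y.Opens) (hU : IsAffineOpen U),
        (((p ⁻¹ᵁ U : P.Opens) : Scheme.{u}) ≅ Proj (𝒯.deg U hU)))
      (_ : RelProj.IsRelProj 𝒯 p chart)
      (r : ((RelProj.domQ u pL chartL : PL.Opens) : Scheme.{u}) ⟶ P)
      (_ : RelProj.IsProjQMapOn u p chart pL chartL (RelProj.domQ u pL chartL) r),
      IsImmersion r) :
    RelProj.IsRelVeryAmple q L := by
  obtain ⟨P, p, chart, hP⟩ := RelProjExists.exists_relProj 𝒯
  obtain ⟨r, hr₀, -⟩ := existsUnique_glue u (p := p) (chart := chart) (p' := pL)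
    (chart' := chartL) hP hPL
  have hr : RelProj.IsProjQMapOn u p chart pL chartL (RelProj.domQ u pL chartL) r :=
    (ProjQComp.isProjQMapOn_iff u r).mpr hr₀
  have himmr : IsImmersion r := himm P p chart hP r hr
  obtain ⟨O1, lam, hO1⟩ := RelTwistExists.exists_isRelTwist 𝒯 p chart hP 1
  have h1 : 𝒯.IsGenDegOne := ProjBundleQuot.isGenDegOne_of_isGrSymAlg E 𝒯 jT h𝒯
  have hsurj : ∀ x : X, ∃ (U : Y.Opens) (hU : IsAffineOpen U)
      (e : 𝒯.presheaf.obj (op U)) (_ : e ∈ 𝒯.deg U hU 1) (V : X.Opens)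
      (hV : IsAffineOpen V) (hVU : V ≤ q ⁻¹ᵁ U), x ∈ V ∧
        ((𝒮L.deg V hV 1 : AddSubgroup (𝒮L.presheaf.obj (op V))) :
          Set (𝒮L.presheaf.obj (op V))) ⊆
          (Ideal.span {(u.appLE U V hVU).hom e} : Set (𝒮L.presheaf.obj (op V))) := by
    intro x
    obtain ⟨U, hU, e', V, hV, hVU, hxV, hspan⟩ := RLpsiTwist.exists_gen_of_domQ_eq_top q
      L hL 𝒮L jL hjL pL chartL hPL E 𝒯 jT h𝒯 u hdom x
    exact ⟨U, hU, _, h𝒯.2 U hU e', V, hV, hVU, hxV, hspan⟩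
  obtain ⟨hpLiso, hιiso, i', hi'eq, hi'p, ⟨e'⟩⟩ := RLpsiTwist.exists_pullback_iso q L hL
    𝒮L jL hjL pL chartL hPL 𝒯 h1 u hsurj p chart hP r hr O1 lam hO1
  have himmi' : IsImmersion i' := by
    rw [hi'eq]
    infer_instance
  exact ⟨E, inferInstance, 𝒯, jT, h𝒯, P, p, chart, hP, O1, lam, hO1, i', himmi', hi'p, ⟨e'⟩⟩

end Gen

section Sec

variable {X Y : Scheme.{u}} (f : X ⟶ Y) [QuasiCompact f] [QuasiSeparated f]
  (M : X.Modules) (hM : PicF.IsInvertible M)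

include hM in
/-- **Very ampleness from sections.** -/
theorem isRelVeryAmple_of_sections
    (h : ∀ x : X, ∃ (U : Y.Opens) (_ : IsAffineOpen U) (σ : M.val.obj (op (f ⁻¹ᵁ U)))
      (Z : X.Opens) (_ : Z = WT (f ⁻¹ᵁ U) σ) (hZU : Z ≤ f ⁻¹ᵁ U) (T : Set Γ(X, Z)),
      x ∈ Z ∧ IsAffineOpen Z ∧
        (letI := (f.appLE U Z hZU).hom.toAlgebra; Algebra.adjoin Γ(Y, U) T = ⊤) ∧
        ∀ c ∈ T, ∃ τ : M.val.obj (op (f ⁻¹ᵁ U)),
          res M hZU τ = (c • (res M hZU σ : Γ(M, Z)) : Γ(M, Z))) :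
    RelProj.IsRelVeryAmple f M := by
  have hMq : M.IsQuasicoherent :=
    Groth.Agent.Lib.helper12.AmpleBasis.isQuasicoherent_of_isInvertible hM
  have hFq : ((Scheme.Modules.pushforward f).obj M).IsQuasicoherent :=
    Groth.Agent.Lib.helper7.QCohPushQC.isQuasicoherent_pushforward f M
  obtain ⟨𝒮M, jM, hjM⟩ := SymGradedExists.exists_isGrSymAlg M
  obtain ⟨PM, pM, chartM, hPM⟩ := RelProjExists.exists_relProj 𝒮M
  obtain ⟨𝒯, jF, h𝒯⟩ := SymGradedExists.exists_isGrSymAlg ((Scheme.Modules.pushforward f).obj M)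
  let u : RelProj.QGrHom f 𝒯 𝒮M :=
    SymPairLift.qGrHom f ((Scheme.Modules.pushforward f).obj M) 𝒯 jF h𝒯 M (𝟙 _) 𝒮M jM hjM.2
  have hu : ∀ (U : Y.Opens) (σ : M.val.obj (op (f ⁻¹ᵁ U))),
      (u.app U).hom ((jF.app U).hom σ) = jr jM (f ⁻¹ᵁ U) σ := fun U σ =>
    SymPairLift.qGrHom_j_all f ((Scheme.Modules.pushforward f).obj M) 𝒯 jF h𝒯 M (𝟙 _) 𝒮M jM
      hjM.2 U σ
  -- local data in terms of `XT`
  have hXT : ∀ (U : Y.Opens) (σ : M.val.obj (op (f ⁻¹ᵁ U))),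
      RLpsiU.XT 𝒮M u U 1 ((jF.app U).hom σ) = WT (f ⁻¹ᵁ U) σ := fun U σ =>
    XT_eq_WT_one u hjM hM U _ σ (hu U σ).symm
  have hdom : RelProj.domQ u pM chartM = ⊤ := by
    refine top_le_iff.mp fun z _ => ?_
    obtain ⟨U, hU, σ, Z, hZ, hZU, T, hxZ, -, -, -⟩ := h (pM z)
    refine SymLineAmpleImm.mem_domQ_of_mem_XT u hjM U hU one_pos ((jF.app U).hom σ)
      (h𝒯.2 U hU σ) z ?_
    rw [hXT, ← hZ]
    exact hxZ
  refine isRelVeryAmple_of_domQ_eq_top f M hM 𝒮M jM hjM pM chartM hPM _ 𝒯 jF h𝒯 u hdom ?_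
  intro P p chart hP r hr
  have hr₀ := (ProjQComp.isProjQMapOn_iff u r).mp hr
  refine RLpsiU.isImmersion_of_local M 𝒮M jM hjM u hM hP hPM r hr₀ fun x' => ?_
  obtain ⟨U, hU, σ, Z, hZ, hZU, T, hxZ, hZaff, hT, hτ⟩ := h (pM ((RelProj.domQ u pM chartM).ι x'))
  have hXTZ : RLpsiU.XT 𝒮M u U 1 ((jF.app U).hom σ) = Z := (hXT U σ).trans hZ.symm
  have hXTaff : IsAffineOpen (RLpsiU.XT 𝒮M u U 1 ((jF.app U).hom σ)) := hXTZ ▸ hZaff
  refine ⟨U, hU, 1, one_pos, (jF.app U).hom σ, h𝒯.2 U hU σ, ?_, hXTaff, ?_⟩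
  · rw [hXTZ]
    exact hxZ
  · rw [RLpsiU.surjective_awayMap_iff M 𝒮M jM hjM u hM hP hPM r hr₀ U hU one_pos _
      (h𝒯.2 U hU σ) hXTaff]
    refine RLpsiU.H3.congr_open (hle := hZU) hXTZ.symm _ (fun t => ?_)
    refine RLpsiU.H3.of_adjoin (h𝒯.2 U hU σ) T hT (fun c hc => ?_) t
    obtain ⟨τ, hτc⟩ := hτ c hc
    refine ⟨1, one_pos, (jF.app U).hom τ, ?_, ?_⟩
    · rw [one_mul]
      exact h𝒯.2 U hU τ
    · rw [pow_one]
      change (𝒮M.str.app (op Z)).hom c *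
          (𝒮M.presheaf.map (homOfLE hZU).op).hom ((u.app U).hom ((jF.app U).hom σ)) =
        (𝒮M.presheaf.map (homOfLE hZU).op).hom ((u.app U).hom ((jF.app U).hom τ))
      rw [hu U σ, hu U τ, ← jr_res, ← jr_res, hτc]
      exact (jr_smul Z c (res M hZU σ)).symm

end Sec

end Groth.Agent.Lib.helper28.VAmpleSec
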