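import Groth.Agent.Lib.Helper28.SegreCore
import Groth.Agent.Lib.Helper28.VAmpleSec2

/-!
# Composite Segre: twisting `Sym(L)` into `Sym((L ⊗ P') ⊗ P)` over an open `X₁` (helper28)

`q : X ⟶ Z`, `U ⊆ Z` affine, `X₁ ⊆ q⁻¹ U` open, `L`, `P'`, `P` modules on `X`, `ν ∈ Γ(X₁, P')`,
`s ∈ Γ(q⁻¹ U, P)`, `M = (L ⊗ P') ⊗ P`, `u = Sym(q_* M) → q_* Sym(M)`.
* `Lam W' : 𝒮L(W') → 𝒮M(W')` for affine `W' ⊆ X₁`, `jL σ ↦ jM((σ ⊗ ν) ⊗ s)`.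
* `Rel r A c`: `u c = r · Λ(A)` over all affine `W' ⊆ X₁`; `Van c`: `u c` is divisible by the
  coefficient of `s`; `G n A`: existence of such `c` of degree `n` (with all ratios).
* `G.add`, `G.mul`, `G.base`; `XT_eq`; `H3_of_rel`.
-/

set_option autoImplicit false
set_option linter.style.haveILetI false
set_option linter.unusedSectionVars false
universe u
open CategoryTheory AlgebraicGeometry TopologicalSpace Opposite TensorProduct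

namespace Groth.Agent.Lib.helper28.CompSeg

open Groth.Agent.Lib.helper28.SymLinePow Groth.Agent.Lib.helper28.SymLineGenLocus
  Groth.Agent.Lib.helper28.SegreTwist Groth.Agent.Lib.helper11.TensorASec
  Groth.Agent.Lib.helper28 Groth.Agent.Lib.helper28.SegreCore
  Groth.Agent.Lib.helper28.SegreLocal

section Alg

variable {A₀ B : Type u} [CommRing A₀] [CommRing B] (ι : A₀ →+* B) (z : B)

theorem isUnit_of_span_mul (hpoly : Function.Bijective (Polynomial.eval₂RingHom ι z)) (b : A₀)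
    (w : B) (n : ℕ) (h : z ^ n ∈ Ideal.span {ι b * w}) : IsUnit b := by
  obtain ⟨x, hx⟩ := Ideal.mem_span_singleton'.mp h
  obtain ⟨Q, hQ⟩ := hpoly.2 (x * w)
  have h1 : Polynomial.eval₂RingHom ι z (Polynomial.C b * Q) =
      Polynomial.eval₂RingHom ι z (Polynomial.X ^ n) := by
    rw [map_mul, map_pow, hQ]
    simp only [Polynomial.coe_eval₂RingHom, Polynomial.eval₂_C, Polynomial.eval₂_X]
    rw [← hx]
    ring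
  have h2 := hpoly.1 h1
  have h3 : (Polynomial.C b * Q).coeff n = (Polynomial.X ^ n : Polynomial A₀).coeff n := by
    rw [h2]
  rw [Polynomial.coeff_C_mul, Polynomial.coeff_X_pow_self] at h3
  exact IsUnit.of_mul_eq_one _ h3

end Alg

variable {X Z : Scheme.{u}} (q : X ⟶ Z)
  (L P' P : X.Modules) [L.IsQuasicoherent] [P'.IsQuasicoherent] [P.IsQuasicoherent]
  [(CohB1.tensorMod L P').IsQuasicoherent]
  [(CohB1.tensorMod (CohB1.tensorMod L P') P).IsQuasicoherent]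
  (𝒮L : RelProj.QCGrAlg X) (jL : L ⟶ 𝒮L.toModule) (hjL : RelProj.IsGrSymAlg L 𝒮L jL)
  (𝒮N : RelProj.QCGrAlg X) (jN : CohB1.tensorMod L P' ⟶ 𝒮N.toModule)
  (hjN : RelProj.IsGrSymAlg (CohB1.tensorMod L P') 𝒮N jN)
  (𝒮M : RelProj.QCGrAlg X) (jM : CohB1.tensorMod (CohB1.tensorMod L P') P ⟶ 𝒮M.toModule)
  (hjM : RelProj.IsGrSymAlg (CohB1.tensorMod (CohB1.tensorMod L P') P) 𝒮M jM)
  [((Scheme.Modules.pushforward q).obj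
    (CohB1.tensorMod (CohB1.tensorMod L P') P)).IsQuasicoherent]
  (𝒯 : RelProj.QCGrAlg Z)
  (jF : (Scheme.Modules.pushforward q).obj (CohB1.tensorMod (CohB1.tensorMod L P') P) ⟶
    𝒯.toModule)
  (h𝒯 : RelProj.IsGrSymAlg ((Scheme.Modules.pushforward q).obj
    (CohB1.tensorMod (CohB1.tensorMod L P') P)) 𝒯 jF)
  (U : Z.Opens) (hU : IsAffineOpen U) (X₁ : X.Opens) (hX₁ : X₁ ≤ q ⁻¹ᵁ U)
  (ν : Γ(P', X₁)) (s : Γ(P, q ⁻¹ᵁ U))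

/-- `Sym(q_* M) → q_* Sym(M)`. -/
noncomputable abbrev uM : RelProj.QGrHom q 𝒯 𝒮M :=
  SymPairLift.qGrHom q ((Scheme.Modules.pushforward q).obj
    (CohB1.tensorMod (CohB1.tensorMod L P') P)) 𝒯 jF h𝒯
    (CohB1.tensorMod (CohB1.tensorMod L P') P) (𝟙 _) 𝒮M jM hjM.2

/-- `𝒮L(W') → 𝒮N(W')`, `jL σ ↦ jN(σ ⊗ ν)`. -/
noncomputable abbrev lam1 (W' : X.Opens) (hW' : IsAffineOpen W') (hle : W' ≤ X₁) :
    𝒮L.presheaf.obj (op W') →+* 𝒮N.presheaf.obj (op W') :=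
  tw L 𝒮L jL hjL P' 𝒮N.toQCAlg jN W' (P'.presheaf.map (homOfLE hle).op ν) hW'

/-- `𝒮N(W') → 𝒮M(W')`, `jN ρ ↦ jM(ρ ⊗ s)`. -/
noncomputable abbrev lam2 (W' : X.Opens) (hW' : IsAffineOpen W') (hle : W' ≤ q ⁻¹ᵁ U) :
    𝒮N.presheaf.obj (op W') →+* 𝒮M.presheaf.obj (op W') :=
  tw (CohB1.tensorMod L P') 𝒮N jN hjN P 𝒮M.toQCAlg jM W' (P.presheaf.map (homOfLE hle).op s) hW'

/-- `Λ : 𝒮L(W') → 𝒮M(W')`. -/
noncomputable def Lam (W' : X.Opens) (hW' : IsAffineOpen W') (hle : W' ≤ X₁) :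
    𝒮L.presheaf.obj (op W') →+* 𝒮M.presheaf.obj (op W') :=
  (lam2 q L P' P 𝒮N jN hjN 𝒮M jM U s W' hW' (hle.trans hX₁)).comp
    (lam1 L P' 𝒮L jL hjL 𝒮N jN X₁ ν W' hW' hle)

theorem Lam_apply (W' : X.Opens) (hW' : IsAffineOpen W') (hle : W' ≤ X₁)
    (a : 𝒮L.presheaf.obj (op W')) :
    Lam q L P' P 𝒮L jL hjL 𝒮N jN hjN 𝒮M jM U X₁ hX₁ ν s W' hW' hle a =
      lam2 q L P' P 𝒮N jN hjN 𝒮M jM U s W' hW' (hle.trans hX₁)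
        (lam1 L P' 𝒮L jL hjL 𝒮N jN X₁ ν W' hW' hle a) := rfl

theorem Lam_str (W' : X.Opens) (hW' : IsAffineOpen W') (hle : W' ≤ X₁) (r : Γ(X, W')) :
    Lam q L P' P 𝒮L jL hjL 𝒮N jN hjN 𝒮M jM U X₁ hX₁ ν s W' hW' hle
      ((𝒮L.str.app (op W')).hom r) = (𝒮M.str.app (op W')).hom r := by
  refine (Lam_apply q L P' P 𝒮L jL hjL 𝒮N jN hjN 𝒮M jM U X₁ hX₁ ν s W' hW' hle _).trans ?_
  refine (congrArg (lam2 q L P' P 𝒮N jN hjN 𝒮M jM U s W' hW' (hle.trans hX₁))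
    (tw_str L 𝒮L jL hjL P' 𝒮N.toQCAlg jN W' _ hW' r)).trans ?_
  exact tw_str (CohB1.tensorMod L P') 𝒮N jN hjN P 𝒮M.toQCAlg jM W' _ hW' r

theorem Lam_jL (W' : X.Opens) (hW' : IsAffineOpen W') (hle : W' ≤ X₁) (σ : Γ(L, W')) :
    Lam q L P' P 𝒮L jL hjL 𝒮N jN hjN 𝒮M jM U X₁ hX₁ ν s W' hW' hle ((jL.app W').hom σ) =
      (jM.app W').hom (tm (CohB1.tensorMod L P') P W'
        (tm L P' W' σ (P'.presheaf.map (homOfLE hle).op ν))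
        (P.presheaf.map (homOfLE (hle.trans hX₁)).op s)) := by
  refine (Lam_apply q L P' P 𝒮L jL hjL 𝒮N jN hjN 𝒮M jM U X₁ hX₁ ν s W' hW' hle _).trans ?_
  refine (congrArg (lam2 q L P' P 𝒮N jN hjN 𝒮M jM U s W' hW' (hle.trans hX₁))
    (tw_j L 𝒮L jL hjL P' 𝒮N.toQCAlg jN W' _ hW' σ)).trans ?_
  exact tw_j (CohB1.tensorMod L P') 𝒮N jN hjN P 𝒮M.toQCAlg jM W' _ hW' _

theorem Lam_res (W' : X.Opens) (hW' : IsAffineOpen W') (hle : W' ≤ X₁)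
    (W'' : X.Opens) (hW'' : IsAffineOpen W'') (i : W'' ≤ W') (a : 𝒮L.presheaf.obj (op W')) :
    (𝒮M.presheaf.map (homOfLE i).op).hom
        (Lam q L P' P 𝒮L jL hjL 𝒮N jN hjN 𝒮M jM U X₁ hX₁ ν s W' hW' hle a) =
      Lam q L P' P 𝒮L jL hjL 𝒮N jN hjN 𝒮M jM U X₁ hX₁ ν s W'' hW'' (i.trans hle)
        ((𝒮L.presheaf.map (homOfLE i).op).hom a) := by
  have h2 := tw_res (CohB1.tensorMod L P') 𝒮N jN hjN P 𝒮M.toQCAlg jM W' hW'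
    (P.presheaf.map (homOfLE (hle.trans hX₁)).op s) W'' hW'' i
    (lam1 L P' 𝒮L jL hjL 𝒮N jN X₁ ν W' hW' hle a)
  have h1 := tw_res L 𝒮L jL hjL P' 𝒮N.toQCAlg jN W' hW'
    (P'.presheaf.map (homOfLE hle).op ν) W'' hW'' i a
  have e1 : P'.presheaf.map (homOfLE i).op (P'.presheaf.map (homOfLE hle).op ν) =
      P'.presheaf.map (homOfLE (i.trans hle)).op ν := LocalGen.map_map P' hle i ν
  have e2 : P.presheaf.map (homOfLE i).op (P.presheaf.map (homOfLE (hle.trans hX₁)).op s) =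
      P.presheaf.map (homOfLE ((i.trans hle).trans hX₁)).op s :=
    LocalGen.map_map P (hle.trans hX₁) i s
  rw [e1] at h1
  rw [e2] at h2
  refine h2.trans ?_
  exact congrArg _ h1

include hjN hjM in
theorem Lam_mem (W' : X.Opens) (hW' : IsAffineOpen W') (hle : W' ≤ X₁) (n : ℕ)
    (a : 𝒮L.presheaf.obj (op W')) (ha : a ∈ 𝒮L.deg W' hW' n) :
    Lam q L P' P 𝒮L jL hjL 𝒮N jN hjN 𝒮M jM U X₁ hX₁ ν s W' hW' hle a ∈ 𝒮M.deg W' hW' n :=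
  tw_mem (CohB1.tensorMod L P') 𝒮N jN hjN P 𝒮M jM hjM.2 W' hW' _ n _
    (tw_mem L 𝒮L jL hjL P' 𝒮N jN hjN.2 W' hW' _ n a ha)

/-- `u c = r · Λ(A)` over all affine opens of `X₁`. -/
def Rel (r : Γ(X, X₁)) (A : 𝒮L.presheaf.obj (op X₁)) (c : 𝒯.presheaf.obj (op U)) : Prop :=
  ∀ (W' : X.Opens) (hW' : IsAffineOpen W') (hle : W' ≤ X₁),
    ((uM q L P' P 𝒮M jM hjM 𝒯 jF h𝒯).appLE U W' (hle.trans hX₁)).hom c =
      (𝒮M.str.app (op W')).hom ((X.presheaf.map (homOfLE hle).op).hom r) *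
        Lam q L P' P 𝒮L jL hjL 𝒮N jN hjN 𝒮M jM U X₁ hX₁ ν s W' hW' hle
          ((𝒮L.presheaf.map (homOfLE hle).op).hom A)

/-- `u c` is divisible by the coefficient of `s` with respect to any local frame of `P`. -/
def Van (c : 𝒯.presheaf.obj (op U)) : Prop :=
  ∀ (V₁ : X.Opens) (_ : IsAffineOpen V₁) (hle : V₁ ≤ q ⁻¹ᵁ U) (p : Γ(P, V₁)) (b : Γ(X, V₁)),
    P.presheaf.map (homOfLE hle).op s = b • p →
    ∃ w : 𝒮M.presheaf.obj (op V₁),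
      ((uM q L P' P 𝒮M jM hjM 𝒯 jF h𝒯).appLE U V₁ hle).hom c = (𝒮M.str.app (op V₁)).hom b * w

/-- The twisted partner of `A` exists in degree `n`, together with all its multiples by ratios
`π / s`. -/
def G (n : ℕ) (A : 𝒮L.presheaf.obj (op X₁)) : Prop :=
  ∃ c ∈ 𝒯.deg U hU n, Van q L P' P 𝒮M jM hjM 𝒯 jF h𝒯 U s c ∧
    Rel q L P' P 𝒮L jL hjL 𝒮N jN hjN 𝒮M jM hjM 𝒯 jF h𝒯 U X₁ hX₁ ν s 1 A c ∧
    ∀ (π : Γ(P, q ⁻¹ᵁ U)) (r : Γ(X, X₁)),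
      P.presheaf.map (homOfLE hX₁).op π = r • P.presheaf.map (homOfLE hX₁).op s →
      ∃ c'' ∈ 𝒯.deg U hU n,
        Rel q L P' P 𝒮L jL hjL 𝒮N jN hjN 𝒮M jM hjM 𝒯 jF h𝒯 U X₁ hX₁ ν s r A c''

section Closure

variable {q L P' P 𝒮L jL hjL 𝒮N jN hjN 𝒮M jM hjM 𝒯 jF h𝒯 U hU X₁ hX₁ ν s}

theorem Rel.add {r : Γ(X, X₁)} {A A' : 𝒮L.presheaf.obj (op X₁)} {c c' : 𝒯.presheaf.obj (op U)}
    (h : Rel q L P' P 𝒮L jL hjL 𝒮N jN hjN 𝒮M jM hjM 𝒯 jF h𝒯 U X₁ hX₁ ν s r A c)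
    (h' : Rel q L P' P 𝒮L jL hjL 𝒮N jN hjN 𝒮M jM hjM 𝒯 jF h𝒯 U X₁ hX₁ ν s r A' c') :
    Rel q L P' P 𝒮L jL hjL 𝒮N jN hjN 𝒮M jM hjM 𝒯 jF h𝒯 U X₁ hX₁ ν s r (A + A') (c + c') := by
  intro W' hW' hle
  rw [map_add, map_add, map_add, h W' hW' hle, h' W' hW' hle, mul_add]

theorem Rel.mul {r : Γ(X, X₁)} {A A' : 𝒮L.presheaf.obj (op X₁)} {c c' : 𝒯.presheaf.obj (op U)}
    (h : Rel q L P' P 𝒮L jL hjL 𝒮N jN hjN 𝒮M jM hjM 𝒯 jF h𝒯 U X₁ hX₁ ν s r A c)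
    (h' : Rel q L P' P 𝒮L jL hjL 𝒮N jN hjN 𝒮M jM hjM 𝒯 jF h𝒯 U X₁ hX₁ ν s 1 A' c') :
    Rel q L P' P 𝒮L jL hjL 𝒮N jN hjN 𝒮M jM hjM 𝒯 jF h𝒯 U X₁ hX₁ ν s r (A * A') (c * c') := by
  intro W' hW' hle
  rw [map_mul, map_mul, map_mul, h W' hW' hle, h' W' hW' hle, map_one, map_one, one_mul,
    mul_assoc]

theorem Van.add {c c' : 𝒯.presheaf.obj (op U)} (h : Van q L P' P 𝒮M jM hjM 𝒯 jF h𝒯 U s c)
    (h' : Van q L P' P 𝒮M jM hjM 𝒯 jF h𝒯 U s c') :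
    Van q L P' P 𝒮M jM hjM 𝒯 jF h𝒯 U s (c + c') := by
  intro V₁ hV₁ hle p b hb
  obtain ⟨w, hw⟩ := h V₁ hV₁ hle p b hb
  obtain ⟨w', hw'⟩ := h' V₁ hV₁ hle p b hb
  exact ⟨w + w', by rw [map_add, hw, hw', mul_add]⟩

theorem Van.mul {c : 𝒯.presheaf.obj (op U)} (h : Van q L P' P 𝒮M jM hjM 𝒯 jF h𝒯 U s c)
    (c' : 𝒯.presheaf.obj (op U)) : Van q L P' P 𝒮M jM hjM 𝒯 jF h𝒯 U s (c * c') := by
  intro V₁ hV₁ hle p b hb
  obtain ⟨w, hw⟩ := h V₁ hV₁ hle p b hb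
  exact ⟨w * ((uM q L P' P 𝒮M jM hjM 𝒯 jF h𝒯).appLE U V₁ hle).hom c',
    by rw [map_mul, hw, mul_assoc]⟩

theorem G.add {n : ℕ} {A A' : 𝒮L.presheaf.obj (op X₁)}
    (h : G q L P' P 𝒮L jL hjL 𝒮N jN hjN 𝒮M jM hjM 𝒯 jF h𝒯 U hU X₁ hX₁ ν s n A)
    (h' : G q L P' P 𝒮L jL hjL 𝒮N jN hjN 𝒮M jM hjM 𝒯 jF h𝒯 U hU X₁ hX₁ ν s n A') :
    G q L P' P 𝒮L jL hjL 𝒮N jN hjN 𝒮M jM hjM 𝒯 jF h𝒯 U hU X₁ hX₁ ν s n (A + A') := by
  obtain ⟨c, hc, hv, hr, hq⟩ := h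
  obtain ⟨c', hc', hv', hr', hq'⟩ := h'
  refine ⟨c + c', add_mem hc hc', hv.add hv', hr.add hr', fun π r hπ => ?_⟩
  obtain ⟨d, hd, hdr⟩ := hq π r hπ
  obtain ⟨d', hd', hdr'⟩ := hq' π r hπ
  exact ⟨d + d', add_mem hd hd', hdr.add hdr'⟩

theorem G.mul {n m : ℕ} {A A' : 𝒮L.presheaf.obj (op X₁)}
    (h : G q L P' P 𝒮L jL hjL 𝒮N jN hjN 𝒮M jM hjM 𝒯 jF h𝒯 U hU X₁ hX₁ ν s n A)
    (h' : G q L P' P 𝒮L jL hjL 𝒮N jN hjN 𝒮M jM hjM 𝒯 jF h𝒯 U hU X₁ hX₁ ν s m A') :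
    G q L P' P 𝒮L jL hjL 𝒮N jN hjN 𝒮M jM hjM 𝒯 jF h𝒯 U hU X₁ hX₁ ν s (n + m) (A * A') := by
  obtain ⟨c, hc, hv, hr, hq⟩ := h
  obtain ⟨c', hc', hv', hr', hq'⟩ := h'
  refine ⟨c * c', SetLike.mul_mem_graded hc hc', hv.mul c', hr.mul hr', fun π r hπ => ?_⟩
  obtain ⟨d, hd, hdr⟩ := hq π r hπ
  exact ⟨d * c', SetLike.mul_mem_graded hd hc', hdr.mul hr'⟩

end Closure

section Base

include hU in
/-- `u (jF e)` over an affine open. -/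
theorem uM_jF (W' : X.Opens) (hW' : IsAffineOpen W') (hle : W' ≤ q ⁻¹ᵁ U)
    (e : Γ(CohB1.tensorMod (CohB1.tensorMod L P') P, q ⁻¹ᵁ U)) :
    ((uM q L P' P 𝒮M jM hjM 𝒯 jF h𝒯).appLE U W' hle).hom ((jF.app U).hom e) =
      (jM.app W').hom ((CohB1.tensorMod (CohB1.tensorMod L P') P).presheaf.map
        (homOfLE hle).op e) :=
  qGrHom_appLE_j q ((Scheme.Modules.pushforward q).obj
    (CohB1.tensorMod (CohB1.tensorMod L P') P)) 𝒯 jF h𝒯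
    (CohB1.tensorMod (CohB1.tensorMod L P') P) (𝟙 _) 𝒮M jM hjM.2 U hU W' hW' hle e

include hU in
/-- The partner of `jL σ` built from an extension `τ'` of `σ ⊗ ν` and a section `π` of `P`. -/
theorem rel_base (σ : Γ(L, X₁)) (τ' : Γ(CohB1.tensorMod L P', q ⁻¹ᵁ U))
    (hτ' : (CohB1.tensorMod L P').presheaf.map (homOfLE hX₁).op τ' = tm L P' X₁ σ ν)
    (π : Γ(P, q ⁻¹ᵁ U)) (r : Γ(X, X₁))
    (hπ : P.presheaf.map (homOfLE hX₁).op π = r • P.presheaf.map (homOfLE hX₁).op s) :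
    Rel q L P' P 𝒮L jL hjL 𝒮N jN hjN 𝒮M jM hjM 𝒯 jF h𝒯 U X₁ hX₁ ν s r ((jL.app X₁).hom σ)
      ((jF.app U).hom (tm (CohB1.tensorMod L P') P (q ⁻¹ᵁ U) τ' π)) := by
  intro W' hW' hle
  have h1 := uM_jF q L P' P 𝒮M jM hjM 𝒯 jF h𝒯 U hU W' hW' (hle.trans hX₁)
    (tm (CohB1.tensorMod L P') P (q ⁻¹ᵁ U) τ' π)
  refine h1.trans ?_
  have h2 : (𝒮L.presheaf.map (homOfLE hle).op).hom ((jL.app X₁).hom σ) =
      (jL.app W').hom (L.presheaf.map (homOfLE hle).op σ) :=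
    Groth.Agent.Lib.helper2.ModSec.map_app_apply jL (homOfLE hle) σ
  have h3 := Lam_jL q L P' P 𝒮L jL hjL 𝒮N jN hjN 𝒮M jM U X₁ hX₁ ν s W' hW' hle
    (L.presheaf.map (homOfLE hle).op σ)
  have h4 : (CohB1.tensorMod (CohB1.tensorMod L P') P).presheaf.map
      (homOfLE (hle.trans hX₁)).op (tm (CohB1.tensorMod L P') P (q ⁻¹ᵁ U) τ' π) =
      tm (CohB1.tensorMod L P') P W'
        ((CohB1.tensorMod L P').presheaf.map (homOfLE (hle.trans hX₁)).op τ')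
        (P.presheaf.map (homOfLE (hle.trans hX₁)).op π) :=
    tm_res (CohB1.tensorMod L P') P (homOfLE (hle.trans hX₁)) τ' π
  have h5 : (CohB1.tensorMod L P').presheaf.map (homOfLE (hle.trans hX₁)).op τ' =
      tm L P' W' (L.presheaf.map (homOfLE hle).op σ) (P'.presheaf.map (homOfLE hle).op ν) := by
    rw [← LocalGen.map_map (CohB1.tensorMod L P') hX₁ hle τ', hτ']
    exact tm_res L P' (homOfLE hle) σ ν
  have h6 : P.presheaf.map (homOfLE (hle.trans hX₁)).op π =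
      (X.presheaf.map (homOfLE hle).op).hom r •
        P.presheaf.map (homOfLE (hle.trans hX₁)).op s := by
    rw [← LocalGen.map_map P hX₁ hle π, hπ, ← LocalGen.map_map P hX₁ hle s]
    exact Scheme.Modules.map_smul P (homOfLE hle) r _
  rw [h4, h5, h6, tm_smul_right]
  refine (Scheme.Modules.Hom.app_smul jM _ _).trans ?_
  refine congrArg (fun z => (𝒮M.str.app (op W')).hom ((X.presheaf.map (homOfLE hle).op).hom r) * z)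
    ?_
  refine Eq.trans ?_ (congrArg _ h2.symm)
  exact h3.symm

include hU in
theorem van_base (τ' : Γ(CohB1.tensorMod L P', q ⁻¹ᵁ U)) :
    Van q L P' P 𝒮M jM hjM 𝒯 jF h𝒯 U s
      ((jF.app U).hom (tm (CohB1.tensorMod L P') P (q ⁻¹ᵁ U) τ' s)) := by
  intro V₁ hV₁ hle p b hb
  have h1 := uM_jF q L P' P 𝒮M jM hjM 𝒯 jF h𝒯 U hU V₁ hV₁ hle
    (tm (CohB1.tensorMod L P') P (q ⁻¹ᵁ U) τ' s)
  have h4 : (CohB1.tensorMod (CohB1.tensorMod L P') P).presheaf.map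
      (homOfLE hle).op (tm (CohB1.tensorMod L P') P (q ⁻¹ᵁ U) τ' s) =
      tm (CohB1.tensorMod L P') P V₁
        ((CohB1.tensorMod L P').presheaf.map (homOfLE hle).op τ')
        (P.presheaf.map (homOfLE hle).op s) :=
    tm_res (CohB1.tensorMod L P') P (homOfLE hle) τ' s
  refine ⟨(jM.app V₁).hom (tm (CohB1.tensorMod L P') P V₁
    ((CohB1.tensorMod L P').presheaf.map (homOfLE hle).op τ') p), ?_⟩
  refine h1.trans ?_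
  rw [h4, hb, tm_smul_right]
  exact Scheme.Modules.Hom.app_smul jM _ _

include hU in
theorem G.base (σ : Γ(L, X₁)) (τ' : Γ(CohB1.tensorMod L P', q ⁻¹ᵁ U))
    (hτ' : (CohB1.tensorMod L P').presheaf.map (homOfLE hX₁).op τ' = tm L P' X₁ σ ν) :
    G q L P' P 𝒮L jL hjL 𝒮N jN hjN 𝒮M jM hjM 𝒯 jF h𝒯 U hU X₁ hX₁ ν s 1 ((jL.app X₁).hom σ) := by
  refine ⟨(jF.app U).hom (tm (CohB1.tensorMod L P') P (q ⁻¹ᵁ U) τ' s), h𝒯.2 U hU _,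
    van_base q L P' P 𝒮M jM hjM 𝒯 jF h𝒯 U hU s τ', ?_, fun π r hπ => ?_⟩
  · exact rel_base q L P' P 𝒮L jL hjL 𝒮N jN hjN 𝒮M jM hjM 𝒯 jF h𝒯 U hU X₁ hX₁ ν s σ τ' hτ' s 1
      (one_smul _ _).symm
  · exact ⟨_, h𝒯.2 U hU _,
      rel_base q L P' P 𝒮L jL hjL 𝒮N jN hjN 𝒮M jM hjM 𝒯 jF h𝒯 U hU X₁ hX₁ ν s σ τ' hτ' π r hπ⟩

end Base

section XT

/-- The open of `X₁` where `A` generates the degree `n` piece of `𝒮L`. -/
def GenLoc (n : ℕ) (A : 𝒮L.presheaf.obj (op X₁)) : X.Opens :=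
  ⨆ V : {V : X.affineOpens // ∃ hle : (V.1 : X.Opens) ≤ X₁,
      ((𝒮L.deg V.1 V.2 n : AddSubgroup (𝒮L.presheaf.obj (op (V.1 : X.Opens)))) :
        Set (𝒮L.presheaf.obj (op (V.1 : X.Opens)))) ⊆
        (Ideal.span {(𝒮L.presheaf.map (homOfLE hle).op).hom A} :
          Set (𝒮L.presheaf.obj (op (V.1 : X.Opens))))}, (V.1.1 : X.Opens)

theorem ring_map_map (𝒮 : RelProj.QCGrAlg X) {A B C : X.Opens} (h₁ : B ≤ A) (h₂ : C ≤ B)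
    (x : 𝒮.presheaf.obj (op A)) :
    (𝒮.presheaf.map (homOfLE h₂).op).hom ((𝒮.presheaf.map (homOfLE h₁).op).hom x) =
      (𝒮.presheaf.map (homOfLE (h₂.trans h₁)).op).hom x := by
  rw [← CommRingCat.comp_apply, ← Functor.map_comp]
  rfl

theorem bijective_smul_of_isUnit {R M : Type*} [CommRing R] [AddCommGroup M] [Module R M]
    (p : M) (hp : Function.Bijective fun c : R => c • p) (b : R) (hb : IsUnit b) :
    Function.Bijective fun c : R => c • (b • p) := by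
  obtain ⟨b', rfl⟩ := hb
  have : (fun c : R => c • ((b' : R) • p)) = (fun c : R => c • p) ∘ (fun c : R => c * b') := by
    funext c
    simp [mul_smul]
  rw [this]
  refine hp.comp ?_
  exact (Units.mulRight b').bijective

variable (hL : PicF.IsInvertible L) (hN : PicF.IsInvertible (CohB1.tensorMod L P'))
  (hM : PicF.IsInvertible (CohB1.tensorMod (CohB1.tensorMod L P') P))
  (hP : PicF.IsInvertible P)
  (hν : ∀ (W' : X.Opens) (_ : IsAffineOpen W') (hle : W' ≤ X₁),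
    Function.Bijective fun c : Γ(X, W') => c • P'.presheaf.map (homOfLE hle).op ν)
  (hs : ∀ (W' : X.Opens) (_ : IsAffineOpen W') (hle : W' ≤ X₁),
    Function.Bijective fun c : Γ(X, W') => c • P.presheaf.map (homOfLE (hle.trans hX₁)).op s)
  (hs' : ∀ (V₁ : X.Opens) (_ : IsAffineOpen V₁) (hle : V₁ ≤ q ⁻¹ᵁ U),
    (Function.Bijective fun c : Γ(X, V₁) => c • P.presheaf.map (homOfLE hle).op s) → V₁ ≤ X₁)

include hL hN hM hP hν hs hs' in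
theorem XT_eq (n : ℕ) (A : 𝒮L.presheaf.obj (op X₁))
    (hA : ∀ (W' : X.Opens) (hW' : IsAffineOpen W') (hle : W' ≤ X₁),
      (𝒮L.presheaf.map (homOfLE hle).op).hom A ∈ 𝒮L.deg W' hW' n)
    (c : 𝒯.presheaf.obj (op U)) (hv : Van q L P' P 𝒮M jM hjM 𝒯 jF h𝒯 U s c)
    (hr : Rel q L P' P 𝒮L jL hjL 𝒮N jN hjN 𝒮M jM hjM 𝒯 jF h𝒯 U X₁ hX₁ ν s 1 A c) :
    RLpsiU.XT 𝒮M (uM q L P' P 𝒮M jM hjM 𝒯 jF h𝒯) U n c = GenLoc 𝒮L X₁ n A := by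
  have hrel : ∀ (W' : X.Opens) (hW' : IsAffineOpen W') (hle : W' ≤ X₁),
      ((uM q L P' P 𝒮M jM hjM 𝒯 jF h𝒯).appLE U W' (hle.trans hX₁)).hom c =
        Lam q L P' P 𝒮L jL hjL 𝒮N jN hjN 𝒮M jM U X₁ hX₁ ν s W' hW' hle
          ((𝒮L.presheaf.map (homOfLE hle).op).hom A) := by
    intro W' hW' hle
    have := hr W' hW' hle
    rw [map_one, map_one, one_mul] at this
    exact this
  apply le_antisymm
  · intro y hy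
    obtain ⟨⟨⟨V₁, hV₁⟩, hle₁, hspan₁⟩, hyV₁⟩ := Opens.mem_iSup.mp hy
    obtain ⟨U₀, hyU₀, hU₀⟩ := exists_open_genData hjL hL y
    obtain ⟨U₁, hyU₁, hU₁⟩ := exists_open_genData hjN hN y
    obtain ⟨U₂, hyU₂, hU₂⟩ := exists_open_genData hjM hM y
    obtain ⟨U₃, hyU₃, hU₃⟩ := exists_open_generator P hP y
    obtain ⟨c₀, hcle, hyc⟩ := hV₁.exists_basicOpen_le (V := (U₀ ⊓ U₁) ⊓ (U₂ ⊓ U₃))
      ⟨y, ⟨⟨hyU₀, hyU₁⟩, ⟨hyU₂, hyU₃⟩⟩⟩ hyV₁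
    have hV₃ : IsAffineOpen (X.basicOpen c₀) := hV₁.basicOpen c₀
    have hV₃V₁ : X.basicOpen c₀ ≤ V₁ := X.basicOpen_le c₀
    obtain ⟨DL⟩ := hU₀ (X.basicOpen c₀) hV₃ (hcle.trans (inf_le_left.trans inf_le_left))
    obtain ⟨DN⟩ := hU₁ (X.basicOpen c₀) hV₃ (hcle.trans (inf_le_left.trans inf_le_right))
    obtain ⟨DM⟩ := hU₂ (X.basicOpen c₀) hV₃ (hcle.trans (inf_le_right.trans inf_le_left))
    obtain ⟨p, hp⟩ := hU₃ (X.basicOpen c₀) hV₃ (hcle.trans (inf_le_right.trans inf_le_right))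
    have hle₃ : X.basicOpen c₀ ≤ q ⁻¹ᵁ U := hV₃V₁.trans hle₁
    have hspan₃ := deg_subset_span_basicOpen 𝒮M V₁ hV₁ c₀ n
      (((uM q L P' P 𝒮M jM hjM 𝒯 jF h𝒯).appLE U V₁ hle₁).hom c) hspan₁
    have hres : (𝒮M.presheaf.map (homOfLE (X.basicOpen_le c₀)).op).hom
        (((uM q L P' P 𝒮M jM hjM 𝒯 jF h𝒯).appLE U V₁ hle₁).hom c) =
        ((uM q L P' P 𝒮M jM hjM 𝒯 jF h𝒯).appLE U (X.basicOpen c₀) hle₃).hom c :=
      congrArg (fun k => k.hom c)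
        ((uM q L P' P 𝒮M jM hjM 𝒯 jF h𝒯).toQHom.appLE_map hle₁ hV₃V₁)
    rw [hres] at hspan₃
    obtain ⟨b, hb⟩ := hp.2 (P.presheaf.map (homOfLE hle₃).op s)
    have hb' : P.presheaf.map (homOfLE hle₃).op s = b • p := hb.symm
    obtain ⟨w, hw⟩ := hv (X.basicOpen c₀) hV₃ hle₃ p b hb'
    rw [hw] at hspan₃
    have hbu : IsUnit b := isUnit_of_span_mul (𝒮M.str.app (op (X.basicOpen c₀))).hom DM.z
      DM.hpoly b w n (hspan₃ (z_pow_mem DM n))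
    have hbij : Function.Bijective fun c : Γ(X, X.basicOpen c₀) =>
        c • P.presheaf.map (homOfLE hle₃).op s := by
      rw [hb']
      exact bijective_smul_of_isUnit p hp b hbu
    have hV₃X₁ : X.basicOpen c₀ ≤ X₁ := hs' (X.basicOpen c₀) hV₃ hle₃ hbij
    rw [← hw, hrel (X.basicOpen c₀) hV₃ hV₃X₁] at hspan₃
    have hσ1 : lam1 L P' 𝒮L jL hjL 𝒮N jN X₁ ν (X.basicOpen c₀) hV₃ hV₃X₁
        ((𝒮L.presheaf.map (homOfLE hV₃X₁).op).hom A) ∈ 𝒮N.deg (X.basicOpen c₀) hV₃ n :=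
      tw_mem L 𝒮L jL hjL P' 𝒮N jN hjN.2 (X.basicOpen c₀) hV₃ _ n _ (hA _ hV₃ hV₃X₁)
    have h1 := span_of_span_tw (CohB1.tensorMod L P') P 𝒮N jN hjN 𝒮M jM hjM DN p hp
      (P.presheaf.map (homOfLE (hV₃X₁.trans hX₁)).op s) n _ hσ1 hspan₃
    have h2 := span_of_span_tw L P' 𝒮L jL hjL 𝒮N jN hjN DL
      (P'.presheaf.map (homOfLE hV₃X₁).op ν) (hν _ hV₃ hV₃X₁)
      (P'.presheaf.map (homOfLE hV₃X₁).op ν) n _ (hA _ hV₃ hV₃X₁) h1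
    exact Opens.mem_iSup.mpr ⟨⟨⟨X.basicOpen c₀, hV₃⟩, hV₃X₁, h2⟩, hyc⟩
  · intro y hy
    obtain ⟨⟨⟨W₁, hW₁⟩, hle₁, hspan₁⟩, hyW₁⟩ := Opens.mem_iSup.mp hy
    obtain ⟨U₀, hyU₀, hU₀⟩ := exists_open_genData hjL hL y
    obtain ⟨U₁, hyU₁, hU₁⟩ := exists_open_genData hjN hN y
    obtain ⟨c₀, hcle, hyc⟩ := hW₁.exists_basicOpen_le (V := U₀ ⊓ U₁) ⟨y, ⟨hyU₀, hyU₁⟩⟩ hyW₁
    have hV₃ : IsAffineOpen (X.basicOpen c₀) := hW₁.basicOpen c₀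
    have hV₃W₁ : X.basicOpen c₀ ≤ W₁ := X.basicOpen_le c₀
    obtain ⟨DL⟩ := hU₀ (X.basicOpen c₀) hV₃ (hcle.trans inf_le_left)
    obtain ⟨DN⟩ := hU₁ (X.basicOpen c₀) hV₃ (hcle.trans inf_le_right)
    have hV₃X₁ : X.basicOpen c₀ ≤ X₁ := hV₃W₁.trans hle₁
    have hspan₃ := deg_subset_span_basicOpen 𝒮L W₁ hW₁ c₀ n
      ((𝒮L.presheaf.map (homOfLE hle₁).op).hom A) hspan₁
    rw [ring_map_map 𝒮L hle₁ (X.basicOpen_le c₀) A] at hspan₃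
    have h1 := span_tw_of_span L P' 𝒮L jL hjL 𝒮N jN hjN DL
      (P'.presheaf.map (homOfLE hV₃X₁).op ν) (hν _ hV₃ hV₃X₁) n _ (hA _ hV₃ hV₃X₁) hspan₃
    have hσ1 : lam1 L P' 𝒮L jL hjL 𝒮N jN X₁ ν (X.basicOpen c₀) hV₃ hV₃X₁
        ((𝒮L.presheaf.map (homOfLE hV₃X₁).op).hom A) ∈ 𝒮N.deg (X.basicOpen c₀) hV₃ n :=
      tw_mem L 𝒮L jL hjL P' 𝒮N jN hjN.2 (X.basicOpen c₀) hV₃ _ n _ (hA _ hV₃ hV₃X₁)
    have h2 := span_tw_of_span (CohB1.tensorMod L P') P 𝒮N jN hjN 𝒮M jM hjM DN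
      (P.presheaf.map (homOfLE (hV₃X₁.trans hX₁)).op s) (hs _ hV₃ hV₃X₁) n _ hσ1 h1
    refine Opens.mem_iSup.mpr ⟨⟨⟨X.basicOpen c₀, hV₃⟩, hV₃X₁.trans hX₁, ?_⟩, hyc⟩
    rw [hrel (X.basicOpen c₀) hV₃ hV₃X₁]
    exact h2

end XT

section H3

theorem H3_of_rel (O : X.Opens) (hO : IsAffineOpen O) (hle : O ≤ X₁) (t : Γ(X, O))
    (n m : ℕ) (hm : 0 < m) (A A' : 𝒮L.presheaf.obj (op X₁))
    (c c' : 𝒯.presheaf.obj (op U)) (hc' : c' ∈ 𝒯.deg U hU (m * n))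
    (hr : Rel q L P' P 𝒮L jL hjL 𝒮N jN hjN 𝒮M jM hjM 𝒯 jF h𝒯 U X₁ hX₁ ν s 1 A c)
    (hr' : Rel q L P' P 𝒮L jL hjL 𝒮N jN hjN 𝒮M jM hjM 𝒯 jF h𝒯 U X₁ hX₁ ν s 1 A' c')
    (h : (𝒮L.str.app (op O)).hom t * ((𝒮L.presheaf.map (homOfLE hle).op).hom A) ^ m =
      (𝒮L.presheaf.map (homOfLE hle).op).hom A') :
    RLpsiU.H3 (uM q L P' P 𝒮M jM hjM 𝒯 jF h𝒯) U hU n c O (hle.trans hX₁) t := by
  refine ⟨m, hm, c', hc', ?_⟩
  have e1 := hr O hO hle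
  have e2 := hr' O hO hle
  rw [map_one, map_one, one_mul] at e1 e2
  rw [e1, e2, ← h, map_mul, map_pow, Lam_str]

theorem H3_of_ratio (O : X.Opens) (hO : IsAffineOpen O) (hle : O ≤ X₁) (r : Γ(X, X₁))
    (n : ℕ) (A : 𝒮L.presheaf.obj (op X₁))
    (c c'' : 𝒯.presheaf.obj (op U)) (hc'' : c'' ∈ 𝒯.deg U hU n)
    (hr : Rel q L P' P 𝒮L jL hjL 𝒮N jN hjN 𝒮M jM hjM 𝒯 jF h𝒯 U X₁ hX₁ ν s 1 A c)
    (hr'' : Rel q L P' P 𝒮L jL hjL 𝒮N jN hjN 𝒮M jM hjM 𝒯 jF h𝒯 U X₁ hX₁ ν s r A c'') :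
    RLpsiU.H3 (uM q L P' P 𝒮M jM hjM 𝒯 jF h𝒯) U hU n c O (hle.trans hX₁)
      ((X.presheaf.map (homOfLE hle).op).hom r) := by
  refine ⟨1, one_pos, c'', by rw [one_mul]; exact hc'', ?_⟩
  have e1 := hr O hO hle
  have e2 := hr'' O hO hle
  rw [map_one, map_one, one_mul] at e1
  rw [e1, e2, pow_one]

end H3

end Groth.Agent.Lib.helper28.CompSeg
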