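import Groth.Agent.Lib.Helper28.CompSegCore
import Groth.Agent.Lib.Helper12.SecExtend2
import Groth.Agent.Lib.Helper7.QCohPushQC

/-!
# Composite Segre: sections `s : O ⟶ P`, powers `s^{⊗ e}` and extension (helper28)

* scoped instances making quasi-coherence automatic from `Fact (PicF.IsInvertible _)`;
* `ext_base`: for `σ ∈ Γ(X_s, L)` and all large `e`, `σ ⊗ s^{⊗ e}` extends to `X`;
* `bijective_smul_val`, `bijective_smul_pow`, `le_genLocus_of_bijective_val`: the hypotheses
  `hs`, `hν`, `hs'` of `CompSeg.XT_eq`.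
-/

set_option autoImplicit false
set_option linter.style.haveILetI false
set_option linter.unusedSectionVars false
universe u
open CategoryTheory AlgebraicGeometry TopologicalSpace Opposite TensorProduct

namespace Groth.Agent.Lib.helper28.CompSeg

open Groth.Agent.Lib.helper28.SymLinePow Groth.Agent.Lib.helper11.TensorASec
  Groth.Agent.Lib.helper28 Groth.Agent.Lib.helper11.IsoLocus Groth.Agent.Lib.helper11.GenLocus

section Inst

variable {X Z : Scheme.{u}}

scoped instance (priority := low) isQC_of_fact (L : X.Modules) [h : Fact (PicF.IsInvertible L)] :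
    L.IsQuasicoherent :=
  Groth.Agent.Lib.helper12.AmpleBasis.isQuasicoherent_of_isInvertible h.out

scoped instance fact_tensorMod (L L' : X.Modules) [h : Fact (PicF.IsInvertible L)]
    [h' : Fact (PicF.IsInvertible L')] : Fact (PicF.IsInvertible (CohB1.tensorMod L L')) :=
  ⟨Groth.Agent.Lib.helper12.TensorInv.isInvertible_tensorMod h.out h'.out⟩

scoped instance fact_tensorPow (L : X.Modules) [h : Fact (PicF.IsInvertible L)] (n : ℕ) :
    Fact (PicF.IsInvertible (CohB1.tensorPow L n)) :=
  ⟨Groth.Agent.Lib.helper12.TensorInv.isInvertible_tensorPow h.out n⟩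

scoped instance isQC_push (q : X ⟶ Z) [QuasiCompact q] [QuasiSeparated q] (M : X.Modules)
    [M.IsQuasicoherent] : ((Scheme.Modules.pushforward q).obj M).IsQuasicoherent :=
  Groth.Agent.Lib.helper7.QCohPushQC.isQuasicoherent_pushforward q M

end Inst

section Sec

variable {X : Scheme.{u}} (L : X.Modules) [L.IsQuasicoherent] (P : X.Modules)
  [hP : Fact (PicF.IsInvertible P)] (s : Coh.structureModule X ⟶ P)

/-- For all large `e`, the section `σ ⊗ s^{⊗ e}` over `X_s` extends to `X`. -/
theorem ext_base [CompactSpace X] [QuasiSeparatedSpace X] (X₁ : X.Opens)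
    (h : X₁ = CohB1.genLocus P s) (σ : Γ(L, X₁)) :
    ∃ e₀ : ℕ, ∀ e, e₀ ≤ e → ∃ τ' : Γ(CohB1.tensorMod L (CohB1.tensorPow P e), ⊤),
      (CohB1.tensorMod L (CohB1.tensorPow P e)).presheaf.map (homOfLE (le_top : X₁ ≤ ⊤)).op τ' =
        tm L (CohB1.tensorPow P e) X₁ σ (SecTwist.pow s e X₁) := by
  subst h
  obtain ⟨n₀, -, hn₀⟩ := Groth.Agent.Lib.helper12.SecExtend2.extend_top_ge L hP.out s σ
  refine ⟨n₀, fun e he => ?_⟩
  obtain ⟨t', ht'⟩ := hn₀ e he
  exact ⟨t', ht'⟩

/-- `s` generates `P` freely over every open contained in `X_s`. -/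
theorem bijective_smul_val (W' : X.Opens) (hle : W' ≤ CohB1.genLocus P s) :
    Function.Bijective fun c : Γ(X, W') => c • SecTwist.val s W' := by
  have hiso : IsIso (s.app W') := isIso_app_of_le_isoLocus s hle
  have hbij : Function.Bijective (s.app W').hom :=
    (ConcreteCategory.isIso_iff_bijective _).mp hiso
  have : (fun c : Γ(X, W') => c • SecTwist.val s W') =
      fun c => (s.app W').hom (c : Γ(Coh.structureModule X, W')) := by
    funext c
    exact (app_apply s W' c).symm
  rw [this]
  exact hbij

/-- `s^{⊗ e}` generates `P^{⊗ e}` freely over affine opens over which `s` generates `P`. -/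
theorem bijective_smul_pow (W' : X.Opens) (hW' : IsAffineOpen W')
    (hs : Function.Bijective fun c : Γ(X, W') => c • SecTwist.val s W') (e : ℕ) :
    Function.Bijective fun c : Γ(X, W') =>
      (c • SecTwist.pow s e W' : Γ(CohB1.tensorPow P e, W')) := by
  induction e with
  | zero =>
    have : (fun c : Γ(X, W') => (c • SecTwist.pow s 0 W' : Γ(CohB1.tensorPow P 0, W'))) =
        fun c => c := by
      funext c
      exact mul_one c
    rw [this]
    exact Function.bijective_id
  | succ n ih =>
    have hc := bijective_cW (CohB1.tensorPow P n) P W' hW'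
    have ht := bijective_smul_tmul (R := Γ(X, W'))
      (SecTwist.pow s n W' : Γ(CohB1.tensorPow P n, W')) (SecTwist.val s W') ih hs
    have : (fun c : Γ(X, W') =>
        (c • SecTwist.pow s (n + 1) W' : Γ(CohB1.tensorPow P (n + 1), W'))) =
        (cW (CohB1.tensorPow P n) P W') ∘ (fun c : Γ(X, W') =>
          c • ((SecTwist.pow s n W' : Γ(CohB1.tensorPow P n, W')) ⊗ₜ[Γ(X, W')]
            SecTwist.val s W')) := by
      funext c
      exact (map_smul (cW (CohB1.tensorPow P n) P W') c
        ((SecTwist.pow s n W' : Γ(CohB1.tensorPow P n, W')) ⊗ₜ[Γ(X, W')]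
          SecTwist.val s W')).symm
    rw [this]
    exact hc.comp ht

/-- An affine open over which `s` generates `P` freely lies in `X_s`. -/
theorem le_genLocus_of_bijective_val (V₁ : X.Opens) (hV₁ : IsAffineOpen V₁)
    (h : Function.Bijective fun c : Γ(X, V₁) =>
      c • P.presheaf.map (homOfLE (le_top : V₁ ≤ ⊤)).op (SecTwist.val s ⊤)) :
    V₁ ≤ CohB1.genLocus P s :=
  LocalGen.le_genLocus_of_bijective P s V₁ hV₁ h

end Sec

end Groth.Agent.Lib.helper28.CompSeg
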