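import Groth.Agent.Lib.Helper28.CompSegK3

/-!
# Composite Segre, base side (4): the data attached to a very ample `K` over an affine base
(helper28)

`exists_kdata`: `g : Y ⟶ Z` quasi-compact with `⊤ ⊆ Z` affine, `K` very ample relative to `g`;
there is `d > 0` such that the affine opens `Y_κ`, `κ` a global section of `K^{⊗ d}`, with `O(Y_κ)`
generated over `O(Z)` by ratios `π / κ` (`π` global sections of `K^{⊗ d}`), cover `Y`.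
-/

set_option autoImplicit false
set_option linter.style.haveILetI false
set_option linter.unusedSectionVars false
universe u
open CategoryTheory AlgebraicGeometry TopologicalSpace Opposite TensorProduct

namespace Groth.Agent.Lib.helper28.CompSeg

open Groth.Agent.Lib.helper28.SymLinePow Groth.Agent.Lib.helper28.SymLineGenLocus
  Groth.Agent.Lib.helper28 Groth.Agent.Lib.helper12.AmpleBasis

variable {Y Z : Scheme.{u}} (g : Y ⟶ Z) [QuasiCompact g] (hU : IsAffineOpen (⊤ : Z.Opens))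
  (K : Y.Modules) [Fact (PicF.IsInvertible K)]

include hU in
theorem exists_kdata (hKva : RelProj.IsRelVeryAmple g K) :
    ∃ d : ℕ, 0 < d ∧ ∀ y : Y, ∃ κ : Coh.structureModule Y ⟶ CohB1.tensorPow K d,
      y ∈ CohB1.genLocus _ κ ∧ IsAffineOpen (CohB1.genLocus _ κ) ∧
      ∃ (hle : CohB1.genLocus _ κ ≤ g ⁻¹ᵁ ⊤) (R : Set Γ(Y, CohB1.genLocus _ κ)),
        Subring.closure (Set.range (g.appLE ⊤ _ hle).hom ∪ R) = ⊤ ∧
        ∀ ρ ∈ R, ∃ π : Coh.structureModule Y ⟶ CohB1.tensorPow K d,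
          SecTwist.val π (CohB1.genLocus _ κ) = ρ • SecTwist.val κ (CohB1.genLocus _ κ) := by
  classical
  have hK : PicF.IsInvertible K := Fact.out
  obtain ⟨𝒮K, jK, hjK⟩ := SymGradedExists.exists_isGrSymAlg K
  obtain ⟨D, hgood⟩ := VAmpleData.exists_good 𝒮K jK hjK hK hKva
  obtain ⟨G, hG, 𝒯G, jG, hjG, βK⟩ := D
  haveI : G.IsQuasicoherent := hG
  have key : ∀ y : Y, ∃ (n : ℕ) (_ : 0 < n) (a : 𝒯G.presheaf.obj (op ⊤))
      (_ : a ∈ 𝒯G.deg ⊤ hU n),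
      y ∈ RLpsiU.XT 𝒮K (uL K 𝒮K jK hjK g G 𝒯G jG hjG βK) ⊤ n a ∧
      IsAffineOpen (RLpsiU.XT 𝒮K (uL K 𝒮K jK hjK g G 𝒯G jG hjG βK) ⊤ n a) ∧
      ∀ t : Γ(Y, RLpsiU.XT 𝒮K (uL K 𝒮K jK hjK g G 𝒯G jG hjG βK) ⊤ n a),
        RLpsiU.H3 (uL K 𝒮K jK hjK g G 𝒯G jG hjG βK) ⊤ hU n a _
          (RLpsiU.XT_le 𝒮K (uL K 𝒮K jK hjK g G 𝒯G jG hjG βK) ⊤ n a) t := by
    intro y
    obtain ⟨n, hn, a, ha, hy, -, haff, hH3⟩ := hgood y ⊤ hU trivial ⊤ trivial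
    exact ⟨n, hn, a, ha, hy, haff, hH3⟩
  choose n hn a ha hyXT hXTaff hH3 using key
  have hYc : IsCompact (Set.univ : Set Y) :=
    QuasiCompact.isCompact_preimage (f := g) (Set.univ) isOpen_univ hU.isCompact
  obtain ⟨t, ht⟩ := hYc.elim_finite_subcover
    (fun y : Y => ((RLpsiU.XT 𝒮K (uL K 𝒮K jK hjK g G 𝒯G jG hjG βK) ⊤ (n y) (a y) : Y.Opens) :
      Set Y)) (fun y => (RLpsiU.XT 𝒮K _ ⊤ (n y) (a y)).2)
    (fun y _ => Set.mem_iUnion.mpr ⟨y, hyXT y⟩)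
  obtain ⟨d, hdpos, hdiv⟩ : ∃ d : ℕ, 0 < d ∧ ∀ y ∈ t, ∃ m : ℕ, 0 < m ∧ m * n y = d := by
    refine ⟨∏ y ∈ t, n y, Finset.prod_pos (fun y _ => hn y), fun y hy => ?_⟩
    refine ⟨∏ y' ∈ t.erase y, n y', Finset.prod_pos (fun y' _ => hn y'), ?_⟩
    rw [mul_comm]
    exact Finset.mul_prod_erase t n hy
  refine ⟨d, hdpos, fun y' => ?_⟩
  obtain ⟨y, hyt, hy'⟩ := Set.mem_iUnion₂.mp (ht (Set.mem_univ y'))
  obtain ⟨m, hm, rfl⟩ := hdiv y hyt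
  obtain ⟨k, rfl⟩ := Nat.exists_eq_succ_of_ne_zero hm.ne'
  have hapow : a y ^ (k + 1) ∈ 𝒯G.deg ⊤ hU ((k + 1) * n y) := by
    have := SetLike.pow_mem_graded (k + 1) (ha y)
    rwa [smul_eq_mul] at this
  obtain ⟨ta, hta⟩ := exists_sec_of_mem_deg (uL K 𝒮K jK hjK g G 𝒯G jG hjG βK) hjK hK hU
    ((k + 1) * n y) (a y ^ (k + 1)) hapow
  have hXTeq := XT_eq_genLocus (uL K 𝒮K jK hjK g G 𝒯G jG hjG βK) hjK hK ((k + 1) * n y)
    (a y ^ (k + 1)) ta hta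
  have hXTpow := XT_pow (uL K 𝒮K jK hjK g G 𝒯G jG hjG βK) hjK hK ⊤ hU (n y) (k + 1) hm (a y)
    (ha y)
  have hOeq : RLpsiU.XT 𝒮K (uL K 𝒮K jK hjK g G 𝒯G jG hjG βK) ⊤ (n y) (a y) =
      CohB1.genLocus _ (homOfSec (CohB1.tensorPow K ((k + 1) * n y)) ta) :=
    hXTpow.symm.trans hXTeq
  have hle : CohB1.genLocus _ (homOfSec (CohB1.tensorPow K ((k + 1) * n y)) ta) ≤ g ⁻¹ᵁ ⊤ :=
    fun _ _ => trivial
  have hH3' : ∀ t' : Γ(Y, CohB1.genLocus _ (homOfSec (CohB1.tensorPow K ((k + 1) * n y)) ta)),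
      RLpsiU.H3 (uL K 𝒮K jK hjK g G 𝒯G jG hjG βK) ⊤ hU ((k + 1) * n y) (a y ^ (k + 1)) _ hle
        t' :=
    RLpsiU.H3.congr_open
      (hle := RLpsiU.XT_le 𝒮K (uL K 𝒮K jK hjK g G 𝒯G jG hjG βK) ⊤ (n y) (a y)) hOeq hle
      (fun t' => H3_pow (uL K 𝒮K jK hjK g G 𝒯G jG hjG βK) ⊤ hU (n y) k (a y) (ha y) _ _ t'
        (hH3 y t'))
  refine ⟨homOfSec (CohB1.tensorPow K ((k + 1) * n y)) ta, ?_, ?_, hle, _,
    closure_ratio_eq_top g K 𝒮K jK hjK G 𝒯G jG hjG βK hU ((k + 1) * n y) (a y ^ (k + 1)) hapow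
      ta hta hle hH3', fun ρ hρ => hρ⟩
  · rw [← hOeq]
    exact hy'
  · rw [← hOeq]
    exact hXTaff y

end Groth.Agent.Lib.helper28.CompSeg
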