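import Groth.Agent.Lib.Helper28.CompSegExt
import Groth.Agent.Lib.Helper11.InvPullback

/-!
# Composite Segre: pullback of global sections (helper28)

For `f : X ⟶ Y` and `t : O_Y ⟶ N`: `pullHom f N t : O_X ⟶ f^* N`.
* `genLocus_pullHom`: `X_{f^* t} = f⁻¹ (Y_t)` for `N` invertible.
* `val_pullHom`: the section of `f^* t` over `f⁻¹ V` is the image of the section of `t` over `V`
  under the unit `N ⟶ f_* f^* N`.
* `val_pullHom_smul`: ratios pull back to ratios.
-/

set_option autoImplicit false
set_option linter.style.haveILetI false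
set_option linter.unusedSectionVars false
universe u
open CategoryTheory AlgebraicGeometry TopologicalSpace Opposite

namespace Groth.Agent.Lib.helper28.CompSeg

open Scheme.Modules
open Groth.Agent.Lib.helper11.IsoLocus Groth.Agent.Lib.helper11.InvMod
  Groth.Agent.Lib.helper11.GenLocus Groth.Agent.Lib.helper11.InvPullback
  Groth.Agent.Lib.helper28

variable {X Y : Scheme.{u}} (f : X ⟶ Y) (N : Y.Modules)

/-- The pullback of a global section. -/
noncomputable def pullHom (t : Coh.structureModule Y ⟶ N) :
    Coh.structureModule X ⟶ (Scheme.Modules.pullback f).obj N :=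
  (pullbackUnitIso f).inv ≫ (Scheme.Modules.pullback f).map t

theorem genLocus_pullHom (hN : PicF.IsInvertible N) (t : Coh.structureModule Y ⟶ N) :
    CohB1.genLocus _ (pullHom f N t) = f ⁻¹ᵁ CohB1.genLocus N t :=
  genLocus_pullback f N hN t (pullbackUnitIso f).symm

/-- The unit `N ⟶ f_* f^* N` on sections. -/
noncomputable def unitSec (V : Y.Opens) (σ : Γ(N, V)) :
    Γ((Scheme.Modules.pullback f).obj N, f ⁻¹ᵁ V) :=
  (((Scheme.Modules.pullbackPushforwardAdjunction f).unit.app N).app V).hom σ

theorem unit_comm (t : Coh.structureModule Y ⟶ N) :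
    t ≫ (Scheme.Modules.pullbackPushforwardAdjunction f).unit.app N =
      unitToPush f ≫ (Scheme.Modules.pushforward f).map (pullHom f N t) := by
  let adj := Scheme.Modules.pullbackPushforwardAdjunction f
  apply (adj.homEquiv _ _).symm.injective
  have h1 : (adj.homEquiv _ _).symm (t ≫ adj.unit.app N) =
      (Scheme.Modules.pullback f).map t ≫ (adj.homEquiv _ _).symm (adj.unit.app N) :=
    adj.homEquiv_naturality_left_symm t (adj.unit.app N)
  have h2 : (adj.homEquiv N ((Scheme.Modules.pullback f).obj N)).symm (adj.unit.app N) =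
      𝟙 ((Scheme.Modules.pullback f).obj N) :=
    (Equiv.symm_apply_eq _).mpr (adj.homEquiv_id N).symm
  have h3 : (adj.homEquiv _ _).symm
      (unitToPush f ≫ (Scheme.Modules.pushforward f).map (pullHom f N t)) =
      (adj.homEquiv _ _).symm (unitToPush f) ≫ pullHom f N t :=
    adj.homEquiv_naturality_right_symm (unitToPush f) (pullHom f N t)
  have h4 : (adj.homEquiv _ _).symm (unitToPush f) = (pullbackUnitIso f).hom := rfl
  refine h1.trans ?_
  rw [h2, Category.comp_id]
  refine Eq.trans ?_ h3.symm
  rw [h4, pullHom, Iso.hom_inv_id_assoc]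

theorem val_pullHom (t : Coh.structureModule Y ⟶ N) (V : Y.Opens) :
    SecTwist.val (pullHom f N t) (f ⁻¹ᵁ V) = unitSec f N V (SecTwist.val t V) := by
  have h := congrArg (fun φ : Coh.structureModule Y ⟶
      (Scheme.Modules.pushforward f).obj ((Scheme.Modules.pullback f).obj N) =>
      (Hom.app φ V).hom ((1 : Γ(Y, V)) : Γ(Coh.structureModule Y, V)))
    (unit_comm f N t)
  have h1 : (Hom.app (t ≫ (Scheme.Modules.pullbackPushforwardAdjunction f).unit.app N) V).hom
      ((1 : Γ(Y, V)) : Γ(Coh.structureModule Y, V)) = unitSec f N V (SecTwist.val t V) := rfl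
  have h2 : (Hom.app (unitToPush f ≫ (Scheme.Modules.pushforward f).map (pullHom f N t)) V).hom
      ((1 : Γ(Y, V)) : Γ(Coh.structureModule Y, V)) =
      ((pullHom f N t).app (f ⁻¹ᵁ V)).hom (f.app V (1 : Γ(Y, V))) := rfl
  rw [map_one] at h2
  exact (h2.symm.trans (h.symm.trans h1))

theorem unitSec_smul (V : Y.Opens) (r : Γ(Y, V)) (σ : Γ(N, V)) :
    unitSec f N V (r • σ) = (f.app V).hom r • unitSec f N V σ := by
  have h := Scheme.Modules.Hom.app_smul
    ((Scheme.Modules.pullbackPushforwardAdjunction f).unit.app N) r σ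
  exact h.trans (LocalGen.smul_pushforward f _ V r _)

/-- Ratios pull back to ratios. -/
theorem val_pullHom_smul (t π : Coh.structureModule Y ⟶ N) (V : Y.Opens) (r : Γ(Y, V))
    (h : SecTwist.val π V = r • SecTwist.val t V) :
    SecTwist.val (pullHom f N π) (f ⁻¹ᵁ V) =
      (f.app V).hom r • SecTwist.val (pullHom f N t) (f ⁻¹ᵁ V) := by
  refine (val_pullHom f N π V).trans ?_
  refine (congrArg (unitSec f N V) h).trans ?_
  refine (unitSec_smul f N V r _).trans ?_
  exact congrArg (fun z => (f.app V).hom r • z) (val_pullHom f N t V).symm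

end Groth.Agent.Lib.helper28.CompSeg
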