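import Groth.Prelude

/-!
# Very ampleness (in the `P(E)` sense) is invariant under isomorphism (helper28)
-/

set_option autoImplicit false
universe u
open CategoryTheory CategoryTheory.Limits AlgebraicGeometry TopologicalSpace Opposite

namespace Groth.Agent.Lib.helper28.VAmpleIso

theorem isRelVeryAmple_of_iso {X Y : Scheme.{u}} {q : X ⟶ Y} {L L' : X.Modules} (e : L ≅ L')
    (h : RelProj.IsRelVeryAmple q L) : RelProj.IsRelVeryAmple q L' := by
  obtain ⟨E, hE, 𝒮, j, hj, P, p, chart, hP, O1, lam, hO1, i, himm, hip, ⟨τ⟩⟩ := h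
  exact ⟨E, hE, 𝒮, j, hj, P, p, chart, hP, O1, lam, hO1, i, himm, hip, ⟨e.symm ≪≫ τ⟩⟩

theorem isRelVeryAmple_iff_of_iso {X Y : Scheme.{u}} {q : X ⟶ Y} {L L' : X.Modules} (e : L ≅ L') :
    RelProj.IsRelVeryAmple q L ↔ RelProj.IsRelVeryAmple q L' :=
  ⟨isRelVeryAmple_of_iso e, isRelVeryAmple_of_iso e.symm⟩

end Groth.Agent.Lib.helper28.VAmpleIso
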