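import Groth.Agent.Lib.Helper28.CompSegMain
import Groth.Agent.Lib.Helper28.CompSegK4
import Groth.Agent.Lib.Helper28.CompSegPull
import Groth.Agent.Lib.Helper28.VAmpleIso
import Groth.Agent.Lib.Helper12.RelVAmple
import Groth.Agent.Lib.Helper12.AmpleSep
import Groth.Agent.Lib.Helper12.PullAmple
import Groth.Agent.Lib.Helper12.TensorPowAdd

/-!
# Composite Segre over an affine base: some `L ⊗ f^*(K^{⊗ k})` is very ample (helper28)

`exists_veryAmple_pow`: `Z` affine, `f : X ⟶ Y` quasi-compact locally of finite type, `g : Y ⟶ Z`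
quasi-compact, `L` very ample relative to `f`, `K` very ample relative to `g`; then
`L ⊗ f^*(K^{⊗ k})` is very ample relative to `f ≫ g` for some `k > 0`.
-/

set_option autoImplicit false
set_option linter.style.haveILetI false
set_option linter.unusedSectionVars false
universe u
open CategoryTheory AlgebraicGeometry TopologicalSpace Opposite

namespace Groth.Agent.Lib.helper28.CompSeg

open Groth.Agent.Lib.helper28 Groth.Agent.Lib.helper12.PullAmple
  Groth.Agent.Lib.helper12.TensorPowAdd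

variable {X Y Z : Scheme.{u}} [IsAffine Z] (f : X ⟶ Y) [QuasiCompact f] [LocallyOfFiniteType f]
  (g : Y ⟶ Z) [QuasiCompact g]

/-- `(L ⊗ P^e) ⊗ P ≅ L ⊗ f^*(K^{d (e+1)})` for `P = f^*(K^d)`. -/
noncomputable def levelIso (L : X.Modules) (K : Y.Modules) (hK : PicF.IsInvertible K)
    (d e : ℕ) :
    CohB1.tensorMod (CohB1.tensorMod L
      (CohB1.tensorPow ((Scheme.Modules.pullback f).obj (CohB1.tensorPow K d)) e))
      ((Scheme.Modules.pullback f).obj (CohB1.tensorPow K d)) ≅
    CohB1.tensorMod L ((Scheme.Modules.pullback f).obj (CohB1.tensorPow K (d * (e + 1)))) :=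
  assocMod L _ _ ≪≫
    Groth.Agent.Lib.Lead.ModTensor.tensorIso (Iso.refl L)
      ((pullTensorPowIso f
        (Groth.Agent.Lib.helper12.TensorInv.isInvertible_tensorPow hK d) (e + 1)).symm ≪≫
        (Scheme.Modules.pullback f).mapIso (tensorPowMul K d (e + 1)))

theorem exists_veryAmple_pow (L : X.Modules) (hL : PicF.IsInvertible L)
    (hLva : RelProj.IsRelVeryAmple f L) (K : Y.Modules) (hK : PicF.IsInvertible K)
    (hKva : RelProj.IsRelVeryAmple g K) :
    ∃ k : ℕ, 0 < k ∧ RelProj.IsRelVeryAmple (f ≫ g)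
      (CohB1.tensorMod L ((Scheme.Modules.pullback f).obj (CohB1.tensorPow K k))) := by
  have hU : IsAffineOpen (⊤ : Z.Opens) := isAffineOpen_top Z
  haveI : Fact (PicF.IsInvertible L) := ⟨hL⟩
  haveI : Fact (PicF.IsInvertible K) := ⟨hK⟩
  haveI hfsep : IsSeparated f := Groth.Agent.Lib.helper12.AmpleSep.isSeparated_of_isRelAmple f
    (Groth.Agent.Lib.helper12.RelVAmple.isRelAmple_of_isRelVeryAmple f L hLva)
  haveI hgsep : IsSeparated g := Groth.Agent.Lib.helper12.AmpleSep.isSeparated_of_isRelAmple g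
    (Groth.Agent.Lib.helper12.RelVAmple.isRelAmple_of_isRelVeryAmple g K hKva)
  haveI : CompactSpace Y := QuasiCompact.compactSpace_of_compactSpace g
  haveI : CompactSpace X := QuasiCompact.compactSpace_of_compactSpace f
  haveI : QuasiSeparatedSpace X := quasiSeparatedSpace_of_quasiSeparated (f ≫ g)
  obtain ⟨d, hd, hk⟩ := exists_kdata g hU K hKva
  have hKd : PicF.IsInvertible (CohB1.tensorPow K d) :=
    Groth.Agent.Lib.helper12.TensorInv.isInvertible_tensorPow hK d
  haveI : Fact (PicF.IsInvertible ((Scheme.Modules.pullback f).obj (CohB1.tensorPow K d))) :=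
    ⟨Groth.Agent.Lib.helper11.InvMod.isInvertible_pullback f hKd⟩
  obtain ⟨e₀, he₀⟩ := exists_veryAmple_level f g L
    ((Scheme.Modules.pullback f).obj (CohB1.tensorPow K d)) hU hLva (fun x => by
      obtain ⟨κ, hyκ, haff, hle, R, hR, hπ⟩ := hk (f x)
      refine ⟨CohB1.genLocus _ κ, haff, pullHom f _ κ, hyκ,
        (genLocus_pullHom f _ hKd κ).symm, R, hR, fun r hr => ?_⟩
      obtain ⟨π, hπr⟩ := hπ r hr
      exact ⟨pullHom f _ π, val_pullHom_smul f _ κ π _ r hπr⟩)
  refine ⟨d * (e₀ + 1), Nat.mul_pos hd (Nat.succ_pos _), ?_⟩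
  exact VAmpleIso.isRelVeryAmple_of_iso (levelIso f L K hK d e₀) (he₀ e₀ le_rfl)

end Groth.Agent.Lib.helper28.CompSeg
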