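import Groth.Agent.Lib.Helper28.ProjBundleHom5
import Groth.Agent.Lib.Helper28.RLpsiU2
import Groth.Agent.Lib.Helper28.SymPairLift2
import Groth.Agent.Lib.Helper28.RelProjExists

/-!
# Local data attached to a very ample module (helper28)

For `L` very ample relative to `q : X ⟶ Y` (in the `P(E)` sense) with graded symmetric algebra
`(𝒮L, jL)`: a quasi-coherent `E` on `Y` with graded symmetric algebra `(𝒮, j)` and `β : E ⟶ q_* L`
such that, for `u = Sym(β) : 𝒮 → q_* 𝒮L`, every point `x` of `X`, every affine open `U ∋ q x` and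
every open neighbourhood `N` of `x` there is a homogeneous `a ∈ 𝒮(U)_n`, `n > 0`, with
`x ∈ X_{u a} ⊆ N`, `X_{u a}` affine and `𝒮(U)_(a) → O(X_{u a})` surjective (condition `H3`).
-/

set_option autoImplicit false
universe u
open CategoryTheory CategoryTheory.Limits AlgebraicGeometry TopologicalSpace Opposite

namespace Groth.Agent.Lib.helper28.VAmpleData

open Groth.Agent.Lib.helper28 Groth.Agent.Lib.helper28.ProjQGlue
  Groth.Agent.Lib.helper28.RelTwistChart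

section Nec

variable {Y X P PL : Scheme.{u}} {q : X ⟶ Y}
  (L : X.Modules) [L.IsQuasicoherent]
  {𝒮 : RelProj.QCGrAlg Y} (𝒮L : RelProj.QCGrAlg X) (j : L ⟶ 𝒮L.toModule)
  (hj : RelProj.IsGrSymAlg L 𝒮L j)
  (u : RelProj.QGrHom q 𝒮 𝒮L)
  {p : P ⟶ Y} {chart : ∀ (U : Y.Opens) (hU : IsAffineOpen U),
    (((p ⁻¹ᵁ U : P.Opens) : Scheme.{u}) ≅ Proj (𝒮.deg U hU))}
  {pL : PL ⟶ X} {chartL : ∀ (U : X.Opens) (hU : IsAffineOpen U),
    (((pL ⁻¹ᵁ U : PL.Opens) : Scheme.{u}) ≅ Proj (𝒮L.deg U hU))}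
  (hL : PicF.IsInvertible L) (hP : RelProj.IsRelProj 𝒮 p chart)
  (hPL : RelProj.IsRelProj 𝒮L pL chartL)
  (r : ((RelProj.domQ u pL chartL : PL.Opens) : Scheme.{u}) ⟶ P)
  (hr : ∀ (U : Y.Opens) (hU : IsAffineOpen U) (U' : X.Opens) (hU' : IsAffineOpen U')
    (hle : U' ≤ q ⁻¹ᵁ U) (d : ℕ) (hd : 0 < d) (f : 𝒮.presheaf.obj (op U))
    (hf : f ∈ 𝒮.deg U hU d),
    stdChart u pL chartL U hU U' hU' hle hd f hf ≫ r = tgt u p chart U hU U' hU' hle hd f hf)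

include hj hL hP hPL hr in
/-- Necessity of the local immersion criterion, with control on the affine open of the base and
on the size of `X_t`. -/
theorem exists_of_isImmersion' [IsImmersion r]
    (x' : ((RelProj.domQ u pL chartL : PL.Opens) : Scheme.{u}))
    (U : Y.Opens) (hU : IsAffineOpen U) (hxU : p (r x') ∈ U) (N' : P.Opens) (hN' : r x' ∈ N') :
    ∃ (n : ℕ) (hn : 0 < n) (s : 𝒮.presheaf.obj (op U)) (hs : s ∈ 𝒮.deg U hU n),
      pL ((RelProj.domQ u pL chartL).ι x') ∈ RLpsiU.XT 𝒮L u U n s ∧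
      (∃ hXT : IsAffineOpen (RLpsiU.XT 𝒮L u U n s),
        Function.Surjective (HomogeneousLocalization.Away.map (u.gradedAt U hU
          (RLpsiU.XT 𝒮L u U n s) hXT (RLpsiU.XT_le 𝒮L u U n s)) s)) ∧
      (Proj.awayι (𝒮.deg U hU) s hs hn ≫ RelProj.emb p chart U hU).opensRange ≤ N' := by
  have hcob : r x' ∈ r.coborderRange := subset_coborder ⟨x', rfl⟩
  obtain ⟨n, hn, s, hs, hzs, hsle⟩ := RLpsiU.exists_basic (chart := chart) U hU
    (r.coborderRange ⊓ N') (r x') ⟨hcob, hN'⟩ hxU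
  obtain ⟨hXT, hsurj⟩ := RLpsiU.affine_surjective_of_isImmersion L 𝒮L j hj u hL hP hPL r hr U hU
    hn s hs (hsle.trans inf_le_left)
  exact ⟨n, hn, s, hs,
    RLpsiU.mem_XT_of_mem_preimage L 𝒮L j hj u hL hP hPL r hr U hU hn s hs x' hzs,
    ⟨hXT, hsurj⟩, hsle.trans inf_le_right⟩

end Nec

section Data

variable {X Y : Scheme.{u}} (q : X ⟶ Y) (L : X.Modules) [L.IsQuasicoherent]
  (𝒮L : RelProj.QCGrAlg X) (jL : L ⟶ 𝒮L.toModule) (hjL : RelProj.IsGrSymAlg L 𝒮L jL)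

/-- A quasi-coherent module on the base with its graded symmetric algebra and a map to `q_* L`. -/
structure Data where
  E : Y.Modules
  hE : E.IsQuasicoherent
  𝒮 : RelProj.QCGrAlg Y
  j : E ⟶ 𝒮.toModule
  hj : RelProj.IsGrSymAlg E 𝒮 j
  β : E ⟶ (Scheme.Modules.pushforward q).obj L

variable {q L}

/-- The graded `q`-morphism `Sym(E) → q_* Sym(L)` of a datum. -/
noncomputable def Data.u (D : Data q L) : RelProj.QGrHom q D.𝒮 𝒮L :=
  haveI := D.hE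
  SymPairLift.qGrHom q D.E D.𝒮 D.j D.hj L D.β 𝒮L jL hjL.2

/-- The datum defines an immersion, in local form. -/
def Data.Good (D : Data q L) : Prop :=
  ∀ (x : X) (U : Y.Opens) (hU : IsAffineOpen U), q x ∈ U → ∀ N : X.Opens, x ∈ N →
    ∃ (n : ℕ) (_ : 0 < n) (a : D.𝒮.presheaf.obj (op U)) (_ : a ∈ D.𝒮.deg U hU n),
      x ∈ RLpsiU.XT 𝒮L (D.u 𝒮L jL hjL) U n a ∧ RLpsiU.XT 𝒮L (D.u 𝒮L jL hjL) U n a ≤ N ∧
      IsAffineOpen (RLpsiU.XT 𝒮L (D.u 𝒮L jL hjL) U n a) ∧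
      ∀ t : Γ(X, RLpsiU.XT 𝒮L (D.u 𝒮L jL hjL) U n a),
        RLpsiU.H3 (D.u 𝒮L jL hjL) U hU n a (RLpsiU.XT 𝒮L (D.u 𝒮L jL hjL) U n a)
          (RLpsiU.XT_le 𝒮L (D.u 𝒮L jL hjL) U n a) t

include hjL in
/-- **A very ample module has good data.** -/
theorem exists_good (hL : PicF.IsInvertible L) (h : RelProj.IsRelVeryAmple q L) :
    ∃ D : Data q L, D.Good 𝒮L jL hjL := by
  obtain ⟨E, hE, 𝒮, j, hj, P, p, chart, hP, O1, lam, hO1, i, himm, hip, ⟨τ⟩⟩ := h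
  subst hip
  have : E.IsQuasicoherent := hE
  obtain ⟨φ, hφ⟩ := Groth.Agent.Lib.helper28.RelTwistCanon.exists_canon_hom lam hP hO1 (d := 1)
    (by simp) E j hj.2
  let m : E ⟶ (Scheme.Modules.pushforward (i ≫ p)).obj L :=
    φ ≫ (Scheme.Modules.pushforward p).map (ProjBundleHom.β O1 i L τ.inv) ≫
      (Scheme.Modules.pushforwardComp i p).hom.app L
  let D : Data (i ≫ p) L := ⟨E, hE, 𝒮, j, hj, m⟩
  refine ⟨D, ?_⟩
  obtain ⟨PL, pL, chartL, hPL⟩ := RelProjExists.exists_relProj 𝒮L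
  have hu' : ∀ (U : Y.Opens) (_ : IsAffineOpen U) (e : Γ(E, U)),
      ((D.u 𝒮L jL hjL).app U).hom ((j.app U) e) = (jL.app ((i ≫ p) ⁻¹ᵁ U))
        (show Γ(L, (i ≫ p) ⁻¹ᵁ U) from
          (ProjBundleHom.β O1 i L τ.inv).app (p ⁻¹ᵁ U) ((φ.app U) e)) := by
    intro U hU e
    exact SymPairLift.qGrHom_j (i ≫ p) E 𝒮 j hj L m 𝒮L jL hjL.2 U hU e
  have hφ' : ∀ (U : Y.Opens) (hU : IsAffineOpen U) (e : Γ(E, U))
      (y : ↥(RelProj.emb p chart U hU ⁻¹ᵁ (p ⁻¹ᵁ U))),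
      GrTwist.val (V := RelProj.emb p chart U hU ⁻¹ᵁ (p ⁻¹ᵁ U))
          ((lam U hU).app (p ⁻¹ᵁ U) ((φ.app U) e)) y =
        algebraMap (𝒮.presheaf.obj (op U)) (GrTwist.Loc (𝒮.deg U hU) y.1)
          ((j.app U) e : 𝒮.presheaf.obj (op U)) := fun U hU e y => hφ U hU e y.1 y.2
  have hdom : RelProj.domQ (D.u 𝒮L jL hjL) pL chartL = ⊤ :=
    ProjBundleHom.domQ_eq_top E 𝒮 j hj p chart O1 lam hO1 φ hφ' i L τ.inv 𝒮L jL hjL
      (D.u 𝒮L jL hjL) hu' pL chartL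
  obtain ⟨r, hr₀, -⟩ := existsUnique_glue (D.u 𝒮L jL hjL) hP hPL
  have hr : RelProj.IsProjQMapOn (D.u 𝒮L jL hjL) p chart pL chartL
      (RelProj.domQ (D.u 𝒮L jL hjL) pL chartL) r :=
    (ProjQComp.isProjQMapOn_iff _ r).mpr hr₀
  have hreq : r = (RelProj.domQ (D.u 𝒮L jL hjL) pL chartL).ι ≫ pL ≫ i :=
    ProjBundleHom.eq_of_isProjQMapOn E 𝒮 j hj p chart O1 lam hO1 φ hφ' i L τ.inv 𝒮L jL hjL
      (D.u 𝒮L jL hjL) hu' pL chartL hPL r hr
  have hpL : IsIso pL := SymLineProj.isIso_of_isInvertible L 𝒮L jL hjL pL chartL hPL hL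
  have himmr : IsImmersion r := by
    rw [hreq]
    infer_instance
  have hsurjpL : Function.Surjective pL := by
    intro y
    exact ⟨(inv pL) y, by rw [← Scheme.Hom.comp_apply, IsIso.inv_hom_id]; rfl⟩
  intro x U hU hxU N hxN
  obtain ⟨z, rfl⟩ := hsurjpL x
  have hz : z ∈ RelProj.domQ (D.u 𝒮L jL hjL) pL chartL := hdom ▸ trivial
  let x' : ((RelProj.domQ (D.u 𝒮L jL hjL) pL chartL : PL.Opens) : Scheme.{u}) := ⟨z, hz⟩
  have hrx : ∀ w : ((RelProj.domQ (D.u 𝒮L jL hjL) pL chartL : PL.Opens) : Scheme.{u}),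
      r w = i (pL ((RelProj.domQ (D.u 𝒮L jL hjL) pL chartL).ι w)) := by
    intro w
    rw [hreq]
    rfl
  obtain ⟨N'set, hN'open, hN'eq⟩ := i.isEmbedding.isInducing.isOpen_iff.mp N.isOpen
  let N' : P.Opens := ⟨N'set, hN'open⟩
  have hrN : r x' ∈ N' := by
    rw [hrx]
    have : pL z ∈ i ⁻¹' N'set := by
      rw [hN'eq]
      exact hxN
    exact this
  have hpU : p (r x') ∈ U := by
    rw [hrx]
    exact hxU
  obtain ⟨n, hn, a, ha, hmem, ⟨hXT, hsurj⟩, hle⟩ := exists_of_isImmersion' L 𝒮L jL hjL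
    (D.u 𝒮L jL hjL) hL hP hPL r hr₀ x' U hU hpU N' hrN
  refine ⟨n, hn, a, ha, hmem, ?_, hXT, ?_⟩
  · intro y hy
    obtain ⟨w, rfl⟩ := hsurjpL y
    have hw : w ∈ pL ⁻¹ᵁ RLpsiU.XT 𝒮L (D.u 𝒮L jL hjL) U n a := hy
    rw [← RLpsiU.image_preimage_eq L 𝒮L jL hjL (D.u 𝒮L jL hjL) hL hP hPL r hr₀ U hU hn a ha]
      at hw
    obtain ⟨w', hw', rfl⟩ := hw
    have h1 : r w' ∈ N' := hle hw'
    rw [hrx] at h1
    have h2 : pL ((RelProj.domQ (D.u 𝒮L jL hjL) pL chartL).ι w') ∈ i ⁻¹' N'set := h1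
    rw [hN'eq] at h2
    exact h2
  · exact (RLpsiU.surjective_awayMap_iff L 𝒮L jL hjL (D.u 𝒮L jL hjL) hL hP hPL r hr₀ U hU hn a
      ha hXT).mp hsurj

end Data

end Groth.Agent.Lib.helper28.VAmpleData
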