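import Groth.Agent.Lib.Helper28.CompSegExt
import Groth.Agent.Lib.Helper28.VAmpleData
import Groth.Agent.Lib.Helper28.SymDegEq
import Groth.Agent.Lib.Helper28.SymPairLift2

/-!
# Composite Segre: levels and the induction on the degree (helper28)

`q : X ⟶ Z` quasi-compact quasi-separated with `⊤ ⊆ Z` affine, `X` quasi-compact quasi-separated,
`L`, `P` invertible on `X`, `s : O ⟶ P`, `X₁ = X_s`.  For each `e` choose graded symmetric algebras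
of `L ⊗ P^e`, `(L ⊗ P^e) ⊗ P` and `q_*((L ⊗ P^e) ⊗ P)` (`Lvl`).
* `Good n A`: for all large `e` the twisted partner of `A ∈ 𝒮L(X₁)` exists at level `e`
  (`CompSeg.G`).
* `good_of_mem_deg`: if `X₁ = f⁻¹ V` and `u = Sym(β) : Sym(E) → f_* Sym(L)`, then `u a` is good for
  every homogeneous `a ∈ Sym(E)(V)` of positive degree.
-/

set_option autoImplicit false
set_option linter.style.haveILetI false
set_option linter.unusedSectionVars false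
universe u
open CategoryTheory AlgebraicGeometry TopologicalSpace Opposite TensorProduct

namespace Groth.Agent.Lib.helper28.CompSeg

open Groth.Agent.Lib.helper28.SymLinePow Groth.Agent.Lib.helper11.TensorASec
  Groth.Agent.Lib.helper28 Groth.Agent.Lib.helper11.IsoLocus Groth.Agent.Lib.helper11.GenLocus
  Groth.Agent.Lib.helper28.SymAlg Groth.Agent.Lib.helper28.SymSheaf
  Groth.Agent.Lib.helper28.SymAlgGrading

variable {X Z : Scheme.{u}} (q : X ⟶ Z) [QuasiCompact q] [QuasiSeparated q]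
  (L P : X.Modules) [Fact (PicF.IsInvertible L)] [Fact (PicF.IsInvertible P)]

/-- Graded symmetric algebras at level `e`. -/
structure Lvl (e : ℕ) where
  𝒮N : RelProj.QCGrAlg X
  jN : CohB1.tensorMod L (CohB1.tensorPow P e) ⟶ 𝒮N.toModule
  hjN : RelProj.IsGrSymAlg (CohB1.tensorMod L (CohB1.tensorPow P e)) 𝒮N jN
  𝒮M : RelProj.QCGrAlg X
  jM : CohB1.tensorMod (CohB1.tensorMod L (CohB1.tensorPow P e)) P ⟶ 𝒮M.toModule
  hjM : RelProj.IsGrSymAlg (CohB1.tensorMod (CohB1.tensorMod L (CohB1.tensorPow P e)) P) 𝒮M jM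
  𝒯 : RelProj.QCGrAlg Z
  jF : (Scheme.Modules.pushforward q).obj
    (CohB1.tensorMod (CohB1.tensorMod L (CohB1.tensorPow P e)) P) ⟶ 𝒯.toModule
  h𝒯 : RelProj.IsGrSymAlg ((Scheme.Modules.pushforward q).obj
    (CohB1.tensorMod (CohB1.tensorMod L (CohB1.tensorPow P e)) P)) 𝒯 jF

theorem nonempty_lvl (e : ℕ) : Nonempty (Lvl q L P e) := by
  obtain ⟨𝒮N, jN, hjN⟩ := SymGradedExists.exists_isGrSymAlg
    (CohB1.tensorMod L (CohB1.tensorPow P e))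
  obtain ⟨𝒮M, jM, hjM⟩ := SymGradedExists.exists_isGrSymAlg
    (CohB1.tensorMod (CohB1.tensorMod L (CohB1.tensorPow P e)) P)
  obtain ⟨𝒯, jF, h𝒯⟩ := SymGradedExists.exists_isGrSymAlg ((Scheme.Modules.pushforward q).obj
    (CohB1.tensorMod (CohB1.tensorMod L (CohB1.tensorPow P e)) P))
  exact ⟨⟨𝒮N, jN, hjN, 𝒮M, jM, hjM, 𝒯, jF, h𝒯⟩⟩

theorem le_preimage_top (X₁ : X.Opens) : X₁ ≤ q ⁻¹ᵁ (⊤ : Z.Opens) := fun _ _ => trivial

variable (lv : ∀ e, Lvl q L P e)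
  (𝒮L : RelProj.QCGrAlg X) (jL : L ⟶ 𝒮L.toModule) (hjL : RelProj.IsGrSymAlg L 𝒮L jL)
  (hU : IsAffineOpen (⊤ : Z.Opens)) (s : Coh.structureModule X ⟶ P) (X₁ : X.Opens)

/-- The twisted partner of `A` exists at level `e`. -/
def GoodE (e n : ℕ) (A : 𝒮L.presheaf.obj (op X₁)) : Prop :=
  G q L (CohB1.tensorPow P e) P 𝒮L jL hjL (lv e).𝒮N (lv e).jN (lv e).hjN (lv e).𝒮M (lv e).jM
    (lv e).hjM (lv e).𝒯 (lv e).jF (lv e).h𝒯 ⊤ hU X₁ (le_preimage_top q X₁)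
    (SecTwist.pow s e X₁) (SecTwist.val s (q ⁻¹ᵁ ⊤)) n A

/-- The twisted partner of `A` exists at all large levels. -/
def Good (n : ℕ) (A : 𝒮L.presheaf.obj (op X₁)) : Prop :=
  ∃ e₀ : ℕ, ∀ e, e₀ ≤ e → GoodE q L P lv 𝒮L jL hjL hU s X₁ e n A

variable {q L P lv 𝒮L jL hjL hU s X₁}

theorem Good.add {n : ℕ} {A A' : 𝒮L.presheaf.obj (op X₁)}
    (h : Good q L P lv 𝒮L jL hjL hU s X₁ n A) (h' : Good q L P lv 𝒮L jL hjL hU s X₁ n A') :
    Good q L P lv 𝒮L jL hjL hU s X₁ n (A + A') := by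
  obtain ⟨e₀, h⟩ := h
  obtain ⟨e₁, h'⟩ := h'
  exact ⟨max e₀ e₁, fun e he =>
    G.add (h e (le_of_max_le_left he)) (h' e (le_of_max_le_right he))⟩

theorem Good.mul {n m : ℕ} {A A' : 𝒮L.presheaf.obj (op X₁)}
    (h : Good q L P lv 𝒮L jL hjL hU s X₁ n A) (h' : Good q L P lv 𝒮L jL hjL hU s X₁ m A') :
    Good q L P lv 𝒮L jL hjL hU s X₁ (n + m) (A * A') := by
  obtain ⟨e₀, h⟩ := h
  obtain ⟨e₁, h'⟩ := h'
  exact ⟨max e₀ e₁, fun e he =>
    G.mul (h e (le_of_max_le_left he)) (h' e (le_of_max_le_right he))⟩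

variable (q L P lv 𝒮L jL hjL hU s X₁)

theorem Good.base [CompactSpace X] [QuasiSeparatedSpace X] (hgl : X₁ = CohB1.genLocus P s)
    (σ : Γ(L, X₁)) : Good q L P lv 𝒮L jL hjL hU s X₁ 1 ((jL.app X₁).hom σ) := by
  obtain ⟨e₀, he₀⟩ := ext_base L P s X₁ hgl σ
  refine ⟨e₀, fun e he => ?_⟩
  obtain ⟨τ', hτ'⟩ := he₀ e he
  exact G.base q L (CohB1.tensorPow P e) P 𝒮L jL hjL (lv e).𝒮N (lv e).jN (lv e).hjN (lv e).𝒮M
    (lv e).jM (lv e).hjM (lv e).𝒯 (lv e).jF (lv e).h𝒯 ⊤ hU X₁ (le_preimage_top q X₁)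
    (SecTwist.pow s e X₁) (SecTwist.val s (q ⁻¹ᵁ ⊤)) σ τ' hτ'

section Ind

variable {Y : Scheme.{u}} (f : X ⟶ Y) (E : Y.Modules) [E.IsQuasicoherent]
  (𝒯E : RelProj.QCGrAlg Y) (jE : E ⟶ 𝒯E.toModule) (hjE : RelProj.IsGrSymAlg E 𝒯E jE)
  (β : E ⟶ (Scheme.Modules.pushforward f).obj L) (V : Y.Opens) (hV : IsAffineOpen V)

/-- `Sym(β) : Sym(E) → f_* Sym(L)`. -/
noncomputable abbrev uL : RelProj.QGrHom f 𝒯E 𝒮L :=
  SymPairLift.qGrHom f E 𝒯E jE hjE L β 𝒮L jL hjL.2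

theorem uL_j (m₀ : Γ(E, V)) :
    ((uL L 𝒮L jL hjL f E 𝒯E jE hjE β).app V).hom (VAmpleSec.jr jE V m₀) =
      VAmpleSec.jr jL (f ⁻¹ᵁ V) (show Γ(L, f ⁻¹ᵁ V) from (β.app V).hom m₀) :=
  SymPairLift.qGrHom_j_all f E 𝒯E jE hjE L β 𝒮L jL hjL.2 V m₀

variable [CompactSpace X] [QuasiSeparatedSpace X] (hgl : f ⁻¹ᵁ V = CohB1.genLocus P s)

include hgl in
theorem good_of_mem_symPow (i : ℕ) (x : SymU E V) (hx : x ∈ symPow Γ(Y, V) Γ(E, V) i)
    (hi : 0 < i) :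
    Good q L P lv 𝒮L jL hjL hU s (f ⁻¹ᵁ V) i
      (((uL L 𝒮L jL hjL f E 𝒯E jE hjE β).app V).hom (liftU E 𝒯E.toQCAlg jE V x)) := by
  induction hx using Submodule.pow_induction_on_left' with
  | algebraMap r => exact absurd hi (lt_irrefl 0)
  | add x y i hx hy ihx ihy =>
    rw [map_add, map_add]
    exact (ihx hi).add (ihy hi)
  | mem_mul m hm i x hx ih =>
    obtain ⟨m₀, rfl⟩ := hm
    have e0 : liftU E 𝒯E.toQCAlg jE V (SymmetricAlgebra.ι _ _ m₀ * x) =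
        VAmpleSec.jr jE V m₀ * liftU E 𝒯E.toQCAlg jE V x :=
      (map_mul (liftU E 𝒯E.toQCAlg jE V) _ _).trans
        (congrArg (· * liftU E 𝒯E.toQCAlg jE V x) (liftU_ι E 𝒯E.toQCAlg jE V m₀))
    rcases Nat.eq_zero_or_pos i with h0 | hpos
    · subst h0
      have hx' : x ∈ LinearMap.range (Algebra.linearMap Γ(Y, V) (SymU E V)) := by
        have h1 : x ∈ LinearMap.range (SymmetricAlgebra.ι Γ(Y, V) Γ(E, V)) ^ 0 := hx
        rw [pow_zero, Submodule.one_eq_range] at h1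
        exact h1
      obtain ⟨r, rfl⟩ := hx'
      have e1 : liftU E 𝒯E.toQCAlg jE V (SymmetricAlgebra.ι _ _ m₀ *
          (Algebra.linearMap Γ(Y, V) (SymU E V)) r) = VAmpleSec.jr jE V (r • m₀) := by
        refine e0.trans ?_
        refine (congrArg (VAmpleSec.jr jE V m₀ * ·) (liftU_algebraMap E 𝒯E.toQCAlg jE V r)).trans ?_
        refine (mul_comm _ _).trans ?_
        exact (VAmpleSec.jr_smul V r m₀).symm
      have e2 : ((uL L 𝒮L jL hjL f E 𝒯E jE hjE β).app V).hom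
          (liftU E 𝒯E.toQCAlg jE V (SymmetricAlgebra.ι _ _ m₀ *
            (Algebra.linearMap Γ(Y, V) (SymU E V)) r)) =
          VAmpleSec.jr jL (f ⁻¹ᵁ V) (show Γ(L, f ⁻¹ᵁ V) from (β.app V).hom (r • m₀)) :=
        (congrArg ((uL L 𝒮L jL hjL f E 𝒯E jE hjE β).app V).hom e1).trans
          (uL_j L 𝒮L jL hjL f E 𝒯E jE hjE β V (r • m₀))
      rw [e2]
      exact Good.base q L P lv 𝒮L jL hjL hU s (f ⁻¹ᵁ V) hgl _
    · have ih' := ih hpos
      have hb := Good.base q L P lv 𝒮L jL hjL hU s (f ⁻¹ᵁ V) hgl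
        (show Γ(L, f ⁻¹ᵁ V) from (β.app V).hom m₀)
      have hm := hb.mul ih'
      rw [Nat.add_comm] at hm
      have e1 : ((uL L 𝒮L jL hjL f E 𝒯E jE hjE β).app V).hom
          (liftU E 𝒯E.toQCAlg jE V (SymmetricAlgebra.ι _ _ m₀ * x)) =
          VAmpleSec.jr jL (f ⁻¹ᵁ V) (show Γ(L, f ⁻¹ᵁ V) from (β.app V).hom m₀) *
            ((uL L 𝒮L jL hjL f E 𝒯E jE hjE β).app V).hom (liftU E 𝒯E.toQCAlg jE V x) := by
        refine (congrArg ((uL L 𝒮L jL hjL f E 𝒯E jE hjE β).app V).hom e0).trans ?_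
        refine (map_mul ((uL L 𝒮L jL hjL f E 𝒯E jE hjE β).app V).hom _ _).trans ?_
        exact congrArg (· * ((uL L 𝒮L jL hjL f E 𝒯E jE hjE β).app V).hom
          (liftU E 𝒯E.toQCAlg jE V x)) (uL_j L 𝒮L jL hjL f E 𝒯E jE hjE β V m₀)
      rw [e1]
      exact hm

include hgl in
/-- **Every homogeneous element of positive degree has good image.** -/
theorem good_of_mem_deg (n : ℕ) (hn : 0 < n) (a : 𝒯E.presheaf.obj (op V))
    (ha : a ∈ 𝒯E.deg V hV n) :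
    Good q L P lv 𝒮L jL hjL hU s (f ⁻¹ᵁ V) n
      (((uL L 𝒮L jL hjL f E 𝒯E jE hjE β).app V).hom a) := by
  obtain ⟨x, hx, rfl⟩ := (SymDegEq.mem_deg_iff E 𝒯E jE hjE V hV n a).mp ha
  exact good_of_mem_symPow q L P lv 𝒮L jL hjL hU s f E 𝒯E jE hjE β V hgl n x hx hn

end Ind

end Groth.Agent.Lib.helper28.CompSeg
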