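import Groth.Agent.Lib.Helper28.SymLineLocal
import Groth.Agent.Lib.Helper28.CompSegExt

/-!
# Composite Segre, base side (1): `X_{u a}` as the locus of a global section of `L^{⊗ d}`
(helper28)

* `mem_genLocus_homOfSec_iff`: for a global section `t` of `L^{⊗ n}`, `x ∈ X_t` iff `μ t` generates
  the degree `n` part of `𝒮L` on an affine neighbourhood of `x`.
* `XT_eq_genLocus`: `RLpsiU.XT 𝒮L u ⊤ d a = X_t` when `μ t = u a`.
* `exists_sec_of_mem_deg`: every homogeneous `b ∈ 𝒜(⊤)_d` gives such a `t`.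
-/

set_option autoImplicit false
set_option linter.style.haveILetI false
set_option linter.unusedSectionVars false
universe u
open CategoryTheory AlgebraicGeometry TopologicalSpace Opposite TensorProduct

namespace Groth.Agent.Lib.helper28.CompSeg

open Groth.Agent.Lib.helper28.SymLinePow Groth.Agent.Lib.helper28.SymLineGenLocus
  Groth.Agent.Lib.helper28 Groth.Agent.Lib.helper11.IsoLocus Groth.Agent.Lib.helper11.GenLocus
  Groth.Agent.Lib.helper12.TwistExtend Groth.Agent.Lib.helper12.AmpleBasis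

section Global

variable {X : Scheme.{u}} {L : X.Modules} [L.IsQuasicoherent]
  {𝒮L : RelProj.QCGrAlg X} {j : L ⟶ 𝒮L.toModule}
  (hj : RelProj.IsGrSymAlg L 𝒮L j) (hL : PicF.IsInvertible L)

theorem bijective_homOfSec_app_iff (n : ℕ) (t : (CohB1.tensorPow L n).val.obj (op ⊤))
    (B : X.Opens) :
    Function.Bijective ((homOfSec (CohB1.tensorPow L n) t).app B).hom ↔
      Function.Bijective (fun a : Γ(X, B) =>
        (a • (res (CohB1.tensorPow L n) (le_top : B ≤ ⊤) t : Γ(CohB1.tensorPow L n, B)) :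
          Γ(CohB1.tensorPow L n, B))) := by
  have : (fun a : Γ(X, B) =>
      (a • (res (CohB1.tensorPow L n) (le_top : B ≤ ⊤) t : Γ(CohB1.tensorPow L n, B)) :
        Γ(CohB1.tensorPow L n, B))) =
      fun a => ((homOfSec (CohB1.tensorPow L n) t).app B).hom
        (a : Γ(Coh.structureModule X, B)) := by
    funext a
    have h1 := app_apply (homOfSec (CohB1.tensorPow L n) t) B a
    have h2 : sec (homOfSec (CohB1.tensorPow L n) t) B =
        res (CohB1.tensorPow L n) (le_top : B ≤ ⊤) t := val_homOfSec _ _ _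
    rw [h2] at h1
    exact h1.symm
  rw [this]
  rfl

include hj hL in
theorem mem_genLocus_homOfSec_iff (n : ℕ) (t : (CohB1.tensorPow L n).val.obj (op ⊤)) (x : X) :
    x ∈ CohB1.genLocus _ (homOfSec (CohB1.tensorPow L n) t) ↔
      ∃ (V : X.Opens) (hV : IsAffineOpen V), x ∈ V ∧
        ((𝒮L.deg V hV n : AddSubgroup (𝒮L.presheaf.obj (op V))) :
          Set (𝒮L.presheaf.obj (op V))) ⊆
          (Ideal.span {(𝒮L.presheaf.map (homOfLE (le_top : V ≤ ⊤)).op).hom (μ j n ⊤ t)} :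
            Set (𝒮L.presheaf.obj (op V))) := by
  constructor
  · intro hx
    obtain ⟨V, hxV, hVG, ⟨D⟩⟩ := exists_genData hj hL x _ hx
    have hiso : IsIso ((homOfSec (CohB1.tensorPow L n) t).app V) :=
      isIso_app_of_le_isoLocus _ hVG
    have hbij : Function.Bijective ((homOfSec (CohB1.tensorPow L n) t).app V).hom :=
      (ConcreteCategory.isIso_iff_bijective _).mp hiso
    rw [bijective_homOfSec_app_iff, D.bijective_smul_iff hL n] at hbij
    refine ⟨V, D.hV, hxV, ?_⟩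
    have e := μ_res (j := j) n (le_top : V ≤ ⊤) t
    change μ j n V (res (CohB1.tensorPow L n) (le_top : V ≤ ⊤) t) = _ at e
    rw [← e]
    exact hbij
  · rintro ⟨V, hV, hxV, hspan⟩
    refine le_genLocus_of_basis (homOfSec (CohB1.tensorPow L n) t) V
      (fun B => GoodOpen 𝒮L j ⊤ n (μ j n ⊤ t) B) ?_ ?_ hxV
    · intro y hy O hyO
      obtain ⟨U₀, hyU₀, hU₀⟩ := exists_open_genData hj hL y
      obtain ⟨a, haO, hya⟩ := hV.exists_basicOpen_le (V := O ⊓ U₀) ⟨y, ⟨hyO, hyU₀⟩⟩ hy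
      refine ⟨X.basicOpen a, ?_, hya, le_inf (haO.trans inf_le_left) (X.basicOpen_le a)⟩
      refine ⟨hV.basicOpen a, le_top, ?_, hU₀ _ (hV.basicOpen a) (haO.trans inf_le_right)⟩
      have h2 := deg_subset_span_basicOpen 𝒮L V hV a n _ hspan
      have e2 : (𝒮L.presheaf.map (homOfLE (X.basicOpen_le a)).op).hom
          ((𝒮L.presheaf.map (homOfLE (le_top : V ≤ ⊤)).op).hom (μ j n ⊤ t)) =
          (𝒮L.presheaf.map (homOfLE (le_top : X.basicOpen a ≤ ⊤)).op).hom (μ j n ⊤ t) := by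
        rw [← CommRingCat.comp_apply, ← Functor.map_comp]
        rfl
      rw [e2] at h2
      exact h2
    · intro B hB _
      obtain ⟨h, hb⟩ := bijective_of_goodOpen hL ⊤ n t _ hB
      rw [bijective_homOfSec_app_iff]
      exact hb

end Global

section XT

variable {X Y : Scheme.{u}} {f : X ⟶ Y} {𝒜 : RelProj.QCGrAlg Y} {𝒮L : RelProj.QCGrAlg X}
  (u : RelProj.QGrHom f 𝒜 𝒮L)
  {L : X.Modules} [L.IsQuasicoherent] {jL : L ⟶ 𝒮L.toModule}
  (hjL : RelProj.IsGrSymAlg L 𝒮L jL) (hL : PicF.IsInvertible L)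

include hjL hL in
/-- `X_{u a}` over `⊤` is the locus of the global section `t` of `L^{⊗ d}` with `μ t = u a`. -/
theorem XT_eq_genLocus (d : ℕ) (a : 𝒜.presheaf.obj (op ⊤))
    (t : (CohB1.tensorPow L d).val.obj (op ⊤))
    (ht : μ jL d ⊤ t = (u.app ⊤).hom a) :
    RLpsiU.XT 𝒮L u ⊤ d a = CohB1.genLocus _ (homOfSec (CohB1.tensorPow L d) t) := by
  ext x
  constructor
  · intro hx
    obtain ⟨⟨⟨V', hV'⟩, hle, hspan⟩, hxV'⟩ := Opens.mem_iSup.mp hx
    rw [SetLike.mem_coe, mem_genLocus_homOfSec_iff hjL hL, ht]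
    exact ⟨V', hV', hxV', hspan⟩
  · intro hx'
    rw [SetLike.mem_coe, mem_genLocus_homOfSec_iff hjL hL, ht] at hx'
    obtain ⟨V', hV', hxV', hspan⟩ := hx'
    exact Opens.mem_iSup.mpr ⟨⟨⟨V', hV'⟩, fun _ _ => trivial, hspan⟩, hxV'⟩

include hjL hL in
/-- A homogeneous element of degree `d` over `⊤` gives a global section of `L^{⊗ d}`. -/
theorem exists_sec_of_mem_deg (hU : IsAffineOpen (⊤ : Y.Opens)) (d : ℕ)
    (b : 𝒜.presheaf.obj (op ⊤)) (hb : b ∈ 𝒜.deg ⊤ hU d) :
    ∃ t : (CohB1.tensorPow L d).val.obj (op ⊤), μ jL d ⊤ t = (u.app ⊤).hom b := by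
  refine exists_μ_eq hjL hL d ⊤ ((u.app ⊤).hom b) (fun V hV i => ?_)
  exact u.map_mem ⊤ hU V hV (fun _ _ => trivial) hb

end XT

end Groth.Agent.Lib.helper28.CompSeg
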