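import Groth.Agent.Lib.Helper28.CompSegK1
import Groth.Agent.Lib.Helper28.RLpsiU2

/-!
# Composite Segre, base side (2): powers of a chart and cancellation (helper28)

* `mem_XT_iff_genData`: membership in `X_{u a}` through affine opens carrying a generator.
* `XT_pow`: `X_{u (a^m)} = X_{u a}`; `H3_pow`.
* `eq_zero_of_str_mul_pow`: `u a` is a non-zero-divisor on functions over `X_{u a}`.
-/

set_option autoImplicit false
set_option linter.style.haveILetI false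
set_option linter.unusedSectionVars false
universe u
open CategoryTheory AlgebraicGeometry TopologicalSpace Opposite TensorProduct

namespace Groth.Agent.Lib.helper28.CompSeg

open Groth.Agent.Lib.helper28.SymLinePow Groth.Agent.Lib.helper28.SymLineGenLocus
  Groth.Agent.Lib.helper28 Groth.Agent.Lib.helper28.SegreLocal

section Local

variable {X : Scheme.{u}} {L : X.Modules} [L.IsQuasicoherent]
  {𝒮L : RelProj.QCGrAlg X} {jL : L ⟶ 𝒮L.toModule}

theorem span_pow_iff {W : X.Opens} (D : GenData L 𝒮L jL W) (n m : ℕ) (hm : 0 < m)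
    (c : 𝒮L.presheaf.obj (op W)) (hc : c ∈ 𝒮L.deg W D.hV n) :
    (((𝒮L.deg W D.hV n : AddSubgroup (𝒮L.presheaf.obj (op W))) :
        Set (𝒮L.presheaf.obj (op W))) ⊆
        (Ideal.span {c} : Set (𝒮L.presheaf.obj (op W)))) ↔
      (((𝒮L.deg W D.hV (m * n) : AddSubgroup (𝒮L.presheaf.obj (op W))) :
        Set (𝒮L.presheaf.obj (op W))) ⊆
        (Ideal.span {c ^ m} : Set (𝒮L.presheaf.obj (op W)))) := by
  have hz : D.z ∈ 𝒮L.deg W D.hV 1 := D.hz
  obtain ⟨b, rfl⟩ := Groth.Agent.Lib.helper28.PolyGrade.exists_eq_of_mem_deg (𝒮L.deg W D.hV)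
    (𝒮L.str.app (op W)).hom D.z (𝒮L.str_mem W D.hV) hz D.hpoly.2 hc
  have hpow : ((𝒮L.str.app (op W)).hom b * D.z ^ n) ^ m =
      (𝒮L.str.app (op W)).hom (b ^ m) * D.z ^ (m * n) := by
    rw [mul_pow, ← map_pow, ← pow_mul, Nat.mul_comm]
  rw [hpow]
  constructor
  · intro h
    have hb : IsUnit b := isUnit_of_span (𝒮L.str.app (op W)).hom D.z D.hpoly b n
      (h (z_pow_mem D n))
    exact deg_subset_span_of_isUnit (𝒮L.deg W D.hV) (𝒮L.str.app (op W)).hom D.z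
      (𝒮L.str_mem W D.hV) hz D.hpoly.2 (b ^ m) (m * n) (hb.pow m)
  · intro h
    have hb : IsUnit (b ^ m) := isUnit_of_span (𝒮L.str.app (op W)).hom D.z D.hpoly (b ^ m)
      (m * n) (h (z_pow_mem D (m * n)))
    have hb' : IsUnit b := (isUnit_pow_iff (Nat.pos_iff_ne_zero.mp hm)).mp hb
    exact deg_subset_span_of_isUnit (𝒮L.deg W D.hV) (𝒮L.str.app (op W)).hom D.z
      (𝒮L.str_mem W D.hV) hz D.hpoly.2 b n hb'

theorem str_map (𝒮 : RelProj.QCGrAlg X) {A B : X.Opens} (h : B ≤ A) (x : Γ(X, A)) :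
    (𝒮.presheaf.map (homOfLE h).op).hom ((𝒮.str.app (op A)).hom x) =
      (𝒮.str.app (op B)).hom ((X.presheaf.map (homOfLE h).op).hom x) := by
  have h1 := congrArg (fun k => k.hom x) (𝒮.str.naturality (homOfLE h).op)
  simp only [CommRingCat.hom_comp, RingHom.coe_comp, Function.comp_apply] at h1
  exact h1.symm

variable (hjL : RelProj.IsGrSymAlg L 𝒮L jL) (hL : PicF.IsInvertible L)

include hjL hL in
/-- `u a` is a non-zero-divisor on functions, over an open where it generates the degree `n` part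
locally. -/
theorem eq_zero_of_str_mul_pow (V : X.Opens) (n : ℕ) (c : 𝒮L.presheaf.obj (op V))
    (hcov : ∀ y ∈ V, ∃ (W : X.Opens) (D : GenData L 𝒮L jL W) (hle : W ≤ V), y ∈ W ∧
      ((𝒮L.deg W D.hV n : AddSubgroup (𝒮L.presheaf.obj (op W))) :
        Set (𝒮L.presheaf.obj (op W))) ⊆
        (Ideal.span {(𝒮L.presheaf.map (homOfLE hle).op).hom c} :
          Set (𝒮L.presheaf.obj (op W))))
    (x : Γ(X, V)) (m : ℕ) (h : (𝒮L.str.app (op V)).hom x * c ^ m = 0) : x = 0 := by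
  let I := {W : X.Opens // ∃ (D : GenData L 𝒮L jL W) (hle : W ≤ V),
      ((𝒮L.deg W D.hV n : AddSubgroup (𝒮L.presheaf.obj (op W))) :
        Set (𝒮L.presheaf.obj (op W))) ⊆
        (Ideal.span {(𝒮L.presheaf.map (homOfLE hle).op).hom c} :
          Set (𝒮L.presheaf.obj (op W)))}
  have hleI : ∀ W : I, W.1 ≤ V := fun W => W.2.choose_spec.choose
  refine TopCat.Sheaf.eq_of_locally_eq' X.sheaf (fun W : I => W.1) V
    (fun W => homOfLE (hleI W)) ?_ x 0 (fun W => ?_)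
  · intro y hy
    obtain ⟨W, D, hle, hyW, hspan⟩ := hcov y hy
    exact Opens.mem_iSup.mpr ⟨⟨W, D, hle, hspan⟩, hyW⟩
  · obtain ⟨W, D, hle, hspan⟩ := W
    change (X.presheaf.map (homOfLE hle).op).hom x = (X.presheaf.map (homOfLE hle).op).hom 0
    rw [map_zero]
    obtain ⟨w, hw⟩ := Ideal.mem_span_singleton'.mp (hspan (z_pow_mem D n))
    have h1 := congrArg (𝒮L.presheaf.map (homOfLE hle).op).hom h
    rw [map_mul, map_pow, map_zero, str_map] at h1
    have h2 : (𝒮L.str.app (op W)).hom ((X.presheaf.map (homOfLE hle).op).hom x) *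
        D.z ^ (n * m) = 0 := by
      rw [pow_mul, ← hw, mul_pow, ← mul_assoc, mul_comm _ (w ^ m), mul_assoc, h1, mul_zero]
    exact Groth.Agent.Lib.helper28.PolyGrade.eq_zero_of_term_eq_zero
      (𝒮L.str.app (op W)).hom D.z D.hpoly.1 h2

end Local

section XT

variable {X Y : Scheme.{u}} {f : X ⟶ Y} {𝒜 : RelProj.QCGrAlg Y} {𝒮L : RelProj.QCGrAlg X}
  (u : RelProj.QGrHom f 𝒜 𝒮L)
  {L : X.Modules} [L.IsQuasicoherent] {jL : L ⟶ 𝒮L.toModule}
  (hjL : RelProj.IsGrSymAlg L 𝒮L jL) (hL : PicF.IsInvertible L)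

include hjL hL in
theorem mem_XT_iff_genData (U : Y.Opens) (n : ℕ) (a : 𝒜.presheaf.obj (op U)) (x : X) :
    x ∈ RLpsiU.XT 𝒮L u U n a ↔
      ∃ (W : X.Opens) (D : GenData L 𝒮L jL W) (hle : W ≤ f ⁻¹ᵁ U), x ∈ W ∧
        ((𝒮L.deg W D.hV n : AddSubgroup (𝒮L.presheaf.obj (op W))) :
          Set (𝒮L.presheaf.obj (op W))) ⊆
          (Ideal.span {(u.appLE U W hle).hom a} : Set (𝒮L.presheaf.obj (op W))) := by
  constructor
  · intro hx
    obtain ⟨⟨⟨V', hV'⟩, hle, hspan⟩, hxV'⟩ := Opens.mem_iSup.mp hx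
    obtain ⟨U₀, hxU₀, hU₀⟩ := exists_open_genData hjL hL x
    obtain ⟨c₀, hcle, hxc⟩ := hV'.exists_basicOpen_le (V := U₀) ⟨x, hxU₀⟩ hxV'
    obtain ⟨D⟩ := hU₀ (X.basicOpen c₀) (hV'.basicOpen c₀) hcle
    refine ⟨X.basicOpen c₀, D, (X.basicOpen_le c₀).trans hle, hxc, ?_⟩
    have h2 := deg_subset_span_basicOpen 𝒮L V' hV' c₀ n _ hspan
    have hres : (𝒮L.presheaf.map (homOfLE (X.basicOpen_le c₀)).op).hom
        ((u.appLE U V' hle).hom a) =
        (u.appLE U (X.basicOpen c₀) ((X.basicOpen_le c₀).trans hle)).hom a :=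
      congrArg (fun k => k.hom a) (u.toQHom.appLE_map hle (X.basicOpen_le c₀))
    rw [hres] at h2
    exact h2
  · rintro ⟨W, D, hle, hxW, hspan⟩
    exact Opens.mem_iSup.mpr ⟨⟨⟨W, D.hV⟩, hle, hspan⟩, hxW⟩

include hjL hL in
/-- `X_{u (a^m)} = X_{u a}`. -/
theorem XT_pow (U : Y.Opens) (hU : IsAffineOpen U) (n m : ℕ) (hm : 0 < m)
    (a : 𝒜.presheaf.obj (op U)) (ha : a ∈ 𝒜.deg U hU n) :
    RLpsiU.XT 𝒮L u U (m * n) (a ^ m) = RLpsiU.XT 𝒮L u U n a := by
  ext x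
  rw [SetLike.mem_coe, SetLike.mem_coe, mem_XT_iff_genData u hjL hL, mem_XT_iff_genData u hjL hL]
  constructor
  · rintro ⟨W, D, hle, hxW, hspan⟩
    refine ⟨W, D, hle, hxW, ?_⟩
    rw [map_pow] at hspan
    exact (span_pow_iff D n m hm _ (u.map_mem U hU W D.hV hle ha)).mpr hspan
  · rintro ⟨W, D, hle, hxW, hspan⟩
    refine ⟨W, D, hle, hxW, ?_⟩
    rw [map_pow]
    exact (span_pow_iff D n m hm _ (u.map_mem U hU W D.hV hle ha)).mp hspan

theorem H3_pow (U : Y.Opens) (hU : IsAffineOpen U) (n k : ℕ)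
    (a : 𝒜.presheaf.obj (op U)) (ha : a ∈ 𝒜.deg U hU n) (O : X.Opens) (hle : O ≤ f ⁻¹ᵁ U)
    (t : Γ(X, O)) (h : RLpsiU.H3 u U hU n a O hle t) :
    RLpsiU.H3 u U hU ((k + 1) * n) (a ^ (k + 1)) O hle t := by
  obtain ⟨m', hm', s', hs', e⟩ := h
  refine ⟨m', hm', s' * a ^ (m' * k), ?_, ?_⟩
  · have h1 : a ^ (m' * k) ∈ 𝒜.deg U hU ((m' * k) • n) := SetLike.pow_mem_graded (m' * k) ha
    have h2 := SetLike.mul_mem_graded hs' h1
    have e1 : m' * n + (m' * k) • n = m' * ((k + 1) * n) := by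
      rw [smul_eq_mul]
      ring
    rw [e1] at h2
    exact h2
  · rw [map_mul, ← e, map_pow, map_pow, ← pow_mul, mul_assoc, ← pow_add]
    congr 2
    ring

end XT

end Groth.Agent.Lib.helper28.CompSeg
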