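import Groth.Agent.Lib.Helper28.CompSegK2
import Groth.Agent.Lib.Helper28.CompSegInd

/-!
# Composite Segre, base side (3): generation of `O(Y_κ)` by ratios `π / κ` (helper28)

`g : Y ⟶ Z` with `⊤ ⊆ Z` affine, `K` invertible on `Y`, `u = Sym(β) : Sym(G) → g_* Sym(K)`,
`a ∈ Sym^d(G)(⊤)`, `κ` the global section of `K^{⊗ d}` with `μ κ = u a`, `V = Y_κ`.
* `exists_ratio`: every `b ∈ Sym^d(G)(⊤)` gives a global section `π` of `K^{⊗ d}` and a function
  `ρ` on `V` with `π = ρ κ` on `V` and `u b = ρ · u a` on `V`.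
* `closure_ratio_eq_top`: if every function on `V` satisfies `H3`, then `O(V)` is generated over
  `O(Z)` by the ratios `π / κ`.
* `exists_kdata`: the data needed by `CompSeg.exists_veryAmple_level`, for `K` very ample relative
  to `g` and `Y` quasi-compact.
-/

set_option autoImplicit false
set_option linter.style.haveILetI false
set_option linter.unusedSectionVars false
universe u
open CategoryTheory AlgebraicGeometry TopologicalSpace Opposite TensorProduct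

namespace Groth.Agent.Lib.helper28.CompSeg

open Groth.Agent.Lib.helper28.SymLinePow Groth.Agent.Lib.helper28.SymLineGenLocus
  Groth.Agent.Lib.helper28 Groth.Agent.Lib.helper28.SegreLocal
  Groth.Agent.Lib.helper12.TwistExtend Groth.Agent.Lib.helper12.AmpleBasis
  Groth.Agent.Lib.helper28.SymAlg Groth.Agent.Lib.helper28.SymSheaf
  Groth.Agent.Lib.helper28.SymAlgGrading

section Gen

variable {Y Z : Scheme.{u}} (g : Y ⟶ Z) (K : Y.Modules) [Fact (PicF.IsInvertible K)]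
  (𝒮K : RelProj.QCGrAlg Y) (jK : K ⟶ 𝒮K.toModule) (hjK : RelProj.IsGrSymAlg K 𝒮K jK)
  (G : Z.Modules) [G.IsQuasicoherent] (𝒯G : RelProj.QCGrAlg Z) (jG : G ⟶ 𝒯G.toModule)
  (hjG : RelProj.IsGrSymAlg G 𝒯G jG)
  (βK : G ⟶ (Scheme.Modules.pushforward g).obj K) (hU : IsAffineOpen (⊤ : Z.Opens))
  (d : ℕ) (a : 𝒯G.presheaf.obj (op ⊤)) (ha : a ∈ 𝒯G.deg ⊤ hU d)
  (ta : (CohB1.tensorPow K d).val.obj (op ⊤))
  (hta : μ jK d ⊤ ta = ((uL K 𝒮K jK hjK g G 𝒯G jG hjG βK).app ⊤).hom a)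

/-- `u b` over `Y_κ` in terms of the section of `K^{⊗ d}` attached to `b`. -/
theorem appLE_eq_μ (V : Y.Opens) (hle : V ≤ g ⁻¹ᵁ ⊤) (b : 𝒯G.presheaf.obj (op ⊤))
    (tb : (CohB1.tensorPow K d).val.obj (op ⊤))
    (htb : μ jK d ⊤ tb = ((uL K 𝒮K jK hjK g G 𝒯G jG hjG βK).app ⊤).hom b) :
    ((uL K 𝒮K jK hjK g G 𝒯G jG hjG βK).appLE ⊤ V hle).hom b =
      μ jK d V (SecTwist.val (homOfSec (CohB1.tensorPow K d) tb) V) := by
  have h1 : SecTwist.val (homOfSec (CohB1.tensorPow K d) tb) V =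
      res (CohB1.tensorPow K d) (le_top : V ≤ ⊤) tb := val_homOfSec _ _ _
  rw [h1]
  have h2 := μ_res (j := jK) d (le_top : V ≤ ⊤) tb
  refine Eq.trans ?_ h2.symm
  exact congrArg (𝒮K.presheaf.map (homOfLE (le_top : V ≤ ⊤)).op).hom htb.symm

include ha hta in
theorem exists_ratio (hle : CohB1.genLocus _ (homOfSec (CohB1.tensorPow K d) ta) ≤ g ⁻¹ᵁ ⊤)
    (b : 𝒯G.presheaf.obj (op ⊤)) (hb : b ∈ 𝒯G.deg ⊤ hU d) :
    ∃ (π : Coh.structureModule Y ⟶ CohB1.tensorPow K d)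
      (ρ : Γ(Y, CohB1.genLocus _ (homOfSec (CohB1.tensorPow K d) ta))),
      SecTwist.val π (CohB1.genLocus _ (homOfSec (CohB1.tensorPow K d) ta)) =
        ρ • SecTwist.val (homOfSec (CohB1.tensorPow K d) ta)
          (CohB1.genLocus _ (homOfSec (CohB1.tensorPow K d) ta)) ∧
      ((uL K 𝒮K jK hjK g G 𝒯G jG hjG βK).appLE ⊤ _ hle).hom b =
        (𝒮K.str.app (op _)).hom ρ * ((uL K 𝒮K jK hjK g G 𝒯G jG hjG βK).appLE ⊤ _ hle).hom a := by
  have hK : PicF.IsInvertible K := Fact.out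
  obtain ⟨tb, htb⟩ := exists_sec_of_mem_deg (uL K 𝒮K jK hjK g G 𝒯G jG hjG βK) hjK hK hU d b hb
  obtain ⟨ρ, hρ⟩ := (bijective_smul_val (CohB1.tensorPow K d)
    (homOfSec (CohB1.tensorPow K d) ta) _ le_rfl).2
    (SecTwist.val (homOfSec (CohB1.tensorPow K d) tb)
      (CohB1.genLocus _ (homOfSec (CohB1.tensorPow K d) ta)))
  refine ⟨homOfSec (CohB1.tensorPow K d) tb, ρ, hρ.symm, ?_⟩
  have eb := appLE_eq_μ g K 𝒮K jK hjK G 𝒯G jG hjG βK d _ hle b tb htb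
  have ea := appLE_eq_μ g K 𝒮K jK hjK G 𝒯G jG hjG βK d _ hle a ta hta
  refine eb.trans ?_
  refine (congrArg (μ jK d _) hρ.symm).trans ?_
  refine (μ_smul d _ ρ _).trans ?_
  exact congrArg ((𝒮K.str.app (op _)).hom ρ * ·) ea.symm

include ha hta in
theorem closure_ratio_eq_top
    (hle : CohB1.genLocus _ (homOfSec (CohB1.tensorPow K d) ta) ≤ g ⁻¹ᵁ ⊤)
    (hH3 : ∀ t : Γ(Y, CohB1.genLocus _ (homOfSec (CohB1.tensorPow K d) ta)),
      RLpsiU.H3 (uL K 𝒮K jK hjK g G 𝒯G jG hjG βK) ⊤ hU d a _ hle t) :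
    Subring.closure (Set.range (g.appLE ⊤ _ hle).hom ∪
      {ρ : Γ(Y, CohB1.genLocus _ (homOfSec (CohB1.tensorPow K d) ta)) |
        ∃ π : Coh.structureModule Y ⟶ CohB1.tensorPow K d,
          SecTwist.val π (CohB1.genLocus _ (homOfSec (CohB1.tensorPow K d) ta)) =
            ρ • SecTwist.val (homOfSec (CohB1.tensorPow K d) ta)
              (CohB1.genLocus _ (homOfSec (CohB1.tensorPow K d) ta))}) = ⊤ := by
  have hK : PicF.IsInvertible K := Fact.out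
  rw [eq_top_iff]
  intro t _
  obtain ⟨m, hm, s', hs', e⟩ := hH3 t
  -- every homogeneous element of degree `m * d` is a polynomial in ratios
  have key : ∀ (i : ℕ) (x : SymU G ⊤)
      (_ : x ∈ (LinearMap.range (SymmetricAlgebra.ι Γ(Z, ⊤) Γ(G, ⊤)) ^ d) ^ i),
      ∃ ρ ∈ Subring.closure (Set.range (g.appLE ⊤ _ hle).hom ∪
        {ρ : Γ(Y, CohB1.genLocus _ (homOfSec (CohB1.tensorPow K d) ta)) |
          ∃ π : Coh.structureModule Y ⟶ CohB1.tensorPow K d,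
            SecTwist.val π (CohB1.genLocus _ (homOfSec (CohB1.tensorPow K d) ta)) =
              ρ • SecTwist.val (homOfSec (CohB1.tensorPow K d) ta)
                (CohB1.genLocus _ (homOfSec (CohB1.tensorPow K d) ta))}),
        ((uL K 𝒮K jK hjK g G 𝒯G jG hjG βK).appLE ⊤ _ hle).hom (liftU G 𝒯G.toQCAlg jG ⊤ x) =
          (𝒮K.str.app (op _)).hom ρ *
            (((uL K 𝒮K jK hjK g G 𝒯G jG hjG βK).appLE ⊤ _ hle).hom a) ^ i := by
    intro i x hx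
    induction hx using Submodule.pow_induction_on_left' with
    | algebraMap r =>
      refine ⟨(g.appLE ⊤ _ hle).hom r, Subring.subset_closure (Or.inl ⟨r, rfl⟩), ?_⟩
      rw [pow_zero, mul_one, liftU_algebraMap]
      have h1 := congrArg (fun k => k.hom r)
        ((uL K 𝒮K jK hjK g G 𝒯G jG hjG βK).toQHom.str_appLE ⊤ _ hle)
      simp only [CommRingCat.hom_comp, RingHom.coe_comp, Function.comp_apply] at h1
      exact h1
    | add x y i hx hy ihx ihy =>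
      obtain ⟨ρx, hρx, ex⟩ := ihx
      obtain ⟨ρy, hρy, ey⟩ := ihy
      refine ⟨ρx + ρy, add_mem hρx hρy, ?_⟩
      rw [map_add, map_add, ex, ey, map_add, add_mul]
    | mem_mul m' hm' i x hx ih =>
      obtain ⟨ρx, hρx, ex⟩ := ih
      have hb : liftU G 𝒯G.toQCAlg jG ⊤ m' ∈ 𝒯G.deg ⊤ hU d :=
        SymDegEq.liftU_mem G 𝒯G jG hjG ⊤ hU hm'
      obtain ⟨π, ρb, hπ, eb⟩ := exists_ratio g K 𝒮K jK hjK G 𝒯G jG hjG βK hU d a ha ta hta hle
        _ hb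
      refine ⟨ρb * ρx, mul_mem (Subring.subset_closure (Or.inr ⟨π, hπ⟩)) hρx, ?_⟩
      rw [map_mul, map_mul, ex, eb, map_mul, pow_succ]
      ring
  obtain ⟨x, hx, rfl⟩ := (SymDegEq.mem_deg_iff G 𝒯G jG hjG ⊤ hU (m * d) s').mp hs'
  have hx' : x ∈ (LinearMap.range (SymmetricAlgebra.ι Γ(Z, ⊤) Γ(G, ⊤)) ^ d) ^ m := by
    rw [← pow_mul']
    exact hx
  obtain ⟨ρ, hρ, eρ⟩ := key m x hx'
  -- cancellation
  have hsub : (𝒮K.str.app (op _)).hom (t - ρ) *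
      (((uL K 𝒮K jK hjK g G 𝒯G jG hjG βK).appLE ⊤ _ hle).hom a) ^ m = 0 := by
    rw [map_sub, sub_mul, e, eρ, sub_self]
  have hXT := XT_eq_genLocus (uL K 𝒮K jK hjK g G 𝒯G jG hjG βK) hjK hK d a ta hta
  have hzero : t - ρ = 0 := by
    refine eq_zero_of_str_mul_pow hjK hK _ d _ (fun y hy => ?_) (t - ρ) m hsub
    have hy' : y ∈ RLpsiU.XT 𝒮K (uL K 𝒮K jK hjK g G 𝒯G jG hjG βK) ⊤ d a := by
      rw [hXT]
      exact hy
    obtain ⟨W, D, hleW, hyW, hspan⟩ :=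
      (mem_XT_iff_genData (uL K 𝒮K jK hjK g G 𝒯G jG hjG βK) hjK hK ⊤ d a y).mp hy'
    have hWV : W ≤ CohB1.genLocus _ (homOfSec (CohB1.tensorPow K d) ta) := by
      intro w hw
      have : w ∈ RLpsiU.XT 𝒮K (uL K 𝒮K jK hjK g G 𝒯G jG hjG βK) ⊤ d a :=
        (mem_XT_iff_genData (uL K 𝒮K jK hjK g G 𝒯G jG hjG βK) hjK hK ⊤ d a w).mpr
          ⟨W, D, hleW, hw, hspan⟩
      rw [hXT] at this
      exact this
    refine ⟨W, D, hWV, hyW, ?_⟩
    have hres : (𝒮K.presheaf.map (homOfLE hWV).op).hom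
        (((uL K 𝒮K jK hjK g G 𝒯G jG hjG βK).appLE ⊤ _ hle).hom a) =
        ((uL K 𝒮K jK hjK g G 𝒯G jG hjG βK).appLE ⊤ W hleW).hom a :=
      congrArg (fun k => k.hom a)
        ((uL K 𝒮K jK hjK g G 𝒯G jG hjG βK).toQHom.appLE_map hle hWV)
    rw [hres]
    exact hspan
  have : t = ρ := sub_eq_zero.mp hzero
  rw [this]
  exact hρ

end Gen

end Groth.Agent.Lib.helper28.CompSeg
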