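import Groth.Agent.Lib.Helper28.CompSegChart

/-!
# Composite Segre: very ampleness of `(L ⊗ P^e) ⊗ P` for large `e` (helper28)

* `isRelVeryAmple_of_charts`: the local immersion criterion, packaged.
* `exists_veryAmple_level`: `f : X ⟶ Y` quasi-compact locally of finite type, `g : Y ⟶ Z` with
  `Z` affine, `X` quasi-compact quasi-separated, `L` very ample relative to `f`, `P` invertible on
  `X` with sections `s` such that the `X_s = f⁻¹ V` (`V ⊆ Y` affine) cover `X` and `O(V)` is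
  generated over `O(Z)` by ratios `π / s`; then `(L ⊗ P^e) ⊗ P` is very ample relative to `f ≫ g`
  for all large `e`.
-/

set_option autoImplicit false
set_option linter.style.haveILetI false
set_option linter.unusedSectionVars false
universe u
open CategoryTheory AlgebraicGeometry TopologicalSpace Opposite TensorProduct

namespace Groth.Agent.Lib.helper28.CompSeg

open Groth.Agent.Lib.helper28 Groth.Agent.Lib.helper28.VAmpleSec
  Groth.Agent.Lib.helper28.ProjQGlue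

section Charts

variable {X Y : Scheme.{u}} (q : X ⟶ Y) (M : X.Modules) [M.IsQuasicoherent]
  (hM : PicF.IsInvertible M)
  (𝒮M : RelProj.QCGrAlg X) (jM : M ⟶ 𝒮M.toModule) (hjM : RelProj.IsGrSymAlg M 𝒮M jM)
  (E : Y.Modules) [E.IsQuasicoherent] (𝒯 : RelProj.QCGrAlg Y) (jT : E ⟶ 𝒯.toModule)
  (h𝒯 : RelProj.IsGrSymAlg E 𝒯 jT) (u : RelProj.QGrHom q 𝒯 𝒮M)

include hM hjM h𝒯 in
/-- The local immersion criterion: charts `(U, n, s)` with `X_{u s}` affine, covering `X`, and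
`𝒯(U)_(s) → O(X_{u s})` surjective give very ampleness. -/
theorem isRelVeryAmple_of_charts
    (hloc : ∀ x : X, ∃ (U : Y.Opens) (hU : IsAffineOpen U) (n : ℕ) (_ : 0 < n)
      (s : 𝒯.presheaf.obj (op U)) (_ : s ∈ 𝒯.deg U hU n),
      x ∈ RLpsiU.XT 𝒮M u U n s ∧ IsAffineOpen (RLpsiU.XT 𝒮M u U n s) ∧
      ∀ t : Γ(X, RLpsiU.XT 𝒮M u U n s),
        RLpsiU.H3 u U hU n s _ (RLpsiU.XT_le 𝒮M u U n s) t) :
    RelProj.IsRelVeryAmple q M := by
  obtain ⟨PL, pL, chartL, hPL⟩ := RelProjExists.exists_relProj 𝒮M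
  have hdom : RelProj.domQ u pL chartL = ⊤ := by
    refine top_le_iff.mp fun z _ => ?_
    obtain ⟨U, hU, n, hn, s, hs, hx, -, -⟩ := hloc (pL z)
    exact SymLineAmpleImm.mem_domQ_of_mem_XT u hjM U hU hn s hs z hx
  refine isRelVeryAmple_of_domQ_eq_top q M hM 𝒮M jM hjM pL chartL hPL E 𝒯 jT h𝒯 u hdom ?_
  intro P p chart hP r hr
  have hr₀ := (ProjQComp.isProjQMapOn_iff u r).mp hr
  refine RLpsiU.isImmersion_of_local M 𝒮M jM hjM u hM hP hPL r hr₀ fun x' => ?_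
  obtain ⟨U, hU, n, hn, s, hs, hx, hXTaff, hH3⟩ := hloc (pL ((RelProj.domQ u pL chartL).ι x'))
  refine ⟨U, hU, n, hn, s, hs, hx, hXTaff, ?_⟩
  rw [RLpsiU.surjective_awayMap_iff M 𝒮M jM hjM u hM hP hPL r hr₀ U hU hn s hs hXTaff]
  exact hH3

end Charts

section Main

variable {X Y Z : Scheme.{u}} (f : X ⟶ Y) (g : Y ⟶ Z) [QuasiCompact (f ≫ g)]
  [QuasiSeparated (f ≫ g)] [LocallyOfFiniteType f]
  (L P : X.Modules) [Fact (PicF.IsInvertible L)] [Fact (PicF.IsInvertible P)]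
  (hU : IsAffineOpen (⊤ : Z.Opens)) [CompactSpace X] [QuasiSeparatedSpace X]

include hU in
/-- **Core of the composite Segre argument.** -/
theorem exists_veryAmple_level (hLva : RelProj.IsRelVeryAmple f L)
    (hcov : ∀ x : X, ∃ (V : Y.Opens) (_ : IsAffineOpen V) (s : Coh.structureModule X ⟶ P),
      f x ∈ V ∧ f ⁻¹ᵁ V = CohB1.genLocus P s ∧ ∃ R : Set Γ(Y, V),
        Subring.closure (Set.range (g.appLE ⊤ V (fun _ _ => trivial)).hom ∪ R) = ⊤ ∧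
        ∀ r ∈ R, ∃ π : Coh.structureModule X ⟶ P,
          SecTwist.val π (f ⁻¹ᵁ V) = (f.app V).hom r • SecTwist.val s (f ⁻¹ᵁ V)) :
    ∃ e₀ : ℕ, ∀ e, e₀ ≤ e → RelProj.IsRelVeryAmple (f ≫ g)
      (CohB1.tensorMod (CohB1.tensorMod L (CohB1.tensorPow P e)) P) := by
  classical
  have hL : PicF.IsInvertible L := Fact.out
  obtain ⟨𝒮L, jL, hjL⟩ := SymGradedExists.exists_isGrSymAlg L
  obtain ⟨D, hgood⟩ := VAmpleData.exists_good 𝒮L jL hjL hL hLva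
  obtain ⟨E, hE, 𝒯E, jE, hjE, β⟩ := D
  haveI : E.IsQuasicoherent := hE
  let lv : ∀ e, Lvl (f ≫ g) L P e := fun e => Classical.choice (nonempty_lvl (f ≫ g) L P e)
  have key : ∀ x : X, ∃ (O : X.Opens) (n : ℕ), 0 < n ∧ x ∈ O ∧ IsAffineOpen O ∧ ∃ e₀ : ℕ,
      ∀ e, e₀ ≤ e → ∃ c ∈ (lv e).𝒯.deg ⊤ hU n,
        RLpsiU.XT (lv e).𝒮M (uLv f g L P lv e) ⊤ n c = O ∧
        ∀ (hle' : O ≤ (f ≫ g) ⁻¹ᵁ ⊤) (t : Γ(X, O)),
          RLpsiU.H3 (uLv f g L P lv e) ⊤ hU n c O hle' t := by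
    intro x
    obtain ⟨V, hV, s, hxV, hgl, R, hR, hπ⟩ := hcov x
    obtain ⟨n, hn, a, ha, hxXT, -, hO, hH3⟩ := hgood x V hV hxV ⊤ trivial
    obtain ⟨e₀, he₀⟩ := exists_chart f g L P lv 𝒮L jL hjL hU s E 𝒯E jE hjE β V hV hgl n hn a ha
      hO hH3 R hR hπ
    exact ⟨_, n, hn, hxXT, hO, e₀, he₀⟩
  choose O n hn hxO hOaff e₀ hchart using key
  obtain ⟨t, ht⟩ := isCompact_univ.elim_finite_subcover (fun x : X => ((O x : X.Opens) : Set X))
    (fun x => (O x).2) (fun x _ => Set.mem_iUnion.mpr ⟨x, hxO x⟩)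
  refine ⟨t.sup e₀, fun e he => ?_⟩
  refine isRelVeryAmple_of_charts (f ≫ g)
    (CohB1.tensorMod (CohB1.tensorMod L (CohB1.tensorPow P e)) P) Fact.out
    (lv e).𝒮M (lv e).jM (lv e).hjM _ (lv e).𝒯 (lv e).jF (lv e).h𝒯 (uLv f g L P lv e) ?_
  intro y
  obtain ⟨x, hxt, hyx⟩ := Set.mem_iUnion₂.mp (ht (Set.mem_univ y))
  obtain ⟨c, hc, hXT, hH3⟩ := hchart x e ((Finset.le_sup (f := e₀) hxt).trans he)
  refine ⟨⊤, hU, n x, hn x, c, hc, ?_, ?_, ?_⟩
  · rw [hXT]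
    exact hyx
  · rw [hXT]
    exact hOaff x
  · exact RLpsiU.H3.congr_open (hle := le_preimage_top (f ≫ g) (O x)) hXT.symm _
      (fun t => hH3 _ t)

end Main

end Groth.Agent.Lib.helper28.CompSeg
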