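import Groth.Agent.S12467
import Groth.Agent.Lib.Helper28.VAmpleIso
import Groth.Agent.Lib.Helper12.RelAmpleComp

/-!
# Reduction of the composition theorem for very ample modules to an affine base (helper28)

`reduce_to_affine`: if `L ⊗ f^*(K^{⊗ n})` is very ample relative to `f ≫ g` for all large `n`
whenever the base is affine, then the same holds over every quasi-compact base.
-/

set_option autoImplicit false
set_option linter.style.haveILetI false
universe u
open CategoryTheory CategoryTheory.Limits AlgebraicGeometry TopologicalSpace Opposite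

namespace Groth.Agent.Lib.helper28.CompSeg

open Groth.Agent.Lib.helper12.PullAmpleRel Groth.Agent.Lib.helper12.AmplePow
  Groth.Agent.Lib.helper12.TensorRestrict Groth.Agent.Lib.helper11.InvMod

/-- Very ampleness restricts to opens of the base. -/
theorem isRelVeryAmple_restrict {X Y : Scheme.{u}} (q : X ⟶ Y) (L : X.Modules)
    (hL : PicF.IsInvertible L) (hva : RelProj.IsRelVeryAmple q L) (U : Y.Opens) :
    RelProj.IsRelVeryAmple (q ∣_ U) (L.restrict (q ⁻¹ᵁ U).ι) := by
  have hva1 := Groth.Agent.S12474.result q U.ι (q ⁻¹ᵁ U).ι (q ∣_ U)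
    (isPullback_morphismRestrict q U).flip L hL hva
  obtain ⟨E, hE, 𝒮, j, hj, P, p, chart, hP, O1, lam, hO1, i', hi, hip, ⟨e⟩⟩ := hva1
  exact ⟨E, hE, 𝒮, j, hj, P, p, chart, hP, O1, lam, hO1, i', hi, hip,
    ⟨(Scheme.Modules.restrictFunctorIsoPullback (q ⁻¹ᵁ U).ι).app L ≪≫ e⟩⟩

theorem reduce_to_affine
    (H : ∀ {X Y Z : Scheme.{u}} [IsAffine Z] (f : X ⟶ Y) [QuasiCompact f] [LocallyOfFiniteType f]
      (g : Y ⟶ Z) [QuasiCompact g] (L : X.Modules) (_ : PicF.IsInvertible L)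
      (_ : RelProj.IsRelVeryAmple f L) (K : Y.Modules) (_ : PicF.IsInvertible K)
      (_ : RelProj.IsRelVeryAmple g K),
      ∃ n₀ : ℕ, 0 < n₀ ∧ ∀ n : ℕ, n₀ ≤ n → RelProj.IsRelVeryAmple (f ≫ g)
        (CohB1.tensorMod L ((Scheme.Modules.pullback f).obj (CohB1.tensorPow K n))))
    {X Y Z : Scheme.{u}} [CompactSpace Z] (f : X ⟶ Y)
    [QuasiCompact f] [LocallyOfFiniteType f] (g : Y ⟶ Z) [QuasiCompact g]
    (L : X.Modules) (hL : PicF.IsInvertible L) (hLva : RelProj.IsRelVeryAmple f L)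
    (K : Y.Modules) (hK : PicF.IsInvertible K) (hKva : RelProj.IsRelVeryAmple g K) :
    ∃ n₀ : ℕ, 0 < n₀ ∧ ∀ n : ℕ, n₀ ≤ n →
      RelProj.IsRelVeryAmple (f ≫ g)
        (CohB1.tensorMod L ((Scheme.Modules.pullback f).obj (CohB1.tensorPow K n))) := by
  classical
  -- one affine open of the base
  have step : ∀ W : Z.affineOpens, ∃ n₀ : ℕ, 0 < n₀ ∧ ∀ n : ℕ, n₀ ≤ n →
      RelProj.IsRelVeryAmple ((f ≫ g) ∣_ W.1)
        ((CohB1.tensorMod L ((Scheme.Modules.pullback f).obj (CohB1.tensorPow K n))).restrict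
          ((f ≫ g) ⁻¹ᵁ W.1).ι) := by
    intro W
    let YW : Y.Opens := g ⁻¹ᵁ W.1
    let XW : X.Opens := f ⁻¹ᵁ YW
    let fW := f ∣_ YW
    let gW := g ∣_ W.1
    haveI : IsAffine (↑(W.1 : Z.Opens) : Scheme.{u}) := W.2
    have hLW : PicF.IsInvertible (L.restrict XW.ι) := isInvertible_restrict XW.ι hL
    have hKW : PicF.IsInvertible (K.restrict YW.ι) := isInvertible_restrict YW.ι hK
    have hLvaW : RelProj.IsRelVeryAmple fW (L.restrict XW.ι) :=
      isRelVeryAmple_restrict f L hL hLva YW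
    have hKvaW : RelProj.IsRelVeryAmple gW (K.restrict YW.ι) :=
      isRelVeryAmple_restrict g K hK hKva W.1
    obtain ⟨n₀, hpos, h⟩ := H fW gW (L.restrict XW.ι) hLW hLvaW (K.restrict YW.ι) hKW hKvaW
    refine ⟨n₀, hpos, fun n hn => ?_⟩
    let e₂ : ((Scheme.Modules.pullback f).obj (CohB1.tensorPow K n)).restrict XW.ι ≅
        (Scheme.Modules.pullback fW).obj (CohB1.tensorPow (K.restrict YW.ι) n) :=
      pullRestrictIso XW.ι f fW YW.ι (morphismRestrict_ι f YW).symm (CohB1.tensorPow K n) ≪≫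
        (Scheme.Modules.pullback fW).mapIso (restrictTensorPowIso YW.ι K n)
    let e : (CohB1.tensorMod L ((Scheme.Modules.pullback f).obj
        (CohB1.tensorPow K n))).restrict XW.ι ≅
        CohB1.tensorMod (L.restrict XW.ι)
          ((Scheme.Modules.pullback fW).obj (CohB1.tensorPow (K.restrict YW.ι) n)) :=
      restrictTensorIso XW.ι L _ ≪≫
        Groth.Agent.Lib.Lead.ModTensor.tensorIso (Iso.refl _) e₂
    have h1 : RelProj.IsRelVeryAmple (fW ≫ gW)
        ((CohB1.tensorMod L ((Scheme.Modules.pullback f).obj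
          (CohB1.tensorPow K n))).restrict XW.ι) :=
      Groth.Agent.Lib.helper28.VAmpleIso.isRelVeryAmple_of_iso e.symm (h n hn)
    rw [morphismRestrict_comp]
    exact h1
  choose N hNpos hN using step
  obtain ⟨t, ht⟩ := isCompact_univ.elim_finite_subcover
    (fun W : Z.affineOpens => (W.1 : Set Z)) (fun W => W.1.2)
    (fun z _ => by
      obtain ⟨W, hW, hzW, -⟩ := (Opens.isBasis_iff_nbhd.mp Z.isBasis_affineOpens)
        (show z ∈ (⊤ : Z.Opens) from trivial)
      exact Set.mem_iUnion.mpr ⟨⟨W, hW⟩, hzW⟩)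
  refine ⟨t.sup N + 1, Nat.succ_pos _, fun n hn => ?_⟩
  have hU : ⨆ W : {W // W ∈ t}, (W.1.1 : Z.Opens) = ⊤ := by
    rw [eq_top_iff]
    intro z _
    obtain ⟨W, hWt, hzW⟩ := Set.mem_iUnion₂.mp (ht (Set.mem_univ z))
    exact Opens.mem_iSup.mpr ⟨⟨W, hWt⟩, hzW⟩
  have hM : PicF.IsInvertible
      (CohB1.tensorMod L ((Scheme.Modules.pullback f).obj (CohB1.tensorPow K n))) :=
    Groth.Agent.Lib.helper12.TensorInv.isInvertible_tensorMod hL
      (isInvertible_pullback f (Groth.Agent.Lib.helper12.TensorInv.isInvertible_tensorPow hK n))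
  rw [Groth.Agent.S12467.result (f ≫ g) _ hM (fun W : {W // W ∈ t} => (W.1.1 : Z.Opens)) hU]
  intro W
  exact hN W.1 n (le_trans (le_trans (Finset.le_sup (f := N) W.2) (Nat.le_succ _)) hn)

end Groth.Agent.Lib.helper28.CompSeg
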