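import Groth.Agent.Lib.Helper28.SegreCore
import Groth.Agent.Lib.Helper28.VAmpleSec2
import Groth.Agent.Lib.Helper2.TensorQCoh
import Groth.Agent.Lib.Helper12.TensorInv
import Groth.Agent.Lib.Helper12.AmpleBasis

/-!
# Very ampleness of `L ⊗ L'` for `L` very ample and `L'` relatively generated (helper28)

EGA II 4.4.8 without quasi-compactness: the morphism `r_{L ⊗ L', ψ''}` attached to
`E ⊗ E' ⟶ q_*(L ⊗ L')` is everywhere defined and an immersion, checked with the local criterion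
(a Segre embedding done by hand on the level of the algebras).
* `isRelVeryAmple_tensor_of_gen`: generation hypothesis in terms of sections.
* `isRelVeryAmple_tensor_of_epi`: `q^* E' ⟶ L'` an epimorphism.
-/

set_option autoImplicit false
set_option linter.style.haveILetI false
universe u
open CategoryTheory AlgebraicGeometry TopologicalSpace Opposite TensorProduct

namespace Groth.Agent.Lib.helper28.SegreMain

open Groth.Agent.Lib.helper28 Groth.Agent.Lib.helper28.SegreCore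
  Groth.Agent.Lib.helper28.EpiGen Groth.Agent.Lib.helper28.SegreTwist
  Groth.Agent.Lib.helper28.VAmpleSec

variable {X Y : Scheme.{u}} (q : X ⟶ Y) (L L' : X.Modules)

/-- **One-sided Segre**: `L` very ample relative to `q`, `L'` invertible and generated, near every
point, by the image under `β' : E' ⟶ q_* L'` of a section of the quasi-coherent module `E'` over an
affine open of the base; then `L ⊗ L'` is very ample relative to `q`. -/
theorem isRelVeryAmple_tensor_of_gen (hL : PicF.IsInvertible L) (hL' : PicF.IsInvertible L')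
    (hva : RelProj.IsRelVeryAmple q L) (E' : Y.Modules) [E'.IsQuasicoherent]
    (β' : E' ⟶ (Scheme.Modules.pushforward q).obj L')
    (hgen : ∀ x : X, ∃ (U : Y.Opens) (_ : IsAffineOpen U) (e' : Γ(E', U)) (D : X.Opens), x ∈ D ∧
      IsGenOn L' (q ⁻¹ᵁ U) (show Γ(L', q ⁻¹ᵁ U) from (β'.app U) e') D) :
    RelProj.IsRelVeryAmple q (CohB1.tensorMod L L') := by
  have hLq : L.IsQuasicoherent :=
    Groth.Agent.Lib.helper12.AmpleBasis.isQuasicoherent_of_isInvertible hL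
  have hL'q : L'.IsQuasicoherent :=
    Groth.Agent.Lib.helper12.AmpleBasis.isQuasicoherent_of_isInvertible hL'
  have hL'' : PicF.IsInvertible (CohB1.tensorMod L L') :=
    Groth.Agent.Lib.helper12.TensorInv.isInvertible_tensorMod hL hL'
  have hL''q : (CohB1.tensorMod L L').IsQuasicoherent :=
    Groth.Agent.Lib.helper12.AmpleBasis.isQuasicoherent_of_isInvertible hL''
  obtain ⟨𝒮L, jL, hjL⟩ := SymGradedExists.exists_isGrSymAlg L
  obtain ⟨𝒮L'', jL'', hjL''⟩ := SymGradedExists.exists_isGrSymAlg (CohB1.tensorMod L L')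
  obtain ⟨DV, hgood⟩ := VAmpleData.exists_good 𝒮L jL hjL hL hva
  obtain ⟨E, hE, 𝒮, j, hj, β⟩ := DV
  have hEq : E.IsQuasicoherent := hE
  have hE''q : (CohB1.tensorMod E E').IsQuasicoherent :=
    Groth.Agent.Lib.helper2.TensorQCoh.isQuasicoherent_tensorMod E E'
  obtain ⟨𝒮'', j'', hj''⟩ := SymGradedExists.exists_isGrSymAlg (CohB1.tensorMod E E')
  obtain ⟨PL, pL, chartL, hPL⟩ := RelProjExists.exists_relProj 𝒮L''
  -- local data for `u''`
  have hloc : ∀ x : X, ∃ (U : Y.Opens) (hU : IsAffineOpen U) (n : ℕ) (_ : 0 < n)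
      (s : 𝒮''.presheaf.obj (op U)) (_ : s ∈ 𝒮''.deg U hU n),
      x ∈ RLpsiU.XT 𝒮L'' (uu2 q L L' 𝒮L'' jL'' hjL'' E E' 𝒮'' j'' hj'' β β') U n s ∧
      IsAffineOpen (RLpsiU.XT 𝒮L'' (uu2 q L L' 𝒮L'' jL'' hjL'' E E' 𝒮'' j'' hj'' β β') U n s) ∧
      ∀ t : Γ(X, RLpsiU.XT 𝒮L'' (uu2 q L L' 𝒮L'' jL'' hjL'' E E' 𝒮'' j'' hj'' β β') U n s),
        RLpsiU.H3 (uu2 q L L' 𝒮L'' jL'' hjL'' E E' 𝒮'' j'' hj'' β β') U hU n s _
          (RLpsiU.XT_le 𝒮L'' (uu2 q L L' 𝒮L'' jL'' hjL'' E E' 𝒮'' j'' hj'' β β') U n s) t := by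
    intro x
    obtain ⟨U, hU, e', D, hxD, hD⟩ := hgen x
    have hxU : q x ∈ U := hD.1 hxD
    obtain ⟨n, hn, a, ha, hxXT, hXTD, hXTaff, hH3⟩ := hgood x U hU hxU D hxD
    have heq : RLpsiU.XT 𝒮L'' (uu2 q L L' 𝒮L'' jL'' hjL'' E E' 𝒮'' j'' hj'' β β') U n
        (theta E E' 𝒮 j hj 𝒮'' j'' U hU e' a) =
        RLpsiU.XT 𝒮L (uu q L 𝒮L jL hjL E 𝒮 j hj β) U n a :=
      le_antisymm
        (XT2_le_XT q L L' 𝒮L jL hjL 𝒮L'' jL'' hjL'' E E' 𝒮 j hj 𝒮'' j'' hj'' β β' hL hL' U hU e'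
          n a ha)
        (XT_le_XT2 q L L' 𝒮L jL hjL 𝒮L'' jL'' hjL'' E E' 𝒮 j hj 𝒮'' j'' hj'' β β' hL U hU e' n a
          ha D hD hXTD)
    refine ⟨U, hU, n, hn, theta E E' 𝒮 j hj 𝒮'' j'' U hU e' a,
      tw_mem E 𝒮 j hj E' 𝒮'' j'' hj''.2 U hU e' n a ha, ?_, ?_, ?_⟩
    · rw [heq]
      exact hxXT
    · rw [heq]
      exact hXTaff
    · refine RLpsiU.H3.congr_open (hle := RLpsiU.XT_le 𝒮L (uu q L 𝒮L jL hjL E 𝒮 j hj β) U n a)
        heq.symm _ (fun t => ?_)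
      exact H3_transfer q L L' 𝒮L jL hjL 𝒮L'' jL'' hjL'' E E' 𝒮 j hj 𝒮'' j'' hj'' β β' U hU e' n
        a _ hXTaff _ t (hH3 t)
  have hdom : RelProj.domQ (uu2 q L L' 𝒮L'' jL'' hjL'' E E' 𝒮'' j'' hj'' β β') pL chartL = ⊤ := by
    refine top_le_iff.mp fun z _ => ?_
    obtain ⟨U, hU, n, hn, s, hs, hx, -, -⟩ := hloc (pL z)
    exact SymLineAmpleImm.mem_domQ_of_mem_XT (uu2 q L L' 𝒮L'' jL'' hjL'' E E' 𝒮'' j'' hj'' β β')
      hjL'' U hU hn s hs z hx
  refine isRelVeryAmple_of_domQ_eq_top q (CohB1.tensorMod L L') hL'' 𝒮L'' jL'' hjL'' pL chartL hPL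
    (CohB1.tensorMod E E') 𝒮'' j'' hj'' (uu2 q L L' 𝒮L'' jL'' hjL'' E E' 𝒮'' j'' hj'' β β') hdom ?_
  intro P p chart hP r hr
  have hr₀ := (ProjQComp.isProjQMapOn_iff
    (uu2 q L L' 𝒮L'' jL'' hjL'' E E' 𝒮'' j'' hj'' β β') r).mp hr
  refine RLpsiU.isImmersion_of_local (CohB1.tensorMod L L') 𝒮L'' jL'' hjL''
    (uu2 q L L' 𝒮L'' jL'' hjL'' E E' 𝒮'' j'' hj'' β β') hL'' hP hPL r hr₀ fun x' => ?_
  obtain ⟨U, hU, n, hn, s, hs, hx, hXTaff, hH3⟩ := hloc (pL ((RelProj.domQ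
    (uu2 q L L' 𝒮L'' jL'' hjL'' E E' 𝒮'' j'' hj'' β β') pL chartL).ι x'))
  refine ⟨U, hU, n, hn, s, hs, hx, hXTaff, ?_⟩
  rw [RLpsiU.surjective_awayMap_iff (CohB1.tensorMod L L') 𝒮L'' jL'' hjL''
    (uu2 q L L' 𝒮L'' jL'' hjL'' E E' 𝒮'' j'' hj'' β β') hL'' hP hPL r hr₀ U hU hn s hs hXTaff]
  exact hH3

/-- **EGA II 4.4.8** (no quasi-compactness needed): `L` very ample relative to `q`, `L'` invertible
and a quotient of `q^* E'` with `E'` quasi-coherent on the base; then `L ⊗ L'` is very ample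
relative to `q`. -/
theorem isRelVeryAmple_tensor_of_epi (hL : PicF.IsInvertible L) (hL' : PicF.IsInvertible L')
    (hva : RelProj.IsRelVeryAmple q L) (E' : Y.Modules) [E'.IsQuasicoherent]
    (φ : (Scheme.Modules.pullback q).obj E' ⟶ L') (hφ : Epi φ) :
    RelProj.IsRelVeryAmple q (CohB1.tensorMod L L') := by
  let β' : E' ⟶ (Scheme.Modules.pushforward q).obj L' :=
    (Scheme.Modules.pullbackPushforwardAdjunction q).homEquiv E' L' φ
  have hβ' : Epi (((Scheme.Modules.pullbackPushforwardAdjunction q).homEquiv E' L').symm β') := by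
    rw [Equiv.symm_apply_apply]
    exact hφ
  exact isRelVeryAmple_tensor_of_gen q L L' hL hL' hva E' β'
    (fun x => exists_isGenOn_of_epi q E' L' hL' β' hβ' x)

end Groth.Agent.Lib.helper28.SegreMain
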