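import Groth.Agent.Lib.Helper28.RelTwistCanon
import Groth.Agent.Lib.Helper28.ProjBundleEpi
import Groth.Agent.Lib.Helper28.SegreMain
import Groth.Agent.Lib.Helper11.InvMod

/-!
# The step `k → k+1` for composites (helper28)

`exists_epi_of_isRelVeryAmple`: a module `K` very ample relative to `g : Y ⟶ Z` is a quotient of
`g^* G` with `G` quasi-coherent on `Z` (no finiteness needed).

`isRelVeryAmple_tensor_pullback`: `M` very ample for `f ≫ g`, `K` very ample for `g` ⇒
`M ⊗ f^* K` very ample for `f ≫ g` (EGA II 4.4.8 applied to the quotient `(f ≫ g)^* G → f^* K`).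
-/

set_option autoImplicit false
universe u
open CategoryTheory CategoryTheory.Limits AlgebraicGeometry TopologicalSpace Opposite

namespace Groth.Agent.Lib.helper28.CompSeg

/-- A very ample module is a quotient of the pullback of a quasi-coherent module on the base. -/
theorem exists_epi_of_isRelVeryAmple {Y Z : Scheme.{u}} (g : Y ⟶ Z) (K : Y.Modules)
    (hKva : RelProj.IsRelVeryAmple g K) :
    ∃ (G : Z.Modules) (_ : G.IsQuasicoherent) (s : (Scheme.Modules.pullback g).obj G ⟶ K),
      Epi s := by
  obtain ⟨E, hE, 𝒮, j, hj, P, p, chart, hP, O1, lam, hO1, i, himm, hip, ⟨τ⟩⟩ := hKva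
  have hEq : E.IsQuasicoherent := hE
  obtain ⟨φ, hφ⟩ := Groth.Agent.Lib.helper28.RelTwistCanon.exists_canon_hom lam hP hO1
    (d := 1) (by simp) E j hj.2
  have hepi : Epi (((Scheme.Modules.pullbackPushforwardAdjunction p).homEquiv E O1).symm φ) :=
    Groth.Agent.Lib.helper28.ProjBundleEpi.epi_adj E 𝒮 j hj p chart O1 lam hO1 φ
      (fun U hU e y => hφ U hU e y.1 y.2)
  have hpres : (Scheme.Modules.pullback i).PreservesEpimorphisms :=
    Functor.preservesEpimorphisms_of_adjunction (Scheme.Modules.pullbackPushforwardAdjunction i)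
  have h1 : Epi ((Scheme.Modules.pullback i).map
      (((Scheme.Modules.pullbackPushforwardAdjunction p).homEquiv E O1).symm φ)) :=
    (Scheme.Modules.pullback i).map_epi _
  let s : (Scheme.Modules.pullback g).obj E ⟶ K :=
    (Scheme.Modules.pullbackCongr hip).inv.app E ≫ (Scheme.Modules.pullbackComp i p).inv.app E ≫
      (Scheme.Modules.pullback i).map
        (((Scheme.Modules.pullbackPushforwardAdjunction p).homEquiv E O1).symm φ) ≫ τ.inv
  have hs : Epi s := by
    have e3 : Epi ((Scheme.Modules.pullback i).map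
        (((Scheme.Modules.pullbackPushforwardAdjunction p).homEquiv E O1).symm φ) ≫ τ.inv) :=
      epi_comp _ _
    have e2 : Epi ((Scheme.Modules.pullbackComp i p).inv.app E ≫
        (Scheme.Modules.pullback i).map
          (((Scheme.Modules.pullbackPushforwardAdjunction p).homEquiv E O1).symm φ) ≫ τ.inv) :=
      epi_comp _ _
    exact epi_comp _ _
  exact ⟨E, hEq, s, hs⟩

/-- **Step `k → k+1`**: `M` very ample for `f ≫ g` and `K` very ample for `g` ⇒ `M ⊗ f^* K` very
ample for `f ≫ g`. -/
theorem isRelVeryAmple_tensor_pullback {X Y Z : Scheme.{u}} (f : X ⟶ Y) (g : Y ⟶ Z)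
    (M : X.Modules) (hM : PicF.IsInvertible M) (hMva : RelProj.IsRelVeryAmple (f ≫ g) M)
    (K : Y.Modules) (hK : PicF.IsInvertible K) (hKva : RelProj.IsRelVeryAmple g K) :
    RelProj.IsRelVeryAmple (f ≫ g) (CohB1.tensorMod M ((Scheme.Modules.pullback f).obj K)) := by
  obtain ⟨G, hG, s, hs⟩ := exists_epi_of_isRelVeryAmple g K hKva
  have hpres : (Scheme.Modules.pullback f).PreservesEpimorphisms :=
    Functor.preservesEpimorphisms_of_adjunction (Scheme.Modules.pullbackPushforwardAdjunction f)
  have h1 : Epi ((Scheme.Modules.pullback f).map s) := (Scheme.Modules.pullback f).map_epi _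
  let φ : (Scheme.Modules.pullback (f ≫ g)).obj G ⟶ (Scheme.Modules.pullback f).obj K :=
    (Scheme.Modules.pullbackComp f g).inv.app G ≫ (Scheme.Modules.pullback f).map s
  have hφ : Epi φ := epi_comp _ _
  exact Groth.Agent.Lib.helper28.SegreMain.isRelVeryAmple_tensor_of_epi (f ≫ g) M
    ((Scheme.Modules.pullback f).obj K) hM
    (Groth.Agent.Lib.helper11.InvMod.isInvertible_pullback f hK) hMva G φ hφ

end Groth.Agent.Lib.helper28.CompSeg
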