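import Mathlib

set_option autoImplicit false
universe u

/-! Ring-level lemmas for the charts of the pointed affine cone inside the projective cone
(helper28).  `B = A[z]` graded with `z` of degree one, `ev : B → A` "set `z = 1`", `f ∈ A`
homogeneous: the homomorphism `B_(ψ f) → A_f`, `b/ψ(f)^n ↦ ev(b)/f^n`, and its compatibility with
`B_(z) → A → A_f` on `Proj B`. -/

namespace Groth.Agent.Lib.helper28.ConeChartAlg

open HomogeneousLocalization AlgebraicGeometry CategoryTheory

section Eval

variable {B τ : Type u} [CommRing B] [SetLike τ B] [AddSubgroupClass τ B]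
  (ℬ : ℕ → τ) [GradedRing ℬ] {T : Type u} [CommRing T] (e : B →+* T)

/-- Evaluation `B_(w) → T` induced by `e : B → T` with `e w` a unit. -/
noncomputable def awayEval (w : B) (hw : IsUnit (e w)) : Away ℬ w →+* T :=
  (IsLocalization.Away.lift w (g := e) hw).comp (algebraMap (Away ℬ w) (Localization.Away w))

theorem awayEval_mk_mul {k : ℕ} {w : B} (hwk : w ∈ ℬ k) (hw : IsUnit (e w)) (n : ℕ) (b : B)
    (hb : b ∈ ℬ (n • k)) :
    awayEval ℬ e w hw (Away.mk ℬ hwk n b hb) * e w ^ n = e b := by
  change IsLocalization.Away.lift w (g := e) hw ((Away.mk ℬ hwk n b hb).val) * _ = _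
  rw [Away.val_mk, Localization.mk_eq_mk']
  have h1 : IsLocalization.Away.lift w (g := e) hw
      (algebraMap B (Localization.Away w) (w ^ n)) = e w ^ n := by
    rw [IsLocalization.Away.lift_eq, map_pow]
  rw [← h1, ← map_mul]
  have h2 : IsLocalization.mk' (Localization.Away w) b
      (⟨w ^ n, pow_mem (Submonoid.mem_powers w) n⟩ : Submonoid.powers w) *
      algebraMap B (Localization.Away w) (w ^ n) = algebraMap B (Localization.Away w) b :=
    IsLocalization.mk'_spec _ b ⟨w ^ n, pow_mem (Submonoid.mem_powers w) n⟩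
  rw [h2, IsLocalization.Away.lift_eq]

theorem comp_awayEval {T' : Type u} [CommRing T'] (ρ : T →+* T') (w : B) (hw : IsUnit (e w)) :
    ρ.comp (awayEval ℬ e w hw) = awayEval ℬ (ρ.comp e) w (hw.map ρ) := by
  have h : ρ.comp (IsLocalization.Away.lift w (g := e) hw) =
      IsLocalization.Away.lift (S := Localization.Away w) w (g := ρ.comp e) (hw.map ρ) := by
    apply IsLocalization.ringHom_ext (Submonoid.powers w)
    ext b
    simp [IsLocalization.Away.lift_eq]
  rw [awayEval, ← RingHom.comp_assoc, h]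
  rfl

theorem awayEval_comp_awayMap {k : ℕ} {f' g x : B} (hg : g ∈ ℬ k) (hx : x = f' * g)
    (hux : IsUnit (e x)) (huf : IsUnit (e f')) :
    (awayEval ℬ e x hux).comp (awayMap ℬ hg hx) = awayEval ℬ e f' huf := by
  refine RingHom.ext fun c => ?_
  change IsLocalization.Away.lift x (g := e) hux ((awayMap ℬ hg hx c).val) =
    IsLocalization.Away.lift f' (g := e) huf c.val
  rw [val_awayMap]
  have h : (IsLocalization.Away.lift (S := Localization.Away x) x (g := e) hux).comp
      (Localization.awayLift (algebraMap B (Localization.Away x)) f'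
        (isUnit_of_dvd_unit (map_dvd _ ⟨_, hx⟩) (IsLocalization.Away.algebraMap_isUnit x))) =
      IsLocalization.Away.lift (S := Localization.Away f') f' (g := e) huf := by
    apply IsLocalization.ringHom_ext (Submonoid.powers f')
    ext b
    simp [Localization.awayLift, IsLocalization.Away.lift_eq]
  exact congr($h c.val)

theorem awayι_eq_of_deg_eq {m m' : ℕ} (h : m = m') {x : B} (hx : x ∈ ℬ m) (hm : 0 < m)
    (hx' : x ∈ ℬ m') (hm' : 0 < m') :
    Proj.awayι ℬ x hx hm = Proj.awayι ℬ x hx' hm' := by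
  subst h
  rfl

end Eval

section Cone

variable {A B σ τ : Type u} [CommRing A] [SetLike σ A] [AddSubgroupClass σ A]
  [CommRing B] [SetLike τ B] [AddSubgroupClass τ B]
  {𝒜 : ℕ → σ} {ℬ : ℕ → τ} [GradedRing 𝒜] [GradedRing ℬ]
  (ψ : 𝒜 →+*ᵍ ℬ) (z : B) (hz : z ∈ ℬ 1) (ev : B →+* A) (hev : ∀ a, ev (ψ a) = a)
  (hevz : ev z = 1) (f : A)

include hev in
theorem isUnit_map_f : IsUnit (((algebraMap A (Localization.Away f)).comp ev) (ψ f)) := by
  rw [RingHom.comp_apply, hev]
  exact IsLocalization.Away.algebraMap_isUnit f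

/-- `B_(ψ f) → A_f`, `b/ψ(f)^n ↦ ev(b)/f^n`. -/
noncomputable def beta : Away ℬ (ψ f) →+* Localization.Away f :=
  awayEval ℬ ((algebraMap A (Localization.Away f)).comp ev) (ψ f) (isUnit_map_f ψ ev hev f)

theorem beta_comp_map {d : ℕ} (hf : f ∈ 𝒜 d) :
    (beta ψ ev hev f).comp (Away.map ψ f) =
      algebraMap (Away 𝒜 f) (Localization.Away f) := by
  refine RingHom.ext fun c => ?_
  obtain ⟨n, a, ha, rfl⟩ := Away.mk_surjective 𝒜 hf c
  rw [RingHom.comp_apply, Away.map_mk]
  have h1 := awayEval_mk_mul ℬ ((algebraMap A (Localization.Away f)).comp ev) (ψ.map_mem hf)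
    (isUnit_map_f ψ ev hev f) n (ψ a) (ψ.map_mem ha)
  rw [RingHom.comp_apply, RingHom.comp_apply, hev] at h1
  change _ * algebraMap A (Localization.Away f) (ev (ψ f)) ^ n = _ at h1
  rw [hev] at h1
  have h2 : algebraMap (Away 𝒜 f) (Localization.Away f) (Away.mk 𝒜 hf n a ha) *
      algebraMap A (Localization.Away f) f ^ n = algebraMap A (Localization.Away f) a := by
    change (Away.mk 𝒜 hf n a ha).val * _ = _
    rw [Away.val_mk, ← map_pow, Localization.mk_eq_mk']
    exact IsLocalization.mk'_spec _ a ⟨f ^ n, pow_mem (Submonoid.mem_powers f) n⟩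
  exact ((IsLocalization.Away.algebraMap_isUnit (S := Localization.Away f) f).pow
    n).mul_left_injective (h1.trans h2.symm)

include hevz in
theorem isUnit_ev_z : IsUnit (ev z) := by
  rw [hevz]
  exact isUnit_one

/-- The two chart maps `Spec A_f → Proj B` agree. -/
theorem specMap_beta_awayι {d : ℕ} (hd : 0 < d) (hf : f ∈ 𝒜 d) :
    Spec.map (CommRingCat.ofHom (beta ψ ev hev f)) ≫
        Proj.awayι ℬ (ψ f) (ψ.map_mem hf) hd =
      Spec.map (CommRingCat.ofHom ((algebraMap A (Localization.Away f)).comp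
        (awayEval ℬ ev z (isUnit_ev_z z ev hevz)))) ≫ Proj.awayι ℬ z hz one_pos := by
  set e := (algebraMap A (Localization.Away f)).comp ev with he
  have hux : IsUnit (e (z * ψ f)) := by
    rw [map_mul]
    refine IsUnit.mul ?_ (isUnit_map_f ψ ev hev f)
    rw [he, RingHom.comp_apply, hevz, map_one]
    exact isUnit_one
  have huz : IsUnit (e z) := by
    rw [he, RingHom.comp_apply, hevz, map_one]
    exact isUnit_one
  -- the common refinement `D₊(z ψ f)`
  have h1 := Proj.SpecMap_awayMap_awayι ℬ (f := z) hz one_pos (ψ.map_mem hf)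
    (x := z * ψ f) rfl
  have h2 := Proj.SpecMap_awayMap_awayι ℬ (f := ψ f) (ψ.map_mem hf) hd hz
    (x := z * ψ f) (mul_comm _ _)
  have e1 : beta ψ ev hev f =
      (awayEval ℬ e (z * ψ f) hux).comp (awayMap ℬ hz (mul_comm z (ψ f))) :=
    (awayEval_comp_awayMap ℬ e hz (mul_comm z (ψ f)) hux (isUnit_map_f ψ ev hev f)).symm
  have e2 : (algebraMap A (Localization.Away f)).comp (awayEval ℬ ev z (isUnit_ev_z z ev hevz)) =
      (awayEval ℬ e (z * ψ f) hux).comp (awayMap ℬ (ψ.map_mem hf) rfl) := by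
    rw [comp_awayEval]
    exact (awayEval_comp_awayMap ℬ e (ψ.map_mem hf) rfl hux huz).symm
  rw [e1, e2, CommRingCat.ofHom_comp, CommRingCat.ofHom_comp, Spec.map_comp, Spec.map_comp,
    Category.assoc, Category.assoc, h1, h2]
  exact congrArg _ (awayι_eq_of_deg_eq ℬ (Nat.add_comm d 1) _ _ _ _)

end Cone

end Groth.Agent.Lib.helper28.ConeChartAlg
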