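import Mathlib

set_option autoImplicit false

universe u

/-! A graded ring `B = A₀[z]` over a graded ring `A₀`, with `z` of degree `1`:
`B_(z) ≅ A₀` (helper28). -/

namespace Groth.Agent.Lib.helper28.PolyGrade2

open AlgebraicGeometry HomogeneousLocalization
open scoped HomogeneousIdeal

variable {A₀ B : Type u} [CommRing A₀] [CommRing B] (𝒜 : ℕ → AddSubgroup A₀) [GradedRing 𝒜]
  (ℬ : ℕ → AddSubgroup B) [GradedRing ℬ] (ι : A₀ →+* B) (z : B)

theorem z_pow_mem (hz : z ∈ ℬ 1) (j : ℕ) : z ^ j ∈ ℬ j := by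
  have := SetLike.pow_mem_graded j hz
  simpa using this

theorem map_proj (hι : ∀ (k : ℕ) (x : A₀), x ∈ 𝒜 k → ι x ∈ ℬ k) (k : ℕ) (a : A₀) :
    ι (GradedRing.proj 𝒜 k a) = GradedRing.proj ℬ k (ι a) := by
  let ψ : 𝒜 →+*ᵍ ℬ := { ι with map_mem := fun {k x} hx => hι k x hx }
  exact ψ.map_directSumDecompose

theorem proj_eval₂ (hι : ∀ (k : ℕ) (x : A₀), x ∈ 𝒜 k → ι x ∈ ℬ k) (hz : z ∈ ℬ 1) (n : ℕ)
    (P : Polynomial A₀) :
    GradedRing.proj ℬ n (Polynomial.eval₂ ι z P) =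
      ∑ j ∈ Finset.range (n + 1), ι (GradedRing.proj 𝒜 (n - j) (P.coeff j)) * z ^ j := by
  classical
  induction P using Polynomial.induction_on' with
  | add p q hp hq =>
    rw [Polynomial.eval₂_add, map_add, hp, hq, ← Finset.sum_add_distrib]
    refine Finset.sum_congr rfl fun j _ => ?_
    rw [Polynomial.coeff_add, map_add, map_add, add_mul]
  | monomial j a =>
    rw [Polynomial.eval₂_monomial, GradedRing.proj_apply]
    by_cases hjn : j ≤ n
    · rw [DirectSum.coe_decompose_mul_of_right_mem_of_le ℬ (z_pow_mem ℬ z hz j) hjn]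
      rw [Finset.sum_eq_single j]
      · rw [Polynomial.coeff_monomial, if_pos rfl, map_proj 𝒜 ℬ ι hι, GradedRing.proj_apply]
      · intro j' _ hj'
        rw [Polynomial.coeff_monomial, if_neg (Ne.symm hj'), map_zero, map_zero, zero_mul]
      · intro hj
        exact absurd (Finset.mem_range.mpr (Nat.lt_succ_of_le hjn)) hj
    · rw [DirectSum.coe_decompose_mul_of_right_mem_of_not_le ℬ (z_pow_mem ℬ z hz j) hjn]
      symm
      refine Finset.sum_eq_zero fun j' hj' => ?_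
      have hne : j ≠ j' := by
        have := Finset.mem_range.mp hj'
        omega
      rw [Polynomial.coeff_monomial, if_neg hne, map_zero, map_zero, zero_mul]

/-- A homogeneous element of degree `n` is a sum of terms `ι(c_j) z^j` with `c_j` of degree
`n - j`. -/
theorem eq_sum_of_mem (hι : ∀ (k : ℕ) (x : A₀), x ∈ 𝒜 k → ι x ∈ ℬ k) (hz : z ∈ ℬ 1) (n : ℕ)
    (P : Polynomial A₀) (hy : Polynomial.eval₂ ι z P ∈ ℬ n) :
    Polynomial.eval₂ ι z P =
      ∑ j ∈ Finset.range (n + 1), ι (GradedRing.proj 𝒜 (n - j) (P.coeff j)) * z ^ j := by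
  classical
  rw [← proj_eval₂ 𝒜 ℬ ι z hι hz n P, GradedRing.proj_apply]
  exact (DirectSum.decompose_of_mem_same _ hy).symm

theorem mem_smul_one (hι : ∀ (k : ℕ) (x : A₀), x ∈ 𝒜 k → ι x ∈ ℬ k) {k : ℕ} {x : A₀}
    (hx : x ∈ 𝒜 k) : ι x ∈ ℬ (k • 1) := by
  simpa using hι k x hx

theorem proj_mem (k : ℕ) (a : A₀) : GradedRing.proj 𝒜 k a ∈ 𝒜 k := by
  classical
  rw [GradedRing.proj_apply]
  exact SetLike.coe_mem _

/-- Every element of `B_(z)` is a sum of fractions `ι(x)/z^k` with `x` of degree `k`. -/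
theorem eq_sum_mk (hι : ∀ (k : ℕ) (x : A₀), x ∈ 𝒜 k → ι x ∈ ℬ k) (hz : z ∈ ℬ 1)
    (n : ℕ) (P : Polynomial A₀) (hy : Polynomial.eval₂ ι z P ∈ ℬ (n • 1)) :
    Away.mk ℬ hz n (Polynomial.eval₂ ι z P) hy =
      ∑ j ∈ Finset.range (n + 1), Away.mk ℬ hz (n - j)
        (ι (GradedRing.proj 𝒜 (n - j) (P.coeff j)))
        (mem_smul_one 𝒜 ℬ ι hι (proj_mem 𝒜 (n - j) (P.coeff j))) := by
  classical
  have hy' : Polynomial.eval₂ ι z P ∈ ℬ n := by simpa using hy
  apply HomogeneousLocalization.val_injective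
  rw [← HomogeneousLocalization.algebraMap_apply, ← HomogeneousLocalization.algebraMap_apply,
    map_sum]
  simp only [HomogeneousLocalization.algebraMap_apply, Away.val_mk]
  have h1 := eq_sum_of_mem 𝒜 ℬ ι z hι hz n P hy'
  have h2 : (Localization.mk (Polynomial.eval₂ ι z P)
      (⟨z ^ n, pow_mem (Submonoid.mem_powers z) n⟩ : Submonoid.powers z) : Localization.Away z) =
      Localization.mk (∑ j ∈ Finset.range (n + 1),
        ι (GradedRing.proj 𝒜 (n - j) (P.coeff j)) * z ^ j) ⟨z ^ n, pow_mem (Submonoid.mem_powers z) n⟩ :=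
    congrArg (fun y => Localization.mk y _) h1
  refine h2.trans ?_
  rw [Localization.mk_sum]
  refine Finset.sum_congr rfl fun j hj => ?_
  have hjn : j ≤ n := Nat.lt_succ_iff.mp (Finset.mem_range.mp hj)
  rw [Localization.mk_eq_mk_iff, Localization.r_iff_exists]
  refine ⟨1, ?_⟩
  simp only [OneMemClass.coe_one, one_mul]
  rw [← pow_sub_mul_pow z hjn]
  ring

theorem away_hom_ext {R : Type*} [Semiring R]
    (hι : ∀ (k : ℕ) (x : A₀), x ∈ 𝒜 k → ι x ∈ ℬ k) (hz : z ∈ ℬ 1)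
    (hpoly : Function.Surjective (Polynomial.eval₂RingHom ι z))
    (F G : Away ℬ z →+* R)
    (h : ∀ (k : ℕ) (x : A₀), x ∈ 𝒜 k → ∀ q : Away ℬ z,
      q.val = Localization.mk (ι x) ⟨z ^ k, pow_mem (Submonoid.mem_powers z) k⟩ → F q = G q) :
    F = G := by
  ext q
  obtain ⟨n, y, hy, rfl⟩ := Away.mk_surjective ℬ hz q
  obtain ⟨P, rfl⟩ := hpoly y
  have hy2 : Polynomial.eval₂ ι z P ∈ ℬ (n • 1) := hy
  change F (Away.mk ℬ hz n (Polynomial.eval₂ ι z P) hy2) =
    G (Away.mk ℬ hz n (Polynomial.eval₂ ι z P) hy2)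
  rw [eq_sum_mk 𝒜 ℬ ι z hι hz n P hy2, map_sum, map_sum]
  refine Finset.sum_congr rfl fun j _ => ?_
  exact h (n - j) _ (proj_mem 𝒜 (n - j) (P.coeff j)) _ (Away.val_mk _ _ _ _ _)

theorem bijective_of_spec (hι : ∀ (k : ℕ) (x : A₀), x ∈ 𝒜 k → ι x ∈ ℬ k) (hz : z ∈ ℬ 1)
    (hpoly : Function.Bijective (Polynomial.eval₂RingHom ι z))
    (θ : Away ℬ z →+* A₀)
    (hθ : ∀ (q : Away ℬ z) (k : ℕ) (x : A₀), x ∈ 𝒜 k →
      q.val = Localization.mk (ι x) ⟨z ^ k, pow_mem (Submonoid.mem_powers z) k⟩ → θ q = x) :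
    Function.Bijective θ := by
  classical
  constructor
  · rw [injective_iff_map_eq_zero]
    intro q hq
    obtain ⟨n, y, hy, rfl⟩ := Away.mk_surjective ℬ hz q
    obtain ⟨P, rfl⟩ := hpoly.2 y
    have hy2 : Polynomial.eval₂ ι z P ∈ ℬ (n • 1) := hy
    have hy' : Polynomial.eval₂ ι z P ∈ ℬ n := by simpa using hy2
    replace hq : θ (Away.mk ℬ hz n (Polynomial.eval₂ ι z P) hy2) = 0 := hq
    change Away.mk ℬ hz n (Polynomial.eval₂ ι z P) hy2 = 0
    rw [eq_sum_mk 𝒜 ℬ ι z hι hz n P hy2, map_sum] at hq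
    have hq' : ∑ j ∈ Finset.range (n + 1), GradedRing.proj 𝒜 (n - j) (P.coeff j) = 0 := by
      rw [← hq]
      refine Finset.sum_congr rfl fun j _ => ?_
      exact (hθ _ (n - j) _ (proj_mem 𝒜 (n - j) (P.coeff j)) (Away.val_mk _ _ _ _ _)).symm
    -- each term vanishes
    have hterm : ∀ j₀ ∈ Finset.range (n + 1), GradedRing.proj 𝒜 (n - j₀) (P.coeff j₀) = 0 := by
      intro j₀ hj₀
      have hj₀n : j₀ ≤ n := Nat.lt_succ_iff.mp (Finset.mem_range.mp hj₀)
      have h1 := congrArg (GradedRing.proj 𝒜 (n - j₀)) hq'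
      rw [map_sum, map_zero, Finset.sum_eq_single j₀] at h1
      · rw [GradedRing.proj_apply, DirectSum.decompose_of_mem_same _
          (proj_mem 𝒜 (n - j₀) (P.coeff j₀))] at h1
        exact h1
      · intro j hj hne
        have hjn : j ≤ n := Nat.lt_succ_iff.mp (Finset.mem_range.mp hj)
        have hne' : n - j ≠ n - j₀ := by omega
        rw [GradedRing.proj_apply, DirectSum.decompose_of_mem_ne _
          (proj_mem 𝒜 (n - j) (P.coeff j)) hne']
      · intro h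
        exact absurd hj₀ h
    have hy0 : Polynomial.eval₂ ι z P = 0 := by
      rw [eq_sum_of_mem 𝒜 ℬ ι z hι hz n P hy']
      refine Finset.sum_eq_zero fun j hj => ?_
      rw [hterm j hj, map_zero, zero_mul]
    rw [HomogeneousLocalization.ext_iff_val, Away.val_mk, val_zero]
    exact (congrArg (fun y => Localization.mk y _) hy0).trans (Localization.mk_zero _)
  · intro x
    refine ⟨∑ k ∈ (DirectSum.decompose 𝒜 x).support, Away.mk ℬ hz k
      (ι (GradedRing.proj 𝒜 k x)) (mem_smul_one 𝒜 ℬ ι hι (proj_mem 𝒜 k x)), ?_⟩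
    rw [map_sum]
    have h1 : ∀ k ∈ (DirectSum.decompose 𝒜 x).support,
        θ (Away.mk ℬ hz k (ι (GradedRing.proj 𝒜 k x))
          (mem_smul_one 𝒜 ℬ ι hι (proj_mem 𝒜 k x))) = GradedRing.proj 𝒜 k x := fun k _ =>
      hθ _ k _ (proj_mem 𝒜 k x) (Away.val_mk _ _ _ _ _)
    rw [Finset.sum_congr rfl h1]
    simp only [GradedRing.proj_apply]
    exact DirectSum.sum_support_decompose 𝒜 x

theorem z_mem_nonZeroDivisors (hpoly : Function.Bijective (Polynomial.eval₂RingHom ι z)) :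
    z ∈ nonZeroDivisors B := by
  rw [mem_nonZeroDivisors_iff_right]
  intro y hy
  obtain ⟨P, rfl⟩ := hpoly.2 y
  have h1 : Polynomial.eval₂RingHom ι z (P * Polynomial.X) = 0 := by
    rw [map_mul, Polynomial.coe_eval₂RingHom, Polynomial.eval₂_X]
    exact hy
  have h2 : P * Polynomial.X = 0 := hpoly.1 (h1.trans (map_zero _).symm)
  have h3 : P = 0 := by
    have := Polynomial.X_mem_nonzeroDivisors (R := A₀)
    exact (mem_nonZeroDivisors_iff_right.mp this) P h2
  rw [h3, map_zero]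

end Groth.Agent.Lib.helper28.PolyGrade2
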