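import Mathlib

set_option autoImplicit false

universe u

/-! `D₊(g) ⟶ Proj 𝒜` has vanishing kernel ideal sheaf when `g` is a homogeneous nonzerodivisor of
positive degree; general gradings by additive subgroups (helper28, generalising helper16's proof of
S8272 from gradings by submodules). -/

namespace Groth.Agent.Lib.helper28.ProjKerBot

open CategoryTheory CategoryTheory.Limits AlgebraicGeometry Opposite TopologicalSpace

lemma awayLift_injective {A : Type u} [CommRing A] (f g x : A) (hx : x = f * g)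
    (hnz : g ∈ nonZeroDivisors A)
    (hu : IsUnit (algebraMap A (Localization.Away x) f)) :
    Function.Injective (Localization.awayLift (algebraMap A (Localization.Away x)) f hu) := by
  rw [injective_iff_map_eq_zero]
  intro z hz
  obtain ⟨a, ⟨_, n, rfl⟩, rfl⟩ := IsLocalization.exists_mk'_eq (Submonoid.powers f) z
  have h1 : IsLocalization.mk' (Localization.Away f) a (⟨f ^ n, n, rfl⟩ : Submonoid.powers f) *
      algebraMap A (Localization.Away f) (f ^ n) = algebraMap A (Localization.Away f) a :=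
    IsLocalization.mk'_spec _ _ _
  have h2 := congrArg (Localization.awayLift (algebraMap A (Localization.Away x)) f hu) h1
  rw [map_mul, hz, zero_mul] at h2
  have h3 : Localization.awayLift (algebraMap A (Localization.Away x)) f hu
      (algebraMap A (Localization.Away f) a) = algebraMap A (Localization.Away x) a :=
    IsLocalization.Away.lift_eq f hu a
  rw [h3] at h2
  have h4 := (IsLocalization.map_eq_zero_iff (Submonoid.powers x) (Localization.Away x) a).1 h2.symm
  obtain ⟨⟨_, k, rfl⟩, hk⟩ := h4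
  have h5 : g ^ k * (f ^ k * a) = 0 := by
    rw [← mul_assoc, ← mul_pow, mul_comm g f, ← hx]
    exact hk
  have h6 : f ^ k * a = 0 :=
    (mul_left_mem_nonZeroDivisors_eq_zero_iff (pow_mem hnz k)).1 h5
  rw [IsLocalization.mk'_eq_zero_iff]
  exact ⟨⟨f ^ k, k, rfl⟩, h6⟩

variable {A σ : Type u} [CommRing A] [SetLike σ A] [AddSubgroupClass σ A]
  (𝒜 : ℕ → σ) [GradedRing 𝒜]

open HomogeneousLocalization in
lemma awayMap_injective {f g x : A} {d : ℕ} (hg : g ∈ 𝒜 d)
    (hx : x = f * g) (hnz : g ∈ nonZeroDivisors A) :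
    Function.Injective (awayMap 𝒜 hg hx) := by
  intro a b hab
  have h1 := congrArg HomogeneousLocalization.val hab
  rw [val_awayMap, val_awayMap] at h1
  exact HomogeneousLocalization.val_injective _ (awayLift_injective f g x hx hnz _ h1)

/-- restriction from `D₊(f)` to `D₊(f g)` is injective. -/
lemma res_injective {f g : A} {m d : ℕ} (hf : f ∈ 𝒜 m) (hm : 0 < m)
    (hg : g ∈ 𝒜 d) (hnz : g ∈ nonZeroDivisors A)
    (W : (Proj 𝒜).Opens) (hW : W = Proj.basicOpen 𝒜 g ⊓ Proj.basicOpen 𝒜 f)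
    (hle : W ≤ Proj.basicOpen 𝒜 f) :
    Function.Injective ((Proj 𝒜).presheaf.map (homOfLE hle).op).hom := by
  have hW' : W = Proj.basicOpen 𝒜 (f * g) := by rw [hW, Proj.basicOpen_mul, inf_comm]
  subst hW'
  have h1 := Proj.awayMap_awayToSection 𝒜 (f := f) hg (x := f * g) rfl
  have hiso : IsIso (Proj.awayToSection 𝒜 f) :=
    (Proj.basicOpenIsoAway 𝒜 f hf hm).isIso_hom
  have h2 : (Proj 𝒜).presheaf.map (homOfLE hle).op =
      inv (Proj.awayToSection 𝒜 f) ≫ CommRingCat.ofHom (HomogeneousLocalization.awayMap 𝒜 hg rfl) ≫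
        Proj.awayToSection 𝒜 (f * g) := by
    rw [h1, IsIso.inv_hom_id_assoc]
  rw [h2]
  have hiso2 : IsIso (Proj.awayToSection 𝒜 (f * g)) :=
    (Proj.basicOpenIsoAway 𝒜 (f * g) (SetLike.mul_mem_graded hf hg)
      (Nat.add_pos_left hm d)).isIso_hom
  simp only [CommRingCat.hom_comp, RingHom.coe_comp, CommRingCat.hom_ofHom]
  have i1 : Function.Injective (inv (Proj.awayToSection 𝒜 f)).hom :=
    (ConcreteCategory.bijective_of_isIso (inv (Proj.awayToSection 𝒜 f))).1
  have i2 : Function.Injective (HomogeneousLocalization.awayMap 𝒜 hg (rfl : f * g = f * g)) :=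
    awayMap_injective 𝒜 hg rfl hnz
  have i3 : Function.Injective (Proj.awayToSection 𝒜 (f * g)).hom :=
    (ConcreteCategory.bijective_of_isIso (Proj.awayToSection 𝒜 (f * g))).1
  exact i3.comp (i2.comp i1)

theorem ker_basicOpen_ι_eq_bot {d : ℕ} (g : A) (hg : g ∈ 𝒜 d)
    (hnz : g ∈ nonZeroDivisors A) :
    (Proj.basicOpen 𝒜 g).ι.ker = ⊥ := by
  classical
  rw [eq_bot_iff]
  let U : (Σ i : PNat, 𝒜 i) → (Proj 𝒜).affineOpens := fun i =>
    ⟨Proj.basicOpen 𝒜 (i.2 : A), Proj.isAffineOpen_basicOpen 𝒜 _ i.2.2 i.1.2⟩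
  refine Scheme.IdealSheafData.le_of_iSup_eq_top U ?_ ?_
  · apply Proj.iSup_basicOpen_eq_top 𝒜 (fun i : (Σ i : PNat, 𝒜 i) => (i.2 : A))
    intro z hz
    rw [← DirectSum.sum_support_decompose 𝒜 z]
    refine Ideal.sum_mem _ fun c hc ↦ if hc0 : c = 0 then ?_ else
      Ideal.subset_span ⟨⟨⟨c, Nat.pos_iff_ne_zero.mpr hc0⟩, _⟩, rfl⟩
    convert! Ideal.zero_mem _
    subst hc0
    exact hz
  · intro i
    refine (Scheme.Hom.ideal_ker_le _ _).trans ?_
    intro s hs
    rw [RingHom.mem_ker] at hs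
    have hinj := res_injective 𝒜 i.2.2 i.1.2 hg hnz
      ((Proj.basicOpen 𝒜 g).ι ''ᵁ (Proj.basicOpen 𝒜 g).ι ⁻¹ᵁ (U i).1)
      (by rw [Scheme.Hom.image_preimage_eq_opensRange_inf, Scheme.Opens.opensRange_ι])
      (Scheme.Hom.image_preimage_le _ _)
    have hs' : ((Proj 𝒜).presheaf.map (homOfLE (Scheme.Hom.image_preimage_le
        (Proj.basicOpen 𝒜 g).ι (U i).1)).op).hom s = 0 := hs
    have : s = 0 := hinj (by rw [hs', map_zero])
    rw [this]
    exact Ideal.zero_mem _

/-- The standard chart `Spec A_(g) ⟶ Proj 𝒜` has vanishing kernel when `g` is a nonzerodivisor. -/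
theorem ker_awayι_eq_bot {d : ℕ} (hd : 0 < d) (g : A) (hg : g ∈ 𝒜 d)
    (hnz : g ∈ nonZeroDivisors A) :
    (Proj.awayι 𝒜 g hg hd).ker = ⊥ := by
  rw [Proj.awayι, Scheme.Hom.ker_comp_of_isIso]
  exact ker_basicOpen_ι_eq_bot 𝒜 g hg hnz

end Groth.Agent.Lib.helper28.ProjKerBot
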