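import Groth.Agent.Lib.Helper28.ProjPolySpec
import Groth.Agent.Lib.Helper28.PolyGrade2
import Groth.Agent.Lib.Helper28.ProjKerBot
import Groth.Agent.Lib.Helper28.ChartLocal

set_option autoImplicit false

universe u

/-! The canonical open immersion of the affine cone `Spec(𝒮)` into the projective cone
`Proj(𝒮[z])` (helper28). -/

namespace Groth.Agent.Lib.helper28.ConeImm

open CategoryTheory CategoryTheory.Limits AlgebraicGeometry TopologicalSpace Opposite
open Groth.Agent.Lib.helper28.RelSpecMap Groth.Agent.Lib.helper28.PolyGrade2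
  Groth.Agent.Lib.helper28.ProjPolySpec
open scoped HomogeneousIdeal

variable {Y PC : Scheme.{u}} (𝒮 Sh : RelProj.QCGrAlg Y)
  (ι : 𝒮.toQCAlg ⟶ Sh.toQCAlg)
  (pC : PC ⟶ Y)
  (chartC : ∀ (U : Y.Opens) (hU : IsAffineOpen U),
    (((pC ⁻¹ᵁ U : PC.Opens) : Scheme.{u}) ≅ Proj (Sh.deg U hU)))

/-- Compatibility of the chartwise morphisms with restriction to a basic open. -/
theorem compat_gen (hP : RelProj.IsRelProj Sh pC chartC) (hι : RelProj.IsGradedHom ι)
    (U : Y.Opens) (hU : IsAffineOpen U) (r : Γ(Y, U))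
    (s : Sh.presheaf.obj (op U)) (hs : s ∈ Sh.deg U hU 1)
    (t : Sh.presheaf.obj (op (Y.basicOpen r))) (ht : t ∈ Sh.deg (Y.basicOpen r) (hU.basicOpen r) 1)
    (e : (Sh.presheaf.map (homOfLE (Y.basicOpen_le r)).op).hom s = t)
    (hpoly : Function.Surjective (Polynomial.eval₂RingHom (ι.hom.app (op U)).hom s))
    (θU : CommRingCat.of (HomogeneousLocalization.Away (Sh.deg U hU) s) ⟶ 𝒮.presheaf.obj (op U))
    (hθU : ∀ (q : HomogeneousLocalization.Away (Sh.deg U hU) s) (k : ℕ)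
      (x : 𝒮.presheaf.obj (op U)), x ∈ 𝒮.deg U hU k →
        q.val = Localization.mk ((ι.hom.app (op U)).hom x)
          ⟨s ^ k, pow_mem (Submonoid.mem_powers s) k⟩ → θU.hom q = x)
    (θW : CommRingCat.of (HomogeneousLocalization.Away (Sh.deg (Y.basicOpen r) (hU.basicOpen r)) t) ⟶
      𝒮.presheaf.obj (op (Y.basicOpen r)))
    (hθW : ∀ (q : HomogeneousLocalization.Away (Sh.deg (Y.basicOpen r) (hU.basicOpen r)) t) (k : ℕ)
      (x : 𝒮.presheaf.obj (op (Y.basicOpen r))), x ∈ 𝒮.deg (Y.basicOpen r) (hU.basicOpen r) k →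
        q.val = Localization.mk ((ι.hom.app (op (Y.basicOpen r))).hom x)
          ⟨t ^ k, pow_mem (Submonoid.mem_powers t) k⟩ → θW.hom q = x) :
    Spec.map (𝒮.presheaf.map (homOfLE (Y.basicOpen_le r)).op) ≫ Spec.map θU ≫
        Proj.awayι (Sh.deg U hU) s hs one_pos ≫ RelProj.emb pC chartC U hU =
      Spec.map θW ≫ Proj.awayι (Sh.deg (Y.basicOpen r) (hU.basicOpen r)) t ht one_pos ≫
        RelProj.emb pC chartC (Y.basicOpen r) (hU.basicOpen r) := by
  subst e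
  rw [← RelProj.map_res_emb hP U hU r]
  have h1 := Proj.awayι_comp_map (Sh.res hU (hU.basicOpen r) (Y.basicOpen_le r))
    (Sh.irrelevant_le_map U hU r) one_pos s hs
  have h2 : θU ≫ 𝒮.presheaf.map (homOfLE (Y.basicOpen_le r)).op =
      CommRingCat.ofHom (HomogeneousLocalization.Away.map
        (Sh.res hU (hU.basicOpen r) (Y.basicOpen_le r)) s) ≫ θW := by
    apply CommRingCat.hom_ext
    refine away_hom_ext (𝒮.deg U hU) (Sh.deg U hU) (ι.hom.app (op U)).hom s (hι U hU) hs hpoly _ _ ?_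
    intro k x hx q hq
    have e1 : θU.hom q = x := hθU q k x hx hq
    obtain ⟨n, y, hy, rfl⟩ := HomogeneousLocalization.Away.mk_surjective (Sh.deg U hU) hs q
    have e2 : θW.hom (HomogeneousLocalization.Away.map
        (Sh.res hU (hU.basicOpen r) (Y.basicOpen_le r)) s
        (HomogeneousLocalization.Away.mk (Sh.deg U hU) hs n y hy)) =
        (𝒮.presheaf.map (homOfLE (Y.basicOpen_le r)).op).hom x := by
      apply hθW _ k _ (𝒮.map_mem hU (hU.basicOpen r) (Y.basicOpen_le r) hx)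
      rw [HomogeneousLocalization.Away.map_mk (Sh.res hU (hU.basicOpen r) (Y.basicOpen_le r)) s hs n
        _ hy]
      refine (HomogeneousLocalization.Away.val_mk _ _ _ _ _).trans ?_
      rw [HomogeneousLocalization.Away.val_mk] at hq
      -- transport the equality of fractions along the restriction map
      rw [Localization.mk_eq_mk_iff, Localization.r_iff_exists] at hq
      obtain ⟨⟨c, m, rfl⟩, hc⟩ := hq
      simp only at hc
      refine Localization.mk_eq_mk_iff.mpr (Localization.r_iff_exists.mpr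
        ⟨⟨(Sh.presheaf.map (homOfLE (Y.basicOpen_le r)).op).hom s ^ m, m, rfl⟩, ?_⟩)
      change (Sh.presheaf.map (homOfLE (Y.basicOpen_le r)).op).hom s ^ m *
        ((Sh.presheaf.map (homOfLE (Y.basicOpen_le r)).op).hom s ^ k *
          (Sh.presheaf.map (homOfLE (Y.basicOpen_le r)).op).hom y) =
        (Sh.presheaf.map (homOfLE (Y.basicOpen_le r)).op).hom s ^ m *
        ((Sh.presheaf.map (homOfLE (Y.basicOpen_le r)).op).hom s ^ n *
          (ι.hom.app (op (Y.basicOpen r))).hom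
            ((𝒮.presheaf.map (homOfLE (Y.basicOpen_le r)).op).hom x))
      have hn := congrArg (fun k => k.hom x) (ι.hom.naturality (homOfLE (Y.basicOpen_le r)).op)
      have hn' : (ι.hom.app (op (Y.basicOpen r))).hom
          ((𝒮.presheaf.map (homOfLE (Y.basicOpen_le r)).op).hom x) =
          (Sh.presheaf.map (homOfLE (Y.basicOpen_le r)).op).hom ((ι.hom.app (op U)).hom x) :=
        hn
      rw [hn']
      have h3 := congrArg (Sh.presheaf.map (homOfLE (Y.basicOpen_le r)).op).hom hc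
      simp only [map_mul, map_pow] at h3
      exact h3
    change (𝒮.presheaf.map (homOfLE (Y.basicOpen_le r)).op).hom (θU.hom _) = θW.hom _
    rw [e1]
    exact e2.symm
  have h1' : Proj.awayι (Sh.deg (Y.basicOpen r) (hU.basicOpen r))
      ((Sh.presheaf.map (homOfLE (Y.basicOpen_le r)).op).hom s) ht one_pos ≫
      Proj.map (Sh.res hU (hU.basicOpen r) (Y.basicOpen_le r)) (Sh.irrelevant_le_map U hU r) =
      Spec.map (CommRingCat.ofHom (HomogeneousLocalization.Away.map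
        (Sh.res hU (hU.basicOpen r) (Y.basicOpen_le r)) s)) ≫
        Proj.awayι (Sh.deg U hU) s hs one_pos := h1
  have hAB : Spec.map (𝒮.presheaf.map (homOfLE (Y.basicOpen_le r)).op) ≫ Spec.map θU =
      Spec.map θW ≫ Spec.map (CommRingCat.ofHom (HomogeneousLocalization.Away.map
        (Sh.res hU (hU.basicOpen r) (Y.basicOpen_le r)) s)) := by
    rw [← Spec.map_comp, ← Spec.map_comp, h2]
    rfl
  refine Eq.trans ?_ (Eq.trans (congrArg (fun k => Spec.map θW ≫ k ≫ RelProj.emb pC chartC U hU)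
    h1'.symm) ?_)
  · exact (Category.assoc _ _ _).symm.trans ((congrArg
      (· ≫ (Proj.awayι (Sh.deg U hU) s hs one_pos ≫ RelProj.emb pC chartC U hU)) hAB).trans
      ((Category.assoc _ _ _).trans (congrArg (Spec.map θW ≫ ·) (Category.assoc _ _ _).symm)))
  · exact congrArg (Spec.map θW ≫ ·) (Category.assoc _ _ _)

section Cone

variable (hι : RelProj.IsGradedHom ι)
  (z : Sh.presheaf.obj (op ⊤))
  (hz : ∀ (U : Y.Opens) (hU : IsAffineOpen U),
    (Sh.presheaf.map (homOfLE le_top).op).hom z ∈ Sh.deg U hU 1)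
  (hpoly : ∀ (U : Y.Opens) (_ : IsAffineOpen U),
    Function.Bijective (Polynomial.eval₂RingHom (ι.hom.app (op U)).hom
      ((Sh.presheaf.map (homOfLE le_top).op).hom z)))
  (hP : RelProj.IsRelProj Sh pC chartC)
  (θ : ∀ (U : Y.Opens) (hU : IsAffineOpen U),
    CommRingCat.of (HomogeneousLocalization.Away (Sh.deg U hU)
      ((Sh.presheaf.map (homOfLE le_top).op).hom z)) ⟶ 𝒮.presheaf.obj (op U))
  (hθ : ∀ (U : Y.Opens) (hU : IsAffineOpen U)
    (q : HomogeneousLocalization.Away (Sh.deg U hU) ((Sh.presheaf.map (homOfLE le_top).op).hom z))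
    (k : ℕ) (x : 𝒮.presheaf.obj (op U)), x ∈ 𝒮.deg U hU k →
      q.val = Localization.mk ((ι.hom.app (op U)).hom x)
        ⟨(Sh.presheaf.map (homOfLE le_top).op).hom z ^ k,
          pow_mem (Submonoid.mem_powers ((Sh.presheaf.map (homOfLE le_top).op).hom z)) k⟩ →
      (θ U hU).hom q = x)

/-- The chart map `Spec 𝒮(U) ⟶ Proj Sh(U)`. -/
noncomputable def gU (U : Y.Opens) (hU : IsAffineOpen U) :
    Spec (𝒮.presheaf.obj (op U)) ⟶ Proj (Sh.deg U hU) :=
  Spec.map (θ U hU) ≫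
    Proj.awayι (Sh.deg U hU) ((Sh.presheaf.map (homOfLE le_top).op).hom z) (hz U hU) one_pos

/-- The chartwise morphism `Spec 𝒮(U) ⟶ Ĉ`. -/
noncomputable def fU (U : Y.Opens) (hU : IsAffineOpen U) : Spec (𝒮.presheaf.obj (op U)) ⟶ PC :=
  Spec.map (θ U hU) ≫
    Proj.awayι (Sh.deg U hU) ((Sh.presheaf.map (homOfLE le_top).op).hom z) (hz U hU) one_pos ≫
      RelProj.emb pC chartC U hU

include hι hpoly hP hθ in
theorem existsUnique_map :
    ∃! i : 𝒮.toQCAlg.spec ⟶ PC, ∀ (U : Y.Opens) (hU : IsAffineOpen U),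
      𝒮.toQCAlg.ι U hU ≫ i = fU 𝒮 Sh pC chartC z hz θ U hU := by
  refine existsUnique_desc 𝒮.toQCAlg (fU 𝒮 Sh pC chartC z hz θ) ?_
  intro U hU r
  refine compat_gen 𝒮 Sh ι pC chartC hP hι U hU r _ (hz U hU) _ (hz _ (hU.basicOpen r)) ?_
    (hpoly U hU).2 (θ U hU) (hθ U hU) (θ _ (hU.basicOpen r)) (hθ _ (hU.basicOpen r))
  rw [← CommRingCat.comp_apply, ← Functor.map_comp]
  rfl

include hP hθ in
theorem map_comp_p (i : 𝒮.toQCAlg.spec ⟶ PC)
    (hi : ∀ (U : Y.Opens) (hU : IsAffineOpen U),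
      𝒮.toQCAlg.ι U hU ≫ i = fU 𝒮 Sh pC chartC z hz θ U hU) :
    i ≫ pC = 𝒮.toQCAlg.π := by
  apply hom_ext_of_local
  intro x
  obtain ⟨U, hU, hxU⟩ : ∃ U : Y.Opens, IsAffineOpen U ∧ 𝒮.toQCAlg.π.base x ∈ U := by
    obtain ⟨_, ⟨U, hU, rfl⟩, hxU, -⟩ := Y.isBasis_affineOpens.exists_subset_of_mem_open
      (Set.mem_univ (𝒮.toQCAlg.π.base x)) isOpen_univ
    exact ⟨U, hU, hxU⟩
  refine ⟨_, 𝒮.toQCAlg.ι U hU, inferInstance, ?_, ?_⟩
  · rw [range_ι]
    exact hxU
  · have h1 : RelProj.emb pC chartC U hU ≫ pC =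
        Proj.toSpecZero (Sh.deg U hU) ≫ Spec.map (Sh.strZero U hU) ≫ hU.fromSpec := by
      rw [RelProj.emb, Category.assoc, ← hP.chart_over U hU, Iso.inv_hom_id_assoc]
    have h2 : Sh.strZero U hU ≫ CommRingCat.ofHom (HomogeneousLocalization.fromZeroRingHom
        (Sh.deg U hU) (Submonoid.powers ((Sh.presheaf.map (homOfLE le_top).op).hom z))) ≫
        θ U hU = 𝒮.str.app (op U) := by
      ext r
      change (θ U hU).hom (HomogeneousLocalization.fromZeroRingHom (Sh.deg U hU) _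
        ((Sh.strZero U hU).hom r)) = _
      apply hθ U hU _ 0 _ (𝒮.str_mem U hU r)
      have hc : (Sh.str.app (op U)).hom r = (ι.hom.app (op U)).hom ((𝒮.str.app (op U)).hom r) := by
        have := congrArg (fun k => (k.app (op U)).hom r) ι.comm
        exact this.symm
      change Localization.mk ((Sh.str.app (op U)).hom r) 1 = _
      rw [hc, Localization.mk_eq_mk_iff, Localization.r_iff_exists]
      exact ⟨1, by simp⟩
    rw [← Category.assoc, hi U hU, fU, Category.assoc, Category.assoc, h1,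
      Proj.awayι_toSpecZero_assoc, ← Spec.map_comp_assoc, ← Spec.map_comp_assoc,
      h2, 𝒮.toQCAlg.ι_π]

include hι hz hpoly hθ in
theorem isIso_θ (U : Y.Opens) (hU : IsAffineOpen U) : IsIso (θ U hU) :=
  (ConcreteCategory.isIso_iff_bijective (θ U hU)).mpr
    (bijective_of_spec (𝒮.deg U hU) (Sh.deg U hU) (ι.hom.app (op U)).hom _ (hι U hU) (hz U hU)
      (hpoly U hU) (θ U hU).hom (hθ U hU))

include hP hθ in
theorem preimage_range_emb (i : 𝒮.toQCAlg.spec ⟶ PC)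
    (hi : ∀ (U : Y.Opens) (hU : IsAffineOpen U),
      𝒮.toQCAlg.ι U hU ≫ i = fU 𝒮 Sh pC chartC z hz θ U hU)
    (U : Y.Opens) (hU : IsAffineOpen U) :
    i ⁻¹ᵁ (RelProj.emb pC chartC U hU).opensRange = (𝒮.toQCAlg.ι U hU).opensRange := by
  have hrange : (RelProj.emb pC chartC U hU).opensRange = pC ⁻¹ᵁ U :=
    Opens.ext (Groth.Agent.Lib.helper28.RelTwistChart.range_emb pC chartC U hU)
  rw [hrange, ← Scheme.Hom.comp_preimage, map_comp_p 𝒮 Sh ι pC chartC z hz hP θ hθ i hi,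
    𝒮.toQCAlg.π_preimage U hU]

theorem comm_chart (i : 𝒮.toQCAlg.spec ⟶ PC)
    (hi : ∀ (U : Y.Opens) (hU : IsAffineOpen U),
      𝒮.toQCAlg.ι U hU ≫ i = fU 𝒮 Sh pC chartC z hz θ U hU)
    (U : Y.Opens) (hU : IsAffineOpen U) :
    𝒮.toQCAlg.ι U hU ≫ i = gU 𝒮 Sh z hz θ U hU ≫ RelProj.emb pC chartC U hU := by
  rw [hi U hU, fU, gU, Category.assoc]

include hι hpoly hP hθ in
theorem isOpenImmersion_map (i : 𝒮.toQCAlg.spec ⟶ PC)
    (hi : ∀ (U : Y.Opens) (hU : IsAffineOpen U),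
      𝒮.toQCAlg.ι U hU ≫ i = fU 𝒮 Sh pC chartC z hz θ U hU) :
    IsOpenImmersion i := by
  refine Groth.Agent.Lib.helper28.ChartLocal.of_charts i
    (J := {U : Y.Opens // IsAffineOpen U})
    (T := fun j => Spec (𝒮.presheaf.obj (op j.1))) (Q := fun j => Proj (Sh.deg j.1 j.2))
    (fun j => 𝒮.toQCAlg.ι j.1 j.2) (fun j => RelProj.emb pC chartC j.1 j.2)
    (fun j => gU 𝒮 Sh z hz θ j.1 j.2) @IsOpenImmersion
    (fun j => comm_chart 𝒮 Sh pC chartC z hz θ i hi j.1 j.2)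
    (fun j => preimage_range_emb 𝒮 Sh ι pC chartC z hz hP θ hθ i hi j.1 j.2)
    (Groth.Agent.Lib.helper28.RelTwistChart.exists_mem_range_emb pC chartC) ?_
  intro j
  have := isIso_θ 𝒮 Sh ι hι z hz hpoly θ hθ j.1 j.2
  unfold gU
  infer_instance

include hι hpoly hP hθ in
theorem isAffineHom_map (i : 𝒮.toQCAlg.spec ⟶ PC)
    (hi : ∀ (U : Y.Opens) (hU : IsAffineOpen U),
      𝒮.toQCAlg.ι U hU ≫ i = fU 𝒮 Sh pC chartC z hz θ U hU) :
    IsAffineHom i := by
  refine Groth.Agent.Lib.helper28.ChartLocal.of_charts i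
    (J := {U : Y.Opens // IsAffineOpen U})
    (T := fun j => Spec (𝒮.presheaf.obj (op j.1))) (Q := fun j => Proj (Sh.deg j.1 j.2))
    (fun j => 𝒮.toQCAlg.ι j.1 j.2) (fun j => RelProj.emb pC chartC j.1 j.2)
    (fun j => gU 𝒮 Sh z hz θ j.1 j.2) @IsAffineHom
    (fun j => comm_chart 𝒮 Sh pC chartC z hz θ i hi j.1 j.2)
    (fun j => preimage_range_emb 𝒮 Sh ι pC chartC z hz hP θ hθ i hi j.1 j.2)
    (Groth.Agent.Lib.helper28.RelTwistChart.exists_mem_range_emb pC chartC) ?_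
  intro j
  have h1 : IsAffineHom (gU 𝒮 Sh z hz θ j.1 j.2 ≫ Proj.toSpecZero (Sh.deg j.1 j.2)) :=
    inferInstance
  exact IsAffineHom.of_comp (gU 𝒮 Sh z hz θ j.1 j.2) (Proj.toSpecZero (Sh.deg j.1 j.2))

include hι hpoly hP hθ in
theorem ker_map (i : 𝒮.toQCAlg.spec ⟶ PC)
    (hi : ∀ (U : Y.Opens) (hU : IsAffineOpen U),
      𝒮.toQCAlg.ι U hU ≫ i = fU 𝒮 Sh pC chartC z hz θ U hU) :
    i.ker = ⊥ := by
  have := isAffineHom_map 𝒮 Sh ι pC chartC hι z hz hpoly hP θ hθ i hi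
  refine Groth.Agent.Lib.helper28.ChartLocal.ker_eq_bot_of_charts i
    (J := {U : Y.Opens // IsAffineOpen U})
    (T := fun j => Spec (𝒮.presheaf.obj (op j.1))) (Q := fun j => Proj (Sh.deg j.1 j.2))
    (fun j => 𝒮.toQCAlg.ι j.1 j.2) (fun j => RelProj.emb pC chartC j.1 j.2)
    (fun j => gU 𝒮 Sh z hz θ j.1 j.2)
    (fun j => comm_chart 𝒮 Sh pC chartC z hz θ i hi j.1 j.2)
    (fun j => preimage_range_emb 𝒮 Sh ι pC chartC z hz hP θ hθ i hi j.1 j.2)
    (Groth.Agent.Lib.helper28.RelTwistChart.exists_mem_range_emb pC chartC) ?_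
  intro j
  have := isIso_θ 𝒮 Sh ι hι z hz hpoly θ hθ j.1 j.2
  unfold gU
  rw [Scheme.Hom.ker_comp_of_isIso]
  exact Groth.Agent.Lib.helper28.ProjKerBot.ker_awayι_eq_bot (Sh.deg j.1 j.2) one_pos _ (hz j.1 j.2)
    (z_mem_nonZeroDivisors (ι.hom.app (op j.1)).hom _ (hpoly j.1 j.2))

include hι hpoly hP hθ in
theorem range_map (i : 𝒮.toQCAlg.spec ⟶ PC)
    (hi : ∀ (U : Y.Opens) (hU : IsAffineOpen U),
      𝒮.toQCAlg.ι U hU ≫ i = fU 𝒮 Sh pC chartC z hz θ U hU)
    (Xz : PC.Opens)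
    (hXz : ∀ (U : Y.Opens) (hU : IsAffineOpen U),
      Xz ⊓ pC ⁻¹ᵁ U =
        (pC ⁻¹ᵁ U).ι ''ᵁ ((chartC U hU).hom ⁻¹ᵁ
          Proj.basicOpen (Sh.deg U hU) ((Sh.presheaf.map (homOfLE le_top).op).hom z))) :
    Set.range i.base = (Xz : Set PC) := by
  have hip := map_comp_p 𝒮 Sh ι pC chartC z hz hP θ hθ i hi
  ext x
  obtain ⟨U, hU, hxU⟩ : ∃ U : Y.Opens, IsAffineOpen U ∧ pC.base x ∈ U := by
    obtain ⟨_, ⟨U, hU, rfl⟩, hxU, -⟩ := Y.isBasis_affineOpens.exists_subset_of_mem_open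
      (Set.mem_univ (pC.base x)) isOpen_univ
    exact ⟨U, hU, hxU⟩
  have hrangeaw : Set.range (Proj.awayι (Sh.deg U hU)
      ((Sh.presheaf.map (homOfLE le_top).op).hom z) (hz U hU) one_pos).base =
      (Proj.basicOpen (Sh.deg U hU) ((Sh.presheaf.map (homOfLE le_top).op).hom z) :
        Set (Proj (Sh.deg U hU))) :=
    congrArg (fun V : (Proj (Sh.deg U hU)).Opens => (V : Set (Proj (Sh.deg U hU))))
      (Proj.opensRange_awayι (Sh.deg U hU) _ (hz U hU) one_pos)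
  have hemb : ∀ y : Proj (Sh.deg U hU), (RelProj.emb pC chartC U hU).base y =
      (pC ⁻¹ᵁ U).ι.base ((chartC U hU).inv.base y) := fun y => rfl
  have hcc : ∀ y : Proj (Sh.deg U hU), (chartC U hU).hom.base ((chartC U hU).inv.base y) = y := by
    intro y
    rw [← Scheme.Hom.comp_apply, Iso.inv_hom_id]
    rfl
  have hcc' : ∀ w, (chartC U hU).inv.base ((chartC U hU).hom.base w) = w := by
    intro w
    rw [← Scheme.Hom.comp_apply, Iso.hom_inv_id]
    rfl
  have hchart := comm_chart 𝒮 Sh pC chartC z hz θ i hi U hU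
  have hθiso := isIso_θ 𝒮 Sh ι hι z hz hpoly θ hθ U hU
  constructor
  · rintro ⟨c, rfl⟩
    have hc : 𝒮.toQCAlg.π.base c ∈ U := by
      rw [← hip]
      exact hxU
    have hc' : c ∈ Set.range (𝒮.toQCAlg.ι U hU).base := by
      rw [range_ι]
      exact hc
    obtain ⟨t, rfl⟩ := hc'
    have h1 : i.base ((𝒮.toQCAlg.ι U hU).base t) =
        (RelProj.emb pC chartC U hU).base ((gU 𝒮 Sh z hz θ U hU).base t) := by
      rw [← Scheme.Hom.comp_apply, hchart, Scheme.Hom.comp_apply]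
    have h2 : (gU 𝒮 Sh z hz θ U hU).base t ∈
        Proj.basicOpen (Sh.deg U hU) ((Sh.presheaf.map (homOfLE le_top).op).hom z) := by
      have : (gU 𝒮 Sh z hz θ U hU).base t ∈ Set.range (Proj.awayι (Sh.deg U hU)
          ((Sh.presheaf.map (homOfLE le_top).op).hom z) (hz U hU) one_pos).base :=
        ⟨(Spec.map (θ U hU)).base t, rfl⟩
      rw [hrangeaw] at this
      exact this
    have h3 : i.base ((𝒮.toQCAlg.ι U hU).base t) ∈ Xz ⊓ pC ⁻¹ᵁ U := by
      rw [hXz U hU, h1, hemb]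
      refine ⟨(chartC U hU).inv.base ((gU 𝒮 Sh z hz θ U hU).base t), ?_, rfl⟩
      have h5 : (chartC U hU).hom.base ((chartC U hU).inv.base ((gU 𝒮 Sh z hz θ U hU).base t)) ∈
          Proj.basicOpen (Sh.deg U hU) ((Sh.presheaf.map (homOfLE le_top).op).hom z) := by
        rw [hcc]
        exact h2
      exact h5
    exact h3.1
  · intro hx
    have h3 : x ∈ Xz ⊓ pC ⁻¹ᵁ U := ⟨hx, hxU⟩
    rw [hXz U hU] at h3
    obtain ⟨w, hw, rfl⟩ := h3
    have hw' : (chartC U hU).hom.base w ∈ Set.range (Proj.awayι (Sh.deg U hU)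
        ((Sh.presheaf.map (homOfLE le_top).op).hom z) (hz U hU) one_pos).base := by
      rw [hrangeaw]
      exact hw
    obtain ⟨t', ht'⟩ := hw'
    obtain ⟨t, rfl⟩ := (Spec.map (θ U hU)).surjective t'
    refine ⟨(𝒮.toQCAlg.ι U hU).base t, ?_⟩
    rw [← Scheme.Hom.comp_apply, hchart, Scheme.Hom.comp_apply, hemb]
    have h4 : (gU 𝒮 Sh z hz θ U hU).base t = (chartC U hU).hom.base w := ht'
    rw [h4, hcc']
    rfl

end Cone

end Groth.Agent.Lib.helper28.ConeImm
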