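import Groth.Agent.Lib.Helper28.PProjConeAlg

set_option autoImplicit false

universe u

/-! The locus at infinity of the projective cone over an affine base (helper28):
for `B = A[z]` graded and `ρ : B → A` the graded retraction with `ρ z = 0`, the image of
`Proj A ⟶ Proj B` is `V₊(z)`. -/

namespace Groth.Agent.Lib.helper28.ProjInfinity

open CategoryTheory AlgebraicGeometry HomogeneousLocalization Opposite
open Groth.Agent.Lib.helper28.PolyGrade2 Groth.Agent.Lib.helper28.PProjConeAlg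
open scoped HomogeneousIdeal

variable {A₀ B : Type u} [CommRing A₀] [CommRing B] (𝒜 : ℕ → AddSubgroup A₀) [GradedRing 𝒜]
  (ℬ : ℕ → AddSubgroup B) [GradedRing ℬ] (ψ : 𝒜 →+*ᵍ ℬ) (ρ : ℬ →+*ᵍ 𝒜) (z : B)

/-- Every element of `A[z]` differs from (the image of) its constant term by a multiple of `z`. -/
theorem sub_mem_span (hρψ : ∀ a : A₀, ρ (ψ a) = a) (hρz : ρ z = 0)
    (hpoly : Function.Surjective (Polynomial.eval₂RingHom (ψ : A₀ →+* B) z)) (b : B) :
    b - ψ (ρ b) ∈ Ideal.span {z} := by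
  obtain ⟨P, rfl⟩ := hpoly b
  change Polynomial.eval₂ (ψ : A₀ →+* B) z P - ψ (ρ (Polynomial.eval₂ (ψ : A₀ →+* B) z P)) ∈ _
  have h1 : ρ (Polynomial.eval₂ (ψ : A₀ →+* B) z P) = P.coeff 0 := by
    have := Polynomial.hom_eval₂ P (ψ : A₀ →+* B) (ρ : B →+* A₀) z
    refine this.trans ?_
    have hz0 : (ρ : B →+* A₀) z = 0 := hρz
    rw [hz0, Polynomial.eval₂_at_zero]
    exact hρψ _
  have h4 : Polynomial.eval₂ (ψ : A₀ →+* B) z P =
      Polynomial.eval₂ (ψ : A₀ →+* B) z (Polynomial.divX P) * z + ψ (P.coeff 0) := by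
    conv_lhs => rw [← Polynomial.divX_mul_X_add P]
    rw [Polynomial.eval₂_add, Polynomial.eval₂_mul, Polynomial.eval₂_X, Polynomial.eval₂_C]
    rfl
  rw [h1, h4, add_sub_cancel_right]
  exact Ideal.mul_mem_left _ _ (Ideal.mem_span_singleton_self z)

/-- The image of `Proj A ⟶ Proj A[z]` is `V₊(z)`. -/
theorem range_map (hρψ : ∀ a : A₀, ρ (ψ a) = a) (hρz : ρ z = 0) (hz : z ∈ ℬ 1)
    (hpoly : Function.Surjective (Polynomial.eval₂RingHom (ψ : A₀ →+* B) z))
    (hirr : 𝒜₊ ≤ (ℬ₊).map ρ) :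
    Set.range (Proj.map ρ hirr).base = {y : Proj ℬ | z ∈ y.asHomogeneousIdeal} := by
  ext y
  constructor
  · rintro ⟨p, rfl⟩
    change ρ z ∈ p.asHomogeneousIdeal
    rw [hρz]
    exact Ideal.zero_mem _
  · intro hy
    have hy' : z ∈ y.asHomogeneousIdeal := hy
    have hnot : ¬ HomogeneousIdeal.irrelevant 𝒜 ≤ y.asHomogeneousIdeal.comap ψ := by
      intro hle
      apply y.not_irrelevant_le
      have hle' : (HomogeneousIdeal.irrelevant 𝒜).toIdeal ≤
          (y.asHomogeneousIdeal.comap ψ).toIdeal := hle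
      rw [HomogeneousIdeal.toIdeal_irrelevant_le] at hle'
      exact irrelevant_le_of_mem 𝒜 ℬ (ψ : A₀ →+* B) z (fun k x hx => ψ.map_mem hx) hz hpoly
        y.asHomogeneousIdeal.toIdeal (fun k hk a ha => hle' k hk ha) hy'
    let p : ProjectiveSpectrum 𝒜 :=
      { asHomogeneousIdeal := y.asHomogeneousIdeal.comap ψ
        isPrime := y.isPrime.comap ψ
        not_irrelevant_le := hnot }
    refine ⟨p, ?_⟩
    apply ProjectiveSpectrum.ext
    apply HomogeneousIdeal.toIdeal_injective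
    ext b
    change ψ (ρ b) ∈ y.asHomogeneousIdeal.toIdeal ↔ b ∈ y.asHomogeneousIdeal.toIdeal
    have hsub : b - ψ (ρ b) ∈ y.asHomogeneousIdeal.toIdeal := by
      have := sub_mem_span 𝒜 ℬ ψ ρ z hρψ hρz hpoly b
      exact (Ideal.span_singleton_le_iff_mem (I := y.asHomogeneousIdeal.toIdeal)).mpr hy' this
    constructor
    · intro h
      have := Ideal.add_mem _ hsub h
      rwa [sub_add_cancel] at this
    · intro h
      have := Ideal.sub_mem _ h hsub
      rwa [sub_sub_cancel] at this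

end Groth.Agent.Lib.helper28.ProjInfinity
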