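import Groth.Agent.Lib.Helper28.RelTwistChart
import Groth.Agent.Lib.Helper28.GTwistFree
import Groth.Agent.Lib.Helper28.GTwistQCoh
import Groth.Agent.Lib.Helper28.LocalGen
import Groth.Agent.Lib.Helper2.ModSec

/-!
# Sections of the relative twisting sheaf pinned by their chartwise values (helper28)

For a global section `f` of `𝒮` of degree `d`, sections `t` of `O_P(m)` (given through
`RelProj.IsRelTwist`) whose value on every chart is `f^a / f^b` (`a d = b d + m`).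
-/

set_option autoImplicit false
set_option linter.style.haveILetI false
universe u
open CategoryTheory CategoryTheory.Limits AlgebraicGeometry TopologicalSpace Opposite
open Scheme.Modules

namespace Groth.Agent.Lib.helper28.RelTwistSec

open Groth.Agent.Lib.helper28.RelTwistChart

variable {Y P : Scheme.{u}} {𝒮 : RelProj.QCGrAlg Y} {p : P ⟶ Y}
  {chart : ∀ (U : Y.Opens) (hU : IsAffineOpen U),
    (((p ⁻¹ᵁ U : P.Opens) : Scheme.{u}) ≅ Proj (𝒮.deg U hU))}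

/-- The restriction to `U` of a global section of `𝒮`. -/
def fU (f : 𝒮.presheaf.obj (op ⊤)) (U : Y.Opens) : 𝒮.presheaf.obj (op U) :=
  (𝒮.presheaf.map (homOfLE (le_top : U ≤ ⊤)).op).hom f

theorem res_fU (f : 𝒮.presheaf.obj (op ⊤)) {U V : Y.Opens} (hU : IsAffineOpen U)
    (hV : IsAffineOpen V) (i : V ≤ U) : 𝒮.res hU hV i (fU f U) = fU f V := by
  rw [RelProj.QCGrAlg.res_apply]
  unfold fU
  rw [← CommRingCat.comp_apply, ← Functor.map_comp]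
  rfl

/-- `emb_V z ∈ Xf ↔ z ∈ D₊(f_V)`. -/
theorem emb_mem_iff (f : 𝒮.presheaf.obj (op ⊤)) (Xf : P.Opens) (V : Y.Opens) (hV : IsAffineOpen V)
    (hXf : Xf ⊓ p ⁻¹ᵁ V =
        (p ⁻¹ᵁ V).ι ''ᵁ ((chart V hV).hom ⁻¹ᵁ Proj.basicOpen (𝒮.deg V hV) (fU f V)))
    (z : Proj (𝒮.deg V hV)) :
    (RelProj.emb p chart V hV).base z ∈ Xf ↔ fU f V ∉ z.asHomogeneousIdeal := by
  have hz : (RelProj.emb p chart V hV).base z ∈ p ⁻¹ᵁ V := by
    have : (RelProj.emb p chart V hV).base z ∈ Set.range (RelProj.emb p chart V hV) := ⟨z, rfl⟩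
    rw [range_emb] at this
    exact this
  have h1 : (RelProj.emb p chart V hV).base z ∈ Xf ↔
      (RelProj.emb p chart V hV).base z ∈ Xf ⊓ p ⁻¹ᵁ V := ⟨fun h => ⟨h, hz⟩, fun h => h.1⟩
  rw [h1, hXf]
  have h2 : (RelProj.emb p chart V hV).base z = (p ⁻¹ᵁ V).ι.base ((chart V hV).inv.base z) := by
    unfold RelProj.emb
    rw [Scheme.Hom.comp_base]
    rfl
  rw [h2]
  constructor
  · rintro ⟨w, hw, hwe⟩
    have hw' : w = (chart V hV).inv.base z := (p ⁻¹ᵁ V).ι.isOpenEmbedding.injective hwe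
    subst hw'
    have hw2 : (chart V hV).hom.base ((chart V hV).inv.base z) ∈
        Proj.basicOpen (𝒮.deg V hV) (fU f V) := hw
    have h3 : (chart V hV).hom.base ((chart V hV).inv.base z) = z := by
      rw [← Scheme.Hom.comp_apply, Iso.inv_hom_id]
      rfl
    rw [h3] at hw2
    exact (ProjectiveSpectrum.mem_basicOpen _ _ _).mp hw2
  · intro hz2
    refine ⟨(chart V hV).inv.base z, ?_, rfl⟩
    change (chart V hV).hom.base ((chart V hV).inv.base z) ∈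
        Proj.basicOpen (𝒮.deg V hV) (fU f V)
    have h3 : (chart V hV).hom.base ((chart V hV).inv.base z) = z := by
      rw [← Scheme.Hom.comp_apply, Iso.inv_hom_id]
      rfl
    rw [h3]
    exact (ProjectiveSpectrum.mem_basicOpen _ _ _).mpr hz2

variable {m : ℤ} {L : P.Modules}
  (lam : ∀ (U : Y.Opens) (hU : IsAffineOpen U),
    L ⟶ (Scheme.Modules.pushforward (RelProj.emb p chart U hU)).obj
      (GrTwist.twist (𝒮.deg U hU) m))

/-- The section `t` of `L` over `N` reads `f^a / f^b` on the chart over `V`. -/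
def IsF (f : 𝒮.presheaf.obj (op ⊤)) (a b : ℕ) (V : Y.Opens) (hV : IsAffineOpen V) (N : P.Opens)
    (t : Γ(L, N)) : Prop :=
  ∀ (z : Proj (𝒮.deg V hV)) (hz : (RelProj.emb p chart V hV).base z ∈ N),
    GrTwist.val (V := RelProj.emb p chart V hV ⁻¹ᵁ N) ((lam V hV).app N t) ⟨z, hz⟩ *
        algebraMap (𝒮.presheaf.obj (op V)) (GrTwist.Loc (𝒮.deg V hV) z) (fU f V ^ b) =
      algebraMap (𝒮.presheaf.obj (op V)) (GrTwist.Loc (𝒮.deg V hV) z) (fU f V ^ a)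

theorem isF_res (f : 𝒮.presheaf.obj (op ⊤)) (a b : ℕ) (V : Y.Opens) (hV : IsAffineOpen V)
    {N N' : P.Opens} (i : N' ≤ N) (t : Γ(L, N)) (h : IsF lam f a b V hV N t) :
    IsF lam f a b V hV N' (L.presheaf.map (homOfLE i).op t) := by
  intro z hz
  have h1 := Groth.Agent.Lib.helper2.ModSec.map_app_apply (lam V hV) (homOfLE i) t
  rw [← h1]
  exact h z (i hz)

theorem emb_comap (hP : RelProj.IsRelProj 𝒮 p chart) (U : Y.Opens) (hU : IsAffineOpen U)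
    (r : Γ(Y, U)) (z : ProjectiveSpectrum (𝒮.deg (Y.basicOpen r) (hU.basicOpen r))) :
    (RelProj.emb p chart U hU).base (ProjectiveSpectrum.comap
      (𝒮.res hU (hU.basicOpen r) (Y.basicOpen_le r)) (𝒮.irrelevant_le_map U hU r) z) =
      (RelProj.emb p chart (Y.basicOpen r) (hU.basicOpen r)).base z := by
  rw [← RelProj.map_res_emb hP U hU r, Scheme.Hom.comp_base]
  rfl

theorem locMap_algebraMap {A σ : Type u} [CommRing A] [SetLike σ A] [AddSubgroupClass σ A]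
    {𝒜 : ℕ → σ} [GradedRing 𝒜] {B τ : Type u} [CommRing B] [SetLike τ B] [AddSubgroupClass τ B]
    {ℬ : ℕ → τ} [GradedRing ℬ] (ψ : 𝒜 →+*ᵍ ℬ)
    (hψ : (HomogeneousIdeal.irrelevant ℬ) ≤ (HomogeneousIdeal.irrelevant 𝒜).map ψ)
    (y : ProjectiveSpectrum ℬ) (x : A) :
    GrTwist.locMap ψ hψ y (algebraMap A (GrTwist.Loc 𝒜 (ProjectiveSpectrum.comap ψ hψ y)) x) =
      algebraMap B (GrTwist.Loc ℬ y) (ψ x) :=
  Localization.localRingHom_to_map _ _ _ _ x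

theorem isF_descend (hP : RelProj.IsRelProj 𝒮 p chart)
    (hL : RelProj.IsRelTwist 𝒮 p chart m L lam) (f : 𝒮.presheaf.obj (op ⊤)) (a b : ℕ)
    (U : Y.Opens) (hU : IsAffineOpen U) (r : Γ(Y, U)) (V : Y.Opens) (hV : IsAffineOpen V)
    (hVr : V = Y.basicOpen r) (N : P.Opens) (t : Γ(L, N)) (h : IsF lam f a b U hU N t) :
    IsF lam f a b V hV N t := by
  subst hVr
  intro z hz
  have hy' : (RelProj.emb p chart U hU).base (ProjectiveSpectrum.comap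
      (𝒮.res hU (hU.basicOpen r) (Y.basicOpen_le r)) (𝒮.irrelevant_le_map U hU r) z) ∈ N := by
    rw [emb_comap hP]
    exact hz
  have hc := hL.compat U hU r N t z hz hy'
  have h2 := congrArg (GrTwist.locMap (𝒮.res hU (hU.basicOpen r) (Y.basicOpen_le r))
    (𝒮.irrelevant_le_map U hU r) z) (h _ hy')
  have e1 : ∀ k : ℕ, (𝒮.res hU (hU.basicOpen r) (Y.basicOpen_le r)) (fU f U ^ k) =
      fU f (Y.basicOpen r) ^ k := fun k => by
    rw [map_pow, res_fU f hU (hU.basicOpen r) (Y.basicOpen_le r)]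
  rw [map_mul, locMap_algebraMap, locMap_algebraMap, e1, e1] at h2
  rw [hc]
  exact h2

theorem isUnit_fU_pow (f : 𝒮.presheaf.obj (op ⊤)) (V : Y.Opens) (hV : IsAffineOpen V)
    (z : ProjectiveSpectrum (𝒮.deg V hV)) (hz : fU f V ∉ z.asHomogeneousIdeal) (b : ℕ) :
    IsUnit (algebraMap (𝒮.presheaf.obj (op V)) (GrTwist.Loc (𝒮.deg V hV) z) (fU f V ^ b)) :=
  IsLocalization.map_units (M := z.asHomogeneousIdeal.toIdeal.primeCompl) _
    ⟨fU f V ^ b, fun hmem => hz (z.isPrime.mem_of_pow_mem _ hmem)⟩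

theorem isF_unique (hL : RelProj.IsRelTwist 𝒮 p chart m L lam) (f : 𝒮.presheaf.obj (op ⊤))
    (a b : ℕ) (V : Y.Opens) (hV : IsAffineOpen V) (Xf : P.Opens)
    (hXf : Xf ⊓ p ⁻¹ᵁ V =
        (p ⁻¹ᵁ V).ι ''ᵁ ((chart V hV).hom ⁻¹ᵁ Proj.basicOpen (𝒮.deg V hV) (fU f V)))
    (N : P.Opens) (hN : N ≤ Xf ⊓ p ⁻¹ᵁ V) (t t' : Γ(L, N))
    (h : IsF lam f a b V hV N t) (h' : IsF lam f a b V hV N t') : t = t' := by
  apply (hL.bijective V hV N (hN.trans inf_le_right)).1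
  refine Groth.Agent.Lib.helper28.GTwistQCoh.sectN_ext _ _ _ fun x => ?_
  have hx : fU f V ∉ x.1.asHomogeneousIdeal := (emb_mem_iff f Xf V hV hXf x.1).mp (hN x.2).1
  exact (isUnit_fU_pow f V hV x.1 hx b).mul_left_injective ((h x.1 x.2).trans (h' x.1 x.2).symm)

theorem pow_mem_deg (f : 𝒮.presheaf.obj (op ⊤)) {d : ℕ} (U : Y.Opens) (hU : IsAffineOpen U)
    (hf : fU f U ∈ 𝒮.deg U hU d) (k : ℕ) : fU f U ^ k ∈ 𝒮.deg U hU (k * d) := by
  have := SetLike.pow_mem_graded (A := 𝒮.deg U hU) k hf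
  simpa [smul_eq_mul] using this

open Groth.Agent.Lib.helper28.GTwistFree in
theorem exists_isF (hL : RelProj.IsRelTwist 𝒮 p chart m L lam) (f : 𝒮.presheaf.obj (op ⊤))
    {d : ℕ} (a b : ℕ) (hdeg : ((a * d : ℕ) : ℤ) = ((b * d : ℕ) : ℤ) + m)
    (U : Y.Opens) (hU : IsAffineOpen U) (hf : fU f U ∈ 𝒮.deg U hU d) (Xf : P.Opens)
    (hXf : Xf ⊓ p ⁻¹ᵁ U =
        (p ⁻¹ᵁ U).ι ''ᵁ ((chart U hU).hom ⁻¹ᵁ Proj.basicOpen (𝒮.deg U hU) (fU f U)))
    (N : P.Opens) (hN : N ≤ Xf ⊓ p ⁻¹ᵁ U) :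
    ∃ t : Γ(L, N), IsF lam f a b U hU N t := by
  have hW : ∀ x : (RelProj.emb p chart U hU ⁻¹ᵁ N : (Proj (𝒮.deg U hU)).Opens),
      fU f U ^ b ∉ x.1.asHomogeneousIdeal := fun x hmem =>
    (emb_mem_iff f Xf U hU hXf x.1).mp (hN x.2).1 (x.1.isPrime.mem_of_pow_mem _ hmem)
  obtain ⟨t, ht⟩ := (hL.bijective U hU N (hN.trans inf_le_right)).2
    (fracSectN (𝒮.deg U hU) m (RelProj.emb p chart U hU ⁻¹ᵁ N)
      ⟨fU f U ^ a, pow_mem_deg f U hU hf a⟩ ⟨fU f U ^ b, pow_mem_deg f U hU hf b⟩ hW hdeg)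
  refine ⟨t, fun z hz => ?_⟩
  rw [ht]
  change Localization.mk (fU f U ^ a) ⟨fU f U ^ b, hW ⟨z, hz⟩⟩ * _ = _
  rw [Localization.mk_eq_mk']
  exact IsLocalization.mk'_spec _ _ _

open Groth.Agent.Lib.helper2 in
/-- **Gluing**: there is a section of `O_P(m)` over `X_f` reading `f^a / f^b` on every chart. -/
theorem exists_glued (hP : RelProj.IsRelProj 𝒮 p chart)
    (hL : RelProj.IsRelTwist 𝒮 p chart m L lam) (f : 𝒮.presheaf.obj (op ⊤))
    {d : ℕ} (a b : ℕ) (hdeg : ((a * d : ℕ) : ℤ) = ((b * d : ℕ) : ℤ) + m)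
    (hf : ∀ (U : Y.Opens) (hU : IsAffineOpen U), fU f U ∈ 𝒮.deg U hU d) (Xf : P.Opens)
    (hXf : ∀ (U : Y.Opens) (hU : IsAffineOpen U), Xf ⊓ p ⁻¹ᵁ U =
        (p ⁻¹ᵁ U).ι ''ᵁ ((chart U hU).hom ⁻¹ᵁ Proj.basicOpen (𝒮.deg U hU) (fU f U))) :
    ∃ t : Γ(L, Xf), ∀ (U : Y.Opens) (hU : IsAffineOpen U),
      IsF lam f a b U hU (Xf ⊓ p ⁻¹ᵁ U)
        (L.presheaf.map (homOfLE (inf_le_left : Xf ⊓ p ⁻¹ᵁ U ≤ Xf)).op t) := by
  classical
  let ι := {U : Y.Opens // IsAffineOpen U}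
  let W : ι → P.Opens := fun i => Xf ⊓ p ⁻¹ᵁ i.1
  have hex : ∀ i : ι, ∃ t : Γ(L, W i), IsF lam f a b i.1 i.2 (W i) t := fun i =>
    exists_isF lam hL f a b hdeg i.1 i.2 (hf i.1 i.2) Xf (hXf i.1 i.2) (W i) le_rfl
  choose sf hsf using hex
  have hcover : Xf ≤ iSup W := by
    intro x hx
    obtain ⟨U, hU, hxU, -⟩ := (Opens.isBasis_iff_nbhd.mp Y.isBasis_affineOpens)
      (show p.base x ∈ (⊤ : Y.Opens) from trivial)
    exact Opens.mem_iSup.mpr ⟨⟨U, hU⟩, hx, hxU⟩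
  have hcompat : TopCat.Presheaf.IsCompatible L.presheaf W sf := by
    intro i j
    let κ := {q : Γ(Y, i.1) × Γ(Y, j.1) // Y.basicOpen q.1 = Y.basicOpen q.2}
    let N : κ → P.Opens := fun q => Xf ⊓ p ⁻¹ᵁ (Y.basicOpen q.1.1)
    have hNle : ∀ q : κ, N q ≤ W i ⊓ W j := fun q x hx =>
      ⟨⟨hx.1, Y.basicOpen_le q.1.1 hx.2⟩, ⟨hx.1, Y.basicOpen_le q.1.2 (q.2 ▸ hx.2)⟩⟩
    refine (ModSec.sheaf L).eq_of_locally_eq' N (W i ⊓ W j) (fun q => homOfLE (hNle q)) ?_ _ _ ?_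
    · intro x hx
      obtain ⟨r, r', hrr, hxr⟩ := exists_basicOpen_le_affine_inter i.2 j.2 (p.base x)
        ⟨hx.1.2, hx.2.2⟩
      exact Opens.mem_iSup.mpr ⟨⟨(r, r'), hrr⟩, hx.1.1, hxr⟩
    · intro q
      have hV : IsAffineOpen (Y.basicOpen q.1.1) := i.2.basicOpen q.1.1
      have h1 := isF_res lam f a b _ hV (hNle q) _ (isF_res lam f a b _ hV
        (inf_le_left : W i ⊓ W j ≤ W i) _
        (isF_descend lam hP hL f a b i.1 i.2 q.1.1 _ hV rfl (W i) (sf i) (hsf i)))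
      have h2 := isF_res lam f a b _ hV (hNle q) _ (isF_res lam f a b _ hV
        (inf_le_right : W i ⊓ W j ≤ W j) _
        (isF_descend lam hP hL f a b j.1 j.2 q.1.2 _ hV q.2 (W j) (sf j) (hsf j)))
      exact isF_unique lam hL f a b _ hV Xf (hXf _ hV) (N q) le_rfl _ _ h1 h2
  obtain ⟨t, ht, -⟩ := (ModSec.sheaf L).existsUnique_gluing' W Xf
    (fun i => homOfLE (inf_le_left : W i ≤ Xf)) hcover sf hcompat
  refine ⟨t, fun U hU => ?_⟩
  have h3 : L.presheaf.map (homOfLE (inf_le_left : Xf ⊓ p ⁻¹ᵁ U ≤ Xf)).op t = sf ⟨U, hU⟩ :=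
    ht ⟨U, hU⟩
  rw [h3]
  exact hsf ⟨U, hU⟩

open Groth.Agent.Lib.helper28.GTwistFree Groth.Agent.Lib.helper28.LocalGen in
/-- A section reading `f^a / f^b` on the chart over `U` generates `O_P(m)` freely over
`X_f ∩ p⁻¹(U)`. -/
theorem bijective_smul_of_isF (hL : RelProj.IsRelTwist 𝒮 p chart m L lam)
    (f : 𝒮.presheaf.obj (op ⊤)) {d : ℕ} (hd : 0 < d) (a b : ℕ)
    (hdeg : ((a * d : ℕ) : ℤ) = ((b * d : ℕ) : ℤ) + m)
    (U : Y.Opens) (hU : IsAffineOpen U) (hf : fU f U ∈ 𝒮.deg U hU d) (Xf : P.Opens)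
    (hXf : Xf ⊓ p ⁻¹ᵁ U =
        (p ⁻¹ᵁ U).ι ''ᵁ ((chart U hU).hom ⁻¹ᵁ Proj.basicOpen (𝒮.deg U hU) (fU f U)))
    (N : P.Opens) (hN : N = Xf ⊓ p ⁻¹ᵁ U) (t : Γ(L, N)) (ht : IsF lam f a b U hU N t) :
    Function.Bijective (fun r : Γ(P, N) => r • t) := by
  have hrange : ∀ z : Proj (𝒮.deg U hU), (RelProj.emb p chart U hU).base z ∈ p ⁻¹ᵁ U := by
    intro z
    have : (RelProj.emb p chart U hU).base z ∈ Set.range (RelProj.emb p chart U hU) := ⟨z, rfl⟩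
    rw [range_emb] at this
    exact this
  have hW : (RelProj.emb p chart U hU ⁻¹ᵁ N : (Proj (𝒮.deg U hU)).Opens) =
      ProjectiveSpectrum.basicOpen (𝒮.deg U hU) (fU f U) := by
    ext z
    change (RelProj.emb p chart U hU).base z ∈ N ↔ _
    rw [hN]
    refine Iff.trans ?_ (ProjectiveSpectrum.mem_basicOpen (𝒮.deg U hU) (fU f U) z).symm
    rw [← emb_mem_iff f Xf U hU hXf z]
    exact ⟨fun h => h.1, fun h => ⟨h, hrange z⟩⟩
  have hnot : ∀ (k : ℕ) (x : (RelProj.emb p chart U hU ⁻¹ᵁ N : (Proj (𝒮.deg U hU)).Opens)),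
      fU f U ^ k ∉ x.1.asHomogeneousIdeal := fun k x hmem =>
    (emb_mem_iff f Xf U hU hXf x.1).mp (hN ▸ x.2 : _ ∈ Xf ⊓ p ⁻¹ᵁ U).1
      (x.1.isPrime.mem_of_pow_mem _ hmem)
  let s₀ : Γ(GrTwist.twist (𝒮.deg U hU) m, RelProj.emb p chart U hU ⁻¹ᵁ N) :=
    fracSectN (𝒮.deg U hU) m (RelProj.emb p chart U hU ⁻¹ᵁ N)
      ⟨fU f U ^ a, pow_mem_deg f U hU hf a⟩ ⟨fU f U ^ b, pow_mem_deg f U hU hf b⟩ (hnot b) hdeg
  have hs₀ : (lam U hU).app N t = s₀ := by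
    refine Groth.Agent.Lib.helper28.GTwistQCoh.sectN_ext _ _ _ fun x => ?_
    have h1 := ht x.1 x.2
    have h2 : GrTwist.val s₀ x *
        algebraMap (𝒮.presheaf.obj (op U)) (GrTwist.Loc (𝒮.deg U hU) x.1) (fU f U ^ b) =
        algebraMap (𝒮.presheaf.obj (op U)) (GrTwist.Loc (𝒮.deg U hU) x.1) (fU f U ^ a) := by
      change Localization.mk (fU f U ^ a) ⟨fU f U ^ b, hnot b x⟩ * _ = _
      rw [Localization.mk_eq_mk']
      exact IsLocalization.mk'_spec _ _ _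
    have hx : fU f U ∉ x.1.asHomogeneousIdeal := fun hmem => hnot 1 x (by simpa using hmem)
    exact (isUnit_fU_pow f U hU x.1 hx b).mul_left_injective (h1.trans h2.symm)
  have hbij := bijective_smul_fracSectN (𝒮.deg U hU) m hd hf _ hW
    ⟨fU f U ^ a, pow_mem_deg f U hU hf a⟩ ⟨fU f U ^ b, pow_mem_deg f U hU hf b⟩ (hnot a) (hnot b)
    hdeg
  have hiso : Function.Bijective ((RelProj.emb p chart U hU).app N).hom := by
    haveI := Scheme.Hom.isIso_app (RelProj.emb p chart U hU) N (by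
      intro x hx
      change x ∈ Set.range (RelProj.emb p chart U hU)
      rw [range_emb]
      exact (hN ▸ hx : x ∈ Xf ⊓ p ⁻¹ᵁ U).2)
    exact (ConcreteCategory.isIso_iff_bijective ((RelProj.emb p chart U hU).app N)).mp inferInstance
  have hlam := hL.bijective U hU N (hN.le.trans inf_le_right)
  have key : ∀ r : Γ(P, N), (lam U hU).app N (r • t) =
      (((RelProj.emb p chart U hU).app N).hom r • s₀ :
        Γ(GrTwist.twist (𝒮.deg U hU) m, RelProj.emb p chart U hU ⁻¹ᵁ N)) := by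
    intro r
    rw [Scheme.Modules.Hom.app_smul, smul_pushforward, hs₀]
  constructor
  · intro r r' h
    apply hiso.1
    apply hbij.1
    exact (key r).symm.trans ((congrArg _ h).trans (key r'))
  · intro y
    obtain ⟨c, hc⟩ := hbij.2 ((lam U hU).app N y)
    obtain ⟨r, rfl⟩ := hiso.2 c
    exact ⟨r, hlam.1 ((key r).trans hc)⟩

theorem inf_eq_image_emb (f : 𝒮.presheaf.obj (op ⊤)) (U : Y.Opens) (hU : IsAffineOpen U)
    (Xf : P.Opens)
    (hXf : Xf ⊓ p ⁻¹ᵁ U =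
        (p ⁻¹ᵁ U).ι ''ᵁ ((chart U hU).hom ⁻¹ᵁ Proj.basicOpen (𝒮.deg U hU) (fU f U))) :
    Xf ⊓ p ⁻¹ᵁ U = (RelProj.emb p chart U hU) ''ᵁ (Proj.basicOpen (𝒮.deg U hU) (fU f U)) := by
  ext x
  constructor
  · intro hx
    have hx2 : x ∈ Set.range (RelProj.emb p chart U hU) := by
      rw [range_emb]
      exact hx.2
    obtain ⟨z, rfl⟩ := hx2
    exact ⟨z, (ProjectiveSpectrum.mem_basicOpen (𝒮.deg U hU) (fU f U) z).mpr
      ((emb_mem_iff f Xf U hU hXf z).mp hx.1), rfl⟩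
  · rintro ⟨z, hz, rfl⟩
    refine ⟨(emb_mem_iff f Xf U hU hXf z).mpr
      ((ProjectiveSpectrum.mem_basicOpen (𝒮.deg U hU) (fU f U) z).mp hz), ?_⟩
    have : (RelProj.emb p chart U hU).base z ∈ Set.range (RelProj.emb p chart U hU) := ⟨z, rfl⟩
    rw [range_emb] at this
    exact this

theorem isAffineOpen_inf (f : 𝒮.presheaf.obj (op ⊤)) {d : ℕ} (hd : 0 < d) (U : Y.Opens)
    (hU : IsAffineOpen U) (hf : fU f U ∈ 𝒮.deg U hU d) (Xf : P.Opens)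
    (hXf : Xf ⊓ p ⁻¹ᵁ U =
        (p ⁻¹ᵁ U).ι ''ᵁ ((chart U hU).hom ⁻¹ᵁ Proj.basicOpen (𝒮.deg U hU) (fU f U))) :
    IsAffineOpen (Xf ⊓ p ⁻¹ᵁ U) := by
  rw [inf_eq_image_emb f U hU Xf hXf]
  exact (Proj.isAffineOpen_basicOpen (𝒮.deg U hU) (fU f U) hf hd).image_of_isOpenImmersion _

theorem le_iSup_inf (p : P ⟶ Y) (Xf : P.Opens) :
    Xf ≤ ⨆ i : {U : Y.Opens // IsAffineOpen U}, Xf ⊓ p ⁻¹ᵁ i.1 := by
  intro x hx
  obtain ⟨U, hU, hxU, -⟩ := (Opens.isBasis_iff_nbhd.mp Y.isBasis_affineOpens)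
    (show p.base x ∈ (⊤ : Y.Opens) from trivial)
  exact Opens.mem_iSup.mpr ⟨⟨U, hU⟩, hx, hxU⟩

end Groth.Agent.Lib.helper28.RelTwistSec
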