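import Groth.Agent.Lib.Helper28.RelTwistChart
import Groth.Agent.Lib.Helper28.GTwistFree
import Groth.Agent.Lib.Helper28.GTwistQCoh
import Groth.Agent.Lib.Helper28.LocalGen
import Groth.Agent.Lib.Helper2.ModSec
import Groth.Agent.Lib.Helper28.RelTwistSec

/-!
# The comparison map `O_{Proj 𝒜}(n) ⟶ h_* O_{Proj ℬ}(n)` of relative twisting sheaves (helper28)
-/

set_option autoImplicit false
set_option linter.style.haveILetI false
universe u
open CategoryTheory CategoryTheory.Limits AlgebraicGeometry TopologicalSpace Opposite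
open Scheme.Modules
open scoped HomogeneousIdeal

namespace Groth.Agent.Lib.helper28.RelTwistMap

open Groth.Agent.Lib.helper28.RelTwistChart Groth.Agent.Lib.helper2

variable {Y PA PB : Scheme.{u}} {𝒜 ℬ : RelProj.QCGrAlg Y}
  {φ : 𝒜.toQCAlg ⟶ ℬ.toQCAlg} {hφ : RelProj.IsGradedHom φ}
  {hirr : ∀ (U : Y.Opens) (hU : IsAffineOpen U),
    (ℬ.deg U hU)₊ ≤ ((𝒜.deg U hU)₊).map (RelProj.gradedHomAt φ hφ U hU)}
  {pA : PA ⟶ Y} {pB : PB ⟶ Y}
  {chartA : ∀ (U : Y.Opens) (hU : IsAffineOpen U),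
    (((pA ⁻¹ᵁ U : PA.Opens) : Scheme.{u}) ≅ Proj (𝒜.deg U hU))}
  {chartB : ∀ (U : Y.Opens) (hU : IsAffineOpen U),
    (((pB ⁻¹ᵁ U : PB.Opens) : Scheme.{u}) ≅ Proj (ℬ.deg U hU))}
  {h : PB ⟶ PA}

/-- The key equation: the chart immersions intertwine `h` and `Proj.map`. -/
theorem emb_comp_h (hh : RelProj.IsRelProjMap φ hφ hirr chartA chartB h) (U : Y.Opens)
    (hU : IsAffineOpen U) :
    RelProj.emb pB chartB U hU ≫ h =
      Proj.map (RelProj.gradedHomAt φ hφ U hU) (hirr U hU) ≫ RelProj.emb pA chartA U hU := by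
  unfold RelProj.emb
  rw [Category.assoc, hh U hU, Iso.inv_hom_id_assoc]

theorem h_emb (hh : RelProj.IsRelProjMap φ hφ hirr chartA chartB h) (U : Y.Opens)
    (hU : IsAffineOpen U) (y : ProjectiveSpectrum (ℬ.deg U hU)) :
    h.base ((RelProj.emb pB chartB U hU).base y) =
      (RelProj.emb pA chartA U hU).base
        (ProjectiveSpectrum.comap (RelProj.gradedHomAt φ hφ U hU) (hirr U hU) y) := by
  have := emb_comp_h hh U hU
  have h2 := congrArg (fun g => g.base y) this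
  simp only [Scheme.Hom.comp_base] at h2
  exact h2

/-- `φ` commutes with restrictions, elementwise. -/
theorem gradedHomAt_res (U V : Y.Opens) (hU : IsAffineOpen U) (hV : IsAffineOpen V) (i : V ≤ U)
    (a : 𝒜.presheaf.obj (op U)) :
    RelProj.gradedHomAt φ hφ V hV (𝒜.res hU hV i a) =
      ℬ.res hU hV i (RelProj.gradedHomAt φ hφ U hU a) := by
  have := φ.hom.naturality (homOfLE i).op
  exact congr($this a)

variable {n : ℤ} {LA : PA.Modules} {LB : PB.Modules}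
  (hirr)
  (lamA : ∀ (U : Y.Opens) (hU : IsAffineOpen U),
    LA ⟶ (Scheme.Modules.pushforward (RelProj.emb pA chartA U hU)).obj
      (GrTwist.twist (𝒜.deg U hU) n))
  (lamB : ∀ (U : Y.Opens) (hU : IsAffineOpen U),
    LB ⟶ (Scheme.Modules.pushforward (RelProj.emb pB chartB U hU)).obj
      (GrTwist.twist (ℬ.deg U hU) n))

/-- The section `t` of `O_{PB}(n)` over `N` reads, on the chart over `U`, the comparison image
`a / f ↦ φ a / φ f` of the section `s` of `O_{PA}(n)` over `W`. -/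
def Rel (U : Y.Opens) (hU : IsAffineOpen U) (W : PA.Opens) (N : PB.Opens) (s : Γ(LA, W))
    (t : Γ(LB, N)) : Prop :=
  ∀ (y : ProjectiveSpectrum (ℬ.deg U hU)) (hy : (RelProj.emb pB chartB U hU).base y ∈ N)
    (hy' : (RelProj.emb pA chartA U hU).base
      (ProjectiveSpectrum.comap (RelProj.gradedHomAt φ hφ U hU) (hirr U hU) y) ∈ W),
    GrTwist.val (V := RelProj.emb pB chartB U hU ⁻¹ᵁ N) ((lamB U hU).app N t) ⟨y, hy⟩ =
      GrTwist.locMap (RelProj.gradedHomAt φ hφ U hU) (hirr U hU) y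
        (GrTwist.val (V := RelProj.emb pA chartA U hU ⁻¹ᵁ W) ((lamA U hU).app W s) ⟨_, hy'⟩)

theorem rel_resB (U : Y.Opens) (hU : IsAffineOpen U) (W : PA.Opens) {N N₂ : PB.Opens}
    (i : N₂ ≤ N) (s : Γ(LA, W)) (t : Γ(LB, N)) (hr : Rel hirr lamA lamB U hU W N s t) :
    Rel hirr lamA lamB U hU W N₂ s (LB.presheaf.map (homOfLE i).op t) := by
  intro y hy hy'
  rw [← ModSec.map_app_apply (lamB U hU) (homOfLE i) t]
  exact hr y (i hy) hy'

theorem rel_resA (U : Y.Opens) (hU : IsAffineOpen U) {W W₂ : PA.Opens} (i : W₂ ≤ W)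
    (N : PB.Opens) (s : Γ(LA, W)) (t : Γ(LB, N)) (hr : Rel hirr lamA lamB U hU W N s t) :
    Rel hirr lamA lamB U hU W₂ N (LA.presheaf.map (homOfLE i).op s) t := by
  intro y hy hy'
  rw [← ModSec.map_app_apply (lamA U hU) (homOfLE i) s]
  exact hr y hy (i hy')

/-- Values only depend on the restriction of `t` to a neighbourhood. -/
theorem rel_of_resB (U : Y.Opens) (hU : IsAffineOpen U) (W : PA.Opens) {N N₂ : PB.Opens}
    (i : N₂ ≤ N) (s : Γ(LA, W)) (t : Γ(LB, N))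
    (hr : Rel hirr lamA lamB U hU W N₂ s (LB.presheaf.map (homOfLE i).op t))
    (y : ProjectiveSpectrum (ℬ.deg U hU)) (hy : (RelProj.emb pB chartB U hU).base y ∈ N₂)
    (hy' : (RelProj.emb pA chartA U hU).base
      (ProjectiveSpectrum.comap (RelProj.gradedHomAt φ hφ U hU) (hirr U hU) y) ∈ W) :
    GrTwist.val (V := RelProj.emb pB chartB U hU ⁻¹ᵁ N) ((lamB U hU).app N t) ⟨y, i hy⟩ =
      GrTwist.locMap (RelProj.gradedHomAt φ hφ U hU) (hirr U hU) y
        (GrTwist.val (V := RelProj.emb pA chartA U hU ⁻¹ᵁ W) ((lamA U hU).app W s) ⟨_, hy'⟩) := by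
  have h1 := hr y hy hy'
  rw [← ModSec.map_app_apply (lamB U hU) (homOfLE i) t] at h1
  exact h1

theorem rel_unique (hLB : RelProj.IsRelTwist ℬ pB chartB n LB lamB)
    (hh : RelProj.IsRelProjMap φ hφ hirr chartA chartB h)
    (U : Y.Opens) (hU : IsAffineOpen U) (W : PA.Opens) (N : PB.Opens) (hN : N ≤ pB ⁻¹ᵁ U)
    (hNW : N ≤ h ⁻¹ᵁ W) (s : Γ(LA, W)) (t t' : Γ(LB, N))
    (hr : Rel hirr lamA lamB U hU W N s t) (hr' : Rel hirr lamA lamB U hU W N s t') : t = t' := by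
  apply (hLB.bijective U hU N hN).1
  refine Groth.Agent.Lib.helper28.GTwistQCoh.sectN_ext _ _ _ fun x => ?_
  have hy' : (RelProj.emb pA chartA U hU).base
      (ProjectiveSpectrum.comap (RelProj.gradedHomAt φ hφ U hU) (hirr U hU) x.1) ∈ W := by
    rw [← h_emb hh U hU x.1]
    exact hNW x.2
  exact (hr x.1 x.2 hy').trans (hr' x.1 x.2 hy').symm

theorem rel_exists (hLB : RelProj.IsRelTwist ℬ pB chartB n LB lamB)
    (hh : RelProj.IsRelProjMap φ hφ hirr chartA chartB h)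
    (U : Y.Opens) (hU : IsAffineOpen U) (W : PA.Opens) (N : PB.Opens) (hN : N ≤ pB ⁻¹ᵁ U)
    (hNW : N ≤ h ⁻¹ᵁ W) (s : Γ(LA, W)) :
    ∃ t : Γ(LB, N), Rel hirr lamA lamB U hU W N s t := by
  have hUV : ((RelProj.emb pB chartB U hU ⁻¹ᵁ N : (Proj (ℬ.deg U hU)).Opens)).1 ⊆
      ProjectiveSpectrum.comap (RelProj.gradedHomAt φ hφ U hU) (hirr U hU) ⁻¹'
        ((RelProj.emb pA chartA U hU ⁻¹ᵁ W : (Proj (𝒜.deg U hU)).Opens)).1 := by
    intro y hy
    change (RelProj.emb pA chartA U hU).base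
      (ProjectiveSpectrum.comap (RelProj.gradedHomAt φ hφ U hU) (hirr U hU) y) ∈ W
    rw [← h_emb hh U hU y]
    exact hNW hy
  obtain ⟨t, ht⟩ := (hLB.bijective U hU N hN).2
    (GrTwist.comapApp (RelProj.gradedHomAt φ hφ U hU) (hirr U hU) n
      (RelProj.emb pA chartA U hU ⁻¹ᵁ W) (RelProj.emb pB chartB U hU ⁻¹ᵁ N) hUV
      ((lamA U hU).app W s))
  refine ⟨t, fun y hy hy' => ?_⟩
  rw [ht]
  rfl

theorem comap_comap_eq (U : Y.Opens) (hU : IsAffineOpen U) (r : Γ(Y, U))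
    (z : ProjectiveSpectrum (ℬ.deg (Y.basicOpen r) (hU.basicOpen r))) :
    ProjectiveSpectrum.comap (𝒜.res hU (hU.basicOpen r) (Y.basicOpen_le r))
        (𝒜.irrelevant_le_map U hU r)
      (ProjectiveSpectrum.comap (RelProj.gradedHomAt φ hφ (Y.basicOpen r) (hU.basicOpen r))
        (hirr _ _) z) =
    ProjectiveSpectrum.comap (RelProj.gradedHomAt φ hφ U hU) (hirr U hU)
      (ProjectiveSpectrum.comap (ℬ.res hU (hU.basicOpen r) (Y.basicOpen_le r))
        (ℬ.irrelevant_le_map U hU r) z) := by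
  apply ProjectiveSpectrum.ext
  ext a
  change RelProj.gradedHomAt φ hφ (Y.basicOpen r) (hU.basicOpen r)
      (𝒜.res hU (hU.basicOpen r) (Y.basicOpen_le r) a) ∈ z.asHomogeneousIdeal ↔
    ℬ.res hU (hU.basicOpen r) (Y.basicOpen_le r) (RelProj.gradedHomAt φ hφ U hU a) ∈
      z.asHomogeneousIdeal
  rw [gradedHomAt_res]

theorem val_eq_of_point_eq {A σ : Type u} [CommRing A] [SetLike σ A] [AddSubgroupClass σ A]
    {𝒜' : ℕ → σ} [GradedRing 𝒜'] {m : ℤ} {V : (Proj 𝒜').Opens}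
    (τ : Γ(GrTwist.twist 𝒜' m, V)) {x₁ x₂ : ProjectiveSpectrum 𝒜'} (hx : x₁ = x₂)
    (h₁ : (show ↥(Proj 𝒜') from x₁) ∈ V) (h₂ : (show ↥(Proj 𝒜') from x₂) ∈ V) (a s₀ : A)
    (hs₁ : s₀ ∉ x₁.asHomogeneousIdeal)
    (hv : GrTwist.val τ ⟨x₁, h₁⟩ = Localization.mk a ⟨s₀, hs₁⟩) :
    GrTwist.val τ ⟨x₂, h₂⟩ = Localization.mk a ⟨s₀, hx ▸ hs₁⟩ := by
  subst hx
  exact hv

theorem mk_congr {A : Type u} [CommRing A] {S : Submonoid A} {a a' b b' : A} (hb : b ∈ S)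
    (hb' : b' ∈ S) (ha : a = a') (hbb : b = b') :
    (Localization.mk a ⟨b, hb⟩ : Localization S) = Localization.mk a' ⟨b', hb'⟩ := by
  subst ha; subst hbb; rfl

theorem rel_descend (hA : RelProj.IsRelProj 𝒜 pA chartA) (hB : RelProj.IsRelProj ℬ pB chartB)
    (hLA : RelProj.IsRelTwist 𝒜 pA chartA n LA lamA)
    (hLB : RelProj.IsRelTwist ℬ pB chartB n LB lamB)
    (U : Y.Opens) (hU : IsAffineOpen U) (r : Γ(Y, U)) (V : Y.Opens) (hV : IsAffineOpen V)
    (hVr : V = Y.basicOpen r) (W : PA.Opens) (N : PB.Opens) (s : Γ(LA, W)) (t : Γ(LB, N))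
    (hr : Rel hirr lamA lamB U hU W N s t) : Rel hirr lamA lamB V hV W N s t := by
  subst hVr
  intro z hz hz'
  have hyB : (RelProj.emb pB chartB U hU).base (ProjectiveSpectrum.comap
      (ℬ.res hU (hU.basicOpen r) (Y.basicOpen_le r)) (ℬ.irrelevant_le_map U hU r) z) ∈ N := by
    rw [Groth.Agent.Lib.helper28.RelTwistSec.emb_comap hB]
    exact hz
  have hyA1 : (RelProj.emb pA chartA U hU).base (ProjectiveSpectrum.comap
      (𝒜.res hU (hU.basicOpen r) (Y.basicOpen_le r)) (𝒜.irrelevant_le_map U hU r)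
      (ProjectiveSpectrum.comap (RelProj.gradedHomAt φ hφ (Y.basicOpen r) (hU.basicOpen r))
        (hirr _ _) z)) ∈ W := by
    rw [Groth.Agent.Lib.helper28.RelTwistSec.emb_comap hA]
    exact hz'
  have hcB := hLB.compat U hU r N t z hz hyB
  have hcA := hLA.compat U hU r W s _ hz' hyA1
  have hpt := comap_comap_eq hirr U hU r z
  have hyA2 : (RelProj.emb pA chartA U hU).base
      (ProjectiveSpectrum.comap (RelProj.gradedHomAt φ hφ U hU) (hirr U hU)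
        (ProjectiveSpectrum.comap (ℬ.res hU (hU.basicOpen r) (Y.basicOpen_le r))
          (ℬ.irrelevant_le_map U hU r) z)) ∈ W := hpt ▸ hyA1
  have hrel := hr _ hyB hyA2
  obtain ⟨⟨a, s₀⟩, hv⟩ := IsLocalization.mk'_surjective
    (ProjectiveSpectrum.comap (𝒜.res hU (hU.basicOpen r) (Y.basicOpen_le r))
        (𝒜.irrelevant_le_map U hU r)
      (ProjectiveSpectrum.comap (RelProj.gradedHomAt φ hφ (Y.basicOpen r) (hU.basicOpen r))
        (hirr _ _) z)).asHomogeneousIdeal.toIdeal.primeCompl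
    (GrTwist.val (V := RelProj.emb pA chartA U hU ⁻¹ᵁ W) ((lamA U hU).app W s) ⟨_, hyA1⟩)
  rw [← Localization.mk_eq_mk'] at hv
  have hv2 := val_eq_of_point_eq ((lamA U hU).app W s) hpt hyA1 hyA2 a s₀.1 s₀.2 hv.symm
  rw [hcB, hrel, hv2, hcA, ← hv, GrTwist.locMap_mk, GrTwist.locMap_mk, GrTwist.locMap_mk,
    GrTwist.locMap_mk]
  exact mk_congr _ _ (gradedHomAt_res U _ hU _ _ a).symm (gradedHomAt_res U _ hU _ _ s₀.1).symm

theorem rel_indep (hA : RelProj.IsRelProj 𝒜 pA chartA) (hB : RelProj.IsRelProj ℬ pB chartB)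
    (hLA : RelProj.IsRelTwist 𝒜 pA chartA n LA lamA)
    (hLB : RelProj.IsRelTwist ℬ pB chartB n LB lamB)
    (hh : RelProj.IsRelProjMap φ hφ hirr chartA chartB h)
    (U : Y.Opens) (hU : IsAffineOpen U) (W : PA.Opens) (N : PB.Opens) (hN : N ≤ pB ⁻¹ᵁ U)
    (hNW : N ≤ h ⁻¹ᵁ W) (s : Γ(LA, W)) (t : Γ(LB, N)) (hr : Rel hirr lamA lamB U hU W N s t)
    (U' : Y.Opens) (hU' : IsAffineOpen U') : Rel hirr lamA lamB U' hU' W N s t := by
  intro y hy hy'
  have hxU' : (RelProj.emb pB chartB U' hU').base y ∈ pB ⁻¹ᵁ U' := by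
    have : (RelProj.emb pB chartB U' hU').base y ∈ Set.range (RelProj.emb pB chartB U' hU') :=
      ⟨y, rfl⟩
    rw [range_emb] at this
    exact this
  obtain ⟨r, r', hrr, hx⟩ := exists_basicOpen_le_affine_inter hU hU'
    (pB.base ((RelProj.emb pB chartB U' hU').base y)) ⟨hN hy, hxU'⟩
  have hV : IsAffineOpen (Y.basicOpen r) := hU.basicOpen r
  have hN₂ : N ⊓ pB ⁻¹ᵁ (Y.basicOpen r) ≤ N := inf_le_left
  have h1 := rel_resB hirr lamA lamB U hU W hN₂ s t hr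
  have h2 := rel_descend hirr lamA lamB hA hB hLA hLB U hU r _ hV rfl W _ s _ h1
  have hle' : N ⊓ pB ⁻¹ᵁ (Y.basicOpen r) ≤ pB ⁻¹ᵁ U' := fun x hx =>
    Y.basicOpen_le r' (hrr ▸ hx.2)
  obtain ⟨t'', h3⟩ := rel_exists hirr lamA lamB hLB hh U' hU' W _ hle' (hN₂.trans hNW) s
  have h4 := rel_descend hirr lamA lamB hA hB hLA hLB U' hU' r' _ hV hrr W _ s _ h3
  have h5 := rel_unique hirr lamA lamB hLB hh _ hV W _ inf_le_right (hN₂.trans hNW) s _ _ h4 h2
  subst h5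
  exact rel_of_resB hirr lamA lamB U' hU' W hN₂ s t h3 y ⟨hy, hx⟩ hy'

/-- `t` is the comparison image of `s`. -/
def IsImg (W : PA.Opens) (s : Γ(LA, W)) (t : Γ(LB, h ⁻¹ᵁ W)) : Prop :=
  ∀ (U : Y.Opens) (hU : IsAffineOpen U), Rel hirr lamA lamB U hU W (h ⁻¹ᵁ W) s t

theorem img_unique (hLB : RelProj.IsRelTwist ℬ pB chartB n LB lamB)
    (hh : RelProj.IsRelProjMap φ hφ hirr chartA chartB h) (W : PA.Opens) (s : Γ(LA, W))
    (t t' : Γ(LB, h ⁻¹ᵁ W)) (ht : IsImg hirr lamA lamB W s t) (ht' : IsImg hirr lamA lamB W s t') :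
    t = t' := by
  refine (ModSec.sheaf LB).eq_of_locally_eq'
    (fun i : {U : Y.Opens // IsAffineOpen U} => h ⁻¹ᵁ W ⊓ pB ⁻¹ᵁ i.1) (h ⁻¹ᵁ W)
    (fun i => homOfLE inf_le_left) (Groth.Agent.Lib.helper28.RelTwistSec.le_iSup_inf pB _) t t' ?_
  intro i
  exact rel_unique hirr lamA lamB hLB hh i.1 i.2 W _ inf_le_right inf_le_left s _ _
    (rel_resB hirr lamA lamB i.1 i.2 W inf_le_left s t (ht i.1 i.2))
    (rel_resB hirr lamA lamB i.1 i.2 W inf_le_left s t' (ht' i.1 i.2))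

theorem exists_img (hA : RelProj.IsRelProj 𝒜 pA chartA) (hB : RelProj.IsRelProj ℬ pB chartB)
    (hLA : RelProj.IsRelTwist 𝒜 pA chartA n LA lamA)
    (hLB : RelProj.IsRelTwist ℬ pB chartB n LB lamB)
    (hh : RelProj.IsRelProjMap φ hφ hirr chartA chartB h) (W : PA.Opens) (s : Γ(LA, W)) :
    ∃ t : Γ(LB, h ⁻¹ᵁ W), IsImg hirr lamA lamB W s t := by
  classical
  let ι := {U : Y.Opens // IsAffineOpen U}
  let N : ι → PB.Opens := fun i => h ⁻¹ᵁ W ⊓ pB ⁻¹ᵁ i.1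
  have hex : ∀ i : ι, ∃ t : Γ(LB, N i), Rel hirr lamA lamB i.1 i.2 W (N i) s t := fun i =>
    rel_exists hirr lamA lamB hLB hh i.1 i.2 W (N i) inf_le_right inf_le_left s
  choose sf hsf using hex
  have hcompat : TopCat.Presheaf.IsCompatible LB.presheaf N sf := by
    intro i j
    refine rel_unique hirr lamA lamB hLB hh i.1 i.2 W (N i ⊓ N j) (inf_le_left.trans inf_le_right)
      (inf_le_left.trans inf_le_left) s _ _
      (rel_resB hirr lamA lamB i.1 i.2 W inf_le_left s (sf i) (hsf i)) ?_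
    exact rel_indep hirr lamA lamB hA hB hLA hLB hh j.1 j.2 W (N i ⊓ N j)
      (inf_le_right.trans inf_le_right) (inf_le_left.trans inf_le_left) s _
      (rel_resB hirr lamA lamB j.1 j.2 W inf_le_right s (sf j) (hsf j)) i.1 i.2
  obtain ⟨t, ht, -⟩ := (ModSec.sheaf LB).existsUnique_gluing' N (h ⁻¹ᵁ W)
    (fun i => homOfLE (inf_le_left : N i ≤ h ⁻¹ᵁ W))
    (Groth.Agent.Lib.helper28.RelTwistSec.le_iSup_inf pB _) sf hcompat
  refine ⟨t, fun U hU y hy hy' => ?_⟩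
  have hxU : (RelProj.emb pB chartB U hU).base y ∈ pB ⁻¹ᵁ U := by
    have : (RelProj.emb pB chartB U hU).base y ∈ Set.range (RelProj.emb pB chartB U hU) :=
      ⟨y, rfl⟩
    rw [range_emb] at this
    exact this
  have h3 : LB.presheaf.map (homOfLE (inf_le_left : N ⟨U, hU⟩ ≤ h ⁻¹ᵁ W)).op t = sf ⟨U, hU⟩ :=
    ht ⟨U, hU⟩
  have h4 := hsf ⟨U, hU⟩
  rw [← h3] at h4
  exact rel_of_resB hirr lamA lamB U hU W (inf_le_left : N ⟨U, hU⟩ ≤ h ⁻¹ᵁ W) s t h4 y
    ⟨hy, hxU⟩ hy'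

theorem isImg_res (W W₂ : PA.Opens) (i : W₂ ≤ W) (s : Γ(LA, W)) (t : Γ(LB, h ⁻¹ᵁ W))
    (ht : IsImg hirr lamA lamB W s t) :
    IsImg hirr lamA lamB W₂ (LA.presheaf.map (homOfLE i).op s)
      (LB.presheaf.map (homOfLE (h.preimage_mono i)).op t) := fun U hU =>
  rel_resA hirr lamA lamB U hU i _ _ _
    (rel_resB hirr lamA lamB U hU W (h.preimage_mono i) s t (ht U hU))

theorem isImg_add (W : PA.Opens) (s s' : Γ(LA, W)) (t t' : Γ(LB, h ⁻¹ᵁ W))
    (ht : IsImg hirr lamA lamB W s t) (ht' : IsImg hirr lamA lamB W s' t') :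
    IsImg hirr lamA lamB W (s + s') (t + t') := by
  intro U hU y hy hy'
  rw [map_add, map_add]
  change GrTwist.val _ ⟨y, hy⟩ + GrTwist.val _ ⟨y, hy⟩ =
    GrTwist.locMap _ _ y (GrTwist.val _ ⟨_, hy'⟩ + GrTwist.val _ ⟨_, hy'⟩)
  rw [map_add, ht U hU y hy hy', ht' U hU y hy hy']

open Groth.Agent.Lib.helper28.GProjSec in
/-- Compatibility of the structure sheaves: the function `h^♯ r`, read on the chart of `PB` over
`U`, is the image of `r`, read on the chart of `PA`, under the map of localizations. -/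
theorem val_h_app (hh : RelProj.IsRelProjMap φ hφ hirr chartA chartB h) (U : Y.Opens)
    (hU : IsAffineOpen U) (W : PA.Opens) (r : Γ(PA, W))
    (y : ProjectiveSpectrum (ℬ.deg U hU)) (hy : (RelProj.emb pB chartB U hU).base y ∈ h ⁻¹ᵁ W)
    (hy' : (RelProj.emb pA chartA U hU).base
      (ProjectiveSpectrum.comap (RelProj.gradedHomAt φ hφ U hU) (hirr U hU) y) ∈ W) :
    ((toO (ℬ.deg U hU) (((RelProj.emb pB chartB U hU).app (h ⁻¹ᵁ W)).hom
      ((h.app W).hom r))).1 ⟨y, hy⟩).val =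
      GrTwist.locMap (RelProj.gradedHomAt φ hφ U hU) (hirr U hU) y
        ((toO (𝒜.deg U hU) (((RelProj.emb pA chartA U hU).app W).hom r)).1 ⟨_, hy'⟩).val := by
  have e := Scheme.Hom.congr_app (emb_comp_h hh U hU) W
  have e2 := congr($e r)
  have key : ((RelProj.emb pB chartB U hU).app (h ⁻¹ᵁ W)).hom ((h.app W).hom r) =
      ((Proj (ℬ.deg U hU)).presheaf.map (eqToHom (congrArg (fun g : Proj (ℬ.deg U hU) ⟶ PA => g ⁻¹ᵁ W)
          (emb_comp_h hh U hU))).op).hom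
        (((Proj.map (RelProj.gradedHomAt φ hφ U hU) (hirr U hU)).app
          (RelProj.emb pA chartA U hU ⁻¹ᵁ W)).hom
            (((RelProj.emb pA chartA U hU).app W).hom r)) := e2
  rw [key]
  change (HomogeneousLocalization.localRingHom (RelProj.gradedHomAt φ hφ U hU) _ _ rfl
    ((toO (𝒜.deg U hU) (((RelProj.emb pA chartA U hU).app W).hom r)).1 ⟨_, hy'⟩)).val = _
  rw [HomogeneousLocalization.val_localRingHom]
  rfl

open Groth.Agent.Lib.helper28.GProjSec Groth.Agent.Lib.helper28.GTwistFree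
  Groth.Agent.Lib.helper28.LocalGen in
theorem isImg_smul (hh : RelProj.IsRelProjMap φ hφ hirr chartA chartB h) (W : PA.Opens)
    (r : Γ(PA, W)) (s : Γ(LA, W)) (t : Γ(LB, h ⁻¹ᵁ W)) (ht : IsImg hirr lamA lamB W s t) :
    IsImg hirr lamA lamB W (r • s) ((h.app W).hom r • t) := by
  intro U hU y hy hy'
  have hL : (lamB U hU).app (h ⁻¹ᵁ W) ((h.app W).hom r • t) =
      ((((RelProj.emb pB chartB U hU).app (h ⁻¹ᵁ W)).hom ((h.app W).hom r) •
        (show Γ(GrTwist.twist (ℬ.deg U hU) n, RelProj.emb pB chartB U hU ⁻¹ᵁ (h ⁻¹ᵁ W)) from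
          (lamB U hU).app (h ⁻¹ᵁ W) t)) :
        Γ(GrTwist.twist (ℬ.deg U hU) n, RelProj.emb pB chartB U hU ⁻¹ᵁ (h ⁻¹ᵁ W))) := by
    rw [Scheme.Modules.Hom.app_smul, smul_pushforward]
  have hR : (lamA U hU).app W (r • s) =
      ((((RelProj.emb pA chartA U hU).app W).hom r •
        (show Γ(GrTwist.twist (𝒜.deg U hU) n, RelProj.emb pA chartA U hU ⁻¹ᵁ W) from
          (lamA U hU).app W s)) :
        Γ(GrTwist.twist (𝒜.deg U hU) n, RelProj.emb pA chartA U hU ⁻¹ᵁ W)) := by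
    rw [Scheme.Modules.Hom.app_smul, smul_pushforward]
  rw [hL, hR]
  let cB : GrTwist.O (𝒜 := ℬ.deg U hU) (op (RelProj.emb pB chartB U hU ⁻¹ᵁ (h ⁻¹ᵁ W))) :=
    ((RelProj.emb pB chartB U hU).app (h ⁻¹ᵁ W)).hom ((h.app W).hom r)
  let σB : GrTwist.sectN (𝒜 := ℬ.deg U hU) n (op (RelProj.emb pB chartB U hU ⁻¹ᵁ (h ⁻¹ᵁ W))) :=
    (lamB U hU).app (h ⁻¹ᵁ W) t
  let cA : GrTwist.O (𝒜 := 𝒜.deg U hU) (op (RelProj.emb pA chartA U hU ⁻¹ᵁ W)) :=
    ((RelProj.emb pA chartA U hU).app W).hom r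
  let σA : GrTwist.sectN (𝒜 := 𝒜.deg U hU) n (op (RelProj.emb pA chartA U hU ⁻¹ᵁ W)) :=
    (lamA U hU).app W s
  change ((((cB • σB : GrTwist.sectN (𝒜 := ℬ.deg U hU) n _)).1 ⟨y, hy⟩ :
      GrTwist.twistAt (ℬ.deg U hU) n y) : GrTwist.Loc (ℬ.deg U hU) y) =
    GrTwist.locMap (RelProj.gradedHomAt φ hφ U hU) (hirr U hU) y
      ((((cA • σA : GrTwist.sectN (𝒜 := 𝒜.deg U hU) n _)).1 ⟨_, hy'⟩ :
        GrTwist.twistAt (𝒜.deg U hU) n _) : GrTwist.Loc (𝒜.deg U hU) _)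
  rw [smul_val, smul_val, map_mul]
  exact congrArg₂ (· * ·) (val_h_app hirr hh U hU W r y hy hy') (ht U hU y hy hy')

open Groth.Agent.Lib.helper28.LocalGen in
/-- **The comparison map of relative twisting sheaves**: there is exactly one morphism
`O_{PA}(n) ⟶ h_* O_{PB}(n)` which chartwise is `a / f ↦ φ a / φ f`. -/
theorem existsUnique_theta (hA : RelProj.IsRelProj 𝒜 pA chartA)
    (hB : RelProj.IsRelProj ℬ pB chartB)
    (hLA : RelProj.IsRelTwist 𝒜 pA chartA n LA lamA)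
    (hLB : RelProj.IsRelTwist ℬ pB chartB n LB lamB)
    (hh : RelProj.IsRelProjMap φ hφ hirr chartA chartB h) :
    ∃! θ : LA ⟶ (Scheme.Modules.pushforward h).obj LB,
      ∀ (W : PA.Opens) (s : Γ(LA, W)), IsImg hirr lamA lamB W s (θ.app W s) := by
  classical
  have hex := fun (W : PA.Opens) (s : Γ(LA, W)) =>
    exists_img hirr lamA lamB hA hB hLA hLB hh W s
  choose θW hθ using hex
  have hadd : ∀ (W : PA.Opens) (s s' : Γ(LA, W)), θW W (s + s') = θW W s + θW W s' := fun W s s' =>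
    img_unique hirr lamA lamB hLB hh W _ _ _ (hθ W _)
      (isImg_add hirr lamA lamB W s s' _ _ (hθ W s) (hθ W s'))
  let α : LA.presheaf ⟶ ((Scheme.Modules.pushforward h).obj LB).presheaf :=
    { app := fun W => AddCommGrpCat.ofHom (AddMonoidHom.mk' (θW W.unop) (hadd W.unop))
      naturality := by
        intro W W₂ f
        ext s
        exact img_unique hirr lamA lamB hLB hh W₂.unop _ _ _ (hθ W₂.unop _)
          (isImg_res hirr lamA lamB W.unop W₂.unop (leOfHom f.unop) s _ (hθ W.unop s)) }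
  have hlin : ∀ (W : (Opens PA)ᵒᵖ) (r : Γ(PA, W.unop)) (s : Γ(LA, W.unop)),
      θW W.unop (r • s) = (h.app W.unop).hom r • θW W.unop s := fun W r s =>
    img_unique hirr lamA lamB hLB hh W.unop _ _ _ (hθ W.unop _)
      (isImg_smul hirr lamA lamB hh W.unop r s _ (hθ W.unop s))
  refine ⟨⟨PresheafOfModules.homMk α (fun W r s => hlin W r s)⟩, fun W s => hθ W s, ?_⟩
  intro θ' hθ'
  refine Scheme.Modules.hom_ext _ _ (fun W => ?_)
  ext s
  exact img_unique hirr lamA lamB hLB hh W _ _ _ (hθ' W s) (hθ W s)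

end Groth.Agent.Lib.helper28.RelTwistMap
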