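import Groth.Agent.Lib.Helper28.PProjCone
import Groth.Agent.Lib.Helper28.ProjInfinity
import Groth.Agent.Lib.Helper28.RelTwistMap
import Groth.Agent.Lib.Lead.RelProjLocal

set_option autoImplicit false

universe u

/-! The image of the affine cone in the projective cone is the complement of the locus at
infinity (helper28). -/

namespace Groth.Agent.Lib.helper28.ConeInfinity

open CategoryTheory CategoryTheory.Limits AlgebraicGeometry TopologicalSpace Opposite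
open HomogeneousLocalization
open Groth.Agent.Lib.helper28.RelSpecMap Groth.Agent.Lib.helper28.ConeImm
open Groth.Agent.Lib.helper28.RelTwistChart Groth.Agent.Lib.helper28.PProjCone
open scoped HomogeneousIdeal

variable {Y PC P : Scheme.{u}} (𝒮 𝒮h : RelProj.QCGrAlg Y)
  (ι : 𝒮.toQCAlg ⟶ 𝒮h.toQCAlg) (z : 𝒮h.presheaf.obj (op ⊤))
  (hz : RelCone.IsPolyOver 𝒮 𝒮h ι z)
  (pC : PC ⟶ Y)
  (chartC : ∀ (U : Y.Opens) (hU : IsAffineOpen U),
    (((pC ⁻¹ᵁ U : PC.Opens) : Scheme.{u}) ≅ Proj (𝒮h.deg U hU)))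
  (hPC : RelProj.IsRelProj 𝒮h pC chartC)
  (i : 𝒮.toQCAlg.spec ⟶ PC) (hi : RelCone.IsConeImm 𝒮 hz pC chartC i)

include hPC hi in
/-- Chartwise description of the image of `i`: it is `D₊(z)`. -/
theorem emb_mem_range_i_iff (U : Y.Opens) (hU : IsAffineOpen U) (y : Proj (𝒮h.deg U hU)) :
    (RelProj.emb pC chartC U hU).base y ∈ Set.range i.base ↔
      (𝒮h.presheaf.map (homOfLE le_top).op).hom z ∉ y.asHomogeneousIdeal := by
  have hip := map_comp_p 𝒮 𝒮h ι z hz pC chartC hPC i hi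
  have hchart := PProjCone.comm_chart 𝒮 𝒮h ι z hz pC chartC i hi U hU
  have hrangeaw : Set.range (Proj.awayι (𝒮h.deg U hU)
      ((𝒮h.presheaf.map (homOfLE le_top).op).hom z) (hz.deg_z U hU) one_pos).base =
      (Proj.basicOpen (𝒮h.deg U hU) ((𝒮h.presheaf.map (homOfLE le_top).op).hom z) :
        Set (Proj (𝒮h.deg U hU))) :=
    congrArg (fun V : (Proj (𝒮h.deg U hU)).Opens => (V : Set (Proj (𝒮h.deg U hU))))
      (Proj.opensRange_awayι (𝒮h.deg U hU) _ (hz.deg_z U hU) one_pos)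
  have hmemD : ∀ y' : Proj (𝒮h.deg U hU),
      y' ∈ (Proj.basicOpen (𝒮h.deg U hU) ((𝒮h.presheaf.map (homOfLE le_top).op).hom z) :
        Set (Proj (𝒮h.deg U hU))) ↔
      (𝒮h.presheaf.map (homOfLE le_top).op).hom z ∉ y'.asHomogeneousIdeal :=
    fun y' => ProjectiveSpectrum.mem_basicOpen (𝒮h.deg U hU) _ y'
  have hθiso := PProjCone.isIso_θ 𝒮 𝒮h ι z hz U hU
  constructor
  · rintro ⟨c, hc⟩
    have hcU : 𝒮.toQCAlg.π.base c ∈ U := by
      rw [← hip, Scheme.Hom.comp_apply, hc]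
      have h1 : (RelProj.emb pC chartC U hU).base y ∈ Set.range (RelProj.emb pC chartC U hU) :=
        ⟨y, rfl⟩
      rw [range_emb] at h1
      exact h1
    have hc' : c ∈ Set.range (𝒮.toQCAlg.ι U hU).base := by
      rw [range_ι]
      exact hcU
    obtain ⟨t, rfl⟩ := hc'
    have h2 : (RelProj.emb pC chartC U hU).base
        ((gU 𝒮 𝒮h z hz.deg_z (θ 𝒮 𝒮h ι z hz) U hU).base t) =
        (RelProj.emb pC chartC U hU).base y := by
      rw [← Scheme.Hom.comp_apply, ← hchart, Scheme.Hom.comp_apply]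
      exact hc
    have h3 := (RelProj.emb pC chartC U hU).isOpenEmbedding.injective h2
    rw [← hmemD, ← hrangeaw, ← h3]
    exact ⟨(Spec.map (θ 𝒮 𝒮h ι z hz U hU)).base t, rfl⟩
  · intro hy
    rw [← hmemD, ← hrangeaw] at hy
    obtain ⟨q, hq⟩ := hy
    obtain ⟨t, rfl⟩ := (Spec.map (θ 𝒮 𝒮h ι z hz U hU)).surjective q
    refine ⟨(𝒮.toQCAlg.ι U hU).base t, ?_⟩
    rw [← Scheme.Hom.comp_apply, hchart, Scheme.Hom.comp_apply]
    exact congrArg (RelProj.emb pC chartC U hU).base hq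

variable (ρ : 𝒮h.toQCAlg ⟶ 𝒮.toQCAlg) (hρ : RelProj.IsGradedHom ρ) (hιρ : ι ≫ ρ = 𝟙 _)
  (hρz : (ρ.hom.app (op ⊤)).hom z = 0)
  (hirr : ∀ (U : Y.Opens) (hU : IsAffineOpen U),
    (𝒮.deg U hU)₊ ≤ ((𝒮h.deg U hU)₊).map (RelProj.gradedHomAt ρ hρ U hU))
  (p : P ⟶ Y)
  (chart : ∀ (U : Y.Opens) (hU : IsAffineOpen U),
    (((p ⁻¹ᵁ U : P.Opens) : Scheme.{u}) ≅ Proj (𝒮.deg U hU)))
  (hP : RelProj.IsRelProj 𝒮 p chart) (j : P ⟶ PC)
  (hj : RelProj.IsRelProjMap ρ hρ hirr chartC chart j)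

include hιρ in
theorem ρ_ι (U : Y.Opens) (a : 𝒮.presheaf.obj (op U)) :
    (ρ.hom.app (op U)).hom ((ι.hom.app (op U)).hom a) = a :=
  congrArg (fun k : 𝒮.toQCAlg ⟶ 𝒮.toQCAlg => (k.hom.app (op U)).hom a) hιρ

include hρz in
theorem ρ_z (U : Y.Opens) :
    (ρ.hom.app (op U)).hom ((𝒮h.presheaf.map (homOfLE le_top).op).hom z) = 0 := by
  have hn := ρ.hom.naturality (homOfLE (le_top : U ≤ ⊤)).op
  have h1 := congrArg (fun k => k.hom z) hn
  have h2 : (ρ.hom.app (op U)).hom ((𝒮h.presheaf.map (homOfLE le_top).op).hom z) =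
      (𝒮.presheaf.map (homOfLE (le_top : U ≤ ⊤)).op).hom ((ρ.hom.app (op ⊤)).hom z) := h1
  rw [h2, hρz, map_zero]

include hz hιρ hρz hPC hP hj in
/-- Chartwise description of the image of `j`: it is `V₊(z)`. -/
theorem emb_mem_range_j_iff (U : Y.Opens) (hU : IsAffineOpen U) (y : Proj (𝒮h.deg U hU)) :
    (RelProj.emb pC chartC U hU).base y ∈ Set.range j.base ↔
      (𝒮h.presheaf.map (homOfLE le_top).op).hom z ∈ y.asHomogeneousIdeal := by
  have hjp : j ≫ pC = p :=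
    Groth.Agent.Lib.Lead.RelProjLocal.comp_eq ρ hρ hirr hPC hP j hj
  have hrange := ProjInfinity.range_map (𝒮.deg U hU) (𝒮h.deg U hU)
    (RelProj.gradedHomAt ι hz.graded U hU) (RelProj.gradedHomAt ρ hρ U hU)
    ((𝒮h.presheaf.map (homOfLE le_top).op).hom z) (ρ_ι 𝒮 𝒮h ι ρ hιρ U) (ρ_z 𝒮 𝒮h z ρ hρz U)
    (hz.deg_z U hU) (hz.bij U hU).2 (hirr U hU)
  have hmem : y ∈ Set.range (Proj.map (RelProj.gradedHomAt ρ hρ U hU) (hirr U hU)).base ↔
      (𝒮h.presheaf.map (homOfLE le_top).op).hom z ∈ y.asHomogeneousIdeal := by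
    rw [hrange]
    rfl
  rw [← hmem]
  constructor
  · rintro ⟨w, hw⟩
    have hwU : p.base w ∈ U := by
      rw [← hjp, Scheme.Hom.comp_apply, hw]
      have h1 : (RelProj.emb pC chartC U hU).base y ∈ Set.range (RelProj.emb pC chartC U hU) :=
        ⟨y, rfl⟩
      rw [range_emb] at h1
      exact h1
    have hw' : w ∈ Set.range (RelProj.emb p chart U hU) := by
      rw [range_emb]
      exact hwU
    obtain ⟨v, rfl⟩ := hw'
    have h2 := RelTwistMap.h_emb hj U hU v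
    have h3 := (RelProj.emb pC chartC U hU).isOpenEmbedding.injective (h2.symm.trans hw)
    exact ⟨v, h3⟩
  · rintro ⟨v, rfl⟩
    exact ⟨(RelProj.emb p chart U hU).base v, RelTwistMap.h_emb hj U hU v⟩

include hz hιρ hρz hPC hP hj hi in
theorem range_i_eq_compl : Set.range i.base = (Set.range j.base)ᶜ := by
  ext x
  obtain ⟨U, y, rfl⟩ := exists_mem_range_emb pC chartC x
  rw [Set.mem_compl_iff]
  have h1 := emb_mem_range_i_iff 𝒮 𝒮h ι z hz pC chartC hPC i hi U.1 U.2 y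
  have h2 := emb_mem_range_j_iff 𝒮 𝒮h ι z hz pC chartC hPC ρ hρ hιρ hρz hirr p chart hP j hj
    U.1 U.2 y
  exact h1.trans (not_congr h2).symm

end Groth.Agent.Lib.helper28.ConeInfinity
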