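import Mathlib

set_option autoImplicit false

universe u

/-! Two closed immersions with disjoint images give a closed immersion of the coproduct
(helper28). -/

namespace Groth.Agent.Lib.helper28.CoprodClosedImm

open CategoryTheory CategoryTheory.Limits AlgebraicGeometry TopologicalSpace Opposite Topology

theorem isClosedImmersion_coprodDesc {X Y Z : Scheme.{u}} (f : X ⟶ Z) (g : Y ⟶ Z)
    [IsClosedImmersion f] [IsClosedImmersion g]
    (h : Disjoint (Set.range f) (Set.range g)) : IsClosedImmersion (coprod.desc f g) := by
  have h1 : SurjectiveOnStalks (coprod.desc f g) := by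
    rw [IsZariskiLocalAtSource.iff_of_openCover (P := @SurjectiveOnStalks)
      (coprodOpenCover.{u, 0} X Y)]
    rintro (⟨⟩ | ⟨⟩)
    · change SurjectiveOnStalks (coprod.inl ≫ coprod.desc f g)
      rw [coprod.inl_desc]
      infer_instance
    · change SurjectiveOnStalks (coprod.inr ≫ coprod.desc f g)
      rw [coprod.inr_desc]
      infer_instance
  have h2 : IsClosedEmbedding (coprod.desc f g) := by
    have e : ⇑(coprod.desc f g) = Sum.elim f g ∘ (coprodMk X Y).symm := by
      funext x
      obtain ⟨y, rfl⟩ := (coprodMk X Y).surjective x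
      rw [Function.comp_apply, Homeomorph.symm_apply_apply]
      rcases y with y | y
      · rw [coprodMk_inl, ← Scheme.Hom.comp_apply, coprod.inl_desc]
        rfl
      · rw [coprodMk_inr, ← Scheme.Hom.comp_apply, coprod.inr_desc]
        rfl
    rw [e]
    refine (IsClosedEmbedding.sumElim f.isClosedEmbedding g.isClosedEmbedding ?_).comp
      (coprodMk X Y).symm.isClosedEmbedding
    rintro (a | a) (b | b) hab
    · exact congrArg Sum.inl (f.isClosedEmbedding.injective hab)
    · exact absurd hab (Set.disjoint_iff_forall_ne.mp h ⟨a, rfl⟩ ⟨b, rfl⟩)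
    · exact absurd hab.symm (Set.disjoint_iff_forall_ne.mp h ⟨b, rfl⟩ ⟨a, rfl⟩)
    · exact congrArg Sum.inr (g.isClosedEmbedding.injective hab)
  exact { toSurjectiveOnStalks := h1, isClosedEmbedding := h2 }

end Groth.Agent.Lib.helper28.CoprodClosedImm
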