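import Mathlib
import Groth.Prelude.Def_BlowUp2
import Groth.Prelude.Def_Curv2
import Groth.Prelude.Def_FEt
import Groth.Agent.Lib.Helper16.ReesBlowup2
import Groth.Agent.Lib.Helper28.BlowUpFlat
import Groth.Agent.S10855
import Groth.Agent.S17083

/-!
# Admissible blow-ups of the completion of a Noetherian local ring descend (helper28)

* `exists_ideal_map_eq`: an ideal `J` of `Â` with `V(J) ⊆ {𝔪̂}` is `I Â` for an ideal `I ⊇ 𝔪ⁿ` of `A`.
* `exists_eq_idl`, `support_idl`: ideal sheaves on `Spec R` versus ideals of `R` (helper16's `idl`).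
* `main`: a blowing up of `Spec Â` in a finite type ideal supported at the closed point is the base
  change of such a blowing up of `Spec A`.
-/

set_option autoImplicit false
set_option linter.style.haveILetI false
set_option linter.unusedTactic false

universe u

open IsLocalRing CategoryTheory CategoryTheory.Limits AlgebraicGeometry TopologicalSpace

namespace Groth.Agent.Lib.helper28.CplBlowUp

open Groth.Agent.Lib.helper16.ReesBlowup

section alg

variable (A : Type u) [CommRing A] [IsLocalRing A] [IsNoetherianRing A]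

/-- elements of the completion killed by `evalₐ n` lie in `𝔪ⁿ Â` -/
theorem mem_map_pow_of_evalₐ_eq_zero (n : ℕ)
    (x : AdicCompletion (maximalIdeal A) A) (hx : AdicCompletion.evalₐ (maximalIdeal A) n x = 0) :
    x ∈ ((maximalIdeal A) ^ n).map (algebraMap A (AdicCompletion (maximalIdeal A) A)) := by
  have h1 : AdicCompletion.eval (maximalIdeal A) A n x = 0 := by
    rw [← AdicCompletion.factor_evalₐ_eq_eval (maximalIdeal A) x (by simp), hx, map_zero]
  have h2 : x ∈ (maximalIdeal A ^ n • ⊤ : Submodule A (AdicCompletion (maximalIdeal A) A)) := by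
    rw [AdicCompletion.pow_smul_top_eq_ker_eval (maximalIdeal A).fg_of_isNoetherianRing]
    exact h1
  refine Submodule.smul_induction_on h2 ?_ ?_
  · intro r hr y _
    rw [Algebra.smul_def]
    exact Ideal.mul_mem_right _ _ (Ideal.mem_map_of_mem _ hr)
  · intro y z hy hz
    exact add_mem hy hz

/-- **Ideals of the completion supported at the closed point descend.** -/
theorem exists_ideal_map_eq (J : Ideal (AdicCompletion (maximalIdeal A) A))
    (hJ : PrimeSpectrum.zeroLocus (J : Set (AdicCompletion (maximalIdeal A) A)) ⊆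
      {closedPoint (AdicCompletion (maximalIdeal A) A)}) :
    ∃ (I : Ideal A) (n : ℕ), maximalIdeal A ^ n ≤ I ∧
      I.map (algebraMap A (AdicCompletion (maximalIdeal A) A)) = J := by
  have hrad : maximalIdeal (AdicCompletion (maximalIdeal A) A) ≤ J.radical := by
    rw [← PrimeSpectrum.vanishingIdeal_zeroLocus_eq_radical]
    have h1 := PrimeSpectrum.vanishingIdeal_anti_mono hJ
    refine le_trans ?_ h1
    rw [PrimeSpectrum.vanishingIdeal_singleton]
    rfl
  have hfg : (maximalIdeal (AdicCompletion (maximalIdeal A) A)).FG := by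
    rw [AdicCompletion.maximalIdeal_eq_map]
    exact Ideal.FG.map (maximalIdeal A).fg_of_isNoetherianRing _
  obtain ⟨n, hn⟩ := Ideal.exists_pow_le_of_le_radical_of_fg hrad hfg
  rw [AdicCompletion.maximalIdeal_eq_map, ← Ideal.map_pow] at hn
  refine ⟨J.comap (algebraMap A _), n, Ideal.map_le_iff_le_comap.mp hn, ?_⟩
  apply le_antisymm Ideal.map_comap_le
  intro x hx
  obtain ⟨a, ha⟩ := Ideal.Quotient.mk_surjective (AdicCompletion.evalₐ (maximalIdeal A) n x)
  have h1 : AdicCompletion.evalₐ (maximalIdeal A) n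
      (x - algebraMap A (AdicCompletion (maximalIdeal A) A) a) = 0 := by
    rw [map_sub, AlgHom.commutes, ← ha]
    exact sub_self _
  have h2 := mem_map_pow_of_evalₐ_eq_zero A n _ h1
  have h3 : algebraMap A (AdicCompletion (maximalIdeal A) A) a ∈ J := by
    have := J.sub_mem hx (hn h2)
    rwa [sub_sub_cancel] at this
  have h4 : x = algebraMap A _ a + (x - algebraMap A _ a) := by ring
  rw [h4]
  refine add_mem (Ideal.mem_map_of_mem _ h3) ?_
  exact Ideal.map_mono (Ideal.map_le_iff_le_comap.mp hn) h2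

end alg

section scheme

/-- every ideal sheaf on an affine scheme `Spec R` is `idl` of an ideal of `R` -/
theorem exists_eq_idl {R : Type u} [CommRing R] (J : (Spec (CommRingCat.of R)).IdealSheafData) :
    ∃ J₀ : Ideal R, J = idl J₀ := by
  refine ⟨(J.ideal ⟨⊤, isAffineOpen_top _⟩).map (Scheme.ΓSpecIso (CommRingCat.of R)).hom.hom, ?_⟩
  apply Scheme.IdealSheafData.ext_of_isAffine
  rw [idl, Scheme.IdealSheafData.ofIdealTop_ideal, Ideal.map_map, Ideal.map_map]
  have : ((Spec (CommRingCat.of R)).presheaf.map (homOfLE (le_top : (⊤ : (Spec (CommRingCat.of R)).Opens) ≤ ⊤)).op).hom.comp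
      ((Scheme.ΓSpecIso (CommRingCat.of R)).inv.hom.comp
        (Scheme.ΓSpecIso (CommRingCat.of R)).hom.hom) = RingHom.id _ := by
    rw [← CommRingCat.hom_comp, ← CommRingCat.hom_comp, Iso.hom_inv_id, Category.id_comp]
    have : (homOfLE (le_top : (⊤ : (Spec (CommRingCat.of R)).Opens) ≤ ⊤)).op = 𝟙 _ := rfl
    rw [this, CategoryTheory.Functor.map_id]
    rfl
  rw [RingHom.comp_assoc, this, Ideal.map_id]

/-- support of `idl` -/
theorem support_idl {R : Type u} [CommRing R] (J₀ : Ideal R) :
    ((idl J₀).support : Set (Spec (CommRingCat.of R))) = PrimeSpectrum.zeroLocus (J₀ : Set R) := by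
  rw [idl, Scheme.IdealSheafData.coe_support_ofIdealTop, AlgebraicGeometry.Spec_zeroLocus]
  congr 1
  ext x
  simp only [Set.mem_preimage, SetLike.mem_coe]
  constructor
  · intro hx
    have h1 := Ideal.mem_map_of_mem (Scheme.ΓSpecIso (CommRingCat.of R)).hom.hom hx
    rw [Ideal.map_map, ← CommRingCat.hom_comp, Iso.inv_hom_id] at h1
    change (Scheme.ΓSpecIso (CommRingCat.of R)).hom.hom ((Scheme.ΓSpecIso (CommRingCat.of R)).inv.hom x) ∈ _ at h1
    rw [← CommRingCat.comp_apply, Iso.inv_hom_id] at h1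
    simpa using h1
  · intro hx
    exact Ideal.mem_map_of_mem _ hx

/-- **Admissible blow-ups of the completion of a Noetherian local ring descend.** -/
theorem main (A : Type u) [CommRing A] [IsLocalRing A] [IsNoetherianRing A]
    (Y : Scheme.{u}) (c : Y ⟶ Spec (CommRingCat.of (Curv2.cpl A)))
    (J : (Spec (CommRingCat.of (Curv2.cpl A))).IdealSheafData)
    (hJ : BlowUp.IsAdmissibleFor (FEt.puncturedSpec (Curv2.cpl A)) J) (hc : BlowUp.IsBlowUp c J) :
    ∃ (I : (Spec (CommRingCat.of A)).IdealSheafData) (X : Scheme.{u})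
      (b : X ⟶ Spec (CommRingCat.of A)),
      BlowUp.IsAdmissibleFor (FEt.puncturedSpec A) I ∧ BlowUp.IsBlowUp b I ∧
      ∃ e : Y ≅ Curv2.bcCpl A b, e.hom ≫ Curv2.bcCplSnd A b = c := by
  obtain ⟨J₀, rfl⟩ := exists_eq_idl J
  have hJ₀ : PrimeSpectrum.zeroLocus (J₀ : Set (Curv2.cpl A)) ⊆ {closedPoint (Curv2.cpl A)} := by
    intro x hx
    by_contra hne
    have h1 : x ∈ ((idl J₀).support : Set (Spec (CommRingCat.of (Curv2.cpl A)))) := by
      rw [support_idl]; exact hx
    exact Set.disjoint_left.mp hJ.2 h1 hne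
  obtain ⟨I₀, n, hn, hmap⟩ := exists_ideal_map_eq A J₀ hJ₀
  obtain ⟨g, hg⟩ : ∃ g : Spec (CommRingCat.of (Curv2.cpl A)) ⟶ Spec (CommRingCat.of A),
      g = Spec.map (CommRingCat.ofHom (algebraMap A (Curv2.cpl A))) := ⟨_, rfl⟩
  haveI : Flat g := by
    rw [hg, HasRingHomProperty.Spec_iff (P := @Flat)]
    exact RingHom.flat_algebraMap_iff.mpr inferInstance
  refine ⟨idl I₀, Bl I₀, bl I₀, ⟨?_, ?_⟩, isBlowUp_bl (I := I₀), ?_⟩
  · intro U
    haveI : IsNoetherianRing Γ(Spec (CommRingCat.of A), U.1) :=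
      IsLocallyNoetherian.component_noetherian U
    exact IsNoetherian.noetherian _
  · rw [Set.disjoint_left]
    intro x hx hx2
    rw [support_idl] at hx
    apply hx2
    have h1 : maximalIdeal A ≤ x.asIdeal := by
      have h2 : maximalIdeal A ^ n ≤ x.asIdeal := hn.trans ((PrimeSpectrum.mem_zeroLocus _ _).mp hx)
      exact x.2.le_of_pow_le h2
    have h3 : x.asIdeal = maximalIdeal A :=
      ((maximalIdeal.isMaximal A).eq_of_le x.2.ne_top h1).symm
    exact PrimeSpectrum.ext h3
  · have hcomap : (idl I₀).comap g = idl J₀ := by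
      apply Scheme.IdealSheafData.ext_of_isAffine
      rw [ideal_comap_idl]
      rw [idl, Scheme.IdealSheafData.ofIdealTop_ideal, ← hmap, Ideal.map_map, Ideal.map_map]
      congr 1
      subst hg
      have h1 := Scheme.ΓSpecIso_inv_naturality (CommRingCat.ofHom (algebraMap A (Curv2.cpl A)))
      change ((Scheme.ΓSpecIso (CommRingCat.of A)).inv ≫
        (Spec.map (CommRingCat.ofHom (algebraMap A (Curv2.cpl A)))).appLE ⊤ ⊤ le_top).hom = _
      rw [Scheme.Hom.appLE, ← Category.assoc]
      change ((((Scheme.ΓSpecIso (CommRingCat.of A)).inv ≫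
        (Spec.map (CommRingCat.ofHom (algebraMap A (Curv2.cpl A)))).appTop) ≫ _)).hom = _
      rw [← h1]
      rfl
    have hb' : BlowUp.IsBlowUp (Curv2.bcCplSnd A (bl I₀)) (idl J₀) := by
      rw [← hcomap]
      have H : IsPullback (pullback.fst (bl I₀) g) (pullback.snd (bl I₀) g) (bl I₀) g :=
        IsPullback.of_hasPullback _ _
      have h1 := Groth.Agent.Lib.helper28.BlowUpFlat.isBlowUp_of_isPullback (idl I₀) (bl I₀)
        (isBlowUp_bl (I := I₀)) g (pullback.fst (bl I₀) g) (pullback.snd (bl I₀) g) H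
        (Groth.Agent.S10855.result (pullback.fst (bl I₀) g) _ (isBlowUp_bl (I := I₀)).1)
      rw [hg] at h1 ⊢
      exact h1
    obtain ⟨φ, hφ, -⟩ := hb'.2 Y c hc.1
    haveI : IsIso φ := Groth.Agent.S17083.isIso_of_isBlowUp (idl J₀) c _ hc hb' φ hφ
    exact ⟨asIso φ, hφ⟩

end scheme

end Groth.Agent.Lib.helper28.CplBlowUp
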