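import Mathlib

/-! Helper lemmas on universally effective epimorphisms (helper28). -/

namespace Groth.Agent.Lib.helper28

open CategoryTheory CategoryTheory.Limits

universe v u

variable {C : Type u} [Category.{v} C] [HasPullbacks C]

/-- Abbreviation: universally effective epimorphisms. -/
abbrev UEE : MorphismProperty C :=
  MorphismProperty.universally (fun (A B : C) (p : A ⟶ B) => EffectiveEpi p)

omit [HasPullbacks C] in
theorem UEE.effectiveEpi {X Y : C} {f : X ⟶ Y} (hf : UEE f) : EffectiveEpi f :=
  MorphismProperty.universally_le _ _ hf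

omit [HasPullbacks C] in
theorem UEE.epi {X Y : C} {f : X ⟶ Y} (hf : UEE f) : Epi f := by
  haveI := hf.effectiveEpi
  infer_instance

/-- If `f` is a universally effective epimorphism and `p₁, p₂` is a kernel pair for both `f` and
`f ≫ g`, then `g` is a monomorphism. -/
theorem mono_of_isKernelPair_comp {S' S T R : C} (f : S' ⟶ S) (hf : UEE f) (g : S ⟶ T)
    {p₁ p₂ : R ⟶ S'} (h1 : IsKernelPair f p₁ p₂) (h2 : IsKernelPair (f ≫ g) p₁ p₂) : Mono g := by
  constructor
  intro W a b hab
  have hπb : UEE (pullback.fst b f) := MorphismProperty.pullback_fst _ _ hf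
  have hπa : UEE (pullback.fst a f) := MorphismProperty.pullback_fst _ _ hf
  have hq₁ : UEE (pullback.fst (pullback.fst a f) (pullback.fst b f)) :=
    MorphismProperty.pullback_fst _ _ hπb
  haveI := hπa.epi
  haveI := hq₁.epi
  haveI : Epi (pullback.fst (pullback.fst a f) (pullback.fst b f) ≫ pullback.fst a f) :=
    epi_comp _ _
  let sa : pullback (pullback.fst a f) (pullback.fst b f) ⟶ S' :=
    pullback.fst (pullback.fst a f) (pullback.fst b f) ≫ pullback.snd a f
  let sb : pullback (pullback.fst a f) (pullback.fst b f) ⟶ S' :=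
    pullback.snd (pullback.fst a f) (pullback.fst b f) ≫ pullback.snd b f
  have hsa : sa ≫ f =
      (pullback.fst (pullback.fst a f) (pullback.fst b f) ≫ pullback.fst a f) ≫ a := by
    calc sa ≫ f = pullback.fst (pullback.fst a f) (pullback.fst b f) ≫ (pullback.snd a f ≫ f) :=
          Category.assoc _ _ _
      _ = pullback.fst (pullback.fst a f) (pullback.fst b f) ≫ (pullback.fst a f ≫ a) := by
          rw [pullback.condition]
      _ = _ := (Category.assoc _ _ _).symm
  have hsb : sb ≫ f =
      (pullback.fst (pullback.fst a f) (pullback.fst b f) ≫ pullback.fst a f) ≫ b := by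
    calc sb ≫ f = pullback.snd (pullback.fst a f) (pullback.fst b f) ≫ (pullback.snd b f ≫ f) :=
          Category.assoc _ _ _
      _ = pullback.snd (pullback.fst a f) (pullback.fst b f) ≫ (pullback.fst b f ≫ b) := by
          rw [pullback.condition]
      _ = (pullback.snd (pullback.fst a f) (pullback.fst b f) ≫ pullback.fst b f) ≫ b :=
          (Category.assoc _ _ _).symm
      _ = _ := by rw [← pullback.condition]
  have h3 : sa ≫ (f ≫ g) = sb ≫ (f ≫ g) := by
    calc sa ≫ (f ≫ g) = (sa ≫ f) ≫ g := (Category.assoc _ _ _).symm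
      _ = ((pullback.fst (pullback.fst a f) (pullback.fst b f) ≫ pullback.fst a f) ≫ a) ≫ g := by
          rw [hsa]
      _ = (pullback.fst (pullback.fst a f) (pullback.fst b f) ≫ pullback.fst a f) ≫ (a ≫ g) :=
          Category.assoc _ _ _
      _ = (pullback.fst (pullback.fst a f) (pullback.fst b f) ≫ pullback.fst a f) ≫ (b ≫ g) := by
          rw [hab]
      _ = ((pullback.fst (pullback.fst a f) (pullback.fst b f) ≫ pullback.fst a f) ≫ b) ≫ g :=
          (Category.assoc _ _ _).symm
      _ = (sb ≫ f) ≫ g := by rw [hsb]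
      _ = _ := Category.assoc _ _ _
  obtain ⟨t, e1, e2⟩ : ∃ t, t ≫ p₁ = sa ∧ t ≫ p₂ = sb :=
    ⟨h2.lift sa sb h3, h2.lift_fst _ _ _, h2.lift_snd _ _ _⟩
  rw [← cancel_epi (pullback.fst (pullback.fst a f) (pullback.fst b f) ≫ pullback.fst a f),
    ← hsa, ← hsb, ← e1, ← e2, Category.assoc, Category.assoc, h1.w]

end Groth.Agent.Lib.helper28
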