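import Groth.Agent.Lib.Helper16.CohFinite
import Groth.Agent.Lib.Helper7.QCohAffineHom

/-!
# Maps out of the sections of a quasi-coherent module over a basic open of an affine open (helper28)

Generalisation of helper7's `QCohAffineHom` from the top open of an affine scheme to an arbitrary
affine open `U` of a scheme: `ext_of_affineOpen` (uniqueness), `exists_local` (existence of the
localised map, with full linearity over `Γ(X, D(g))`).
-/

set_option autoImplicit false
set_option linter.style.haveILetI false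
set_option linter.unusedSectionVars false
universe u
open CategoryTheory CategoryTheory.Limits AlgebraicGeometry TopologicalSpace Opposite
open Scheme.Modules

namespace Groth.Agent.Lib.helper28.QCohAffineOpenHom

open Groth.Agent.Lib.helper16.CohFinite Groth.Agent.Lib.helper7.QCohAffineHom

variable {X : Scheme.{u}}

theorem isUnit_res {U V : X.Opens} (hVU : V ≤ U) (g : Γ(X, U)) (hV : V ≤ X.basicOpen g) :
    IsUnit (resRing hVU g) := by
  have h1 : IsUnit (X.presheaf.map (homOfLE (X.basicOpen_le g)).op g) :=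
    RingedSpace.isUnit_res_basicOpen X.toRingedSpace g
  have h2 := h1.map (X.presheaf.map (homOfLE hV).op).hom
  have h3 : (X.presheaf.map (homOfLE hV).op).hom (X.presheaf.map (homOfLE (X.basicOpen_le g)).op g)
      = resRing hVU g := by
    change (X.presheaf.map (homOfLE (X.basicOpen_le g)).op ≫ X.presheaf.map (homOfLE hV).op) g = _
    rw [← X.presheaf.map_comp]
    rfl
  rwa [h3] at h2

theorem isUnit_end (F : X.Modules) {U V : X.Opens} (hVU : V ≤ U) (g : Γ(X, U))
    (hV : V ≤ X.basicOpen g) (x : Submonoid.powers g) :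
    letI := modOfLE F hVU
    IsUnit (algebraMap Γ(X, U) (Module.End Γ(X, U) Γ(F, V)) x) := by
  letI := modOfLE F hVU
  obtain ⟨_, n, rfl⟩ := x
  rw [Module.End.isUnit_iff]
  obtain ⟨v, hv⟩ := (isUnit_res hVU g hV).pow n
  refine ⟨fun a b hab => ?_, fun b => ⟨(↑v⁻¹ : Γ(X, V)) • b, ?_⟩⟩
  · have h1 : (resRing hVU (g ^ n)) • a = (resRing hVU (g ^ n)) • b := hab
    rw [map_pow, ← hv] at h1
    have := congrArg (fun z => (↑v⁻¹ : Γ(X, V)) • z) h1
    simpa [smul_smul] using this
  · change (resRing hVU (g ^ n)) • ((↑v⁻¹ : Γ(X, V)) • b) = b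
    rw [map_pow, ← hv, smul_smul]
    simp

variable (M F : X.Modules) [M.IsQuasicoherent]

/-- two additive maps `Γ(M, D(g)) → Γ(F, V)` (`V ≤ D(g)`, `g ∈ Γ(X, U)`, `U` affine), semilinear
over `Γ(X, U)`, agreeing on restrictions of sections over `U`, are equal. -/
theorem ext_of_affineOpen {U : X.Opens} (hU : IsAffineOpen U) (g : Γ(X, U)) {V : X.Opens}
    (hV : V ≤ X.basicOpen g)
    (j k : Γ(M, X.basicOpen g) →+ Γ(F, V))
    (hj : ∀ (r : Γ(X, U)) (x : Γ(M, X.basicOpen g)),
      j (resRing (X.basicOpen_le g) r • x) = resRing (hV.trans (X.basicOpen_le g)) r • j x)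
    (hk : ∀ (r : Γ(X, U)) (x : Γ(M, X.basicOpen g)),
      k (resRing (X.basicOpen_le g) r • x) = resRing (hV.trans (X.basicOpen_le g)) r • k x)
    (h : ∀ m : Γ(M, U), j (M.presheaf.map (homOfLE (X.basicOpen_le g)).op m) =
      k (M.presheaf.map (homOfLE (X.basicOpen_le g)).op m)) : j = k := by
  letI := modOfLE M (X.basicOpen_le g)
  letI := modOfLE F (hV.trans (X.basicOpen_le g))
  haveI := isLocalizedModule_of_eq_basicOpen M hU g (X.basicOpen_le g) rfl
  let j' : Γ(M, X.basicOpen g) →ₗ[Γ(X, U)] Γ(F, V) :=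
    { toFun := j, map_add' := j.map_add, map_smul' := hj }
  let k' : Γ(M, X.basicOpen g) →ₗ[Γ(X, U)] Γ(F, V) :=
    { toFun := k, map_add' := k.map_add, map_smul' := hk }
  have hjk : j' = k' := by
    refine IsLocalizedModule.ext (Submonoid.powers g) (resLin M (X.basicOpen_le g))
      (isUnit_end F (hV.trans (X.basicOpen_le g)) g hV) ?_
    ext m
    exact h m
  ext x
  exact congr($hjk x)

/-- existence of the local piece, with full linearity -/
theorem exists_local {U : X.Opens} (hU : IsAffineOpen U) (l : Γ(M, U) →ₗ[Γ(X, U)] Γ(F, U))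
    (g : Γ(X, U)) :
    ∃ a : Γ(M, X.basicOpen g) →+ Γ(F, X.basicOpen g),
      (∀ (r : Γ(X, U)) (x : Γ(M, X.basicOpen g)),
        a (resRing (X.basicOpen_le g) r • x) = resRing (X.basicOpen_le g) r • a x) ∧
      (∀ m : Γ(M, U), a (M.presheaf.map (homOfLE (X.basicOpen_le g)).op m) =
        F.presheaf.map (homOfLE (X.basicOpen_le g)).op (l m)) ∧
      (∀ (r : Γ(X, X.basicOpen g)) (x : Γ(M, X.basicOpen g)), a (r • x) = r • a x) := by
  letI := modOfLE M (X.basicOpen_le g)
  letI := modOfLE F (X.basicOpen_le g)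
  haveI := isLocalizedModule_of_eq_basicOpen M hU g (X.basicOpen_le g) rfl
  let a := IsLocalizedModule.lift (Submonoid.powers g)
    (resLin M (X.basicOpen_le g)) ((resLin F (X.basicOpen_le g)).comp l)
    (isUnit_end F (X.basicOpen_le g) g le_rfl)
  have ha1 : ∀ (r : Γ(X, U)) (x : Γ(M, X.basicOpen g)),
      a (resRing (X.basicOpen_le g) r • x) = resRing (X.basicOpen_le g) r • a x :=
    fun r x => a.map_smul r x
  refine ⟨a.toAddMonoidHom, ha1, fun m => ?_, fun r x => ?_⟩
  · exact IsLocalizedModule.lift_apply (Submonoid.powers g)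
      (resLin M (X.basicOpen_le g)) ((resLin F (X.basicOpen_le g)).comp l)
      (isUnit_end F (X.basicOpen_le g) g le_rfl) m
  · change a (r • x) = r • a x
    letI := algOfLE (X := X) (X.basicOpen_le g)
    haveI : IsLocalization.Away g Γ(X, X.basicOpen g) :=
      hU.isLocalization_of_eq_basicOpen g (homOfLE (X.basicOpen_le g)) rfl
    obtain ⟨⟨r₀, ⟨_, n, rfl⟩⟩, hr⟩ := IsLocalization.surj (Submonoid.powers g) r
    have hr' : r * resRing (X.basicOpen_le g) (g ^ n) = resRing (X.basicOpen_le g) r₀ := hr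
    obtain ⟨v, hv⟩ := (isUnit_res (X.basicOpen_le g) g (le_refl (X.basicOpen g))).pow n
    rw [← map_pow] at hv
    have e1 : a ((resRing (X.basicOpen_le g) (g ^ n)) • (r • x)) =
        (resRing (X.basicOpen_le g) (g ^ n)) • (r • a x) := by
      rw [smul_smul, mul_comm, hr', ha1, ← hr', mul_comm, smul_smul]
    rw [ha1, ← hv] at e1
    have := congrArg (fun z => (↑v⁻¹ : Γ(X, X.basicOpen g)) • z) e1
    simpa [smul_smul] using this

end Groth.Agent.Lib.helper28.QCohAffineOpenHom
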