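import Groth.Prelude.Def_RelSpec2
import Groth.Agent.Lib.Helper28.SheafModBasis
import Groth.Agent.Lib.Helper28.QCohAffineOpenHom
import Groth.Agent.Lib.Helper28.HomOfBasis
import Groth.Agent.Lib.Helper7.QCohAffine

/-!
# The direct image along an affine morphism is fully faithful on quasi-coherent modules (helper28)

For `f : X ⟶ S` affine and `F` quasi-coherent: `wU` (components of a morphism
`w : f_*F ⟶ f_*G` of `f_*O_X`-modules), `loc` (such a `w` is local on `X`), `cross`,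
`exists_hom` (every `w` is `f_*ψ` on affine opens), `dirImg_map_bijective`.
-/

set_option autoImplicit false
set_option linter.style.haveILetI false
universe u
open CategoryTheory CategoryTheory.Limits AlgebraicGeometry Opposite TopologicalSpace
noncomputable section

namespace Groth.Agent.Lib.helper28.DirImgFF

open Groth.Agent.Lib.helper16.CohFinite
open Groth.Agent.Lib.helper28.QCohAffineOpenHom

variable {X S : Scheme.{u}} (f : X ⟶ S) [IsAffineHom f] {F G : X.Modules}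

/-- the component of `w` over `U` as a linear map -/
def wU (w : (AMod.dirImg f).obj F ⟶ (AMod.dirImg f).obj G) (U : S.Opens) :
    Γ(F, f ⁻¹ᵁ U) →ₗ[Γ(X, f ⁻¹ᵁ U)] Γ(G, f ⁻¹ᵁ U) := (w.val.app (op U)).hom

theorem wU_map (w : (AMod.dirImg f).obj F ⟶ (AMod.dirImg f).obj G) {U U' : S.Opens} (h : U' ≤ U)
    (m : Γ(F, f ⁻¹ᵁ U)) :
    wU f w U' (F.presheaf.map (homOfLE (f.preimage_mono h)).op m) =
      G.presheaf.map (homOfLE (f.preimage_mono h)).op (wU f w U m) :=
  Groth.Agent.Lib.helper28.SheafModBasis.app_map w h m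

theorem wU_dirImg (u : F ⟶ G) (U : S.Opens) (m : Γ(F, f ⁻¹ᵁ U)) :
    wU f ((AMod.dirImg f).map u) U m = u.app (f ⁻¹ᵁ U) m := rfl

theorem map_map' (N : X.Modules) {U V W : X.Opens} (h₁ : V ≤ U) (h₂ : W ≤ V) (x : Γ(N, U)) :
    N.presheaf.map (homOfLE h₂).op (N.presheaf.map (homOfLE h₁).op x) =
      N.presheaf.map (homOfLE (h₂.trans h₁)).op x := by
  change (N.presheaf.map (homOfLE h₁).op ≫ N.presheaf.map (homOfLE h₂).op) x = _
  rw [← N.presheaf.map_comp]
  rfl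

/-- restriction to an open on which `g` is invertible kills nothing killed by a power of `g` -/
theorem map_eq_zero_of_pow_smul (N : X.Modules) {U D : X.Opens} (hDU : D ≤ U) (g : Γ(X, U))
    (hD : D ≤ X.basicOpen g) (n : ℕ) (y : Γ(N, U)) (h : g ^ n • y = 0) :
    N.presheaf.map (homOfLE hDU).op y = 0 := by
  have h1 : N.presheaf.map (homOfLE hDU).op (g ^ n • y) = 0 := by rw [h, map_zero]
  rw [Scheme.Modules.map_smul] at h1
  obtain ⟨v, hv⟩ := (isUnit_res hDU g hD).pow n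
  have h2 : (X.presheaf.map (homOfLE hDU).op).hom (g ^ n) = (v : Γ(X, D)) := by
    rw [map_pow]; exact hv.symm
  rw [h2] at h1
  have := congrArg (fun z => (↑v⁻¹ : Γ(X, D)) • z) h1
  simpa [smul_smul] using this

/-- **`w` is local on `X`**. -/
theorem loc [F.IsQuasicoherent] (w : (AMod.dirImg f).obj F ⟶ (AMod.dirImg f).obj G)
    {U₁ U₂ : S.Opens} (m₁ : Γ(F, f ⁻¹ᵁ U₁)) (m₂ : Γ(F, f ⁻¹ᵁ U₂))
    {D : X.Opens} (h₁ : D ≤ f ⁻¹ᵁ U₁) (h₂ : D ≤ f ⁻¹ᵁ U₂)
    (h : F.presheaf.map (homOfLE h₁).op m₁ = F.presheaf.map (homOfLE h₂).op m₂) :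
    G.presheaf.map (homOfLE h₁).op (wU f w U₁ m₁) =
      G.presheaf.map (homOfLE h₂).op (wU f w U₂ m₂) := by
  refine TopCat.Presheaf.IsSheaf.section_ext G.isSheaf (fun p hp => ?_)
  have hp' : p ∈ D := hp
  have hs : f.base p ∈ U₁ ⊓ U₂ := ⟨h₁ hp', h₂ hp'⟩
  obtain ⟨U₃, hU₃, hs₃, hle₃⟩ := Opens.isBasis_iff_nbhd.mp S.isBasis_affineOpens hs
  have hV₃ : IsAffineOpen (f ⁻¹ᵁ U₃) := IsAffineOpen.preimage hU₃ f
  have hp₃ : p ∈ D ⊓ f ⁻¹ᵁ U₃ := ⟨hp', hs₃⟩
  obtain ⟨g, hg, hpg⟩ := hV₃.exists_basicOpen_le (V := D ⊓ f ⁻¹ᵁ U₃) ⟨p, hp₃⟩ hs₃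
  have hgD : X.basicOpen g ≤ D := hg.trans inf_le_left
  have h31 : U₃ ≤ U₁ := hle₃.trans inf_le_left
  have h32 : U₃ ≤ U₂ := hle₃.trans inf_le_right
  refine ⟨X.basicOpen g, hgD, hpg, ?_⟩
  let δ : Γ(F, f ⁻¹ᵁ U₃) := F.presheaf.map (homOfLE (f.preimage_mono h31)).op m₁ -
    F.presheaf.map (homOfLE (f.preimage_mono h32)).op m₂
  have hδ : F.presheaf.map (homOfLE (X.basicOpen_le g)).op δ = 0 := by
    change F.presheaf.map _ (_ - _) = 0
    rw [map_sub, map_map', map_map', sub_eq_zero]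
    have := congrArg (F.presheaf.map (homOfLE hgD).op) h
    rw [map_map', map_map'] at this
    exact this
  obtain ⟨n, hn⟩ := Groth.Agent.Lib.helper7.exists_pow_smul_eq_zero_of_isAffineOpen hV₃ F g δ hδ
  have h4 : g ^ n • wU f w U₃ δ = 0 := by
    rw [← map_smul, hn, map_zero]
  have h5 := map_eq_zero_of_pow_smul G (X.basicOpen_le g) g le_rfl n _ h4
  have h6 : wU f w U₃ δ = G.presheaf.map (homOfLE (f.preimage_mono h31)).op (wU f w U₁ m₁) -
      G.presheaf.map (homOfLE (f.preimage_mono h32)).op (wU f w U₂ m₂) := by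
    change wU f w U₃ (_ - _) = _
    rw [map_sub, wU_map f w h31, wU_map f w h32]
  rw [h6, map_sub, map_map', map_map', sub_eq_zero] at h5
  rw [map_map', map_map']
  exact h5

/-- cancel a unit scalar on `D ≤ D(g)` -/
theorem smul_cancel (N : X.Modules) {U D : X.Opens} (hDU : D ≤ U) (g : Γ(X, U))
    (hD : D ≤ X.basicOpen g) (n : ℕ) (y z : Γ(N, D))
    (h : resRing hDU (g ^ n) • y = resRing hDU (g ^ n) • z) : y = z := by
  obtain ⟨v, hv⟩ := (isUnit_res hDU g hD).pow n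
  rw [map_pow, ← hv] at h
  have := congrArg (fun z => (↑v⁻¹ : Γ(X, D)) • z) h
  simpa [smul_smul] using this

/-- the index set of the basis: affine opens of `S` with a function on the preimage -/
abbrev Idx : Type u := Σ U : S.affineOpens, Γ(X, f ⁻¹ᵁ U.1)

/-- the basis -/
abbrev B (i : Idx f) : X.Opens := X.basicOpen i.2

theorem hV (U : S.affineOpens) : IsAffineOpen (f ⁻¹ᵁ U.1) := IsAffineOpen.preimage U.2 f

theorem isBasis_B : Opens.IsBasis (Set.range (B f)) := by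
  rw [Opens.isBasis_iff_nbhd]
  intro O x hx
  obtain ⟨U, hU, hxU, -⟩ := Opens.isBasis_iff_nbhd.mp S.isBasis_affineOpens
    (U := ⊤) (x := f.base x) trivial
  obtain ⟨g, hg, hxg⟩ := (hV f ⟨U, hU⟩).exists_basicOpen_le (V := O) ⟨x, hx⟩ hxU
  exact ⟨X.basicOpen g, ⟨⟨⟨U, hU⟩, g⟩, rfl⟩, hxg, hg⟩

theorem B_le (i : Idx f) : B f i ≤ f ⁻¹ᵁ i.1.1 := X.basicOpen_le i.2

/-- **CROSS**: the local pieces attached to different affine opens of `S` are compatible. -/
theorem cross [F.IsQuasicoherent] (w : (AMod.dirImg f).obj F ⟶ (AMod.dirImg f).obj G)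
    (i i' : Idx f) (h : B f i' ≤ f ⁻¹ᵁ i.1.1)
    (a : Γ(F, B f i') →+ Γ(G, B f i'))
    (ha1 : ∀ (r : Γ(X, f ⁻¹ᵁ i'.1.1)) (x : Γ(F, B f i')),
        a (resRing (B_le f i') r • x) = resRing (B_le f i') r • a x)
    (ha2 : ∀ m : Γ(F, f ⁻¹ᵁ i'.1.1), a (F.presheaf.map (homOfLE (B_le f i')).op m) =
        G.presheaf.map (homOfLE (B_le f i')).op (wU f w i'.1.1 m))
    (m : Γ(F, f ⁻¹ᵁ i.1.1)) :
    a (F.presheaf.map (homOfLE h).op m) = G.presheaf.map (homOfLE h).op (wU f w i.1.1 m) := by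
  obtain ⟨⟨U, hU⟩, g⟩ := i
  obtain ⟨⟨U', hU'⟩, g'⟩ := i'
  change X.basicOpen g' ≤ f ⁻¹ᵁ U at h
  have hle' : X.basicOpen g' ≤ f ⁻¹ᵁ U' := X.basicOpen_le g'
  letI := modOfLE F hle'
  have LF := isLocalizedModule_of_eq_basicOpen F (hV f ⟨U', hU'⟩) g' hle' rfl
  obtain ⟨⟨m', ⟨_, n, rfl⟩⟩, hm'⟩ := LF.surj (F.presheaf.map (homOfLE h).op m)
  have hm'' : resRing hle' (g' ^ n) • F.presheaf.map (homOfLE h).op m =
      F.presheaf.map (homOfLE hle').op m' := hm'
  refine smul_cancel G hle' g' le_rfl n _ _ ?_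
  have e1 := ha1 (g' ^ n) (F.presheaf.map (homOfLE h).op m)
  have e1' : resRing hle' (g' ^ n) • a (F.presheaf.map (homOfLE h).op m) =
      G.presheaf.map (homOfLE hle').op (wU f w U' m') := by
    have e0 := ha2 m'
    change a (F.presheaf.map (homOfLE hle').op m') = _ at e0
    rw [← e0, ← hm'']
    exact e1.symm
  refine e1'.trans ?_
  -- now use locality
  have h12 : X.basicOpen g' ≤ f ⁻¹ᵁ (U ⊓ U') := fun x hx => ⟨h hx, hle' hx⟩
  have hUU : U ⊓ U' ≤ U := inf_le_left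
  have hUU' : U ⊓ U' ≤ U' := inf_le_right
  let m₂ : Γ(F, f ⁻¹ᵁ (U ⊓ U')) :=
    resRing (f.preimage_mono hUU') (g' ^ n) • F.presheaf.map (homOfLE (f.preimage_mono hUU)).op m
  have key := loc f w m' m₂ hle' h12 (by
    change _ = F.presheaf.map _ (_ • _)
    rw [Scheme.Modules.map_smul, map_map', ← hm'']
    congr 1
    change _ = (X.presheaf.map _ ≫ X.presheaf.map _) _
    rw [← X.presheaf.map_comp]
    rfl)
  rw [key]
  change G.presheaf.map _ (wU f w (U ⊓ U') (_ • _)) = _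
  rw [map_smul, wU_map f w hUU, Scheme.Modules.map_smul, map_map']
  congr 1
  change (X.presheaf.map _ ≫ X.presheaf.map _) _ = _
  rw [← X.presheaf.map_comp]
  rfl

/-- **existence**: every `f_*O_X`-linear `w : f_*F ⟶ f_*G` comes from a morphism `F ⟶ G`. -/
theorem exists_hom [F.IsQuasicoherent] (w : (AMod.dirImg f).obj F ⟶ (AMod.dirImg f).obj G) :
    ∃ ψ : F ⟶ G, ∀ (U : S.affineOpens) (m : Γ(F, f ⁻¹ᵁ U.1)),
      ψ.app (f ⁻¹ᵁ U.1) m = wU f w U.1 m := by
  choose a ha1 ha2 ha3 using fun i : Idx f => exists_local F G (hV f i.1) (wU f w i.1.1) i.2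
  have hnat : ∀ (i j : Idx f) (hij : B f i ≤ B f j) (s : Γ(F, B f j)),
      a i (F.presheaf.map (homOfLE hij).op s) = G.presheaf.map (homOfLE hij).op (a j s) := by
    intro i j hij s
    let j₁ : Γ(F, X.basicOpen j.2) →+ Γ(G, B f i) :=
      (a i).comp (F.presheaf.map (homOfLE hij).op).hom
    let k₁ : Γ(F, X.basicOpen j.2) →+ Γ(G, B f i) :=
      (G.presheaf.map (homOfLE hij).op).hom.comp (a j)
    have hjk : j₁ = k₁ := by
      refine ext_of_affineOpen F G (hV f j.1) j.2 hij j₁ k₁ (fun r x => ?_) (fun r x => ?_)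
        (fun m => ?_)
      · change a i (F.presheaf.map (homOfLE hij).op (_ • x)) = _ • a i (F.presheaf.map _ x)
        rw [Scheme.Modules.map_smul, ha3]
        congr 1
        change (X.presheaf.map _ ≫ X.presheaf.map _) _ = _
        rw [← X.presheaf.map_comp]
        rfl
      · change G.presheaf.map (homOfLE hij).op (a j (_ • x)) = _ • G.presheaf.map _ (a j x)
        rw [ha1, Scheme.Modules.map_smul]
        congr 1
        change (X.presheaf.map _ ≫ X.presheaf.map _) _ = _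
        rw [← X.presheaf.map_comp]
        rfl
      · change a i (F.presheaf.map (homOfLE hij).op (F.presheaf.map _ m)) =
          G.presheaf.map (homOfLE hij).op (a j (F.presheaf.map _ m))
        rw [ha2, map_map', map_map']
        exact cross f w j i (hij.trans (B_le f j)) (a i) (ha1 i) (ha2 i) m
    exact congr($hjk s)
  obtain ⟨ψ, hψ⟩ := Groth.Agent.Lib.helper28.HomOfBasis.exists_hom_of_basis (B f) (isBasis_B f)
    a hnat (fun i r s => ha3 i r s)
  refine ⟨ψ, fun U m => ?_⟩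
  have h1 : X.basicOpen (1 : Γ(X, f ⁻¹ᵁ U.1)) = f ⁻¹ᵁ U.1 :=
    Scheme.basicOpen_of_isUnit X isUnit_one
  have h2 := hψ ⟨U, 1⟩ (F.presheaf.map (homOfLE (B_le f ⟨U, 1⟩)).op m)
  rw [ha2] at h2
  have h3 : ψ.app (B f ⟨U, 1⟩) (F.presheaf.map (homOfLE (B_le f ⟨U, 1⟩)).op m) =
      G.presheaf.map (homOfLE (B_le f ⟨U, 1⟩)).op (ψ.app (f ⁻¹ᵁ U.1) m) :=
    Groth.Agent.Lib.helper7.ModBasisHom.app_map ψ _ m
  rw [h3] at h2
  exact Groth.Agent.Lib.helper7.map_injective_of_eq G h1.symm h2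

/-- **`f_*` is fully faithful on quasi-coherent modules** (`f` affine). -/
theorem dirImg_map_bijective [F.IsQuasicoherent] :
    Function.Bijective
      ((AMod.dirImg f).map : (F ⟶ G) → ((AMod.dirImg f).obj F ⟶ (AMod.dirImg f).obj G)) := by
  constructor
  · intro u u' huu
    refine Groth.Agent.Lib.helper28.HomOfBasis.hom_ext_of_basis (B f) (isBasis_B f) u u' ?_
    intro i s
    have hU : ∀ m : Γ(F, f ⁻¹ᵁ i.1.1), u.app (f ⁻¹ᵁ i.1.1) m = u'.app (f ⁻¹ᵁ i.1.1) m := by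
      intro m
      have := congrArg (fun w => wU f w i.1.1 m) huu
      exact this
    have hjk : (u.app (B f i)).hom = (u'.app (B f i)).hom := by
      refine ext_of_affineOpen F G (hV f i.1) i.2 le_rfl _ _ (fun r x => ?_) (fun r x => ?_)
        (fun m => ?_)
      · exact Scheme.Modules.Hom.app_smul u _ x
      · exact Scheme.Modules.Hom.app_smul u' _ x
      · change u.app _ (F.presheaf.map _ m) = u'.app _ (F.presheaf.map _ m)
        rw [Groth.Agent.Lib.helper7.ModBasisHom.app_map, Groth.Agent.Lib.helper7.ModBasisHom.app_map,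
          hU]
    exact congr($hjk s)
  · intro w
    obtain ⟨ψ, hψ⟩ := exists_hom f w
    refine ⟨ψ, ?_⟩
    refine Groth.Agent.Lib.helper28.SheafModBasis.hom_ext_of_basis _ _ S.affineOpens
      S.isBasis_affineOpens ?_
    intro D hD s
    exact hψ ⟨D, hD⟩ s

end Groth.Agent.Lib.helper28.DirImgFF
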