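import Mathlib
import Groth.Prelude.Def_BlowUp2
import Groth.Agent.Lib.Helper28.BlowUpFlat
import Groth.Agent.Lib.Helper28.CplBlowUp
import Groth.Agent.Lib.Helper7.IdealComap
import Groth.Agent.S10855

/-!
# Ideals of `Y ×_R R̂` supported in the closed fibre descend to `Y` (helper28)

`R` a discrete valuation ring (any Noetherian local ring with principal maximal ideal works for the
algebra), `R̂` its completion.

* `exists_eq_add`: `R̂ = R + ϖⁿ R̂`.
* `map_comap_eq`: for a pushout `B' = B ⊗_R R'` with `R' = R + ϖⁿ R'`, every ideal `J` of `B'`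
  containing `ϖⁿ` is extended from `B`.
* `main` (= `S7927`).
-/

set_option autoImplicit false
set_option linter.style.haveILetI false
set_option linter.unusedTactic false

universe u

open IsLocalRing CategoryTheory CategoryTheory.Limits AlgebraicGeometry TopologicalSpace

namespace Groth.Agent.Lib.helper28.DvrCplDescent

section alg

/-- `Â = A + ϖⁿ Â` when `𝔪 = (ϖ)`. -/
theorem exists_eq_add (A : Type u) [CommRing A] [IsLocalRing A] [IsNoetherianRing A] (ϖ : A)
    (hϖ : maximalIdeal A = Ideal.span {ϖ}) (n : ℕ) (s : AdicCompletion (maximalIdeal A) A) :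
    ∃ (r : A) (t : AdicCompletion (maximalIdeal A) A),
      s = algebraMap A (AdicCompletion (maximalIdeal A) A) r +
        algebraMap A (AdicCompletion (maximalIdeal A) A) (ϖ ^ n) * t := by
  obtain ⟨r, hr⟩ := Ideal.Quotient.mk_surjective (AdicCompletion.evalₐ (maximalIdeal A) n s)
  have h0 : AdicCompletion.evalₐ (maximalIdeal A) n
      (s - algebraMap A (AdicCompletion (maximalIdeal A) A) r) = 0 := by
    rw [map_sub, AlgHom.commutes, ← hr]
    exact sub_self _
  have h1 := Groth.Agent.Lib.helper28.CplBlowUp.mem_map_pow_of_evalₐ_eq_zero A n _ h0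
  have h2 : maximalIdeal A ^ n = Ideal.span {ϖ ^ n} := by
    rw [hϖ, Ideal.span_singleton_pow]
  rw [h2, Ideal.map_span, Set.image_singleton, Ideal.mem_span_singleton'] at h1
  obtain ⟨t, ht⟩ := h1
  refine ⟨r, t, ?_⟩
  rw [mul_comm, ht]
  ring

variable {R B R' B' : Type u} [CommRing R] [CommRing B] [CommRing R'] [CommRing B']
  [Algebra R B] [Algebra R R'] [Algebra B B'] [Algebra R' B'] [Algebra R B']
  [IsScalarTower R B B'] [IsScalarTower R R' B']

/-- In a pushout `B' = B ⊗_R R'` with `R' = R + c R'`, every ideal of `B'` containing `c` is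
extended from `B`. -/
theorem map_comap_eq [Algebra.IsPushout R B R' B'] (c : R)
    (hsurj : ∀ s : R', ∃ (r : R) (t : R'), s = algebraMap R R' r + algebraMap R R' c * t)
    (J : Ideal B') (hJ : algebraMap R B' c ∈ J) :
    (J.comap (algebraMap B B')).map (algebraMap B B') = J := by
  refine le_antisymm Ideal.map_comap_le ?_
  have key : ∀ x : B', ∃ (b : B) (y : B'), x = algebraMap B B' b + algebraMap R B' c * y := by
    intro x
    refine IsBaseChange.inductionOn (Algebra.IsPushout.out (R := R) (S := B) (R' := R') (S' := B'))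
      x (fun x => ∃ (b : B) (y : B'), x = algebraMap B B' b + algebraMap R B' c * y) ?_ ?_ ?_ ?_
    · exact ⟨0, 0, by simp⟩
    · intro s
      obtain ⟨r, t, rfl⟩ := hsurj s
      refine ⟨algebraMap R B r, algebraMap R' B' t, ?_⟩
      change algebraMap R' B' (algebraMap R R' r + algebraMap R R' c * t) = _
      rw [map_add, map_mul, ← IsScalarTower.algebraMap_apply, ← IsScalarTower.algebraMap_apply,
        ← IsScalarTower.algebraMap_apply]
    · rintro b' x ⟨b, y, rfl⟩
      refine ⟨b' * b, algebraMap B B' b' * y, ?_⟩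
      rw [Algebra.smul_def, map_mul]
      ring
    · rintro x₁ x₂ ⟨b₁, y₁, rfl⟩ ⟨b₂, y₂, rfl⟩
      refine ⟨b₁ + b₂, y₁ + y₂, ?_⟩
      rw [map_add]
      ring
  intro x hx
  obtain ⟨b, y, rfl⟩ := key x
  have hc : algebraMap R B' c = algebraMap B B' (algebraMap R B c) :=
    IsScalarTower.algebraMap_apply R B B' c
  have hb : b ∈ J.comap (algebraMap B B') := by
    rw [Ideal.mem_comap]
    have : algebraMap B B' b = (algebraMap B B' b + algebraMap R B' c * y) -
        algebraMap R B' c * y := by ring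
    rw [this]
    exact sub_mem hx (Ideal.mul_mem_right _ _ hJ)
  have hc' : algebraMap R B c ∈ J.comap (algebraMap B B') := by
    rw [Ideal.mem_comap, ← hc]
    exact hJ
  rw [hc]
  exact add_mem (Ideal.mem_map_of_mem _ hb) (Ideal.mul_mem_right _ _ (Ideal.mem_map_of_mem _ hc'))

end alg

section scheme

variable (R : Type u) [CommRing R] [IsLocalRing R]

/-- If the support of an ideal sheaf `𝓘` on a scheme `Z` over a local ring `R` lies over the closed
point, then the elements of the maximal ideal are, on every affine open, in the radical of `𝓘`. -/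
theorem appLE_mem_radical {Z : Scheme.{u}} (h : Z ⟶ Spec (CommRingCat.of R))
    (𝓘 : Z.IdealSheafData) (hsupp : (𝓘.support : Set Z) ⊆ h.base ⁻¹' {closedPoint R})
    (V : Z.Opens) (hV : IsAffineOpen V) (ϖ : R) (hϖ : ϖ ∈ maximalIdeal R) :
    (h.appLE ⊤ V le_top).hom ((Scheme.ΓSpecIso (CommRingCat.of R)).inv.hom ϖ) ∈
      (𝓘.ideal ⟨V, hV⟩).radical := by
  rw [Ideal.radical_eq_sInf, Ideal.mem_sInf]
  rintro P ⟨hJP, hP⟩
  by_contra hc
  haveI := hP
  set x' : Z := hV.fromSpec ⟨P, hP⟩ with hx'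
  have h1 : x' ∈ hV.fromSpec '' PrimeSpectrum.zeroLocus (𝓘.ideal ⟨V, hV⟩ : Set Γ(Z, V)) :=
    ⟨⟨P, hP⟩, (PrimeSpectrum.mem_zeroLocus _ _).mpr hJP, rfl⟩
  rw [hV.fromSpec_image_zeroLocus, ← 𝓘.coe_support_inter ⟨V, hV⟩] at h1
  have h2 : h x' = closedPoint R := hsupp h1.1
  -- `x'` lies in the basic open of the image of `ϖ`
  have h3 : (⟨P, hP⟩ : PrimeSpectrum Γ(Z, V)) ∈ hV.fromSpec ⁻¹ᵁ Z.basicOpen
      ((h.appLE ⊤ V le_top).hom ((Scheme.ΓSpecIso (CommRingCat.of R)).inv.hom ϖ)) := by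
    rw [hV.fromSpec_preimage_basicOpen]
    exact hc
  have h4 : x' ∈ Z.basicOpen
      ((h.appLE ⊤ V le_top).hom ((Scheme.ΓSpecIso (CommRingCat.of R)).inv.hom ϖ)) := h3
  rw [Scheme.Hom.appLE, CommRingCat.hom_comp, RingHom.comp_apply, Scheme.basicOpen_res,
    ← Scheme.preimage_basicOpen] at h4
  have h5 : h x' ∈ (Spec (CommRingCat.of R)).basicOpen
      ((Scheme.ΓSpecIso (CommRingCat.of R)).inv.hom ϖ) := h4.2
  rw [h2] at h5
  have h6 := basicOpen_eq_of_affine (R := CommRingCat.of R) ϖ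
  rw [h6] at h5
  exact h5 hϖ

end scheme

section main

variable (R : Type u) [CommRing R] [IsLocalRing R]

/-- the key local statement: on `π⁻¹ U` the ideal is extended from `U`. -/
theorem ideal_le_map_comap {Y T : Scheme.{u}} (q : Y ⟶ Spec (CommRingCat.of R))
    (g : T ⟶ Spec (CommRingCat.of R)) [IsAffine T] (ϖ : R) (hϖm : ϖ ∈ maximalIdeal R)
    (hsurj : ∀ (n : ℕ) (s : Γ(T, ⊤)), ∃ (r : Γ(Spec (CommRingCat.of R), ⊤)) (t : Γ(T, ⊤)),
      s = (g.appLE ⊤ ⊤ le_top).hom r +
        (g.appLE ⊤ ⊤ le_top).hom ((Scheme.ΓSpecIso (CommRingCat.of R)).inv.hom (ϖ ^ n)) * t)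
    (I : (pullback q g).IdealSheafData)
    (hI : (I.support : Set ↥(pullback q g)) ⊆
      (pullback.fst q g ≫ q).base ⁻¹' {closedPoint R})
    (U : Y.Opens) (hU : IsAffineOpen U) (hV : IsAffineOpen ((pullback.fst q g) ⁻¹ᵁ U)) :
    I.ideal ⟨_, hV⟩ ≤ ((I.ideal ⟨_, hV⟩).comap
      ((pullback.fst q g).appLE U _ le_rfl).hom).map ((pullback.fst q g).appLE U _ le_rfl).hom := by
  have hc : IsPullback (pullback.fst q g) (pullback.snd q g) q g := IsPullback.of_hasPullback q g
  have hVeq : (pullback.fst q g) ⁻¹ᵁ U = (pullback.fst q g) ⁻¹ᵁ U ⊓ (pullback.snd q g) ⁻¹ᵁ ⊤ := by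
    simp
  have hUS : U ≤ q ⁻¹ᵁ ⊤ := le_top
  have hUT : (⊤ : T.Opens) ≤ g ⁻¹ᵁ ⊤ := le_top
  have hpo : IsPushout (q.appLE ⊤ U hUS) (g.appLE ⊤ ⊤ hUT)
      ((pullback.fst q g).appLE U ((pullback.fst q g) ⁻¹ᵁ U) le_rfl)
      ((pullback.snd q g).appLE ⊤ ((pullback.fst q g) ⁻¹ᵁ U) le_top) := by
    haveI := isIso_pushoutSection_of_isAffineOpen hc hUT hUS hVeq (isAffineOpen_top _)
      (isAffineOpen_top _) hU
    exact (isIso_pushoutSection_iff hc hUT hUS hVeq).mp inferInstance
  letI algAB : Algebra Γ(Spec (CommRingCat.of R), ⊤) Γ(Y, U) := (q.appLE ⊤ U hUS).hom.toAlgebra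
  letI algAA' : Algebra Γ(Spec (CommRingCat.of R), ⊤) Γ(T, ⊤) := (g.appLE ⊤ ⊤ hUT).hom.toAlgebra
  letI algBB' : Algebra Γ(Y, U) Γ(pullback q g, (pullback.fst q g) ⁻¹ᵁ U) :=
    ((pullback.fst q g).appLE U ((pullback.fst q g) ⁻¹ᵁ U) le_rfl).hom.toAlgebra
  letI algA'B' : Algebra Γ(T, ⊤) Γ(pullback q g, (pullback.fst q g) ⁻¹ᵁ U) :=
    ((pullback.snd q g).appLE ⊤ ((pullback.fst q g) ⁻¹ᵁ U) le_top).hom.toAlgebra
  letI algAB' : Algebra Γ(Spec (CommRingCat.of R), ⊤)
      Γ(pullback q g, (pullback.fst q g) ⁻¹ᵁ U) :=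
    (((pullback.fst q g).appLE U ((pullback.fst q g) ⁻¹ᵁ U) le_rfl).hom.comp
      (q.appLE ⊤ U hUS).hom).toAlgebra
  haveI tw1 : IsScalarTower Γ(Spec (CommRingCat.of R), ⊤) Γ(Y, U)
      Γ(pullback q g, (pullback.fst q g) ⁻¹ᵁ U) :=
    IsScalarTower.of_algebraMap_eq (fun _ => rfl)
  have hsq : ∀ a : Γ(Spec (CommRingCat.of R), ⊤),
      ((pullback.fst q g).appLE U ((pullback.fst q g) ⁻¹ᵁ U) le_rfl).hom
        ((q.appLE ⊤ U hUS).hom a) =
      ((pullback.snd q g).appLE ⊤ ((pullback.fst q g) ⁻¹ᵁ U) le_top).hom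
        ((g.appLE ⊤ ⊤ hUT).hom a) := fun a =>
    congrArg (fun φ => φ.hom a) hpo.w
  haveI tw2 : IsScalarTower Γ(Spec (CommRingCat.of R), ⊤) Γ(T, ⊤)
      Γ(pullback q g, (pullback.fst q g) ⁻¹ᵁ U) :=
    IsScalarTower.of_algebraMap_eq (fun a => hsq a)
  haveI hpush : Algebra.IsPushout Γ(Spec (CommRingCat.of R), ⊤) Γ(Y, U) Γ(T, ⊤)
      Γ(pullback q g, (pullback.fst q g) ⁻¹ᵁ U) :=
    CommRingCat.isPushout_iff_isPushout.mp hpo
  -- a power of `ϖ` lies in the ideal
  have hrad := appLE_mem_radical R (pullback.fst q g ≫ q) I hI _ hV ϖ hϖm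
  obtain ⟨n, hn⟩ := hrad
  rw [← map_pow, ← map_pow] at hn
  have hle := map_comap_eq (R := Γ(Spec (CommRingCat.of R), ⊤)) (B := Γ(Y, U))
    (R' := Γ(T, ⊤)) (B' := Γ(pullback q g, (pullback.fst q g) ⁻¹ᵁ U))
    ((Scheme.ΓSpecIso (CommRingCat.of R)).inv.hom (ϖ ^ n)) (hsurj n) (I.ideal ⟨_, hV⟩) ?_
  · exact hle.ge
  · change (((pullback.fst q g).appLE U ((pullback.fst q g) ⁻¹ᵁ U) le_rfl).hom.comp
      (q.appLE ⊤ U hUS).hom) _ ∈ _
    have h1 : ((pullback.fst q g).appLE U ((pullback.fst q g) ⁻¹ᵁ U) le_rfl).hom.comp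
        (q.appLE ⊤ U hUS).hom =
        ((pullback.fst q g ≫ q).appLE ⊤ ((pullback.fst q g) ⁻¹ᵁ U) le_top).hom := by
      rw [← CommRingCat.hom_comp, Scheme.Hom.appLE_comp_appLE]
    rw [h1]
    exact hn

/-- **Descent of an ideal sheaf supported over the closed point.** -/
theorem comap_map_eq {Y T : Scheme.{u}} (q : Y ⟶ Spec (CommRingCat.of R))
    (g : T ⟶ Spec (CommRingCat.of R)) [IsAffine T] (ϖ : R) (hϖm : ϖ ∈ maximalIdeal R)
    (hsurj : ∀ (n : ℕ) (s : Γ(T, ⊤)), ∃ (r : Γ(Spec (CommRingCat.of R), ⊤)) (t : Γ(T, ⊤)),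
      s = (g.appLE ⊤ ⊤ le_top).hom r +
        (g.appLE ⊤ ⊤ le_top).hom ((Scheme.ΓSpecIso (CommRingCat.of R)).inv.hom (ϖ ^ n)) * t)
    (I : (pullback q g).IdealSheafData)
    (hI : (I.support : Set ↥(pullback q g)) ⊆
      (pullback.fst q g ≫ q).base ⁻¹' {closedPoint R}) :
    (I.map (pullback.fst q g)).comap (pullback.fst q g) = I := by
  haveI : IsAffineHom (pullback.fst q g) := MorphismProperty.pullback_fst _ _ inferInstance
  refine le_antisymm (Scheme.IdealSheafData.comap_map_le I (pullback.fst q g)) ?_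
  refine Scheme.IdealSheafData.le_of_iSup_eq_top
    (fun U : Y.affineOpens => (⟨(pullback.fst q g) ⁻¹ᵁ U.1, U.2.preimage (pullback.fst q g)⟩ :
      (pullback q g).affineOpens)) ?_ ?_
  · change ⨆ U : Y.affineOpens, (pullback.fst q g) ⁻¹ᵁ U.1 = ⊤
    rw [← Scheme.Hom.preimage_iSup, iSup_affineOpens_eq_top]
    rfl
  · intro U
    change I.ideal ⟨_, U.2.preimage (pullback.fst q g)⟩ ≤
      ((I.map (pullback.fst q g)).comap (pullback.fst q g)).ideal
        ⟨_, U.2.preimage (pullback.fst q g)⟩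
    rw [Groth.Agent.Lib.helper7.IdealComap.ideal_comap (pullback.fst q g)
      (I.map (pullback.fst q g)) U.2 (U.2.preimage (pullback.fst q g)) le_rfl,
      Scheme.IdealSheafData.ideal_map_of_isAffineHom I (pullback.fst q g) U,
      Scheme.Hom.app_eq_appLE]
    exact ideal_le_map_comap R q g ϖ hϖm hsurj I hI U.1 U.2 (U.2.preimage (pullback.fst q g))

end main

section dvr

variable (R : Type u) [CommRing R] [IsDomain R] [IsDiscreteValuationRing R]

/-- `S7927`. -/
theorem main {Y : Scheme.{u}} (q : Y ⟶ Spec (CommRingCat.of R))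
    (I : (pullback q (Spec.map (CommRingCat.ofHom (algebraMap R
        (AdicCompletion (IsLocalRing.maximalIdeal R) R))))).IdealSheafData)
    (hI : (I.support : Set ↥(pullback q (Spec.map (CommRingCat.ofHom (algebraMap R
        (AdicCompletion (IsLocalRing.maximalIdeal R) R)))))) ⊆
      (pullback.fst q (Spec.map (CommRingCat.ofHom (algebraMap R
        (AdicCompletion (IsLocalRing.maximalIdeal R) R)))) ≫ q).base ⁻¹'
          {IsLocalRing.closedPoint R}) :
    ∃ I₀ : Y.IdealSheafData, (I₀.support : Set Y) ⊆ q.base ⁻¹' {IsLocalRing.closedPoint R} ∧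
      I₀.comap (pullback.fst q (Spec.map (CommRingCat.ofHom (algebraMap R
        (AdicCompletion (IsLocalRing.maximalIdeal R) R))))) = I ∧
      ∀ (X : Scheme.{u}) (g : X ⟶ Y), BlowUp.IsBlowUp g I₀ →
        BlowUp.IsBlowUp (pullback.snd g (pullback.fst q (Spec.map (CommRingCat.ofHom (algebraMap R
          (AdicCompletion (IsLocalRing.maximalIdeal R) R)))))) I := by
  obtain ⟨ϖ, hϖ⟩ := IsDiscreteValuationRing.exists_irreducible R
  have hmax : maximalIdeal R = Ideal.span {ϖ} := hϖ.maximalIdeal_eq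
  have hϖm : ϖ ∈ maximalIdeal R := by rw [hmax]; exact Ideal.subset_span rfl
  have hnat := Scheme.ΓSpecIso_inv_naturality
    (CommRingCat.ofHom (algebraMap R (AdicCompletion (maximalIdeal R) R)))
  have hnat' : ∀ a : R,
      ((Spec.map (CommRingCat.ofHom (algebraMap R (AdicCompletion (maximalIdeal R) R)))).appLE
        ⊤ ⊤ le_top).hom ((Scheme.ΓSpecIso (CommRingCat.of R)).inv.hom a) =
      (Scheme.ΓSpecIso (CommRingCat.of (AdicCompletion (maximalIdeal R) R))).inv.hom
        (algebraMap R (AdicCompletion (maximalIdeal R) R) a) := by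
    intro a
    have := congrArg (fun φ => φ.hom a) hnat
    simp only [CommRingCat.hom_comp, RingHom.comp_apply] at this
    rw [Scheme.Hom.appLE]
    simp only [CommRingCat.hom_comp, RingHom.comp_apply]
    erw [← this]
    simp
  have hsurj : ∀ (n : ℕ)
      (s : Γ(Spec (CommRingCat.of (AdicCompletion (maximalIdeal R) R)), ⊤)),
      ∃ (r : Γ(Spec (CommRingCat.of R), ⊤))
        (t : Γ(Spec (CommRingCat.of (AdicCompletion (maximalIdeal R) R)), ⊤)),
      s = ((Spec.map (CommRingCat.ofHom (algebraMap R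
          (AdicCompletion (maximalIdeal R) R)))).appLE ⊤ ⊤ le_top).hom r +
        ((Spec.map (CommRingCat.ofHom (algebraMap R
          (AdicCompletion (maximalIdeal R) R)))).appLE ⊤ ⊤ le_top).hom
            ((Scheme.ΓSpecIso (CommRingCat.of R)).inv.hom (ϖ ^ n)) * t := by
    intro n s
    obtain ⟨r, t, hrt⟩ := exists_eq_add R ϖ hmax n
      ((Scheme.ΓSpecIso (CommRingCat.of (AdicCompletion (maximalIdeal R) R))).hom.hom s)
    refine ⟨(Scheme.ΓSpecIso (CommRingCat.of R)).inv.hom r,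
      (Scheme.ΓSpecIso (CommRingCat.of (AdicCompletion (maximalIdeal R) R))).inv.hom t, ?_⟩
    rw [hnat', hnat', ← map_mul, ← map_add, ← hrt]
    simp
  haveI : Flat (Spec.map (CommRingCat.ofHom (algebraMap R
      (AdicCompletion (maximalIdeal R) R)))) := by
    rw [HasRingHomProperty.Spec_iff (P := @Flat)]
    exact RingHom.flat_algebraMap_iff.mpr inferInstance
  have hcm := comap_map_eq R q _ ϖ hϖm hsurj I hI
  haveI : IsAffineHom (pullback.fst q (Spec.map (CommRingCat.ofHom (algebraMap R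
      (AdicCompletion (maximalIdeal R) R))))) := MorphismProperty.pullback_fst _ _ inferInstance
  haveI : Flat (pullback.fst q (Spec.map (CommRingCat.ofHom (algebraMap R
      (AdicCompletion (maximalIdeal R) R))))) := MorphismProperty.pullback_fst _ _ inferInstance
  refine ⟨I.map (pullback.fst q _), ?_, hcm, ?_⟩
  · rw [Scheme.IdealSheafData.support_map, TopologicalSpace.Closeds.coe_closure]
    refine closure_minimal ?_ ?_
    · rintro _ ⟨y, hy, rfl⟩
      exact hI hy
    · exact (IsLocalRing.isClosed_singleton_closedPoint R).preimage q.continuous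
  · intro X b hb
    have H : IsPullback (pullback.fst b (pullback.fst q (Spec.map (CommRingCat.ofHom (algebraMap R
        (AdicCompletion (maximalIdeal R) R))))))
        (pullback.snd b (pullback.fst q (Spec.map (CommRingCat.ofHom (algebraMap R
        (AdicCompletion (maximalIdeal R) R)))))) b
        (pullback.fst q (Spec.map (CommRingCat.ofHom (algebraMap R
        (AdicCompletion (maximalIdeal R) R))))) := IsPullback.of_hasPullback _ _
    haveI : Flat (pullback.fst b (pullback.fst q (Spec.map (CommRingCat.ofHom (algebraMap R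
        (AdicCompletion (maximalIdeal R) R)))))) := MorphismProperty.pullback_fst _ _ inferInstance
    have h1 := Groth.Agent.Lib.helper28.BlowUpFlat.isBlowUp_of_isPullback _ b hb _ _ _ H
      (Groth.Agent.S10855.result _ _ hb.1)
    rw [hcm] at h1
    exact h1

end dvr

end Groth.Agent.Lib.helper28.DvrCplDescent
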