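import Mathlib
import Groth.Prelude.Def_BlowUp2
import Groth.Prelude.Def_CohB1
import Groth.Agent.Lib.Helper18.ProjBasic
import Groth.Agent.Lib.Helper28.TwistPn

/-!
# Nonzero ideal sheaves on `P¹` over a field are effective Cartier (helper28)

* `isEffCartier_of_pir`: on an integral scheme covered by affine opens whose rings of sections are
  principal ideal rings, an ideal sheaf whose support is not everything is effective Cartier.
* `isPrincipalIdealRing_chart`: the standard charts of `P¹_k` have principal ideal rings.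
* `isEffCartier_P1`: the case of `P¹_k`.
* `existsUnique_lift_P1`: a morphism `P¹_k ⟶ X` whose image is not contained in the centre lifts
  uniquely to the blow-up.
-/

set_option autoImplicit false
set_option linter.style.haveILetI false
universe u

open CategoryTheory CategoryTheory.Limits AlgebraicGeometry Opposite TopologicalSpace MvPolynomial
  HomogeneousLocalization

namespace Groth.Agent.Lib.helper28.EffCartierPID

theorem isEffCartier_of_pir {P : Scheme.{u}} [IsIntegral P] (J : P.IdealSheafData)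
    (hJ : (J.support : Set P) ≠ Set.univ)
    (hcov : ∀ x : P, ∃ U : P.affineOpens, x ∈ U.1 ∧ IsPrincipalIdealRing Γ(P, U.1)) :
    BlowUp.IsEffCartierIdeal J := by
  intro x
  obtain ⟨U, hxU, hpir⟩ := hcov x
  refine ⟨U, hxU, ?_⟩
  haveI : Nonempty U.1 := ⟨⟨x, hxU⟩⟩
  haveI : IsDomain Γ(P, U.1) := inferInstance
  obtain ⟨g, hg⟩ := (hpir.principal (J.ideal U)).principal
  refine ⟨g, ?_, hg.trans (Ideal.submodule_span_eq)⟩
  apply mem_nonZeroDivisors_of_ne_zero
  rintro rfl
  apply hJ
  have h0 : J.ideal U = ⊥ := by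
    rw [hg]
    simp
  have h1 : (U.1 : Set P) ⊆ J.support := by
    intro y hy
    have h2 := J.coe_support_inter U
    rw [h0] at h2
    have h3 : y ∈ P.zeroLocus (U := U.1) ((⊥ : Ideal Γ(P, U.1)) : Set Γ(P, U.1)) ∩ (U.1 : Set P) := by
      refine ⟨?_, hy⟩
      rw [Scheme.mem_zeroLocus_iff]
      intro f hf
      have hf0 : f = 0 := hf
      rw [hf0, Scheme.basicOpen_zero]
      exact fun h => h
    rw [← h2] at h3
    exact h3.1
  have hd : Dense (U.1 : Set P) :=
    U.1.isOpen.dense ⟨x, hxU⟩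
  have h4 := hd.closure_eq
  exact Set.eq_univ_of_univ_subset (h4 ▸ closure_minimal h1 J.support.isClosed)

section P1

variable (k : Type u) [Field k]

/-- The standard chart `D₊(Xᵢ)` of `P¹`. -/
noncomputable def chart (i : Fin 2) : (CohB1.ProjSpace 1 k).Opens :=
  Proj.basicOpen (CohB1.polyGrading 1 k) (X i : MvPolynomial (Fin 2) k)

theorem isAffineOpen_chart (i : Fin 2) : IsAffineOpen (chart k i) :=
  Proj.isAffineOpen_basicOpen (CohB1.polyGrading 1 k) (X i : MvPolynomial (Fin 2) k)
    (Groth.Agent.Lib.Helper18.ProjChart.X_mem 1 k i) one_pos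

theorem exists_mem_chart (x : CohB1.ProjSpace 1 k) : ∃ i, x ∈ chart k i := by
  obtain ⟨a, ha⟩ := Groth.Agent.Lib.helper28.TwistPn.exists_X_notMem 1 k x
  exact ⟨a, (ProjectiveSpectrum.mem_basicOpen (CohB1.polyGrading 1 k) _ x).mpr ha⟩

instance (i : Fin 2) : Unique (Groth.Agent.Lib.Helper18.ProjChart.Idx 1 i) where
  default := ⟨if i = 0 then 1 else 0, by fin_cases i <;> simp⟩
  uniq := by
    rintro ⟨j, hj⟩
    apply Subtype.ext
    fin_cases i <;> fin_cases j <;> first | exact absurd rfl hj | rfl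

theorem isPrincipalIdealRing_chart (i : Fin 2) :
    IsPrincipalIdealRing Γ(CohB1.ProjSpace 1 k, chart k i) := by
  let e12 : Polynomial k ≃+* MvPolynomial (Groth.Agent.Lib.Helper18.ProjChart.Idx 1 i) k :=
    (MvPolynomial.uniqueAlgEquiv k (Groth.Agent.Lib.Helper18.ProjChart.Idx 1 i)).symm.toRingEquiv
  let e3 := Groth.Agent.Lib.Helper18.ProjChart.chartEquiv 1 k i
  let e4 : Away (CohB1.polyGrading 1 k) (X i : MvPolynomial (Fin 2) k) ≃+*
      Γ(CohB1.ProjSpace 1 k, chart k i) :=
    (Proj.basicOpenIsoAway (CohB1.polyGrading 1 k) (X i : MvPolynomial (Fin 2) k)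
      (Groth.Agent.Lib.Helper18.ProjChart.X_mem 1 k i) one_pos).commRingCatIsoToRingEquiv
  let e := (e12.trans e3).trans e4
  exact IsPrincipalIdealRing.of_surjective e.toRingHom e.surjective

/-- On `P¹` over a field, an ideal sheaf whose support is not everything is effective Cartier. -/
theorem isEffCartier_P1 (J : (CohB1.ProjSpace 1 k).IdealSheafData)
    (hJ : (J.support : Set (CohB1.ProjSpace 1 k)) ≠ Set.univ) : BlowUp.IsEffCartierIdeal J := by
  refine isEffCartier_of_pir J hJ fun x => ?_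
  obtain ⟨i, hi⟩ := exists_mem_chart k x
  exact ⟨⟨chart k i, isAffineOpen_chart k i⟩, hi, isPrincipalIdealRing_chart k i⟩

/-- A morphism from `P¹` whose image is not contained in the centre lifts uniquely to the blow-up. -/
theorem existsUnique_lift_P1 {X Z B : Scheme.{u}} (iZ : Z ⟶ X) [IsClosedImmersion iZ]
    (σ : B ⟶ X) (hσ : BlowUp.IsBlowUp σ iZ.ker) (f : CohB1.ProjSpace 1 k ⟶ X)
    (hfZ : ¬ Set.range f ⊆ Set.range iZ) : ∃! g : CohB1.ProjSpace 1 k ⟶ B, g ≫ σ = f := by
  refine hσ.2 _ f (isEffCartier_P1 k _ ?_)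
  intro h
  apply hfZ
  rintro _ ⟨y, rfl⟩
  have hy : y ∈ ((iZ.ker.comap f).support : Set (CohB1.ProjSpace 1 k)) := by
    rw [h]; trivial
  rw [Scheme.IdealSheafData.support_comap] at hy
  have hy' : f y ∈ (iZ.ker.support : Set X) := hy
  rw [Scheme.Hom.support_ker, iZ.isClosedEmbedding.isClosed_range.closure_eq] at hy'
  exact hy'

end P1

end Groth.Agent.Lib.helper28.EffCartierPID
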