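import Groth.Agent.Lib.Helper11.InvPullback
import Groth.Agent.Lib.Helper16.QCohEpi
import Groth.Agent.Lib.Helper28.LocalGen

/-!
# Generation of an invertible quotient of `q^* E` by sections of `E` (helper28)

* `IsGenOn L W s D`: the section `s ∈ Γ(W, L)` generates `L` freely over every affine open
  contained in `D ≤ W`.
* `isGenOn_basicOpen`: for a trivialisation `e` of `L` over `A`, `s` generates `L` over the locus
  where the function `e(s)` does not vanish.
* `exists_isGenOn_of_epi`: if the adjoint `q^* E ⟶ L` of `β : E ⟶ q_* L` is an epimorphism and `L`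
  is invertible, near every point of `X` the module `L` is generated by `β(e)` for a section `e`
  of `E` over an affine open of the base (test against the skyscraper at the point).
-/

set_option autoImplicit false
universe u
open CategoryTheory CategoryTheory.Limits AlgebraicGeometry TopologicalSpace Opposite
open Scheme.Modules
open Groth.Agent.Lib.helper11.IsoLocus Groth.Agent.Lib.helper11.InvMod
  Groth.Agent.Lib.helper11.GenLocus Groth.Agent.Lib.helper11.InvHom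
  Groth.Agent.Lib.helper11.InvPullback

namespace Groth.Agent.Lib.helper28.EpiGen

variable {X Y : Scheme.{u}}

/-- `s ∈ Γ(W, L)` generates `L` freely over every affine open contained in `D`. -/
def IsGenOn (L : X.Modules) (W : X.Opens) (s : Γ(L, W)) (D : X.Opens) : Prop :=
  ∃ hD : D ≤ W, ∀ (V : X.Opens), IsAffineOpen V → ∀ (h : V ≤ D),
    Function.Bijective (fun c : Γ(X, V) => c • L.presheaf.map (homOfLE (h.trans hD)).op s)

/-- The function `e(s|)` on `A ∩ W` attached to a trivialisation `e` of `L` over `A`. -/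
noncomputable def trivFn (L : X.Modules) (A : X.Opens)
    (e : L.restrict A.ι ≅ Coh.structureModule (↑A : Scheme.{u})) (W : X.Opens) (s : Γ(L, W)) :
    Γ((↑A : Scheme.{u}), A.ι ⁻¹ᵁ W) :=
  (e.hom.app (A.ι ⁻¹ᵁ W)).hom (L.presheaf.map (homOfLE (A.ι.image_preimage_le W)).op s)

theorem isGenOn_basicOpen (L : X.Modules) (A : X.Opens)
    (e : L.restrict A.ι ≅ Coh.structureModule (↑A : Scheme.{u})) (W : X.Opens) (s : Γ(L, W)) :
    IsGenOn L W s (A.ι ''ᵁ ((↑A : Scheme.{u}).basicOpen (trivFn L A e W s))) := by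
  have hD : A.ι ''ᵁ ((↑A : Scheme.{u}).basicOpen (trivFn L A e W s)) ≤ W :=
    (A.ι.image_mono ((↑A : Scheme.{u}).basicOpen_le _)).trans (A.ι.image_preimage_le W)
  refine ⟨hD, fun V hV h => ?_⟩
  have hVA : V ≤ A.ι.opensRange := by
    rw [Scheme.Opens.opensRange_ι]
    rintro y hy
    obtain ⟨z, -, rfl⟩ := h hy
    exact z.2
  have heq : A.ι ''ᵁ (A.ι ⁻¹ᵁ V) = V := by
    rw [Scheme.Hom.image_preimage_eq_opensRange_inf]
    exact inf_eq_right.mpr hVA
  have hV'' : A.ι ⁻¹ᵁ V ≤ (↑A : Scheme.{u}).basicOpen (trivFn L A e W s) := by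
    intro y hy
    obtain ⟨z, hz, hzy⟩ := h hy
    have : z = y := A.ι.isOpenEmbedding.injective hzy
    exact this ▸ hz
  have hV''W : A.ι ⁻¹ᵁ V ≤ A.ι ⁻¹ᵁ W := hV''.trans ((↑A : Scheme.{u}).basicOpen_le _)
  -- the section over `A.ι '' V''`
  let s₂ : Γ(L.restrict A.ι, A.ι ⁻¹ᵁ V) :=
    L.presheaf.map (homOfLE ((A.ι.image_mono hV''W).trans (A.ι.image_preimage_le W))).op s
  have hes₂ : (e.hom.app (A.ι ⁻¹ᵁ V)).hom s₂ =
      (↑A : Scheme.{u}).presheaf.map (homOfLE hV''W).op (trivFn L A e W s) := by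
    have h1 := Groth.Agent.Lib.helper16.QCohEpi.app_map e.hom hV''W
      (L.presheaf.map (homOfLE (A.ι.image_preimage_le W)).op s)
    refine Eq.trans ?_ h1
    congr 1
    change _ = L.presheaf.map (homOfLE (A.ι.image_mono hV''W)).op
      (L.presheaf.map (homOfLE (A.ι.image_preimage_le W)).op s)
    rw [Groth.Agent.Lib.helper28.LocalGen.map_map]
  have hunit : IsUnit ((↑A : Scheme.{u}).presheaf.map (homOfLE hV''W).op
      (trivFn L A e W s)) := by
    have h1 : IsUnit ((↑A : Scheme.{u}).presheaf.map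
        (homOfLE ((↑A : Scheme.{u}).basicOpen_le (trivFn L A e W s))).op
        (trivFn L A e W s)) :=
      (↑A : Scheme.{u}).toRingedSpace.isUnit_res_basicOpen _
    have h2 := h1.map ((↑A : Scheme.{u}).presheaf.map (homOfLE hV'').op).hom
    rw [← CommRingCat.comp_apply, ← Functor.map_comp] at h2
    exact h2
  -- bijectivity over `↑A`
  have hbij : Function.Bijective (fun a : Γ((↑A : Scheme.{u}), A.ι ⁻¹ᵁ V) => a • s₂) := by
    have he : Function.Bijective (e.hom.app (A.ι ⁻¹ᵁ V)).hom := by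
      have : IsIso (e.hom.app (A.ι ⁻¹ᵁ V)) := inferInstance
      exact (ConcreteCategory.isIso_iff_bijective _).mp this
    have hcomp : (e.hom.app (A.ι ⁻¹ᵁ V)).hom ∘
        (fun a : Γ((↑A : Scheme.{u}), A.ι ⁻¹ᵁ V) => a • s₂) =
        fun a => a * (↑A : Scheme.{u}).presheaf.map (homOfLE hV''W).op (trivFn L A e W s) := by
      funext a
      change (e.hom.app (A.ι ⁻¹ᵁ V)).hom (a • s₂) = _
      rw [Scheme.Modules.Hom.app_smul, hes₂]
      rfl
    have h2 : Function.Bijective ((e.hom.app (A.ι ⁻¹ᵁ V)).hom ∘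
        (fun a : Γ((↑A : Scheme.{u}), A.ι ⁻¹ᵁ V) => a • s₂)) := by
      rw [hcomp]
      exact IsUnit.isUnit_iff_mulRight_bijective.mp hunit
    exact (Function.Bijective.of_comp_iff' he _).mp h2
  have hbijX : Function.Bijective (fun a : Γ(X, A.ι ''ᵁ (A.ι ⁻¹ᵁ V)) =>
      (a • (show Γ(L, A.ι ''ᵁ (A.ι ⁻¹ᵁ V)) from s₂) : Γ(L, A.ι ''ᵁ (A.ι ⁻¹ᵁ V)))) := by
    have : (fun a : Γ(X, A.ι ''ᵁ (A.ι ⁻¹ᵁ V)) =>
        (a • (show Γ(L, A.ι ''ᵁ (A.ι ⁻¹ᵁ V)) from s₂) : Γ(L, A.ι ''ᵁ (A.ι ⁻¹ᵁ V)))) =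
        fun a => ((show Γ((↑A : Scheme.{u}), A.ι ⁻¹ᵁ V) from a) • s₂) := by
      funext a
      exact (Groth.Agent.Lib.helper7.IdealCartier.restrict_smul A L (A.ι ⁻¹ᵁ V) a s₂).symm
    rw [this]
    exact hbij
  have h3 := Groth.Agent.Lib.helper28.LocalGen.bijective_smul_of_eq L heq.symm
    (show Γ(L, A.ι ''ᵁ (A.ι ⁻¹ᵁ V)) from s₂) hbijX
  have h4 : L.presheaf.map (eqToHom heq.symm).op (show Γ(L, A.ι ''ᵁ (A.ι ⁻¹ᵁ V)) from s₂) =
      L.presheaf.map (homOfLE (h.trans hD)).op s := by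
    change L.presheaf.map (eqToHom heq.symm).op (L.presheaf.map (homOfLE _).op s) = _
    rw [← ConcreteCategory.comp_apply, ← Functor.map_comp]
    rfl
  rw [h4] at h3
  exact h3

theorem homEquiv_app (L : X.Modules) (A : X.Opens) (T : (↑A : Scheme.{u}).Modules)
    (θ : L.restrict A.ι ⟶ T) (W : X.Opens) (s : Γ(L, W)) :
    (((restrictAdjunction A.ι).homEquiv L T θ).app W).hom s =
      (θ.app (A.ι ⁻¹ᵁ W)).hom (L.presheaf.map (homOfLE (A.ι.image_preimage_le W)).op s) := by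
  rw [Adjunction.homEquiv_unit]
  rfl

/-- **Generation from an epimorphism**: if the adjoint `q^* E ⟶ L` of `β : E ⟶ q_* L` is an
epimorphism and `L` is invertible, then near every point of `X` the module `L` is freely generated
by the image of a section of `E` over an affine open of `Y`. -/
theorem exists_isGenOn_of_epi (q : X ⟶ Y) (E : Y.Modules) (L : X.Modules)
    (hL : PicF.IsInvertible L) (β : E ⟶ (Scheme.Modules.pushforward q).obj L)
    (hφ : Epi (((Scheme.Modules.pullbackPushforwardAdjunction q).homEquiv E L).symm β)) (x : X) :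
    ∃ (U : Y.Opens) (_ : IsAffineOpen U) (e : Γ(E, U)) (D : X.Opens), x ∈ D ∧
      IsGenOn L (q ⁻¹ᵁ U) (show Γ(L, q ⁻¹ᵁ U) from (β.app U) e) D := by
  obtain ⟨A, hA, hxA, -, ⟨e⟩⟩ := exists_affine_isTrivOn hL x ⊤ trivial
  by_contra hcon
  let x' : (↑A : Scheme.{u}) := ⟨x, hxA⟩
  let g := (↑A : Scheme.{u}).fromSpecResidueField x'
  let c := unitToPush g
  let adj := restrictAdjunction A.ι
  let ψ : L ⟶ (pushforward A.ι).obj ((pushforward g).obj (Coh.structureModule _)) :=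
    adj.homEquiv _ _ (e.hom ≫ c)
  have key : ∀ (U : Y.Opens) (hU : IsAffineOpen U) (e' : Γ(E, U)),
      (ψ.app (q ⁻¹ᵁ U)).hom (show Γ(L, q ⁻¹ᵁ U) from (β.app U) e') = 0 := by
    intro U hU e'
    by_contra hne
    apply hcon
    refine ⟨U, hU, e', _, ?_, isGenOn_basicOpen L A e (q ⁻¹ᵁ U) _⟩
    have h0 : (ψ.app (q ⁻¹ᵁ U)).hom (show Γ(L, q ⁻¹ᵁ U) from (β.app U) e') =
        g.app (A.ι ⁻¹ᵁ (q ⁻¹ᵁ U))
          (trivFn L A e (q ⁻¹ᵁ U) (show Γ(L, q ⁻¹ᵁ U) from (β.app U) e')) := by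
      change ((adj.homEquiv _ _ (e.hom ≫ c)).app (q ⁻¹ᵁ U)).hom _ = _
      rw [homEquiv_app]
      rfl
    rw [h0] at hne
    have hb : (Spec ((↑A : Scheme.{u}).residueField x')).basicOpen
        (g.app (A.ι ⁻¹ᵁ (q ⁻¹ᵁ U))
          (trivFn L A e (q ⁻¹ᵁ U) (show Γ(L, q ⁻¹ᵁ U) from (β.app U) e'))) ≠ ⊥ :=
      fun hb => hne ((AlgebraicGeometry.basicOpen_eq_bot_iff _).mp hb)
    rw [← Scheme.preimage_basicOpen] at hb
    obtain ⟨y, hy⟩ : ∃ y, y ∈ g ⁻¹ᵁ ((↑A : Scheme.{u}).basicOpen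
        (trivFn L A e (q ⁻¹ᵁ U) (show Γ(L, q ⁻¹ᵁ U) from (β.app U) e'))) := by
      by_contra hno
      apply hb
      ext y
      simp only [TopologicalSpace.Opens.coe_bot, Set.mem_empty_iff_false, iff_false]
      exact fun hy => hno ⟨y, hy⟩
    have hy' : g y ∈ (↑A : Scheme.{u}).basicOpen
        (trivFn L A e (q ⁻¹ᵁ U) (show Γ(L, q ⁻¹ᵁ U) from (β.app U) e')) := hy
    rw [Scheme.fromSpecResidueField_apply] at hy'
    exact ⟨x', hy', rfl⟩
  have hz : ∀ (M : X.Modules) (N : (↑A : Scheme.{u}).Modules),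
      adj.homEquiv M N 0 = 0 := by
    intro M N
    rw [adj.homEquiv_unit, Functor.map_zero, comp_zero]
  let adjq := Scheme.Modules.pullbackPushforwardAdjunction q
  have h1 : β ≫ (Scheme.Modules.pushforward q).map ψ = 0 := by
    refine Groth.Agent.Lib.helper16.QCohEpi.hom_ext_of_basis _ _ Y.affineOpens
      Y.isBasis_affineOpens (fun U hU s => ?_)
    exact key U hU s
  have h2 : (adjq.homEquiv E L).symm β ≫ ψ = 0 := by
    apply (adjq.homEquiv _ _).injective
    rw [Adjunction.homEquiv_naturality_right, Equiv.apply_symm_apply, h1,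
      adjq.homEquiv_unit, Functor.map_zero, comp_zero]
  have h3 : ψ = 0 := (cancel_epi ((adjq.homEquiv E L).symm β)).mp (h2.trans comp_zero.symm)
  have h4 : e.hom ≫ c = 0 := by
    apply (adj.homEquiv _ _).injective
    exact h3.trans (hz _ _).symm
  have h5 : c = 0 := (cancel_epi e.hom).mp (h4.trans comp_zero.symm)
  have h6 : ((c.app ⊤).hom (1 : Γ((↑A : Scheme.{u}), ⊤))) = g.app ⊤ 1 := rfl
  rw [h5] at h6
  have h7 : (1 : Γ(Spec ((↑A : Scheme.{u}).residueField x'), g ⁻¹ᵁ ⊤)) = 0 := by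
    rw [← map_one (g.app ⊤).hom]
    exact h6.symm
  have h8 : g ⁻¹ᵁ (⊤ : (↑A : Scheme.{u}).Opens) = ⊥ := by
    rw [← (Spec ((↑A : Scheme.{u}).residueField x')).basicOpen_of_isUnit
      (isUnit_one : IsUnit (1 : Γ(Spec ((↑A : Scheme.{u}).residueField x'), g ⁻¹ᵁ ⊤))), h7,
      Scheme.basicOpen_zero]
  obtain ⟨y⟩ : Nonempty (Spec ((↑A : Scheme.{u}).residueField x')) := inferInstance
  have hy : y ∈ g ⁻¹ᵁ (⊤ : (↑A : Scheme.{u}).Opens) := trivial
  rw [h8] at hy
  exact hy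

end Groth.Agent.Lib.helper28.EpiGen
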