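import Mathlib
import Groth.Prelude.Def_Grpd
import Groth.Agent.S7457

/-!
# Largest opens defined by a target-local property are invariant under a groupoid
-/

set_option autoImplicit false
universe u
open CategoryTheory CategoryTheory.Limits AlgebraicGeometry

namespace Groth.Agent.Lib.helper28.GrpdLocal

/-- base change along a one-arrow cover, for a property local at the target -/
lemma iff_of_cover {K : Precoverage Scheme.{u}} {P : MorphismProperty Scheme.{u}}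
    [P.IsLocalAtTarget K] {X Y Y' X' : Scheme.{u}} {f : X ⟶ Y} {g : Y' ⟶ Y} {fst : X' ⟶ X}
    {snd : X' ⟶ Y'} (h : IsPullback fst snd f g) (hg : Presieve.singleton g ∈ K Y) :
    P f ↔ P snd := by
  have := h.hasPullback
  constructor
  · intro hf
    rw [← P.cancel_left_of_respectsIso h.isoPullback.inv, h.isoPullback_inv_snd]
    exact MorphismProperty.IsLocalAtTarget.pullbackSnd hg (Presieve.singleton.mk) hf
  · intro hsnd
    refine MorphismProperty.IsLocalAtTarget.of_forall_pullbackSnd hg ?_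
    intro U g' _ hg'
    cases hg'
    rw [← h.isoPullback_inv_snd, P.cancel_left_of_respectsIso]
    exact hsnd

/-- restricting a pullback square over an open containing the image of the base change map -/
lemma restrict_pullback {X Y Z Z' : Scheme.{u}} (f : X ⟶ Y) (W : Y.Opens) (q' : Z ⟶ (W : Scheme.{u}))
    (a : Z' ⟶ X) (b : Z' ⟶ Z) (h : IsPullback a b f (q' ≫ W.ι)) :
    ∃ A : Z' ⟶ ((f ⁻¹ᵁ W : X.Opens) : Scheme.{u}), IsPullback A b (f ∣_ W) q' :=
  ⟨_, IsPullback.of_right' h (isPullback_morphismRestrict f W).flip⟩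

lemma of_comp_mono {Q : MorphismProperty Scheme.{u}} [Q.IsStableUnderBaseChange]
    {X Y Z : Scheme.{u}} (g : X ⟶ Y) (m : Y ⟶ Z) [Mono m] (h : Q (g ≫ m)) : Q g := by
  have h1 : IsPullback g (𝟙 X) (𝟙 Y) g := IsPullback.id_vert g
  have h2 : IsPullback (𝟙 Y) (𝟙 Y) m m := IsKernelPair.id_of_mono m
  have h3 := h1.paste_horiz h2
  rw [Category.comp_id] at h3
  exact Q.of_isPullback h3.flip h

variable {S : Scheme.{u}} (G : Grpd.GroupoidScheme S)

/-- the key inclusion -/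
theorem preimage_t_le_preimage_s
    (Q : MorphismProperty Scheme.{u}) [Q.IsStableUnderBaseChange] [Q.IsStableUnderComposition]
    (hQ1 : ∀ {X Y : Scheme.{u}} (f : X ⟶ Y), IsOpenImmersion f → Q f)
    (hQ2 : ∀ {X Y : Scheme.{u}} (f : X ⟶ Y), Q f → IsOpenMap f)
    (P : MorphismProperty Scheme.{u}) [P.IsLocalAtTarget (Scheme.precoverage Q)]
    (hs : Q G.s) (ht : Function.Surjective G.t ∧ Q G.t)
    {X E : Scheme.{u}} (p : X ⟶ G.U) (a a' : E ⟶ X) (b : E ⟶ G.R)
    (h₁ : IsPullback a b p G.s) (h₂ : IsPullback a' b p G.t)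
    (W : G.U.Opens) (hW : P (p ∣_ W)) (hmax : ∀ W' : G.U.Opens, P (p ∣_ W') → W' ≤ W) :
    G.t ⁻¹ᵁ W ≤ G.s ⁻¹ᵁ W := by
  set V : G.R.Opens := G.t ⁻¹ᵁ W with hV
  set VV : E.Opens := b ⁻¹ᵁ V with hVV
  have hb : IsPullback VV.ι (b ∣_ V) b V.ι := (isPullback_morphismRestrict b V).flip
  -- first square
  have sq1 : IsPullback (VV.ι ≫ a') (b ∣_ V) p ((G.t ∣_ W) ≫ W.ι) := by
    rw [morphismRestrict_ι]
    exact hb.paste_horiz h₂
  obtain ⟨A, hA⟩ := restrict_pullback p W (G.t ∣_ W) _ _ sq1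
  have cov1 : Presieve.singleton (G.t ∣_ W) ∈ Scheme.precoverage Q (W : Scheme.{u}) := by
    rw [Scheme.singleton_mem_precoverage_iff]
    refine ⟨?_, Q.of_isPullback (isPullback_morphismRestrict G.t W).flip ht.2⟩
    intro y
    obtain ⟨x, hx⟩ := ht.1 y.1
    refine ⟨⟨x, by show G.t x ∈ W; rw [hx]; exact y.2⟩, ?_⟩
    apply Subtype.ext
    rw [morphismRestrict_base_coe]
    exact hx
  have hPb : P (b ∣_ V) := (iff_of_cover hA cov1).mp hW
  -- the image of V under s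
  set W'' : G.U.Opens := ⟨G.s '' (V : Set G.R), hQ2 G.s hs _ V.isOpen⟩ with hW''
  have hrange : Set.range (V.ι ≫ G.s) ⊆ Set.range W''.ι := by
    rintro _ ⟨x, rfl⟩
    rw [Scheme.Opens.range_ι]
    exact ⟨x.1, x.2, rfl⟩
  set g : (V : Scheme.{u}) ⟶ (W'' : Scheme.{u}) := IsOpenImmersion.lift W''.ι (V.ι ≫ G.s) hrange with hg
  have hgι : g ≫ W''.ι = V.ι ≫ G.s := IsOpenImmersion.lift_fac _ _ _
  have sq2 : IsPullback (VV.ι ≫ a) (b ∣_ V) p (g ≫ W''.ι) := by
    rw [hgι]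
    exact hb.paste_horiz h₁
  obtain ⟨B, hB⟩ := restrict_pullback p W'' g _ _ sq2
  have cov2 : Presieve.singleton g ∈ Scheme.precoverage Q (W'' : Scheme.{u}) := by
    rw [Scheme.singleton_mem_precoverage_iff]
    refine ⟨?_, of_comp_mono g W''.ι ?_⟩
    · intro y
      obtain ⟨x, hxV, hx⟩ := y.2
      refine ⟨⟨x, hxV⟩, ?_⟩
      apply Subtype.ext
      have := congrArg (fun f => f.base ⟨x, hxV⟩) hgι
      simpa using this.trans hx
    · rw [hgι]
      exact Q.comp_mem _ _ (hQ1 _ inferInstance) hs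
  have hPW'' : P (p ∣_ W'') := (iff_of_cover hB cov2).mpr hPb
  have hle : W'' ≤ W := hmax W'' hPW''
  intro x hx
  exact hle ⟨x, hx, rfl⟩

/-- invariance -/
theorem preimage_s_eq_preimage_t
    (Q : MorphismProperty Scheme.{u}) [Q.IsStableUnderBaseChange] [Q.IsStableUnderComposition]
    (hQ1 : ∀ {X Y : Scheme.{u}} (f : X ⟶ Y), IsOpenImmersion f → Q f)
    (hQ2 : ∀ {X Y : Scheme.{u}} (f : X ⟶ Y), Q f → IsOpenMap f)
    (P : MorphismProperty Scheme.{u}) [P.IsLocalAtTarget (Scheme.precoverage Q)]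
    (hs : Q G.s) (ht : Function.Surjective G.t ∧ Q G.t)
    {X E : Scheme.{u}} (p : X ⟶ G.U) (a a' : E ⟶ X) (b : E ⟶ G.R)
    (h₁ : IsPullback a b p G.s) (h₂ : IsPullback a' b p G.t)
    (W : G.U.Opens) (hW : P (p ∣_ W)) (hmax : ∀ W' : G.U.Opens, P (p ∣_ W') → W' ≤ W) :
    G.s ⁻¹ᵁ W = G.t ⁻¹ᵁ W := by
  have key := preimage_t_le_preimage_s G Q hQ1 hQ2 P hs ht p a a' b h₁ h₂ W hW hmax
  refine le_antisymm ?_ key
  intro x hx
  have h1 : G.t (G.i x) = G.s x := by rw [← Scheme.Hom.comp_apply, G.i_t]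
  have h2 : G.s (G.i x) = G.t x := by rw [← Scheme.Hom.comp_apply, G.i_s]
  have h3 : G.i x ∈ G.t ⁻¹ᵁ W := by show G.t (G.i x) ∈ W; rw [h1]; exact hx
  have h4 : G.s (G.i x) ∈ W := key h3
  show G.t x ∈ W
  rw [← h2]; exact h4

end Groth.Agent.Lib.helper28.GrpdLocal
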