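import Mathlib
import Groth.Agent.Lib.Helper28.GrpdLocal

/-!
# Largest opens for properties that are fpqc-local on the target (flat + surjective + quasi-compact)
-/

set_option autoImplicit false
universe u
open CategoryTheory CategoryTheory.Limits AlgebraicGeometry
open Groth.Agent.Lib.helper28.GrpdLocal

namespace Groth.Agent.Lib.helper28.LargestOpenQC

/-- restriction to a smaller open -/
lemma restrict_of_le {X Y : Scheme.{u}} (f : X ⟶ Y) (P : MorphismProperty Scheme.{u})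
    [P.IsStableUnderBaseChange] (W N : Y.Opens) (hNW : N ≤ W) (hW : P (f ∣_ W)) : P (f ∣_ N) := by
  have sq : IsPullback (f ⁻¹ᵁ N).ι (f ∣_ N) f (Y.homOfLE hNW ≫ W.ι) := by
    rw [Scheme.homOfLE_ι]
    exact (isPullback_morphismRestrict f N).flip
  obtain ⟨A, hA⟩ := restrict_pullback f W (Y.homOfLE hNW) _ _ sq
  exact P.of_isPullback hA hW

/-- restriction of a restriction -/
lemma restrict_restrict {X Y : Scheme.{u}} (f : X ⟶ Y) (P : MorphismProperty Scheme.{u})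
    [P.IsStableUnderBaseChange] (W N : Y.Opens) (hN : P (f ∣_ N)) :
    P ((f ∣_ W) ∣_ (W.ι ⁻¹ᵁ N)) := by
  set U : (W : Scheme.{u}).Opens := W.ι ⁻¹ᵁ N with hU
  have hrange : Set.range (U.ι ≫ W.ι) ⊆ Set.range N.ι := by
    rintro _ ⟨z, rfl⟩
    rw [Scheme.Opens.range_ι]
    exact z.2
  let q : (U : Scheme.{u}) ⟶ (N : Scheme.{u}) := IsOpenImmersion.lift N.ι (U.ι ≫ W.ι) hrange
  have hq : q ≫ N.ι = U.ι ≫ W.ι := IsOpenImmersion.lift_fac _ _ _
  have sq1 : IsPullback ((f ∣_ W) ⁻¹ᵁ U).ι ((f ∣_ W) ∣_ U) (f ∣_ W) U.ι :=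
    (isPullback_morphismRestrict _ _).flip
  have sq2 : IsPullback (f ⁻¹ᵁ W).ι (f ∣_ W) f W.ι := (isPullback_morphismRestrict _ _).flip
  have sq3 := sq1.paste_horiz sq2
  rw [← hq] at sq3
  obtain ⟨A, hA⟩ := restrict_pullback f N q _ _ sq3
  exact P.of_isPullback hA hN

/-- descent of `P` to the open image of an open along a flat open map, for `P` fpqc-local on
the target -/
theorem of_image_of_flat_open {X Y E E' : Scheme.{u}} (f : X ⟶ Y) (F : E' ⟶ E) (a : E ⟶ Y)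
    (a' : E' ⟶ X) (h : IsPullback a' F f a) [Flat a] (ha : IsOpenMap a)
    (P : MorphismProperty Scheme.{u}) [P.IsStableUnderBaseChange] [IsZariskiLocalAtTarget P]
    [P.DescendsAlong (@Flat ⊓ @Surjective ⊓ @QuasiCompact)]
    (V₁ : E.Opens) (hV₁ : P (F ∣_ V₁)) :
    P (f ∣_ ⟨a '' (V₁ : Set E), ha _ V₁.isOpen⟩) := by
  set W : Y.Opens := ⟨a '' (V₁ : Set E), ha _ V₁.isOpen⟩ with hW
  apply IsZariskiLocalAtTarget.of_forall_exists_morphismRestrict
  intro y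
  obtain ⟨e, heV, hey⟩ : ∃ e ∈ V₁, a e = y.1 := y.2
  have hb : ∀ {Z : Scheme.{u}} {U : Z.Opens} {x : Z}, x ∈ U → ∃ U' ∈ Z.affineOpens, x ∈ U' ∧ U' ≤ U :=
    fun {Z} => TopologicalSpace.Opens.isBasis_iff_nbhd.mp Z.isBasis_affineOpens
  obtain ⟨B, hB, hyB, -⟩ := hb (show y.1 ∈ (⊤ : Y.Opens) from trivial)
  have heB : e ∈ V₁ ⊓ a ⁻¹ᵁ B := ⟨heV, by show a e ∈ B; rw [hey]; exact hyB⟩
  obtain ⟨A', hA', heA', hA'le⟩ := hb heB
  have hA'V : A' ≤ V₁ := hA'le.trans inf_le_left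
  have hA'B : A' ≤ a ⁻¹ᵁ B := hA'le.trans inf_le_right
  set N : Y.Opens := ⟨a '' (A' : Set E), ha _ A'.isOpen⟩ with hN
  have hyN : y.1 ∈ N := ⟨e, heA', hey⟩
  have hNW : N ≤ W := by
    rintro _ ⟨x, hx, rfl⟩
    exact ⟨x, hA'V hx, rfl⟩
  have hNB : N ≤ B := by
    rintro _ ⟨x, hx, rfl⟩
    exact hA'B hx
  refine ⟨W.ι ⁻¹ᵁ N, hyN, ?_⟩
  apply restrict_restrict
  -- now prove `P (f ∣_ N)` by descent along `α : A' ⟶ N`
  have hrange : Set.range (A'.ι ≫ a) ⊆ Set.range N.ι := by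
    rintro _ ⟨x, rfl⟩
    rw [Scheme.Opens.range_ι]
    exact ⟨x.1, x.2, rfl⟩
  set α : (A' : Scheme.{u}) ⟶ (N : Scheme.{u}) := IsOpenImmersion.lift N.ι (A'.ι ≫ a) hrange with hα
  have hαι : α ≫ N.ι = A'.ι ≫ a := IsOpenImmersion.lift_fac _ _ _
  have hPA' : P (F ∣_ A') := restrict_of_le F P V₁ A' hA'V hV₁
  have hbA : IsPullback (F ⁻¹ᵁ A').ι (F ∣_ A') F A'.ι := (isPullback_morphismRestrict F A').flip
  have sq2 : IsPullback ((F ⁻¹ᵁ A').ι ≫ a') (F ∣_ A') f (α ≫ N.ι) := by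
    rw [hαι]
    exact hbA.paste_horiz h
  obtain ⟨Bm, hBm⟩ := restrict_pullback f N α _ _ sq2
  have hαQ : (@Flat ⊓ @Surjective ⊓ @QuasiCompact : MorphismProperty Scheme.{u}) α := by
    refine ⟨⟨?_, ?_⟩, ?_⟩
    · refine MorphismProperty.of_postcomp (W := @Flat) (W' := @IsOpenImmersion) α N.ι
        inferInstance ?_
      rw [hαι]
      exact (inferInstance : Flat (A'.ι ≫ a))
    · refine ⟨fun z => ?_⟩
      obtain ⟨x, hxV, hx⟩ := z.2
      refine ⟨⟨x, hxV⟩, ?_⟩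
      apply Subtype.ext
      have := congrArg (fun g => g.base ⟨x, hxV⟩) hαι
      simpa using this.trans hx
    · haveI : IsAffine (A' : Scheme.{u}) := hA'
      haveI : IsAffine (B : Scheme.{u}) := hB
      haveI : QuasiCompact (α ≫ Y.homOfLE hNB) := inferInstance
      exact QuasiCompact.of_comp α (Y.homOfLE hNB)
  exact MorphismProperty.DescendsAlong.of_isPullback (Q := @Flat ⊓ @Surjective ⊓ @QuasiCompact)
    hBm.flip hαQ hPA'

end Groth.Agent.Lib.helper28.LargestOpenQC
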