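import Mathlib
import Groth.Prelude.Def_AlgGrp
import Groth.Prelude.Def_ChGrp
import Groth.Agent.S18824
import Groth.Agent.Lib.Helper28.LargestOpenQC

/-!
# Stability of the largest open (for an fpqc-local property) under a group action;
  left-regular action
-/

set_option autoImplicit false
universe u
open CategoryTheory MonoidalCategory CartesianMonoidalCategory MonObj AlgebraicGeometry
open AlgGrp
open Groth.Agent.Lib.helper28.GrpdLocal Groth.Agent.Lib.helper28.LargestOpenQC

namespace Groth.Agent.Lib.helper28.EquivStable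

/-- qc version of `LargestOpen.le_of_descends` -/
theorem le_of_descends_qc {X Y E E' : Scheme.{u}} (f : X ⟶ Y) (F : E' ⟶ E) (p a : E ⟶ Y)
    (p' a' : E' ⟶ X) (h₁ : IsPullback p' F f p) (h₂ : IsPullback a' F f a)
    [Flat a] (ha : IsOpenMap a)
    (P : MorphismProperty Scheme.{u}) [P.IsStableUnderBaseChange] [IsZariskiLocalAtTarget P]
    [P.DescendsAlong (@Flat ⊓ @Surjective ⊓ @QuasiCompact)]
    (V : Y.Opens) (hV : P (f ∣_ V)) (hmax : ∀ V' : Y.Opens, P (f ∣_ V') → V' ≤ V) :
    p ⁻¹ᵁ V ≤ a ⁻¹ᵁ V := by
  set V₁ : E.Opens := p ⁻¹ᵁ V with hV₁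
  set VV : E'.Opens := F ⁻¹ᵁ V₁ with hVV
  have hb : IsPullback VV.ι (F ∣_ V₁) F V₁.ι := (isPullback_morphismRestrict F V₁).flip
  have sq1 : IsPullback (VV.ι ≫ p') (F ∣_ V₁) f ((p ∣_ V) ≫ V.ι) := by
    rw [morphismRestrict_ι]
    exact hb.paste_horiz h₁
  obtain ⟨A, hA⟩ := restrict_pullback f V (p ∣_ V) _ _ sq1
  have hPb : P (F ∣_ V₁) := P.of_isPullback hA hV
  have hPW := of_image_of_flat_open f F a a' h₂ ha P V₁ hPb
  have hle := hmax _ hPW
  intro x hx
  exact hle ⟨x, hx, rfl⟩

variable {S : Scheme.{u}}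

/-- the left regular action -/
def leftMul (G : Over S) [GrpObj G] : AlgGrp.Action G G where
  act := μ[G]
  one_act := MonObj.one_mul G
  mul_act := MonObj.mul_assoc G

/-- the largest open over which an equivariant map has `P` is stable under the action -/
theorem stable_qc (G X Y : Over S) [GrpObj G] [Flat G.hom] [UniversallyOpen G.hom]
    (aX : AlgGrp.Action G X) (aY : AlgGrp.Action G Y) (f : X ⟶ Y)
    (hf : (G ◁ f) ≫ aY.act = aX.act ≫ f)
    (P : MorphismProperty Scheme.{u}) [IsZariskiLocalAtTarget P] [P.IsStableUnderBaseChange]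
    [P.DescendsAlong (@Flat ⊓ @Surjective ⊓ @QuasiCompact)]
    (V : Y.left.Opens) (hV : P (f.left ∣_ V)) (hmax : ∀ V' : Y.left.Opens, P (f.left ∣_ V') → V' ≤ V) :
    (CartesianMonoidalCategory.snd G Y).left ⁻¹ᵁ V ≤ aY.act.left ⁻¹ᵁ V := by
  classical
  have hσX : IsIso (lift (fst G X) aX.act) := Groth.Agent.S18824.shear_iso aX
  have hσY : IsIso (lift (fst G Y) aY.act) := Groth.Agent.S18824.shear_iso aY
  have hσXl : IsIso (lift (fst G X) aX.act).left :=
    inferInstanceAs (IsIso ((Over.forget _).map (lift (fst G X) aX.act)))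
  have hσYl : IsIso (lift (fst G Y) aY.act).left :=
    inferInstanceAs (IsIso ((Over.forget _).map (lift (fst G Y) aY.act)))
  have hcomm : lift (fst G X) aX.act ≫ (G ◁ f) = (G ◁ f) ≫ lift (fst G Y) aY.act := by
    apply CartesianMonoidalCategory.hom_ext
    · rw [Category.assoc, whiskerLeft_fst, lift_fst, Category.assoc, lift_fst, whiskerLeft_fst]
    · rw [Category.assoc, whiskerLeft_snd, ← Category.assoc, lift_snd, Category.assoc, lift_snd, hf]
  have hcomml : (lift (fst G X) aX.act).left ≫ (G ◁ f).left =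
      (G ◁ f).left ≫ (lift (fst G Y) aY.act).left := by
    rw [← Over.comp_left, ← Over.comp_left, hcomm]
  have haX : aX.act.left = (lift (fst G X) aX.act).left ≫ (snd G X).left := by
    rw [← Over.comp_left, lift_snd]
  have haY : aY.act.left = (lift (fst G Y) aY.act).left ≫ (snd G Y).left := by
    rw [← Over.comp_left, lift_snd]
  have h₁ : IsPullback (snd G X).left (G ◁ f).left f.left (snd G Y).left := by
    have hr : IsPullback (fst G Y).left (snd G Y).left G.hom Y.hom := by
      rw [Over.fst_left, Over.snd_left]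
      exact IsPullback.of_hasPullback _ _
    have ht : IsPullback (fst G X).left (snd G X).left G.hom X.hom := by
      rw [Over.fst_left, Over.snd_left]
      exact IsPullback.of_hasPullback _ _
    have e1 : (G ◁ f).left ≫ (fst G Y).left = (fst G X).left := by
      rw [← Over.comp_left, whiskerLeft_fst]
    have e2 : (G ◁ f).left ≫ (snd G Y).left = (snd G X).left ≫ f.left := by
      rw [← Over.comp_left, whiskerLeft_snd, Over.comp_left]
    have ht' : IsPullback ((G ◁ f).left ≫ (fst G Y).left) (snd G X).left G.hom (f.left ≫ Y.hom) := by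
      rw [e1, Over.w f]
      exact ht
    exact (IsPullback.of_right ht' e2 hr).flip
  have h₂ : IsPullback aX.act.left (G ◁ f).left f.left aY.act.left := by
    rw [haX, haY]
    refine IsPullback.of_iso h₁ (asIso (lift (fst G X) aX.act).left).symm (Iso.refl _)
      (asIso (lift (fst G Y) aY.act).left).symm (Iso.refl _) ?_ ?_ ?_ ?_
    · simp
    · simp only [Iso.symm_hom, asIso_inv, IsIso.eq_inv_comp, ← Category.assoc, IsIso.comp_inv_eq]
      exact hcomml
    · simp
    · simp
  haveI : Flat (snd G Y).left := by rw [Over.snd_left]; infer_instance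
  haveI : UniversallyOpen (snd G Y).left := by rw [Over.snd_left]; infer_instance
  haveI : Flat aY.act.left := by rw [haY]; infer_instance
  haveI : UniversallyOpen aY.act.left := by rw [haY]; infer_instance
  exact le_of_descends_qc f.left (G ◁ f).left (snd G Y).left aY.act.left (snd G X).left aX.act.left
    h₁ h₂ aY.act.left.isOpenMap P V hV hmax

end Groth.Agent.Lib.helper28.EquivStable
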