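import Mathlib

/-!
# Exterior powers over a ring and over a quotient of it (helper28)

For `T = A ⧸ K` and a `T`-module `N`, the exterior powers `⋀[A]^n N` and `⋀[T]^n N` agree for
`n ≥ 1`.  In particular `⋀[A]^n (Fin a → A ⧸ K) ≃ₗ[A] (Fin (a.choose n) → A ⧸ K)` for `n ≥ 1`.
-/

set_option autoImplicit false
set_option linter.style.haveILetI false
set_option linter.unusedSectionVars false

universe u

namespace Groth.Agent.Lib.helper28.ExtPowSurj

variable {A : Type u} [CommRing A] (K : Ideal A)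
variable {N : Type u} [AddCommGroup N] [Module A N] [Module (A ⧸ K) N]
  [IsScalarTower A (A ⧸ K) N]

omit [Module (A ⧸ K) N] [IsScalarTower A (A ⧸ K) N] in
/-- if `K` kills `N`, then `K` kills `⋀[A]^n N` for `n ≥ 1`. -/
theorem smul_eq_zero_of_mem' (hN : ∀ k ∈ K, ∀ x : N, k • x = 0) (n : ℕ) (hn : 1 ≤ n) (k : A)
    (hk : k ∈ K) (x : ⋀[A]^n N) : k • x = 0 := by
  have hx : x ∈ Submodule.span A (Set.range (exteriorPower.ιMulti A n (M := N))) := by
    rw [exteriorPower.ιMulti_span]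
    trivial
  induction hx using Submodule.span_induction with
  | mem y hy =>
    obtain ⟨m, rfl⟩ := hy
    have i₀ : Fin n := ⟨0, hn⟩
    have h1 : exteriorPower.ιMulti A n (Function.update m i₀ (k • m i₀)) =
        k • exteriorPower.ιMulti A n (Function.update m i₀ (m i₀)) :=
      (exteriorPower.ιMulti A n).map_update_smul m i₀ k (m i₀)
    rw [Function.update_eq_self] at h1
    rw [← h1, hN k hk]
    exact (exteriorPower.ιMulti A n).map_update_zero m i₀
  | zero => exact smul_zero k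
  | add y z _ _ hy hz => rw [smul_add, hy, hz, add_zero]
  | smul a y _ hy => rw [smul_comm, hy, smul_zero]

omit [Module (A ⧸ K) N] [IsScalarTower A (A ⧸ K) N] in
theorem mk_smul_eq [Module (A ⧸ K) N] [IsScalarTower A (A ⧸ K) N] (a : A) (x : N) :
    (Ideal.Quotient.mk K a) • x = a • x := by
  rw [← algebraMap_smul (A ⧸ K) a x]
  rfl

theorem smul_eq_zero_of_mem (n : ℕ) (hn : 1 ≤ n) (k : A)
    (hk : k ∈ K) (x : ⋀[A]^n N) : k • x = 0 := by
  refine smul_eq_zero_of_mem' K (fun k hk x => ?_) n hn k hk x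
  rw [← mk_smul_eq K k x, Ideal.Quotient.eq_zero_iff_mem.mpr hk, zero_smul]

theorem isTorsionBySet (n : ℕ) (hn : 1 ≤ n) : Module.IsTorsionBySet A (⋀[A]^n N) K :=
  fun x a => smul_eq_zero_of_mem K n hn a a.2 x

/-- the `A ⧸ K`-module structure on `⋀[A]^n N` for `n ≥ 1`. -/
@[instance_reducible] noncomputable def modT (n : ℕ) (hn : 1 ≤ n) : Module (A ⧸ K) (⋀[A]^n N) :=
  (isTorsionBySet K n hn).module

theorem modT_mk_smul (n : ℕ) (hn : 1 ≤ n) (a : A) (x : ⋀[A]^n N) :
    letI := modT K (N := N) n hn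
    (Ideal.Quotient.mk K a) • x = a • x := rfl

/-- `ιMulti A n` as a `A ⧸ K`-alternating map. -/
noncomputable def altT (n : ℕ) (hn : 1 ≤ n) :
    letI := modT K (N := N) n hn
    N [⋀^Fin n]→ₗ[A ⧸ K] (⋀[A]^n N) :=
  letI := modT K (N := N) n hn
  { toFun := exteriorPower.ιMulti A n
    map_update_add' := fun m i x y => (exteriorPower.ιMulti A n).map_update_add m i x y
    map_update_smul' := fun m i c x => by
      obtain ⟨a, rfl⟩ := Ideal.Quotient.mk_surjective c
      rw [mk_smul_eq, modT_mk_smul]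
      exact (exteriorPower.ιMulti A n).map_update_smul m i a x
    map_eq_zero_of_eq' := fun m i j h hij =>
      (exteriorPower.ιMulti A n).map_eq_zero_of_eq m h hij }

/-- `ιMulti (A ⧸ K) n` as an `A`-alternating map. -/
noncomputable def altA (n : ℕ) : N [⋀^Fin n]→ₗ[A] (⋀[A ⧸ K]^n N) :=
  { toFun := exteriorPower.ιMulti (A ⧸ K) n
    map_update_add' := fun m i x y => (exteriorPower.ιMulti (A ⧸ K) n).map_update_add m i x y
    map_update_smul' := fun m i a x => by
      rw [← mk_smul_eq K a x, ← mk_smul_eq K a]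
      exact (exteriorPower.ιMulti (A ⧸ K) n).map_update_smul m i _ x
    map_eq_zero_of_eq' := fun m i j h hij =>
      (exteriorPower.ιMulti (A ⧸ K) n).map_eq_zero_of_eq m h hij }

/-- the comparison map `⋀[A]^n N → ⋀[A ⧸ K]^n N`. -/
noncomputable def Ψ (n : ℕ) : ⋀[A]^n N →ₗ[A] ⋀[A ⧸ K]^n N :=
  exteriorPower.alternatingMapLinearEquiv (altA K n)

theorem Ψ_ιMulti (n : ℕ) (m : Fin n → N) :
    Ψ K n (exteriorPower.ιMulti A n m) = exteriorPower.ιMulti (A ⧸ K) n m := by
  rw [Ψ, exteriorPower.alternatingMapLinearEquiv_apply_ιMulti]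
  rfl

/-- the inverse comparison map. -/
noncomputable def Θ (n : ℕ) (hn : 1 ≤ n) :
    letI := modT K (N := N) n hn
    ⋀[A ⧸ K]^n N →ₗ[A ⧸ K] ⋀[A]^n N :=
  letI := modT K (N := N) n hn
  exteriorPower.alternatingMapLinearEquiv (altT K n hn)

theorem Θ_ιMulti (n : ℕ) (hn : 1 ≤ n) (m : Fin n → N) :
    Θ K n hn (exteriorPower.ιMulti (A ⧸ K) n m) = exteriorPower.ιMulti A n m := by
  letI := modT K (N := N) n hn
  rw [Θ, exteriorPower.alternatingMapLinearEquiv_apply_ιMulti]
  rfl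

/-- the inverse comparison map, as an `A`-linear map. -/
noncomputable def ΘA (n : ℕ) (hn : 1 ≤ n) : ⋀[A ⧸ K]^n N →ₗ[A] ⋀[A]^n N :=
  letI := modT K (N := N) n hn
  { toFun := Θ K n hn
    map_add' := fun x y => (Θ K n hn).map_add x y
    map_smul' := fun a x => by
      rw [← mk_smul_eq K a x]
      exact ((Θ K n hn).map_smul _ x).trans (modT_mk_smul K n hn a _) }

theorem ΘA_ιMulti (n : ℕ) (hn : 1 ≤ n) (m : Fin n → N) :
    ΘA K n hn (exteriorPower.ιMulti (A ⧸ K) n m) = exteriorPower.ιMulti A n m :=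
  Θ_ιMulti K n hn m

/-- **`⋀[A]^n N ≃ ⋀[A ⧸ K]^n N`** for `n ≥ 1` and `N` an `A ⧸ K`-module. -/
noncomputable def equivQuot (n : ℕ) (hn : 1 ≤ n) : ⋀[A]^n N ≃ₗ[A] ⋀[A ⧸ K]^n N :=
  LinearEquiv.ofLinearMap (Ψ K n) (ΘA K n hn)
    (by
      apply LinearMap.ext
      intro x
      have hx : x ∈ Submodule.span (A ⧸ K)
          (Set.range (exteriorPower.ιMulti (A ⧸ K) n (M := N))) := by
        rw [exteriorPower.ιMulti_span]
        trivial
      induction hx using Submodule.span_induction with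
      | mem y hy =>
        obtain ⟨m, rfl⟩ := hy
        simp only [LinearMap.comp_apply, LinearMap.id_apply]
        rw [ΘA_ιMulti, Ψ_ιMulti]
      | zero => simp
      | add y z _ _ hy hz => rw [map_add, hy, hz]; rfl
      | smul c y _ hy =>
        obtain ⟨a, rfl⟩ := Ideal.Quotient.mk_surjective c
        rw [mk_smul_eq, map_smul, hy]; rfl)
    (by
      apply exteriorPower.linearMap_ext
      ext m
      simp only [LinearMap.compAlternatingMap_apply, LinearMap.comp_apply, LinearMap.id_apply]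
      rw [Ψ_ιMulti, ΘA_ιMulti])

/-- the equivalence on exterior powers induced by a linear equivalence -/
noncomputable def mapEquiv {P Q : Type*} [AddCommGroup P] [Module A P] [AddCommGroup Q]
    [Module A Q] (n : ℕ) (e : P ≃ₗ[A] Q) : ⋀[A]^n P ≃ₗ[A] ⋀[A]^n Q :=
  LinearEquiv.ofLinearMap (exteriorPower.map n e.toLinearMap)
    (exteriorPower.map n e.symm.toLinearMap)
    (by rw [← exteriorPower.map_comp]; simp)
    (by rw [← exteriorPower.map_comp]; simp)

/-- `Fin (a.choose n) ≃ powersetCard (Fin a) n`. -/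
noncomputable def finEquivPowersetCard (a n : ℕ) :
    Fin (a.choose n) ≃ Set.powersetCard (Fin a) n :=
  (Fintype.equivFinOfCardEq (by
    rw [← Nat.card_eq_fintype_card, Set.powersetCard.card, Nat.card_eq_fintype_card,
      Fintype.card_fin])).symm

/-- **`⋀[A]^n ((A ⧸ K)^a) ≃ (A ⧸ K)^(a.choose n)`** for `n ≥ 1`. -/
noncomputable def freeEquiv (a n : ℕ) (hn : 1 ≤ n) :
    ⋀[A]^n (Fin a → A ⧸ K) ≃ₗ[A] (Fin (a.choose n) → A ⧸ K) :=
  ((equivQuot K (N := Fin a → A ⧸ K) n hn).trans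
    (((Pi.basisFun (A ⧸ K) (Fin a)).exteriorPower n).equivFun.restrictScalars A)).trans
    (LinearEquiv.funCongrLeft A (A ⧸ K) (finEquivPowersetCard a n))

/-- if `M ≃ (A ⧸ K)^a` then `⋀[A]^n M ≃ (A ⧸ K)^(a.choose n)` for `n ≥ 1`. -/
theorem nonempty_equiv_of_equiv {M : Type*} [AddCommGroup M] [Module A M] (a n : ℕ) (hn : 1 ≤ n)
    (e : M ≃ₗ[A] (Fin a → A ⧸ K)) :
    Nonempty (⋀[A]^n M ≃ₗ[A] (Fin (a.choose n) → A ⧸ K)) :=
  ⟨(mapEquiv n e).trans (freeEquiv K a n hn)⟩

end Groth.Agent.Lib.helper28.ExtPowSurj
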