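import Groth.Agent.Lib.Helper28.ProjBundleHom4
import Groth.Agent.Lib.Helper28.SymDegEq
import Groth.Agent.Lib.Helper28.RelTwistCanon

/-!
# `i : X ⟶ P(E)` with `i^* O(1) ≅ L` is `r_{L,ψ}`; composites (helper28)

* `isGradedHom_of_deg_one`: an algebra map out of a graded symmetric algebra sending `j(E)` into
  degree one is graded.
* `precomp v hv u`: the composite of a graded homomorphism `v : 𝒯 → 𝒮` with a graded
  `g`-morphism `u : 𝒮 → g_* 𝒮'`.
* `exists_factor`: for `i : X ⟶ P(E)`, `γ : i^* O(1) ≅ L`, a graded algebra `𝒜` on `Y` with a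
  module map `jA : q_* L → 𝒜` landing in degree one and a graded `q`-morphism `u : 𝒜 → q_* Sym(L)`
  restricting to the identity of `q_* L`: there is a graded `v : Sym(E) → 𝒜` such that
  `Proj(u ∘ v)` is everywhere defined and is `i` (after `PL ≅ X`).
-/

set_option autoImplicit false
universe u

namespace Groth.Agent.Lib.helper28.ProjBundleHom

open CategoryTheory CategoryTheory.Limits AlgebraicGeometry TopologicalSpace Opposite
open Groth.Agent.Lib.helper28.SymAlg Groth.Agent.Lib.helper28.SymLoc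
  Groth.Agent.Lib.helper28.SymSheaf Groth.Agent.Lib.helper28
open Groth.Agent.Lib.helper28.SymAlgGrading Groth.Agent.Lib.helper28.GradedTransport
  Groth.Agent.Lib.helper28.SymGradedExists

section Graded

variable {S : Scheme.{u}} (E : S.Modules) [E.IsQuasicoherent]
  (𝒮 : RelProj.QCGrAlg S) (j : E ⟶ 𝒮.toModule) (hj : RelProj.IsGrSymAlg E 𝒮 j)
  (ℬ : RelProj.QCGrAlg S) (ψ : 𝒮.toQCAlg ⟶ ℬ.toQCAlg)

include hj in
theorem isGradedHom_of_deg_one
    (h1 : ∀ (U : S.Opens) (hU : IsAffineOpen U) (m : Γ(E, U)),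
      (ψ.hom.app (op U)).hom ((j.app U).hom m) ∈ ℬ.deg U hU 1) :
    RelProj.IsGradedHom ψ := by
  intro U hU d x hx
  obtain ⟨y, hy, rfl⟩ := (Groth.Agent.Lib.helper28.SymDegEq.mem_deg_iff E 𝒮 j hj U hU d x).mp hx
  clear hx
  induction hy using Submodule.pow_induction_on_left' with
  | algebraMap r =>
    rw [liftU_algebraMap, Groth.Agent.Lib.helper28.SymGradedProps.ψ_str]
    exact ℬ.str_mem U hU r
  | add x y i hx hy ihx ihy =>
    rw [map_add, map_add]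
    exact add_mem ihx ihy
  | mem_mul m hm i x hx ih =>
    obtain ⟨m₀, rfl⟩ := hm
    rw [map_mul, map_mul]
    have h2 : (ψ.hom.app (op U)).hom (liftU E 𝒮.toQCAlg j U (SymmetricAlgebra.ι _ _ m₀)) ∈
        ℬ.deg U hU 1 := by
      rw [liftU_ι]
      exact h1 U hU m₀
    have := SetLike.mul_mem_graded (A := ℬ.deg U hU) h2 ih
    rwa [add_comm] at this

end Graded

section Precomp

variable {S S' : Scheme.{u}} {g : S' ⟶ S} {𝒯 𝒮 : RelProj.QCGrAlg S} {𝒮' : RelProj.QCGrAlg S'}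

/-- The composite of a graded homomorphism with a graded `g`-morphism. -/
def precomp (v : 𝒯.toQCAlg ⟶ 𝒮.toQCAlg) (hv : RelProj.IsGradedHom v)
    (u : RelProj.QGrHom g 𝒮 𝒮') : RelProj.QGrHom g 𝒯 𝒮' where
  app U := v.hom.app (op U) ≫ u.app U
  naturality {U V} i := by
    rw [Category.assoc, u.naturality i, ← Category.assoc, ← Category.assoc, v.hom.naturality]
  str_app U := by
    have h0 := NatTrans.congr_app v.comm (op U)
    rw [NatTrans.comp_app] at h0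
    rw [← Category.assoc, h0, u.str_app U]
  map_mem U hU U' hU' hle {d x} hx := u.map_mem U hU U' hU' hle (hv U hU d x hx)

theorem precomp_app (v : 𝒯.toQCAlg ⟶ 𝒮.toQCAlg) (hv : RelProj.IsGradedHom v)
    (u : RelProj.QGrHom g 𝒮 𝒮') (U : S.Opens) :
    (precomp v hv u).app U = v.hom.app (op U) ≫ u.app U := rfl

end Precomp

section Factor

open Scheme.Modules

variable {Y P X PL : Scheme.{u}} (E : Y.Modules) [E.IsQuasicoherent]
  (𝒮 : RelProj.QCGrAlg Y) (j : E ⟶ 𝒮.toModule) (hj : RelProj.IsGrSymAlg E 𝒮 j) (p : P ⟶ Y)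
  (chart : ∀ (U : Y.Opens) (hU : IsAffineOpen U),
    ((p ⁻¹ᵁ U : P.Opens) : Scheme.{u}) ≅ Proj (𝒮.deg U hU))
  (hP : RelProj.IsRelProj 𝒮 p chart) (O1 : P.Modules)
  (lam : ∀ (U : Y.Opens) (hU : IsAffineOpen U),
    O1 ⟶ (Scheme.Modules.pushforward (RelProj.emb p chart U hU)).obj
      (GrTwist.twist (𝒮.deg U hU) 1))
  (hO1 : RelProj.IsRelTwist 𝒮 p chart 1 O1 lam)
  (i : X ⟶ P) (L : X.Modules) [L.IsQuasicoherent]
  (γ : (Scheme.Modules.pullback i).obj O1 ⟶ L) [IsIso γ]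
  (𝒮L : RelProj.QCGrAlg X) (jL : L ⟶ 𝒮L.toModule) (hjL : RelProj.IsGrSymAlg L 𝒮L jL)
  (pL : PL ⟶ X) (chartL : ∀ (U : X.Opens) (hU : IsAffineOpen U),
    (((pL ⁻¹ᵁ U : PL.Opens) : Scheme.{u}) ≅ Proj (𝒮L.deg U hU)))
  (hPL : RelProj.IsRelProj 𝒮L pL chartL)
  (𝒜 : RelProj.QCGrAlg Y) (jA : (Scheme.Modules.pushforward (i ≫ p)).obj L ⟶ 𝒜.toModule)
  (hjA : ∀ (U : Y.Opens) (hU : IsAffineOpen U)
    (x : Γ((Scheme.Modules.pushforward (i ≫ p)).obj L, U)), (jA.app U) x ∈ 𝒜.deg U hU 1)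
  (u : RelProj.QGrHom (i ≫ p) 𝒜 𝒮L)
  (hu : ∀ (U : Y.Opens) (x : Γ((Scheme.Modules.pushforward (i ≫ p)).obj L, U)),
    (u.app U).hom ((jA.app U) x) = (jL.app ((i ≫ p) ⁻¹ᵁ U)) x)

include hj hP hO1 hjL hPL hjA hu γ in
/-- **Lemma R**: the immersion `i : X ⟶ P(E)` with `i^* O(1) ≅ L` is the morphism `r_{L,ψ}`
attached to the composite `Sym(E) → 𝒜 → q_* Sym(L)`. -/
theorem exists_factor :
    ∃ (v : 𝒮.toQCAlg ⟶ 𝒜.toQCAlg) (hv : RelProj.IsGradedHom v),
      RelProj.domQ (precomp v hv u) pL chartL = ⊤ ∧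
      ∀ r' : ((RelProj.domQ (precomp v hv u) pL chartL : PL.Opens) : Scheme.{u}) ⟶ P,
        RelProj.IsProjQMapOn (precomp v hv u) p chart pL chartL
          (RelProj.domQ (precomp v hv u) pL chartL) r' →
        r' = (RelProj.domQ (precomp v hv u) pL chartL).ι ≫ pL ≫ i := by
  obtain ⟨φ, hφ⟩ := Groth.Agent.Lib.helper28.RelTwistCanon.exists_canon_hom lam hP hO1 (d := 1)
    (by simp) E j hj.2
  let m : E ⟶ (Scheme.Modules.pushforward (i ≫ p)).obj L :=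
    φ ≫ (Scheme.Modules.pushforward p).map (β O1 i L γ) ≫
      (Scheme.Modules.pushforwardComp i p).hom.app L
  obtain ⟨v, hv0, -⟩ := hj.1 𝒜.toQCAlg (m ≫ jA)
  have hval : ∀ (U : Y.Opens) (e : Γ(E, U)),
      (v.hom.app (op U)).hom ((j.app U).hom e) = (jA.app U).hom ((m.app U).hom e) := fun U e =>
    congrArg (fun k : E ⟶ 𝒜.toModule => (k.app U).hom e) hv0
  have hv : RelProj.IsGradedHom v := isGradedHom_of_deg_one E 𝒮 j hj 𝒜 v (fun U hU e => by
    rw [hval]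
    exact hjA U hU _)
  have hu' : ∀ (U : Y.Opens) (_ : IsAffineOpen U) (e : Γ(E, U)),
      ((precomp v hv u).app U).hom ((j.app U) e) = (jL.app ((i ≫ p) ⁻¹ᵁ U))
        (show Γ(L, (i ≫ p) ⁻¹ᵁ U) from (β O1 i L γ).app (p ⁻¹ᵁ U) ((φ.app U) e)) := by
    intro U _ e
    change (u.app U).hom ((v.hom.app (op U)).hom ((j.app U).hom e)) = _
    rw [hval, hu]
    rfl
  have hφ' : ∀ (U : Y.Opens) (hU : IsAffineOpen U) (e : Γ(E, U))
      (y : ↥(RelProj.emb p chart U hU ⁻¹ᵁ (p ⁻¹ᵁ U))),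
      GrTwist.val (V := RelProj.emb p chart U hU ⁻¹ᵁ (p ⁻¹ᵁ U))
          ((lam U hU).app (p ⁻¹ᵁ U) ((φ.app U) e)) y =
        algebraMap (𝒮.presheaf.obj (op U)) (GrTwist.Loc (𝒮.deg U hU) y.1)
          ((j.app U) e : 𝒮.presheaf.obj (op U)) := fun U hU e y => hφ U hU e y.1 y.2
  refine ⟨v, hv, ?_, ?_⟩
  · exact domQ_eq_top E 𝒮 j hj p chart O1 lam hO1 φ hφ' i L γ 𝒮L jL hjL (precomp v hv u) hu'
      pL chartL
  · intro r' hr'
    exact eq_of_isProjQMapOn E 𝒮 j hj p chart O1 lam hO1 φ hφ' i L γ 𝒮L jL hjL (precomp v hv u)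
      hu' pL chartL hPL r' hr'

end Factor

end Groth.Agent.Lib.helper28.ProjBundleHom
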