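import Groth.Agent.Lib.Helper28.SymAlgUP

set_option autoImplicit false

universe u

/-! Local structure of a symmetric algebra `(A, j)` of a quasi-coherent module `E` (in the
sense of the universal property `RelSpec.IsSymAlg`): over every affine open `U` the ring `A(U)` is
the symmetric algebra of `E(U)` over `O(U)` (helper28). -/

namespace Groth.Agent.Lib.helper28.SymAlg

open CategoryTheory CategoryTheory.Limits AlgebraicGeometry TopologicalSpace Opposite
open Groth.Agent.Lib.helper28.SymLoc Groth.Agent.Lib.helper28.SymSheaf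
open Groth.Agent.Lib.helper28

variable {S : Scheme.{u}}

theorem toModuleMap_comp {A B C : RelSpec.QCAlg S} (f : A ⟶ B) (g : B ⟶ C) :
    RelSpec.QCAlg.Hom.toModuleMap (f ≫ g) =
      RelSpec.QCAlg.Hom.toModuleMap f ≫ RelSpec.QCAlg.Hom.toModuleMap g := rfl

theorem toModuleMap_id (A : RelSpec.QCAlg S) :
    RelSpec.QCAlg.Hom.toModuleMap (𝟙 A) = 𝟙 A.toModule := rfl

variable (E : S.Modules) [E.IsQuasicoherent]
  (A : RelSpec.QCAlg S) (jA : E ⟶ A.toModule) (hA : RelSpec.IsSymAlg E A jA)

include hA in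
/-- The comparison `Sym(E) ⟶ A` is an isomorphism. -/
theorem exists_inverse : ∃ χ : A ⟶ symAlg E, ψ E A jA ≫ χ = 𝟙 _ ∧ χ ≫ ψ E A jA = 𝟙 _ := by
  obtain ⟨χ, hχ, -⟩ := hA (symAlg E) (j E)
  refine ⟨χ, ?_, ?_⟩
  · obtain ⟨_, _, huniq⟩ := isSymAlg E (symAlg E) (j E)
    have h1 : j E ≫ RelSpec.QCAlg.Hom.toModuleMap (ψ E A jA ≫ χ) = j E := by
      rw [toModuleMap_comp, ← Category.assoc, j_ψ, hχ]
    have h2 : j E ≫ RelSpec.QCAlg.Hom.toModuleMap (𝟙 (symAlg E)) = j E := by
      rw [toModuleMap_id, Category.comp_id]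
    exact (huniq _ h1).trans (huniq _ h2).symm
  · obtain ⟨_, _, huniq⟩ := hA A jA
    have h1 : jA ≫ RelSpec.QCAlg.Hom.toModuleMap (χ ≫ ψ E A jA) = jA := by
      rw [toModuleMap_comp, ← Category.assoc, hχ, j_ψ]
    have h2 : jA ≫ RelSpec.QCAlg.Hom.toModuleMap (𝟙 A) = jA := by
      rw [toModuleMap_id, Category.comp_id]
    exact (huniq _ h1).trans (huniq _ h2).symm

include hA in
theorem ψHom_bijective (U : S.Opens) : Function.Bijective ((ψHom E A jA).app (op U)).hom := by
  obtain ⟨χ, h1, h2⟩ := exists_inverse E A jA hA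
  have e1 : ∀ x, (χ.hom.app (op U)).hom (((ψHom E A jA).app (op U)).hom x) = x := fun x =>
    congrArg (fun k : symAlg E ⟶ symAlg E => (k.hom.app (op U)).hom x) h1
  have e2 : ∀ y, ((ψHom E A jA).app (op U)).hom ((χ.hom.app (op U)).hom y) = y := fun y =>
    congrArg (fun k : A ⟶ A => (k.hom.app (op U)).hom y) h2
  exact ⟨Function.LeftInverse.injective e1, Function.RightInverse.surjective e2⟩

include hA in
/-- **Local structure**: over an affine open `U`, the ring homomorphism
`Sym_{O(U)} E(U) → A(U)` extending the structure map and `j` is bijective. -/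
theorem liftU_bijective (U : S.AffineZariskiSite) : Function.Bijective (liftU E A jA U.1) := by
  have hb := ψHom_bijective E A jA hA U.1
  have hs : Function.Bijective (symIso E U).inv.hom :=
    ⟨Function.LeftInverse.injective (symIso_hom_inv E U),
      Function.RightInverse.surjective (symIso_inv_hom E U)⟩
  have : (liftU E A jA U.1 : SymU E U.1 → A.presheaf.obj (op U.1)) =
      ((ψHom E A jA).app (op U.1)).hom ∘ (symIso E U).inv.hom := by
    funext y
    change _ = ((ψHom E A jA).app (op U.1)).hom ((symIso E U).inv.hom y)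
    rw [ψHom_app, symIso_hom_inv]
  rw [this]
  exact hb.comp hs

theorem liftU_algebraMap (U : S.Opens) (a : Γ(S, U)) :
    liftU E A jA U (algebraMap _ _ a) = (A.str.app (op U)).hom a :=
  liftRingHom_algebraMap _ _ _ a

theorem liftU_ι (U : S.Opens) (m : Γ(E, U)) :
    liftU E A jA U (SymmetricAlgebra.ι _ _ m) = (jA.app U).hom m :=
  liftRingHom_ι _ _ _ m

end Groth.Agent.Lib.helper28.SymAlg
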