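import Groth.Agent.Lib.Helper16.QCAlg2
import Groth.Agent.Lib.Helper16.Satur6
import Groth.Agent.Lib.Helper28.SymLocal
import Groth.Agent.Lib.Helper28.SymGradedExists
import Groth.Agent.Lib.Helper28.ProjBundleQuot2
import Groth.Agent.Lib.Helper28.ProjBundleHom5

/-!
# The directed system of finite type quasi-coherent submodules, and their symmetric algebras
(helper28)

`Y` quasi-compact and quasi-separated, `F` quasi-coherent on `Y` with graded symmetric algebra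
`(𝒯, jF)`.
* `FTSub F`: finite type quasi-coherent subobjects of `F`, a directed preorder.
* `FTSub.alg a = Sym(a.E)` (graded), `FTSub.φ a : Sym(a.E) ⟶ 𝒯`, `FTSub.t h : Sym(a.E) ⟶ Sym(b.E)`
  for `a ≤ b`; all graded, compatible.
* `FTSub.exists_lift`: every section of `𝒯` over an affine open comes from some `Sym(a.E)`.
-/

set_option autoImplicit false
universe u

open CategoryTheory CategoryTheory.Limits AlgebraicGeometry TopologicalSpace Opposite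

namespace Groth.Agent.Lib.helper28.FTSubSym

open Groth.Agent.Lib.helper28 Groth.Agent.Lib.helper28.SymAlg
  Groth.Agent.Lib.helper28.SymGradedExists Groth.Agent.Lib.helper16.Satur

variable {Y : Scheme.{u}}

/-- A finite type quasi-coherent subobject of `F`. -/
structure FTSub (F : Y.Modules) where
  E : Y.Modules
  ι : E ⟶ F
  mono : Mono ι
  qc : E.IsQuasicoherent
  ft : CohB1.IsFT E

namespace FTSub

variable {F : Y.Modules}

instance (a : FTSub F) : Mono a.ι := a.mono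
instance (a : FTSub F) : a.E.IsQuasicoherent := a.qc

instance : Preorder (FTSub F) where
  le a b := ∃ τ : a.E ⟶ b.E, τ ≫ b.ι = a.ι
  le_refl a := ⟨𝟙 _, Category.id_comp _⟩
  le_trans a b c := by
    rintro ⟨τ, hτ⟩ ⟨σ, hσ⟩
    exact ⟨τ ≫ σ, by rw [Category.assoc, hσ, hτ]⟩

/-- The transition morphism. -/
noncomputable def τ {a b : FTSub F} (h : a ≤ b) : a.E ⟶ b.E := h.choose

theorem τ_ι {a b : FTSub F} (h : a ≤ b) : τ h ≫ b.ι = a.ι := h.choose_spec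

theorem le_of_range_le {a b : FTSub F}
    (h : ∀ W, Set.range (a.ι.app W) ⊆ Set.range (b.ι.app W)) : a ≤ b :=
  exists_lift_of_range_le a.ι b.ι h

variable [F.IsQuasicoherent]

instance : IsDirected (FTSub F) (· ≤ ·) where
  directed a b := by
    obtain ⟨E, i, hm, hq, hft, h⟩ := exists_ft_sum a.ι b.ι a.ft b.ft
    refine ⟨⟨E, i, hm, hq, hft⟩, ?_, ?_⟩
    · exact le_of_range_le (fun W => (h W).1)
    · exact le_of_range_le (fun W => (h W).2)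

variable [CompactSpace Y] [QuasiSeparatedSpace Y]

instance : Nonempty (FTSub F) := by
  obtain ⟨G, i, hm, hq, hft, -⟩ := exists_ft_sub_sections F (isAffineOpen_bot Y) ∅
  exact ⟨⟨G, i, hm, hq, hft⟩⟩

theorem exists_mem_range {U : Y.Opens} (hU : IsAffineOpen U) (e : Γ(F, U)) :
    ∃ (a : FTSub F) (e' : Γ(a.E, U)), a.ι.app U e' = e := by
  classical
  obtain ⟨G, i, hm, hq, hft, h⟩ := exists_ft_sub_sections F hU {e}
  obtain ⟨e', he'⟩ := h e (Finset.mem_singleton_self e)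
  exact ⟨⟨G, i, hm, hq, hft⟩, e', he'⟩

end FTSub

section SymTo

variable {M F : Y.Modules} [M.IsQuasicoherent]
  (𝒯 : RelProj.QCGrAlg Y) (jF : F ⟶ 𝒯.toModule)

/-- `Sym(M)` with its grading. -/
noncomputable def gsym (M : Y.Modules) [M.IsQuasicoherent] : RelProj.QCGrAlg Y :=
  grAlg M (symAlg M) (SymAlg.j M) (isSymAlg M)

theorem isGrSymAlg_gsym (M : Y.Modules) [M.IsQuasicoherent] :
    RelProj.IsGrSymAlg M (gsym M) (SymAlg.j M) :=
  isGrSymAlg M (symAlg M) (SymAlg.j M) (isSymAlg M)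

/-- The algebra homomorphism `Sym(M) ⟶ 𝒯` induced by `σ : M ⟶ F` and `jF : F ⟶ 𝒯`. -/
noncomputable def symTo (σ : M ⟶ F) : symAlg M ⟶ 𝒯.toQCAlg :=
  (isSymAlg M 𝒯.toQCAlg (σ ≫ jF)).choose

theorem j_symTo (σ : M ⟶ F) :
    SymAlg.j M ≫ RelSpec.QCAlg.Hom.toModuleMap (symTo 𝒯 jF σ) = σ ≫ jF :=
  (isSymAlg M 𝒯.toQCAlg (σ ≫ jF)).choose_spec.1

theorem symTo_unique (σ : M ⟶ F) (ψ : symAlg M ⟶ 𝒯.toQCAlg)
    (hψ : SymAlg.j M ≫ RelSpec.QCAlg.Hom.toModuleMap ψ = σ ≫ jF) : ψ = symTo 𝒯 jF σ :=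
  (isSymAlg M 𝒯.toQCAlg (σ ≫ jF)).choose_spec.2 ψ hψ

theorem symTo_j_apply (σ : M ⟶ F) (U : Y.Opens) (m : Γ(M, U)) :
    ((symTo 𝒯 jF σ).hom.app (op U)).hom (((SymAlg.j M).app U).hom m) =
      (jF.app U).hom ((σ.app U).hom m) :=
  congrArg (fun k : M ⟶ 𝒯.toModule => (k.app U).hom m) (j_symTo 𝒯 jF σ)

theorem isGradedHom_symTo (σ : M ⟶ F)
    (hjF : ∀ (U : Y.Opens) (hU : IsAffineOpen U) (x : Γ(F, U)), (jF.app U) x ∈ 𝒯.deg U hU 1) :
    RelProj.IsGradedHom (𝒜 := gsym M) (ℬ := 𝒯) (symTo 𝒯 jF σ) :=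
  ProjBundleHom.isGradedHom_of_deg_one M (gsym M) (SymAlg.j M) (isGrSymAlg_gsym M) 𝒯
    (symTo 𝒯 jF σ) (fun U hU m => by
      have h1 := symTo_j_apply 𝒯 jF σ U m
      have h2 := hjF U hU ((σ.app U).hom m)
      rw [← h1] at h2
      exact h2)

end SymTo

namespace FTSub

variable {F : Y.Modules} [F.IsQuasicoherent]
  (𝒯 : RelProj.QCGrAlg Y) (jF : F ⟶ 𝒯.toModule) (h𝒯 : RelProj.IsGrSymAlg F 𝒯 jF)

/-- `Sym(a.E)`, graded. -/
noncomputable def alg (a : FTSub F) : RelProj.QCGrAlg Y := gsym a.E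

/-- `Sym(a.E) ⟶ Sym(F)`. -/
noncomputable def φ (a : FTSub F) : symAlg a.E ⟶ 𝒯.toQCAlg := symTo 𝒯 jF a.ι

/-- `Sym(a.E) ⟶ Sym(b.E)` for `a ≤ b`. -/
noncomputable def t {a b : FTSub F} (h : a ≤ b) : symAlg a.E ⟶ symAlg b.E :=
  symTo (alg b) (SymAlg.j b.E) (τ h)

include h𝒯 in
theorem isGradedHom_φ (a : FTSub F) :
    RelProj.IsGradedHom (𝒜 := alg a) (ℬ := 𝒯) (φ 𝒯 jF a) :=
  isGradedHom_symTo 𝒯 jF a.ι h𝒯.2

theorem isGradedHom_t {a b : FTSub F} (h : a ≤ b) :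
    RelProj.IsGradedHom (𝒜 := alg a) (ℬ := alg b) (t h) :=
  isGradedHom_symTo (alg b) (SymAlg.j b.E) (τ h) (isGrSymAlg_gsym b.E).2

theorem t_φ {a b : FTSub F} (h : a ≤ b) : t h ≫ φ 𝒯 jF b = φ 𝒯 jF a := by
  refine symTo_unique 𝒯 jF a.ι _ ?_
  rw [toModuleMap_comp, ← Category.assoc]
  have h1 : SymAlg.j a.E ≫ RelSpec.QCAlg.Hom.toModuleMap (t h) = τ h ≫ SymAlg.j b.E :=
    j_symTo (alg b) (SymAlg.j b.E) (τ h)
  rw [h1, Category.assoc]
  have h2 : SymAlg.j b.E ≫ RelSpec.QCAlg.Hom.toModuleMap (φ 𝒯 jF b) = b.ι ≫ jF :=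
    j_symTo 𝒯 jF b.ι
  rw [h2, ← Category.assoc, τ_ι]

theorem φ_j_apply (a : FTSub F) (U : Y.Opens) (m : Γ(a.E, U)) :
    ((φ 𝒯 jF a).hom.app (op U)).hom (((SymAlg.j a.E).app U).hom m) =
      (jF.app U).hom ((a.ι.app U).hom m) :=
  symTo_j_apply 𝒯 jF a.ι U m

theorem φ_t_apply {a b : FTSub F} (h : a ≤ b) (U : Y.Opens)
    (y : (symAlg a.E).presheaf.obj (op U)) :
    ((φ 𝒯 jF b).hom.app (op U)).hom (((t h).hom.app (op U)).hom y) =
      ((φ 𝒯 jF a).hom.app (op U)).hom y :=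
  congrArg (fun k : symAlg a.E ⟶ 𝒯.toQCAlg => (k.hom.app (op U)).hom y) (t_φ 𝒯 jF h)

variable [CompactSpace Y] [QuasiSeparatedSpace Y]

theorem φ_str_apply (a : FTSub F) (U : Y.Opens) (r : Γ(Y, U)) :
    ((φ 𝒯 jF a).hom.app (op U)).hom (((symAlg a.E).str.app (op U)).hom r) =
      (𝒯.str.app (op U)).hom r := by
  have h0 := NatTrans.congr_app (φ 𝒯 jF a).comm (op U)
  rw [NatTrans.comp_app] at h0
  exact congrArg (fun k => k.hom r) h0

include h𝒯 in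
/-- **Every section of `Sym(F)` over an affine open comes from `Sym(E)` for a finite type
quasi-coherent `E ⊆ F`.** -/
theorem exists_lift (U : Y.Opens) (hU : IsAffineOpen U) (x : 𝒯.presheaf.obj (op U)) :
    ∃ (a : FTSub F) (y : (symAlg a.E).presheaf.obj (op U)),
      ((φ 𝒯 jF a).hom.app (op U)).hom y = x := by
  obtain ⟨z, rfl⟩ := (liftU_bijective F 𝒯.toQCAlg jF h𝒯.1 ⟨U, hU⟩).2 x
  induction z using SymmetricAlgebra.induction with
  | algebraMap r =>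
    obtain ⟨a⟩ : Nonempty (FTSub F) := inferInstance
    refine ⟨a, ((symAlg a.E).str.app (op U)).hom r, ?_⟩
    rw [φ_str_apply]
    exact (liftU_algebraMap F 𝒯.toQCAlg jF U r).symm
  | ι e =>
    obtain ⟨a, e', he'⟩ := exists_mem_range hU e
    refine ⟨a, ((SymAlg.j a.E).app U).hom e', ?_⟩
    rw [φ_j_apply]
    refine Eq.trans ?_ (liftU_ι F 𝒯.toQCAlg jF U e).symm
    exact congrArg (fun w => (jF.app U).hom w) he'
  | mul z₁ z₂ h₁ h₂ =>
    obtain ⟨a₁, y₁, hy₁⟩ := h₁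
    obtain ⟨a₂, y₂, hy₂⟩ := h₂
    obtain ⟨c, hc₁, hc₂⟩ := exists_ge_ge a₁ a₂
    refine ⟨c, ((t hc₁).hom.app (op U)).hom y₁ * ((t hc₂).hom.app (op U)).hom y₂, ?_⟩
    rw [map_mul, map_mul, φ_t_apply, φ_t_apply, hy₁, hy₂]
  | add z₁ z₂ h₁ h₂ =>
    obtain ⟨a₁, y₁, hy₁⟩ := h₁
    obtain ⟨a₂, y₂, hy₂⟩ := h₂
    obtain ⟨c, hc₁, hc₂⟩ := exists_ge_ge a₁ a₂
    refine ⟨c, ((t hc₁).hom.app (op U)).hom y₁ + ((t hc₂).hom.app (op U)).hom y₂, ?_⟩
    rw [map_add, map_add, φ_t_apply, φ_t_apply, hy₁, hy₂]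

end FTSub

end Groth.Agent.Lib.helper28.FTSubSym
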