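import Mathlib
import Groth.Prelude.Def_FlatCA

/-! Fibre modules `κ(p) ⊗ S ⊗[S] N`: common denominators and the kernel of `N → fibre module`
(helper28). -/

universe u
namespace Groth.Agent.Lib.helper28
open TensorProduct
attribute [local instance] Algebra.TensorProduct.rightAlgebra

/-- In `κ(p) ⊗[R] N`: if `1 ⊗ n = 0` then some `r ∉ p` has `r • n ∈ p N`. -/
theorem residueField_tmul_eq_zero {R : Type u} [CommRing R] (p : Ideal R) [p.IsPrime]
    (N : Type u) [AddCommGroup N] [Module R N] (n : N)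
    (h : (1 : p.ResidueField) ⊗ₜ[R] n = 0) :
    ∃ r : R, r ∉ p ∧ r • n ∈ p • (⊤ : Submodule R N) := by
  have h1 : (1 : p.ResidueField) ⊗ₜ[R ⧸ p] ((1 : R ⧸ p) ⊗ₜ[R] n) = 0 := by
    apply (TensorProduct.AlgebraTensorModule.cancelBaseChange R (R ⧸ p) p.ResidueField
      p.ResidueField N).injective
    rw [map_zero, TensorProduct.AlgebraTensorModule.cancelBaseChange_tmul, one_smul]
    exact h
  have hloc : IsLocalizedModule (nonZeroDivisors (R ⧸ p))
      (TensorProduct.mk (R ⧸ p) p.ResidueField ((R ⧸ p) ⊗[R] N) 1) :=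
    (isLocalizedModule_iff_isBaseChange (nonZeroDivisors (R ⧸ p)) p.ResidueField _).mpr
      (TensorProduct.isBaseChange _ _ _)
  obtain ⟨⟨c, hc⟩, hc0⟩ := (IsLocalizedModule.eq_zero_iff (nonZeroDivisors (R ⧸ p))
    (TensorProduct.mk (R ⧸ p) p.ResidueField ((R ⧸ p) ⊗[R] N) 1)).mp h1
  obtain ⟨r, rfl⟩ := Ideal.Quotient.mk_surjective c
  have hr : r ∉ p := by
    intro hrp
    have : (Ideal.Quotient.mk p r) = 0 := Ideal.Quotient.eq_zero_iff_mem.mpr hrp
    rw [this] at hc
    exact zero_notMem_nonZeroDivisors hc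
  refine ⟨r, hr, ?_⟩
  have h2 : (Ideal.Quotient.mk p r) ⊗ₜ[R] n = 0 := by
    have : (Ideal.Quotient.mk p r) • ((1 : R ⧸ p) ⊗ₜ[R] n) = 0 := hc0
    rwa [TensorProduct.smul_tmul', smul_eq_mul, mul_one] at this
  have h3 := congrArg (TensorProduct.quotTensorEquivQuotSMul N p) h2
  rw [map_zero, TensorProduct.quotTensorEquivQuotSMul_mk_tmul] at h3
  exact (Submodule.Quotient.mk_eq_zero _).mp h3

variable {R S : Type u} [CommRing R] [CommRing S] [Algebra R S] (N : Type u) [AddCommGroup N]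
  [Module S N] [Module R N] [IsScalarTower R S N] (p : Ideal R) [p.IsPrime]

omit [p.IsPrime] in
theorem mem_smul_top_iff (x : N) :
    x ∈ (p.map (algebraMap R S)) • (⊤ : Submodule S N) ↔ x ∈ p • (⊤ : Submodule R N) := by
  have := Ideal.smul_restrictScalars (R := R) (S := S) (M := N) p (⊤ : Submodule S N)
  rw [Submodule.restrictScalars_top] at this
  rw [← this]
  rfl

omit [Module R N] [IsScalarTower R S N] in
/-- `S` acts on the fibre module through `S → κ(p) ⊗ S`. -/
theorem fiber_smul_eq (s : S) (x : (p.Fiber S) ⊗[S] N) :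
    s • x = (algebraMap S (p.Fiber S) s) • x := (algebraMap_smul (p.Fiber S) s x).symm

omit [Module R N] [IsScalarTower R S N] in
theorem fiber_smul_one_tmul (s : S) (n : N) :
    s • ((1 : p.Fiber S) ⊗ₜ[S] n) = (1 : p.Fiber S) ⊗ₜ[S] (s • n) := by
  rw [TensorProduct.tmul_smul]

theorem fiber_algebraMap_smul_one_tmul (r : R) (n : N) :
    (algebraMap R (p.Fiber S) r) • ((1 : p.Fiber S) ⊗ₜ[S] n) = (1 : p.Fiber S) ⊗ₜ[S] (r • n) := by
  rw [IsScalarTower.algebraMap_apply R S (p.Fiber S), ← fiber_smul_eq, fiber_smul_one_tmul,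
    algebraMap_smul]

theorem isUnit_algebraMap_fiber {r : R} (hr : r ∉ p) : IsUnit (algebraMap R (p.Fiber S) r) := by
  rw [IsScalarTower.algebraMap_apply R p.ResidueField (p.Fiber S)]
  apply IsUnit.map
  rw [isUnit_iff_ne_zero]
  intro h
  exact hr (Ideal.algebraMap_residueField_eq_zero.mp h)

theorem fiber_algebraMap_eq_zero {a : R} (ha : a ∈ p) : algebraMap R (p.Fiber S) a = 0 := by
  rw [IsScalarTower.algebraMap_apply R p.ResidueField (p.Fiber S),
    Ideal.algebraMap_residueField_eq_zero.mpr ha, map_zero]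

/-- Common denominators in the fibre module. -/
theorem exists_unit_smul_eq_one_tmul (x : (p.Fiber S) ⊗[S] N) :
    ∃ r : R, r ∉ p ∧ ∃ n : N, (algebraMap R (p.Fiber S) r) • x = (1 : p.Fiber S) ⊗ₜ[S] n := by
  induction x using TensorProduct.induction_on with
  | zero => exact ⟨1, fun h => (Ideal.IsPrime.ne_top ‹_›) (p.eq_top_of_isUnit_mem h isUnit_one),
      0, by rw [smul_zero, TensorProduct.tmul_zero]⟩
  | tmul f n =>
    obtain ⟨r, hr, s, hs⟩ := Ideal.Fiber.exists_smul_eq_one_tmul p f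
    refine ⟨r, hr, s • n, ?_⟩
    rw [TensorProduct.smul_tmul', smul_eq_mul, ← Algebra.smul_def, hs, TensorProduct.tmul_smul,
      TensorProduct.smul_tmul', Algebra.smul_def, mul_one]
    rfl
  | add x y hx hy =>
    obtain ⟨r₁, hr₁, n₁, h₁⟩ := hx
    obtain ⟨r₂, hr₂, n₂, h₂⟩ := hy
    refine ⟨r₁ * r₂, fun h => (Ideal.IsPrime.mem_or_mem ‹_› h).elim hr₁ hr₂,
      r₂ • n₁ + r₁ • n₂, ?_⟩
    have e1 : (algebraMap R (p.Fiber S) r₁ * algebraMap R (p.Fiber S) r₂) • x =
        algebraMap R (p.Fiber S) r₂ • (algebraMap R (p.Fiber S) r₁ • x) := by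
      rw [mul_comm, mul_smul]
    have e2 : (algebraMap R (p.Fiber S) r₁ * algebraMap R (p.Fiber S) r₂) • y =
        algebraMap R (p.Fiber S) r₁ • (algebraMap R (p.Fiber S) r₂ • y) := mul_smul _ _ _
    rw [map_mul, smul_add, e1, e2, h₁, h₂,
      fiber_algebraMap_smul_one_tmul, fiber_algebraMap_smul_one_tmul, TensorProduct.tmul_add]

/-- Kernel of `N → κ(p) ⊗ S ⊗[S] N`. -/
theorem fiber_one_tmul_eq_zero_iff (n : N) :
    (1 : p.Fiber S) ⊗ₜ[S] n = 0 ↔ ∃ r : R, r ∉ p ∧ r • n ∈ p • (⊤ : Submodule R N) := by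
  constructor
  · intro h
    apply residueField_tmul_eq_zero p N n
    have := congrArg (Algebra.IsPushout.cancelBaseChange R p.ResidueField S (p.Fiber S) N) h
    rwa [Algebra.IsPushout.cancelBaseChange_tmul, map_zero] at this
  · rintro ⟨r, hr, hrn⟩
    have h1 : (1 : p.Fiber S) ⊗ₜ[S] (r • n) = 0 := by
      refine Submodule.smul_induction_on hrn ?_ ?_
      · intro a ha m _
        rw [← fiber_algebraMap_smul_one_tmul, fiber_algebraMap_eq_zero p ha, zero_smul]
      · intro x y hx hy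
        rw [TensorProduct.tmul_add, hx, hy, add_zero]
    rw [← fiber_algebraMap_smul_one_tmul] at h1
    exact (isUnit_algebraMap_fiber p hr).smul_eq_zero.mp h1

/-- Annihilator of an element of the fibre module, via common denominators. -/
theorem exists_forall_smul_eq_zero_iff (x' : (p.Fiber S) ⊗[S] N) :
    ∃ n : N, ∀ s : S, s • x' = 0 ↔
      ∃ r : R, r ∉ p ∧ r • (s • n) ∈ p • (⊤ : Submodule R N) := by
  obtain ⟨r₀, hr₀, n, hn⟩ := exists_unit_smul_eq_one_tmul N p x'
  refine ⟨n, fun s => ?_⟩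
  rw [← fiber_one_tmul_eq_zero_iff (S := S), ← fiber_smul_one_tmul, ← hn,
    fiber_smul_eq, fiber_smul_eq, smul_smul, mul_comm, ← smul_smul]
  exact ((isUnit_algebraMap_fiber p hr₀).smul_eq_zero).symm

/-- Flat modules: `N/pN` has no `(R ∖ p)`-torsion. -/
theorem mem_smul_top_of_smul_mem_of_flat {R : Type u} [CommRing R] (p : Ideal R) [p.IsPrime]
    (N : Type u) [AddCommGroup N] [Module R N] [Module.Flat R N] {r : R} (hr : r ∉ p) {n : N}
    (h : r • n ∈ p • (⊤ : Submodule R N)) : n ∈ p • (⊤ : Submodule R N) := by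
  have hf : Function.Injective (LinearMap.lsmul R (R ⧸ p) r) := by
    intro a b hab
    have h1 : (Ideal.Quotient.mk p r) * a = (Ideal.Quotient.mk p r) * b := by
      simpa [Algebra.smul_def] using hab
    exact mul_left_cancel₀ (by rwa [Ne, Ideal.Quotient.eq_zero_iff_mem]) h1
  have hinj := Module.Flat.rTensor_preserves_injective_linearMap (M := N) _ hf
  have h0 : (1 : R ⧸ p) ⊗ₜ[R] n = 0 := by
    apply hinj
    rw [map_zero, LinearMap.rTensor_tmul]
    show (r • (1 : R ⧸ p)) ⊗ₜ[R] n = 0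
    rw [TensorProduct.smul_tmul]
    apply (TensorProduct.quotTensorEquivQuotSMul N p).injective
    rw [map_zero, TensorProduct.quotTensorEquivQuotSMul_mk_one_tmul,
      Submodule.Quotient.mk_eq_zero]
    exact h
  have h1 := congrArg (TensorProduct.quotTensorEquivQuotSMul N p) h0
  rw [map_zero, TensorProduct.quotTensorEquivQuotSMul_mk_one_tmul] at h1
  exact (Submodule.Quotient.mk_eq_zero _).mp h1

end Groth.Agent.Lib.helper28
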