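import Mathlib

set_option autoImplicit false
universe u

/-! Fibres of a morphism computed on a chart square (helper28).

`p : E ⟶ X`, `j : Spec R ⟶ X` and `c : Spec S ⟶ E` open immersions with `c ≫ p = Spec(ψ) ≫ j` and
`p⁻¹(range j) = range c`.  For `x ∈ range j` the fibre `E ×_X Spec κ(x)` is `Spec` of the pushout
of `ψ` and `R → κ(x)`; in particular it is `Spec κ(x)[T]` when `S = R[T]`. -/

namespace Groth.Agent.Lib.helper28.FibreChart

open CategoryTheory CategoryTheory.Limits AlgebraicGeometry TopologicalSpace Opposite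

attribute [local instance] Polynomial.algebra

variable {E X : Scheme.{u}} (p : E ⟶ X) (x : X) {R S : CommRingCat.{u}}
  (j : Spec R ⟶ X) [IsOpenImmersion j]
  (c : Spec S ⟶ E) [IsOpenImmersion c] (ψ : R ⟶ S)

/-- The residue field point `Spec κ(x) ⟶ X` factors through an affine chart containing `x`. -/
theorem exists_lift_residue (hx : x ∈ Set.range j.base) :
    ∃ α : R ⟶ X.residueField x, Spec.map α ≫ j = X.fromSpecResidueField x := by
  have hr : Set.range (X.fromSpecResidueField x).base ⊆ Set.range j.base := by
    rw [Scheme.range_fromSpecResidueField]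
    exact Set.singleton_subset_iff.mpr hx
  refine ⟨Spec.preimage (IsOpenImmersion.lift j (X.fromSpecResidueField x) hr), ?_⟩
  rw [Spec.map_preimage]
  exact IsOpenImmersion.lift_fac _ _ _

/-- The fibre over `x` is `Spec` of the pushout. -/
theorem exists_fibre_iso (hc : c ≫ p = Spec.map ψ ≫ j)
    (hrange : p ⁻¹ᵁ j.opensRange = c.opensRange)
    (α : R ⟶ X.residueField x) (hα : Spec.map α ≫ j = X.fromSpecResidueField x)
    (T : CommRingCat.{u}) (inl : S ⟶ T) (inr : X.residueField x ⟶ T)
    (hpo : IsPushout ψ α inl inr) :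
    ∃ e : pullback p (X.fromSpecResidueField x) ≅ Spec T,
      e.hom ≫ Spec.map inr = pullback.snd _ _ := by
  have sq1 : IsPullback (Spec.map inl) (Spec.map inr) (Spec.map ψ) (Spec.map α) :=
    isPullback_SpecMap_of_isPushout ψ α inl inr hpo
  have sq2 : IsPullback (Spec.map ψ) c j p := IsOpenImmersion.isPullback _ _ _ _ hc hrange
  have sq := sq1.paste_horiz sq2.flip
  rw [hα] at sq
  exact ⟨sq.isoPullback.symm, sq.isoPullback_inv_snd⟩

/-- The fibre over `x` is the affine line when `S = R[T]`. -/
theorem exists_fibre_iso_polynomial (hx : x ∈ Set.range j.base) (hc : c ≫ p = Spec.map ψ ≫ j)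
    (hrange : p ⁻¹ᵁ j.opensRange = c.opensRange)
    (ε : Polynomial R ≃+* S) (hε : ∀ r, ε (Polynomial.C r) = ψ.hom r) :
    ∃ e : pullback p (X.fromSpecResidueField x) ≅
        Spec (CommRingCat.of (Polynomial (X.residueField x))),
      e.hom ≫ Spec.map (CommRingCat.ofHom (algebraMap (X.residueField x)
        (Polynomial (X.residueField x)))) = pullback.snd _ _ := by
  obtain ⟨α, hα⟩ := exists_lift_residue x j hx
  algebraize [α.hom]
  have base := CommRingCat.isPushout_of_isPushout R (X.residueField x) (Polynomial R)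
    (Polynomial (X.residueField x))
  refine exists_fibre_iso p x j c ψ hc hrange α hα _
    (CommRingCat.ofHom ((Polynomial.mapRingHom α.hom).comp ε.symm.toRingHom)) _ ?_
  refine base.flip.of_iso (Iso.refl _) ε.toCommRingCatIso (Iso.refl _) (Iso.refl _) ?_ ?_ ?_ ?_
  · ext r
    exact hε r
  · rfl
  · ext q
    · simp only [CommRingCat.hom_comp, CommRingCat.hom_ofHom, RingHom.comp_apply, Iso.refl_hom,
        CommRingCat.hom_id, RingHom.id_apply, RingEquiv.toCommRingCatIso_hom,
        Polynomial.algebraMap_def]
      rw [show (ε.symm.toRingHom) ((ε : Polynomial R →+* S) (Polynomial.C q)) = Polynomial.C q from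
        ε.symm_apply_apply _]
      rfl
    · simp only [CommRingCat.hom_comp, CommRingCat.hom_ofHom, RingHom.comp_apply, Iso.refl_hom,
        CommRingCat.hom_id, RingHom.id_apply, RingEquiv.toCommRingCatIso_hom,
        Polynomial.algebraMap_def]
      rw [show (ε.symm.toRingHom) ((ε : Polynomial R →+* S) Polynomial.X) = Polynomial.X from
        ε.symm_apply_apply _]
      rfl
  · rfl

end Groth.Agent.Lib.helper28.FibreChart
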