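import Groth.Agent.Lib.Helper28.FibreChart

set_option autoImplicit false
universe u

/-! Fibres of a morphism computed on a chart square, Laurent polynomial case (helper28). -/

namespace Groth.Agent.Lib.helper28.FibreChart

open CategoryTheory CategoryTheory.Limits AlgebraicGeometry TopologicalSpace Opposite
open scoped AlgebraMonoidAlgebra

variable {E X : Scheme.{u}} (p : E ⟶ X) (x : X) {R S : CommRingCat.{u}}
  (j : Spec R ⟶ X) [IsOpenImmersion j]
  (c : Spec S ⟶ E) [IsOpenImmersion c] (ψ : R ⟶ S)

/-- The fibre over `x` is the punctured affine line when `S = R[T, T⁻¹]`. -/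
theorem exists_fibre_iso_laurent (hx : x ∈ Set.range j.base) (hc : c ≫ p = Spec.map ψ ≫ j)
    (hrange : p ⁻¹ᵁ j.opensRange = c.opensRange)
    (ε : LaurentPolynomial R ≃+* S) (hε : ∀ r, ε (LaurentPolynomial.C r) = ψ.hom r) :
    ∃ e : pullback p (X.fromSpecResidueField x) ≅
        Spec (CommRingCat.of (LaurentPolynomial (X.residueField x))),
      e.hom ≫ Spec.map (CommRingCat.ofHom (algebraMap (X.residueField x)
        (LaurentPolynomial (X.residueField x)))) = pullback.snd _ _ := by
  obtain ⟨α, hα⟩ := exists_lift_residue x j hx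
  algebraize [α.hom]
  have base := CommRingCat.isPushout_of_isPushout R (X.residueField x) (LaurentPolynomial R)
    (LaurentPolynomial (X.residueField x))
  refine exists_fibre_iso p x j c ψ hc hrange α hα _
    (CommRingCat.ofHom ((AddMonoidAlgebra.mapRingHom ℤ α.hom).comp ε.symm.toRingHom)) _ ?_
  refine base.flip.of_iso (Iso.refl _) ε.toCommRingCatIso (Iso.refl _) (Iso.refl _) ?_ ?_ ?_ ?_
  · ext r
    exact hε r
  · rfl
  · refine CommRingCat.hom_ext (RingHom.ext fun q => ?_)
    simp only [CommRingCat.hom_comp, CommRingCat.hom_ofHom, RingHom.comp_apply, Iso.refl_hom,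
      CommRingCat.hom_id, RingHom.id_apply, RingEquiv.toCommRingCatIso_hom]
    rw [show (ε.symm.toRingHom) ((ε : LaurentPolynomial R →+* S) q) = q from
      ε.symm_apply_apply _]
    rfl
  · rfl

end Groth.Agent.Lib.helper28.FibreChart
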