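import Mathlib
import Groth.Agent.Lib.Helper28.FinProjRank

/-!
# Base change of the ring of invariants (ring-level; helper28)

Ring-level versions of the three assertions on `C' → (A ⊗[C] C')^{inv}` for a finite locally free
affine groupoid (`InvData`): `exists_pow_eq_map`, `isNilpotent_of_includeRight_eq_zero`, `flat_case`.
-/

namespace Groth.Agent.Lib.helper28.FinProjCharpoly

open TensorProduct

universe u

namespace InvData

variable {A B : Type u} [CommRing A] [CommRing B] {s t : A →+* B} {n : ℕ} {D : DualBasis s n}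

set_option maxHeartbeats 1600000 in
theorem exists_pow_eq_map (H : InvData s t D) (e : B →+* A) (hes : ∀ a, e (s a) = a)
    (C : Subring A) (hC : ∀ a, a ∈ C ↔ s a = t a) (C' : Type u) [CommRing C'] [Algebra C C'] :
    letI : Algebra C B := (s.comp C.subtype).toAlgebra
    ∀ (sT tT : A ⊗[C] C' →+ B ⊗[C] C'), (∀ a c, sT (a ⊗ₜ c) = s a ⊗ₜ c) →
      (∀ a c, tT (a ⊗ₜ c) = t a ⊗ₜ c) → ∀ f, sT f = tT f →
      ∃ (N : ℕ) (P : Polynomial C'), 0 < N ∧
        P.map (Algebra.TensorProduct.includeRight : C' →ₐ[C] A ⊗[C] C').toRingHom =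
          (Polynomial.X - Polynomial.C f) ^ N := by
  classical
  letI : Algebra C B := (s.comp C.subtype).toAlgebra
  intro sT tT hsT htT f hf
  have hsmulB : ∀ (c : C) (x : B), c • x = s c * x := fun c x => by
    rw [Algebra.smul_def]; rfl
  let inclL : A →+* A ⊗[C] C' := Algebra.TensorProduct.includeLeftRingHom
  let inclR : C' →+* A ⊗[C] C' :=
    (Algebra.TensorProduct.includeRight : C' →ₐ[C] A ⊗[C] C').toRingHom
  have hLR : ∀ c : C, inclR (algebraMap C C' c) = inclL (c : A) := by
    intro c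
    change (1 : A) ⊗ₜ[C] (algebraMap C C' c) = (c : A) ⊗ₜ[C] (1 : C')
    rw [Algebra.algebraMap_eq_smul_one, ← TensorProduct.smul_tmul, Algebra.smul_def, mul_one]
    rfl
  obtain ⟨S₀, hS₀⟩ := TensorProduct.exists_finset f
  -- the entries
  have hentry : ∀ j k : Fin n, ∑ i ∈ S₀, (D.mat (t i.1) j k) ⊗ₜ[C] i.2 =
      ((D.mat 1 j k) ⊗ₜ[C] (1 : C')) * f := by
    intro j k
    let φ : B →ₗ[C] A :=
      { toFun := fun x => D.c j (x * D.b k)
        map_add' := fun x y => by simp [add_mul]
        map_smul' := fun c x => by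
          simp only [RingHom.id_apply]
          rw [hsmulB, mul_assoc, D.lin]
          rfl }
    have h1 : φ.rTensor C' (tT f) = ∑ i ∈ S₀, (D.mat (t i.1) j k) ⊗ₜ[C] i.2 := by
      rw [hS₀, map_sum, map_sum]
      refine Finset.sum_congr rfl fun i _ => ?_
      rw [htT, LinearMap.rTensor_tmul]
      rfl
    have h2 : φ.rTensor C' (sT f) = ((D.mat 1 j k) ⊗ₜ[C] (1 : C')) * f := by
      conv_lhs => rw [hS₀]
      conv_rhs => rw [hS₀]
      rw [map_sum, map_sum, Finset.mul_sum]
      refine Finset.sum_congr rfl fun i _ => ?_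
      rw [hsT, LinearMap.rTensor_tmul, Algebra.TensorProduct.tmul_mul_tmul, one_mul]
      congr 1
      change D.c j (s i.1 * D.b k) = D.c j (1 * D.b k) * i.1
      rw [D.lin, one_mul, mul_comm]
    rw [← h1, ← hf, h2]
  -- the universal norm
  let σ := Option (A × C')
  obtain ⟨Dσ, hσ⟩ := D.exists_poly σ
  have Hσ := H.poly σ Dσ hσ
  let Ft : MvPolynomial σ A :=
    MvPolynomial.X none - ∑ i ∈ S₀, MvPolynomial.X (some i) * MvPolynomial.C i.1
  set G := Dσ.nm (MvPolynomial.map t Ft) with hGdef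
  have hG : MvPolynomial.map s G = MvPolynomial.map t G := Hσ.nm_inv Ft
  have hGC : G ∈ Set.range (MvPolynomial.map C.subtype) := by
    rw [MvPolynomial.mem_range_map_iff_coeffs_subset]
    intro x hx
    obtain ⟨m, -, rfl⟩ := MvPolynomial.mem_coeffs_iff.mp hx
    have := congrArg (MvPolynomial.coeff m) hG
    rw [MvPolynomial.coeff_map, MvPolynomial.coeff_map] at this
    exact ⟨⟨_, (hC _).mpr this⟩, rfl⟩
  obtain ⟨G₀, hG₀⟩ := hGC
  -- evaluation homs
  let lam : σ → Polynomial (A ⊗[C] C') :=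
    fun o => o.elim Polynomial.X (fun i => Polynomial.C ((1 : A) ⊗ₜ[C] i.2))
  let lam₀ : σ → Polynomial C' := fun o => o.elim Polynomial.X (fun i => Polynomial.C i.2)
  let Ψ : MvPolynomial σ A →+* Polynomial (A ⊗[C] C') :=
    MvPolynomial.eval₂Hom (Polynomial.C.comp inclL) lam
  let Ψ₀ : MvPolynomial σ C →+* Polynomial C' :=
    MvPolynomial.eval₂Hom (Polynomial.C.comp (algebraMap C C')) lam₀
  have hcompat : (Polynomial.mapRingHom inclR).comp Ψ₀ = Ψ.comp (MvPolynomial.map C.subtype) := by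
    apply MvPolynomial.ringHom_ext
    · intro c
      simp only [Ψ, Ψ₀, RingHom.comp_apply, MvPolynomial.coe_eval₂Hom, MvPolynomial.eval₂_C,
        Polynomial.coe_mapRingHom, Polynomial.map_C, MvPolynomial.map_C]
      rw [hLR]
      rfl
    · rintro (_ | i)
      · simp [Ψ, Ψ₀, lam, lam₀]
      · simp only [Ψ, Ψ₀, lam, lam₀, RingHom.comp_apply, MvPolynomial.coe_eval₂Hom,
          MvPolynomial.eval₂_X, Option.elim_some, Polynomial.coe_mapRingHom, Polynomial.map_C,
          MvPolynomial.map_X]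
        rfl
  have hQ₀ : (Ψ₀ G₀).map inclR = Ψ G := by
    have := congrArg (fun m => m G₀) hcompat
    simp only [RingHom.comp_apply, Polynomial.coe_mapRingHom] at this
    rw [this, hG₀]
  -- computation of `Ψ G`
  have hmatentry : ∀ j k : Fin n, Ψ (Dσ.mat (MvPolynomial.map t Ft) j k) =
      Polynomial.X * Polynomial.C (inclL (D.mat 1 j k)) -
        Polynomial.C (inclL (D.mat 1 j k) * f) := by
    intro j k
    let mjk : MvPolynomial σ B →+ MvPolynomial σ A :=
      (Dσ.c j).comp (AddMonoidHom.mulRight (Dσ.b k))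
    have hm : ∀ x, Dσ.mat x j k = mjk x := fun x => rfl
    have hm2 : ∀ (p : MvPolynomial σ A) (z : B),
        mjk (MvPolynomial.map s p * MvPolynomial.C z) = p * MvPolynomial.C (D.mat z j k) := by
      intro p z
      rw [← hm, DualBasis.mat_smul, hσ]
      simp
    have e1 : MvPolynomial.map t Ft = MvPolynomial.map s (MvPolynomial.X none) * MvPolynomial.C 1 -
        ∑ i ∈ S₀, MvPolynomial.map s (MvPolynomial.X (some i)) * MvPolynomial.C (t i.1) := by
      simp [Ft]
    rw [hm, e1, map_sub, map_sum, hm2, map_sub, map_sum]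
    have e2 : ∀ i ∈ S₀, Ψ (mjk (MvPolynomial.map s (MvPolynomial.X (some i)) *
        MvPolynomial.C (t i.1))) = Polynomial.C ((D.mat (t i.1) j k) ⊗ₜ[C] i.2) := by
      intro i _
      rw [hm2]
      simp only [Ψ, lam, map_mul, MvPolynomial.coe_eval₂Hom, MvPolynomial.eval₂_X,
        MvPolynomial.eval₂_C, Option.elim_some, RingHom.comp_apply]
      rw [← Polynomial.C_mul]
      congr 1
      change ((1 : A) ⊗ₜ[C] i.2) * ((D.mat (t i.1) j k) ⊗ₜ[C] (1 : C')) = _
      rw [Algebra.TensorProduct.tmul_mul_tmul, one_mul, mul_one]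
    rw [Finset.sum_congr rfl e2, ← map_sum, hentry]
    simp only [Ψ, lam, map_mul, MvPolynomial.coe_eval₂Hom, MvPolynomial.eval₂_X,
      MvPolynomial.eval₂_C, Option.elim_none, RingHom.comp_apply]
    rfl
  have hone : ∀ j k : Fin n, Ψ (Dσ.mat 1 j k) = Polynomial.C (inclL (D.mat 1 j k)) := by
    intro j k
    have h1 := hσ 1
    rw [MvPolynomial.C_1] at h1
    rw [h1]
    simp [Ψ]
  let Θ : A →+* Polynomial (A ⊗[C] C') := Polynomial.C.comp inclL
  let y : Polynomial (A ⊗[C] C') := Polynomial.X - Polynomial.C f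
  have hΨG : Ψ G = D.rk.eval₂ Θ y := by
    rw [DualBasis.eval₂_rk, hGdef]
    unfold DualBasis.nm
    rw [RingHom.map_det]
    congr 1
    ext j k
    simp only [RingHom.mapMatrix_apply, Matrix.map_apply, Matrix.add_apply, Matrix.sub_apply,
      Matrix.smul_apply, map_add, map_sub, hmatentry, hone, Matrix.one_apply, smul_eq_mul]
    have hΘ : Θ (D.mat 1 j k) = Polynomial.C (inclL (D.mat 1 j k)) := rfl
    rw [hΘ, Polynomial.C_mul]
    split_ifs <;> simp only [map_one, map_zero, y] <;> ring_nf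
  -- idempotents
  let m := D.rk.natDegree
  have hecoef : ∀ r, D.rk.coeff r ∈ C := by
    intro r
    rw [hC]
    have := congrArg (fun p => p.coeff r) H.rk_inv
    simpa [Polynomial.coeff_map] using this
  let ε : ℕ → Polynomial (A ⊗[C] C') := fun r => Θ (D.rk.coeff r)
  have hε : ∀ i j, ε i * ε j = if i = j then ε j else 0 := by
    intro i j
    simp only [ε]
    rw [← map_mul, D.rk_coeff_mul]
    split_ifs <;> simp
  have hε0 : ε 0 = 0 := by
    simp only [ε]
    rw [D.rk_coeff_zero e hes, map_zero]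
  have hεsum : ∑ r ∈ Finset.range (m + 1), ε r = 1 := by
    simp only [ε]
    rw [← map_sum, D.sum_rk_coeff, map_one]
  have hΨG' : Ψ G = ∑ j ∈ Finset.range (m + 1), ε j * y ^ j := by
    rw [hΨG, Polynomial.eval₂_eq_sum_range]
  let N := m.factorial
  let P : Polynomial C' := ∑ r ∈ Finset.range (m + 1),
    Polynomial.C (algebraMap C C' ⟨D.rk.coeff r, hecoef r⟩) * (Ψ₀ G₀) ^ (N / r)
  refine ⟨N, P, Nat.factorial_pos m, ?_⟩
  have hPmap : P.map inclR = ∑ r ∈ Finset.range (m + 1), ε r * (Ψ G) ^ (N / r) := by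
    simp only [P, Polynomial.map_sum, Polynomial.map_mul, Polynomial.map_pow, Polynomial.map_C,
      hQ₀]
    refine Finset.sum_congr rfl fun r _ => ?_
    rw [hLR]
    rfl
  change P.map inclR = y ^ N
  rw [hPmap, hΨG']
  have hterm : ∀ r ∈ Finset.range (m + 1),
      ε r * (∑ j ∈ Finset.range (m + 1), ε j * y ^ j) ^ (N / r) = ε r * y ^ N := by
    intro r hr
    rcases Nat.eq_zero_or_pos r with h0 | hpos
    · subst h0
      rw [hε0, zero_mul, zero_mul]
    · rw [idem_mul_pow ε hε (m + 1) y r (Finset.mem_range.mp hr),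
        Nat.mul_div_cancel' (Nat.dvd_factorial hpos
          (Nat.lt_succ_iff.mp (Finset.mem_range.mp hr)))]
  rw [Finset.sum_congr rfl hterm, ← Finset.sum_mul, hεsum, one_mul]

end InvData

theorem flat_case {A B : Type u} [CommRing A] [CommRing B] (s t : A →+* B) (C : Subring A)
    (hC : ∀ a, a ∈ C ↔ s a = t a) (C' : Type u)
    [CommRing C'] [Algebra C C'] [Module.Flat C C'] :
    letI : Algebra C B := (s.comp C.subtype).toAlgebra
    ∀ (sT tT : A ⊗[C] C' →+ B ⊗[C] C'), (∀ a c, sT (a ⊗ₜ c) = s a ⊗ₜ c) →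
      (∀ a c, tT (a ⊗ₜ c) = t a ⊗ₜ c) →
      Function.Injective (Algebra.TensorProduct.includeRight : C' →ₐ[C] A ⊗[C] C') ∧
        ∀ f, sT f = tT f →
          f ∈ Set.range (Algebra.TensorProduct.includeRight : C' →ₐ[C] A ⊗[C] C') := by
  letI : Algebra C B := (s.comp C.subtype).toAlgebra
  intro sT tT hsT htT
  have hsmulB : ∀ (c : C) (x : B), c • x = s c * x := fun c x => by
    rw [Algebra.smul_def]; rfl
  let sL : A →ₗ[C] B :=
    { toFun := s
      map_add' := map_add s
      map_smul' := fun c a => by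
        simp only [RingHom.id_apply]
        rw [hsmulB, Algebra.smul_def, map_mul]
        rfl }
  let tL : A →ₗ[C] B :=
    { toFun := t
      map_add' := map_add t
      map_smul' := fun c a => by
        simp only [RingHom.id_apply]
        rw [hsmulB, Algebra.smul_def, map_mul]
        have : t c = s c := ((hC c).mp c.2).symm
        rw [← this]
        rfl }
  let ιL : C →ₗ[C] A := Algebra.linearMap C A
  have hex : Function.Exact ιL (sL - tL) := by
    intro a
    change s a - t a = 0 ↔ _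
    rw [sub_eq_zero]
    constructor
    · intro h
      exact ⟨⟨a, (hC a).mpr h⟩, rfl⟩
    · rintro ⟨c, rfl⟩
      exact (hC _).mp c.2
  have hex' := Module.Flat.rTensor_exact C' hex
  have hinj : Function.Injective (ιL.rTensor C') :=
    Module.Flat.rTensor_preserves_injective_linearMap ιL Subtype.val_injective
  have hι : ∀ z, ιL.rTensor C' z =
      (Algebra.TensorProduct.includeRight : C' →ₐ[C] A ⊗[C] C') (TensorProduct.lid C C' z) := by
    intro z
    induction z using TensorProduct.induction_on with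
    | zero => simp
    | tmul c c' =>
      rw [LinearMap.rTensor_tmul, TensorProduct.lid_tmul]
      change (c : A) ⊗ₜ[C] c' = (1 : A) ⊗ₜ[C] (c • c')
      rw [← TensorProduct.smul_tmul, Algebra.smul_def, mul_one]
      rfl
    | add x y hx hy => rw [map_add, hx, hy, map_add, map_add]
  constructor
  · intro c₁ c₂ h
    have h' : ιL.rTensor C' ((TensorProduct.lid C C').symm c₁) =
        ιL.rTensor C' ((TensorProduct.lid C C').symm c₂) := by
      rw [hι, hι, LinearEquiv.apply_symm_apply, LinearEquiv.apply_symm_apply]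
      exact h
    exact (TensorProduct.lid C C').symm.injective (hinj h')
  · intro f hf
    have hrt : ∀ g, (sL - tL).rTensor C' g = sT g - tT g := by
      intro g
      induction g using TensorProduct.induction_on with
      | zero => simp
      | tmul a c =>
        rw [LinearMap.rTensor_tmul, hsT, htT, LinearMap.sub_apply, TensorProduct.sub_tmul]
        rfl
      | add x y hx hy =>
        rw [map_add, hx, hy, map_add, map_add]
        abel
    have h0 : (sL - tL).rTensor C' f = 0 := by rw [hrt, hf, sub_self]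
    obtain ⟨z, hz⟩ := (hex' f).mp h0
    exact ⟨TensorProduct.lid C C' z, by rw [← hι, hz]⟩

open AlgebraicGeometry CategoryTheory CategoryTheory.Limits in
/-- surjectivity on spectra is stable under base change (ring-level form). -/
lemma exists_prime_over_includeRight {R S T : Type u} [CommRing R] [CommRing S] [CommRing T]
    [Algebra R S] [Algebra R T]
    (h : ∀ 𝔭 : Ideal R, 𝔭.IsPrime → ∃ 𝔮 : Ideal S, 𝔮.IsPrime ∧ 𝔮.comap (algebraMap R S) = 𝔭)
    (𝔭' : Ideal T) (h𝔭' : 𝔭'.IsPrime) :
    ∃ 𝔮 : Ideal (S ⊗[R] T), 𝔮.IsPrime ∧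
      𝔮.comap (Algebra.TensorProduct.includeRight : T →ₐ[R] S ⊗[R] T).toRingHom = 𝔭' := by
  haveI : Surjective (Spec.map (CommRingCat.ofHom (algebraMap R S))) := by
    constructor
    intro x
    obtain ⟨𝔮, h𝔮, hq⟩ := h (x : PrimeSpectrum R).asIdeal (x : PrimeSpectrum R).isPrime
    refine ⟨(⟨𝔮, h𝔮⟩ : PrimeSpectrum S), ?_⟩
    apply PrimeSpectrum.ext
    exact hq
  have h2 : Surjective (pullback.snd (Spec.map (CommRingCat.ofHom (algebraMap R S)))
      (Spec.map (CommRingCat.ofHom (algebraMap R T)))) :=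
    MorphismProperty.pullback_snd _ _ inferInstance
  have h3 : Surjective ((pullbackSpecIso R S T).inv ≫ pullback.snd _ _) := inferInstance
  rw [pullbackSpecIso_inv_snd] at h3
  obtain ⟨y, hy⟩ := h3.surj (⟨𝔭', h𝔭'⟩ : PrimeSpectrum T)
  refine ⟨(y : PrimeSpectrum (S ⊗[R] T)).asIdeal, (y : PrimeSpectrum _).isPrime, ?_⟩
  exact congrArg PrimeSpectrum.asIdeal hy

lemma isNilpotent_of_includeRight_eq_zero {R S T : Type u} [CommRing R] [CommRing S] [CommRing T]
    [Algebra R S] [Algebra R T]
    (h : ∀ 𝔭 : Ideal R, 𝔭.IsPrime → ∃ 𝔮 : Ideal S, 𝔮.IsPrime ∧ 𝔮.comap (algebraMap R S) = 𝔭)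
    (c : T) (hc : (Algebra.TensorProduct.includeRight : T →ₐ[R] S ⊗[R] T) c = 0) :
    IsNilpotent c := by
  rw [nilpotent_iff_mem_prime]
  intro 𝔭' h𝔭'
  obtain ⟨𝔮, h𝔮, hq⟩ := exists_prime_over_includeRight h 𝔭' h𝔭'
  rw [← hq, Ideal.mem_comap]
  change (Algebra.TensorProduct.includeRight : T →ₐ[R] S ⊗[R] T) c ∈ 𝔮
  rw [hc]
  exact 𝔮.zero_mem

end Groth.Agent.Lib.helper28.FinProjCharpoly
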