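import Groth.Agent.Lib.Helper25.QCCSections
import Groth.Agent.Lib.Helper25.QCohCoprod
import Groth.Agent.Lib.Helper16.CohFinite
import Groth.Agent.Lib.Helper16.QCohEpi

set_option autoImplicit false

universe u

/-! Finite subfamilies of a coproduct surjecting onto a module of finite type (helper28).

* `sections_sum`: sections of `∐ F` over a quasi-compact open are finite sums of sections of the summands
  (helper25 `QCCSections.exists_finset_sections`, restated for scheme modules);
* `exists_finset_surjective`: for an epimorphism `π : ∐ F ⟶ M` of quasi-coherent modules, `U` affine open with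
  `Γ(M, U)` finite: finitely many summands already surject onto `Γ(M, U)`;
* `exists_finset_epi`: `X` quasi-compact, `M` of finite type: a finite subfamily already gives an epimorphism. -/

namespace Groth.Agent.Lib.helper28.FinSubCoprod

open CategoryTheory CategoryTheory.Limits AlgebraicGeometry TopologicalSpace Opposite

variable {X : Scheme.{u}} {κ : Type u} (F : κ → X.Modules)

theorem sections_sum (U : X.Opens) (hU : IsCompact (U : Set X)) (s : Γ(∐ F, U)) :
    ∃ (S : Finset κ) (t : ∀ i, Γ(F i, U)), s = ∑ i ∈ S, ((Sigma.ι F i).app U).hom (t i) :=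
  Groth.Agent.Lib.Helper25.QCCSections.exists_finset_sections X.sheaf F (∐ F) (Sigma.ι F)
    (coproductIsCoproduct F) U hU s

/-- The map from the sub-coproduct over a finite set of indices. -/
noncomputable def sub (T : Finset κ) : (∐ fun k : T => F k.1) ⟶ ∐ F :=
  Sigma.desc fun k : T => Sigma.ι F k.1

theorem ι_sub (T : Finset κ) (k : T) : Sigma.ι (fun k : T => F k.1) k ≫ sub F T = Sigma.ι F k.1 :=
  Sigma.ι_desc _ _

variable (hF : ∀ k, (F k).IsQuasicoherent) (M : X.Modules) [M.IsQuasicoherent] (π : (∐ F) ⟶ M) [Epi π]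

include hF in
theorem exists_finset_surjective (U : X.Opens) (hU : IsAffineOpen U) [Module.Finite Γ(X, U) Γ(M, U)] :
    ∃ T : Finset κ, ∀ T' : Finset κ, T ⊆ T' → Function.Surjective ((sub F T' ≫ π).app U).hom := by
  classical
  have : (∐ F).IsQuasicoherent :=
    Groth.Agent.Lib.helper25.QCohCoprod.isQuasicoherent_coproduct X F hF
  obtain ⟨G, hG⟩ := (Module.Finite.fg_top : (⊤ : Submodule Γ(X, U) Γ(M, U)).FG)
  have h1 : ∀ g : Γ(M, U), ∃ (S : Finset κ) (t : ∀ i, Γ(F i, U)),
      g = ∑ i ∈ S, ((Sigma.ι F i ≫ π).app U).hom (t i) := by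
    intro g
    obtain ⟨σ, rfl⟩ := Groth.Agent.Lib.helper16.QCohEpi.surjective_app_of_epi π hU g
    obtain ⟨S, t, rfl⟩ := sections_sum F U hU.isCompact σ
    refine ⟨S, t, ?_⟩
    rw [map_sum]
    rfl
  choose S t hSt using h1
  refine ⟨G.biUnion S, fun T' hT' => ?_⟩
  let N : Submodule Γ(X, U) Γ(M, U) :=
    { carrier := Set.range ((sub F T' ≫ π).app U).hom
      add_mem' := by
        rintro _ _ ⟨a, rfl⟩ ⟨b, rfl⟩
        exact ⟨a + b, map_add _ a b⟩
      zero_mem' := ⟨0, map_zero _⟩
      smul_mem' := by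
        rintro r _ ⟨a, rfl⟩
        exact ⟨r • a, Scheme.Modules.Hom.app_smul _ r a⟩ }
  suffices h : (⊤ : Submodule Γ(X, U) Γ(M, U)) ≤ N from fun m => h (Submodule.mem_top (x := m))
  rw [← hG, Submodule.span_le]
  intro g hg
  change g ∈ N
  rw [hSt g]
  refine Submodule.sum_mem _ fun i hi => ?_
  have hi' : i ∈ T' := hT' (Finset.mem_biUnion.mpr ⟨g, hg, hi⟩)
  refine ⟨((Sigma.ι (fun k : T' => F k.1) ⟨i, hi'⟩).app U).hom (t g i), ?_⟩
  have h2 : Sigma.ι (fun k : T' => F k.1) ⟨i, hi'⟩ ≫ sub F T' ≫ π = Sigma.ι F i ≫ π := by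
    rw [← Category.assoc, ι_sub]
  rw [← h2]
  rfl

include hF in
theorem exists_finset_epi [CompactSpace X]
    (hM : SheafOfModules.IsFiniteType.{u} (R := X.ringCatSheaf) M) :
    ∃ T : Finset κ, Epi (sub F T ≫ π) := by
  classical
  obtain ⟨𝒰, h𝒰⟩ := isCompact_univ.elim_finite_subcover
    (fun U : X.affineOpens => ((U.1 : X.Opens) : Set X)) (fun U => U.1.2) (by
      intro x _
      obtain ⟨_, ⟨U, hU, rfl⟩, hxU, -⟩ := X.isBasis_affineOpens.exists_subset_of_mem_open
        (Set.mem_univ x) isOpen_univ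
      exact Set.mem_iUnion.mpr ⟨⟨U, hU⟩, hxU⟩)
  have h1 : ∀ U : X.affineOpens, ∃ T : Finset κ, ∀ T' : Finset κ, T ⊆ T' →
      Function.Surjective ((sub F T' ≫ π).app U.1).hom := by
    intro U
    have : Module.Finite Γ(X, U.1) Γ(M, U.1) :=
      Groth.Agent.Lib.helper16.CohFinite.finite_sections_of_isFiniteType M hM U.2
    exact exists_finset_surjective F hF M π U.1 U.2
  choose T hT using h1
  refine ⟨𝒰.biUnion T, ?_⟩
  refine Groth.Agent.Lib.helper16.QCohEpi.epi_of_surjective_on_affine_cover _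
    (fun U : 𝒰 => (U.1.1 : X.Opens)) (fun U => U.1.2) (fun x => ?_) (fun U => ?_)
  · have hx := h𝒰 (Set.mem_univ x)
    simp only [Set.mem_iUnion] at hx
    obtain ⟨U, hU, hxU⟩ := hx
    exact ⟨⟨U, hU⟩, hxU⟩
  · exact hT U.1 _ (Finset.subset_biUnion_of_mem T U.2)

end Groth.Agent.Lib.helper28.FinSubCoprod
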