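import Mathlib

/-!
# Flatness of a module of homogeneous fractions (helper28)

`flat_of_fractions`: `A` a graded `R`-algebra with `𝒜_i` flat over `R` for `i ≥ d₀`, `F ∈ 𝒜_d`,
`d > 0`.  A module `M` whose elements are, through an abstract relation `Rel t k m` ("`t = m / F^k`",
`m ∈ 𝒜_{k d + n}`), the fractions of degree `n` with denominator a power of `F`, is flat over `R`
(equational criterion).
-/

set_option autoImplicit false
universe u

namespace Groth.Agent.Lib.helper28.FlatFrac

open scoped BigOperators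

variable {R A : Type u} [CommRing R] [CommRing A] [Algebra R A] {σ : Type u} [SetLike σ A]
  [AddSubgroupClass σ A] (𝒜 : ℕ → σ) [GradedRing 𝒜]

theorem mem_of_mem_span (hR : ∀ r : R, algebraMap R A r ∈ 𝒜 0) (i : ℕ) {x : A}
    (hx : x ∈ Submodule.span R (𝒜 i : Set A)) : x ∈ 𝒜 i := by
  induction hx using Submodule.span_induction with
  | mem x hx => exact hx
  | zero => exact zero_mem _
  | add x y _ _ hx hy => exact add_mem hx hy
  | smul r x _ hx =>
    rw [Algebra.smul_def]
    have := SetLike.mul_mem_graded (hR r) hx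
    rwa [zero_add] at this

/-- A module all of whose elements are "fractions `m / F^k`" with `m` homogeneous of degree
`k d + n` is flat over `R` as soon as the high degree pieces of `A` are. -/
theorem flat_of_fractions (hR : ∀ r : R, algebraMap R A r ∈ 𝒜 0)
    {d : ℕ} (hd : 0 < d) (F : A) (hF : F ∈ 𝒜 d) (n : ℤ) (d₀ : ℕ)
    (hflat : ∀ i, d₀ ≤ i → Module.Flat R ↥(Submodule.span R (𝒜 i : Set A)))
    {M : Type u} [AddCommGroup M] [Module R M] (Rel : M → ℕ → A → Prop)
    (hex : ∀ t, ∃ (k i : ℕ) (m : A), m ∈ 𝒜 i ∧ (i : ℤ) = k * d + n ∧ Rel t k m)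
    (hmk : ∀ (k i : ℕ) (m : A), m ∈ 𝒜 i → (i : ℤ) = k * d + n → ∃ t, Rel t k m)
    (hmul : ∀ (t : M) (k j : ℕ) (m : A), Rel t k m → Rel t (k + j) (F ^ j * m))
    (hadd : ∀ (t t' : M) (k : ℕ) (m m' : A), Rel t k m → Rel t' k m' → Rel (t + t') k (m + m'))
    (hsmul : ∀ (r : R) (t : M) (k : ℕ) (m : A), Rel t k m → Rel (r • t) k (algebraMap R A r * m))
    (hzero : ∀ k, Rel 0 k 0)
    (huniq : ∀ (t t' : M) (k : ℕ) (m : A), Rel t k m → Rel t' k m → t = t')
    (hker : ∀ (k i : ℕ) (m : A), m ∈ 𝒜 i → Rel 0 k m → ∃ N : ℕ, F ^ N * m = 0) :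
    Module.Flat R M := by
  classical
  refine Module.Flat.of_forall_isTrivialRelation fun {l} {f} {x} hfx => ?_
  choose k i m hm hi hrel using hex
  -- common exponent
  let K : ℕ := (Finset.univ.sup fun a : Fin l => k (x a)) + d₀ + n.natAbs
  have hkK : ∀ a, k (x a) ≤ K := fun a =>
    (Finset.le_sup (f := fun a : Fin l => k (x a)) (Finset.mem_univ a)).trans (by omega)
  have hd1 : (1 : ℤ) ≤ d := by exact_mod_cast hd
  have hK1 : (K : ℤ) ≤ (K : ℤ) * d := by nlinarith [Int.natCast_nonneg K]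
  have hK2 : (d₀ : ℤ) + n.natAbs ≤ K := by
    have : d₀ + n.natAbs ≤ K := by omega
    exact_mod_cast this
  have hK3 : (d₀ : ℤ) ≤ (K : ℤ) * d + n := by omega
  obtain ⟨I, hI⟩ := Int.eq_ofNat_of_zero_le (a := (K : ℤ) * d + n) (by omega)
  have hId₀ : d₀ ≤ I := by
    have : (d₀ : ℤ) ≤ (I : ℤ) := by rw [← hI]; exact hK3
    exact_mod_cast this
  -- bring everything to exponent `K`
  let m' : Fin l → A := fun a => F ^ (K - k (x a)) * m (x a)
  have hm' : ∀ a, m' a ∈ 𝒜 I := by
    intro a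
    have h1 : F ^ (K - k (x a)) ∈ 𝒜 ((K - k (x a)) • d) := SetLike.pow_mem_graded _ hF
    have h2 := SetLike.mul_mem_graded h1 (hm (x a))
    have e : (K - k (x a)) • d + i (x a) = I := by
      have h3 : (((K - k (x a)) • d + i (x a) : ℕ) : ℤ) = (I : ℤ) := by
        rw [← hI, Nat.cast_add, hi (x a), smul_eq_mul, Nat.cast_mul, Nat.cast_sub (hkK a)]
        ring
      exact_mod_cast h3
    rw [e] at h2
    exact h2
  have hrel' : ∀ a, Rel (x a) K (m' a) := by
    intro a
    have h1 := hmul (x a) (k (x a)) (K - k (x a)) (m (x a)) (hrel (x a))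
    rwa [Nat.add_sub_cancel' (hkK a)] at h1
  -- the relation at exponent `K`
  have hsum : ∀ s : Finset (Fin l), Rel (∑ a ∈ s, f a • x a) K (∑ a ∈ s, algebraMap R A (f a) * m' a) := by
    intro s
    induction s using Finset.induction_on with
    | empty => simpa using hzero K
    | insert a s ha ih =>
      rw [Finset.sum_insert ha, Finset.sum_insert ha]
      exact hadd _ _ _ _ _ (hsmul _ _ _ _ (hrel' a)) ih
  have h0 := hsum Finset.univ
  rw [hfx] at h0
  have hμ : (∑ a, algebraMap R A (f a) * m' a) ∈ 𝒜 I := by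
    refine sum_mem fun a _ => ?_
    have := SetLike.mul_mem_graded (hR (f a)) (hm' a)
    rwa [zero_add] at this
  obtain ⟨N, hN⟩ := hker K I _ hμ h0
  -- pass to degree `J`
  let J : ℕ := N • d + I
  have hJ : d₀ ≤ J := le_trans hId₀ (Nat.le_add_left _ _)
  have hm'' : ∀ a, F ^ N * m' a ∈ 𝒜 J :=
    fun a => SetLike.mul_mem_graded (SetLike.pow_mem_graded N hF) (hm' a)
  let y0 : Fin l → ↥(Submodule.span R (𝒜 J : Set A)) :=
    fun a => ⟨F ^ N * m' a, Submodule.subset_span (hm'' a)⟩
  have hy0 : ∑ a, f a • y0 a = 0 := by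
    apply Subtype.ext
    rw [Submodule.coe_sum]
    simp only [Submodule.coe_smul, Submodule.coe_zero, y0, Algebra.smul_def]
    rw [← hN, Finset.mul_sum]
    refine Finset.sum_congr rfl fun a _ => ?_
    ring
  have := hflat J hJ
  obtain ⟨κ, c, y, hy1, hy2⟩ := Module.Flat.isTrivialRelation_of_sum_smul_eq_zero hy0
  have hyJ : ∀ j, (y j : A) ∈ 𝒜 J := fun j => mem_of_mem_span 𝒜 hR J (y j).2
  have hJdeg : (J : ℤ) = ((K + N : ℕ) : ℤ) * d + n := by
    simp only [J]
    rw [smul_eq_mul, Nat.cast_add, ← hI]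
    push_cast
    ring
  have hu := fun j => hmk (K + N) J (y j : A) (hyJ j) hJdeg
  choose u hu using hu
  refine ⟨κ, c, u, fun a => ?_, hy2⟩
  have hsum2 : ∀ s : Finset (Fin κ), Rel (∑ j ∈ s, c a j • u j) (K + N)
      (∑ j ∈ s, algebraMap R A (c a j) * (y j : A)) := by
    intro s
    induction s using Finset.induction_on with
    | empty => simpa using hzero (K + N)
    | insert j s hj ih =>
      rw [Finset.sum_insert hj, Finset.sum_insert hj]
      exact hadd _ _ _ _ _ (hsmul _ _ _ _ (hu j)) ih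
  have h1 := hsum2 Finset.univ
  have h2 : (∑ j, algebraMap R A (c a j) * (y j : A)) = F ^ N * m' a := by
    have := congrArg (fun z : ↥(Submodule.span R (𝒜 J : Set A)) => (z : A)) (hy1 a)
    simp only [y0, Submodule.coe_sum, Submodule.coe_smul, Algebra.smul_def] at this
    exact this.symm
  rw [h2] at h1
  exact huniq _ _ _ _ (hmul _ _ N _ (hrel' a)) h1

end Groth.Agent.Lib.helper28.FlatFrac
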