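import Groth.Agent.Lib.Helper28.GMTildeQCoh
import Groth.Agent.Lib.Helper2.ModSec3
import Groth.Prelude.Def_RelProj3

/-!
# The comap of `M(n)~` along a bijective semilinear map is an isomorphism (helper28)
-/

set_option autoImplicit false
universe u

open CategoryTheory AlgebraicGeometry Opposite TopologicalSpace
open scoped HomogeneousIdeal

namespace Groth.Agent.Lib.helper28.GMTildeComap

open Groth.Agent.Lib.helper28.GFrac Groth.Agent.Lib.helper28.GMTildeSec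
  Groth.Agent.Lib.helper28.GMTildeQCoh

section Decompose

variable {M τ : Type u} [AddCommGroup M] [SetLike τ M] [AddSubgroupClass τ M]
  (ℳ : ℕ → τ) [DirectSum.Decomposition ℳ]
variable {N τ' : Type u} [AddCommGroup N] [SetLike τ' N] [AddSubgroupClass τ' N]
  (𝒩 : ℕ → τ') [DirectSum.Decomposition 𝒩]

/-- A degree-preserving additive map commutes with taking homogeneous components. -/
theorem decompose_map_add (u : M →+ N) (hu : ∀ (i : ℕ) (m : M), m ∈ ℳ i → u m ∈ 𝒩 i) (x : M)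
    (j : ℕ) : (DirectSum.decompose 𝒩 (u x) j : N) = u (DirectSum.decompose ℳ x j : M) := by
  classical
  conv_lhs => rw [← DirectSum.sum_support_decompose ℳ x, map_sum, DirectSum.decompose_sum]
  rw [DFinsupp.finset_sum_apply, AddSubmonoidClass.coe_finset_sum]
  by_cases hj : j ∈ (DirectSum.decompose ℳ x).support
  · rw [Finset.sum_eq_single j]
    · rw [DirectSum.decompose_of_mem_same 𝒩 (hu j _ (SetLike.coe_mem _))]
    · intro l _ hlj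
      rw [DirectSum.decompose_of_mem_ne 𝒩 (hu l _ (SetLike.coe_mem _)) hlj]
    · intro h; exact absurd hj h
  · have h0 : (DirectSum.decompose ℳ x j : M) = 0 := by
      have := DFinsupp.notMem_support_iff.mp hj
      rw [this]; rfl
    rw [h0, map_zero]
    refine Finset.sum_eq_zero fun l hl => ?_
    have hlj : l ≠ j := fun h => hj (h ▸ hl)
    rw [DirectSum.decompose_of_mem_ne 𝒩 (hu l _ (SetLike.coe_mem _)) hlj]

end Decompose

variable {A σ : Type u} [CommRing A] [SetLike σ A] [AddSubgroupClass σ A] (𝒜 : ℕ → σ)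
  [GradedRing 𝒜]

/-- The `D₊(f)`, `f` homogeneous of positive degree, form a basis of `Proj`. -/
theorem isBasis_basicOpen_pos :
    Opens.IsBasis {U : (Proj 𝒜).Opens | ∃ (d : ℕ) (f : A), 0 < d ∧ f ∈ 𝒜 d ∧
      U = Proj.basicOpen 𝒜 f} := by
  rw [Opens.isBasis_iff_nbhd]
  intro U x hx
  obtain ⟨k, h, hh, hhx, hhU⟩ := exists_homogeneous_basicOpen 𝒜 U x hx
  have hx' : x ∈ (⊤ : (Proj 𝒜).Opens) := trivial
  rw [← iSup_basicOpen_eq_top 𝒜, Opens.mem_iSup] at hx'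
  obtain ⟨⟨e, g⟩, hxg⟩ := hx'
  have hgx : g.1 ∉ x.asHomogeneousIdeal := (ProjectiveSpectrum.mem_basicOpen 𝒜 _ x).mp hxg
  refine ⟨Proj.basicOpen 𝒜 (h * g.1), ⟨k + e, h * g.1, Nat.add_pos_right k e.2,
    SetLike.mul_mem_graded hh g.2, rfl⟩, ?_, ?_⟩
  · refine (ProjectiveSpectrum.mem_basicOpen 𝒜 _ x).mpr fun hmem => ?_
    exact (x.isPrime.mem_or_mem hmem).elim hhx hgx
  · intro z hz
    have hz' : h * g.1 ∉ z.asHomogeneousIdeal := (ProjectiveSpectrum.mem_basicOpen 𝒜 _ z).mp hz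
    exact hhU z (notMem_of_mul_notMem_left 𝒜 z hz')

variable {M τ : Type u} [AddCommGroup M] [Module A M] [SetLike τ M] [AddSubgroupClass τ M]
  (ℳ : ℕ → τ) [DirectSum.Decomposition ℳ] [SetLike.GradedSMul 𝒜 ℳ]

/-- Sections of `M(n)~` over (an open equal to) `D₊(F)` are single fractions. -/
theorem sect_eq_fraction' (n : ℤ) {d : ℕ} (hd : 0 < d) {F : A} (hF : F ∈ 𝒜 d)
    (W : Opens (ProjectiveSpectrum.top 𝒜)) (hW : W = ProjectiveSpectrum.basicOpen 𝒜 F)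
    (s : GrMod.sect 𝒜 ℳ n (op W)) :
    ∃ (k i : ℕ) (m : ℳ i) (hk : ∀ x : W, F ^ k ∉ x.1.asHomogeneousIdeal), (i : ℤ) = k * d + n ∧
      ∀ x : W, ((s.1 x : GrMod.tildeAt 𝒜 ℳ n x.1) : GrMod.LocMod 𝒜 (M := M) x.1) =
          (LocalizedModule.mk m.1 ⟨F ^ k, hk x⟩ : GrMod.LocMod 𝒜 (M := M) x.1) := by
  subst hW
  obtain ⟨k, i, m, hi, h⟩ := sect_eq_fraction 𝒜 ℳ n hd hF s
  exact ⟨k, i, m, _, hi, h⟩

variable {B σ' : Type u} [CommRing B] [SetLike σ' B] [AddSubgroupClass σ' B] (ℬ : ℕ → σ')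
  [GradedRing ℬ]
variable {N τ' : Type u} [AddCommGroup N] [Module B N] [SetLike τ' N] [AddSubgroupClass τ' N]
  (𝒩 : ℕ → τ') [DirectSum.Decomposition 𝒩] [SetLike.GradedSMul ℬ 𝒩]

variable {𝒜 ℬ} in
theorem mem_preimage_basicOpen_iff (ψ : 𝒜 →+*ᵍ ℬ) (hψ : ℬ₊ ≤ (𝒜₊).map ψ) (f : A)
    (y : ProjectiveSpectrum ℬ) :
    (show ↥(Proj ℬ) from y) ∈ (Proj.map ψ hψ ⁻¹ᵁ (Proj.basicOpen 𝒜 f) : (Proj ℬ).Opens) ↔
      ψ f ∉ y.asHomogeneousIdeal := by
  change ProjectiveSpectrum.comap ψ hψ y ∈ ProjectiveSpectrum.basicOpen 𝒜 f ↔ _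
  rw [ProjectiveSpectrum.mem_basicOpen]
  rfl

variable {𝒜 ℬ} in
theorem bijective_comap_app (ψ : 𝒜 →+*ᵍ ℬ) (hψ : ℬ₊ ≤ (𝒜₊).map ψ)
    (v : M →ₛₗ[ψ.toRingHom] N) (hv : ∀ (i : ℕ) (m : M), m ∈ ℳ i → v m ∈ 𝒩 i)
    (hbij : Function.Bijective v) (n : ℤ) {d : ℕ} (hd : 0 < d) (f : A) (hf : f ∈ 𝒜 d) :
    Function.Bijective ((GrMod.comap ψ hψ v hv n).app (Proj.basicOpen 𝒜 f)) := by
  have hψf : ψ f ∈ ℬ d := ψ.map_mem hf
  have hWeq : (Proj.map ψ hψ ⁻¹ᵁ (Proj.basicOpen 𝒜 f) : (Proj ℬ).Opens) =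
      ProjectiveSpectrum.basicOpen ℬ (ψ f) := by
    ext y
    exact (mem_preimage_basicOpen_iff ψ hψ f y).trans
      (ProjectiveSpectrum.mem_basicOpen ℬ (ψ f) y).symm
  have hvsmul : ∀ (a : A) (m : M), v (a • m) = ψ a • v m := fun a m => v.map_smulₛₗ a m
  constructor
  · rw [injective_iff_map_eq_zero]
    intro s h0
    obtain ⟨k, i, m, hi, hsm⟩ := sect_eq_fraction 𝒜 ℳ n hd hf (toSect 𝒜 ℳ s)
    obtain ⟨K, hK⟩ := exists_pow_smul_eq_zero ℬ 𝒩 hd hψf (hv i m.1 m.2) (fun y hy => by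
      have hyW : (show ↥(Proj ℬ) from y) ∈
          (Proj.map ψ hψ ⁻¹ᵁ (Proj.basicOpen 𝒜 f) : (Proj ℬ).Opens) :=
        (mem_preimage_basicOpen_iff ψ hψ f y).mpr hy
      have h1 : GrMod.val ((GrMod.comap ψ hψ v hv n).app (Proj.basicOpen 𝒜 f) s) ⟨y, hyW⟩ = 0 := by
        rw [h0]; rfl
      rw [GrMod.comap_app_val] at h1
      have h2 : GrMod.val s ⟨ProjectiveSpectrum.comap ψ hψ y, hyW⟩ = LocalizedModule.mk m.1 _ :=
        hsm ⟨_, hyW⟩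
      rw [h2, GrMod.locModMap_mk, mk_eq_zero_iff] at h1
      obtain ⟨w, hw⟩ := h1
      exact ⟨w.1, w.2, hw⟩)
    have hz : f ^ K • m.1 = 0 := by
      apply hbij.1
      rw [hvsmul, map_pow, hK, map_zero]
    refine sect_ext 𝒜 ℳ _ _ fun x => ?_
    refine (hsm x).trans ?_
    change LocalizedModule.mk _ _ = 0
    rw [mk_eq_zero_iff]
    exact ⟨⟨f ^ K, pow_notMem 𝒜 x.1 ((ProjectiveSpectrum.mem_basicOpen 𝒜 f x.1).mp x.2) K⟩, hz⟩
  · intro t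
    obtain ⟨k, i, y, hk, hi, hty⟩ := sect_eq_fraction' ℬ 𝒩 n hd hψf
      (Proj.map ψ hψ ⁻¹ᵁ (Proj.basicOpen 𝒜 f) : (Proj ℬ).Opens) hWeq (toSect ℬ 𝒩 t)
    obtain ⟨m, hm⟩ := hbij.2 y.1
    have hcomp : v (DirectSum.decompose ℳ m i : M) = y.1 := by
      have := decompose_map_add ℳ 𝒩 v.toAddMonoidHom hv m i
      refine Eq.trans this.symm ?_
      change ((DirectSum.decompose 𝒩 (v m) i : 𝒩 i) : N) = y.1
      rw [hm, DirectSum.decompose_of_mem_same 𝒩 y.2]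
    have hfk : f ^ k ∈ 𝒜 (k * d) := by
      have := SetLike.pow_mem_graded k hf
      simpa [smul_eq_mul] using this
    have hdeg : (i : ℤ) = ((k * d : ℕ) : ℤ) + n := by rw [hi]; push_cast; ring
    refine ⟨fracSect 𝒜 ℳ n (ProjectiveSpectrum.basicOpen 𝒜 f)
      (DirectSum.decompose ℳ m i) ⟨f ^ k, hfk⟩
      (fun x => pow_notMem 𝒜 x.1 ((ProjectiveSpectrum.mem_basicOpen 𝒜 f x.1).mp x.2) _) hdeg, ?_⟩
    refine sect_ext ℬ 𝒩 _ _ fun x => ?_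
    refine Eq.trans ?_ (hty x).symm
    change GrMod.locModMap ψ hψ v x.1 (LocalizedModule.mk _ _) = _
    rw [GrMod.locModMap_mk, hcomp, LocalizedModule.mk_eq]
    refine ⟨1, ?_⟩
    rw [one_smul, one_smul]
    change (ψ f) ^ k • y.1 = ψ (f ^ k) • y.1
    rw [map_pow]

variable {𝒜 ℬ} in
/-- **The comap of `M(n)~` along a degree-preserving bijective semilinear map is an isomorphism.** -/
theorem isIso_comap (ψ : 𝒜 →+*ᵍ ℬ) (hψ : ℬ₊ ≤ (𝒜₊).map ψ)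
    (v : M →ₛₗ[ψ.toRingHom] N) (hv : ∀ (i : ℕ) (m : M), m ∈ ℳ i → v m ∈ 𝒩 i)
    (hbij : Function.Bijective v) (n : ℤ) : IsIso (GrMod.comap ψ hψ v hv n) := by
  refine Groth.Agent.Lib.helper2.ModSec.isIso_of_bijective_basis _ _ (isBasis_basicOpen_pos 𝒜) ?_
  rintro U ⟨d, f, hd, hf, rfl⟩
  exact bijective_comap_app ℳ 𝒩 ψ hψ v hv hbij n hd f hf

end Groth.Agent.Lib.helper28.GMTildeComap
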