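import Groth.Agent.Lib.Helper28.GMTildeQCoh

/-!
# Exactness of `M ↦ M(n)~` on sections over `D₊(f)` (helper28)
-/

set_option autoImplicit false
universe u

open CategoryTheory AlgebraicGeometry Opposite TopologicalSpace

namespace Groth.Agent.Lib.helper28.GMTildeExact

open Groth.Agent.Lib.helper28.GFrac Groth.Agent.Lib.helper28.GMTildeSec
  Groth.Agent.Lib.helper28.GMTildeQCoh

section Decompose

variable {A : Type u} [CommRing A]
variable {M τ : Type u} [AddCommGroup M] [Module A M] [SetLike τ M] [AddSubgroupClass τ M]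
  (ℳ : ℕ → τ) [DirectSum.Decomposition ℳ]
variable {N τ' : Type u} [AddCommGroup N] [Module A N] [SetLike τ' N] [AddSubgroupClass τ' N]
  (𝒩 : ℕ → τ') [DirectSum.Decomposition 𝒩]

/-- A degree-preserving linear map commutes with taking homogeneous components. -/
theorem decompose_map (u : M →ₗ[A] N) (hu : ∀ (i : ℕ) (m : M), m ∈ ℳ i → u m ∈ 𝒩 i) (x : M)
    (j : ℕ) : (DirectSum.decompose 𝒩 (u x) j : N) = u (DirectSum.decompose ℳ x j : M) := by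
  classical
  conv_lhs => rw [← DirectSum.sum_support_decompose ℳ x, map_sum, DirectSum.decompose_sum]
  rw [DFinsupp.finset_sum_apply, AddSubmonoidClass.coe_finset_sum]
  by_cases hj : j ∈ (DirectSum.decompose ℳ x).support
  · rw [Finset.sum_eq_single j]
    · rw [DirectSum.decompose_of_mem_same 𝒩 (hu j _ (SetLike.coe_mem _))]
    · intro l _ hlj
      rw [DirectSum.decompose_of_mem_ne 𝒩 (hu l _ (SetLike.coe_mem _)) hlj]
    · intro h; exact absurd hj h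
  · have h0 : (DirectSum.decompose ℳ x j : M) = 0 := by
      have := DFinsupp.notMem_support_iff.mp hj
      rw [this]; rfl
    rw [h0, map_zero]
    refine Finset.sum_eq_zero fun l hl => ?_
    have hlj : l ≠ j := fun h => hj (h ▸ hl)
    rw [DirectSum.decompose_of_mem_ne 𝒩 (hu l _ (SetLike.coe_mem _)) hlj]

end Decompose

variable {A σ : Type u} [CommRing A] [SetLike σ A] [AddSubgroupClass σ A] (𝒜 : ℕ → σ)
  [GradedRing 𝒜]
variable {M₁ τ₁ : Type u} [AddCommGroup M₁] [Module A M₁] [SetLike τ₁ M₁] [AddSubgroupClass τ₁ M₁]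
  (ℳ₁ : ℕ → τ₁) [SetLike.GradedSMul 𝒜 ℳ₁] [DirectSum.Decomposition ℳ₁]
variable {M₂ τ₂ : Type u} [AddCommGroup M₂] [Module A M₂] [SetLike τ₂ M₂] [AddSubgroupClass τ₂ M₂]
  (ℳ₂ : ℕ → τ₂) [SetLike.GradedSMul 𝒜 ℳ₂] [DirectSum.Decomposition ℳ₂]
variable {M₃ τ₃ : Type u} [AddCommGroup M₃] [Module A M₃] [SetLike τ₃ M₃] [AddSubgroupClass τ₃ M₃]
  (ℳ₃ : ℕ → τ₃) [SetLike.GradedSMul 𝒜 ℳ₃] [DirectSum.Decomposition ℳ₃]

theorem exact_app_basicOpen
    (u : M₁ →ₗ[A] M₂) (hu : ∀ (i : ℕ) (m : M₁), m ∈ ℳ₁ i → u m ∈ ℳ₂ i)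
    (v : M₂ →ₗ[A] M₃) (hv : ∀ (i : ℕ) (m : M₂), m ∈ ℳ₂ i → v m ∈ ℳ₃ i)
    (hex : Function.Exact u v) (n : ℤ) {d : ℕ} (hd : 0 < d) (f : A) (hf : f ∈ 𝒜 d) :
    Function.Exact ((GrMod.map 𝒜 u hu n).app (Proj.basicOpen 𝒜 f))
      ((GrMod.map 𝒜 v hv n).app (Proj.basicOpen 𝒜 f)) := by
  intro s₂
  constructor
  · intro h0
    obtain ⟨k, i, m, hi, hsm⟩ := sect_eq_fraction 𝒜 ℳ₂ n hd hf (toSect 𝒜 ℳ₂ s₂)
    -- `f ^ N • v m = 0`
    obtain ⟨N, hN⟩ := exists_pow_smul_eq_zero 𝒜 ℳ₃ hd hf (hv i m.1 m.2) (fun y hy => by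
      have hyf : y ∈ Proj.basicOpen 𝒜 f := (ProjectiveSpectrum.mem_basicOpen 𝒜 f y).mpr hy
      have h1 : GrMod.val ((GrMod.map 𝒜 v hv n).app (Proj.basicOpen 𝒜 f) s₂) ⟨y, hyf⟩ = 0 := by
        rw [h0]; rfl
      rw [GrMod.map_app_val] at h1
      have h2 : GrMod.val s₂ ⟨y, hyf⟩ = LocalizedModule.mk m.1 _ := hsm ⟨y, hyf⟩
      rw [h2, GrMod.locMap_mk, mk_eq_zero_iff] at h1
      obtain ⟨w, hw⟩ := h1
      exact ⟨w.1, w.2, hw⟩)
    have hvz : v (f ^ N • m.1) = 0 := by rw [map_smul, hN]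
    obtain ⟨m₁, hm₁⟩ := (hex _).mp hvz
    have hfN : f ^ N ∈ 𝒜 (N * d) := by
      have := SetLike.pow_mem_graded N hf
      simpa [smul_eq_mul] using this
    have hmem : f ^ N • m.1 ∈ ℳ₂ (N * d + i) := SetLike.GradedSMul.smul_mem hfN m.2
    have hcomp : u (DirectSum.decompose ℳ₁ m₁ (N * d + i) : M₁) = f ^ N • m.1 := by
      rw [← decompose_map ℳ₁ ℳ₂ u hu, hm₁, DirectSum.decompose_of_mem_same ℳ₂ hmem]
    have hfNk : f ^ (N + k) ∈ 𝒜 ((N + k) * d) := by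
      have := SetLike.pow_mem_graded (N + k) hf
      simpa [smul_eq_mul] using this
    have hdeg : ((N * d + i : ℕ) : ℤ) = (((N + k) * d : ℕ) : ℤ) + n := by
      push_cast; rw [hi]; ring
    refine ⟨fracSect 𝒜 ℳ₁ n (ProjectiveSpectrum.basicOpen 𝒜 f)
      (DirectSum.decompose ℳ₁ m₁ (N * d + i)) ⟨f ^ (N + k), hfNk⟩
      (fun x => pow_notMem 𝒜 x.1 ((ProjectiveSpectrum.mem_basicOpen 𝒜 f x.1).mp x.2) _) hdeg, ?_⟩
    refine sect_ext 𝒜 ℳ₂ _ _ fun x => ?_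
    refine Eq.trans ?_ (hsm x).symm
    change GrMod.locMap u x.1 (LocalizedModule.mk _ _) = _
    rw [GrMod.locMap_mk, hcomp, LocalizedModule.mk_eq]
    refine ⟨1, ?_⟩
    rw [one_smul, one_smul]
    change (f ^ k) • f ^ N • m.1 = f ^ (N + k) • m.1
    rw [← mul_smul, ← pow_add, add_comm]
  · rintro ⟨s₁, rfl⟩
    refine sect_ext 𝒜 ℳ₃ _ _ fun x => ?_
    change GrMod.locMap v x.1 (GrMod.locMap u x.1 (GrMod.val s₁ x)) = 0
    induction GrMod.val s₁ x using LocalizedModule.induction_on with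
    | h m s =>
      rw [GrMod.locMap_mk, GrMod.locMap_mk, hex.apply_apply_eq_zero, LocalizedModule.zero_mk]

end Groth.Agent.Lib.helper28.GMTildeExact
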