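import Groth.Agent.Lib.Helper28.GMTildeExact

/-!
# (TN)-injective / (TN)-surjective graded maps induce injective / surjective maps of sections of
`M(n)~` over `D₊(f)` (helper28)
-/

set_option autoImplicit false
universe u

open CategoryTheory AlgebraicGeometry Opposite TopologicalSpace

namespace Groth.Agent.Lib.helper28.GMTildeInjSurj

open Groth.Agent.Lib.helper28.GFrac Groth.Agent.Lib.helper28.GMTildeSec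
  Groth.Agent.Lib.helper28.GMTildeQCoh Groth.Agent.Lib.helper28.GMTildeExact

variable {A σ : Type u} [CommRing A] [SetLike σ A] [AddSubgroupClass σ A] (𝒜 : ℕ → σ)
  [GradedRing 𝒜]
variable {M₁ τ₁ : Type u} [AddCommGroup M₁] [Module A M₁] [SetLike τ₁ M₁] [AddSubgroupClass τ₁ M₁]
  (ℳ₁ : ℕ → τ₁) [SetLike.GradedSMul 𝒜 ℳ₁] [DirectSum.Decomposition ℳ₁]
variable {M₂ τ₂ : Type u} [AddCommGroup M₂] [Module A M₂] [SetLike τ₂ M₂] [AddSubgroupClass τ₂ M₂]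
  (ℳ₂ : ℕ → τ₂) [SetLike.GradedSMul 𝒜 ℳ₂] [DirectSum.Decomposition ℳ₂]
variable {M₃ τ₃ : Type u} [AddCommGroup M₃] [Module A M₃] [SetLike τ₃ M₃] [AddSubgroupClass τ₃ M₃]
  (ℳ₃ : ℕ → τ₃) [SetLike.GradedSMul 𝒜 ℳ₃] [DirectSum.Decomposition ℳ₃]

theorem pow_mem_deg {d : ℕ} {f : A} (hf : f ∈ 𝒜 d) (k : ℕ) : f ^ k ∈ 𝒜 (k * d) := by
  have := SetLike.pow_mem_graded k hf
  simpa [smul_eq_mul] using this

/-- A (TN)-injective graded map induces an injective map on sections over `D₊(f)`. -/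
theorem injective_app_basicOpen
    (u : M₁ →ₗ[A] M₂) (hu : ∀ (i : ℕ) (m : M₁), m ∈ ℳ₁ i → u m ∈ ℳ₂ i)
    (hinj : ∃ n₀ : ℕ, ∀ k : ℕ, n₀ ≤ k → ∀ m ∈ ℳ₁ k, u m = 0 → m = 0)
    (n : ℤ) {d : ℕ} (hd : 0 < d) (f : A) (hf : f ∈ 𝒜 d)
    (V : (Proj 𝒜).Opens) (hV : V = Proj.basicOpen 𝒜 f) :
    Function.Injective ((GrMod.map 𝒜 u hu n).app V) := by
  subst hV
  obtain ⟨n₀, hn₀⟩ := hinj
  rw [injective_iff_map_eq_zero]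
  intro s h0
  obtain ⟨k, i, m, hi, hsm⟩ := sect_eq_fraction 𝒜 ℳ₁ n hd hf (toSect 𝒜 ℳ₁ s)
  obtain ⟨N, hN⟩ := exists_pow_smul_eq_zero 𝒜 ℳ₂ hd hf (hu i m.1 m.2) (fun y hy => by
    have hyf : y ∈ Proj.basicOpen 𝒜 f := (ProjectiveSpectrum.mem_basicOpen 𝒜 f y).mpr hy
    have h1 : GrMod.val ((GrMod.map 𝒜 u hu n).app (Proj.basicOpen 𝒜 f) s) ⟨y, hyf⟩ = 0 := by
      rw [h0]; rfl
    rw [GrMod.map_app_val] at h1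
    have h2 : GrMod.val s ⟨y, hyf⟩ = LocalizedModule.mk m.1 _ := hsm ⟨y, hyf⟩
    rw [h2, GrMod.locMap_mk, mk_eq_zero_iff] at h1
    obtain ⟨w, hw⟩ := h1
    exact ⟨w.1, w.2, hw⟩)
  have hmem : f ^ (N + n₀) • m.1 ∈ ℳ₁ ((N + n₀) * d + i) :=
    SetLike.GradedSMul.smul_mem (pow_mem_deg 𝒜 hf _) m.2
  have hle : n₀ ≤ (N + n₀) * d + i := by
    have : N + n₀ ≤ (N + n₀) * d := Nat.le_mul_of_pos_right _ hd
    omega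
  have hzero : f ^ (N + n₀) • m.1 = 0 := by
    refine hn₀ _ hle _ hmem ?_
    rw [map_smul, add_comm, pow_add, mul_smul, hN, smul_zero]
  refine sect_ext 𝒜 ℳ₁ _ _ fun x => ?_
  refine (hsm x).trans ?_
  change _ = (0 : GrMod.LocMod 𝒜 (M := M₁) x.1)
  rw [mk_eq_zero_iff]
  exact ⟨⟨f ^ (N + n₀), pow_notMem 𝒜 x.1 ((ProjectiveSpectrum.mem_basicOpen 𝒜 f x.1).mp x.2) _⟩,
    hzero⟩

/-- A (TN)-surjective graded map induces a surjective map on sections over `D₊(f)`. -/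
theorem surjective_app_basicOpen
    (u : M₁ →ₗ[A] M₂) (hu : ∀ (i : ℕ) (m : M₁), m ∈ ℳ₁ i → u m ∈ ℳ₂ i)
    (hsurj : ∃ n₀ : ℕ, ∀ k : ℕ, n₀ ≤ k → ∀ m' ∈ ℳ₂ k, ∃ m ∈ ℳ₁ k, u m = m')
    (n : ℤ) {d : ℕ} (hd : 0 < d) (f : A) (hf : f ∈ 𝒜 d)
    (V : (Proj 𝒜).Opens) (hV : V = Proj.basicOpen 𝒜 f) :
    Function.Surjective ((GrMod.map 𝒜 u hu n).app V) := by
  subst hV
  obtain ⟨n₀, hn₀⟩ := hsurj
  intro t
  obtain ⟨k, i, m', hi, htm⟩ := sect_eq_fraction 𝒜 ℳ₂ n hd hf (toSect 𝒜 ℳ₂ t)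
  have hmem : f ^ n₀ • m'.1 ∈ ℳ₂ (n₀ * d + i) :=
    SetLike.GradedSMul.smul_mem (pow_mem_deg 𝒜 hf _) m'.2
  have hle : n₀ ≤ n₀ * d + i := by
    have : n₀ ≤ n₀ * d := Nat.le_mul_of_pos_right _ hd
    omega
  obtain ⟨m, hm, hum⟩ := hn₀ _ hle _ hmem
  have hdeg : ((n₀ * d + i : ℕ) : ℤ) = (((n₀ + k) * d : ℕ) : ℤ) + n := by
    push_cast; rw [hi]; ring
  refine ⟨fracSect 𝒜 ℳ₁ n (ProjectiveSpectrum.basicOpen 𝒜 f) ⟨m, hm⟩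
    ⟨f ^ (n₀ + k), pow_mem_deg 𝒜 hf _⟩
    (fun x => pow_notMem 𝒜 x.1 ((ProjectiveSpectrum.mem_basicOpen 𝒜 f x.1).mp x.2) _) hdeg, ?_⟩
  refine sect_ext 𝒜 ℳ₂ _ _ fun x => ?_
  refine Eq.trans ?_ (htm x).symm
  change GrMod.locMap u x.1 (LocalizedModule.mk _ _) = _
  rw [GrMod.locMap_mk, LocalizedModule.mk_eq]
  refine ⟨1, ?_⟩
  rw [one_smul, one_smul]
  change (f ^ k) • u m = f ^ (n₀ + k) • m'.1
  rw [hum, ← mul_smul, ← pow_add, add_comm]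

/-- Exactness on sections over an open equal to `D₊(f)`. -/
theorem exact_app_basicOpen'
    (u : M₁ →ₗ[A] M₂) (hu : ∀ (i : ℕ) (m : M₁), m ∈ ℳ₁ i → u m ∈ ℳ₂ i)
    (v : M₂ →ₗ[A] M₃) (hv : ∀ (i : ℕ) (m : M₂), m ∈ ℳ₂ i → v m ∈ ℳ₃ i)
    (hex : Function.Exact u v) (n : ℤ) {d : ℕ} (hd : 0 < d) (f : A) (hf : f ∈ 𝒜 d)
    (V : (Proj 𝒜).Opens) (hV : V = Proj.basicOpen 𝒜 f) :
    Function.Exact ((GrMod.map 𝒜 u hu n).app V) ((GrMod.map 𝒜 v hv n).app V) := by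
  subst hV
  exact exact_app_basicOpen 𝒜 ℳ₁ ℳ₂ ℳ₃ u hu v hv hex n hd f hf

end Groth.Agent.Lib.helper28.GMTildeInjSurj
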