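import Groth.Agent.Lib.Helper28.GTwistFree

/-!
# Pointwise multiplication `O(m) × O(n) → O(m + n)` on `Proj`
-/

set_option autoImplicit false
universe u

open CategoryTheory AlgebraicGeometry Opposite TopologicalSpace

namespace Groth.Agent.Lib.helper28.GTwistMul

open Groth.Agent.Lib.helper28.GFrac Groth.Agent.Lib.helper28.GTwistSec
  Groth.Agent.Lib.helper28.GTwistFree

variable {A σ : Type u} [CommRing A] [SetLike σ A] [AddSubgroupClass σ A] (𝒜 : ℕ → σ)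
  [GradedRing 𝒜]

/-- Every element of `twistAt n x` is a single fraction `a / s` (with `deg a = deg s + n`, or
`a = 0`). -/
theorem exists_fraction_of_mem (n : ℤ) (x : ProjectiveSpectrum 𝒜) (q : GrTwist.Loc 𝒜 x)
    (hq : q ∈ GrTwist.twistAt 𝒜 n x) :
    ∃ (i j : ℕ) (a : 𝒜 i) (s : 𝒜 j) (hs : s.1 ∉ x.asHomogeneousIdeal),
      ((i : ℤ) = j + n ∨ a.1 = 0) ∧ q = Localization.mk a.1 ⟨s.1, hs⟩ := by
  have h1x : (1 : A) ∉ x.asHomogeneousIdeal := fun h =>
    x.isPrime.ne_top ((Ideal.eq_top_iff_one _).mpr h)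
  induction hq using Submodule.span_induction with
  | mem z hz =>
    obtain ⟨i, j, a, s, hs, hij, rfl⟩ := hz
    exact ⟨i, j, a, s, hs, Or.inl hij, rfl⟩
  | zero =>
    exact ⟨0, 0, 0, ⟨1, SetLike.GradedOne.one_mem⟩, h1x, Or.inr rfl, by
      simp [Localization.mk_zero]⟩
  | add y z _ _ hy hz =>
    obtain ⟨i, j, a, s, hs, hij, rfl⟩ := hy
    obtain ⟨i', j', a', s', hs', hij', rfl⟩ := hz
    have hss' : s.1 * s'.1 ∉ x.asHomogeneousIdeal := fun h =>
      (x.isPrime.mem_or_mem h).elim hs hs'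
    have key : (Localization.mk a.1 ⟨s.1, hs⟩ + Localization.mk a'.1 ⟨s'.1, hs'⟩ : GrTwist.Loc 𝒜 x) =
        Localization.mk (s.1 * a'.1 + s'.1 * a.1) ⟨s.1 * s'.1, hss'⟩ := by
      rw [Localization.add_mk]
      rfl
    rcases hij with hij | ha
    · rcases hij' with hij' | ha'
      · refine ⟨j + i', j + j', ⟨s.1 * a'.1 + s'.1 * a.1, add_mem
          (SetLike.mul_mem_graded s.2 a'.2) ?_⟩, ⟨s.1 * s'.1, SetLike.mul_mem_graded s.2 s'.2⟩,
          hss', Or.inl (by push_cast; omega), key⟩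
        have e : j' + i = j + i' := by omega
        exact e ▸ SetLike.mul_mem_graded s'.2 a.2
      · refine ⟨j' + i, j + j', ⟨s.1 * a'.1 + s'.1 * a.1, ?_⟩,
          ⟨s.1 * s'.1, SetLike.mul_mem_graded s.2 s'.2⟩, hss', Or.inl (by push_cast; omega), key⟩
        rw [ha', mul_zero, zero_add]
        exact SetLike.mul_mem_graded s'.2 a.2
    · refine ⟨j + i', j + j', ⟨s.1 * a'.1 + s'.1 * a.1, ?_⟩,
        ⟨s.1 * s'.1, SetLike.mul_mem_graded s.2 s'.2⟩, hss', ?_, key⟩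
      · rw [ha, mul_zero, add_zero]
        exact SetLike.mul_mem_graded s.2 a'.2
      · rcases hij' with hij' | ha'
        · exact Or.inl (by push_cast; omega)
        · exact Or.inr (show s.1 * a'.1 + s'.1 * a.1 = 0 by rw [ha, ha', mul_zero, mul_zero, add_zero])
  | smul c y _ hy =>
    obtain ⟨i, j, a, s, hs, hij, rfl⟩ := hy
    obtain ⟨⟨e, r, t, ht⟩, rfl⟩ := HomogeneousLocalization.mk_surjective c
    have hts : t.1 * s.1 ∉ x.asHomogeneousIdeal := fun h =>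
      (x.isPrime.mem_or_mem h).elim ht hs
    refine ⟨e + i, e + j, ⟨r.1 * a.1, SetLike.mul_mem_graded r.2 a.2⟩,
      ⟨t.1 * s.1, SetLike.mul_mem_graded t.2 s.2⟩, hts, ?_, ?_⟩
    · rcases hij with hij | ha
      · exact Or.inl (by push_cast; omega)
      · exact Or.inr (show r.1 * a.1 = 0 by rw [ha, mul_zero])
    · rw [Algebra.smul_def, HomogeneousLocalization.algebraMap_apply,
        HomogeneousLocalization.val_mk, Localization.mk_mul]
      rfl

/-- A fraction of the right degree (or zero) lies in `twistAt`. -/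
theorem mk_mem_twistAt (n : ℤ) (x : ProjectiveSpectrum 𝒜) {i j : ℕ} (a : 𝒜 i) (s : 𝒜 j)
    (hs : s.1 ∉ x.asHomogeneousIdeal) (h : (i : ℤ) = j + n ∨ a.1 = 0) :
    (Localization.mk a.1 ⟨s.1, hs⟩ : GrTwist.Loc 𝒜 x) ∈ GrTwist.twistAt 𝒜 n x := by
  rcases h with h | h
  · exact Submodule.subset_span ⟨i, j, a, s, hs, h, rfl⟩
  · rw [h, Localization.mk_zero]
    exact zero_mem _

theorem mul_mem_twistAt (m n : ℤ) (x : ProjectiveSpectrum 𝒜) {q q' : GrTwist.Loc 𝒜 x}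
    (hq : q ∈ GrTwist.twistAt 𝒜 m x) (hq' : q' ∈ GrTwist.twistAt 𝒜 n x) :
    q * q' ∈ GrTwist.twistAt 𝒜 (m + n) x := by
  obtain ⟨i, j, a, s, hs, hij, rfl⟩ := exists_fraction_of_mem 𝒜 m x q hq
  obtain ⟨i', j', a', s', hs', hij', rfl⟩ := exists_fraction_of_mem 𝒜 n x q' hq'
  have hss' : s.1 * s'.1 ∉ x.asHomogeneousIdeal := fun h =>
    (x.isPrime.mem_or_mem h).elim hs hs'
  rw [Localization.mk_mul]
  refine mk_mem_twistAt 𝒜 (m + n) x ⟨a.1 * a'.1, SetLike.mul_mem_graded a.2 a'.2⟩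
    ⟨s.1 * s'.1, SetLike.mul_mem_graded s.2 s'.2⟩ hss' ?_
  rcases hij with hij | ha
  · rcases hij' with hij' | ha'
    · exact Or.inl (by push_cast; omega)
    · exact Or.inr (show a.1 * a'.1 = 0 by rw [ha', mul_zero])
  · exact Or.inr (show a.1 * a'.1 = 0 by rw [ha, zero_mul])

/-- Pointwise product of a section of `O(m)` and a section of `O(n)`. -/
def mulFun (m n : ℤ) (U : Opens (ProjectiveSpectrum.top 𝒜)) (s : GrTwist.sectN (𝒜 := 𝒜) m (op U))
    (t : GrTwist.sectN (𝒜 := 𝒜) n (op U)) : GrTwist.sectN (𝒜 := 𝒜) (m + n) (op U) :=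
  ⟨fun x => ⟨(s.1 x).1 * (t.1 x).1, mul_mem_twistAt 𝒜 m n x.1 (s.1 x).2 (t.1 x).2⟩, fun x => by
    obtain ⟨Va, ma, ia, i, j, a, g, nina, ca, wa⟩ := s.2 x
    obtain ⟨Vb, mb, ib, i', j', a', g', ninb, cb, wb⟩ := t.2 x
    have nin : ∀ y : (Va ⊓ Vb : Opens _), g.1 * g'.1 ∉ y.1.asHomogeneousIdeal := fun y h =>
      ((y.1.isPrime.mem_or_mem h).elim (nina ⟨y.1, y.2.1⟩)) (ninb ⟨y.1, y.2.2⟩)
    refine ⟨Va ⊓ Vb, ⟨ma, mb⟩, Opens.infLELeft _ _ ≫ ia, i + i', j + j',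
      ⟨a.1 * a'.1, SetLike.mul_mem_graded a.2 a'.2⟩, ⟨g.1 * g'.1, SetLike.mul_mem_graded g.2 g'.2⟩,
      nin, ?_, fun y => ?_⟩
    · rcases ca with ca | ca
      · rcases cb with cb | cb
        · exact Or.inl (by push_cast; omega)
        · exact Or.inr (show a.1 * a'.1 = 0 by rw [cb, mul_zero])
      · exact Or.inr (show a.1 * a'.1 = 0 by rw [ca, zero_mul])
    · have e1 := wa ⟨y.1, y.2.1⟩
      have e2 := wb ⟨y.1, y.2.2⟩
      change ((s.1 ⟨y.1, _⟩).1 * (t.1 ⟨y.1, _⟩).1 : GrTwist.Loc 𝒜 y.1) = _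
      refine (congrArg₂ (· * ·) e1 e2).trans ?_
      rw [Localization.mk_mul]
      rfl⟩

theorem mulFun_val (m n : ℤ) (U : Opens (ProjectiveSpectrum.top 𝒜))
    (s : GrTwist.sectN (𝒜 := 𝒜) m (op U)) (t : GrTwist.sectN (𝒜 := 𝒜) n (op U)) (x : U) :
    (((mulFun 𝒜 m n U s t).1 x : GrTwist.twistAt 𝒜 (m + n) x.1) : GrTwist.Loc 𝒜 x.1) =
      ((s.1 x : GrTwist.twistAt 𝒜 m x.1) : GrTwist.Loc 𝒜 x.1) *
        ((t.1 x : GrTwist.twistAt 𝒜 n x.1) : GrTwist.Loc 𝒜 x.1) := rfl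

theorem mulFun_add_left (m n : ℤ) (U : Opens (ProjectiveSpectrum.top 𝒜))
    (s s' : GrTwist.sectN (𝒜 := 𝒜) m (op U)) (t : GrTwist.sectN (𝒜 := 𝒜) n (op U)) :
    mulFun 𝒜 m n U (s + s') t = mulFun 𝒜 m n U s t + mulFun 𝒜 m n U s' t :=
  sectN_ext' 𝒜 _ _ fun x => by
    change ((s.1 x).1 + (s'.1 x).1) * (t.1 x).1 = (s.1 x).1 * (t.1 x).1 + (s'.1 x).1 * (t.1 x).1
    exact add_mul _ _ _

theorem mulFun_add_right (m n : ℤ) (U : Opens (ProjectiveSpectrum.top 𝒜))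
    (s : GrTwist.sectN (𝒜 := 𝒜) m (op U)) (t t' : GrTwist.sectN (𝒜 := 𝒜) n (op U)) :
    mulFun 𝒜 m n U s (t + t') = mulFun 𝒜 m n U s t + mulFun 𝒜 m n U s t' :=
  sectN_ext' 𝒜 _ _ fun x => by
    change (s.1 x).1 * ((t.1 x).1 + (t'.1 x).1) = (s.1 x).1 * (t.1 x).1 + (s.1 x).1 * (t'.1 x).1
    exact mul_add _ _ _

theorem mulFun_smul_left (m n : ℤ) (U : Opens (ProjectiveSpectrum.top 𝒜))
    (r : GrTwist.O (𝒜 := 𝒜) (op U))
    (s : GrTwist.sectN (𝒜 := 𝒜) m (op U)) (t : GrTwist.sectN (𝒜 := 𝒜) n (op U)) :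
    mulFun 𝒜 m n U (r • s) t = r • mulFun 𝒜 m n U s t :=
  sectN_ext' 𝒜 _ _ fun x => by
    rw [mulFun_val, smul_val, smul_val, mulFun_val, mul_assoc]

theorem mulFun_smul_right (m n : ℤ) (U : Opens (ProjectiveSpectrum.top 𝒜))
    (r : GrTwist.O (𝒜 := 𝒜) (op U))
    (s : GrTwist.sectN (𝒜 := 𝒜) m (op U)) (t : GrTwist.sectN (𝒜 := 𝒜) n (op U)) :
    mulFun 𝒜 m n U s (r • t) = r • mulFun 𝒜 m n U s t :=
  sectN_ext' 𝒜 _ _ fun x => by
    rw [mulFun_val, smul_val, smul_val, mulFun_val, mul_left_comm]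

/-- Transport of a section of `O(n)` along an equality `n = n'`. -/
def castSect {n n' : ℤ} (h : n = n') {U : Opens (ProjectiveSpectrum.top 𝒜)}
    (s : GrTwist.sectN (𝒜 := 𝒜) n (op U)) : GrTwist.sectN (𝒜 := 𝒜) n' (op U) := h ▸ s

theorem castSect_val {n n' : ℤ} (h : n = n') {U : Opens (ProjectiveSpectrum.top 𝒜)}
    (s : GrTwist.sectN (𝒜 := 𝒜) n (op U)) (x : U) :
    (((castSect 𝒜 h s).1 x : GrTwist.twistAt 𝒜 n' x.1) : GrTwist.Loc 𝒜 x.1) =
      ((s.1 x : GrTwist.twistAt 𝒜 n x.1) : GrTwist.Loc 𝒜 x.1) := by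
  subst h
  rfl

/-- Multiplication by a unit fraction `a / b` of degree `m` is a bijection `O(n)(V) → O(m+n)(V)`. -/
theorem bijective_mulFun_fracSectN (m n : ℤ) (V : Opens (ProjectiveSpectrum.top 𝒜)) {i j : ℕ}
    (a : 𝒜 i) (b : 𝒜 j) (ha : ∀ x : V, a.1 ∉ x.1.asHomogeneousIdeal)
    (hb : ∀ x : V, b.1 ∉ x.1.asHomogeneousIdeal) (hdeg : (i : ℤ) = j + m) :
    Function.Bijective (fun t : GrTwist.sectN (𝒜 := 𝒜) n (op V) =>
      mulFun 𝒜 m n V (fracSectN 𝒜 m V a b hb hdeg) t) := by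
  have hu : ∀ x : V, IsUnit (Localization.mk a.1 ⟨b.1, hb x⟩ : GrTwist.Loc 𝒜 x.1) := fun x => by
    rw [Localization.mk_eq_mk', IsLocalization.AtPrime.isUnit_mk'_iff]
    exact ha x
  constructor
  · intro t t' htt
    refine sectN_ext' 𝒜 _ _ fun x => ?_
    have h1 := congrArg (fun s : GrTwist.sectN (𝒜 := 𝒜) (m + n) (op V) =>
      ((s.1 x : GrTwist.twistAt 𝒜 (m + n) x.1) : GrTwist.Loc 𝒜 x.1)) htt
    simp only [mulFun_val, fracSectN_val] at h1
    exact (hu x).mul_left_cancel h1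
  · intro s
    have hdeg' : (j : ℤ) = i + (-m) := by omega
    have hcast : -m + (m + n) = n := by ring
    refine ⟨castSect 𝒜 hcast (mulFun 𝒜 (-m) (m + n) V (fracSectN 𝒜 (-m) V b a ha hdeg') s), ?_⟩
    refine sectN_ext' 𝒜 _ _ fun x => ?_
    rw [mulFun_val, castSect_val, mulFun_val, fracSectN_val, fracSectN_val, ← mul_assoc,
      Localization.mk_mul]
    have : (Localization.mk (a.1 * b.1) (⟨b.1, hb x⟩ * ⟨a.1, ha x⟩) : GrTwist.Loc 𝒜 x.1) = 1 := by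
      rw [show (1 : GrTwist.Loc 𝒜 x.1) = Localization.mk 1 1 from Localization.mk_one.symm,
        Localization.mk_eq_mk_iff, Localization.r_iff_exists]
      exact ⟨1, by simp [mul_comm]⟩
    rw [this, one_mul]

/-- A bilinear pairing `M ⊗ N → K` with `M` generated by `um` and `um ⊗ -` inducing a
bijection `N → K` is bijective. -/
theorem bijective_of_free_left {R M N K : Type*} [CommRing R] [AddCommGroup M] [Module R M]
    [AddCommGroup N] [Module R N] [AddCommGroup K] [Module R K]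
    (P : TensorProduct R M N →ₗ[R] K)
    (um : M) (hm : Function.Surjective fun c : R => c • um)
    (hmul : Function.Bijective fun t : N => P (TensorProduct.tmul R um t)) :
    Function.Bijective P := by
  have key : ∀ z : TensorProduct R M N, ∃ t : N, z = TensorProduct.tmul R um t := by
    intro z
    induction z using TensorProduct.induction_on with
    | zero => exact ⟨0, by rw [TensorProduct.tmul_zero]⟩
    | tmul s t =>
      obtain ⟨c, hc⟩ := hm s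
      refine ⟨c • t, ?_⟩
      simp only at hc
      rw [← hc, TensorProduct.tmul_smul, TensorProduct.smul_tmul']
    | add z z' hz hz' =>
      obtain ⟨t, ht⟩ := hz
      obtain ⟨t', ht'⟩ := hz'
      exact ⟨t + t', by rw [ht, ht', TensorProduct.tmul_add]⟩
  constructor
  · intro z z' hzz
    obtain ⟨t, rfl⟩ := key z
    obtain ⟨t', rfl⟩ := key z'
    have : t = t' := hmul.1 hzz
    rw [this]
  · intro k
    obtain ⟨t, ht⟩ := hmul.2 k
    exact ⟨TensorProduct.tmul R um t, ht⟩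

end Groth.Agent.Lib.helper28.GTwistMul
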