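import Groth.Agent.Lib.Helper28.GMTildeQCoh
import Groth.Agent.Lib.Helper28.GTwistMul

/-!
# Pointwise multiplication `M(k)~ × O(n) → M(k + n)~` on `Proj` (helper28)
-/

set_option autoImplicit false
universe u

open CategoryTheory AlgebraicGeometry Opposite TopologicalSpace

namespace Groth.Agent.Lib.helper28.GMTildeMul

open Groth.Agent.Lib.helper28.GFrac Groth.Agent.Lib.helper28.GMTildeSec
  Groth.Agent.Lib.helper28.GMTildeQCoh Groth.Agent.Lib.helper28.GTwistFree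
  Groth.Agent.Lib.helper28.GTwistMul

variable {A σ : Type u} [CommRing A] [SetLike σ A] [AddSubgroupClass σ A] (𝒜 : ℕ → σ)
  [GradedRing 𝒜]
variable {M τ : Type u} [AddCommGroup M] [Module A M] [SetLike τ M] [AddSubgroupClass τ M]
  (ℳ : ℕ → τ) [SetLike.GradedSMul 𝒜 ℳ]

/-- Every element of `tildeAt k x` is a single fraction `m / s` (with `deg m = deg s + k`, or
`m = 0`). -/
theorem exists_fraction_of_mem (k : ℤ) (x : ProjectiveSpectrum 𝒜) (q : GrMod.LocMod 𝒜 (M := M) x)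
    (hq : q ∈ GrMod.tildeAt 𝒜 ℳ k x) :
    ∃ (i j : ℕ) (m : ℳ i) (s : 𝒜 j) (hs : s.1 ∉ x.asHomogeneousIdeal),
      ((i : ℤ) = j + k ∨ m.1 = 0) ∧ q = LocalizedModule.mk m.1 ⟨s.1, hs⟩ := by
  have h1x : (1 : A) ∉ x.asHomogeneousIdeal := fun h =>
    x.isPrime.ne_top ((Ideal.eq_top_iff_one _).mpr h)
  induction hq using Submodule.span_induction with
  | mem z hz =>
    obtain ⟨i, j, m, s, hs, hij, rfl⟩ := hz
    exact ⟨i, j, m, s, hs, Or.inl hij, rfl⟩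
  | zero =>
    exact ⟨0, 0, 0, ⟨1, SetLike.GradedOne.one_mem⟩, h1x, Or.inr rfl, by
      simp⟩
  | add y z _ _ hy hz =>
    obtain ⟨i, j, m, s, hs, hij, rfl⟩ := hy
    obtain ⟨i', j', m', s', hs', hij', rfl⟩ := hz
    have hss' : s.1 * s'.1 ∉ x.asHomogeneousIdeal := fun h =>
      (x.isPrime.mem_or_mem h).elim hs hs'
    have key : (LocalizedModule.mk m.1 ⟨s.1, hs⟩ + LocalizedModule.mk m'.1 ⟨s'.1, hs'⟩ :
        GrMod.LocMod 𝒜 (M := M) x) =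
        LocalizedModule.mk (s'.1 • m.1 + s.1 • m'.1) ⟨s.1 * s'.1, hss'⟩ := by
      rw [LocalizedModule.mk_add_mk]
      rfl
    have h1 : s'.1 • m.1 ∈ ℳ (j' + i) := SetLike.GradedSMul.smul_mem s'.2 m.2
    have h2 : s.1 • m'.1 ∈ ℳ (j + i') := SetLike.GradedSMul.smul_mem s.2 m'.2
    rcases hij with hij | ha
    · rcases hij' with hij' | ha'
      · refine ⟨j + i', j + j', ⟨s'.1 • m.1 + s.1 • m'.1, add_mem ?_ h2⟩,
          ⟨s.1 * s'.1, SetLike.mul_mem_graded s.2 s'.2⟩, hss', Or.inl (by push_cast; omega), key⟩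
        have e : j' + i = j + i' := by omega
        exact e ▸ h1
      · refine ⟨j' + i, j + j', ⟨s'.1 • m.1 + s.1 • m'.1, ?_⟩,
          ⟨s.1 * s'.1, SetLike.mul_mem_graded s.2 s'.2⟩, hss', Or.inl (by push_cast; omega), key⟩
        rw [ha', smul_zero, add_zero]
        exact h1
    · refine ⟨j + i', j + j', ⟨s'.1 • m.1 + s.1 • m'.1, ?_⟩,
        ⟨s.1 * s'.1, SetLike.mul_mem_graded s.2 s'.2⟩, hss', ?_, key⟩
      · rw [ha, smul_zero, zero_add]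
        exact h2
      · rcases hij' with hij' | ha'
        · exact Or.inl (by push_cast; omega)
        · exact Or.inr (show s'.1 • m.1 + s.1 • m'.1 = 0 by
            rw [ha, ha', smul_zero, smul_zero, add_zero])
  | smul c y _ hy =>
    obtain ⟨i, j, m, s, hs, hij, rfl⟩ := hy
    obtain ⟨⟨e, r, t, ht⟩, rfl⟩ := HomogeneousLocalization.mk_surjective c
    have hts : t.1 * s.1 ∉ x.asHomogeneousIdeal := fun h =>
      (x.isPrime.mem_or_mem h).elim ht hs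
    refine ⟨e + i, e + j, ⟨r.1 • m.1, SetLike.GradedSMul.smul_mem r.2 m.2⟩,
      ⟨t.1 * s.1, SetLike.mul_mem_graded t.2 s.2⟩, hts, ?_, ?_⟩
    · rcases hij with hij | ha
      · exact Or.inl (by push_cast; omega)
      · exact Or.inr (show r.1 • m.1 = 0 by rw [ha, smul_zero])
    · rw [GrMod.a0_smul_def, HomogeneousLocalization.val_mk, LocalizedModule.mk_smul_mk]
      rfl

/-- A fraction of the right degree (or zero) lies in `tildeAt`. -/
theorem mk_mem_tildeAt (k : ℤ) (x : ProjectiveSpectrum 𝒜) {i j : ℕ} (m : ℳ i) (s : 𝒜 j)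
    (hs : s.1 ∉ x.asHomogeneousIdeal) (h : (i : ℤ) = j + k ∨ m.1 = 0) :
    (LocalizedModule.mk m.1 ⟨s.1, hs⟩ : GrMod.LocMod 𝒜 (M := M) x) ∈ GrMod.tildeAt 𝒜 ℳ k x := by
  rcases h with h | h
  · exact Submodule.subset_span ⟨i, j, m, s, hs, h, rfl⟩
  · rw [h, LocalizedModule.zero_mk]
    exact zero_mem _

theorem smul_mem_tildeAt (k n : ℤ) (x : ProjectiveSpectrum 𝒜) {μ : GrMod.LocMod 𝒜 (M := M) x}
    {q : GrTwist.Loc 𝒜 x} (hμ : μ ∈ GrMod.tildeAt 𝒜 ℳ k x) (hq : q ∈ GrTwist.twistAt 𝒜 n x) :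
    q • μ ∈ GrMod.tildeAt 𝒜 ℳ (k + n) x := by
  obtain ⟨i, j, m, s, hs, hij, rfl⟩ := exists_fraction_of_mem 𝒜 ℳ k x μ hμ
  obtain ⟨i', j', a, s', hs', hij', rfl⟩ :=
    Groth.Agent.Lib.helper28.GTwistMul.exists_fraction_of_mem 𝒜 n x q hq
  have hss' : s'.1 * s.1 ∉ x.asHomogeneousIdeal := fun h =>
    (x.isPrime.mem_or_mem h).elim hs' hs
  rw [LocalizedModule.mk_smul_mk]
  refine mk_mem_tildeAt 𝒜 ℳ (k + n) x (i := i' + i) (j := j' + j)
    ⟨a.1 • m.1, SetLike.GradedSMul.smul_mem a.2 m.2⟩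
    ⟨s'.1 * s.1, SetLike.mul_mem_graded s'.2 s.2⟩ hss' ?_
  rcases hij with hij | ha
  · rcases hij' with hij' | ha'
    · exact Or.inl (by push_cast; omega)
    · exact Or.inr (show a.1 • m.1 = 0 by rw [ha', zero_smul])
  · exact Or.inr (show a.1 • m.1 = 0 by rw [ha, smul_zero])

/-- Pointwise product of a section of `M(k)~` and a section of `O(n)`. -/
def smulFun (k n : ℤ) (U : Opens (ProjectiveSpectrum.top 𝒜)) (s : GrMod.sect 𝒜 ℳ k (op U))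
    (t : GrTwist.sectN (𝒜 := 𝒜) n (op U)) : GrMod.sect 𝒜 ℳ (k + n) (op U) :=
  ⟨fun x => ⟨(t.1 x).1 • (s.1 x).1, smul_mem_tildeAt 𝒜 ℳ k n x.1 (s.1 x).2 (t.1 x).2⟩, fun x => by
    obtain ⟨Va, ma, ia, i, j, m, g, nina, ca, wa⟩ := s.2 x
    obtain ⟨Vb, mb, ib, i', j', a', g', ninb, cb, wb⟩ := t.2 x
    have nin : ∀ y : (Va ⊓ Vb : Opens _), g'.1 * g.1 ∉ y.1.asHomogeneousIdeal := fun y h =>
      ((y.1.isPrime.mem_or_mem h).elim (ninb ⟨y.1, y.2.2⟩)) (nina ⟨y.1, y.2.1⟩)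
    refine ⟨Va ⊓ Vb, ⟨ma, mb⟩, Opens.infLELeft _ _ ≫ ia, i' + i, j' + j,
      ⟨a'.1 • m.1, SetLike.GradedSMul.smul_mem a'.2 m.2⟩,
      ⟨g'.1 * g.1, SetLike.mul_mem_graded g'.2 g.2⟩, nin, ?_, fun y => ?_⟩
    · rcases ca with ca | ca
      · rcases cb with cb | cb
        · exact Or.inl (by push_cast; omega)
        · exact Or.inr (show a'.1 • m.1 = 0 by rw [cb, zero_smul])
      · exact Or.inr (show a'.1 • m.1 = 0 by rw [ca, smul_zero])
    · have e1 := wa ⟨y.1, y.2.1⟩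
      have e2 := wb ⟨y.1, y.2.2⟩
      change ((t.1 ⟨y.1, _⟩).1 • (s.1 ⟨y.1, _⟩).1 : GrMod.LocMod 𝒜 (M := M) y.1) = _
      refine (congrArg₂ (· • ·) e2 e1).trans ?_
      rw [LocalizedModule.mk_smul_mk]
      rfl⟩

theorem smulFun_val (k n : ℤ) (U : Opens (ProjectiveSpectrum.top 𝒜))
    (s : GrMod.sect 𝒜 ℳ k (op U)) (t : GrTwist.sectN (𝒜 := 𝒜) n (op U)) (x : U) :
    (((smulFun 𝒜 ℳ k n U s t).1 x : GrMod.tildeAt 𝒜 ℳ (k + n) x.1) :
      GrMod.LocMod 𝒜 (M := M) x.1) =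
      ((t.1 x : GrTwist.twistAt 𝒜 n x.1) : GrTwist.Loc 𝒜 x.1) •
        ((s.1 x : GrMod.tildeAt 𝒜 ℳ k x.1) : GrMod.LocMod 𝒜 (M := M) x.1) := rfl

theorem sect_ext' {k : ℤ} {U : Opens (ProjectiveSpectrum.top 𝒜)}
    (s t : GrMod.sect 𝒜 ℳ k (op U))
    (h : ∀ x : U, ((s.1 x : GrMod.tildeAt 𝒜 ℳ k x.1) : GrMod.LocMod 𝒜 (M := M) x.1) =
      (t.1 x : GrMod.tildeAt 𝒜 ℳ k x.1)) : s = t := by
  apply Subtype.ext
  funext x
  exact Subtype.ext (h x)

theorem msmul_val {k : ℤ} {U : Opens (ProjectiveSpectrum.top 𝒜)} (c : GrTwist.O (𝒜 := 𝒜) (op U))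
    (s : GrMod.sect 𝒜 ℳ k (op U)) (x : U) :
    ((((c • s : GrMod.sect 𝒜 ℳ k (op U))).1 x : GrMod.tildeAt 𝒜 ℳ k x.1) :
      GrMod.LocMod 𝒜 (M := M) x.1) =
      (c.1 x).val • ((s.1 x : GrMod.tildeAt 𝒜 ℳ k x.1) : GrMod.LocMod 𝒜 (M := M) x.1) :=
  GrMod.coe_smul_val k x.1 (c.1 x) (s.1 x)

theorem smulFun_add_left (k n : ℤ) (U : Opens (ProjectiveSpectrum.top 𝒜))
    (s s' : GrMod.sect 𝒜 ℳ k (op U)) (t : GrTwist.sectN (𝒜 := 𝒜) n (op U)) :
    smulFun 𝒜 ℳ k n U (s + s') t = smulFun 𝒜 ℳ k n U s t + smulFun 𝒜 ℳ k n U s' t :=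
  sect_ext' 𝒜 ℳ _ _ fun x => by
    change (t.1 x).1 • ((s.1 x).1 + (s'.1 x).1) = (t.1 x).1 • (s.1 x).1 + (t.1 x).1 • (s'.1 x).1
    exact smul_add _ _ _

theorem smulFun_add_right (k n : ℤ) (U : Opens (ProjectiveSpectrum.top 𝒜))
    (s : GrMod.sect 𝒜 ℳ k (op U)) (t t' : GrTwist.sectN (𝒜 := 𝒜) n (op U)) :
    smulFun 𝒜 ℳ k n U s (t + t') = smulFun 𝒜 ℳ k n U s t + smulFun 𝒜 ℳ k n U s t' :=
  sect_ext' 𝒜 ℳ _ _ fun x => by
    change ((t.1 x).1 + (t'.1 x).1) • (s.1 x).1 = (t.1 x).1 • (s.1 x).1 + (t'.1 x).1 • (s.1 x).1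
    exact add_smul _ _ _

theorem smulFun_smul_left (k n : ℤ) (U : Opens (ProjectiveSpectrum.top 𝒜))
    (r : GrTwist.O (𝒜 := 𝒜) (op U))
    (s : GrMod.sect 𝒜 ℳ k (op U)) (t : GrTwist.sectN (𝒜 := 𝒜) n (op U)) :
    smulFun 𝒜 ℳ k n U (r • s) t = r • smulFun 𝒜 ℳ k n U s t :=
  sect_ext' 𝒜 ℳ _ _ fun x => by
    rw [smulFun_val, msmul_val, msmul_val, smulFun_val, smul_comm]

theorem smulFun_smul_right (k n : ℤ) (U : Opens (ProjectiveSpectrum.top 𝒜))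
    (r : GrTwist.O (𝒜 := 𝒜) (op U))
    (s : GrMod.sect 𝒜 ℳ k (op U)) (t : GrTwist.sectN (𝒜 := 𝒜) n (op U)) :
    smulFun 𝒜 ℳ k n U s (r • t) = r • smulFun 𝒜 ℳ k n U s t :=
  sect_ext' 𝒜 ℳ _ _ fun x => by
    rw [smulFun_val, smul_val, msmul_val, smulFun_val, mul_smul]

/-- Transport of a section of `M(k)~` along an equality `k = k'`. -/
def castSect {k k' : ℤ} (h : k = k') {U : Opens (ProjectiveSpectrum.top 𝒜)}
    (s : GrMod.sect 𝒜 ℳ k (op U)) : GrMod.sect 𝒜 ℳ k' (op U) := h ▸ s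

theorem castSect_val {k k' : ℤ} (h : k = k') {U : Opens (ProjectiveSpectrum.top 𝒜)}
    (s : GrMod.sect 𝒜 ℳ k (op U)) (x : U) :
    (((castSect 𝒜 ℳ h s).1 x : GrMod.tildeAt 𝒜 ℳ k' x.1) : GrMod.LocMod 𝒜 (M := M) x.1) =
      ((s.1 x : GrMod.tildeAt 𝒜 ℳ k x.1) : GrMod.LocMod 𝒜 (M := M) x.1) := by
  subst h
  rfl

/-- Multiplication by a unit fraction `a / b` of degree `n` is a bijection
`M(k)~(V) → M(k+n)~(V)`. -/
theorem bijective_smulFun_fracSectN (k n : ℤ) (V : Opens (ProjectiveSpectrum.top 𝒜)) {i j : ℕ}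
    (a : 𝒜 i) (b : 𝒜 j) (ha : ∀ x : V, a.1 ∉ x.1.asHomogeneousIdeal)
    (hb : ∀ x : V, b.1 ∉ x.1.asHomogeneousIdeal) (hdeg : (i : ℤ) = j + n) :
    Function.Bijective (fun s : GrMod.sect 𝒜 ℳ k (op V) =>
      smulFun 𝒜 ℳ k n V s (fracSectN 𝒜 n V a b hb hdeg)) := by
  have hu : ∀ x : V, IsUnit (Localization.mk a.1 ⟨b.1, hb x⟩ : GrTwist.Loc 𝒜 x.1) := fun x => by
    rw [Localization.mk_eq_mk', IsLocalization.AtPrime.isUnit_mk'_iff]
    exact ha x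
  constructor
  · intro s s' hss
    refine sect_ext' 𝒜 ℳ _ _ fun x => ?_
    have h1 := congrArg (fun σ : GrMod.sect 𝒜 ℳ (k + n) (op V) =>
      ((σ.1 x : GrMod.tildeAt 𝒜 ℳ (k + n) x.1) : GrMod.LocMod 𝒜 (M := M) x.1)) hss
    simp only [smulFun_val, fracSectN_val] at h1
    exact (hu x).smul_left_cancel.mp h1
  · intro s
    have hdeg' : (j : ℤ) = i + (-n) := by omega
    have hcast : k + n + (-n) = k := by ring
    refine ⟨castSect 𝒜 ℳ hcast (smulFun 𝒜 ℳ (k + n) (-n) V s (fracSectN 𝒜 (-n) V b a ha hdeg')), ?_⟩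
    refine sect_ext' 𝒜 ℳ _ _ fun x => ?_
    rw [smulFun_val, castSect_val, smulFun_val, fracSectN_val, fracSectN_val, ← mul_smul,
      Localization.mk_mul]
    have : (Localization.mk (a.1 * b.1) (⟨b.1, hb x⟩ * ⟨a.1, ha x⟩) : GrTwist.Loc 𝒜 x.1) = 1 := by
      rw [show (1 : GrTwist.Loc 𝒜 x.1) = Localization.mk 1 1 from Localization.mk_one.symm,
        Localization.mk_eq_mk_iff, Localization.r_iff_exists]
      exact ⟨1, by simp [mul_comm]⟩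
    rw [this, one_smul]

/-- A bilinear pairing `M ⊗ N → K` with `N` generated by `un` and `- ⊗ un` inducing a
bijection `M → K` is bijective. -/
theorem bijective_of_free_right {R M N K : Type*} [CommRing R] [AddCommGroup M] [Module R M]
    [AddCommGroup N] [Module R N] [AddCommGroup K] [Module R K]
    (P : TensorProduct R M N →ₗ[R] K)
    (un : N) (hn : Function.Surjective fun c : R => c • un)
    (hmul : Function.Bijective fun s : M => P (TensorProduct.tmul R s un)) :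
    Function.Bijective P := by
  have key : ∀ z : TensorProduct R M N, ∃ s : M, z = TensorProduct.tmul R s un := by
    intro z
    induction z using TensorProduct.induction_on with
    | zero => exact ⟨0, by rw [TensorProduct.zero_tmul]⟩
    | tmul s t =>
      obtain ⟨c, hc⟩ := hn t
      refine ⟨c • s, ?_⟩
      simp only at hc
      rw [← hc, TensorProduct.tmul_smul, TensorProduct.smul_tmul']
    | add z z' hz hz' =>
      obtain ⟨t, ht⟩ := hz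
      obtain ⟨t', ht'⟩ := hz'
      exact ⟨t + t', by rw [ht, ht', TensorProduct.add_tmul]⟩
  constructor
  · intro z z' hzz
    obtain ⟨t, rfl⟩ := key z
    obtain ⟨t', rfl⟩ := key z'
    have : t = t' := hmul.1 hzz
    rw [this]
  · intro k
    obtain ⟨t, ht⟩ := hmul.2 k
    exact ⟨TensorProduct.tmul R t un, ht⟩

end Groth.Agent.Lib.helper28.GMTildeMul
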