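import Groth.Agent.Lib.Helper28.GMTildeFT
import Groth.Agent.Lib.Helper28.GTwistQCoh

/-!
# Finite generation of the sections of `O(n)` over `D₊(f)` for a Noetherian graded ring (helper28)
-/

set_option autoImplicit false
universe u

open CategoryTheory AlgebraicGeometry Opposite TopologicalSpace

namespace Groth.Agent.Lib.helper28.GTwistFT

open Groth.Agent.Lib.helper28.GFrac Groth.Agent.Lib.helper28.GTwistSec
  Groth.Agent.Lib.helper28.GTwistFree Groth.Agent.Lib.helper28.GProjSec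
  Groth.Agent.Lib.helper28.GTwistQCoh

variable {A σ : Type u} [CommRing A] [SetLike σ A] [AddSubgroupClass σ A] (𝒜 : ℕ → σ)
  [GradedRing 𝒜]

/-- Evaluation of a section of `O(n)` at a point, as an additive map. -/
def evalAt {n : ℤ} {U : (Proj 𝒜).Opens} (x : U) :
    Γ(GrTwist.twist 𝒜 n, U) →+ GrTwist.Loc 𝒜 x.1 where
  toFun s := (((toSectN 𝒜 s).1 x : GrTwist.twistAt 𝒜 n x.1) : GrTwist.Loc 𝒜 x.1)
  map_zero' := rfl
  map_add' _ _ := rfl

theorem evalAt_smul {n : ℤ} {U : (Proj 𝒜).Opens} (x : U) (c : Γ(Proj 𝒜, U))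
    (s : Γ(GrTwist.twist 𝒜 n, U)) :
    evalAt 𝒜 x (c • s) = ((toO 𝒜 c).1 x).val * evalAt 𝒜 x s :=
  GrTwist.coe_smul_val n x.1 ((toO 𝒜 c).1 x) ((toSectN 𝒜 s).1 x)

theorem mk_sum_same' {S : Submonoid A} {ι : Type*} (T : Finset ι) (f : ι → A) (s : S) :
    Localization.mk (∑ i ∈ T, f i) s = ∑ i ∈ T, Localization.mk (f i) s := by
  classical
  induction T using Finset.induction_on with
  | empty => simp [Localization.mk_zero]
  | insert a T ha ih =>
    rw [Finset.sum_insert ha, Finset.sum_insert ha, ← ih, Localization.add_mk_self]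

/-- **For a Noetherian graded ring, the sections of `O(n)` over `D₊(f)`, `f` homogeneous of positive
degree, are a finitely generated module over the functions on `D₊(f)`.** -/
theorem finite_sections_basicOpen [IsNoetherianRing A] (n : ℤ) {d : ℕ} (hd : 0 < d) {f : A}
    (hf : f ∈ 𝒜 d) :
    Module.Finite Γ(Proj 𝒜, Proj.basicOpen 𝒜 f) Γ(GrTwist.twist 𝒜 n, Proj.basicOpen 𝒜 f) := by
  classical
  let S : Set A := {m | ∃ (k i : ℕ), (i : ℤ) = k * d + n ∧ m ∈ 𝒜 i}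
  have hfg : (Submodule.span A S).FG := IsNoetherian.noetherian _
  obtain ⟨T, hTsub, hTspan⟩ := (Submodule.fg_span_iff_fg_span_finset_subset _).mp hfg
  have hdeg : ∀ t : A, t ∈ T → ∃ (k i : ℕ), (i : ℤ) = k * d + n ∧ t ∈ 𝒜 i := fun t ht => hTsub ht
  choose! κ e he1 he2 using hdeg
  have hfpow : ∀ l : ℕ, f ^ l ∈ 𝒜 (l * d) := fun l => by
    have := SetLike.pow_mem_graded l hf
    simpa [smul_eq_mul] using this
  have hD : ∀ (l : ℕ) (x : ProjectiveSpectrum.basicOpen 𝒜 f), f ^ l ∉ x.1.asHomogeneousIdeal :=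
    fun l x => pow_notMem 𝒜 x.1 ((ProjectiveSpectrum.mem_basicOpen 𝒜 f x.1).mp x.2) l
  -- the generators
  let σ' : T → Γ(GrTwist.twist 𝒜 n, Proj.basicOpen 𝒜 f) := fun t =>
    GTwistFree.fracSectN 𝒜 n (ProjectiveSpectrum.basicOpen 𝒜 f) ⟨t.1, he2 t.1 t.2⟩
      ⟨f ^ κ t.1, hfpow _⟩ (hD _) (by rw [he1 t.1 t.2]; push_cast; ring)
  refine Module.finite_def.mpr (Submodule.fg_def.mpr ⟨Set.range σ', Set.finite_range σ', ?_⟩)
  rw [eq_top_iff]
  intro s _
  obtain ⟨k, i, m, hi, hsm⟩ := sectN_eq_fraction 𝒜 n hd hf (toSectN 𝒜 s)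
  set E : ℕ := ∑ t ∈ T, κ t with hE
  have hκE : ∀ t ∈ T, κ t ≤ k + E := fun t ht => by
    have := Finset.single_le_sum (f := κ) (fun _ _ => Nat.zero_le _) ht
    omega
  have hEe : ∀ t ∈ T, e t ≤ i + E * d := fun t ht => by
    have h1 := hκE t ht
    have h2 : ((e t : ℕ) : ℤ) ≤ ((i + E * d : ℕ) : ℤ) := by
      rw [he1 t ht]; push_cast; rw [hi]
      have : (κ t : ℤ) * d ≤ (k + E : ℤ) * d :=
        mul_le_mul_of_nonneg_right (by exact_mod_cast h1) (by positivity)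
      linarith
    exact_mod_cast h2
  have hm' : f ^ E * m.1 ∈ 𝒜 (i + E * d) := by
    have := SetLike.mul_mem_graded (hfpow E) m.2
    rw [add_comm] at this
    exact this
  have hspan : f ^ E * m.1 ∈ Submodule.span A (id '' (T : Set A)) := by
    rw [Set.image_id, ← hTspan]
    refine Submodule.subset_span ⟨k + E, i + E * d, ?_, hm'⟩
    push_cast; rw [hi]; ring
  obtain ⟨c, hc, hsum⟩ := Groth.Agent.Lib.helper28.GMTildeFT.exists_homogeneous_coeffs 𝒜 𝒜 T id e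
    (fun t ht => he2 t ht) hEe hm' hspan
  have hdegc : ∀ t ∈ T, i + E * d - e t = (k + E - κ t) * d := fun t ht => by
    have h1 := hκE t ht
    have h2 := hEe t ht
    have h3 : ((i + E * d - e t : ℕ) : ℤ) = (((k + E - κ t) * d : ℕ) : ℤ) := by
      rw [Nat.cast_sub h2, Nat.cast_mul, Nat.cast_sub h1, he1 t ht]
      push_cast; rw [hi]; ring
    exact_mod_cast h3
  -- the coefficient sections
  let γ : T → Γ(Proj 𝒜, Proj.basicOpen 𝒜 f) := fun t =>
    fracSectO 𝒜 (ProjectiveSpectrum.basicOpen 𝒜 f) ⟨c t.1, hc t.1 t.2⟩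
      ⟨f ^ (k + E - κ t.1), hdegc t.1 t.2 ▸ hfpow _⟩ (hD _)
  have hs : s = ∑ t : T, γ t • σ' t := by
    refine sectN_ext 𝒜 _ _ fun x => ?_
    change evalAt 𝒜 x s = evalAt 𝒜 x (∑ t : T, γ t • σ' t)
    rw [map_sum]
    have h1 : ∀ t : T, evalAt 𝒜 x (γ t • σ' t) =
        Localization.mk (c t.1 * t.1) ⟨f ^ (k + E), hD _ x⟩ := by
      intro t
      rw [evalAt_smul]
      change (Localization.mk (c t.1) ⟨f ^ (k + E - κ t.1), hD _ x⟩ : GrTwist.Loc 𝒜 x.1) *
        (Localization.mk t.1 ⟨f ^ κ t.1, hD _ x⟩ : GrTwist.Loc 𝒜 x.1) = _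
      rw [Localization.mk_mul]
      congr 1
      refine Subtype.ext ?_
      change f ^ (k + E - κ t.1) * f ^ κ t.1 = f ^ (k + E)
      rw [← pow_add, Nat.sub_add_cancel (hκE t.1 t.2)]
    rw [Finset.sum_congr rfl (fun t _ => h1 t), ← mk_sum_same']
    have h2 : ∑ t : T, c t.1 * t.1 = f ^ E * m.1 := by
      rw [hsum, ← Finset.sum_coe_sort T (fun t => c t • id t)]
      rfl
    rw [h2]
    refine (hsm x).trans ?_
    rw [mk_eq_mk_iff']
    refine ⟨1, ?_⟩
    simp only [OneMemClass.coe_one, one_mul]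
    rw [pow_add]
    ring
  rw [hs]
  exact Submodule.sum_mem _ fun t _ => Submodule.smul_mem _ _ (Submodule.subset_span ⟨t, rfl⟩)

end Groth.Agent.Lib.helper28.GTwistFT
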