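import Groth.Agent.Lib.Helper28.GTwistLoc
import Groth.Agent.Lib.Lead.ProjMapG

set_option autoImplicit false

universe u

/-! The comparison map `GrTwist.comap` of twisting sheaves along an open immersion `Proj.map ψ`,
under homogeneous "local isomorphism" hypotheses on `ψ`, is bijective on sections over opens inside
the image (helper28). -/

namespace Groth.Agent.Lib.helper28.GTwistLoc2

open AlgebraicGeometry CategoryTheory Opposite TopologicalSpace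
open Groth.Agent.Lib.helper2 Groth.Agent.Lib.helper28.GTwistQCoh
  Groth.Agent.Lib.helper28.GTwistLoc
open scoped HomogeneousIdeal

variable {A B σ τ : Type u} [CommRing A] [SetLike σ A] [AddSubgroupClass σ A]
  [CommRing B] [SetLike τ B] [AddSubgroupClass τ B]
  {𝒜 : ℕ → σ} {ℬ : ℕ → τ} [GradedRing 𝒜] [GradedRing ℬ]

/-- Homogeneous local-isomorphism hypotheses on a graded ring homomorphism. -/
structure IsLocIso (ψ : 𝒜 →+*ᵍ ℬ) (hψ : ℬ₊ ≤ (𝒜₊).map ψ) : Prop where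
  imm : IsOpenImmersion (Proj.map ψ hψ)
  surj : ∀ (y : ProjectiveSpectrum ℬ) (i : ℕ) (b : B), b ∈ ℬ i →
    ∃ (e : ℕ) (a t : A), a ∈ 𝒜 (i + e) ∧ t ∈ 𝒜 e ∧ ψ t ∉ y.asHomogeneousIdeal ∧ b * ψ t = ψ a
  inj : ∀ (y : ProjectiveSpectrum ℬ) (i : ℕ) (a : A), a ∈ 𝒜 i → ∀ u : B,
    u ∉ y.asHomogeneousIdeal → u * ψ a = 0 →
    ∃ w : A, w ∉ (ProjectiveSpectrum.comap ψ hψ y).asHomogeneousIdeal ∧ w * a = 0

variable {ψ : 𝒜 →+*ᵍ ℬ} {hψ : ℬ₊ ≤ (𝒜₊).map ψ}

theorem comap_app_injective (h : IsLocIso ψ hψ) (n : ℤ)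
    (N : (Proj 𝒜).Opens) (hN : (N : Set (Proj 𝒜)) ⊆ Set.range (Proj.map ψ hψ).base) :
    Function.Injective ((GrTwist.comap ψ hψ n).app N) := by
  rw [injective_iff_map_eq_zero]
  intro s hs
  apply sectN_ext
  rintro ⟨x, hx⟩
  obtain ⟨y, rfl⟩ := hN hx
  change _ = (0 : GrTwist.Loc 𝒜 _)
  obtain ⟨W, hxW, iW, i, j, a, f, hf, -, hfrac⟩ := (toSectN 𝒜 s).2 ⟨_, hx⟩
  have h1 : (((toSectN 𝒜 s).1 ⟨(Proj.map ψ hψ).base y, hx⟩ :
      GrTwist.twistAt 𝒜 n ((Proj.map ψ hψ).base y)) : GrTwist.Loc 𝒜 ((Proj.map ψ hψ).base y)) =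
      Localization.mk (a : A) ⟨f, hf ⟨_, hxW⟩⟩ := hfrac ⟨_, hxW⟩
  refine h1.trans ?_
  have h2 := GrTwist.comap_app_val ψ hψ n N (toSectN 𝒜 s) ⟨y, hx⟩
  have h0 : (GrTwist.comap ψ hψ n).app N (toSectN 𝒜 s) = 0 := hs
  rw [h0] at h2
  have h3 : GrTwist.locMap ψ hψ y (Localization.mk (a : A) ⟨f, hf ⟨_, hxW⟩⟩) = 0 := by
    refine (congrArg (GrTwist.locMap ψ hψ y) h1).symm.trans ?_
    exact h2.symm
  rw [GrTwist.locMap_mk, mk_eq_zero_iff'] at h3
  obtain ⟨⟨u, hu⟩, hua⟩ := h3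
  obtain ⟨w, hw, hwa⟩ := h.inj y i a a.2 u hu hua
  rw [mk_eq_zero_iff']
  exact ⟨⟨w, hw⟩, hwa⟩

theorem comap_app_surjective (h : IsLocIso ψ hψ) (n : ℤ)
    (N : (Proj 𝒜).Opens) (hN : (N : Set (Proj 𝒜)) ⊆ Set.range (Proj.map ψ hψ).base) :
    Function.Surjective ((GrTwist.comap ψ hψ n).app N) := by
  have := h.imm
  refine surjective_of_locally _ N
    (fun W hW => comap_app_injective h n W (fun x hx => hN (hW hx))) ?_
  intro t x hx
  obtain ⟨y, rfl⟩ := hN hx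
  obtain ⟨V', hyV', iV', i, j, b, g, hg, hij, hfrac⟩ :=
    (toSectN ℬ (U := Proj.map ψ hψ ⁻¹ᵁ N) t).2 ⟨y, hx⟩
  have hinjm : Function.Injective (Proj.map ψ hψ).base :=
    (Proj.map ψ hψ).isOpenEmbedding.injective
  rcases hij with hij | hb0
  · obtain ⟨e₁, a₁, t₁, ha₁, ht₁, hty₁, hb₁⟩ := h.surj y i b b.2
    obtain ⟨e₂, a₂, t₂, ha₂, ht₂, hty₂, hb₂⟩ := h.surj y j g g.2
    -- the smaller neighbourhood
    let V'' : (Proj ℬ).Opens := V' ⊓ (Proj.basicOpen ℬ (ψ t₁) ⊓ Proj.basicOpen ℬ (ψ t₂))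
    have hyV'' : y ∈ V'' := ⟨hyV', (ProjectiveSpectrum.mem_basicOpen ℬ _ _).mpr hty₁,
      (ProjectiveSpectrum.mem_basicOpen ℬ _ _).mpr hty₂⟩
    have hW : (Proj.map ψ hψ) ''ᵁ V'' ≤ N := by
      rintro _ ⟨z, hz, rfl⟩
      exact iV'.le hz.1
    have hpre : ∀ z : Proj ℬ, (Proj.map ψ hψ).base z ∈ (Proj.map ψ hψ) ''ᵁ V'' → z ∈ V'' := by
      rintro z ⟨z', hz', hzz'⟩
      rw [← hinjm hzz']
      exact hz'
    refine ⟨(Proj.map ψ hψ) ''ᵁ V'', hW, ⟨y, hyV'', rfl⟩, ?_⟩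
    have hnum : a₁ * t₂ ∈ 𝒜 (i + e₁ + e₂) := SetLike.mul_mem_graded ha₁ ht₂
    have hden : a₂ * t₁ ∈ 𝒜 (j + e₂ + e₁) := SetLike.mul_mem_graded ha₂ ht₁
    have hdeg : ((i + e₁ + e₂ : ℕ) : ℤ) = ((j + e₂ + e₁ : ℕ) : ℤ) + n := by
      push_cast
      omega
    have hψden : ψ (a₂ * t₁) = (g : B) * ψ t₂ * ψ t₁ := by
      rw [map_mul, ← hb₂]
    have hnin : ∀ x' : ((Proj.map ψ hψ) ''ᵁ V'' : (Proj 𝒜).Opens),
        a₂ * t₁ ∉ x'.1.asHomogeneousIdeal := by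
      rintro ⟨_, z, hz, rfl⟩ hmem
      have h1 : ψ (a₂ * t₁) ∈ z.asHomogeneousIdeal := hmem
      rw [hψden] at h1
      rcases z.isPrime.mem_or_mem h1 with h2 | h2
      · rcases z.isPrime.mem_or_mem h2 with h3 | h3
        · exact hg ⟨z, hz.1⟩ h3
        · exact (ProjectiveSpectrum.mem_basicOpen ℬ _ _).mp hz.2.2 h3
      · exact (ProjectiveSpectrum.mem_basicOpen ℬ _ _).mp hz.2.1 h2
    refine ⟨fracSectN 𝒜 n _ ⟨a₁ * t₂, hnum⟩ ⟨a₂ * t₁, hden⟩ hnin hdeg, ?_⟩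
    refine sectN_ext ℬ (U := Proj.map ψ hψ ⁻¹ᵁ ((Proj.map ψ hψ) ''ᵁ V'')) _ _ ?_
    rintro ⟨z, hz⟩
    have hzV'' : z ∈ V'' := hpre z hz
    refine (GrTwist.comap_app_val ψ hψ n _ (fracSectN 𝒜 n _ ⟨a₁ * t₂, hnum⟩ ⟨a₂ * t₁, hden⟩
      hnin hdeg) ⟨z, hz⟩).trans ?_
    rw [fracSectN_val, GrTwist.locMap_mk]
    refine Eq.trans ?_ (hfrac ⟨z, hzV''.1⟩).symm
    rw [Localization.mk_eq_mk_iff, Localization.r_iff_exists]
    refine ⟨1, ?_⟩
    simp only [OneMemClass.coe_one, one_mul, map_mul]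
    rw [← hb₁, ← hb₂]
    ring
  · have hW : (Proj.map ψ hψ) ''ᵁ V' ≤ N := by
      rintro _ ⟨z, hz, rfl⟩
      exact iV'.le hz
    have hpre : ∀ z : Proj ℬ, (Proj.map ψ hψ).base z ∈ (Proj.map ψ hψ) ''ᵁ V' → z ∈ V' := by
      rintro z ⟨z', hz', hzz'⟩
      rw [← hinjm hzz']
      exact hz'
    refine ⟨(Proj.map ψ hψ) ''ᵁ V', hW, ⟨y, hyV', rfl⟩, 0, ?_⟩
    rw [map_zero]
    refine sectN_ext ℬ (U := Proj.map ψ hψ ⁻¹ᵁ ((Proj.map ψ hψ) ''ᵁ V')) _ _ ?_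
    rintro ⟨z, hz⟩
    have hzV' : z ∈ V' := hpre z hz
    change (0 : GrTwist.Loc ℬ z) = _
    refine ((hfrac ⟨z, hzV'⟩).trans ?_).symm
    rw [hb0, Localization.mk_zero]

theorem comap_app_bijective (h : IsLocIso ψ hψ) (n : ℤ)
    (N : (Proj 𝒜).Opens) (hN : (N : Set (Proj 𝒜)) ⊆ Set.range (Proj.map ψ hψ).base) :
    Function.Bijective ((GrTwist.comap ψ hψ n).app N) :=
  ⟨comap_app_injective h n N hN, comap_app_surjective h n N hN⟩


/-- A graded ring hom which is bijective in degrees `≥ d₀` induces a bijection on degree-zero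
localizations away from a homogeneous element of positive degree. -/
theorem away_map_bijective_of_eventually (φ : 𝒜 →+*ᵍ ℬ) (d₀ : ℕ)
    (hbij : ∀ n : ℕ, d₀ ≤ n → Set.BijOn φ (𝒜 n) (ℬ n))
    {i : ℕ} (hi : 0 < i) (s : A) (hs : s ∈ 𝒜 i) :
    Function.Bijective (HomogeneousLocalization.Away.map φ s) := by
  have hle : ∀ m : ℕ, d₀ ≤ (m + d₀) • i := by
    intro m
    rw [smul_eq_mul]
    calc d₀ ≤ m + d₀ := Nat.le_add_left _ _
      _ = (m + d₀) * 1 := (mul_one _).symm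
      _ ≤ (m + d₀) * i := Nat.mul_le_mul_left _ hi
  constructor
  · rw [injective_iff_map_eq_zero]
    intro x hx
    obtain ⟨n, y, hy, rfl⟩ := HomogeneousLocalization.Away.mk_surjective 𝒜 hs x
    rw [HomogeneousLocalization.Away.map_mk φ s hs n y hy] at hx
    rw [HomogeneousLocalization.ext_iff_val, HomogeneousLocalization.Away.val_mk,
      HomogeneousLocalization.val_zero, Localization.mk_eq_mk',
      IsLocalization.mk'_eq_zero_iff] at hx
    obtain ⟨⟨c, k, rfl⟩, hc⟩ := hx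
    simp only at hc
    have h1 : φ (s ^ (k + d₀) * y) = 0 := by
      rw [map_mul, pow_add, map_mul, mul_comm (φ (s ^ k)), mul_assoc, map_pow φ s k, hc, mul_zero]
    have hmem : s ^ (k + d₀) * y ∈ 𝒜 ((k + d₀) • i + n • i) :=
      SetLike.mul_mem_graded (SetLike.pow_mem_graded _ hs) hy
    have hpos : d₀ ≤ (k + d₀) • i + n • i := (hle k).trans (Nat.le_add_right _ _)
    have h0 : s ^ (k + d₀) * y = 0 :=
      (hbij _ hpos).injOn hmem (zero_mem _) (by rw [h1, map_zero])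
    rw [HomogeneousLocalization.ext_iff_val, HomogeneousLocalization.Away.val_mk,
      HomogeneousLocalization.val_zero, Localization.mk_eq_mk',
      IsLocalization.mk'_eq_zero_iff]
    exact ⟨⟨s ^ (k + d₀), k + d₀, rfl⟩, h0⟩
  · intro x
    obtain ⟨n, a, ha, rfl⟩ := HomogeneousLocalization.Away.mk_surjective ℬ (φ.map_mem hs) x
    have hmem : a * φ s ^ d₀ ∈ ℬ ((n + d₀) • i) := by
      have := SetLike.mul_mem_graded ha (SetLike.pow_mem_graded d₀ (φ.map_mem hs))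
      rwa [show n • i + d₀ • i = (n + d₀) • i by rw [add_smul]] at this
    obtain ⟨b, hb, hbφ⟩ := (hbij _ (hle n)).surjOn hmem
    refine ⟨HomogeneousLocalization.Away.mk 𝒜 hs (n + d₀) b hb, ?_⟩
    rw [HomogeneousLocalization.Away.map_mk φ s hs (n + d₀) b hb]
    rw [HomogeneousLocalization.ext_iff_val, HomogeneousLocalization.Away.val_mk,
      HomogeneousLocalization.Away.val_mk, Localization.mk_eq_mk_iff,
      Localization.r_iff_exists]
    refine ⟨1, ?_⟩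
    simp only [OneMemClass.coe_one, one_mul]
    rw [hbφ, pow_add]
    change φ s ^ n * (a * φ s ^ d₀) = φ s ^ n * φ s ^ d₀ * a
    ring

/-- A graded ring hom which is bijective in degrees `≥ d₀` is a homogeneous local isomorphism. -/
theorem isLocIso_of_eventually_bijective (ψ : 𝒜 →+*ᵍ ℬ) (hψ : ℬ₊ ≤ (𝒜₊).map ψ) (d₀ : ℕ)
    (hbij : ∀ n : ℕ, d₀ ≤ n → Set.BijOn ψ (𝒜 n) (ℬ n)) : IsLocIso ψ hψ := by
  classical
  -- a homogeneous element of degree `≥ d₀` in the image of `ψ` not vanishing at a given point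
  have key : ∀ y : ProjectiveSpectrum ℬ, ∃ (e : ℕ) (t : A), d₀ ≤ e ∧ t ∈ 𝒜 e ∧
      ψ t ∉ y.asHomogeneousIdeal := by
    intro y
    obtain ⟨e', t', he', ht', hty'⟩ :=
      Groth.Agent.Lib.helper28.ProjLocAway.exists_pos_notMem' (𝒜 := ℬ) y
    have hle : d₀ ≤ d₀ • e' := by
      rw [smul_eq_mul]
      calc d₀ = d₀ * 1 := (mul_one _).symm
        _ ≤ d₀ * e' := Nat.mul_le_mul_left _ he'
    obtain ⟨t, ht, htψ⟩ := (hbij _ hle).surjOn (SetLike.pow_mem_graded d₀ ht')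
    refine ⟨d₀ • e', t, hle, ht, ?_⟩
    rw [htψ]
    exact fun h => hty' (y.isPrime.mem_of_pow_mem _ h)
  refine ⟨?_, ?_, ?_⟩
  · refine Groth.Agent.Lib.Lead.ProjMapG.map_of_forall_away @IsOpenImmersion ψ hψ ?_
    intro i hi s hs
    have hb := away_map_bijective_of_eventually ψ d₀ hbij hi s hs
    have : IsIso (CommRingCat.ofHom (HomogeneousLocalization.Away.map ψ s)) :=
      (ConcreteCategory.isIso_iff_bijective _).mpr hb
    infer_instance
  · intro y i b hb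
    obtain ⟨e, t, he, ht, hty⟩ := key y
    have hmem : b * ψ t ∈ ℬ (i + e) := SetLike.mul_mem_graded hb (ψ.map_mem ht)
    obtain ⟨a, ha, haψ⟩ := (hbij _ (he.trans (Nat.le_add_left _ _))).surjOn hmem
    exact ⟨e, a, t, ha, ht, hty, haψ.symm⟩
  · intro y i a ha u hu hua
    obtain ⟨e, t, he, ht, hty⟩ := key y
    -- a homogeneous component of `u` not in `y`
    have hex : ∃ k : ℕ, ((DirectSum.decompose ℬ u k : ℬ k) : B) ∉ y.asHomogeneousIdeal := by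
      by_contra hcon
      simp only [not_exists, not_not] at hcon
      apply hu
      rw [← DirectSum.sum_support_decompose ℬ u]
      exact Ideal.sum_mem _ (fun k _ => hcon k)
    obtain ⟨k, hk⟩ := hex
    have huk : ((DirectSum.decompose ℬ u k : ℬ k) : B) * ψ a = 0 := by
      have h1 := DirectSum.coe_decompose_mul_add_of_right_mem ℬ (a := u) (i := k)
        (ψ.map_mem ha)
      have h2 : ((DirectSum.decompose ℬ (u * ψ a) (k + i) : ℬ (k + i)) : B) = 0 := by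
        rw [hua, DirectSum.decompose_zero]
        rfl
      exact h1.symm.trans h2
    have hmem : ((DirectSum.decompose ℬ u k : ℬ k) : B) * ψ t ∈ ℬ (k + e) :=
      SetLike.mul_mem_graded (SetLike.coe_mem _) (ψ.map_mem ht)
    obtain ⟨w, hw, hwψ⟩ := (hbij _ (he.trans (Nat.le_add_left _ _))).surjOn hmem
    refine ⟨w, ?_, ?_⟩
    · intro hmem'
      have h1 : ψ w ∈ y.asHomogeneousIdeal := hmem'
      rw [hwψ] at h1
      rcases y.isPrime.mem_or_mem h1 with h2 | h2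
      · exact hk h2
      · exact hty h2
    · have hwa : w * a ∈ 𝒜 (k + e + i) := SetLike.mul_mem_graded hw ha
      refine (hbij _ ((he.trans (Nat.le_add_left _ _)).trans (Nat.le_add_right _ _))).injOn
        hwa (zero_mem _) ?_
      rw [map_mul, hwψ, map_zero, mul_right_comm, huk, zero_mul]

end Groth.Agent.Lib.helper28.GTwistLoc2
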