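import Mathlib

/-!
# The image grading on the quotient of a graded ring by a homogeneous ideal (helper28)

For a commutative ring `A` graded by additive subgroups `𝒜` and a homogeneous ideal `I`:
`qDeg 𝒜 I d` is the image of `𝒜 d` in `A ⧸ I`; this is a grading (`GradedRing` instance), and
`qHom 𝒜 I : 𝒜 →+*ᵍ qDeg 𝒜 I` is the graded quotient map.  (Port of helper12's `ProjClosed.qGr` to
gradings by additive subgroups.)
-/

set_option autoImplicit false
universe u

open DirectSum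

namespace Groth.Agent.Lib.helper28.GrQuot

variable {A : Type u} [CommRing A] (𝒜 : ℕ → AddSubgroup A) [GradedRing 𝒜]
  (I : HomogeneousIdeal 𝒜)

/-- The image grading on the quotient by a homogeneous ideal. -/
def qDeg (d : ℕ) : AddSubgroup (A ⧸ I.toIdeal) :=
  (𝒜 d).map (Ideal.Quotient.mk I.toIdeal).toAddMonoidHom

theorem mk_mem_qDeg {d : ℕ} {a : A} (ha : a ∈ 𝒜 d) :
    Ideal.Quotient.mk I.toIdeal a ∈ qDeg 𝒜 I d := ⟨a, ha, rfl⟩

theorem mem_qDeg_iff {d : ℕ} (y : A ⧸ I.toIdeal) :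
    y ∈ qDeg 𝒜 I d ↔ ∃ a ∈ 𝒜 d, Ideal.Quotient.mk I.toIdeal a = y := Iff.rfl

/-- component maps -/
def qComp (d : ℕ) : 𝒜 d →+ qDeg 𝒜 I d where
  toFun a := ⟨Ideal.Quotient.mk I.toIdeal a.1, mk_mem_qDeg 𝒜 I a.2⟩
  map_zero' := Subtype.ext (map_zero _)
  map_add' a b := Subtype.ext (map_add _ _ _)

/-- the decomposition map before passing to the quotient -/
def qPhi : A →+ ⨁ d, qDeg 𝒜 I d :=
  (DirectSum.map (qComp 𝒜 I)).comp (DirectSum.decomposeAddEquiv 𝒜).toAddMonoidHom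

theorem qPhi_of_mem {d : ℕ} {a : A} (ha : a ∈ 𝒜 d) :
    qPhi 𝒜 I a = DirectSum.of (fun d => qDeg 𝒜 I d) d
      ⟨Ideal.Quotient.mk I.toIdeal a, mk_mem_qDeg 𝒜 I ha⟩ := by
  unfold qPhi
  simp only [AddMonoidHom.coe_comp, Function.comp_apply, AddEquiv.coe_toAddMonoidHom,
    DirectSum.decomposeAddEquiv_apply]
  rw [DirectSum.decompose_of_mem 𝒜 ha, DirectSum.map_of]
  rfl

theorem coe_qPhi (a : A) :
    DirectSum.coeAddMonoidHom (qDeg 𝒜 I) (qPhi 𝒜 I a) = Ideal.Quotient.mk I.toIdeal a := by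
  induction a using DirectSum.Decomposition.inductionOn 𝒜 with
  | zero => simp
  | @homogeneous d a =>
    rw [qPhi_of_mem 𝒜 I a.2, DirectSum.coeAddMonoidHom_of]
  | add a b ha hb => rw [map_add, map_add, ha, hb, map_add]

theorem qPhi_mem {x : A} (hx : x ∈ I.toIdeal) : qPhi 𝒜 I x = 0 := by
  ext d
  unfold qPhi
  simp only [AddMonoidHom.coe_comp, Function.comp_apply, AddEquiv.coe_toAddMonoidHom,
    DirectSum.decomposeAddEquiv_apply, DirectSum.map_apply, DirectSum.zero_apply,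
    ZeroMemClass.coe_zero]
  exact Ideal.Quotient.eq_zero_iff_mem.mpr (I.isHomogeneous d hx)

theorem qPhi_congr {a b : A}
    (h : Ideal.Quotient.mk I.toIdeal a = Ideal.Quotient.mk I.toIdeal b) :
    qPhi 𝒜 I a = qPhi 𝒜 I b := by
  have : a - b ∈ I.toIdeal := Ideal.Quotient.eq.mp h
  have h0 := qPhi_mem 𝒜 I this
  rw [map_sub, sub_eq_zero] at h0
  exact h0

noncomputable instance qDecomp : DirectSum.Decomposition (qDeg 𝒜 I) where
  decompose' y := qPhi 𝒜 I (Quotient.out y)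
  left_inv y := by
    change DirectSum.coeAddMonoidHom (qDeg 𝒜 I) (qPhi 𝒜 I (Quotient.out y)) = y
    rw [coe_qPhi]
    exact Ideal.Quotient.mk_out y
  right_inv y := by
    change qPhi 𝒜 I (Quotient.out (DirectSum.coeAddMonoidHom (qDeg 𝒜 I) y)) = y
    have hkey : ∀ a : A, qPhi 𝒜 I (Quotient.out (Ideal.Quotient.mk I.toIdeal a)) = qPhi 𝒜 I a :=
      fun a => qPhi_congr 𝒜 I (Ideal.Quotient.mk_out _)
    induction y using DirectSum.induction_on with
    | zero =>
      rw [map_zero]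
      have := hkey 0
      rw [map_zero, map_zero] at this
      exact this
    | of d b =>
      obtain ⟨b, a, ha, rfl⟩ := b
      rw [DirectSum.coeAddMonoidHom_of]
      change qPhi 𝒜 I (Quotient.out (Ideal.Quotient.mk I.toIdeal a)) = _
      rw [hkey a, qPhi_of_mem 𝒜 I ha]
      rfl
    | add y z hy hz =>
      rw [map_add]
      have h1 : Ideal.Quotient.mk I.toIdeal
          (Quotient.out (DirectSum.coeAddMonoidHom (qDeg 𝒜 I) y +
          DirectSum.coeAddMonoidHom (qDeg 𝒜 I) z)) =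
          Ideal.Quotient.mk I.toIdeal
            (Quotient.out (DirectSum.coeAddMonoidHom (qDeg 𝒜 I) y) +
            Quotient.out (DirectSum.coeAddMonoidHom (qDeg 𝒜 I) z)) := by
        rw [map_add, Ideal.Quotient.mk_out, Ideal.Quotient.mk_out, Ideal.Quotient.mk_out]
      rw [qPhi_congr 𝒜 I h1, map_add, hy, hz]

instance qGradedMonoid : SetLike.GradedMonoid (qDeg 𝒜 I) where
  one_mem := ⟨1, SetLike.GradedOne.one_mem, map_one (Ideal.Quotient.mk I.toIdeal)⟩
  mul_mem := by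
    rintro i j _ _ ⟨a, ha, rfl⟩ ⟨b, hb, rfl⟩
    exact ⟨a * b, SetLike.GradedMul.mul_mem ha hb, map_mul (Ideal.Quotient.mk I.toIdeal) _ _⟩

noncomputable instance qGradedRing : GradedRing (qDeg 𝒜 I) where
  toGradedMonoid := qGradedMonoid 𝒜 I
  toDecomposition := qDecomp 𝒜 I

/-- The graded quotient map. -/
noncomputable def qHom : 𝒜 →+*ᵍ qDeg 𝒜 I where
  toRingHom := Ideal.Quotient.mk I.toIdeal
  map_mem := fun ha => mk_mem_qDeg 𝒜 I ha

@[simp] theorem qHom_apply (a : A) : qHom 𝒜 I a = Ideal.Quotient.mk I.toIdeal a := rfl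

theorem qHom_surjective : Function.Surjective (qHom 𝒜 I) := Ideal.Quotient.mk_surjective

theorem qHom_eq_zero_iff (a : A) : qHom 𝒜 I a = 0 ↔ a ∈ I.toIdeal :=
  Ideal.Quotient.eq_zero_iff_mem

end Groth.Agent.Lib.helper28.GrQuot
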