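import Groth.Prelude.Def_RelProj4
import Mathlib

/-!
# A `g`-morphism of quasi-coherent algebras from data on affine pairs (helper28)

`PairAlgHom ψ A B`: ring homomorphisms `A(U) → B(U')` for the affine pairs `U' ⊆ ψ⁻¹(U)`,
compatible with restriction on both sides and with the structure maps.  They glue to a
`RelSpec.QHom ψ A B` (`toQHom`), with `toQHom_appLE`.
-/

set_option autoImplicit false
universe u

namespace Groth.Agent.Lib.helper28.PairGlue

open CategoryTheory CategoryTheory.Limits AlgebraicGeometry TopologicalSpace Opposite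

variable {Y Y' : Scheme.{u}} (ψ : Y' ⟶ Y) (A : RelSpec.QCAlg Y) (B : RelSpec.QCAlg Y')

/-- A compatible family of ring homomorphisms on affine pairs. -/
structure PairAlgHom where
  φ : ∀ (U : Y.Opens) (_ : IsAffineOpen U) (U' : Y'.Opens) (_ : IsAffineOpen U')
    (_ : U' ≤ ψ ⁻¹ᵁ U), A.presheaf.obj (op U) →+* B.presheaf.obj (op U')
  res_right : ∀ (U : Y.Opens) (hU : IsAffineOpen U) (U' : Y'.Opens) (hU' : IsAffineOpen U')
    (hle : U' ≤ ψ ⁻¹ᵁ U) (V' : Y'.Opens) (hV' : IsAffineOpen V') (i : V' ≤ U')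
    (a : A.presheaf.obj (op U)),
    (B.presheaf.map (homOfLE i).op).hom (φ U hU U' hU' hle a) = φ U hU V' hV' (i.trans hle) a
  res_left : ∀ (U : Y.Opens) (hU : IsAffineOpen U) (V : Y.Opens) (hV : IsAffineOpen V)
    (i : V ≤ U) (U' : Y'.Opens) (hU' : IsAffineOpen U') (hle : U' ≤ ψ ⁻¹ᵁ V)
    (a : A.presheaf.obj (op U)),
    φ V hV U' hU' hle ((A.presheaf.map (homOfLE i).op).hom a) =
      φ U hU U' hU' (hle.trans (ψ.preimage_mono i)) a
  str : ∀ (U : Y.Opens) (hU : IsAffineOpen U) (U' : Y'.Opens) (hU' : IsAffineOpen U')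
    (hle : U' ≤ ψ ⁻¹ᵁ U) (r : Γ(Y, U)),
    φ U hU U' hU' hle ((A.str.app (op U)).hom r) =
      (B.str.app (op U')).hom ((ψ.appLE U U' hle).hom r)

variable {ψ A B} (Φ : PairAlgHom ψ A B)

/-- The sheaf of rings underlying `B`. -/
noncomputable abbrev shf (B : RelSpec.QCAlg Y') : TopCat.Sheaf CommRingCat.{u} Y' :=
  ⟨B.presheaf, B.isSheaf⟩

/-- The affine opens of `Y'` inside `W`. -/
abbrev AffIn (W : Y'.Opens) : Type u := {U' : Y'.Opens // IsAffineOpen U' ∧ U' ≤ W}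

theorem le_iSup_affIn (W : Y'.Opens) : W ≤ ⨆ k : AffIn W, k.1 := by
  intro x hx
  obtain ⟨V, hV, hxV, hVW⟩ := (Opens.isBasis_iff_nbhd.mp Y'.isBasis_affineOpens) hx
  exact Opens.mem_iSup.mpr ⟨⟨V, hV, hVW⟩, hxV⟩

/-- Sections over `W` agreeing on all affine opens inside `W` are equal. -/
theorem eq_of_affine (W : Y'.Opens) (s t : B.presheaf.obj (op W))
    (h : ∀ (U' : Y'.Opens) (_ : IsAffineOpen U') (hle : U' ≤ W),
      (B.presheaf.map (homOfLE hle).op).hom s = (B.presheaf.map (homOfLE hle).op).hom t) :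
    s = t :=
  TopCat.Sheaf.eq_of_locally_eq' (shf B) (fun k : AffIn W => k.1) W
    (fun k => homOfLE k.2.2) (le_iSup_affIn W) s t (fun k => h k.1 k.2.1 k.2.2)

include Φ in
theorem exists_glue (U : Y.Opens) (hU : IsAffineOpen U) (a : A.presheaf.obj (op U)) :
    ∃ s : B.presheaf.obj (op (ψ ⁻¹ᵁ U)), ∀ (U' : Y'.Opens) (hU' : IsAffineOpen U')
      (hle : U' ≤ ψ ⁻¹ᵁ U),
      (B.presheaf.map (homOfLE hle).op).hom s = Φ.φ U hU U' hU' hle a := by
  obtain ⟨s, hs, -⟩ := TopCat.Sheaf.existsUnique_gluing' (shf B)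
    (fun k : AffIn (ψ ⁻¹ᵁ U) => k.1) (ψ ⁻¹ᵁ U) (fun k => homOfLE k.2.2)
    (le_iSup_affIn (ψ ⁻¹ᵁ U)) (fun k => Φ.φ U hU k.1 k.2.1 k.2.2 a) (by
      intro k l
      refine eq_of_affine (k.1 ⊓ l.1) _ _ fun V' hV' hle => ?_
      have h1 : (B.presheaf.map (homOfLE hle).op).hom
          ((B.presheaf.map (Opens.infLELeft k.1 l.1).op).hom (Φ.φ U hU k.1 k.2.1 k.2.2 a)) =
          Φ.φ U hU V' hV' ((hle.trans inf_le_left).trans k.2.2) a := by
        rw [← Φ.res_right U hU k.1 k.2.1 k.2.2 V' hV' (hle.trans inf_le_left) a,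
          ← CommRingCat.comp_apply, ← B.presheaf.map_comp]
        rfl
      have h2 : (B.presheaf.map (homOfLE hle).op).hom
          ((B.presheaf.map (Opens.infLERight k.1 l.1).op).hom (Φ.φ U hU l.1 l.2.1 l.2.2 a)) =
          Φ.φ U hU V' hV' ((hle.trans inf_le_right).trans l.2.2) a := by
        rw [← Φ.res_right U hU l.1 l.2.1 l.2.2 V' hV' (hle.trans inf_le_right) a,
          ← CommRingCat.comp_apply, ← B.presheaf.map_comp]
        rfl
      exact h1.trans h2.symm)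
  exact ⟨s, fun U' hU' hle => hs ⟨U', hU', hle⟩⟩

/-- The glued section. -/
noncomputable def glue (U : Y.Opens) (hU : IsAffineOpen U) (a : A.presheaf.obj (op U)) :
    B.presheaf.obj (op (ψ ⁻¹ᵁ U)) := (exists_glue Φ U hU a).choose

theorem glue_res (U : Y.Opens) (hU : IsAffineOpen U) (a : A.presheaf.obj (op U))
    (U' : Y'.Opens) (hU' : IsAffineOpen U') (hle : U' ≤ ψ ⁻¹ᵁ U) :
    (B.presheaf.map (homOfLE hle).op).hom (glue Φ U hU a) = Φ.φ U hU U' hU' hle a :=
  (exists_glue Φ U hU a).choose_spec U' hU' hle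

theorem eq_glue (U : Y.Opens) (hU : IsAffineOpen U) (a : A.presheaf.obj (op U))
    (s : B.presheaf.obj (op (ψ ⁻¹ᵁ U)))
    (h : ∀ (U' : Y'.Opens) (hU' : IsAffineOpen U') (hle : U' ≤ ψ ⁻¹ᵁ U),
      (B.presheaf.map (homOfLE hle).op).hom s = Φ.φ U hU U' hU' hle a) :
    s = glue Φ U hU a :=
  eq_of_affine _ _ _ fun U' hU' hle => (h U' hU' hle).trans (glue_res Φ U hU a U' hU' hle).symm

/-- The homomorphism `A(U) → B(ψ⁻¹ U)` for `U` affine. -/
noncomputable def appAff (U : Y.Opens) (hU : IsAffineOpen U) :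
    A.presheaf.obj (op U) →+* B.presheaf.obj (op (ψ ⁻¹ᵁ U)) where
  toFun := glue Φ U hU
  map_one' := (eq_glue Φ U hU 1 1 fun U' hU' hle => by rw [map_one, map_one]).symm
  map_mul' a b := (eq_glue Φ U hU (a * b) _ fun U' hU' hle => by
    rw [map_mul, map_mul, glue_res, glue_res]).symm
  map_zero' := (eq_glue Φ U hU 0 0 fun U' hU' hle => by rw [map_zero, map_zero]).symm
  map_add' a b := (eq_glue Φ U hU (a + b) _ fun U' hU' hle => by
    rw [map_add, map_add, glue_res, glue_res]).symm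

theorem appAff_res (U : Y.Opens) (hU : IsAffineOpen U) (a : A.presheaf.obj (op U))
    (U' : Y'.Opens) (hU' : IsAffineOpen U') (hle : U' ≤ ψ ⁻¹ᵁ U) :
    (B.presheaf.map (homOfLE hle).op).hom (appAff Φ U hU a) = Φ.φ U hU U' hU' hle a :=
  glue_res Φ U hU a U' hU' hle

theorem appAff_naturality (U : Y.Opens) (hU : IsAffineOpen U) (V : Y.Opens) (hV : IsAffineOpen V)
    (i : V ≤ U) (a : A.presheaf.obj (op U)) :
    (B.presheaf.map (homOfLE (ψ.preimage_mono i)).op).hom (appAff Φ U hU a) =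
      appAff Φ V hV ((A.presheaf.map (homOfLE i).op).hom a) := by
  refine eq_glue Φ V hV _ _ fun U' hU' hle => ?_
  rw [Φ.res_left U hU V hV i U' hU' hle a,
    ← appAff_res Φ U hU a U' hU' (hle.trans (ψ.preimage_mono i)),
    ← CommRingCat.comp_apply, ← B.presheaf.map_comp]
  rfl

section Extend

/-- The affine opens of `Y`, as a family of opens. -/
abbrev Bs (Y : Scheme.{u}) : Y.affineOpens → Opens Y := fun U => U.1

theorem isBasis_Bs (Y : Scheme.{u}) : Opens.IsBasis (Set.range (Bs Y)) := by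
  have : Set.range (Bs Y) = Y.affineOpens := Subtype.range_coe
  rw [this]
  exact Y.isBasis_affineOpens

/-- The direct image `ψ_* B`, a sheaf of rings on `Y`. -/
noncomputable abbrev pushShf (ψ : Y' ⟶ Y) (B : RelSpec.QCAlg Y') : TopCat.Sheaf CommRingCat.{u} Y :=
  ⟨ψ.base _* B.presheaf, TopCat.Sheaf.pushforward_sheaf_of_sheaf ψ.base B.isSheaf⟩

/-- The natural transformation on the affine basis. -/
noncomputable def αAff :
    (inducedFunctor (Bs Y)).op ⋙ A.presheaf ⟶ (inducedFunctor (Bs Y)).op ⋙ (pushShf ψ B).1 where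
  app U := CommRingCat.ofHom (appAff Φ U.unop.1 U.unop.2)
  naturality {U V} i := by
    ext a
    have hVU : V.unop.1 ≤ U.unop.1 := leOfHom ((inducedFunctor (Bs Y)).map i.unop)
    exact (appAff_naturality Φ U.unop.1 U.unop.2 V.unop.1 V.unop.2 hVU a).symm

/-- The glued morphism of presheaves `A ⟶ ψ_* B`. -/
noncomputable def β : A.presheaf ⟶ (pushShf ψ B).1 :=
  TopCat.Sheaf.restrictHomEquivHom A.presheaf (pushShf ψ B) (isBasis_Bs Y) (αAff Φ)

theorem β_app (U : Y.Opens) (hU : IsAffineOpen U) :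
    (β Φ).app (op U) = CommRingCat.ofHom (appAff Φ U hU) :=
  TopCat.Sheaf.extend_hom_app A.presheaf (pushShf ψ B) (isBasis_Bs Y) (αAff Φ) ⟨U, hU⟩

end Extend

section QHom

theorem appAff_str (U : Y.Opens) (hU : IsAffineOpen U) (r : Γ(Y, U)) :
    appAff Φ U hU ((A.str.app (op U)).hom r) =
      (B.str.app (op (ψ ⁻¹ᵁ U))).hom ((ψ.app U).hom r) := by
  symm
  refine eq_glue Φ U hU _ _ fun U' hU' hle => ?_
  rw [Φ.str U hU U' hU' hle r]
  have h := congrArg (fun k => k.hom ((ψ.app U).hom r)) (B.str.naturality (homOfLE hle).op)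
  simp only [CommRingCat.hom_comp, RingHom.comp_apply] at h
  rw [← h]
  rfl

theorem str_β : A.str ≫ β Φ =
    ψ.c ≫ (TopCat.Presheaf.pushforward CommRingCat.{u} ψ.base).map B.str := by
  refine TopCat.Sheaf.hom_ext Y.presheaf (pushShf ψ B) (isBasis_Bs Y) fun U => ?_
  rw [NatTrans.comp_app, NatTrans.comp_app]
  change A.str.app (op U.1) ≫ (β Φ).app (op U.1) = _
  rw [β_app Φ U.1 U.2]
  ext r
  exact appAff_str Φ U.1 U.2 r

/-- **The glued `ψ`-morphism.** -/
noncomputable def toQHom : RelSpec.QHom ψ A B where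
  app W := (β Φ).app (op W)
  naturality {U V} i := ((β Φ).naturality (homOfLE i).op).symm
  str_app W := by
    have h := NatTrans.congr_app (str_β Φ) (op W)
    rw [NatTrans.comp_app, NatTrans.comp_app] at h
    exact h

theorem toQHom_app (U : Y.Opens) (hU : IsAffineOpen U) :
    (toQHom Φ).app U = CommRingCat.ofHom (appAff Φ U hU) := β_app Φ U hU

theorem toQHom_appLE (U : Y.Opens) (hU : IsAffineOpen U) (U' : Y'.Opens) (hU' : IsAffineOpen U')
    (hle : U' ≤ ψ ⁻¹ᵁ U) :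
    (toQHom Φ).appLE U U' hle = CommRingCat.ofHom (Φ.φ U hU U' hU' hle) := by
  rw [RelSpec.QHom.appLE_eq, toQHom_app Φ U hU]
  ext a
  exact appAff_res Φ U hU a U' hU' hle

end QHom

section Graded

variable {𝒮 : RelProj.QCGrAlg Y} {𝒮' : RelProj.QCGrAlg Y'} (Ψ : PairAlgHom ψ 𝒮.toQCAlg 𝒮'.toQCAlg)
  (hdeg : ∀ (U : Y.Opens) (hU : IsAffineOpen U) (U' : Y'.Opens) (hU' : IsAffineOpen U')
    (hle : U' ≤ ψ ⁻¹ᵁ U) (d : ℕ) (x : 𝒮.presheaf.obj (op U)), x ∈ 𝒮.deg U hU d →
      Ψ.φ U hU U' hU' hle x ∈ 𝒮'.deg U' hU' d)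

/-- **The glued graded `ψ`-morphism.** -/
noncomputable def toQGrHom : RelProj.QGrHom ψ 𝒮 𝒮' where
  toQHom := toQHom Ψ
  map_mem U hU U' hU' hle {d x} hx := by
    have h := congrArg (fun k => k.hom x) (toQHom_appLE Ψ U hU U' hU' hle)
    exact h ▸ hdeg U hU U' hU' hle d x hx

theorem toQGrHom_appLE (U : Y.Opens) (hU : IsAffineOpen U) (U' : Y'.Opens)
    (hU' : IsAffineOpen U') (hle : U' ≤ ψ ⁻¹ᵁ U) :
    (toQGrHom Ψ hdeg).appLE U U' hle = CommRingCat.ofHom (Ψ.φ U hU U' hU' hle) :=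
  toQHom_appLE Ψ U hU U' hU' hle

theorem toQGrHom_gradedAt (U : Y.Opens) (hU : IsAffineOpen U) (U' : Y'.Opens)
    (hU' : IsAffineOpen U') (hle : U' ≤ ψ ⁻¹ᵁ U) (x : 𝒮.presheaf.obj (op U)) :
    (toQGrHom Ψ hdeg).gradedAt U hU U' hU' hle x = Ψ.φ U hU U' hU' hle x :=
  congrArg (fun k => k.hom x) (toQGrHom_appLE Ψ hdeg U hU U' hU' hle)

end Graded

section SameBase

variable {Y : Scheme.{u}} (A B : RelSpec.QCAlg Y)

/-- A compatible family of ring homomorphisms `A(U) → B(U)` on the affine opens. -/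
structure AffAlgHom where
  φ : ∀ (U : Y.Opens) (_ : IsAffineOpen U), A.presheaf.obj (op U) →+* B.presheaf.obj (op U)
  res : ∀ (U : Y.Opens) (hU : IsAffineOpen U) (V : Y.Opens) (hV : IsAffineOpen V) (i : V ≤ U)
    (a : A.presheaf.obj (op U)),
    (B.presheaf.map (homOfLE i).op).hom (φ U hU a) = φ V hV ((A.presheaf.map (homOfLE i).op).hom a)
  str : ∀ (U : Y.Opens) (hU : IsAffineOpen U) (r : Γ(Y, U)),
    φ U hU ((A.str.app (op U)).hom r) = (B.str.app (op U)).hom r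

variable {A B} (Θ : AffAlgHom A B)

/-- The natural transformation on the affine basis. -/
noncomputable def AffAlgHom.α :
    (inducedFunctor (Bs Y)).op ⋙ A.presheaf ⟶ (inducedFunctor (Bs Y)).op ⋙ (shf B).1 where
  app U := CommRingCat.ofHom (Θ.φ U.unop.1 U.unop.2)
  naturality {U V} i := by
    ext a
    have hVU : V.unop.1 ≤ U.unop.1 := leOfHom ((inducedFunctor (Bs Y)).map i.unop)
    exact (Θ.res U.unop.1 U.unop.2 V.unop.1 V.unop.2 hVU a).symm

/-- The glued morphism of presheaves. -/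
noncomputable def AffAlgHom.β : A.presheaf ⟶ B.presheaf :=
  TopCat.Sheaf.restrictHomEquivHom A.presheaf (shf B) (isBasis_Bs Y) Θ.α

theorem AffAlgHom.β_app (U : Y.Opens) (hU : IsAffineOpen U) :
    Θ.β.app (op U) = CommRingCat.ofHom (Θ.φ U hU) :=
  TopCat.Sheaf.extend_hom_app A.presheaf (shf B) (isBasis_Bs Y) Θ.α ⟨U, hU⟩

/-- **The glued homomorphism of quasi-coherent algebras.** -/
noncomputable def AffAlgHom.toHom : A ⟶ B where
  hom := Θ.β
  comm := by
    refine TopCat.Sheaf.hom_ext Y.presheaf (shf B) (isBasis_Bs Y) fun U => ?_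
    rw [NatTrans.comp_app]
    change A.str.app (op U.1) ≫ Θ.β.app (op U.1) = B.str.app (op U.1)
    rw [Θ.β_app U.1 U.2]
    ext r
    exact Θ.str U.1 U.2 r

theorem AffAlgHom.toHom_app (U : Y.Opens) (hU : IsAffineOpen U) :
    Θ.toHom.hom.app (op U) = CommRingCat.ofHom (Θ.φ U hU) := Θ.β_app U hU

theorem AffAlgHom.toHom_apply (U : Y.Opens) (hU : IsAffineOpen U) (a : A.presheaf.obj (op U)) :
    (Θ.toHom.hom.app (op U)).hom a = Θ.φ U hU a :=
  congrArg (fun k => k.hom a) (Θ.toHom_app U hU)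

end SameBase

end Groth.Agent.Lib.helper28.PairGlue
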