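import Groth.Agent.Lib.Helper28.GrQuot
import Groth.Agent.Lib.Helper28.AffAlgGlue
import Groth.Agent.Lib.Helper28.GradedTransport
import Groth.Agent.Lib.Helper28.PairGlue

/-!
# The quotient of a quasi-coherent graded algebra by a quasi-coherent graded ideal (helper28)

`GrIdealData 𝒯`: homogeneous ideals `K(U) ⊆ 𝒯(U)` over the affine opens, stable under restriction
and with `K(D(r)) ≤ K(U)·𝒯(D(r))`.  `grAlg D` is the quasi-coherent graded algebra `𝒯/K`, with
`gIso U : (𝒯/K)(U) ≃+* 𝒯(U) ⧸ K(U)` over the affine opens (`gIso_str`, `gIso_res`), graded by the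
images of the `𝒯(U)_d`; `quot D : 𝒯 ⟶ 𝒯/K` is the (graded, surjective on affines) quotient map.
-/

set_option autoImplicit false
universe u

open CategoryTheory CategoryTheory.Limits AlgebraicGeometry Opposite TopologicalSpace
open scoped HomogeneousIdeal

namespace Groth.Agent.Lib.helper28.GrQuotAlg

open Groth.Agent.Lib.helper28.GrQuot Groth.Agent.Lib.helper28 Groth.Agent.Lib.helper28.GradedTransport

variable {Y : Scheme.{u}} (𝒯 : RelProj.QCGrAlg Y)

/-- A quasi-coherent graded ideal of `𝒯`, given over the affine opens. -/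
structure GrIdealData where
  K : ∀ (U : Y.Opens) (hU : IsAffineOpen U), HomogeneousIdeal (𝒯.deg U hU)
  res_mem : ∀ {U V : Y.Opens} (hU : IsAffineOpen U) (hV : IsAffineOpen V) (i : V ≤ U)
    (a : 𝒯.presheaf.obj (op U)), a ∈ (K U hU).toIdeal →
      (𝒯.presheaf.map (homOfLE i).op).hom a ∈ (K V hV).toIdeal
  loc : ∀ (U : Y.Opens) (hU : IsAffineOpen U) (r : Γ(Y, U)),
    (K (Y.basicOpen r) (hU.basicOpen r)).toIdeal ≤
      (K U hU).toIdeal.map (𝒯.presheaf.map (homOfLE (Y.basicOpen_le r)).op).hom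

namespace GrIdealData

variable {𝒯} (D : GrIdealData 𝒯)

/-- The ring `𝒯(U) ⧸ K(U)`. -/
abbrev B (U : Y.Opens) (hU : IsAffineOpen U) : Type u :=
  𝒯.presheaf.obj (op U) ⧸ (D.K U hU).toIdeal

theorem K_le_comap {U V : Y.Opens} (hU : IsAffineOpen U) (hV : IsAffineOpen V) (hVU : V ≤ U) :
    (D.K U hU).toIdeal ≤ (D.K V hV).toIdeal.comap (𝒯.presheaf.map (homOfLE hVU).op).hom :=
  fun a ha => D.res_mem hU hV hVU a ha

/-- The restriction maps of `B`. -/
noncomputable def Bres {U V : Y.Opens} (hU : IsAffineOpen U) (hV : IsAffineOpen V) (hVU : V ≤ U) :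
    D.B U hU →+* D.B V hV :=
  Ideal.quotientMap _ (𝒯.presheaf.map (homOfLE hVU).op).hom (D.K_le_comap hU hV hVU)

@[simp] theorem Bres_mk {U V : Y.Opens} (hU : IsAffineOpen U) (hV : IsAffineOpen V) (hVU : V ≤ U)
    (a : 𝒯.presheaf.obj (op U)) :
    D.Bres hU hV hVU (Ideal.Quotient.mk _ a) =
      Ideal.Quotient.mk _ ((𝒯.presheaf.map (homOfLE hVU).op).hom a) :=
  Ideal.quotientMap_mk

theorem Bres_id (U : Y.Opens) (hU : IsAffineOpen U) :
    D.Bres hU hU le_rfl = RingHom.id _ := by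
  refine Ideal.Quotient.ringHom_ext (RingHom.ext fun a => ?_)
  change D.Bres hU hU le_rfl (Ideal.Quotient.mk _ a) = Ideal.Quotient.mk _ a
  rw [Bres_mk]
  congr 1
  change (𝒯.presheaf.map (𝟙 (op U))).hom a = a
  rw [𝒯.presheaf.map_id]
  rfl

theorem Bres_comp {U V W : Y.Opens} (hU : IsAffineOpen U) (hV : IsAffineOpen V)
    (hW : IsAffineOpen W) (hVU : V ≤ U) (hWV : W ≤ V) :
    (D.Bres hV hW hWV).comp (D.Bres hU hV hVU) = D.Bres hU hW (hWV.trans hVU) := by
  refine Ideal.Quotient.ringHom_ext (RingHom.ext fun a => ?_)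
  change D.Bres hV hW hWV (D.Bres hU hV hVU (Ideal.Quotient.mk _ a)) =
    D.Bres hU hW _ (Ideal.Quotient.mk _ a)
  rw [Bres_mk, Bres_mk, Bres_mk]
  congr 1
  rw [← CommRingCat.comp_apply, ← 𝒯.presheaf.map_comp]
  rfl

theorem Bres_Bres {U V W : Y.Opens} (hU : IsAffineOpen U) (hV : IsAffineOpen V)
    (hW : IsAffineOpen W) (hVU : V ≤ U) (hWV : W ≤ V) (b : D.B U hU) :
    D.Bres hV hW hWV (D.Bres hU hV hVU b) = D.Bres hU hW (hWV.trans hVU) b :=
  congrArg (fun k => k b) (D.Bres_comp hU hV hW hVU hWV)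

/-- `B` as a functor on the small affine Zariski site. -/
noncomputable def F : Y.AffineZariskiSiteᵒᵖ ⥤ CommRingCat.{u} where
  obj U := CommRingCat.of (D.B U.unop.1 U.unop.2)
  map {U V} i := CommRingCat.ofHom (D.Bres U.unop.2 V.unop.2
    (Scheme.AffineZariskiSite.toOpens_mono (leOfHom i.unop)))
  map_id U := by
    rw [← CommRingCat.ofHom_id]
    congr 1
    exact D.Bres_id _ _
  map_comp {U V W} i j := by
    rw [← CommRingCat.ofHom_comp]
    congr 1
    exact (D.Bres_comp _ _ _ _ _).symm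

/-- The structure map. -/
noncomputable def strHom (U : Y.Opens) (hU : IsAffineOpen U) : Γ(Y, U) →+* D.B U hU :=
  (Ideal.Quotient.mk _).comp (𝒯.str.app (op U)).hom

/-- The structure map as a natural transformation. -/
noncomputable def α : (Scheme.AffineZariskiSite.toOpensFunctor Y).op ⋙ Y.presheaf ⟶ D.F where
  app U := CommRingCat.ofHom (D.strHom U.unop.1 U.unop.2)
  naturality {U V} i := by
    ext r
    have hVU : V.unop.1 ≤ U.unop.1 := Scheme.AffineZariskiSite.toOpens_mono (leOfHom i.unop)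
    have h1 : D.Bres U.unop.2 V.unop.2 hVU
        (Ideal.Quotient.mk _ ((𝒯.str.app (op U.unop.1)).hom r)) = Ideal.Quotient.mk _
          ((𝒯.str.app (op V.unop.1)).hom ((Y.presheaf.map (homOfLE hVU).op).hom r)) := by
      rw [Bres_mk]
      congr 1
      exact (congrArg (fun k => k.hom r) (𝒯.str.naturality (homOfLE hVU).op)).symm
    exact h1.symm

theorem coequifibered : D.α.Coequifibered := by
  refine Scheme.AffineZariskiSite.coequifibered_iff_forall_isLocalizationAway.mpr fun U r => ?_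
  have hV : IsAffineOpen (Y.basicOpen r) := U.2.basicOpen r
  have hVU : Y.basicOpen r ≤ U.1 := Y.basicOpen_le r
  let _ : Algebra (D.B U.1 U.2) (D.B (Y.basicOpen r) hV) := (D.Bres U.2 hV hVU).toAlgebra
  change IsLocalization (Submonoid.powers (Ideal.Quotient.mk (D.K U.1 U.2).toIdeal
    ((𝒯.str.app (op U.1)).hom r))) (D.B (Y.basicOpen r) hV)
  let _ : Algebra (𝒯.presheaf.obj (op U.1)) (𝒯.presheaf.obj (op (Y.basicOpen r))) :=
    (𝒯.presheaf.map (homOfLE hVU).op).hom.toAlgebra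
  have hloc : IsLocalization.Away ((𝒯.str.app (op U.1)).hom r)
      (𝒯.presheaf.obj (op (Y.basicOpen r))) := 𝒯.isQC U.1 U.2 r
  have key := IsLocalization.of_surjective
    (Submonoid.powers ((𝒯.str.app (op U.1)).hom r))
    (𝒯.presheaf.obj (op (Y.basicOpen r)))
    (Ideal.Quotient.mk (D.K U.1 U.2).toIdeal) Ideal.Quotient.mk_surjective
    (Ideal.Quotient.mk (D.K (Y.basicOpen r) hV).toIdeal) Ideal.Quotient.mk_surjective
    (S' := D.B (Y.basicOpen r) hV)
    (by
      refine RingHom.ext fun a => ?_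
      exact (D.Bres_mk U.2 hV hVU a).symm)
    (by
      rw [Ideal.mk_ker, Ideal.mk_ker]
      exact D.loc U.1 U.2 r)
  rw [Submonoid.map_powers] at key
  exact key

section Alg

/-- The quasi-coherent algebra glued from the `B(U)`. -/
noncomputable def alg : RelSpec.QCAlg Y := AffAlgGlue.alg D.coequifibered

/-- The sections of `alg` over an affine open are `B(U)`. -/
noncomputable def gIso (U : Y.Opens) (hU : IsAffineOpen U) :
    D.alg.presheaf.obj (op U) ≃+* D.B U hU :=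
  (AffAlgGlue.gammaIso D.coequifibered ⟨U, hU⟩).commRingCatIsoToRingEquiv

theorem gIso_str (U : Y.Opens) (hU : IsAffineOpen U) (r : Γ(Y, U)) :
    D.gIso U hU ((D.alg.str.app (op U)).hom r) = D.strHom U hU r :=
  congrArg (fun g => g.hom r) (AffAlgGlue.str_gammaIso D.coequifibered ⟨U, hU⟩)

theorem gIso_res_basic (U : Y.Opens) (hU : IsAffineOpen U) (r : Γ(Y, U))
    (x : D.alg.presheaf.obj (op U)) :
    D.gIso (Y.basicOpen r) (hU.basicOpen r)
      ((D.alg.presheaf.map (homOfLE (Y.basicOpen_le r)).op).hom x) =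
      D.Bres hU (hU.basicOpen r) (Y.basicOpen_le r) (D.gIso U hU x) := by
  have h := AffAlgGlue.gammaIso_naturality D.coequifibered
    (U := ⟨U, hU⟩) (V := ⟨Y.basicOpen r, hU.basicOpen r⟩)
    (homOfLE (Scheme.AffineZariskiSite.basicOpen_le ⟨U, hU⟩ r))
  exact congrArg (fun g => g.hom x) h

theorem gIso_res_basic' (U : Y.Opens) (hU : IsAffineOpen U) (r : Γ(Y, U)) (W : Y.Opens)
    (hW : IsAffineOpen W) (hWr : W = Y.basicOpen r) (hle : W ≤ U)
    (x : D.alg.presheaf.obj (op U)) :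
    D.gIso W hW ((D.alg.presheaf.map (homOfLE hle).op).hom x) =
      D.Bres hU hW hle (D.gIso U hU x) := by
  subst hWr
  exact D.gIso_res_basic U hU r x

/-- Compatibility of `gIso` with all restrictions between affine opens. -/
theorem gIso_res {U V : Y.Opens} (hU : IsAffineOpen U) (hV : IsAffineOpen V) (i : V ≤ U)
    (x : D.alg.presheaf.obj (op U)) :
    D.gIso V hV ((D.alg.presheaf.map (homOfLE i).op).hom x) =
      D.Bres hU hV i (D.gIso U hU x) := by
  rw [← RingEquiv.eq_symm_apply]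
  -- cover of `V` by opens basic in both `U` and `V`
  have hcov : ∀ p : V, ∃ (W : Y.Opens) (_ : IsAffineOpen W) (f : Γ(Y, U)) (g : Γ(Y, V)),
      W = Y.basicOpen f ∧ W = Y.basicOpen g ∧ p.1 ∈ W := by
    intro p
    obtain ⟨f, g, hfg, hp⟩ := exists_basicOpen_le_affine_inter hU hV p.1 ⟨i p.2, p.2⟩
    exact ⟨Y.basicOpen f, hU.basicOpen f, f, g, rfl, hfg, hp⟩
  choose W hW f g hWf hWg hpW using hcov
  have hWV : ∀ p, W p ≤ V := fun p => (hWg p).le.trans (Y.basicOpen_le _)
  have hWU : ∀ p, W p ≤ U := fun p => (hWV p).trans i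
  refine TopCat.Sheaf.eq_of_locally_eq' ⟨D.alg.presheaf, D.alg.isSheaf⟩ W V
    (fun p => homOfLE (hWV p))
    (fun q hq => Opens.mem_iSup.mpr ⟨⟨q, hq⟩, hpW ⟨q, hq⟩⟩) _ _ fun p => ?_
  change (D.alg.presheaf.map (homOfLE (hWV p)).op).hom
      ((D.alg.presheaf.map (homOfLE i).op).hom x) =
    (D.alg.presheaf.map (homOfLE (hWV p)).op).hom
      ((D.gIso V hV).symm (D.Bres hU hV i (D.gIso U hU x)))
  apply (D.gIso (W p) (hW p)).injective
  have h1 := D.gIso_res_basic' V hV (g p) (W p) (hW p) (hWg p) (hWV p)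
    ((D.gIso V hV).symm (D.Bres hU hV i (D.gIso U hU x)))
  rw [RingEquiv.apply_symm_apply, D.Bres_Bres] at h1
  rw [h1, ← CommRingCat.comp_apply, ← D.alg.presheaf.map_comp]
  exact D.gIso_res_basic' U hU (f p) (W p) (hW p) (hWf p) (hWU p) x

/-- The grading of `B(U)`. -/
noncomputable abbrev Bgr (U : Y.Opens) (hU : IsAffineOpen U) : ℕ → AddSubgroup (D.B U hU) :=
  qDeg (𝒯.deg U hU) (D.K U hU)

theorem Bres_mem {U V : Y.Opens} (hU : IsAffineOpen U) (hV : IsAffineOpen V) (hVU : V ≤ U)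
    {d : ℕ} {b : D.B U hU} (hb : b ∈ D.Bgr U hU d) : D.Bres hU hV hVU b ∈ D.Bgr V hV d := by
  obtain ⟨a, ha, rfl⟩ := hb
  refine ⟨(𝒯.presheaf.map (homOfLE hVU).op).hom a, 𝒯.map_mem hU hV hVU ha, ?_⟩
  exact (D.Bres_mk hU hV hVU a).symm

/-- The degree-`d` part of `alg(U)`. -/
noncomputable def deg (U : Y.Opens) (hU : IsAffineOpen U) (d : ℕ) :
    AddSubgroup (D.alg.presheaf.obj (op U)) :=
  mapDeg (D.gIso U hU).symm (D.Bgr U hU) d

theorem mem_deg_iff (U : Y.Opens) (hU : IsAffineOpen U) (d : ℕ)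
    (x : D.alg.presheaf.obj (op U)) : x ∈ D.deg U hU d ↔ D.gIso U hU x ∈ D.Bgr U hU d := by
  constructor
  · rintro ⟨b, hb, rfl⟩
    change D.gIso U hU ((D.gIso U hU).symm b) ∈ _
    rw [RingEquiv.apply_symm_apply]
    exact hb
  · intro h
    exact ⟨_, h, RingEquiv.symm_apply_apply _ _⟩

noncomputable instance degGraded (U : Y.Opens) (hU : IsAffineOpen U) : GradedRing (D.deg U hU) :=
  gradedRing (D.gIso U hU).symm (D.Bgr U hU)

/-- **The quotient quasi-coherent graded algebra `𝒯/K`.** -/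
@[reducible] noncomputable def grAlg : RelProj.QCGrAlg Y where
  toQCAlg := D.alg
  deg := D.deg
  graded := D.degGraded
  map_mem := fun {U V} hU hV i {d x} hx => by
    rw [mem_deg_iff] at hx ⊢
    rw [D.gIso_res hU hV i x]
    exact D.Bres_mem hU hV i hx
  str_mem := by
    intro U hU r
    rw [mem_deg_iff, D.gIso_str U hU r]
    exact ⟨(𝒯.str.app (op U)).hom r, 𝒯.str_mem U hU r, rfl⟩

end Alg

section Quot

open Groth.Agent.Lib.helper28.PairGlue

/-- The quotient maps over the affine opens. -/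
noncomputable def quotAff : AffAlgHom 𝒯.toQCAlg D.alg where
  φ U hU := (D.gIso U hU).symm.toRingHom.comp (Ideal.Quotient.mk (D.K U hU).toIdeal)
  res U hU V hV i a := by
    apply (D.gIso V hV).injective
    rw [D.gIso_res hU hV i]
    change D.Bres hU hV i (D.gIso U hU ((D.gIso U hU).symm (Ideal.Quotient.mk _ a))) =
      D.gIso V hV ((D.gIso V hV).symm (Ideal.Quotient.mk _ _))
    rw [RingEquiv.apply_symm_apply, RingEquiv.apply_symm_apply, Bres_mk]
  str U hU r := by
    apply (D.gIso U hU).injective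
    rw [D.gIso_str U hU r]
    change D.gIso U hU ((D.gIso U hU).symm (Ideal.Quotient.mk _ _)) = _
    rw [RingEquiv.apply_symm_apply]
    rfl

/-- **The quotient map `𝒯 ⟶ 𝒯/K`.** -/
noncomputable def quot : 𝒯.toQCAlg ⟶ D.grAlg.toQCAlg := D.quotAff.toHom

theorem gIso_quot (U : Y.Opens) (hU : IsAffineOpen U) (a : 𝒯.presheaf.obj (op U)) :
    D.gIso U hU ((D.quot.hom.app (op U)).hom a) = Ideal.Quotient.mk (D.K U hU).toIdeal a := by
  have h := D.quotAff.toHom_apply U hU a
  change (D.quot.hom.app (op U)).hom a = _ at h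
  rw [h]
  change D.gIso U hU ((D.gIso U hU).symm (Ideal.Quotient.mk _ a)) = _
  rw [RingEquiv.apply_symm_apply]

theorem quot_surjective (U : Y.Opens) (hU : IsAffineOpen U) :
    Function.Surjective (D.quot.hom.app (op U)).hom := by
  intro x
  obtain ⟨a, ha⟩ := Ideal.Quotient.mk_surjective (D.gIso U hU x)
  refine ⟨a, (D.gIso U hU).injective ?_⟩
  rw [gIso_quot, ha]

theorem quot_eq_zero_iff (U : Y.Opens) (hU : IsAffineOpen U) (a : 𝒯.presheaf.obj (op U)) :
    (D.quot.hom.app (op U)).hom a = 0 ↔ a ∈ (D.K U hU).toIdeal := by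
  rw [← (D.gIso U hU).map_eq_zero_iff, gIso_quot]
  exact Ideal.Quotient.eq_zero_iff_mem

theorem mem_deg_iff_exists (U : Y.Opens) (hU : IsAffineOpen U) (d : ℕ)
    (x : D.alg.presheaf.obj (op U)) :
    x ∈ D.grAlg.deg U hU d ↔ ∃ a ∈ 𝒯.deg U hU d, (D.quot.hom.app (op U)).hom a = x := by
  change x ∈ D.deg U hU d ↔ _
  rw [mem_deg_iff]
  constructor
  · rintro ⟨a, ha, h⟩
    refine ⟨a, ha, (D.gIso U hU).injective ?_⟩
    rw [gIso_quot]
    exact h
  · rintro ⟨a, ha, rfl⟩
    rw [gIso_quot]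
    exact ⟨a, ha, rfl⟩

theorem isGradedHom_quot : RelProj.IsGradedHom (𝒜 := 𝒯) (ℬ := D.grAlg) D.quot := by
  intro U hU d x hx
  exact (D.mem_deg_iff_exists U hU d _).mpr ⟨x, hx, rfl⟩

theorem isGenDegOne (h : 𝒯.IsGenDegOne) : D.grAlg.IsGenDegOne := by
  intro U hU
  rw [eq_top_iff]
  intro x hx
  clear hx
  obtain ⟨a, rfl⟩ := D.quot_surjective U hU x
  have ha : a ∈ Subring.closure ((𝒯.deg U hU 0 : Set (𝒯.presheaf.obj (op U))) ∪
      (𝒯.deg U hU 1 : Set _)) := by
    rw [h U hU]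
    trivial
  induction ha using Subring.closure_induction with
  | mem y hy =>
    refine Subring.subset_closure ?_
    rcases hy with hy | hy
    · exact Or.inl ((D.mem_deg_iff_exists U hU 0 _).mpr ⟨y, hy, rfl⟩)
    · exact Or.inr ((D.mem_deg_iff_exists U hU 1 _).mpr ⟨y, hy, rfl⟩)
  | zero => rw [map_zero]; exact Subring.zero_mem _
  | one => rw [map_one]; exact Subring.one_mem _
  | add y z _ _ hy hz => rw [map_add]; exact Subring.add_mem _ hy hz
  | neg y _ hy => rw [map_neg]; exact Subring.neg_mem _ hy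
  | mul y z _ _ hy hz => rw [map_mul]; exact Subring.mul_mem _ hy hz

theorem quot_str (U : Y.Opens) (r : Γ(Y, U)) :
    (D.quot.hom.app (op U)).hom ((𝒯.str.app (op U)).hom r) = (D.alg.str.app (op U)).hom r := by
  have h0 := NatTrans.congr_app D.quot.comm (op U)
  rw [NatTrans.comp_app] at h0
  exact congrArg (fun k => k.hom r) h0

theorem isFTDeg (d : ℕ) (h : 𝒯.IsFTDeg d) : D.grAlg.IsFTDeg d := by
  classical
  intro U hU
  obtain ⟨T, hT, hgen⟩ := h U hU
  refine ⟨T.image (D.quot.hom.app (op U)).hom, ?_, ?_⟩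
  · intro y hy
    obtain ⟨t, ht, rfl⟩ := Finset.mem_image.mp (Finset.mem_coe.mp hy)
    exact (D.mem_deg_iff_exists U hU d _).mpr ⟨t, hT (Finset.mem_coe.mpr ht), rfl⟩
  · intro x hx
    obtain ⟨a, ha, rfl⟩ := (D.mem_deg_iff_exists U hU d x).mp hx
    obtain ⟨c, hc⟩ := hgen a ha
    refine ⟨fun y => ∑ t ∈ T.filter (fun t => (D.quot.hom.app (op U)).hom t = y), c t, ?_⟩
    rw [hc, map_sum]
    symm
    refine Finset.sum_image'
      (fun t => (D.quot.hom.app (op U)).hom ((𝒯.str.app (op U)).hom (c t) * t)) ?_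
    intro t ht
    rw [map_sum, Finset.sum_mul]
    refine Finset.sum_congr ?_ ?_
    · ext t'
      simp only [Finset.mem_filter]
    · intro t' ht'
      have h2 : (D.quot.hom.app (op U)).hom t' = (D.quot.hom.app (op U)).hom t :=
        (Finset.mem_filter.mp ht').2
      rw [map_mul, quot_str, h2]

end Quot

end GrIdealData

end Groth.Agent.Lib.helper28.GrQuotAlg
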