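import Groth.Agent.Lib.Helper28.SymLocal
import Groth.Agent.Lib.Helper28.QCAlgHomAffine

/-!
# Converse local criterion for symmetric algebras (helper28)

`isSymAlg_of_bijective`: a pair `(A, jA : E ⟶ A)` such that over every affine open `U` the ring
homomorphism `Sym_{O(U)} E(U) → A(U)` extending the structure map and `jA` is bijective, is a
symmetric algebra of `E` (in the sense of the universal property `RelSpec.IsSymAlg`).
-/

set_option autoImplicit false

universe u

namespace Groth.Agent.Lib.helper28.SymAlg

open CategoryTheory CategoryTheory.Limits AlgebraicGeometry TopologicalSpace Opposite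
open Groth.Agent.Lib.helper28.SymLoc Groth.Agent.Lib.helper28.SymSheaf
open Groth.Agent.Lib.helper28

variable {S : Scheme.{u}} (E : S.Modules) [E.IsQuasicoherent]
  (A : RelSpec.QCAlg S) (jA : E ⟶ A.toModule)

theorem isSymAlg_of_bijective
    (h : ∀ U : S.AffineZariskiSite, Function.Bijective (liftU E A jA U.1)) :
    RelSpec.IsSymAlg E A jA := by
  have hΨ : ∀ U : S.AffineZariskiSite,
      Function.Bijective ((ψHom E A jA).app (op U.1)).hom := by
    intro U
    have hs : Function.Bijective (symIso E U).hom.hom :=
      ⟨Function.LeftInverse.injective (symIso_inv_hom E U),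
        Function.RightInverse.surjective (symIso_hom_inv E U)⟩
    have e : (((ψHom E A jA).app (op U.1)).hom : _ → _) =
        (liftU E A jA U.1) ∘ (symIso E U).hom.hom := funext (ψHom_app E A jA U)
    rw [e]
    exact (h U).comp hs
  let eq : ∀ U : S.AffineZariskiSite,
      (symAlg E).presheaf.obj (op U.1) ≃+* A.presheaf.obj (op U.1) :=
    fun U => RingEquiv.ofBijective ((ψHom E A jA).app (op U.1)).hom (hΨ U)
  have heq : ∀ (U : S.AffineZariskiSite) (x : (symAlg E).presheaf.obj (op U.1)),
      eq U x = ((ψHom E A jA).app (op U.1)).hom x := fun U x => rfl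
  obtain ⟨χ, hχ⟩ := QCAlgHomAffine.exists_hom_of_affine (A := A) (B := symAlg E)
    (fun U => ((eq U).symm : A.presheaf.obj (op U.1) →+* (symAlg E).presheaf.obj (op U.1)))
    (by
      intro U V hVU x
      apply (eq V).injective
      change eq V ((eq V).symm _) = eq V _
      rw [RingEquiv.apply_symm_apply, heq]
      have hn := (ψHom E A jA).naturality
        (homOfLE (Scheme.AffineZariskiSite.toOpens_mono hVU)).op
      have hn' := congrArg (fun k => k.hom ((eq U).symm x)) hn
      simp only [CommRingCat.hom_comp, RingHom.coe_comp, Function.comp_apply] at hn'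
      refine Eq.trans ?_ hn'.symm
      exact congrArg (A.presheaf.map (homOfLE
        (Scheme.AffineZariskiSite.toOpens_mono hVU)).op).hom ((eq U).apply_symm_apply x).symm)
    (by
      intro U a
      apply (eq U).injective
      change eq U ((eq U).symm _) = eq U _
      rw [RingEquiv.apply_symm_apply, heq]
      exact (congrArg (fun k => (k.app (op U.1)).hom a) (str_ψHom E A jA)).symm)
  have h1 : ψ E A jA ≫ χ = 𝟙 _ := by
    apply QCAlgHomAffine.hom_ext_of_affine
    intro U x
    change (χ.hom.app (op U.1)).hom (((ψHom E A jA).app (op U.1)).hom x) = x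
    rw [hχ]
    exact (eq U).symm_apply_apply x
  have h2 : χ ≫ ψ E A jA = 𝟙 _ := by
    apply QCAlgHomAffine.hom_ext_of_affine
    intro U x
    change ((ψHom E A jA).app (op U.1)).hom ((χ.hom.app (op U.1)).hom x) = x
    rw [hχ]
    exact (eq U).apply_symm_apply x
  have hjχ : jA ≫ RelSpec.QCAlg.Hom.toModuleMap χ = j E := by
    rw [← j_ψ E A jA, Category.assoc, ← toModuleMap_comp, h1, toModuleMap_id, Category.comp_id]
  intro B φ
  refine ⟨χ ≫ ψ E B φ, ?_, ?_⟩
  · change jA ≫ RelSpec.QCAlg.Hom.toModuleMap (χ ≫ ψ E B φ) = φ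
    rw [toModuleMap_comp, ← Category.assoc, hjχ, j_ψ]
  · intro ψ' hψ'
    have h3 : ψ E A jA ≫ ψ' = ψ E B φ := by
      apply ψ_unique
      rw [toModuleMap_comp, ← Category.assoc, j_ψ, hψ']
    rw [← h3, ← Category.assoc, h2, Category.id_comp]

end Groth.Agent.Lib.helper28.SymAlg
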