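import Groth.Agent.Lib.Helper28.QCAlgRestrict
import Groth.Agent.Lib.Helper28.SymConverse
import Groth.Prelude.Def_RelProj4

/-!
# Restriction of graded quasi-coherent algebras and graded `q`-morphisms to opens (helper28)

* `grRestr 𝒮 W : RelProj.QCGrAlg ↑W`, with sections over `U'` those of `𝒮` over `W.ι ''ᵁ U'`.
* `isGrSymAlg_restr`: the restriction of a graded symmetric algebra of `E` is one of `E|_W`.
* `qRestr u W : QGrHom (q ∣_ W) (grRestr 𝒮 W) (grRestr 𝒮' (q ⁻¹ᵁ W))` and `qRestr_appLE`.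
-/

set_option autoImplicit false
universe u
open CategoryTheory AlgebraicGeometry TopologicalSpace Opposite

namespace Groth.Agent.Lib.helper28.GrRestrict

open Groth.Agent.Lib.helper28.SymLoc Groth.Agent.Lib.helper28.SymSheaf
open Groth.Agent.Lib.helper28

section Ring

variable {R R' : Type*} [CommRing R] [CommRing R']
  {M M' : Type*} [AddCommGroup M] [AddCommGroup M'] [Module R M] [Module R' M']

theorem bijective_symMap (ρ : R →+* R') (f : M →+ M') (hf : ∀ a m, f (a • m) = ρ a • f m)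
    (ρ' : R' →+* R) (f' : M' →+ M) (hf' : ∀ a m, f' (a • m) = ρ' a • f' m)
    (h1 : ∀ a, ρ' (ρ a) = a) (h2 : ∀ a, ρ (ρ' a) = a) (h3 : ∀ m, f' (f m) = m)
    (h4 : ∀ m, f (f' m) = m) : Function.Bijective (symMap ρ f hf) := by
  have e1 : (symMap ρ' f' hf').comp (symMap ρ f hf) = RingHom.id _ :=
    ringHom_ext _ _ (fun a => by
      rw [RingHom.comp_apply, symMap_algebraMap, symMap_algebraMap, h1]; rfl)
      (fun m => by rw [RingHom.comp_apply, symMap_ι, symMap_ι, h3]; rfl)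
  have e2 : (symMap ρ f hf).comp (symMap ρ' f' hf') = RingHom.id _ :=
    ringHom_ext _ _ (fun a => by
      rw [RingHom.comp_apply, symMap_algebraMap, symMap_algebraMap, h2]; rfl)
      (fun m => by rw [RingHom.comp_apply, symMap_ι, symMap_ι, h4]; rfl)
  exact ⟨Function.LeftInverse.injective (fun x => congrArg (fun k => k x) e1),
    Function.RightInverse.surjective (fun x => congrArg (fun k => k x) e2)⟩

end Ring

section Alg

variable {X : Scheme.{u}} (𝒮 : RelProj.QCGrAlg X) (W : X.Opens)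

/-- Restriction of a graded quasi-coherent algebra to an open subscheme. -/
noncomputable def grRestr : RelProj.QCGrAlg (↑W : Scheme.{u}) where
  toQCAlg := QCAlgRestrict.restr 𝒮.toQCAlg W
  deg U' hU' := 𝒮.deg (W.ι ''ᵁ U') (hU'.image_of_isOpenImmersion W.ι)
  graded U' hU' := 𝒮.graded _ _
  map_mem := fun {_ _} _ _ i {_ _} hx => 𝒮.map_mem _ _ (W.ι.image_mono i) hx
  str_mem U' hU' r := 𝒮.str_mem _ _ r

theorem grRestr_deg (U' : (↑W : Scheme.{u}).Opens) (hU' : IsAffineOpen U') (n : ℕ) :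
    (grRestr 𝒮 W).deg U' hU' n = 𝒮.deg (W.ι ''ᵁ U') (hU'.image_of_isOpenImmersion W.ι) n := rfl

/-- Sections of `O_W` over `U'` are sections of `O_X` over the image. -/
def secRing (U' : (↑W : Scheme.{u}).Opens) : Γ((↑W : Scheme.{u}), U') →+* Γ(X, W.ι ''ᵁ U') :=
  RingHom.id _

/-- Inverse of `secRing`. -/
def secRing' (U' : (↑W : Scheme.{u}).Opens) : Γ(X, W.ι ''ᵁ U') →+* Γ((↑W : Scheme.{u}), U') :=
  RingHom.id _

/-- Sections of the restricted algebra over `U'` are sections of the algebra over the image. -/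
noncomputable def secAlg (A : RelSpec.QCAlg X) (U' : (↑W : Scheme.{u}).Opens) :
    (QCAlgRestrict.restr A W).presheaf.obj (op U') →+* A.presheaf.obj (op (W.ι ''ᵁ U')) :=
  RingHom.id _

/-- Sections of `E|_W` over `U'` are sections of `E` over the image. -/
noncomputable def secMod (E : X.Modules) (U' : (↑W : Scheme.{u}).Opens) :
    Γ(E.restrict W.ι, U') →+ Γ(E, W.ι ''ᵁ U') :=
  AddMonoidHom.id _

/-- Inverse of `secMod`. -/
noncomputable def secMod' (E : X.Modules) (U' : (↑W : Scheme.{u}).Opens) :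
    Γ(E, W.ι ''ᵁ U') →+ Γ(E.restrict W.ι, U') :=
  AddMonoidHom.id _

theorem secMod_smul (E : X.Modules) (U' : (↑W : Scheme.{u}).Opens)
    (a : Γ((↑W : Scheme.{u}), U')) (m : Γ(E.restrict W.ι, U')) :
    secMod W E U' (a • m) = secRing W U' a • secMod W E U' m :=
  Groth.Agent.Lib.helper7.IdealCartier.restrict_smul W E U' a m

theorem secMod'_smul (E : X.Modules) (U' : (↑W : Scheme.{u}).Opens)
    (a : Γ(X, W.ι ''ᵁ U')) (m : Γ(E, W.ι ''ᵁ U')) :
    secMod' W E U' (a • m) = secRing' W U' a • secMod' W E U' m :=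
  (Groth.Agent.Lib.helper7.IdealCartier.restrict_smul W E U' a m).symm

variable (E : X.Modules) [E.IsQuasicoherent] (j : E ⟶ 𝒮.toModule)

theorem isGrSymAlg_restr (hj : RelProj.IsGrSymAlg E 𝒮 j) :
    RelProj.IsGrSymAlg (E.restrict W.ι) (grRestr 𝒮 W)
      (QCAlgRestrict.restrHom 𝒮.toQCAlg W j) := by
  refine ⟨?_, fun U' hU' e => hj.2 _ _ _⟩
  apply SymAlg.isSymAlg_of_bijective
  rintro ⟨U', hU'⟩
  change Function.Bijective (SymAlg.liftU (E.restrict W.ι) (QCAlgRestrict.restr 𝒮.toQCAlg W)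
      (QCAlgRestrict.restrHom 𝒮.toQCAlg W j) U')
  have hb : Function.Bijective (SymAlg.liftU E 𝒮.toQCAlg j (W.ι ''ᵁ U')) :=
    SymAlg.liftU_bijective E 𝒮.toQCAlg j hj.1
      ⟨W.ι ''ᵁ U', hU'.image_of_isOpenImmersion W.ι⟩
  have hcb : Function.Bijective (symMap (secRing W U') (secMod W E U') (secMod_smul W E U')) :=
    bijective_symMap _ _ _ (secRing' W U') (secMod' W E U') (secMod'_smul W E U')
      (fun _ => rfl) (fun _ => rfl) (fun _ => rfl) (fun _ => rfl)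
  have e : (secAlg W 𝒮.toQCAlg U').comp (SymAlg.liftU (E.restrict W.ι)
      (QCAlgRestrict.restr 𝒮.toQCAlg W) (QCAlgRestrict.restrHom 𝒮.toQCAlg W j) U') =
      (SymAlg.liftU E 𝒮.toQCAlg j (W.ι ''ᵁ U')).comp
        (symMap (secRing W U') (secMod W E U') (secMod_smul W E U')) := by
    refine ringHom_ext _ _ (fun a => ?_) (fun m => ?_)
    · rw [RingHom.comp_apply, RingHom.comp_apply, symMap_algebraMap, SymAlg.liftU_algebraMap,
        SymAlg.liftU_algebraMap]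
      rfl
    · rw [RingHom.comp_apply, RingHom.comp_apply, symMap_ι, SymAlg.liftU_ι, SymAlg.liftU_ι]
      rfl
  have e' : ∀ x, secAlg W 𝒮.toQCAlg U' (SymAlg.liftU (E.restrict W.ι)
      (QCAlgRestrict.restr 𝒮.toQCAlg W) (QCAlgRestrict.restrHom 𝒮.toQCAlg W j) U' x) =
      SymAlg.liftU E 𝒮.toQCAlg j (W.ι ''ᵁ U')
        (symMap (secRing W U') (secMod W E U') (secMod_smul W E U') x) := fun x =>
    congrArg (fun k => k x) e
  have hcomp := hb.comp hcb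
  refine ⟨fun x y hxy => hcomp.1 ?_, fun y => ?_⟩
  · exact (e' x).symm.trans ((congrArg (secAlg W 𝒮.toQCAlg U') hxy).trans (e' y))
  · obtain ⟨x, hx⟩ := hcomp.2 (secAlg W 𝒮.toQCAlg U' y)
    exact ⟨x, (e' x).trans hx⟩

end Alg

section Hom

variable {X Y : Scheme.{u}} {q : X ⟶ Y} {𝒮 : RelProj.QCGrAlg Y} {𝒮' : RelProj.QCGrAlg X}
  (u : RelProj.QGrHom q 𝒮 𝒮') (W : Y.Opens)

theorem image_preimage_le (q : X ⟶ Y) (U' : (↑W : Scheme.{u}).Opens) :
    (q ⁻¹ᵁ W).ι ''ᵁ ((q ∣_ W) ⁻¹ᵁ U') ≤ q ⁻¹ᵁ (W.ι ''ᵁ U') :=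
  (image_morphismRestrict_preimage q W U').le

/-- Restriction of a graded `q`-morphism over an open of the base. -/
noncomputable def qRestr : RelProj.QGrHom (q ∣_ W) (grRestr 𝒮 W) (grRestr 𝒮' (q ⁻¹ᵁ W)) where
  app U' := u.appLE (W.ι ''ᵁ U') ((q ⁻¹ᵁ W).ι ''ᵁ ((q ∣_ W) ⁻¹ᵁ U')) (image_preimage_le W q U')
  naturality := by
    intro U' V' i
    change u.appLE (W.ι ''ᵁ U') ((q ⁻¹ᵁ W).ι ''ᵁ ((q ∣_ W) ⁻¹ᵁ U')) (image_preimage_le W q U') ≫
        𝒮'.presheaf.map (homOfLE ((q ⁻¹ᵁ W).ι.image_mono ((q ∣_ W).preimage_mono i))).op =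
      𝒮.presheaf.map (homOfLE (W.ι.image_mono i)).op ≫
        u.appLE (W.ι ''ᵁ V') ((q ⁻¹ᵁ W).ι ''ᵁ ((q ∣_ W) ⁻¹ᵁ V')) (image_preimage_le W q V')
    rw [RelSpec.QHom.appLE_map, RelSpec.QHom.map_appLE]
  str_app := by
    intro U'
    change 𝒮.str.app (op (W.ι ''ᵁ U')) ≫
        u.appLE (W.ι ''ᵁ U') ((q ⁻¹ᵁ W).ι ''ᵁ ((q ∣_ W) ⁻¹ᵁ U')) (image_preimage_le W q U') =
      (q ∣_ W).app U' ≫ 𝒮'.str.app (op ((q ⁻¹ᵁ W).ι ''ᵁ ((q ∣_ W) ⁻¹ᵁ U')))
    rw [RelSpec.QHom.str_appLE, morphismRestrict_app']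
    rfl
  map_mem := by
    intro U' hU' V' hV' hle d x hx
    have h := u.map_mem (W.ι ''ᵁ U') (hU'.image_of_isOpenImmersion W.ι)
      ((q ⁻¹ᵁ W).ι ''ᵁ V') (hV'.image_of_isOpenImmersion (q ⁻¹ᵁ W).ι)
      (((q ⁻¹ᵁ W).ι.image_mono hle).trans (image_preimage_le W q U')) hx
    have e := congrArg (fun k => k.hom x) (RelSpec.QHom.appLE_map u.toQHom
      (image_preimage_le W q U') ((q ⁻¹ᵁ W).ι.image_mono hle))
    change (𝒮'.presheaf.map (homOfLE ((q ⁻¹ᵁ W).ι.image_mono hle)).op).hom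
      ((u.appLE (W.ι ''ᵁ U') ((q ⁻¹ᵁ W).ι ''ᵁ ((q ∣_ W) ⁻¹ᵁ U'))
        (image_preimage_le W q U')).hom x) ∈
        𝒮'.deg ((q ⁻¹ᵁ W).ι ''ᵁ V') (hV'.image_of_isOpenImmersion (q ⁻¹ᵁ W).ι) d
    exact e ▸ h

theorem qRestr_appLE (U' : (↑W : Scheme.{u}).Opens) (V' : (↑(q ⁻¹ᵁ W) : Scheme.{u}).Opens)
    (hle : V' ≤ (q ∣_ W) ⁻¹ᵁ U') :
    (qRestr u W).appLE U' V' hle =
      u.appLE (W.ι ''ᵁ U') ((q ⁻¹ᵁ W).ι ''ᵁ V')
        (((q ⁻¹ᵁ W).ι.image_mono hle).trans (image_preimage_le W q U')) := by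
  change u.appLE (W.ι ''ᵁ U') ((q ⁻¹ᵁ W).ι ''ᵁ ((q ∣_ W) ⁻¹ᵁ U')) (image_preimage_le W q U') ≫
      𝒮'.presheaf.map (homOfLE ((q ⁻¹ᵁ W).ι.image_mono hle)).op = _
  rw [RelSpec.QHom.appLE_map]

end Hom

end Groth.Agent.Lib.helper28.GrRestrict
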