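import Mathlib
import Groth.Agent.Lib.Lead.GenDegOne

set_option autoImplicit false

universe u

/-! Graded algebra: (TF) + every degree-one generator acts nilpotently on homogeneous elements ⇒ (TN). -/

namespace Groth.Agent.Lib.helper28.GrTFTN

open scoped HomogeneousIdeal

variable {A : Type u} [CommRing A] (𝒜 : ℕ → AddSubgroup A) [GradedRing 𝒜]
variable {M : Type u} [AddCommGroup M] [Module A M] (ℳ : ℕ → AddSubgroup M)
  [DirectSum.Decomposition ℳ] [SetLike.GradedSMul 𝒜 ℳ]

/-- A degree-preserving additive map commutes with taking homogeneous components. -/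
theorem decompose_map' {N : Type u} [AddCommGroup N] (𝒩 : ℕ → AddSubgroup N)
    [DirectSum.Decomposition 𝒩] (φ : M →+ N) (hu : ∀ (i : ℕ) (m : M), m ∈ ℳ i → φ m ∈ 𝒩 i) (x : M)
    (j : ℕ) : (DirectSum.decompose 𝒩 (φ x) j : N) = φ (DirectSum.decompose ℳ x j : M) := by
  classical
  conv_lhs => rw [← DirectSum.sum_support_decompose ℳ x, map_sum, DirectSum.decompose_sum]
  rw [DFinsupp.finset_sum_apply, AddSubmonoidClass.coe_finset_sum]
  by_cases hj : j ∈ (DirectSum.decompose ℳ x).support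
  · rw [Finset.sum_eq_single j]
    · rw [DirectSum.decompose_of_mem_same 𝒩 (hu j _ (SetLike.coe_mem _))]
    · intro l _ hlj
      rw [DirectSum.decompose_of_mem_ne 𝒩 (hu l _ (SetLike.coe_mem _)) hlj]
    · intro h; exact absurd hj h
  · have h0 : (DirectSum.decompose ℳ x j : M) = 0 := by
      have := DFinsupp.notMem_support_iff.mp hj
      rw [this]; rfl
    rw [h0, map_zero]
    refine Finset.sum_eq_zero fun l hl => ?_
    have hlj : l ≠ j := fun h => hj (h ▸ hl)
    rw [DirectSum.decompose_of_mem_ne 𝒩 (hu l _ (SetLike.coe_mem _)) hlj]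

/-- In a graded ring generated in degrees `0` and `1`, `𝒜 d ⊆ (𝒜₊)^d`. -/
theorem mem_irrelevant_pow (hgen : Subring.closure ((𝒜 0 : Set A) ∪ (𝒜 1 : Set A)) = ⊤)
    (d : ℕ) (a : A) (ha : a ∈ 𝒜 d) : a ∈ ((𝒜₊).toIdeal) ^ d := by
  refine Groth.Agent.Lib.Lead.GenDegOne.gen_induction hgen
    (fun k a => a ∈ ((𝒜₊).toIdeal) ^ k) ?_ ?_ ?_ ?_ ?_ ?_ d a ha
  · intro a _
    rw [pow_zero, Ideal.one_eq_top]
    trivial
  · intro a ha
    rw [pow_one]
    exact HomogeneousIdeal.mem_irrelevant_of_mem _ Nat.one_pos ha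
  · intro i j a b _ _ hPa hPb
    rw [pow_add]
    exact Ideal.mul_mem_mul hPa hPb
  · intro k
    exact Ideal.zero_mem _
  · intro k a b _ _ hPa hPb
    exact Ideal.add_mem _ hPa hPb
  · intro k a _ hPa
    exact (Ideal.neg_mem_iff _).mpr hPa

/-- The additive submonoid of elements without components in degrees `≥ D`. -/
def lowPart (D : ℕ) : AddSubmonoid M where
  carrier := {x | ∀ K : ℕ, D ≤ K → (DirectSum.decompose ℳ x K : M) = 0}
  zero_mem' := by
    intro K _
    rw [DirectSum.decompose_zero]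
    rfl
  add_mem' := by
    intro a b ha hb K hK
    rw [DirectSum.decompose_add, DirectSum.add_apply, AddMemClass.coe_add, ha K hK, hb K hK,
      add_zero]

theorem mem_lowPart_of_mem {D j : ℕ} (hj : j < D) {x : M} (hx : x ∈ ℳ j) : x ∈ lowPart ℳ D := by
  intro K hK
  rw [DirectSum.decompose_of_mem_ne ℳ hx (by omega)]

theorem tn_of_kill (hgen : Subring.closure ((𝒜 0 : Set A) ∪ (𝒜 1 : Set A)) = ⊤)
    (T : Finset A) (hT : ∀ x ∈ 𝒜 1, x ∈ Ideal.span (T : Set A))
    (n₀ : ℕ) (hfg : (Submodule.span A (⋃ k ∈ Set.Ici n₀, (ℳ k : Set M))).FG)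
    (hkill : ∀ t ∈ T, ∀ (k : ℕ), ∀ m ∈ ℳ k, ∃ N : ℕ, t ^ N • m = 0) :
    ∃ D : ℕ, ∀ K : ℕ, D ≤ K → ∀ m ∈ ℳ K, m = 0 := by
  classical
  obtain ⟨B, hBsub, hBspan⟩ := (Submodule.fg_span_iff_fg_span_finset_subset _).mp hfg
  -- degrees of the generators
  have hdeg : ∀ b ∈ B, ∃ k : ℕ, b ∈ ℳ k := by
    intro b hb
    have := hBsub hb
    simp only [Set.mem_iUnion] at this
    obtain ⟨k, _, hk⟩ := this
    exact ⟨k, hk⟩
  choose! dg hdg using hdeg
  -- annihilation by a power of the irrelevant ideal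
  have hann : ∀ b ∈ B, ∃ k : ℕ, ((𝒜₊).toIdeal) ^ k ≤ Ideal.torsionOf A M b := by
    intro b hb
    have h1 : Ideal.span (T : Set A) ≤ (Ideal.torsionOf A M b).radical := by
      rw [Ideal.span_le]
      intro t ht
      obtain ⟨N, hN⟩ := hkill t ht (dg b) b (hdg b hb)
      exact ⟨N, (Ideal.mem_torsionOf_iff _ _).mpr hN⟩
    obtain ⟨k, hk⟩ := Ideal.exists_pow_le_of_le_radical_of_fg h1 ⟨T, rfl⟩
    refine ⟨k, le_trans (Ideal.pow_right_mono ?_ k) hk⟩
    exact Groth.Agent.Lib.Lead.GenDegOne.irrelevant_le_span hgen (T : Set A) hT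
  choose! kk hkk using hann
  let D : ℕ := n₀ + B.sup (fun b => dg b + kk b) + 1
  refine ⟨D, ?_⟩
  -- every `a • b` lies in the low part
  have hab : ∀ b ∈ B, ∀ a : A, a • b ∈ lowPart ℳ D := by
    intro b hb a
    induction a using DirectSum.Decomposition.inductionOn 𝒜 with
    | zero =>
      rw [zero_smul]
      exact (lowPart ℳ D).zero_mem
    | homogeneous a' =>
      rename_i i
      by_cases hik : kk b ≤ i
      · have h1 : (a' : A) ∈ ((𝒜₊).toIdeal) ^ (kk b) :=
          Ideal.pow_le_pow_right hik (mem_irrelevant_pow 𝒜 hgen i _ a'.2)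
        have h2 := (Ideal.mem_torsionOf_iff _ _).mp (hkk b hb h1)
        rw [h2]
        exact (lowPart ℳ D).zero_mem
      · have h3 : (a' : A) • b ∈ ℳ (i + dg b) :=
          SetLike.GradedSMul.smul_mem (i := i) (j := dg b) a'.2 (hdg b hb)
        refine mem_lowPart_of_mem ℳ ?_ h3
        have h4 : dg b + kk b ≤ B.sup (fun b => dg b + kk b) :=
          Finset.le_sup (f := fun b => dg b + kk b) hb
        omega
    | add a₁ a₂ h₁ h₂ =>
      rw [add_smul]
      exact (lowPart ℳ D).add_mem h₁ h₂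
  intro K hK m hm
  have hmspan : m ∈ Submodule.span A (B : Set M) := by
    rw [← hBspan]
    refine Submodule.subset_span ?_
    simp only [Set.mem_iUnion]
    exact ⟨K, by simp only [Set.mem_Ici]; omega, hm⟩
  obtain ⟨c, -, hc⟩ := Submodule.mem_span_finset.mp hmspan
  have hlow : m ∈ lowPart ℳ D := by
    rw [← hc]
    exact (lowPart ℳ D).sum_mem fun b hb => hab b hb (c b)
  have := hlow K hK
  rwa [DirectSum.decompose_of_mem_same ℳ hm] at this

end Groth.Agent.Lib.helper28.GrTFTN
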