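import Mathlib

/-!
# (TN)-surjectivity of the inclusion of the subalgebra generated in degree one (helper28)

Pure algebra behind EGA II 3.? : if `Proj T ⟶ Proj T'` is an isomorphism for `T' ⊆ T` the
subalgebra generated by `T_1` and `T` is of finite type over `T_0`, then `T_n = T_1^n` for large `n`.
-/

set_option autoImplicit false
universe u

open scoped BigOperators

namespace Groth.Agent.Lib.helper28.GrTNSurj

section Mon

variable {B : Type u} [CommRing B] {σ : Type*} [SetLike σ B] [AddSubgroupClass σ B]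
  (ℬ : ℕ → σ) [GradedRing ℬ]

/-- The monomial `∏ t^α_t` in the elements of a finite set. -/
noncomputable def mon (s : Finset B) (α : s →₀ ℕ) : B := ∏ i : s, (i : B) ^ α i

theorem mon_mem (s : Finset B) (d : B → ℕ) (hd : ∀ t ∈ s, t ∈ ℬ (d t)) (α : s →₀ ℕ) :
    mon s α ∈ ℬ (Finsupp.weight (fun i : s => d i) α) := by
  classical
  rw [Finsupp.weight_eq_sum]
  unfold mon
  have key : ∀ S : Finset s, (∏ i ∈ S, (i : B) ^ α i) ∈ ℬ (∑ i ∈ S, α i • d i) := by
    intro S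
    induction S using Finset.induction_on with
    | empty => simpa using SetLike.GradedOne.one_mem (A := ℬ)
    | insert a S ha ih =>
      rw [Finset.prod_insert ha, Finset.sum_insert ha]
      exact SetLike.mul_mem_graded (SetLike.pow_mem_graded _ (hd a a.2)) ih
  exact key Finset.univ

/-- Every element of `ℬ n` is a `ℬ 0`-combination of monomials of weight `n` in the
generators. -/
theorem exists_repr (s : Finset B) (hs : Algebra.adjoin (ℬ 0) (s : Set B) = ⊤) (d : B → ℕ)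
    (hd : ∀ t ∈ s, t ∈ ℬ (d t)) (n : ℕ) (b : B) (hb : b ∈ ℬ n) :
    ∃ (S : Finset (s →₀ ℕ)) (c : (s →₀ ℕ) → B), (∀ α ∈ S, c α ∈ ℬ 0) ∧
      (∀ α ∈ S, Finsupp.weight (fun i : s => d i) α = n) ∧ b = ∑ α ∈ S, c α * mon s α := by
  classical
  have hsurj : b ∈ (MvPolynomial.aeval (R := ℬ 0) (fun i : s => (i : B))).range := by
    have hr : Set.range (fun i : s => (i : B)) = (s : Set B) := by
      ext x; simp
    rw [← Algebra.adjoin_range_eq_range_aeval, hr, hs]
    trivial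
  obtain ⟨p, hp⟩ := hsurj
  change MvPolynomial.aeval (R := ℬ 0) (fun i : s => (i : B)) p = b at hp
  subst hp
  have hterm : ∀ α : s →₀ ℕ, MvPolynomial.aeval (R := ℬ 0) (fun i : s => (i : B))
      (MvPolynomial.monomial α (MvPolynomial.coeff α p)) = ((MvPolynomial.coeff α p : ℬ 0) : B) * mon s α := by
    intro α
    rw [MvPolynomial.aeval_monomial]
    congr 1
    unfold mon
    rw [Finsupp.prod_fintype]
    intro i
    exact pow_zero _
  have hsum : MvPolynomial.aeval (R := ℬ 0) (fun i : s => (i : B)) p =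
      ∑ α ∈ p.support, ((MvPolynomial.coeff α p : ℬ 0) : B) * mon s α := by
    conv_lhs => rw [p.as_sum, map_sum]
    exact Finset.sum_congr rfl fun α _ => hterm α
  have hmem : ∀ α : s →₀ ℕ, ((MvPolynomial.coeff α p : ℬ 0) : B) * mon s α ∈
      ℬ (Finsupp.weight (fun i : s => d i) α) := by
    intro α
    have := SetLike.mul_mem_graded (MvPolynomial.coeff α p).2 (mon_mem ℬ s d hd α)
    rwa [zero_add] at this
  refine ⟨p.support.filter (fun α => Finsupp.weight (fun i : s => d i) α = n),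
    fun α => ((MvPolynomial.coeff α p : ℬ 0) : B), fun α _ => (MvPolynomial.coeff α p).2, fun α hα => (Finset.mem_filter.mp hα).2, ?_⟩
  have h1 : (DirectSum.decompose ℬ (MvPolynomial.aeval (R := ℬ 0) (fun i : s => (i : B)) p) n : B)
      = MvPolynomial.aeval (R := ℬ 0) (fun i : s => (i : B)) p :=
    DirectSum.decompose_of_mem_same ℬ hb
  change MvPolynomial.aeval (R := ℬ 0) (fun i : s => (i : B)) p = _
  rw [← h1, hsum, DirectSum.decompose_sum, DFinsupp.finsetSum_apply,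
    AddSubmonoidClass.coe_finsetSum, Finset.sum_filter]
  refine Finset.sum_congr rfl fun α _ => ?_
  split_ifs with h
  · rw [DirectSum.decompose_of_mem_same ℬ (h ▸ hmem α)]
  · rw [DirectSum.decompose_of_mem_ne ℬ (hmem α) h]

/-- If `t ^ e ∈ I` for all generators, then `ℬ n ⊆ I` for `n > e * ∑ d`. -/
theorem mem_of_pow_mem (s : Finset B) (hs : Algebra.adjoin (ℬ 0) (s : Set B) = ⊤) (d : B → ℕ)
    (hd : ∀ t ∈ s, t ∈ ℬ (d t)) (I : Ideal B) (e : ℕ) (he : ∀ t ∈ s, t ^ e ∈ I) (n : ℕ)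
    (hn : e * ∑ i : s, d i < n) (b : B) (hb : b ∈ ℬ n) : b ∈ I := by
  classical
  obtain ⟨S, c, -, hw, rfl⟩ := exists_repr ℬ s hs d hd n b hb
  refine Ideal.sum_mem _ fun α hα => Ideal.mul_mem_left _ _ ?_
  have hα' := hw α hα
  rw [Finsupp.weight_eq_sum] at hα'
  have hex : ∃ i : s, e ≤ α i := by
    by_contra hcon
    have hlt : ∀ i : s, α i ≤ e := fun i => by
      by_contra h
      exact hcon ⟨i, by omega⟩
    have : ∑ i : s, α i • d i ≤ ∑ i : s, e * d i :=
      Finset.sum_le_sum fun i _ => by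
        rw [smul_eq_mul]; exact Nat.mul_le_mul_right _ (hlt i)
    rw [← Finset.mul_sum] at this
    omega
  obtain ⟨i, hi⟩ := hex
  unfold mon
  rw [← Finset.mul_prod_erase Finset.univ _ (Finset.mem_univ i)]
  refine Ideal.mul_mem_right _ _ ?_
  rw [← Nat.sub_add_cancel hi, pow_add]
  exact Ideal.mul_mem_left _ _ (he i i.2)

/-- `ℬ n` is a finitely generated `ℬ 0`-module (generators: the monomials of weight `n`). -/
theorem exists_finite_gen (s : Finset B) (hs : Algebra.adjoin (ℬ 0) (s : Set B) = ⊤) (d : B → ℕ)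
    (hd : ∀ t ∈ s, t ∈ ℬ (d t)) (hpos : ∀ t ∈ s, d t ≠ 0) (n : ℕ) :
    ∃ G : Finset (s →₀ ℕ), (∀ α ∈ G, mon s α ∈ ℬ n) ∧
      ∀ b ∈ ℬ n, ∃ c : (s →₀ ℕ) → B, (∀ α, c α ∈ ℬ 0) ∧ b = ∑ α ∈ G, c α * mon s α := by
  classical
  have hfin : {α : s →₀ ℕ | Finsupp.weight (fun i : s => d i) α = n}.Finite :=
    (Finsupp.finite_of_nat_weight_le (fun i : s => d i) (fun i => hpos i i.2) n).subset
      fun α (hα : _ = n) => le_of_eq hα
  refine ⟨hfin.toFinset, fun α hα => ?_, fun b hb => ?_⟩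
  · have h1 : Finsupp.weight (fun i : s => d i) α = n := hfin.mem_toFinset.mp hα
    exact h1 ▸ mon_mem ℬ s d hd α
  · obtain ⟨S, c, hc, hw, rfl⟩ := exists_repr ℬ s hs d hd n b hb
    refine ⟨fun α => if α ∈ S then c α else 0, fun α => ?_, ?_⟩
    · by_cases h : α ∈ S
      · simp only [h, if_true]; exact hc α h
      · simp only [h, if_false]; exact zero_mem _
    · have hsub : S ⊆ hfin.toFinset := fun α hα => hfin.mem_toFinset.mpr (hw α hα)
      rw [← Finset.sum_subset hsub]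
      · exact Finset.sum_congr rfl fun α hα => by simp only [hα, if_true]
      · intro α _ hα
        simp only [hα, if_false, zero_mul]

/-- Homogeneous coefficients for a homogeneous element of an ideal spanned by finitely many
elements of degree one. -/
theorem exists_coeffs (F : Finset B) (hF : ∀ f ∈ F, f ∈ ℬ 1) (n : ℕ) (b : B)
    (hb : b ∈ ℬ (n + 1)) (hbF : b ∈ Ideal.span (F : Set B)) :
    ∃ c : B → B, (∀ f, c f ∈ ℬ n) ∧ b = ∑ f ∈ F, c f * f := by
  classical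
  obtain ⟨c, -, hc⟩ := Submodule.mem_span_finset.mp hbF
  refine ⟨fun f => (DirectSum.decompose ℬ (c f) n : B), fun f => SetLike.coe_mem _, ?_⟩
  have h1 : (DirectSum.decompose ℬ b (n + 1) : B) = b := DirectSum.decompose_of_mem_same ℬ hb
  conv_lhs => rw [← h1, ← hc]
  rw [DirectSum.decompose_sum, DFinsupp.finsetSum_apply, AddSubmonoidClass.coe_finsetSum]
  refine Finset.sum_congr rfl fun f hf => ?_
  rw [smul_eq_mul]
  have := DirectSum.coe_decompose_mul_of_right_mem_of_le ℬ (a := c f) (hF f hf)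
    (Nat.le_add_left 1 n)
  rw [this, Nat.add_sub_cancel]

end Mon

section Main

variable {A : Type u} [CommRing A] {τ : Type*} [SetLike τ A] [AddSubgroupClass τ A]
  (𝒜 : ℕ → τ) [GradedRing 𝒜]
  {B : Type u} [CommRing B] {σ : Type*} [SetLike σ B] [AddSubgroupClass σ B]
  (ℬ : ℕ → σ) [GradedRing ℬ] [Algebra.FiniteType (ℬ 0) B]
  (φ : 𝒜 →+*ᵍ ℬ)

/-- the products of `m` elements of `F` times an element of `ℬ k` -/
def XX (F : Finset B) (k m : ℕ) : Set B :=
  {x | ∃ (β : B → ℕ) (c : B), c ∈ ℬ k ∧ ∑ f ∈ F, β f = m ∧ x = (∏ f ∈ F, f ^ β f) * c}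

omit [Algebra.FiniteType (ℬ 0) B] in
theorem mul_mem_closure_XX (F : Finset B) (k m : ℕ) {f : B} (hf : f ∈ F) {x : B}
    (hx : x ∈ AddSubgroup.closure (XX ℬ F k m)) :
    x * f ∈ AddSubgroup.closure (XX ℬ F k (m + 1)) := by
  classical
  induction hx using AddSubgroup.closure_induction with
  | mem x hx =>
    obtain ⟨β, c, hc, hβ, rfl⟩ := hx
    refine AddSubgroup.subset_closure ⟨fun g => β g + if f = g then 1 else 0, c, hc, ?_, ?_⟩
    · rw [Finset.sum_add_distrib, hβ, Finset.sum_ite_eq F f]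
      simp [hf]
    · simp only [pow_add, Finset.prod_mul_distrib]
      rw [Finset.prod_pow_boole]
      simp only [hf, if_true]
      ring
  | zero => rw [zero_mul]; exact zero_mem _
  | add x y _ _ hx hy => rw [add_mul]; exact add_mem hx hy
  | neg x _ hx => rw [neg_mul]; exact neg_mem hx

theorem exists_forall_mem_range
    (h0 : ∀ b ∈ ℬ 0, ∃ a ∈ 𝒜 0, φ a = b)
    (ha : ∀ f ∈ 𝒜 1, ∀ (n : ℕ), ∀ b ∈ ℬ n, ∃ (N : ℕ) (a : A), φ a = (φ f) ^ N * b)
    (hb : ∀ (k : ℕ), 0 < k → ∀ t ∈ ℬ k, ∃ e : ℕ, t ^ e ∈ Ideal.span (φ '' (𝒜 1 : Set A))) :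
    ∃ n₀ : ℕ, ∀ n : ℕ, n₀ ≤ n → ∀ b ∈ ℬ n, ∃ a ∈ 𝒜 n, φ a = b := by
  classical
  obtain ⟨s, hs, hdeg⟩ := GradedAlgebra.exists_finset_adjoin_eq_top_and_homogeneous_ne_zero ℬ
  choose! d hd0 hd using hdeg
  -- finitely many degree one elements suffice
  have hex : ∀ t ∈ s, ∃ (e : ℕ) (T : Finset B), (T : Set B) ⊆ φ '' (𝒜 1 : Set A) ∧
      t ^ e ∈ Ideal.span (T : Set B) := by
    intro t ht
    obtain ⟨e, he⟩ := hb (d t) (Nat.pos_of_ne_zero (hd0 t ht)) t (hd t ht)
    obtain ⟨T, hT, hT'⟩ := Submodule.mem_span_finite_of_mem_span he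
    exact ⟨e, T, hT, hT'⟩
  choose! e T hT hTe using hex
  let F : Finset B := s.biUnion T
  let E : ℕ := s.sup e
  have hF : ∀ f ∈ F, ∃ a ∈ 𝒜 1, φ a = f := by
    intro f hf
    obtain ⟨t, ht, hft⟩ := Finset.mem_biUnion.mp hf
    obtain ⟨a, ha1, rfl⟩ := hT t ht hft
    exact ⟨a, ha1, rfl⟩
  have hF1 : ∀ f ∈ F, f ∈ ℬ 1 := by
    intro f hf
    obtain ⟨a, ha1, rfl⟩ := hF f hf
    exact φ.map_mem ha1
  have hFE : ∀ t ∈ s, t ^ E ∈ Ideal.span (F : Set B) := by
    intro t ht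
    have h1 : e t ≤ E := Finset.le_sup (f := e) ht
    rw [← Nat.sub_add_cancel h1, pow_add]
    refine Ideal.mul_mem_left _ _ (Ideal.span_mono ?_ (hTe t ht))
    intro x hx
    exact Finset.mem_biUnion.mpr ⟨t, ht, hx⟩
  let D : ℕ := E * ∑ i : s, d i
  have hD : ∀ n : ℕ, D < n → ∀ b ∈ ℬ n, b ∈ Ideal.span (F : Set B) := fun n hn b hb' =>
    mem_of_pow_mem ℬ s hs d hd (Ideal.span (F : Set B)) E hFE n hn b hb'
  -- generators of `ℬ (D + 1)`
  obtain ⟨G, hG, hGgen⟩ := exists_finite_gen ℬ s hs d hd hd0 (D + 1)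
  let T' : Subring B := φ.toRingHom.range
  have hT'0 : ∀ c ∈ ℬ 0, c ∈ T' := fun c hc => by
    obtain ⟨a, -, rfl⟩ := h0 c hc
    exact ⟨a, rfl⟩
  have hT'F : ∀ f ∈ F, f ∈ T' := fun f hf => by
    obtain ⟨a, -, rfl⟩ := hF f hf
    exact ⟨a, rfl⟩
  -- uniform exponent
  have hN : ∀ f ∈ F, ∀ α ∈ G, ∃ N : ℕ, f ^ N * mon s α ∈ T' := by
    intro f hf α hα
    obtain ⟨a, ha1, rfl⟩ := hF f hf
    obtain ⟨N, a', ha'⟩ := ha a ha1 (D + 1) (mon s α) (hG α hα)
    exact ⟨N, a', ha'⟩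
  choose! Nf hNf using hN
  let N : ℕ := F.sup fun f => G.sup fun α => Nf f α
  have hNc : ∀ f ∈ F, ∀ c ∈ ℬ (D + 1), f ^ N * c ∈ T' := by
    intro f hf c hc
    obtain ⟨cc, hcc, rfl⟩ := hGgen c hc
    rw [Finset.mul_sum]
    refine Subring.sum_mem _ fun α hα => ?_
    have h1 : Nf f α ≤ N :=
      (Finset.le_sup (f := fun α => Nf f α) hα).trans
        (Finset.le_sup (f := fun f => G.sup fun α => Nf f α) hf)
    have h2 : f ^ N * (cc α * mon s α) =
        cc α * (f ^ (N - Nf f α) * (f ^ Nf f α * mon s α)) := by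
      rw [← mul_assoc (f ^ (N - Nf f α)), ← pow_add, Nat.sub_add_cancel h1]
      ring
    rw [h2]
    exact T'.mul_mem (hT'0 _ (hcc α)) (T'.mul_mem (T'.pow_mem (hT'F f hf) _) (hNf f hf α hα))
  -- every element of `ℬ (D + 1 + m)` is a sum of products
  have hprod : ∀ m : ℕ, ∀ b ∈ ℬ (D + 1 + m), b ∈ AddSubgroup.closure (XX ℬ F (D + 1) m) := by
    intro m
    induction m with
    | zero =>
      intro b hb'
      refine AddSubgroup.subset_closure ⟨fun _ => 0, b, hb', by simp, by simp⟩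
    | succ m ih =>
      intro b hb'
      obtain ⟨c, hc, rfl⟩ := exists_coeffs ℬ F hF1 (D + 1 + m) b hb'
        (hD _ (by omega) b hb')
      exact sum_mem fun f hf => mul_mem_closure_XX ℬ F (D + 1) m hf (ih _ (hc f))
  have hX : ∀ m : ℕ, F.card * N < m → ∀ x ∈ XX ℬ F (D + 1) m, x ∈ T' := by
    rintro m hm x ⟨β, c, hc, hβ, rfl⟩
    have hex : ∃ f ∈ F, N < β f := by
      by_contra hcon
      have hle : ∀ f ∈ F, β f ≤ N := fun f hf => by
        by_contra h
        exact hcon ⟨f, hf, by omega⟩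
      have h3 : ∑ f ∈ F, β f ≤ F.card * N := by
        have := Finset.sum_le_card_nsmul F β N hle
        rwa [smul_eq_mul] at this
      omega
    obtain ⟨f, hf, hfN⟩ := hex
    rw [← Finset.mul_prod_erase F _ hf]
    have h2 : (f ^ β f * ∏ g ∈ F.erase f, g ^ β g) * c =
        (f ^ (β f - N) * ∏ g ∈ F.erase f, g ^ β g) * (f ^ N * c) := by
      have : f ^ β f = f ^ (β f - N) * f ^ N := by
        rw [← pow_add, Nat.sub_add_cancel hfN.le]
      rw [this]; ring
    rw [h2]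
    refine T'.mul_mem (T'.mul_mem (T'.pow_mem (hT'F f hf) _) (Subring.prod_mem _ fun g hg => ?_))
      (hNc f hf c hc)
    exact T'.pow_mem (hT'F g (Finset.mem_of_mem_erase hg)) _
  refine ⟨D + 1 + (F.card * N + 1), fun n hn b hb' => ?_⟩
  obtain ⟨m, rfl⟩ : ∃ m, n = D + 1 + m := ⟨n - (D + 1), by omega⟩
  have hbT : b ∈ T'.toAddSubgroup :=
    (AddSubgroup.closure_le _).mpr (fun x hx => hX m (by omega) x hx) (hprod m b hb')
  obtain ⟨a, rfl⟩ := hbT
  refine ⟨(DirectSum.decompose 𝒜 a (D + 1 + m) : A), SetLike.coe_mem _, ?_⟩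
  rw [GradedRingHom.map_directSumDecompose]
  exact DirectSum.decompose_of_mem_same ℬ hb'

end Main

end Groth.Agent.Lib.helper28.GrTNSurj
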