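import Groth.Agent.Lib.Helper28.GrauertFib

/-!
# Localizing the cone ring `R ×_T S` at an element `(0, τ)` (helper28)

`fib φ ψ = R ×_T S`, `τ ∈ S` with `ψ τ = 0`, `ρ : S → S'` a ring map such that sections over `S'`
extend to `S` after multiplication by a power of `τ` and elements of `S` dying in `S'` are killed
by a power of `τ`.  Then `S'[1/τ]` is the localization of `R ×_T S` at `(0, τ)`.
-/

set_option autoImplicit false
set_option linter.style.haveILetI false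

namespace Groth.Agent.Lib.helper28.GrauertFib

variable {R S T₀ S' T : Type*} [CommRing R] [CommRing S] [CommRing T₀] [CommRing S']
  [CommRing T]

/-- The element `(0, τ)` of the fibre product. -/
def zeroPair (φ : R →+* T₀) (ψ : S →+* T₀) (τ : S) (hτ : ψ τ = 0) : fib φ ψ :=
  ⟨((0 : R), τ), by change φ 0 = ψ τ; rw [map_zero, hτ]⟩

theorem zeroPair_pow (φ : R →+* T₀) (ψ : S →+* T₀) (τ : S) (hτ : ψ τ = 0) (k : ℕ) :
    ((zeroPair φ ψ τ hτ ^ (k + 1) : fib φ ψ) : R × S) = (0, τ ^ (k + 1)) := by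
  induction k with
  | zero =>
    rw [pow_one, pow_one]
    rfl
  | succ k ih =>
    rw [pow_succ, Subring.coe_mul, ih, pow_succ τ (k + 1)]
    change ((0 : R) * 0, τ ^ (k + 1) * τ) = _
    rw [mul_zero]

theorem away_cone (φ : R →+* T₀) (ψ : S →+* T₀) (ρ : S →+* S') (θ₀ : S' →+* T) (τ : S)
    (hτ : ψ τ = 0)
    (hθ₀ : letI := θ₀.toAlgebra; IsLocalization.Away (ρ τ) T)
    (hext : ∀ s : S', ∃ (m : ℕ) (σ' : S), ρ σ' = s * ρ τ ^ m)
    (hkill : ∀ σ : S, ρ σ = 0 → ∃ k : ℕ, σ * τ ^ k = 0) :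
    letI := (θ₀.comp (ρ.comp ((RingHom.snd R S).comp (fib φ ψ).subtype))).toAlgebra
    IsLocalization.Away (zeroPair φ ψ τ hτ) T := by
  obtain ⟨h1, h2, h3⟩ := away_elem θ₀ (ρ τ) hθ₀
  refine away_of_elem (θ₀.comp (ρ.comp ((RingHom.snd R S).comp (fib φ ψ).subtype)))
    (zeroPair φ ψ τ hτ) h1 ?_ ?_
  · intro z
    obtain ⟨k₁, s, hs⟩ := h2 z
    obtain ⟨m, σ', hσ'⟩ := hext s
    have hmem : ((0 : R), σ' * τ) ∈ fib φ ψ := by
      change φ 0 = ψ (σ' * τ)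
      rw [map_zero, map_mul, hτ, mul_zero]
    refine ⟨k₁ + m + 1, ⟨_, hmem⟩, ?_⟩
    change z * θ₀ (ρ τ) ^ (k₁ + m + 1) = θ₀ (ρ (σ' * τ))
    rw [map_mul ρ, hσ', map_mul, map_mul, map_pow, ← hs]
    ring
  · rintro ⟨⟨a, σ⟩, hx⟩ h0
    have h0' : θ₀ (ρ σ) = 0 := h0
    obtain ⟨k₁, hk₁⟩ := h3 _ h0'
    have h4 : ρ (τ ^ k₁ * σ) = 0 := by
      rw [map_mul, map_pow]
      exact hk₁
    obtain ⟨k₂, hk₂⟩ := hkill _ h4
    refine ⟨k₁ + k₂ + 1, ?_⟩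
    apply Subtype.ext
    change ((zeroPair φ ψ τ hτ ^ (k₁ + k₂ + 1) : fib φ ψ) : R × S) * (a, σ) = 0
    rw [zeroPair_pow]
    change ((0 : R) * a, τ ^ (k₁ + k₂ + 1) * σ) = 0
    rw [zero_mul]
    refine Prod.ext rfl ?_
    change τ ^ (k₁ + k₂ + 1) * σ = 0
    have : τ ^ (k₁ + k₂ + 1) * σ = (τ ^ k₁ * σ * τ ^ k₂) * τ := by ring
    rw [this, hk₂, zero_mul]

end Groth.Agent.Lib.helper28.GrauertFib
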