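import Groth.Agent.Lib.Helper28.RelSpecMap
import Groth.Agent.Lib.Helper28.PairGlue

/-!
# Charts of a relative spectrum and arbitrary inclusions of affine opens (helper28)

* `ι_res_le`: `Spec(A(U) → A(V)) ≫ ι_U = ι_V` for affine opens `V ≤ U` (not only basic opens).
* `exists_glue_affine`: a family of sections over the affine opens inside `W`, compatible with
  restriction, glues to a section over `W`.
* `π_ι_apply`: the image in the base of a point of a chart.
-/

set_option autoImplicit false
universe u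
open CategoryTheory AlgebraicGeometry TopologicalSpace Opposite

namespace Groth.Agent.Lib.helper28.Grauert

open Groth.Agent.Lib.helper28.RelSpecMap

variable {S : Scheme.{u}} (A : RelSpec.QCAlg S)

theorem ι_res_le {U V : S.Opens} (hU : IsAffineOpen U) (hV : IsAffineOpen V) (i : V ≤ U) :
    Spec.map (A.presheaf.map (homOfLE i).op) ≫ A.ι U hU = A.ι V hV := by
  apply hom_ext_of_local
  intro P
  have hxV : A.π ((A.ι V hV) P) ∈ V := by
    have : (A.ι V hV) P ∈ Set.range (A.ι V hV).base := ⟨P, rfl⟩
    rw [range_ι] at this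
    exact this
  obtain ⟨W, hWU, hWV, hxW, -⟩ := exists_common_basic (X := S) ⟨U, hU⟩ ⟨V, hV⟩ ⊤ _ (i hxV) hxV
    trivial
  have e1 := ι_res' A hWU
  have e2 := ι_res' A hWV
  refine ⟨Spec (A.presheaf.obj (op W.1)),
    Spec.map (A.presheaf.map (homOfLE (Scheme.AffineZariskiSite.toOpens_mono hWV)).op), ?_, ?_, ?_⟩
  · have : IsOpenImmersion (Spec.map (A.presheaf.map
        (homOfLE (Scheme.AffineZariskiSite.toOpens_mono hWV)).op) ≫ A.ι V hV) := by
      rw [e2]; infer_instance
    exact IsOpenImmersion.of_comp _ (A.ι V hV)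
  · have hP' : (A.ι V hV) P ∈ Set.range (A.ι W.1 W.2).base := by
      rw [range_ι]
      exact hxW
    obtain ⟨P'', hP''⟩ := hP'
    refine ⟨P'', ?_⟩
    apply (A.ι V hV).isOpenEmbedding.injective
    rw [← hP'', ← e2]
    rfl
  · rw [e2, ← Category.assoc, ← Spec.map_comp, ← Functor.map_comp]
    exact e1

open Groth.Agent.Lib.helper28.PairGlue in
theorem exists_glue_affine (W : S.Opens)
    (s : ∀ (X' : S.Opens), IsAffineOpen X' → X' ≤ W → A.presheaf.obj (op X'))
    (hs : ∀ (X' : S.Opens) (hX' : IsAffineOpen X') (hle : X' ≤ W) (X'' : S.Opens)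
      (hX'' : IsAffineOpen X'') (i : X'' ≤ X'),
      (A.presheaf.map (homOfLE i).op).hom (s X' hX' hle) = s X'' hX'' (i.trans hle)) :
    ∃ τ : A.presheaf.obj (op W), ∀ (X' : S.Opens) (hX' : IsAffineOpen X') (hle : X' ≤ W),
      (A.presheaf.map (homOfLE hle).op).hom τ = s X' hX' hle := by
  obtain ⟨τ, hτ, -⟩ := TopCat.Sheaf.existsUnique_gluing' (shf A)
    (fun k : AffIn W => k.1) W (fun k => homOfLE k.2.2)
    (le_iSup_affIn W) (fun k => s k.1 k.2.1 k.2.2) (by
      intro k l
      refine eq_of_affine (k.1 ⊓ l.1) _ _ fun V' hV' hle => ?_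
      have h1 : (A.presheaf.map (homOfLE hle).op).hom
          ((A.presheaf.map (Opens.infLELeft k.1 l.1).op).hom (s k.1 k.2.1 k.2.2)) =
          s V' hV' ((hle.trans inf_le_left).trans k.2.2) := by
        rw [← hs k.1 k.2.1 k.2.2 V' hV' (hle.trans inf_le_left),
          ← CommRingCat.comp_apply, ← A.presheaf.map_comp]
        rfl
      have h2 : (A.presheaf.map (homOfLE hle).op).hom
          ((A.presheaf.map (Opens.infLERight k.1 l.1).op).hom (s l.1 l.2.1 l.2.2)) =
          s V' hV' ((hle.trans inf_le_right).trans l.2.2) := by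
        rw [← hs l.1 l.2.1 l.2.2 V' hV' (hle.trans inf_le_right),
          ← CommRingCat.comp_apply, ← A.presheaf.map_comp]
        rfl
      exact h1.trans h2.symm)
  exact ⟨τ, fun X' hX' hle => hτ ⟨X', hX', hle⟩⟩

/-- The image in the base of a point of the chart over `U`. -/
theorem π_ι_apply {U : S.Opens} (hU : IsAffineOpen U) (P : Spec (A.presheaf.obj (op U))) :
    A.π ((A.ι U hU) P) = hU.fromSpec ((Spec.map (A.str.app (op U))) P) := by
  have h := congrArg (fun k => k.base P) (A.ι_π U hU)
  exact h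

end Groth.Agent.Lib.helper28.Grauert
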