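import Mathlib

/-!
# Truncations of a graded ring (helper28)

`B` a commutative ring graded by additive subgroups `ℬ : ℕ → AddSubgroup B`.
* `truncIdeal ℬ n = ⊕_{k > n} ℬ_k`, an ideal; `mem_truncIdeal_iff`.
* `trComp ℬ n k β`: the degree `k ≤ n` component of `β ∈ B ⧸ truncIdeal ℬ n`.
* `le_iff_irrelevant_le`: a prime contains `truncIdeal ℬ n` iff it contains the irrelevant ideal.
* `isUnit_mk_of_one_sub_mem`: `g ≡ 1` modulo the irrelevant ideal is a unit modulo `truncIdeal`.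
* `forall_trComp_mem_iff`: for a homogeneous ideal `P` and `β · g^m = G` in `B ⧸ truncIdeal ℬ n`
  with `g ≡ 1` modulo the irrelevant ideal, all components of `β` lie in `P` iff all components of
  `G` of degree `≤ n` do.
-/

set_option autoImplicit false
open DirectSum

namespace Groth.Agent.Lib.helper28.GrauertTrunc

variable {B : Type*} [CommRing B] (ℬ : ℕ → AddSubgroup B) [GradedRing ℬ]

/-- `⊕_{k > n} ℬ_k`. -/
def truncIdeal (n : ℕ) : Ideal B := Ideal.span {b | ∃ k, n < k ∧ b ∈ ℬ k}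

theorem decompose_eq_zero_of_mem {n : ℕ} {b : B} (hb : b ∈ truncIdeal ℬ n) :
    ∀ k, k ≤ n → (decompose ℬ b k : B) = 0 := by
  classical
  unfold truncIdeal at hb
  induction hb using Submodule.span_induction with
  | mem x hx =>
    intro k hk
    obtain ⟨j, hj, hxj⟩ := hx
    rw [decompose_of_mem_ne ℬ hxj (by omega)]
  | zero => intro k _; rw [decompose_zero]; rfl
  | add x y _ _ hx hy =>
    intro k hk
    rw [decompose_add, DirectSum.add_apply, AddSubgroup.coe_add, hx k hk, hy k hk, add_zero]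
  | smul a x _ hx =>
    intro k hk
    rw [smul_eq_mul]
    have hxs := DirectSum.sum_support_decompose ℬ x
    rw [← hxs, Finset.mul_sum, decompose_sum, DFinsupp.finsetSum_apply,
      AddSubgroup.val_finsetSum]
    refine Finset.sum_eq_zero fun j _ => ?_
    by_cases hjk : j ≤ k
    · rw [coe_decompose_mul_of_right_mem_of_le ℬ (SetLike.coe_mem _) hjk, hx j (hjk.trans hk),
        mul_zero]
    · exact coe_decompose_mul_of_right_mem_of_not_le ℬ (SetLike.coe_mem _) hjk

theorem mem_truncIdeal_iff {n : ℕ} {b : B} :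
    b ∈ truncIdeal ℬ n ↔ ∀ k, k ≤ n → (decompose ℬ b k : B) = 0 := by
  classical
  refine ⟨decompose_eq_zero_of_mem ℬ, fun h => ?_⟩
  rw [← DirectSum.sum_support_decompose ℬ b]
  refine Ideal.sum_mem _ fun j _ => ?_
  by_cases hj : j ≤ n
  · rw [h j hj]
    exact zero_mem _
  · exact Ideal.subset_span ⟨j, by omega, SetLike.coe_mem _⟩

theorem truncIdeal_zero : truncIdeal ℬ 0 = (HomogeneousIdeal.irrelevant ℬ).toIdeal := by
  ext b
  rw [mem_truncIdeal_iff]
  change _ ↔ b ∈ HomogeneousIdeal.irrelevant ℬ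
  rw [HomogeneousIdeal.mem_irrelevant_iff, GradedRing.proj_apply]
  constructor
  · intro h
    exact h 0 le_rfl
  · intro h k hk
    obtain rfl : k = 0 := by omega
    exact h

theorem truncIdeal_anti {m n : ℕ} (h : m ≤ n) : truncIdeal ℬ n ≤ truncIdeal ℬ m := by
  intro b hb
  rw [mem_truncIdeal_iff] at hb ⊢
  intro k hk
  exact hb k (hk.trans h)

theorem mul_le (a b : ℕ) : truncIdeal ℬ a * truncIdeal ℬ b ≤ truncIdeal ℬ (a + b + 1) := by
  unfold truncIdeal
  rw [Ideal.span_mul_span]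
  refine Ideal.span_le.mpr ?_
  rintro _ ⟨x, ⟨i, hi, hx⟩, y, ⟨j, hj, hy⟩, rfl⟩
  exact Ideal.subset_span ⟨i + j, by omega, SetLike.mul_mem_graded hx hy⟩

theorem pow_le (n : ℕ) : truncIdeal ℬ 0 ^ (n + 1) ≤ truncIdeal ℬ n := by
  induction n with
  | zero => rw [pow_one]
  | succ n ih =>
    rw [pow_succ]
    refine (Ideal.mul_mono_left ih).trans ((mul_le ℬ n 0).trans ?_)
    exact le_of_eq rfl

/-- A prime contains `truncIdeal ℬ n` iff it contains the irrelevant ideal. -/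
theorem le_iff_irrelevant_le (n : ℕ) (P : Ideal B) [P.IsPrime] :
    truncIdeal ℬ n ≤ P ↔ (HomogeneousIdeal.irrelevant ℬ).toIdeal ≤ P := by
  rw [← truncIdeal_zero]
  constructor
  · intro h x hx
    have h1 : x ^ (n + 1) ∈ truncIdeal ℬ 0 ^ (n + 1) := Ideal.pow_mem_pow hx _
    exact Ideal.IsPrime.mem_of_pow_mem inferInstance _ (h (pow_le ℬ n h1))
  · intro h
    exact (truncIdeal_anti ℬ (Nat.zero_le n)).trans h

/-- `g ≡ 1` modulo the irrelevant ideal is invertible modulo `truncIdeal ℬ n`. -/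
theorem exists_mul_sub_one_mem (n : ℕ) (g : B)
    (hg : 1 - g ∈ (HomogeneousIdeal.irrelevant ℬ).toIdeal) :
    ∃ w : B, g * w - 1 ∈ truncIdeal ℬ n := by
  rw [← truncIdeal_zero] at hg
  refine ⟨∑ i ∈ Finset.range (n + 1), (1 - g) ^ i, ?_⟩
  have h1 : (1 - (1 - g)) * ∑ i ∈ Finset.range (n + 1), (1 - g) ^ i = 1 - (1 - g) ^ (n + 1) :=
    mul_neg_geom_sum (1 - g) (n + 1)
  have h2 : g * ∑ i ∈ Finset.range (n + 1), (1 - g) ^ i - 1 = -((1 - g) ^ (n + 1)) := by
    have : (1 - (1 - g)) = g := by ring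
    rw [this] at h1
    rw [h1]
    ring
  rw [h2]
  exact neg_mem (pow_le ℬ n (Ideal.pow_mem_pow hg _))

/-- Membership in `P + truncIdeal`, for a homogeneous ideal `P`. -/
theorem mem_sup_iff (n : ℕ) (P : Ideal B) (hP : P.IsHomogeneous ℬ) (b : B) :
    b ∈ P ⊔ truncIdeal ℬ n ↔ ∀ k, k ≤ n → (decompose ℬ b k : B) ∈ P := by
  classical
  constructor
  · intro hb k hk
    obtain ⟨π, hπ, κ, hκ, rfl⟩ := Submodule.mem_sup.mp hb
    rw [decompose_add, DirectSum.add_apply, AddSubgroup.coe_add,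
      decompose_eq_zero_of_mem ℬ hκ k hk, add_zero]
    exact hP k hπ
  · intro h
    rw [← DirectSum.sum_support_decompose ℬ b]
    refine Ideal.sum_mem _ fun j _ => ?_
    by_cases hj : j ≤ n
    · exact Ideal.mem_sup_left (h j hj)
    · exact Ideal.mem_sup_right (Ideal.subset_span ⟨j, by omega, SetLike.coe_mem _⟩)

/-- The degree `k` component of an element of `B ⧸ truncIdeal ℬ n` (meaningful for `k ≤ n`). -/
noncomputable def trComp (n k : ℕ) (β : B ⧸ truncIdeal ℬ n) : B :=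
  (decompose ℬ (Function.surjInv Ideal.Quotient.mk_surjective β) k : B)

theorem trComp_mem (n k : ℕ) (β : B ⧸ truncIdeal ℬ n) : trComp ℬ n k β ∈ ℬ k :=
  SetLike.coe_mem _

theorem trComp_mk {n k : ℕ} (hk : k ≤ n) (E : B) :
    trComp ℬ n k (Ideal.Quotient.mk (truncIdeal ℬ n) E) = (decompose ℬ E k : B) := by
  unfold trComp
  have h1 : Ideal.Quotient.mk (truncIdeal ℬ n)
      (Function.surjInv Ideal.Quotient.mk_surjective (Ideal.Quotient.mk (truncIdeal ℬ n) E)) =
      Ideal.Quotient.mk (truncIdeal ℬ n) E := Function.surjInv_eq _ _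
  rw [Ideal.Quotient.eq] at h1
  have h2 := decompose_eq_zero_of_mem ℬ h1 k hk
  rw [decompose_sub, DirectSum.sub_apply, AddSubgroup.coe_sub, sub_eq_zero] at h2
  exact h2

/-- The key comparison. -/
theorem forall_trComp_mem_iff (n : ℕ) (P : Ideal B) (hP : P.IsHomogeneous ℬ) (g G : B) (m : ℕ)
    (hg : 1 - g ∈ (HomogeneousIdeal.irrelevant ℬ).toIdeal) (β : B ⧸ truncIdeal ℬ n)
    (hβ : β * Ideal.Quotient.mk (truncIdeal ℬ n) g ^ m = Ideal.Quotient.mk (truncIdeal ℬ n) G) :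
    (∀ k, k ≤ n → trComp ℬ n k β ∈ P) ↔ (∀ k, k ≤ n → (decompose ℬ G k : B) ∈ P) := by
  obtain ⟨E, rfl⟩ := Ideal.Quotient.mk_surjective β
  have h0 : (∀ k, k ≤ n → trComp ℬ n k (Ideal.Quotient.mk (truncIdeal ℬ n) E) ∈ P) ↔
      (∀ k, k ≤ n → (decompose ℬ E k : B) ∈ P) := by
    constructor
    · intro h k hk
      rw [← trComp_mk ℬ hk]
      exact h k hk
    · intro h k hk
      rw [trComp_mk ℬ hk]
      exact h k hk
  rw [h0, ← mem_sup_iff ℬ n P hP, ← mem_sup_iff ℬ n P hP]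
  rw [← map_pow, ← map_mul, Ideal.Quotient.eq] at hβ
  constructor
  · intro hE
    have h1 : E * g ^ m ∈ P ⊔ truncIdeal ℬ n := Ideal.mul_mem_right _ _ hE
    have h2 : G = E * g ^ m - (E * g ^ m - G) := by ring
    rw [h2]
    exact sub_mem h1 (Ideal.mem_sup_right hβ)
  · intro hG
    obtain ⟨w, hw⟩ := exists_mul_sub_one_mem ℬ n g hg
    have hw' : (g * w) ^ m - 1 ∈ truncIdeal ℬ n := by
      have h3 : Ideal.Quotient.mk (truncIdeal ℬ n) (g * w) = 1 := by
        rw [← sub_eq_zero, ← map_one (Ideal.Quotient.mk (truncIdeal ℬ n)), ← map_sub]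
        exact Ideal.Quotient.eq_zero_iff_mem.mpr hw
      rw [← Ideal.Quotient.eq_zero_iff_mem, map_sub, map_pow, h3, one_pow, map_one, sub_self]
    have h4 : E = G * w ^ m + (E * g ^ m - G) * w ^ m - E * ((g * w) ^ m - 1) := by
      rw [mul_pow]; ring
    rw [h4]
    refine sub_mem (add_mem (Ideal.mul_mem_right _ _ hG) ?_) ?_
    · exact Ideal.mem_sup_right (Ideal.mul_mem_right _ _ hβ)
    · exact Ideal.mem_sup_right (Ideal.mul_mem_left _ _ hw')

end Groth.Agent.Lib.helper28.GrauertTrunc
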