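import Groth.Agent.Lib.Helper28.GrauertRingOf
import Groth.Agent.Lib.Helper28.GrauertTrunc
import Groth.Agent.Lib.Helper28.GrauertChart
import Groth.Prelude.Def_RelSpec2

/-!
# Taylor coefficients along the vertex section of an affine cone (helper28)

`𝒜` a quasi-coherent graded algebra on `X`, `V = Spec(𝒜)`, `q : V ⟶ C` a morphism, `UC` an open
of `C`.  An affine open `X'` of `X` is *good* when the vertex locus `V(𝒜(X')₊)` of the chart
`Spec 𝒜(X')` is mapped into `UC`.  For such `X'`, `n` and `f ∈ Γ(C, UC)`: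
* `Φ X' n : Γ(C, UC) ⟶ 𝒜(X') ⧸ 𝒜(X')_{> n}`: pull back along the `n`-th infinitesimal
  neighbourhood of the vertex locus;
* `coef X' n k f ∈ 𝒜(X')_k`: the degree `k` component; `coef_res`: compatible with restriction;
* `exists_coefSec`: they glue to sections of `𝒜` over any open all of whose affine opens are good.
* `coef_mem_iff`: for a homogeneous prime `P ∌ g` of `𝒜(X')`: the point `P` of the chart is sent
  into `C.basicOpen f` iff some component `coef X' n k f ∉ P`.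
-/

set_option autoImplicit false
universe u
open CategoryTheory AlgebraicGeometry TopologicalSpace Opposite
open scoped HomogeneousIdeal

namespace Groth.Agent.Lib.helper28.Grauert

open Groth.Agent.Lib.helper28.GrauertTrunc

variable {X C : Scheme.{u}} (𝒜 : RelProj.QCGrAlg X) (q : 𝒜.toQCAlg.spec ⟶ C) (UC : C.Opens)

/-- The vertex locus of the chart over `X'` is mapped into `UC`. -/
def Good (X' : X.Opens) (hX' : IsAffineOpen X') : Prop :=
  PrimeSpectrum.zeroLocus (((𝒜.deg X' hX')₊).toIdeal : Set (𝒜.presheaf.obj (op X'))) ⊆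
    (((𝒜.toQCAlg.ι X' hX' ≫ q) ⁻¹ᵁ UC : (Spec (𝒜.presheaf.obj (op X'))).Opens) :
      Set (Spec (𝒜.presheaf.obj (op X'))))

/-- The truncated ring `𝒜(X') ⧸ 𝒜(X')_{> n}`. -/
noncomputable abbrev Q (X' : X.Opens) (hX' : IsAffineOpen X') (n : ℕ) : CommRingCat.{u} :=
  CommRingCat.of (𝒜.presheaf.obj (op X') ⧸ truncIdeal (𝒜.deg X' hX') n)

/-- The quotient map. -/
noncomputable abbrev mkQ (X' : X.Opens) (hX' : IsAffineOpen X') (n : ℕ) :
    𝒜.presheaf.obj (op X') ⟶ Q 𝒜 X' hX' n :=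
  CommRingCat.ofHom (Ideal.Quotient.mk (truncIdeal (𝒜.deg X' hX') n))

variable {𝒜 q UC}

theorem top_le_of_good {X' : X.Opens} {hX' : IsAffineOpen X'} (h : Good 𝒜 q UC X' hX') (n : ℕ) :
    (⊤ : (Spec (Q 𝒜 X' hX' n)).Opens) ≤
      (Spec.map (mkQ 𝒜 X' hX' n) ≫ 𝒜.toQCAlg.ι X' hX' ≫ q) ⁻¹ᵁ UC := by
  intro P' _
  have h1 : (Spec.map (mkQ 𝒜 X' hX' n)) P' ∈
      PrimeSpectrum.zeroLocus (((𝒜.deg X' hX')₊).toIdeal : Set (𝒜.presheaf.obj (op X'))) := by
    refine (PrimeSpectrum.mem_zeroLocus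
      ((Spec.map (mkQ 𝒜 X' hX' n)) P' : PrimeSpectrum (𝒜.presheaf.obj (op X'))) _).mpr ?_
    rw [SetLike.coe_subset_coe]
    have hprime : ((Spec.map (mkQ 𝒜 X' hX' n)) P').asIdeal.IsPrime := PrimeSpectrum.isPrime _
    rw [← le_iff_irrelevant_le (𝒜.deg X' hX') n]
    intro b hb
    change (Ideal.Quotient.mk (truncIdeal (𝒜.deg X' hX') n)) b ∈ P'.asIdeal
    rw [Ideal.Quotient.eq_zero_iff_mem.mpr hb]
    exact zero_mem _
  exact h h1

/-- Pull-back of functions on `UC` to the `n`-th infinitesimal neighbourhood of the vertex locus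
of the chart over `X'`. -/
noncomputable def Φ {X' : X.Opens} {hX' : IsAffineOpen X'} (h : Good 𝒜 q UC X' hX') (n : ℕ) :
    Γ(C, UC) ⟶ Q 𝒜 X' hX' n :=
  ringOf (Spec.map (mkQ 𝒜 X' hX' n) ≫ 𝒜.toQCAlg.ι X' hX' ≫ q) UC (top_le_of_good h n)

/-- The degree `k` Taylor coefficient. -/
noncomputable def coef {X' : X.Opens} {hX' : IsAffineOpen X'} (h : Good 𝒜 q UC X' hX') (n k : ℕ)
    (f : Γ(C, UC)) : 𝒜.presheaf.obj (op X') :=
  trComp (𝒜.deg X' hX') n k ((Φ h n).hom f)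

theorem coef_mem {X' : X.Opens} {hX' : IsAffineOpen X'} (h : Good 𝒜 q UC X' hX') (n k : ℕ)
    (f : Γ(C, UC)) : coef h n k f ∈ 𝒜.deg X' hX' k :=
  trComp_mem _ _ _ _

theorem res_mem_truncIdeal {X' X'' : X.Opens} (hX' : IsAffineOpen X') (hX'' : IsAffineOpen X'')
    (i : X'' ≤ X') (n : ℕ) {b : 𝒜.presheaf.obj (op X')} (hb : b ∈ truncIdeal (𝒜.deg X' hX') n) :
    (𝒜.presheaf.map (homOfLE i).op).hom b ∈ truncIdeal (𝒜.deg X'' hX'') n := by
  classical
  rw [mem_truncIdeal_iff] at hb ⊢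
  intro k hk
  have h1 : (𝒜.res hX' hX'' i) (DirectSum.decompose (𝒜.deg X' hX') b k : 𝒜.presheaf.obj (op X')) =
      (DirectSum.decompose (𝒜.deg X'' hX'') ((𝒜.res hX' hX'' i) b) k : 𝒜.presheaf.obj (op X'')) :=
    GradedRingHom.map_directSumDecompose _ _ (𝒜.res hX' hX'' i)
  change (DirectSum.decompose (𝒜.deg X'' hX'') ((𝒜.res hX' hX'' i) b) k :
    𝒜.presheaf.obj (op X'')) = 0
  rw [← h1, hb k hk, map_zero]

theorem coef_res {X' X'' : X.Opens} {hX' : IsAffineOpen X'} {hX'' : IsAffineOpen X''}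
    (h : Good 𝒜 q UC X' hX') (h' : Good 𝒜 q UC X'' hX'') (i : X'' ≤ X') {n k : ℕ} (hk : k ≤ n)
    (f : Γ(C, UC)) :
    (𝒜.presheaf.map (homOfLE i).op).hom (coef h n k f) = coef h' n k f := by
  classical
  -- the induced map on truncations
  let ρ : 𝒜.presheaf.obj (op X') →+* 𝒜.presheaf.obj (op X'') := (𝒜.presheaf.map (homOfLE i).op).hom
  have hρ : truncIdeal (𝒜.deg X' hX') n ≤ (truncIdeal (𝒜.deg X'' hX'') n).comap ρ :=
    fun b hb => res_mem_truncIdeal hX' hX'' i n hb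
  let ρbar : Q 𝒜 X' hX' n ⟶ Q 𝒜 X'' hX'' n := CommRingCat.ofHom (Ideal.quotientMap _ ρ hρ)
  have hsq : mkQ 𝒜 X' hX' n ≫ ρbar = 𝒜.presheaf.map (homOfLE i).op ≫ mkQ 𝒜 X'' hX'' n := by
    ext b
    exact Ideal.quotientMap_mk (f := ρ) (H := hρ)
  have hcomp : Spec.map (mkQ 𝒜 X'' hX'' n) ≫ 𝒜.toQCAlg.ι X'' hX'' ≫ q =
      Spec.map ρbar ≫ (Spec.map (mkQ 𝒜 X' hX' n) ≫ 𝒜.toQCAlg.ι X' hX' ≫ q) := by
    rw [← ι_res_le 𝒜.toQCAlg hX' hX'' i, ← Category.assoc, ← Category.assoc, ← Category.assoc,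
      ← Spec.map_comp, ← Spec.map_comp, hsq]
    simp only [Category.assoc]
  have hΦ : Φ h' n = Φ h n ≫ ρbar := by
    unfold Φ
    have h3 := ringOf_comp (Spec.map (mkQ 𝒜 X' hX' n) ≫ 𝒜.toQCAlg.ι X' hX' ≫ q) UC
      (top_le_of_good h n) ρbar (by rw [← hcomp]; exact top_le_of_good h' n)
    rw [← h3]
    congr 1
  unfold coef
  rw [hΦ]
  obtain ⟨E, hE⟩ := Ideal.Quotient.mk_surjective ((Φ h n).hom f)
  change _ = trComp (𝒜.deg X'' hX'') n k (ρbar.hom ((Φ h n).hom f))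
  rw [← hE]
  change _ = trComp (𝒜.deg X'' hX'') n k (Ideal.quotientMap _ ρ hρ (Ideal.Quotient.mk _ E))
  rw [Ideal.quotientMap_mk (f := ρ) (H := hρ), trComp_mk _ hk, trComp_mk _ hk]
  exact GradedRingHom.map_directSumDecompose _ _ (𝒜.res hX' hX'' i)

/-- The coefficient sections over an open all of whose affine opens are good. -/
theorem exists_coefSec (W : X.Opens)
    (hW : ∀ (X' : X.Opens) (hX' : IsAffineOpen X'), X' ≤ W → Good 𝒜 q UC X' hX')
    {n k : ℕ} (hk : k ≤ n) (f : Γ(C, UC)) :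
    ∃ τ : 𝒜.presheaf.obj (op W), ∀ (X' : X.Opens) (hX' : IsAffineOpen X') (hle : X' ≤ W),
      (𝒜.presheaf.map (homOfLE hle).op).hom τ = coef (hW X' hX' hle) n k f :=
  exists_glue_affine 𝒜.toQCAlg W (fun X' hX' hle => coef (hW X' hX' hle) n k f)
    (fun X' hX' hle X'' hX'' i => coef_res (hW X' hX' hle) (hW X'' hX'' (i.trans hle)) i hk f)

/-- The fraction data of `exists_fraction` control the Taylor coefficients. -/
theorem exists_fraction_coef {X' : X.Opens} {hX' : IsAffineOpen X'} (h : Good 𝒜 q UC X' hX')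
    (f : Γ(C, UC)) :
    ∃ (g G : 𝒜.presheaf.obj (op X')), 1 - g ∈ ((𝒜.deg X' hX')₊).toIdeal ∧
      (∀ P : Spec (𝒜.presheaf.obj (op X')), g ∉ P.asIdeal →
        ((𝒜.toQCAlg.ι X' hX' ≫ q) P ∈ UC ∧
          ((𝒜.toQCAlg.ι X' hX' ≫ q) P ∈ C.basicOpen f ↔ G ∉ P.asIdeal))) ∧
      (∀ (P : Ideal (𝒜.presheaf.obj (op X'))), P.IsHomogeneous (𝒜.deg X' hX') → ∀ n : ℕ,
        ((∀ k, k ≤ n → coef h n k f ∈ P) ↔
          (∀ k, k ≤ n → (DirectSum.decompose (𝒜.deg X' hX') G k : 𝒜.presheaf.obj (op X')) ∈ P))) := by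
  classical
  obtain ⟨g, G, m, hg, hfrac, hpt⟩ := exists_fraction (𝒜.toQCAlg.ι X' hX' ≫ q) UC
    ((𝒜.deg X' hX')₊).toIdeal h f
  refine ⟨g, G, hg, hpt, ?_⟩
  intro P hP n
  have hunit : IsUnit ((mkQ 𝒜 X' hX' n).hom g) := by
    obtain ⟨w, hw⟩ := exists_mul_sub_one_mem (𝒜.deg X' hX') n g hg
    refine IsUnit.of_mul_eq_one ((mkQ 𝒜 X' hX' n).hom w) ?_
    change Ideal.Quotient.mk _ g * Ideal.Quotient.mk _ w = 1
    rw [← map_mul, ← sub_eq_zero, ← map_one (Ideal.Quotient.mk (truncIdeal (𝒜.deg X' hX') n)),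
      ← map_sub]
    exact Ideal.Quotient.eq_zero_iff_mem.mpr hw
  obtain ⟨hU', hmul⟩ := hfrac _ (mkQ 𝒜 X' hX' n) hunit
  exact forall_trComp_mem_iff (𝒜.deg X' hX') n P hP g G m hg ((Φ h n).hom f) hmul

/-- A proper homogeneous ideal does not contain an element `≡ 1` modulo the irrelevant ideal. -/
theorem notMem_of_one_sub_mem {B : Type*} [CommRing B] (ℬ : ℕ → AddSubgroup B) [GradedRing ℬ]
    (P : Ideal B) (hP : P.IsHomogeneous ℬ) (hne : P ≠ ⊤) (g : B)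
    (hg : 1 - g ∈ (HomogeneousIdeal.irrelevant ℬ).toIdeal) : g ∉ P := by
  classical
  intro hgP
  apply hne
  rw [Ideal.eq_top_iff_one]
  have h0 := hP 0 hgP
  have h1 : GradedRing.proj ℬ 0 (1 - g) = 0 := (HomogeneousIdeal.mem_irrelevant_iff ℬ _).mp hg
  rw [map_sub, GradedRing.proj_apply, GradedRing.proj_apply,
    DirectSum.decompose_of_mem_same ℬ (SetLike.GradedOne.one_mem), sub_eq_zero] at h1
  rw [h1]
  exact h0

/-- Points of a good chart whose ideal is homogeneous are mapped into `UC`. -/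
theorem mem_of_isHomogeneous {X' : X.Opens} {hX' : IsAffineOpen X'}
    (h : Good 𝒜 q UC X' hX') (pt : Spec (𝒜.presheaf.obj (op X')))
    (hpt : pt.asIdeal.IsHomogeneous (𝒜.deg X' hX')) :
    (𝒜.toQCAlg.ι X' hX' ≫ q) pt ∈ UC := by
  obtain ⟨g, G, hg, hpts, -⟩ := exists_fraction_coef h (1 : Γ(C, UC))
  exact (hpts pt (notMem_of_one_sub_mem (𝒜.deg X' hX') pt.asIdeal hpt pt.isPrime.ne_top g hg)).1

/-- **Vanishing criterion**: for a point `pt` of the chart over a good affine open whose ideal is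
homogeneous, `f` does not vanish at its image in `C` iff some Taylor coefficient of `f` does not
lie in `pt`. -/
theorem mem_basicOpen_iff_exists_coef {X' : X.Opens} {hX' : IsAffineOpen X'}
    (h : Good 𝒜 q UC X' hX') (f : Γ(C, UC)) (pt : Spec (𝒜.presheaf.obj (op X')))
    (hpt : pt.asIdeal.IsHomogeneous (𝒜.deg X' hX')) :
    (𝒜.toQCAlg.ι X' hX' ≫ q) pt ∈ C.basicOpen f ↔
      ∃ n k : ℕ, k ≤ n ∧ coef h n k f ∉ pt.asIdeal := by
  classical
  obtain ⟨g, G, hg, hpts, hcoef⟩ := exists_fraction_coef h f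
  have hgpt : g ∉ pt.asIdeal :=
    notMem_of_one_sub_mem (𝒜.deg X' hX') pt.asIdeal hpt pt.isPrime.ne_top g hg
  rw [(hpts pt hgpt).2]
  constructor
  · intro hG
    by_contra hcon
    apply hG
    have hall : ∀ n k : ℕ, k ≤ n → coef h n k f ∈ pt.asIdeal := by
      intro n k hk
      by_contra hn
      exact hcon ⟨n, k, hk, hn⟩
    rw [← DirectSum.sum_support_decompose (𝒜.deg X' hX') G]
    refine Ideal.sum_mem _ fun k _ => ?_
    exact ((hcoef pt.asIdeal hpt k).mp (fun j hj => hall k j hj)) k le_rfl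
  · rintro ⟨n, k, hk, hn⟩ hG
    apply hn
    exact ((hcoef pt.asIdeal hpt n).mpr (fun j _ => hpt j hG)) k hk

end Groth.Agent.Lib.helper28.Grauert
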