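import Groth.Agent.Lib.Helper28.GrauertFib
import Groth.Agent.S8255

/-!
# The cone algebra `O_Y ×_{p_* O_X} p_* A` (helper28)

`p : X ⟶ Y` quasi-compact quasi-separated, `A` a quasi-coherent algebra on `X` with an
augmentation `aug : A ⟶ O_X`.  `coneAlg p A aug : RelSpec.QCAlg Y` has sections over `U` the pairs
`(a, σ)`, `a ∈ O_Y(U)`, `σ ∈ A(p⁻¹ U)` with `p^♯ a = aug σ`.  For `A = ⊕ L^n` this is
`O_Y ⊕ ⊕_{n ≥ 1} p_* L^n` (EGA II 8.8).
* `coneAlg.toPush : (coneAlg p A aug).presheaf ⟶ p_* A.presheaf`, `(a, σ) ↦ σ`;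
* `coneAlg.augHom : coneAlg p A aug ⟶ unit Y`, `(a, σ) ↦ a`.
-/

set_option autoImplicit false
set_option linter.style.haveILetI false
universe u
open CategoryTheory AlgebraicGeometry TopologicalSpace Opposite

namespace Groth.Agent.Lib.helper28.Grauert

open Groth.Agent.Lib.helper28.GrauertFib

variable {X Y : Scheme.{u}} (p : X ⟶ Y) (A : RelSpec.QCAlg X)
  (aug : A ⟶ RelSpec.QCAlg.unit X)

/-- `p^♯` over `U`. -/
abbrev phi (U : Y.Opens) : Γ(Y, U) →+* Γ(X, p ⁻¹ᵁ U) := (p.app U).hom

/-- The augmentation over `p⁻¹ U`. -/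
abbrev psi (U : Y.Opens) : A.presheaf.obj (op (p ⁻¹ᵁ U)) →+* Γ(X, p ⁻¹ᵁ U) :=
  (aug.hom.app (op (p ⁻¹ᵁ U))).hom

/-- The sections of the cone algebra over `U`. -/
abbrev coneRing (U : Y.Opens) : Subring (Γ(Y, U) × A.presheaf.obj (op (p ⁻¹ᵁ U))) :=
  fib (phi p U) (psi p A aug U)

theorem phi_res {U V : Y.Opens} (i : V ≤ U) :
    (X.presheaf.map (homOfLE (p.preimage_mono i)).op).hom.comp (phi p U) =
      (phi p V).comp (Y.presheaf.map (homOfLE i).op).hom := by
  ext a
  exact (congrArg (fun k => k.hom a) (p.naturality (homOfLE i).op)).symm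

theorem psi_res {U V : Y.Opens} (i : V ≤ U) :
    (X.presheaf.map (homOfLE (p.preimage_mono i)).op).hom.comp (psi p A aug U) =
      (psi p A aug V).comp (A.presheaf.map (homOfLE (p.preimage_mono i)).op).hom := by
  ext a
  exact (congrArg (fun k => k.hom a)
    (aug.hom.naturality (homOfLE (p.preimage_mono i)).op)).symm

/-- Restriction of sections of the cone algebra. -/
def coneRes {U V : Y.Opens} (i : V ≤ U) : coneRing p A aug U →+* coneRing p A aug V :=
  fibMap _ _ _ _ (Y.presheaf.map (homOfLE i).op).hom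
    (A.presheaf.map (homOfLE (p.preimage_mono i)).op).hom
    (X.presheaf.map (homOfLE (p.preimage_mono i)).op).hom (phi_res p i) (psi_res p A aug i)

theorem coneRes_val {U V : Y.Opens} (i : V ≤ U) (x : coneRing p A aug U) :
    (coneRes p A aug i x : Γ(Y, V) × A.presheaf.obj (op (p ⁻¹ᵁ V))) =
      ((Y.presheaf.map (homOfLE i).op).hom x.1.1,
        (A.presheaf.map (homOfLE (p.preimage_mono i)).op).hom x.1.2) := rfl

/-- The presheaf of the cone algebra. -/
def conePresheaf : TopCat.Presheaf CommRingCat.{u} Y where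
  obj U := CommRingCat.of (coneRing p A aug U.unop)
  map i := CommRingCat.ofHom (coneRes p A aug i.unop.le)
  map_id U := by
    refine CommRingCat.hom_ext (RingHom.ext fun x => Subtype.ext ?_)
    change ((Y.presheaf.map (𝟙 U)).hom x.1.1, (A.presheaf.map (𝟙 _)).hom x.1.2) = x.1
    rw [Y.presheaf.map_id, A.presheaf.map_id]
    rfl
  map_comp i j := by
    refine CommRingCat.hom_ext (RingHom.ext fun x => Subtype.ext ?_)
    change ((Y.presheaf.map (i ≫ j)).hom x.1.1, (A.presheaf.map _).hom x.1.2) =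
      ((Y.presheaf.map j).hom ((Y.presheaf.map i).hom x.1.1),
        (A.presheaf.map _).hom ((A.presheaf.map _).hom x.1.2))
    rw [Y.presheaf.map_comp]
    refine Prod.ext rfl ?_
    change _ = ((A.presheaf.map _ ≫ A.presheaf.map _).hom x.1.2)
    rw [← A.presheaf.map_comp]
    rfl

/-- The underlying pair of a section of the cone algebra. -/
def cval {U : Y.Opens} (x : (conePresheaf p A aug).obj (op U)) :
    Γ(Y, U) × A.presheaf.obj (op (p ⁻¹ᵁ U)) := (show coneRing p A aug U from x).1

theorem cval_mem {U : Y.Opens} (x : (conePresheaf p A aug).obj (op U)) :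
    phi p U (cval p A aug x).1 = psi p A aug U (cval p A aug x).2 :=
  (show coneRing p A aug U from x).2

theorem cval_injective {U : Y.Opens} : Function.Injective (cval p A aug (U := U)) :=
  fun _ _ h => Subtype.ext h

theorem cval_map {U V : Y.Opens} (i : V ≤ U) (x : (conePresheaf p A aug).obj (op U)) :
    cval p A aug (((conePresheaf p A aug).map (homOfLE i).op).hom x) =
      ((Y.presheaf.map (homOfLE i).op).hom (cval p A aug x).1,
        (A.presheaf.map (homOfLE (p.preimage_mono i)).op).hom (cval p A aug x).2) := rfl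

/-- Sections of the cone algebra from compatible pairs. -/
def cmk {U : Y.Opens} (a : Γ(Y, U)) (σ : A.presheaf.obj (op (p ⁻¹ᵁ U)))
    (h : phi p U a = psi p A aug U σ) : (conePresheaf p A aug).obj (op U) :=
  (⟨(a, σ), h⟩ : coneRing p A aug U)

theorem cval_cmk {U : Y.Opens} (a : Γ(Y, U)) (σ : A.presheaf.obj (op (p ⁻¹ᵁ U)))
    (h : phi p U a = psi p A aug U σ) : cval p A aug (cmk p A aug a σ h) = (a, σ) := rfl

theorem conePresheaf_isSheaf : (conePresheaf p A aug).IsSheaf := by
  rw [TopCat.Presheaf.isSheaf_iff_isSheafUniqueGluing]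
  intro ι U sf hsf
  let FY : TopCat.Sheaf CommRingCat.{u} Y := Y.sheaf
  let FA : TopCat.Sheaf CommRingCat.{u} Y :=
    ⟨p.base _* A.presheaf, TopCat.Sheaf.pushforward_sheaf_of_sheaf p.base A.isSheaf⟩
  let FX : TopCat.Sheaf CommRingCat.{u} Y :=
    ⟨p.base _* X.presheaf, TopCat.Sheaf.pushforward_sheaf_of_sheaf p.base X.sheaf.property⟩
  have hc1 : TopCat.Presheaf.IsCompatible FY.1 U (fun i => (cval p A aug (sf i)).1) := by
    intro i j
    exact congrArg (fun z => (cval p A aug z).1) (hsf i j)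
  have hc2 : TopCat.Presheaf.IsCompatible FA.1 U (fun i => (cval p A aug (sf i)).2) := by
    intro i j
    exact congrArg (fun z => (cval p A aug z).2) (hsf i j)
  obtain ⟨a, ha, ha'⟩ := FY.existsUnique_gluing U _ hc1
  obtain ⟨σ, hσ, hσ'⟩ := FA.existsUnique_gluing U _ hc2
  have hmem : phi p (iSup U) a = psi p A aug (iSup U) σ := by
    refine FX.eq_of_locally_eq (U := U) _ _ (fun i => ?_)
    have h1 := RingHom.congr_fun (phi_res p (Opens.leSupr U i).le) a
    have h2 := RingHom.congr_fun (psi_res p A aug (Opens.leSupr U i).le) σ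
    refine h1.trans (Eq.trans ?_ h2.symm)
    have h3 : (Y.presheaf.map (homOfLE (Opens.leSupr U i).le).op).hom a =
        (cval p A aug (sf i)).1 := ha i
    have h4 : (A.presheaf.map (homOfLE (p.preimage_mono (Opens.leSupr U i).le)).op).hom σ =
        (cval p A aug (sf i)).2 := hσ i
    change phi p (U i) ((Y.presheaf.map (homOfLE (Opens.leSupr U i).le).op).hom a) =
      psi p A aug (U i) ((A.presheaf.map (homOfLE (p.preimage_mono (Opens.leSupr U i).le)).op).hom σ)
    rw [h3, h4]
    exact cval_mem p A aug (sf i)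
  refine ⟨cmk p A aug a σ hmem, ?_, ?_⟩
  · intro i
    apply cval_injective p A aug
    exact Prod.ext (ha i) (hσ i)
  · intro s' hs'
    apply cval_injective p A aug
    have e1 : (cval p A aug s').1 = a := by
      apply ha'
      intro i
      exact congrArg (fun z => (cval p A aug z).1) (hs' i)
    have e2 : (cval p A aug s').2 = σ := by
      apply hσ'
      intro i
      exact congrArg (fun z => (cval p A aug z).2) (hs' i)
    exact Prod.ext e1 e2

theorem psi_str (U : Y.Opens) (t : Γ(X, p ⁻¹ᵁ U)) :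
    psi p A aug U ((A.str.app (op (p ⁻¹ᵁ U))).hom t) = t := by
  have := congrArg (fun k => (k.app (op (p ⁻¹ᵁ U))).hom t) aug.comm
  exact this

/-- The structure map of the cone algebra, over `U`. -/
def coneStrHom (U : Y.Opens) : Γ(Y, U) →+* coneRing p A aug U :=
  (RingHom.prod (RingHom.id _) ((A.str.app (op (p ⁻¹ᵁ U))).hom.comp (phi p U))).codRestrict
    (coneRing p A aug U) (fun a => (psi_str p A aug U (phi p U a)).symm)

/-- The structure map of the cone algebra. -/
def coneStr : Y.presheaf ⟶ conePresheaf p A aug where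
  app U := CommRingCat.ofHom (coneStrHom p A aug U.unop)
  naturality U V i := by
    refine CommRingCat.hom_ext (RingHom.ext fun a => Subtype.ext ?_)
    refine Prod.ext rfl ?_
    change (A.str.app (op (p ⁻¹ᵁ V.unop))).hom (phi p V.unop ((Y.presheaf.map i).hom a)) =
      (A.presheaf.map (homOfLE (p.preimage_mono i.unop.le)).op).hom
        ((A.str.app (op (p ⁻¹ᵁ U.unop))).hom (phi p U.unop a))
    have h1 := RingHom.congr_fun (phi_res p i.unop.le) a
    have h2 := congrArg (fun k => k.hom (phi p U.unop a))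
      (A.str.naturality (homOfLE (p.preimage_mono i.unop.le)).op)
    have h3 : phi p V.unop ((Y.presheaf.map i).hom a) =
        (X.presheaf.map (homOfLE (p.preimage_mono i.unop.le)).op).hom (phi p U.unop a) := h1.symm
    rw [h3]
    exact h2

theorem cval_coneStr (U : Y.Opens) (a : Γ(Y, U)) :
    cval p A aug (((coneStr p A aug).app (op U)).hom a) =
      (a, (A.str.app (op (p ⁻¹ᵁ U))).hom (phi p U a)) := rfl

section QC

variable [QuasiCompact p] [QuasiSeparated p]

/-- The direct image `p_* A` is quasi-coherent on affine opens. -/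
theorem isQC_push (U : Y.Opens) (hU : IsAffineOpen U) (r : Γ(Y, U)) :
    letI := (A.presheaf.map (homOfLE (p.preimage_mono (Y.basicOpen_le r))).op).hom.toAlgebra
    IsLocalization.Away ((A.str.app (op (p ⁻¹ᵁ U))).hom (phi p U r))
      (A.presheaf.obj (op (p ⁻¹ᵁ Y.basicOpen r))) := by
  have h := RelSpec.QCAlg.isQC_pushforward (A.π ≫ p) U hU r
  haveI : IsIso A.gammaMap := Groth.Agent.S8255.result A
  let γ := asIso A.gammaMap
  let e : Γ(A.spec, A.π ⁻¹ᵁ (p ⁻¹ᵁ U)) ≃+* A.presheaf.obj (op (p ⁻¹ᵁ U)) :=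
    (γ.app (op (p ⁻¹ᵁ U))).commRingCatIsoToRingEquiv
  let e' : Γ(A.spec, A.π ⁻¹ᵁ (p ⁻¹ᵁ Y.basicOpen r)) ≃+*
      A.presheaf.obj (op (p ⁻¹ᵁ Y.basicOpen r)) :=
    (γ.app (op (p ⁻¹ᵁ Y.basicOpen r))).commRingCatIsoToRingEquiv
  have hsq : ∀ x, e' ((A.spec.presheaf.map
      (homOfLE ((A.π ≫ p).preimage_mono (Y.basicOpen_le r))).op).hom x) =
      (A.presheaf.map (homOfLE (p.preimage_mono (Y.basicOpen_le r))).op).hom (e x) := by
    intro x
    exact congrArg (fun k => k.hom x)
      (A.gammaMap.naturality (homOfLE (p.preimage_mono (Y.basicOpen_le r))).op)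
  have h2 := away_transfer _ _ e e' hsq _ h
  have h3 : e (((A.π ≫ p).c.app (op U)).hom r) =
      (A.str.app (op (p ⁻¹ᵁ U))).hom (phi p U r) := by
    have := congrArg (fun k => (k.app (op (p ⁻¹ᵁ U))).hom (phi p U r)) A.π_c_gammaMap
    exact this
  rw [h3] at h2
  exact h2

theorem cone_isQC : RelSpec.IsQC (conePresheaf p A aug) (coneStr p A aug) := by
  intro U hU r
  have hR : letI := (Y.presheaf.map (homOfLE (Y.basicOpen_le r)).op).hom.toAlgebra
      IsLocalization.Away r Γ(Y, Y.basicOpen r) := hU.isLocalization_basicOpen r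
  have hS := isQC_push p A U hU r
  have hT : ∀ t : Γ(X, p ⁻¹ᵁ U),
      (X.presheaf.map (homOfLE (p.preimage_mono (Y.basicOpen_le r))).op).hom t = 0 →
      ∃ k : ℕ, phi p U r ^ k * t = 0 :=
    (away_elem _ _ (RelSpec.QCAlg.isQC_pushforward p U hU r)).2.2
  exact isLocalization_fib (phi p U) (psi p A aug U) (phi p (Y.basicOpen r))
    (psi p A aug (Y.basicOpen r)) _ _ _ (phi_res p (Y.basicOpen_le r))
    (psi_res p A aug (Y.basicOpen_le r)) r ((A.str.app (op (p ⁻¹ᵁ U))).hom (phi p U r))
    (psi_str p A aug U (phi p U r)).symm hR hS hT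

/-- The cone algebra `O_Y ×_{p_* O_X} p_* A`. -/
def coneAlg : RelSpec.QCAlg Y where
  presheaf := conePresheaf p A aug
  isSheaf := conePresheaf_isSheaf p A aug
  str := coneStr p A aug
  isQC := cone_isQC p A aug

/-- The projection of the cone algebra to `p_* A`. -/
def coneToPush : (coneAlg p A aug).presheaf ⟶ p.base _* A.presheaf where
  app U := CommRingCat.ofHom ((RingHom.snd _ _).comp (coneRing p A aug U.unop).subtype)
  naturality _ _ _ := rfl

theorem coneToPush_apply (U : Y.Opens) (x : (conePresheaf p A aug).obj (op U)) :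
    ((coneToPush p A aug).app (op U)).hom x = (cval p A aug x).2 := rfl

theorem coneToPush_str : (coneAlg p A aug).str ≫ coneToPush p A aug =
    p.c ≫ (TopCat.Presheaf.pushforward CommRingCat.{u} p.base).map A.str := rfl

/-- The augmentation of the cone algebra. -/
def coneAug : coneAlg p A aug ⟶ RelSpec.QCAlg.unit Y where
  hom :=
    { app := fun U => CommRingCat.ofHom ((RingHom.fst _ _).comp (coneRing p A aug U.unop).subtype)
      naturality := fun _ _ _ => rfl }
  comm := rfl

theorem coneAug_apply (U : Y.Opens) (x : (conePresheaf p A aug).obj (op U)) :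
    ((coneAug p A aug).hom.app (op U)).hom x = (cval p A aug x).1 := rfl

end QC

end Groth.Agent.Lib.helper28.Grauert
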