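import Mathlib.LinearAlgebra.TensorProduct.Basic
import Mathlib.Algebra.Ring.Defs

/-!
# A bilinear pairing of cyclic modules onto a free module of rank one is bijective
-/

open TensorProduct

namespace Groth.Agent.Lib.helper28.RankOne

theorem bijective_of_rank_one {R M N K : Type*} [CommRing R] [AddCommGroup M] [Module R M]
    [AddCommGroup N] [Module R N] [AddCommGroup K] [Module R K] (P : M ⊗[R] N →ₗ[R] K)
    (um : M) (un : N) (uk : K) (hm : Function.Surjective fun c : R => c • um)
    (hn : Function.Surjective fun c : R => c • un) (hk : Function.Bijective fun c : R => c • uk)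
    (hP : P (um ⊗ₜ un) = uk) : Function.Bijective P := by
  have key : ∀ z : M ⊗[R] N, ∃ c : R, z = (c • um) ⊗ₜ[R] un := by
    intro z
    induction z using TensorProduct.induction_on with
    | zero => exact ⟨0, by rw [zero_smul, TensorProduct.zero_tmul]⟩
    | tmul s t =>
      obtain ⟨c₁, hc₁⟩ := hm s
      obtain ⟨c₂, hc₂⟩ := hn t
      refine ⟨c₂ * c₁, ?_⟩
      simp only at hc₁ hc₂
      rw [← hc₁, ← hc₂, TensorProduct.tmul_smul, TensorProduct.smul_tmul', mul_smul]
    | add z z' hz hz' =>
      obtain ⟨c, hc⟩ := hz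
      obtain ⟨c', hc'⟩ := hz'
      exact ⟨c + c', by rw [hc, hc', add_smul, TensorProduct.add_tmul]⟩
  have hPc : ∀ c : R, P ((c • um) ⊗ₜ[R] un) = c • uk := by
    intro c
    rw [← TensorProduct.smul_tmul', map_smul, hP]
  constructor
  · intro z z' hzz
    obtain ⟨c, rfl⟩ := key z
    obtain ⟨c', rfl⟩ := key z'
    rw [hPc, hPc] at hzz
    have : c = c' := hk.1 hzz
    rw [this]
  · intro t
    obtain ⟨c, hc⟩ := hk.2 t
    exact ⟨(c • um) ⊗ₜ[R] un, (hPc c).trans hc⟩

end Groth.Agent.Lib.helper28.RankOne
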