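import Groth.Agent.Lib.Helper28.PowMap
import Groth.Agent.Lib.Helper28.CanonIso
import Groth.Agent.Lib.Helper28.RankOne
import Groth.Agent.Lib.Helper28.PolyGrade
import Groth.Agent.Lib.Helper11.TensorASec2
import Groth.Agent.Lib.Helper12.TensorInv

/-!
# Tensor powers of an invertible module inside its symmetric algebra (helper28)

`L` invertible on `X`, `(𝒮L, j)` its graded symmetric algebra.  `μ_n = powMap j n : L^{⊗ n} ⟶ 𝒮L`.
Over an affine open `V` on which `L` is free on `g` (`GenData`): `L^{⊗ n}(V)` is free on `g^{⊗ n}`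
(`γ`), `μ_n (g^{⊗ n}) = z^n` with `z = j g`, so `μ_n` maps `L^{⊗ n}(V)` bijectively onto the
degree `n` piece `O(V) z^n` of `𝒮L(V) = O(V)[z]`.
-/

set_option autoImplicit false
set_option linter.style.haveILetI false
universe u
open CategoryTheory AlgebraicGeometry TopologicalSpace Opposite TensorProduct

namespace Groth.Agent.Lib.helper28.SymLinePow

open Groth.Agent.Lib.helper28.PowMap Groth.Agent.Lib.helper28.TensorDesc
  Groth.Agent.Lib.helper11.TensorASec

variable {X : Scheme.{u}} (L : X.Modules) [L.IsQuasicoherent]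
  (𝒮L : RelProj.QCGrAlg X) (j : L ⟶ 𝒮L.toModule)

/-- An affine open over which `L` is free on `g` and `𝒮L` is the polynomial ring on `j g`. -/
structure GenData (V : X.Opens) where
  hV : IsAffineOpen V
  g : Γ(L, V)
  hg : Function.Bijective (fun a : Γ(X, V) => a • g)
  hz : (j.app V).hom g ∈ 𝒮L.deg V hV 1
  hpoly : Function.Bijective (Polynomial.eval₂RingHom (𝒮L.str.app (op V)).hom ((j.app V).hom g))

variable {L 𝒮L j}

/-- The variable `z = j g`. -/
noncomputable def GenData.z {V : X.Opens} (D : GenData L 𝒮L j V) : 𝒮L.presheaf.obj (op V) := (j.app V).hom D.g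

/-- The generator `g^{⊗ n}` of `L^{⊗ n}(V)`. -/
noncomputable def GenData.γ {V : X.Opens} (D : GenData L 𝒮L j V) :
    (n : ℕ) → (CohB1.tensorPow L n).val.obj (op V)
  | 0 => ((1 : Γ(X, V)) : Γ(Coh.structureModule X, V))
  | n + 1 => SecTwist.tmul (CohB1.tensorPow L n) L V (D.γ n) D.g

theorem isQuasicoherent_tensorPow (hL : PicF.IsInvertible L) (n : ℕ) :
    (CohB1.tensorPow L n).IsQuasicoherent :=
  Groth.Agent.Lib.helper12.AmpleBasis.isQuasicoherent_of_isInvertible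
    (Groth.Agent.Lib.helper12.TensorInv.isInvertible_tensorPow hL n)

theorem bijective_smul_tmul {R M N : Type*} [CommRing R] [AddCommGroup M] [Module R M]
    [AddCommGroup N] [Module R N] (um : M) (un : N)
    (hm : Function.Bijective fun c : R => c • um) (hn : Function.Bijective fun c : R => c • un) :
    Function.Bijective fun c : R => c • (um ⊗ₜ[R] un) := by
  let eM : R ≃ₗ[R] M := LinearEquiv.ofBijective (LinearMap.toSpanSingleton R M um) hm
  let eN : R ≃ₗ[R] N := LinearEquiv.ofBijective (LinearMap.toSpanSingleton R N un) hn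
  let E : R ≃ₗ[R] M ⊗[R] N := (TensorProduct.lid R R).symm.trans (TensorProduct.congr eM eN)
  have hE : ∀ c : R, E c = c • (um ⊗ₜ[R] un) := by
    intro c
    change (TensorProduct.congr eM eN) ((TensorProduct.lid R R).symm c) = _
    rw [TensorProduct.lid_symm_apply, TensorProduct.congr_tmul]
    change ((1 : R) • um) ⊗ₜ[R] (c • un) = _
    rw [one_smul, TensorProduct.tmul_smul]
  have : (fun c : R => c • (um ⊗ₜ[R] un)) = E := by
    funext c
    exact (hE c).symm
  rw [this]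
  exact E.bijective

theorem GenData.bijective_smul_γ (hL : PicF.IsInvertible L) {V : X.Opens}
    (D : GenData L 𝒮L j V) (n : ℕ) :
    Function.Bijective (fun a : Γ(X, V) => (a • D.γ n : Γ(CohB1.tensorPow L n, V))) := by
  induction n with
  | zero =>
    have : (fun a : Γ(X, V) => (a • D.γ 0 : Γ(CohB1.tensorPow L 0, V))) = fun a => a := by
      funext a
      exact mul_one a
    rw [this]
    exact Function.bijective_id
  | succ n ih =>
    haveI := isQuasicoherent_tensorPow hL n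
    have hc := bijective_cW (CohB1.tensorPow L n) L V D.hV
    have ht := bijective_smul_tmul (R := Γ(X, V)) (D.γ n : Γ(CohB1.tensorPow L n, V)) D.g ih D.hg
    have : (fun a : Γ(X, V) => (a • D.γ (n + 1) : Γ(CohB1.tensorPow L (n + 1), V))) =
        (cW (CohB1.tensorPow L n) L V) ∘ (fun c : Γ(X, V) =>
          c • ((D.γ n : Γ(CohB1.tensorPow L n, V)) ⊗ₜ[Γ(X, V)] D.g)) := by
      funext a
      change _ = cW (CohB1.tensorPow L n) L V (a • _)
      rw [map_smul]
      rfl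
    rw [this]
    exact hc.comp ht

/-- `μ_n = powMap j n`, on sections, with values in the ring of sections. -/
noncomputable def μ (j : L ⟶ 𝒮L.toModule) (n : ℕ) (U : X.Opens)
    (t : (CohB1.tensorPow L n).val.obj (op U)) : 𝒮L.presheaf.obj (op U) :=
  toRing 𝒮L.toQCAlg (((powMap 𝒮L.toQCAlg j n).val.app (op U)).hom t)

theorem μ_add (n : ℕ) (U : X.Opens) (t t' : (CohB1.tensorPow L n).val.obj (op U)) :
    μ j n U (t + t') = μ j n U t + μ j n U t' := by
  unfold μ
  rw [map_add]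
  rfl

theorem μ_zero (n : ℕ) (U : X.Opens) : μ j n U (0 : (CohB1.tensorPow L n).val.obj (op U)) = 0 := by
  unfold μ
  rw [map_zero]
  rfl

theorem μ_smul (n : ℕ) (U : X.Opens) (c : Γ(X, U)) (t : Γ(CohB1.tensorPow L n, U)) :
    μ j n U (c • t : Γ(CohB1.tensorPow L n, U)) = (𝒮L.str.app (op U)).hom c * μ j n U t := by
  unfold μ
  have h := Scheme.Modules.Hom.app_smul (powMap 𝒮L.toQCAlg j n) c t
  change toRing 𝒮L.toQCAlg ((powMap 𝒮L.toQCAlg j n).app U (c • t)) = _
  rw [h, smul_eq]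
  rfl

theorem μ_res (n : ℕ) {U V : X.Opens} (i : V ≤ U) (t : (CohB1.tensorPow L n).val.obj (op U)) :
    μ j n V ((CohB1.tensorPow L n).val.map (homOfLE i).op t) =
      (𝒮L.presheaf.map (homOfLE i).op).hom (μ j n U t) := by
  unfold μ
  have h := Groth.Agent.Lib.helper2.ModSec.map_app_apply (powMap 𝒮L.toQCAlg j n) (homOfLE i) t
  change toRing 𝒮L.toQCAlg ((powMap 𝒮L.toQCAlg j n).app V
    ((CohB1.tensorPow L n).presheaf.map (homOfLE i).op t)) = _
  rw [← h]
  rfl

theorem μ_zero_apply (U : X.Opens) (r : Γ(X, U)) :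
    μ j 0 U (r : Γ(Coh.structureModule X, U)) = (𝒮L.str.app (op U)).hom r :=
  unitHom_app 𝒮L.toQCAlg U r

theorem μ_succ_tmul (n : ℕ) (U : X.Opens) (a : (CohB1.tensorPow L n).val.obj (op U))
    (m : L.val.obj (op U)) :
    μ j (n + 1) U (SecTwist.tmul (CohB1.tensorPow L n) L U a m) =
      μ j n U a * toRing 𝒮L.toQCAlg ((j.val.app (op U)).hom m) :=
  powMap_succ_tmul 𝒮L.toQCAlg j n U a m

theorem GenData.μ_γ {V : X.Opens} (D : GenData L 𝒮L j V) (n : ℕ) :
    μ j n V (D.γ n) = D.z ^ n := by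
  induction n with
  | zero =>
    rw [pow_zero]
    change μ j 0 V ((1 : Γ(X, V)) : Γ(Coh.structureModule X, V)) = 1
    rw [μ_zero_apply, map_one]
  | succ n ih =>
    change μ j (n + 1) V (SecTwist.tmul (CohB1.tensorPow L n) L V (D.γ n) D.g) = _
    rw [μ_succ_tmul, ih, pow_succ]
    rfl

theorem GenData.μ_smul_γ {V : X.Opens} (D : GenData L 𝒮L j V) (n : ℕ) (c : Γ(X, V)) :
    μ j n V (c • D.γ n : Γ(CohB1.tensorPow L n, V)) = (𝒮L.str.app (op V)).hom c * D.z ^ n := by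
  exact (μ_smul n V c (D.γ n)).trans (by rw [D.μ_γ])

theorem GenData.μ_mem_deg (hL : PicF.IsInvertible L) {V : X.Opens} (D : GenData L 𝒮L j V) (n : ℕ)
    (t : (CohB1.tensorPow L n).val.obj (op V)) : μ j n V t ∈ 𝒮L.deg V D.hV n := by
  obtain ⟨c, rfl⟩ := (D.bijective_smul_γ hL n).2 t
  change μ j n V (c • D.γ n : Γ(CohB1.tensorPow L n, V)) ∈ _
  rw [D.μ_smul_γ]
  exact Groth.Agent.Lib.helper28.PolyGrade.term_mem (𝒮L.deg V D.hV) (𝒮L.str.app (op V)).hom D.z
    (𝒮L.str_mem V D.hV) D.hz c n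

theorem GenData.μ_injective (hL : PicF.IsInvertible L) {V : X.Opens} (D : GenData L 𝒮L j V)
    (n : ℕ) (t : (CohB1.tensorPow L n).val.obj (op V)) (h : μ j n V t = 0) : t = 0 := by
  obtain ⟨c, rfl⟩ := (D.bijective_smul_γ hL n).2 t
  change μ j n V (c • D.γ n : Γ(CohB1.tensorPow L n, V)) = 0 at h
  rw [D.μ_smul_γ] at h
  have hc : c = 0 := Groth.Agent.Lib.helper28.PolyGrade.eq_zero_of_term_eq_zero
    (𝒮L.str.app (op V)).hom D.z D.hpoly.1 h
  rw [hc]
  exact zero_smul _ _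

theorem GenData.exists_μ_eq {V : X.Opens} (D : GenData L 𝒮L j V) (n : ℕ) (σ : 𝒮L.presheaf.obj (op V))
    (hσ : σ ∈ 𝒮L.deg V D.hV n) : ∃ c : Γ(X, V), μ j n V (c • D.γ n : Γ(CohB1.tensorPow L n, V)) = σ := by
  obtain ⟨c, hc⟩ := Groth.Agent.Lib.helper28.PolyGrade.exists_eq_of_mem_deg (𝒮L.deg V D.hV)
    (𝒮L.str.app (op V)).hom D.z (𝒮L.str_mem V D.hV) D.hz D.hpoly.2 hσ
  exact ⟨c, (D.μ_smul_γ n c).trans hc.symm⟩

section Global

open Groth.Agent.Lib.helper12.TwistExtend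

variable (hj : RelProj.IsGrSymAlg L 𝒮L j) (hL : PicF.IsInvertible L)

include hj hL in
/-- The affine opens carrying a generator form a basis. -/
theorem exists_genData (x : X) (W : X.Opens) (hxW : x ∈ W) :
    ∃ V : X.Opens, x ∈ V ∧ V ≤ W ∧ Nonempty (GenData L 𝒮L j V) := by
  obtain ⟨V, hxV, hVW, ⟨e⟩⟩ :=
    Groth.Agent.Lib.helper28.CanonIso.exists_affine_rankOne_le L hL x W hxW
  obtain ⟨g, hg1, hz, hpoly⟩ := Groth.Agent.Lib.helper28.CanonIso.exists_poly' L 𝒮L j hj V e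
  exact ⟨V.1, hxV, hVW, ⟨⟨V.2, g, hg1, hz, hpoly⟩⟩⟩

include hj hL in
theorem le_iSup_genData (U : X.Opens) :
    U ≤ ⨆ V : {V : X.Opens // V ≤ U ∧ Nonempty (GenData L 𝒮L j V)}, V.1 := by
  intro x hx
  obtain ⟨V, hxV, hVU, hD⟩ := exists_genData hj hL x U hx
  exact Opens.mem_iSup.mpr ⟨⟨V, hVU, hD⟩, hxV⟩

include hj hL in
/-- `μ_n` is injective on sections over every open. -/
theorem μ_injective (n : ℕ) (U : X.Opens) (t : (CohB1.tensorPow L n).val.obj (op U))
    (h : μ j n U t = 0) : t = 0 := by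
  refine eq_of_cover (CohB1.tensorPow L n)
    (fun V : {V : X.Opens // V ≤ U ∧ Nonempty (GenData L 𝒮L j V)} => V.1) U (fun V => V.2.1)
    (le_iSup_genData hj hL U) t 0 (fun V => ?_)
  obtain ⟨D⟩ := V.2.2
  have h0 : res (CohB1.tensorPow L n) V.2.1 (0 : (CohB1.tensorPow L n).val.obj (op U)) = 0 :=
    map_zero ((CohB1.tensorPow L n).presheaf.map (homOfLE V.2.1).op).hom
  rw [h0]
  refine D.μ_injective hL n _ ?_
  change μ j n V.1 ((CohB1.tensorPow L n).val.map (homOfLE V.2.1).op t) = 0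
  rw [μ_res, h, map_zero]

/-- Equality of sections of `𝒮L` is local. -/
theorem sec_eq_of_cover {ι : Type*} (W : ι → X.Opens) (V : X.Opens) (hle : ∀ i, W i ≤ V)
    (hcov : V ≤ ⨆ i, W i) (a b : 𝒮L.presheaf.obj (op V))
    (hab : ∀ i, (𝒮L.presheaf.map (homOfLE (hle i)).op).hom a =
      (𝒮L.presheaf.map (homOfLE (hle i)).op).hom b) : a = b :=
  eq_of_cover 𝒮L.toModule W V hle hcov (ofRing 𝒮L.toQCAlg a) (ofRing 𝒮L.toQCAlg b) hab

include hj hL in
/-- A section of `𝒮L` over an affine open which is homogeneous of degree `n` on the members of a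
cover by affine opens is homogeneous of degree `n`. -/
theorem mem_deg_of_cover (n : ℕ) (V : X.Opens) (hV : IsAffineOpen V) (σ : 𝒮L.presheaf.obj (op V))
    (h : ∀ (V' : X.Opens) (D : GenData L 𝒮L j V') (i : V' ≤ V),
      (𝒮L.presheaf.map (homOfLE i).op).hom σ ∈ 𝒮L.deg V' D.hV n) : σ ∈ 𝒮L.deg V hV n := by
  classical
  have key : ∀ k : ℕ, k ≠ n → (DirectSum.decompose (𝒮L.deg V hV) σ k : 𝒮L.presheaf.obj (op V)) = 0 := by
    intro k hk
    refine sec_eq_of_cover
      (fun V' : {V' : X.Opens // V' ≤ V ∧ Nonempty (GenData L 𝒮L j V')} => V'.1) V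
      (fun V' => V'.2.1) (le_iSup_genData hj hL V) _ _ (fun V' => ?_)
    obtain ⟨D⟩ := V'.2.2
    rw [map_zero]
    have h1 : (𝒮L.res hV D.hV V'.2.1)
        (DirectSum.decompose (𝒮L.deg V hV) σ k : 𝒮L.presheaf.obj (op V)) =
        (DirectSum.decompose (𝒮L.deg V'.1 D.hV) ((𝒮L.res hV D.hV V'.2.1) σ) k :
          𝒮L.presheaf.obj (op V'.1)) :=
      GradedRingHom.map_directSumDecompose _ _ (𝒮L.res hV D.hV V'.2.1)
    refine h1.trans ?_
    have h2 : (𝒮L.res hV D.hV V'.2.1) σ ∈ 𝒮L.deg V'.1 D.hV n := h V'.1 D V'.2.1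
    rw [DirectSum.decompose_of_mem_ne _ h2 (Ne.symm hk)]
  have hsum := DirectSum.sum_support_decompose (𝒮L.deg V hV) σ
  rw [← hsum]
  refine AddSubgroup.sum_mem _ fun k _ => ?_
  by_cases hk : k = n
  · subst hk
    exact SetLike.coe_mem _
  · rw [key k hk]
    exact zero_mem _

include hj hL in
/-- `μ_n` has values homogeneous of degree `n`. -/
theorem μ_mem_deg (n : ℕ) (V : X.Opens) (hV : IsAffineOpen V)
    (t : (CohB1.tensorPow L n).val.obj (op V)) : μ j n V t ∈ 𝒮L.deg V hV n := by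
  refine mem_deg_of_cover hj hL n V hV _ (fun V' D i => ?_)
  rw [← μ_res]
  exact D.μ_mem_deg hL n _

theorem μ_sub (n : ℕ) (U : X.Opens) (t t' : (CohB1.tensorPow L n).val.obj (op U)) :
    μ j n U (t - t') = μ j n U t - μ j n U t' := by
  unfold μ
  rw [map_sub]
  rfl

include hj hL in
/-- Every section of `𝒮L` which is homogeneous of degree `n` on affine opens comes from a unique
section of `L^{⊗ n}`. -/
theorem exists_μ_eq (n : ℕ) (W : X.Opens) (σ : 𝒮L.presheaf.obj (op W))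
    (hσ : ∀ (V : X.Opens) (hV : IsAffineOpen V) (i : V ≤ W),
      (𝒮L.presheaf.map (homOfLE i).op).hom σ ∈ 𝒮L.deg V hV n) :
    ∃ t : (CohB1.tensorPow L n).val.obj (op W), μ j n W t = σ := by
  classical
  let I := {V : X.Opens // V ≤ W ∧ Nonempty (GenData L 𝒮L j V)}
  have hex : ∀ V : I, ∃ s : (CohB1.tensorPow L n).val.obj (op V.1),
      μ j n V.1 s = (𝒮L.presheaf.map (homOfLE V.2.1).op).hom σ := by
    intro V
    obtain ⟨D⟩ := V.2.2
    obtain ⟨c, hc⟩ := D.exists_μ_eq n _ (hσ V.1 D.hV V.2.1)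
    exact ⟨_, hc⟩
  choose sf hsf using hex
  have hcompat : ∀ V₁ V₂ : I,
      res (CohB1.tensorPow L n) (inf_le_left : V₁.1 ⊓ V₂.1 ≤ V₁.1) (sf V₁) =
        res (CohB1.tensorPow L n) (inf_le_right : V₁.1 ⊓ V₂.1 ≤ V₂.1) (sf V₂) := by
    intro V₁ V₂
    rw [← sub_eq_zero]
    refine μ_injective hj hL n _ _ ?_
    rw [μ_sub]
    have e1 := μ_res (j := j) n (inf_le_left : V₁.1 ⊓ V₂.1 ≤ V₁.1) (sf V₁)
    have e2 := μ_res (j := j) n (inf_le_right : V₁.1 ⊓ V₂.1 ≤ V₂.1) (sf V₂)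
    refine (congrArg₂ (· - ·) e1 e2).trans ?_
    rw [hsf, hsf, sub_eq_zero, ← CommRingCat.comp_apply, ← CommRingCat.comp_apply,
      ← Functor.map_comp, ← Functor.map_comp]
    rfl
  obtain ⟨t, ht, -⟩ := TopCat.Sheaf.existsUnique_gluing'
    ⟨(CohB1.tensorPow L n).presheaf, (CohB1.tensorPow L n).isSheaf⟩
    (fun V : I => V.1) W (fun V => homOfLE V.2.1) (le_iSup_genData hj hL W) sf
    (fun V₁ V₂ => hcompat V₁ V₂)
  refine ⟨t, ?_⟩
  refine sec_eq_of_cover (fun V : I => V.1) W (fun V => V.2.1) (le_iSup_genData hj hL W) _ _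
    (fun V => ?_)
  rw [← hsf V, ← ht V]
  exact (μ_res n V.2.1 t).symm

end Global

end Groth.Agent.Lib.helper28.SymLinePow
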