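import Groth.Agent.Lib.Helper28.PointedCone
import Groth.Agent.Lib.Helper28.ChartLocal

set_option autoImplicit false

universe u

/-! The vertex section of an affine cone `C = Spec(𝒮)` (helper28). -/

namespace Groth.Agent.Lib.helper28.VertexSection

open CategoryTheory CategoryTheory.Limits AlgebraicGeometry TopologicalSpace Opposite
open Groth.Agent.Lib.helper28.RelSpecMap Groth.Agent.Lib.helper28.PointedCone
open scoped HomogeneousIdeal

variable {Y : Scheme.{u}} (𝒮 : RelProj.QCGrAlg Y)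
  (aug : 𝒮.toQCAlg ⟶ RelSpec.QCAlg.unit Y)

theorem aug_str (U : Y.Opens) (r : Γ(Y, U)) :
    (aug.hom.app (op U)).hom ((𝒮.str.app (op U)).hom r) = r := by
  have := congrArg (fun k => (k.app (op U)).hom r) aug.comm
  exact this

theorem aug_surjective (U : Y.Opens) : Function.Surjective (aug.hom.app (op U)).hom :=
  fun r => ⟨(𝒮.str.app (op U)).hom r, aug_str 𝒮 aug U r⟩

theorem irrelevant_le_ker (haug : RelCone.IsAugmentation 𝒮 aug) (U : Y.Opens)
    (hU : IsAffineOpen U) :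
    ((𝒮.deg U hU)₊).toIdeal ≤ RingHom.ker (aug.hom.app (op U)).hom := by
  rw [HomogeneousIdeal.toIdeal_irrelevant_le]
  intro i hi x hx
  obtain ⟨d, rfl⟩ : ∃ d, i = d + 1 := ⟨i - 1, by omega⟩
  exact haug U hU d x hx

/-- `x - str(aug x)` lies in the irrelevant ideal. -/
theorem sub_str_aug_mem (h0 : RelCone.StrZeroBij 𝒮) (haug : RelCone.IsAugmentation 𝒮 aug)
    (U : Y.Opens) (hU : IsAffineOpen U) (x : 𝒮.presheaf.obj (op U)) :
    x - (𝒮.str.app (op U)).hom ((aug.hom.app (op U)).hom x) ∈ ((𝒮.deg U hU)₊).toIdeal := by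
  classical
  -- the degree zero component of `x` is `str r`
  obtain ⟨r, hr⟩ := (h0 U hU).2 (DirectSum.decompose (𝒮.deg U hU) x 0)
  have hr' : (𝒮.str.app (op U)).hom r =
      ((DirectSum.decompose (𝒮.deg U hU) x 0 : 𝒮.deg U hU 0) : 𝒮.presheaf.obj (op U)) :=
    congrArg Subtype.val hr
  have hplus : x - (𝒮.str.app (op U)).hom r ∈ ((𝒮.deg U hU)₊).toIdeal := by
    change x - (𝒮.str.app (op U)).hom r ∈ (𝒮.deg U hU)₊
    rw [HomogeneousIdeal.mem_irrelevant_iff, map_sub, GradedRing.proj_apply,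
      GradedRing.proj_apply, hr', DirectSum.decompose_of_mem_same _ (SetLike.coe_mem _), sub_self]
  have haugx : (aug.hom.app (op U)).hom x = r := by
    have h1 := irrelevant_le_ker 𝒮 aug haug U hU hplus
    rw [RingHom.mem_ker, map_sub, aug_str, sub_eq_zero] at h1
    exact h1
  rw [haugx]
  exact hplus

variable (ε : Y ⟶ 𝒮.toQCAlg.spec)

theorem ε_fromSpec (hε : RelCone.IsVertex 𝒮 aug ε) (U : Y.Opens) (hU : IsAffineOpen U)
    (p₀ : Spec Γ(Y, U)) :
    ε.base (hU.fromSpec.base p₀) =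
      (𝒮.toQCAlg.ι U hU).base ((Spec.map (aug.hom.app (op U))).base p₀) := by
  rw [← Scheme.Hom.comp_apply, hε.chart U hU]
  rfl

/-- A chart point lies on the vertex section iff it contains the irrelevant ideal. -/
theorem mem_range_ε_iff (h0 : RelCone.StrZeroBij 𝒮) (haug : RelCone.IsAugmentation 𝒮 aug)
    (hε : RelCone.IsVertex 𝒮 aug ε) (U : Y.Opens) (hU : IsAffineOpen U)
    (p : Spec (𝒮.presheaf.obj (op U))) :
    (𝒮.toQCAlg.ι U hU).base p ∈ Set.range ε.base ↔ ((𝒮.deg U hU)₊).toIdeal ≤ p.asIdeal := by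
  constructor
  · rintro ⟨y, hy⟩
    have hyU : y ∈ U := by
      have h1 : 𝒮.toQCAlg.π.base (ε.base y) = y := by
        rw [← Scheme.Hom.comp_apply, hε.comp_π]
        rfl
      have h2 : (𝒮.toQCAlg.ι U hU).base p ∈ Set.range (𝒮.toQCAlg.ι U hU).base := ⟨p, rfl⟩
      rw [range_ι, ← hy] at h2
      have h3 : 𝒮.toQCAlg.π.base (ε.base y) ∈ U := h2
      rw [h1] at h3
      exact h3
    have hy' : y ∈ Set.range hU.fromSpec.base := by
      rw [hU.range_fromSpec]
      exact hyU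
    obtain ⟨p₀, rfl⟩ := hy'
    rw [ε_fromSpec 𝒮 aug ε hε U hU p₀] at hy
    have hp := (𝒮.toQCAlg.ι U hU).isOpenEmbedding.injective hy
    rw [← hp]
    intro f hf
    have h1 := irrelevant_le_ker 𝒮 aug haug U hU hf
    rw [RingHom.mem_ker] at h1
    change (aug.hom.app (op U)).hom f ∈ p₀.asIdeal
    rw [h1]
    exact Ideal.zero_mem _
  · intro hle
    let p₀ : Spec Γ(Y, U) := (Spec.map (𝒮.str.app (op U))).base p
    refine ⟨hU.fromSpec.base p₀, ?_⟩
    rw [ε_fromSpec 𝒮 aug ε hε U hU p₀]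
    congr 1
    apply PrimeSpectrum.ext
    ext x
    change (𝒮.str.app (op U)).hom ((aug.hom.app (op U)).hom x) ∈ p.asIdeal ↔ x ∈ p.asIdeal
    have h1 := hle (sub_str_aug_mem 𝒮 aug h0 haug U hU x)
    constructor
    · intro h2
      have := Ideal.add_mem _ h1 h2
      rwa [sub_add_cancel] at this
    · intro h2
      have := Ideal.sub_mem _ h2 h1
      rwa [sub_sub_cancel] at this

theorem exists_chart (x : 𝒮.toQCAlg.spec) :
    ∃ (U : Y.Opens) (hU : IsAffineOpen U) (p : Spec (𝒮.presheaf.obj (op U))),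
      (𝒮.toQCAlg.ι U hU).base p = x := by
  obtain ⟨_, ⟨U, hU, rfl⟩, hxU, -⟩ := Y.isBasis_affineOpens.exists_subset_of_mem_open
    (Set.mem_univ (𝒮.toQCAlg.π.base x)) isOpen_univ
  have hx : x ∈ Set.range (𝒮.toQCAlg.ι U hU).base := by
    rw [range_ι]
    exact hxU
  obtain ⟨p, hp⟩ := hx
  exact ⟨U, hU, p, hp⟩

theorem pointedCone_eq_compl (h0 : RelCone.StrZeroBij 𝒮) (haug : RelCone.IsAugmentation 𝒮 aug)
    (hε : RelCone.IsVertex 𝒮 aug ε) :
    ((RelCone.pointedCone 𝒮 : 𝒮.toQCAlg.spec.Opens) : Set 𝒮.toQCAlg.spec) =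
      (Set.range ε.base)ᶜ := by
  ext x
  obtain ⟨U, hU, p, rfl⟩ := exists_chart 𝒮 x
  rw [Set.mem_compl_iff, mem_range_ε_iff 𝒮 aug ε h0 haug hε U hU p]
  exact ((mem_pointedCone_iff 𝒮 U hU p).trans (mem_vertexCompl_iff _ p))

end Groth.Agent.Lib.helper28.VertexSection
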