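import Groth.Agent.Lib.Helper28.GrauertPrime
import Groth.Agent.Lib.Helper28.GrauertChart
import Groth.Agent.Lib.Helper28.SymLinePow
import Groth.Agent.Lib.Helper28.VertexSection

/-!
# Generic points of the fibres of a line bundle `V(L) ⟶ X`, in a chart (helper28)

`D : GenData L 𝒜 jL X₁` (so `𝒜(X₁) = O(X₁)[z]`), `x ∈ X₁` with prime `𝔭` of `O(X₁)`.
* `gpt D x hx : Spec 𝒜(X₁)`, the prime `𝔭 𝒜(X₁)`; its image in `V` lies over `x`, off the vertex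
  section; `term_mem_gpt_iff`.
* `vpt`: the point of the vertex section over `x`.
-/

set_option autoImplicit false
set_option linter.style.haveILetI false
universe u
open CategoryTheory AlgebraicGeometry TopologicalSpace Opposite
open scoped HomogeneousIdeal

namespace Groth.Agent.Lib.helper28.Grauert

open Groth.Agent.Lib.helper28.SymLinePow Groth.Agent.Lib.helper28.GrauertPrime
  Groth.Agent.Lib.helper28.VertexSection

variable {X : Scheme.{u}} {L : X.Modules} [L.IsQuasicoherent]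
  {𝒜 : RelProj.QCGrAlg X} {jL : L ⟶ 𝒜.toModule}

set_option linter.unusedSectionVars false

/-- The prime of `x` in the affine open `X₁`. -/
noncomputable abbrev pr {X₁ : X.Opens} (hX₁ : IsAffineOpen X₁) (x : X) (hx : x ∈ X₁) :
    Spec Γ(X, X₁) := hX₁.primeIdealOf ⟨x, hx⟩

theorem notMem_pr_iff {X₁ : X.Opens} (hX₁ : IsAffineOpen X₁) (x : X) (hx : x ∈ X₁)
    (c : Γ(X, X₁)) : c ∉ (pr hX₁ x hx).asIdeal ↔ x ∈ X.basicOpen c := by
  have h1 : hX₁.fromSpec (pr hX₁ x hx) = x := hX₁.fromSpec_primeIdealOf ⟨x, hx⟩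
  have h2 : pr hX₁ x hx ∈ hX₁.fromSpec ⁻¹ᵁ X.basicOpen c ↔ x ∈ X.basicOpen c := by
    change hX₁.fromSpec (pr hX₁ x hx) ∈ X.basicOpen c ↔ _
    rw [h1]
  rw [← h2, hX₁.fromSpec_preimage_basicOpen]
  rfl

/-- The generic point of the fibre over `x`, in the chart over `X₁`. -/
noncomputable def gpt {X₁ : X.Opens} (D : GenData L 𝒜 jL X₁) (x : X) (hx : x ∈ X₁) :
    Spec (𝒜.presheaf.obj (op X₁)) :=
  ⟨extP (𝒜.str.app (op X₁)).hom (pr D.hV x hx).asIdeal,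
    isPrime_extP D.hpoly (pr D.hV x hx).asIdeal⟩

theorem gpt_asIdeal {X₁ : X.Opens} (D : GenData L 𝒜 jL X₁) (x : X) (hx : x ∈ X₁) :
    (gpt D x hx).asIdeal = extP (𝒜.str.app (op X₁)).hom (pr D.hV x hx).asIdeal := rfl

theorem isHomogeneous_gpt {X₁ : X.Opens} (D : GenData L 𝒜 jL X₁) (x : X) (hx : x ∈ X₁) :
    (gpt D x hx).asIdeal.IsHomogeneous (𝒜.deg X₁ D.hV) :=
  isHomogeneous_extP (𝒜.deg X₁ D.hV) (𝒜.str_mem X₁ D.hV) _

theorem term_mem_gpt_iff {X₁ : X.Opens} (D : GenData L 𝒜 jL X₁) (x : X) (hx : x ∈ X₁)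
    (c : Γ(X, X₁)) (k : ℕ) :
    (𝒜.str.app (op X₁)).hom c * D.z ^ k ∈ (gpt D x hx).asIdeal ↔ x ∉ X.basicOpen c := by
  have h := term_mem_extP_iff (ι := (𝒜.str.app (op X₁)).hom) (z := D.z) D.hpoly
    (pr D.hV x hx).asIdeal c k
  rw [gpt_asIdeal]
  refine h.trans ?_
  rw [← notMem_pr_iff D.hV x hx c, not_not]

theorem π_gpt {X₁ : X.Opens} (D : GenData L 𝒜 jL X₁) (x : X) (hx : x ∈ X₁) :
    𝒜.toQCAlg.π ((𝒜.toQCAlg.ι X₁ D.hV) (gpt D x hx)) = x := by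
  rw [π_ι_apply]
  have h1 : (Spec.map (𝒜.str.app (op X₁))) (gpt D x hx) = pr D.hV x hx := by
    apply PrimeSpectrum.ext
    change Ideal.comap (𝒜.str.app (op X₁)).hom (gpt D x hx).asIdeal = _
    rw [gpt_asIdeal, comap_extP D.hpoly]
  rw [h1]
  exact D.hV.fromSpec_primeIdealOf ⟨x, hx⟩

variable (aug : 𝒜.toQCAlg ⟶ RelSpec.QCAlg.unit X) (j0 : X ⟶ 𝒜.toQCAlg.spec)

theorem gpt_notMem_range (h0 : RelCone.StrZeroBij 𝒜) (haug : RelCone.IsAugmentation 𝒜 aug)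
    (hj0 : RelCone.IsVertex 𝒜 aug j0) {X₁ : X.Opens} (D : GenData L 𝒜 jL X₁) (x : X)
    (hx : x ∈ X₁) : (𝒜.toQCAlg.ι X₁ D.hV) (gpt D x hx) ∉ Set.range j0.base := by
  intro h
  have h1 := (mem_range_ε_iff 𝒜 aug j0 h0 haug hj0 X₁ D.hV (gpt D x hx)).mp h
  have hz : D.z ∈ ((𝒜.deg X₁ D.hV)₊).toIdeal :=
    HomogeneousIdeal.mem_irrelevant_of_mem _ Nat.one_pos D.hz
  have h2 := h1 hz
  rw [gpt_asIdeal] at h2
  exact z_notMem_extP D.hpoly _ h2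

/-- The point of the vertex section over `x`, in the chart over `X₁`. -/
noncomputable def vpt {X₁ : X.Opens} (hX₁ : IsAffineOpen X₁) (x : X) (hx : x ∈ X₁) :
    Spec (𝒜.presheaf.obj (op X₁)) :=
  (Spec.map (aug.hom.app (op X₁))) (pr hX₁ x hx)

theorem ι_vpt (hj0 : RelCone.IsVertex 𝒜 aug j0) {X₁ : X.Opens} (hX₁ : IsAffineOpen X₁) (x : X)
    (hx : x ∈ X₁) : (𝒜.toQCAlg.ι X₁ hX₁) (vpt aug hX₁ x hx) = j0 x := by
  have h1 := ε_fromSpec 𝒜 aug j0 hj0 X₁ hX₁ (pr hX₁ x hx)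
  have h2 : hX₁.fromSpec (pr hX₁ x hx) = x := hX₁.fromSpec_primeIdealOf ⟨x, hx⟩
  rw [h2] at h1
  exact h1.symm

theorem isHomogeneous_vpt (haug : RelCone.IsAugmentation 𝒜 aug) {X₁ : X.Opens}
    (hX₁ : IsAffineOpen X₁) (x : X) (hx : x ∈ X₁) :
    (vpt aug hX₁ x hx).asIdeal.IsHomogeneous (𝒜.deg X₁ hX₁) :=
  isHomogeneous_comap_aug (𝒜.deg X₁ hX₁) (aug.hom.app (op X₁)).hom
    (fun d b hb => haug X₁ hX₁ d b hb) _

theorem str_mem_vpt_iff {X₁ : X.Opens} (hX₁ : IsAffineOpen X₁) (x : X) (hx : x ∈ X₁)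
    (c : Γ(X, X₁)) :
    (𝒜.str.app (op X₁)).hom c ∈ (vpt aug hX₁ x hx).asIdeal ↔ x ∉ X.basicOpen c := by
  rw [← notMem_pr_iff hX₁ x hx c, not_not]
  change (aug.hom.app (op X₁)).hom ((𝒜.str.app (op X₁)).hom c) ∈ (pr hX₁ x hx).asIdeal ↔ _
  rw [aug_str]
  exact Iff.rfl

end Groth.Agent.Lib.helper28.Grauert
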