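import Groth.Agent.Lib.Helper28.SymLinePow
import Groth.Agent.Lib.Helper12.AmpleBasis
import Groth.Agent.Lib.Helper7.IdealCartier

/-!
# `X_t` for a section `t` of `L^{⊗ n}` in terms of the symmetric algebra (helper28)

`L` invertible on `X`, `(𝒮L, j)` its graded symmetric algebra, `μ_n : L^{⊗ n} ⟶ 𝒮L`.
* `GenData.bijective_smul_iff`: over an affine open carrying a generator, `t` generates
  `L^{⊗ n}` iff `μ t` generates the degree `n` piece of `𝒮L`.
* `deg_subset_span_basicOpen`: generation of the degree `d` piece passes to basic opens.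
* `exists_open_genData`: generators exist on all small affine opens.
* `topSec`, `secHom M W t : O_W ⟶ M|_W` for `t ∈ Γ(W, M)`, `secHom_app_apply`.
* `le_genLocus_of_basis`.
* `mem_genLocus_secHom_iff`: for `t ∈ Γ(W, L^{⊗ n})`, a point of `W` lies in `W_t` iff it has an
  affine neighbourhood `V ⊆ W` over which `μ t` generates the degree `n` piece of `𝒮L`.
-/

set_option autoImplicit false
set_option linter.style.haveILetI false
universe u
open CategoryTheory AlgebraicGeometry TopologicalSpace Opposite TensorProduct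

namespace Groth.Agent.Lib.helper28.SymLineGenLocus

open Groth.Agent.Lib.helper28.PowMap Groth.Agent.Lib.helper28.TensorDesc
  Groth.Agent.Lib.helper11.TensorASec Groth.Agent.Lib.helper28.SymLinePow
open Groth.Agent.Lib.helper12.TwistExtend Groth.Agent.Lib.helper12.AmpleBasis
  Groth.Agent.Lib.helper11.IsoLocus Groth.Agent.Lib.helper11.GenLocus

section PartA


section Alg

variable {A₀ B : Type u} [CommRing A₀] [CommRing B] (ℬ : ℕ → AddSubgroup B) [GradedRing ℬ]
  (ι : A₀ →+* B) (z : B)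

theorem isUnit_of_span (hpoly : Function.Bijective (Polynomial.eval₂RingHom ι z)) (c : A₀) (n : ℕ)
    (h : z ^ n ∈ Ideal.span {ι c * z ^ n}) : IsUnit c := by
  obtain ⟨w, hw⟩ := Ideal.mem_span_singleton'.mp h
  obtain ⟨P, rfl⟩ := hpoly.2 w
  have h1 : Polynomial.eval₂RingHom ι z (P * (Polynomial.C c * Polynomial.X ^ n)) =
      Polynomial.eval₂RingHom ι z (Polynomial.X ^ n) := by
    rw [map_mul, map_mul, map_pow]
    simp only [Polynomial.coe_eval₂RingHom, Polynomial.eval₂_C, Polynomial.eval₂_X]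
    exact hw
  have h2 := hpoly.1 h1
  have h3 : (P * Polynomial.C c * Polynomial.X ^ n).coeff (0 + n) =
      (Polynomial.X ^ n : Polynomial A₀).coeff (0 + n) := by
    rw [mul_assoc, h2]
  rw [Polynomial.coeff_mul_X_pow, Polynomial.coeff_mul_C, zero_add,
    Polynomial.coeff_X_pow_self] at h3
  exact IsUnit.of_mul_eq_one _ (by rw [mul_comm]; exact h3)

theorem deg_subset_span_of_isUnit (hι : ∀ a, ι a ∈ ℬ 0) (hz : z ∈ ℬ 1)
    (hpoly : Function.Surjective (Polynomial.eval₂RingHom ι z)) (c : A₀) (n : ℕ) (hc : IsUnit c) :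
    ((ℬ n : AddSubgroup B) : Set B) ⊆ (Ideal.span {ι c * z ^ n} : Set B) := by
  intro b hb
  obtain ⟨b', rfl⟩ := Groth.Agent.Lib.helper28.PolyGrade.exists_eq_of_mem_deg ℬ ι z hι hz hpoly hb
  obtain ⟨w, hw⟩ := hc.exists_left_inv
  rw [SetLike.mem_coe, Ideal.mem_span_singleton']
  refine ⟨ι (b' * w), ?_⟩
  rw [← mul_assoc, ← map_mul, mul_assoc, hw, mul_one]

end Alg

variable {X : Scheme.{u}} {L : X.Modules} [L.IsQuasicoherent]
  {𝒮L : RelProj.QCGrAlg X} {j : L ⟶ 𝒮L.toModule}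

/-- Over an affine open carrying a generator: `t` generates `L^{⊗ n}` iff `μ t` generates the
degree `n` piece of `𝒮L`. -/
theorem _root_.Groth.Agent.Lib.helper28.SymLinePow.GenData.bijective_smul_iff (hL : PicF.IsInvertible L) {V : X.Opens}
    (D : GenData L 𝒮L j V) (n : ℕ) (t : (CohB1.tensorPow L n).val.obj (op V)) :
    Function.Bijective (fun a : Γ(X, V) => (a • t : Γ(CohB1.tensorPow L n, V))) ↔
      ((𝒮L.deg V D.hV n : AddSubgroup (𝒮L.presheaf.obj (op V))) :
        Set (𝒮L.presheaf.obj (op V))) ⊆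
        (Ideal.span {μ j n V t} : Set (𝒮L.presheaf.obj (op V))) := by
  obtain ⟨c, rfl⟩ := (D.bijective_smul_γ hL n).2 t
  change Function.Bijective (fun a : Γ(X, V) =>
    (a • (c • D.γ n : Γ(CohB1.tensorPow L n, V)) : Γ(CohB1.tensorPow L n, V))) ↔
    ((𝒮L.deg V D.hV n : AddSubgroup (𝒮L.presheaf.obj (op V))) :
        Set (𝒮L.presheaf.obj (op V))) ⊆
    ((Ideal.span {μ j n V (c • D.γ n : Γ(CohB1.tensorPow L n, V))} :
      Ideal (𝒮L.presheaf.obj (op V))) : Set (𝒮L.presheaf.obj (op V)))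
  rw [D.μ_smul_γ]
  have hcomp : (fun a : Γ(X, V) =>
      (a • (c • D.γ n : Γ(CohB1.tensorPow L n, V)) : Γ(CohB1.tensorPow L n, V))) =
      (fun a : Γ(X, V) => (a • D.γ n : Γ(CohB1.tensorPow L n, V))) ∘ (fun a => a * c) := by
    funext a
    exact (mul_smul a c _).symm
  constructor
  · intro hb
    refine deg_subset_span_of_isUnit (𝒮L.deg V D.hV) (𝒮L.str.app (op V)).hom D.z
      (𝒮L.str_mem V D.hV) D.hz D.hpoly.2 c n ?_
    obtain ⟨a, ha⟩ := hb.2 (D.γ n)
    have h1 : ((a * c) • D.γ n : Γ(CohB1.tensorPow L n, V)) =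
        ((1 : Γ(X, V)) • D.γ n : Γ(CohB1.tensorPow L n, V)) := by
      rw [mul_smul, one_smul]
      exact ha
    have h2 : a * c = 1 := (D.bijective_smul_γ hL n).1 h1
    exact IsUnit.of_mul_eq_one _ (by rw [mul_comm]; exact h2)
  · intro hs
    have hzn : D.z ^ n ∈ 𝒮L.deg V D.hV n := by
      rw [← D.μ_γ]
      exact D.μ_mem_deg hL n _
    have hc : IsUnit c := isUnit_of_span (𝒮L.str.app (op V)).hom D.z D.hpoly c n (hs hzn)
    rw [hcomp]
    exact (D.bijective_smul_γ hL n).comp (IsUnit.isUnit_iff_mulRight_bijective.mp hc)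


end PartA

section PartB


variable {X : Scheme.{u}}

/-- If `σ` generates the degree `d` piece over the affine open `V`, so does its restriction over
every basic open of `V`. -/
theorem deg_subset_span_basicOpen (𝒮 : RelProj.QCGrAlg X) (V : X.Opens) (hV : IsAffineOpen V)
    (a : Γ(X, V)) (d : ℕ) (σ : 𝒮.presheaf.obj (op V))
    (h : ((𝒮.deg V hV d : AddSubgroup (𝒮.presheaf.obj (op V))) : Set (𝒮.presheaf.obj (op V))) ⊆
      (Ideal.span {σ} : Set (𝒮.presheaf.obj (op V)))) :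
    ((𝒮.deg (X.basicOpen a) (hV.basicOpen a) d :
      AddSubgroup (𝒮.presheaf.obj (op (X.basicOpen a)))) :
        Set (𝒮.presheaf.obj (op (X.basicOpen a)))) ⊆
      (Ideal.span {(𝒮.presheaf.map (homOfLE (X.basicOpen_le a)).op).hom σ} :
        Set (𝒮.presheaf.obj (op (X.basicOpen a)))) := by
  classical
  let ψ := 𝒮.res hV (hV.basicOpen a) (X.basicOpen_le a)
  let _inst := (𝒮.presheaf.map (homOfLE (X.basicOpen_le a)).op).hom.toAlgebra
  let c := (𝒮.str.app (op V)).hom a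
  have hloc : IsLocalization.Away c (𝒮.presheaf.obj (op (X.basicOpen a))) := 𝒮.isQC V hV a
  intro b hb
  obtain ⟨⟨x, s, hs⟩, hxs⟩ := IsLocalization.surj (Submonoid.powers c) b
  obtain ⟨k, rfl⟩ := (Submonoid.mem_powers_iff _ _).mp hs
  change b * ψ (c ^ k) = ψ x at hxs
  have hu : IsUnit (ψ (c ^ k)) :=
    IsLocalization.map_units (M := Submonoid.powers c) (𝒮.presheaf.obj (op (X.basicOpen a)))
      ⟨c ^ k, k, rfl⟩
  have hc0 : ψ (c ^ k) ∈ 𝒮.deg (X.basicOpen a) (hV.basicOpen a) 0 := by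
    rw [map_pow]
    exact SetLike.pow_mem_graded _ (ψ.map_mem (𝒮.str_mem V hV a))
  have hbi : b * ψ (c ^ k) ∈ 𝒮.deg (X.basicOpen a) (hV.basicOpen a) d := by
    simpa only [add_zero] using
      SetLike.mul_mem_graded (A := 𝒮.deg (X.basicOpen a) (hV.basicOpen a)) hb hc0
  have hxi : ψ (DirectSum.decompose (𝒮.deg V hV) x d : 𝒮.presheaf.obj (op V)) = b * ψ (c ^ k) := by
    rw [GradedRingHom.map_directSumDecompose, ← hxs, DirectSum.decompose_of_mem_same _ hbi]
  obtain ⟨w, hw⟩ := Ideal.mem_span_singleton'.mp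
    (h (SetLike.coe_mem (DirectSum.decompose (𝒮.deg V hV) x d)))
  obtain ⟨v, hv⟩ := hu
  have hb' : b = (ψ w * ↑v⁻¹) * ψ σ := by
    have h1 : ψ w * ψ σ = b * ↑v := by
      rw [← map_mul, hw, hxi, hv]
    calc b = b * ↑v * ↑v⁻¹ := by rw [mul_assoc, Units.mul_inv, mul_one]
      _ = ψ w * ψ σ * ↑v⁻¹ := by rw [h1]
      _ = (ψ w * ↑v⁻¹) * ψ σ := by ring
  rw [SetLike.mem_coe, Ideal.mem_span_singleton']
  exact ⟨ψ w * ↑v⁻¹, hb'.symm⟩

variable {L : X.Modules} [L.IsQuasicoherent]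
  {𝒮L : RelProj.QCGrAlg X} {j : L ⟶ 𝒮L.toModule}

/-- Every point has an open neighbourhood all of whose affine opens carry a generator. -/
theorem exists_open_genData (hj : RelProj.IsGrSymAlg L 𝒮L j) (hL : PicF.IsInvertible L) (x : X) :
    ∃ U₀ : X.Opens, x ∈ U₀ ∧ ∀ V : X.Opens, IsAffineOpen V → V ≤ U₀ →
      Nonempty (GenData L 𝒮L j V) := by
  obtain ⟨U, hxU, ⟨iso⟩⟩ :=
    (Groth.Agent.Lib.helper16.FLF.isInvertible_iff_isFinLocFreeOfRank_one L).mp hL x
  refine ⟨U, hxU, fun V hV hVU => ?_⟩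
  obtain ⟨iso'⟩ := Groth.Agent.Lib.helper16.FLF.restrict_iso_freeMod_of_le L hVU 1 iso
  obtain ⟨e⟩ := Groth.Agent.Lib.helper16.FLF.sections_of_restrict_iso_freeMod L hV 1 iso'
  obtain ⟨g, hg1, hz, hpoly⟩ :=
    Groth.Agent.Lib.helper28.CanonIso.exists_poly' L 𝒮L j hj ⟨V, hV⟩ e
  exact ⟨⟨hV, g, hg1, hz, hpoly⟩⟩


end PartB

section PartD


variable {X : Scheme.{u}} (M : X.Modules) (W : X.Opens)

/-- A section over `W`, as a global section of the restriction to `W`. -/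
noncomputable def topSec (t : M.val.obj (op W)) : (M.restrict W.ι).val.obj (op ⊤) :=
  res M (le_of_eq (Scheme.Opens.ι_image_top W)) t

theorem image_le (B' : (↑W : Scheme.{u}).Opens) : W.ι ''ᵁ B' ≤ W := by
  rintro _ ⟨y, -, rfl⟩
  exact y.2

theorem res_topSec (t : M.val.obj (op W)) (B' : (↑W : Scheme.{u}).Opens) :
    res (M.restrict W.ι) (le_top : B' ≤ ⊤) (topSec M W t) = res M (image_le W B') t := by
  unfold topSec
  exact res_res M _ (W.ι.image_mono (le_top : B' ≤ ⊤)) t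

/-- The morphism `O_W ⟶ M|_W` named by a section of `M` over `W`. -/
noncomputable def secHom (t : M.val.obj (op W)) :
    Coh.structureModule (↑W : Scheme.{u}) ⟶ M.restrict W.ι :=
  homOfSec (M.restrict W.ι) (topSec M W t)

theorem secHom_app_apply (t : M.val.obj (op W)) (B' : (↑W : Scheme.{u}).Opens)
    (a : Γ((↑W : Scheme.{u}), B')) :
    ((secHom M W t).app B').hom (a : Γ(Coh.structureModule (↑W : Scheme.{u}), B')) =
      ((show Γ(X, W.ι ''ᵁ B') from a) • (res M (image_le W B') t : Γ(M, W.ι ''ᵁ B')) :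
        Γ(M, W.ι ''ᵁ B')) := by
  unfold secHom
  rw [app_apply]
  have h1 : sec (homOfSec (M.restrict W.ι) (topSec M W t)) B' =
      res (M.restrict W.ι) (le_top : B' ≤ ⊤) (topSec M W t) := val_homOfSec _ _ _
  rw [h1, res_topSec]
  exact Groth.Agent.Lib.helper7.IdealCartier.restrict_smul W M B' a _

theorem bijective_secHom_app_iff (t : M.val.obj (op W)) (B' : (↑W : Scheme.{u}).Opens) :
    Function.Bijective ((secHom M W t).app B').hom ↔
      Function.Bijective (fun a : Γ(X, W.ι ''ᵁ B') =>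
        (a • (res M (image_le W B') t : Γ(M, W.ι ''ᵁ B')) : Γ(M, W.ι ''ᵁ B'))) := by
  have : (fun a : Γ(X, W.ι ''ᵁ B') =>
        (a • (res M (image_le W B') t : Γ(M, W.ι ''ᵁ B')) : Γ(M, W.ι ''ᵁ B'))) =
      fun a => ((secHom M W t).app B').hom (a : Γ(Coh.structureModule (↑W : Scheme.{u}), B')) := by
    funext a
    exact (secHom_app_apply M W t B' a).symm
  rw [this]
  rfl


end PartD

section PartE


/-- A morphism `O ⟶ N` bijective on a basis of the open `A` generates `N` over `A`. -/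
theorem le_genLocus_of_basis {Z : Scheme.{u}} {N : Z.Modules} (s : Coh.structureModule Z ⟶ N)
    (A : Z.Opens) (P : Z.Opens → Prop)
    (hP : ∀ x ∈ A, ∀ O : Z.Opens, x ∈ O → ∃ B, P B ∧ x ∈ B ∧ B ≤ O ⊓ A)
    (h : ∀ B, P B → B ≤ A → Function.Bijective (s.app B).hom) : A ≤ CohB1.genLocus N s := by
  rw [le_genLocus_iff]
  let I := {B : Z.Opens // P B ∧ B ≤ A}
  refine Groth.Agent.Lib.helper28.CanonIso.isIso_of_bijective_basis _
    (fun B : I => A.ι ⁻¹ᵁ B.1) ?_ (fun B => ?_)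
  · rw [Opens.isBasis_iff_nbhd]
    intro O' x' hx'
    obtain ⟨B, hPB, hxB, hBO⟩ := hP (A.ι x') x'.2 (A.ι ''ᵁ O') ⟨x', hx', rfl⟩
    refine ⟨A.ι ⁻¹ᵁ B, ⟨⟨B, hPB, hBO.trans inf_le_right⟩, rfl⟩, hxB, ?_⟩
    intro y hy
    obtain ⟨w, hw, hwy⟩ := (hBO hy).1
    have : w = y := A.ι.isOpenEmbedding.injective hwy
    rw [← this]
    exact hw
  · change Function.Bijective (s.app (A.ι ''ᵁ (A.ι ⁻¹ᵁ B.1))).hom
    have e : A.ι ''ᵁ (A.ι ⁻¹ᵁ B.1) = B.1 := by
      rw [Scheme.Hom.image_preimage_eq_opensRange_inf, Scheme.Opens.opensRange_ι]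
      exact inf_eq_right.mpr B.2.2
    rw [e]
    exact h B.1 B.2.1 B.2.2


end PartE

section PartF

variable {X : Scheme.{u}} {L : X.Modules} [L.IsQuasicoherent]
  {𝒮L : RelProj.QCGrAlg X} {j : L ⟶ 𝒮L.toModule}

/-- "`σ` generates the degree `n` piece of `𝒮L` over the affine open `O ⊆ W`, which carries a
generator". -/
def GoodOpen (𝒮L : RelProj.QCGrAlg X) (j : L ⟶ 𝒮L.toModule) (W : X.Opens) (n : ℕ)
    (σ : 𝒮L.presheaf.obj (op W)) (O : X.Opens) : Prop :=
  ∃ (hO : IsAffineOpen O) (h : O ≤ W),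
    ((𝒮L.deg O hO n : AddSubgroup (𝒮L.presheaf.obj (op O))) : Set (𝒮L.presheaf.obj (op O))) ⊆
      (Ideal.span {(𝒮L.presheaf.map (homOfLE h).op).hom σ} : Set (𝒮L.presheaf.obj (op O))) ∧
    Nonempty (GenData L 𝒮L j O)

theorem bijective_of_goodOpen (hL : PicF.IsInvertible L) (W : X.Opens) (n : ℕ)
    (t : (CohB1.tensorPow L n).val.obj (op W)) (O : X.Opens)
    (hO : GoodOpen 𝒮L j W n (μ j n W t) O) :
    ∃ h : O ≤ W, Function.Bijective (fun a : Γ(X, O) =>
      (a • (res (CohB1.tensorPow L n) h t : Γ(CohB1.tensorPow L n, O)) :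
        Γ(CohB1.tensorPow L n, O))) := by
  obtain ⟨hO, h, hspan, ⟨D⟩⟩ := hO
  refine ⟨h, ?_⟩
  rw [D.bijective_smul_iff hL n]
  have e := μ_res (j := j) n h t
  change μ j n O (res (CohB1.tensorPow L n) h t) = _ at e
  rw [e]
  exact hspan

variable (hj : RelProj.IsGrSymAlg L 𝒮L j) (hL : PicF.IsInvertible L)

include hj hL in
/-- For `t ∈ Γ(W, L^{⊗ n})`, a point of `W` lies in `W_t` iff it has an affine neighbourhood
`V ⊆ W` over which `μ t` generates the degree `n` piece of `𝒮L`. -/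
theorem mem_genLocus_secHom_iff (W : X.Opens) (n : ℕ)
    (t : (CohB1.tensorPow L n).val.obj (op W)) (x' : (↑W : Scheme.{u})) :
    x' ∈ CohB1.genLocus _ (secHom (CohB1.tensorPow L n) W t) ↔
      ∃ (V : X.Opens) (hV : IsAffineOpen V) (hle : V ≤ W), W.ι x' ∈ V ∧
        ((𝒮L.deg V hV n : AddSubgroup (𝒮L.presheaf.obj (op V))) :
          Set (𝒮L.presheaf.obj (op V))) ⊆
          (Ideal.span {(𝒮L.presheaf.map (homOfLE hle).op).hom (μ j n W t)} :
            Set (𝒮L.presheaf.obj (op V))) := by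
  constructor
  · intro hx
    have hx1 : W.ι x' ∈ W.ι ''ᵁ CohB1.genLocus _ (secHom (CohB1.tensorPow L n) W t) :=
      ⟨x', hx, rfl⟩
    obtain ⟨V, hxV, hVG, hD⟩ := exists_genData hj hL _ _ hx1
    have hVW : V ≤ W := hVG.trans (image_le W _)
    have hV' : ∃ B' : (↑W : Scheme.{u}).Opens, V = W.ι ''ᵁ B' := by
      refine ⟨W.ι ⁻¹ᵁ V, ?_⟩
      rw [Scheme.Hom.image_preimage_eq_opensRange_inf, Scheme.Opens.opensRange_ι]
      exact (inf_eq_right.mpr hVW).symm
    obtain ⟨B', rfl⟩ := hV'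
    obtain ⟨D⟩ := hD
    have hB'G : B' ≤ CohB1.genLocus _ (secHom (CohB1.tensorPow L n) W t) := by
      intro y hy
      obtain ⟨w, hw, hwy⟩ := hVG (show W.ι y ∈ W.ι ''ᵁ B' from ⟨y, hy, rfl⟩)
      have : w = y := W.ι.isOpenEmbedding.injective hwy
      rw [← this]
      exact hw
    have hiso : IsIso ((secHom (CohB1.tensorPow L n) W t).app B') :=
      isIso_app_of_le_isoLocus _ hB'G
    have hbij : Function.Bijective ((secHom (CohB1.tensorPow L n) W t).app B').hom :=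
      (ConcreteCategory.isIso_iff_bijective _).mp hiso
    rw [bijective_secHom_app_iff, D.bijective_smul_iff hL n] at hbij
    refine ⟨W.ι ''ᵁ B', D.hV, image_le W B', hxV, ?_⟩
    have e := μ_res (j := j) n (image_le W B') t
    change μ j n (W.ι ''ᵁ B') (res (CohB1.tensorPow L n) (image_le W B') t) = _ at e
    rw [← e]
    exact hbij
  · rintro ⟨V, hV, hle, hxV, hspan⟩
    have hxA : x' ∈ W.ι ⁻¹ᵁ V := hxV
    refine le_genLocus_of_basis (secHom (CohB1.tensorPow L n) W t) (W.ι ⁻¹ᵁ V)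
      (fun B' => GoodOpen 𝒮L j W n (μ j n W t) (W.ι ''ᵁ B')) ?_ ?_ hxA
    · intro y hy O hyO
      obtain ⟨U₀, hyU₀, hU₀⟩ := exists_open_genData hj hL (W.ι y)
      obtain ⟨a, haO, hya⟩ := hV.exists_basicOpen_le (V := W.ι ''ᵁ O ⊓ U₀)
        ⟨W.ι y, ⟨⟨y, hyO, rfl⟩, hyU₀⟩⟩ hy
      have haW : X.basicOpen a ≤ W := (X.basicOpen_le a).trans hle
      have e1 : W.ι ''ᵁ (W.ι ⁻¹ᵁ X.basicOpen a) = X.basicOpen a := by
        rw [Scheme.Hom.image_preimage_eq_opensRange_inf, Scheme.Opens.opensRange_ι]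
        exact inf_eq_right.mpr haW
      refine ⟨W.ι ⁻¹ᵁ X.basicOpen a, ?_, hya, ?_⟩
      · change GoodOpen 𝒮L j W n (μ j n W t) (W.ι ''ᵁ (W.ι ⁻¹ᵁ X.basicOpen a))
        rw [e1]
        refine ⟨hV.basicOpen a, haW, ?_, hU₀ _ (hV.basicOpen a) (haO.trans inf_le_right)⟩
        have h2 := deg_subset_span_basicOpen 𝒮L V hV a n _ hspan
        have e2 : (𝒮L.presheaf.map (homOfLE (X.basicOpen_le a)).op).hom
            ((𝒮L.presheaf.map (homOfLE hle).op).hom (μ j n W t)) =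
            (𝒮L.presheaf.map (homOfLE haW).op).hom (μ j n W t) := by
          rw [← CommRingCat.comp_apply, ← Functor.map_comp]
          rfl
        rw [e2] at h2
        exact h2
      · intro w hw
        refine ⟨?_, X.basicOpen_le a hw⟩
        obtain ⟨w', hw', hww'⟩ := (haO hw).1
        have : w' = w := W.ι.isOpenEmbedding.injective hww'
        rw [← this]
        exact hw'
    · intro B' hB' _
      obtain ⟨h, hb⟩ := bijective_of_goodOpen hL W n t _ hB'
      rw [bijective_secHom_app_iff]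
      exact hb

end PartF

end Groth.Agent.Lib.helper28.SymLineGenLocus
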