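import Groth.Agent.Lib.Helper28.GrauertCoef
import Groth.Agent.Lib.Helper28.GrauertPoint
import Groth.Agent.Lib.Helper28.SymLineGenLocus

/-!
# Grauert's criterion, sufficiency: the sections (helper28)

`p : X ⟶ Y`, `L` invertible on `X`, `V = V(L) = Spec(𝒜)` with zero section `j0`, `V0` its
complement, `q : V ⟶ C`, `ε : Y ⟶ C` with `j0 ≫ q = p ≫ ε`, `q|V0` an open immersion whose image
misses `ε(Y)`.  For an affine open `UC` of `C` and an open `U'` of `Y` with `ε(U') ⊆ UC`: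
`exists_section`: for `x ∈ W = p⁻¹ U'` and an open neighbourhood `N` of `x` there is a section
`τ` of `𝒜` over `W`, homogeneous of positive degree, generating its degree near `x` and nowhere
outside `N`.
-/

set_option autoImplicit false
set_option linter.style.haveILetI false
set_option linter.unusedSectionVars false
universe u
open CategoryTheory AlgebraicGeometry TopologicalSpace Opposite
open scoped HomogeneousIdeal

namespace Groth.Agent.Lib.helper28.Grauert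

open Groth.Agent.Lib.helper28.SymLinePow Groth.Agent.Lib.helper28.SymLineGenLocus
  Groth.Agent.Lib.helper28.VertexSection Groth.Agent.Lib.helper28.RelSpecMap

variable {X Y C : Scheme.{u}} (p : X ⟶ Y) {L : X.Modules} [L.IsQuasicoherent]
  {𝒜 : RelProj.QCGrAlg X} {jL : L ⟶ 𝒜.toModule} (hA : RelProj.IsGrSymAlg L 𝒜 jL)
  (hL : PicF.IsInvertible L) (h0 : RelCone.StrZeroBij 𝒜)
  {aug : 𝒜.toQCAlg ⟶ RelSpec.QCAlg.unit X} (haug : RelCone.IsAugmentation 𝒜 aug)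
  {j0 : X ⟶ 𝒜.toQCAlg.spec} (hj0 : RelCone.IsVertex 𝒜 aug j0)
  {V0 : 𝒜.toQCAlg.spec.Opens} (hV0 : (V0 : Set 𝒜.toQCAlg.spec) = (Set.range j0.base)ᶜ)
  {ε : Y ⟶ C} {q : 𝒜.toQCAlg.spec ⟶ C} (hjq : j0 ≫ q = p ≫ ε)

include h0 haug hj0 hjq in
theorem good_of_le (UC : C.Opens) (U' : Y.Opens) (hU' : U' ≤ ε ⁻¹ᵁ UC) (X' : X.Opens)
    (hX' : IsAffineOpen X') (hle : X' ≤ p ⁻¹ᵁ U') : Good 𝒜 q UC X' hX' := by
  intro P hP
  have hirr : ((𝒜.deg X' hX')₊).toIdeal ≤ P.asIdeal :=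
    (PrimeSpectrum.mem_zeroLocus (P : PrimeSpectrum (𝒜.presheaf.obj (op X'))) _).mp hP
  obtain ⟨y, hy⟩ := (mem_range_ε_iff 𝒜 aug j0 h0 haug hj0 X' hX' P).mpr hirr
  have hyX' : y ∈ X' := by
    have h1 : 𝒜.toQCAlg.π (j0 y) = y := by
      have := congrArg (fun k => k.base y) hj0.comp_π
      exact this
    have h2 : (𝒜.toQCAlg.ι X' hX') P ∈ Set.range (𝒜.toQCAlg.ι X' hX').base := ⟨P, rfl⟩
    rw [range_ι] at h2
    have h3 : 𝒜.toQCAlg.π (j0 y) ∈ X' := by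
      have : j0 y = (𝒜.toQCAlg.ι X' hX') P := hy
      rw [this]
      exact h2
    rw [h1] at h3
    exact h3
  have h4 : (𝒜.toQCAlg.ι X' hX' ≫ q) P = ε (p y) := by
    have h5 : (𝒜.toQCAlg.ι X' hX' ≫ q) P = q ((𝒜.toQCAlg.ι X' hX') P) := rfl
    have h6 : (𝒜.toQCAlg.ι X' hX') P = j0 y := hy.symm
    rw [h5, h6]
    have := congrArg (fun k => k.base y) hjq
    exact this
  change (𝒜.toQCAlg.ι X' hX' ≫ q) P ∈ UC
  rw [h4]
  exact hU' (hle hyX')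

/-- The degree `k` piece over a chart with a generator is spanned by `z ^ k`. -/
theorem deg_subset_span_z {X₁ : X.Opens} (D : GenData L 𝒜 jL X₁) (k : ℕ) :
    ((𝒜.deg X₁ D.hV k : AddSubgroup (𝒜.presheaf.obj (op X₁))) : Set (𝒜.presheaf.obj (op X₁))) ⊆
      (Ideal.span {D.z ^ k} : Set (𝒜.presheaf.obj (op X₁))) := by
  have h := deg_subset_span_of_isUnit (𝒜.deg X₁ D.hV) (𝒜.str.app (op X₁)).hom D.z
    (𝒜.str_mem X₁ D.hV) D.hz D.hpoly.2 1 k isUnit_one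
  rwa [map_one, one_mul] at h

include hA hL h0 haug hj0 hV0 hjq in
/-- The sections constructed from the contraction. -/
theorem exists_section (himm : IsOpenImmersion (V0.ι ≫ q))
    (hdisj : Set.range (V0.ι ≫ q).base ∩ Set.range ε.base = ∅)
    (UC : C.Opens) (hUC : IsAffineOpen UC) (U' : Y.Opens) (hU' : U' ≤ ε ⁻¹ᵁ UC)
    (x : X) (hx : x ∈ p ⁻¹ᵁ U') (N : X.Opens) (hxN : x ∈ N) :
    ∃ (k : ℕ) (τ : 𝒜.presheaf.obj (op (p ⁻¹ᵁ U'))),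
      (∀ (V : X.Opens) (hV : IsAffineOpen V) (i : V ≤ p ⁻¹ᵁ U'),
        (𝒜.presheaf.map (homOfLE i).op).hom τ ∈ 𝒜.deg V hV (k + 1)) ∧
      (∃ (V : X.Opens) (hV : IsAffineOpen V) (i : V ≤ p ⁻¹ᵁ U'), x ∈ V ∧
        ((𝒜.deg V hV (k + 1) : AddSubgroup (𝒜.presheaf.obj (op V))) :
          Set (𝒜.presheaf.obj (op V))) ⊆
          (Ideal.span {(𝒜.presheaf.map (homOfLE i).op).hom τ} : Set (𝒜.presheaf.obj (op V)))) ∧
      (∀ (x'' : X) (V : X.Opens) (hV : IsAffineOpen V) (i : V ≤ p ⁻¹ᵁ U'), x'' ∈ V →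
        ((𝒜.deg V hV (k + 1) : AddSubgroup (𝒜.presheaf.obj (op V))) :
          Set (𝒜.presheaf.obj (op V))) ⊆
          (Ideal.span {(𝒜.presheaf.map (homOfLE i).op).hom τ} : Set (𝒜.presheaf.obj (op V))) →
        x'' ∈ N) := by
  classical
  haveI := himm
  set W : X.Opens := p ⁻¹ᵁ U' with hW
  have hgood : ∀ (X' : X.Opens) (hX' : IsAffineOpen X'), X' ≤ W → Good 𝒜 q UC X' hX' :=
    fun X' hX' hle => good_of_le p h0 haug hj0 hjq UC U' hU' X' hX' hle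
  -- a chart around `x`
  obtain ⟨U₀, hxU₀, hU₀⟩ := exists_open_genData hA hL x
  obtain ⟨X₁, hX₁, hxX₁, hX₁le⟩ := (Opens.isBasis_iff_nbhd.mp X.isBasis_affineOpens)
    (show x ∈ U₀ ⊓ W from ⟨hxU₀, hx⟩)
  obtain ⟨D₁⟩ := hU₀ X₁ hX₁ (hX₁le.trans inf_le_left)
  have hX₁W : X₁ ≤ W := hX₁le.trans inf_le_right
  set pt₁ := gpt D₁ x hxX₁ with hpt₁
  set v := (𝒜.toQCAlg.ι X₁ D₁.hV) pt₁ with hv
  have hvV0 : v ∈ V0 := by
    have : v ∈ (V0 : Set 𝒜.toQCAlg.spec) := by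
      rw [hV0]
      exact gpt_notMem_range aug j0 h0 haug hj0 D₁ x hxX₁
    exact this
  have hπv : 𝒜.toQCAlg.π v = x := π_gpt D₁ x hxX₁
  -- the open `Ω = q(V0 ∩ π⁻¹ N)` of `C`
  let Ω : C.Opens := (V0.ι ≫ q) ''ᵁ (V0.ι ⁻¹ᵁ (𝒜.toQCAlg.π ⁻¹ᵁ N))
  have hΩ : ∀ c : C, c ∈ Ω ↔ ∃ w : 𝒜.toQCAlg.spec, w ∈ V0 ∧ 𝒜.toQCAlg.π w ∈ N ∧ q w = c := by
    intro c
    constructor
    · rintro ⟨w, hw, rfl⟩
      exact ⟨V0.ι w, w.2, hw, rfl⟩
    · rintro ⟨w, hwV0, hwN, rfl⟩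
      exact ⟨⟨w, hwV0⟩, hwN, rfl⟩
  have hqvΩ : q v ∈ Ω := (hΩ _).mpr ⟨v, hvV0, by rw [hπv]; exact hxN, rfl⟩
  have hqvUC : q v ∈ UC :=
    mem_of_isHomogeneous (hgood X₁ D₁.hV hX₁W) pt₁ (isHomogeneous_gpt D₁ x hxX₁)
  obtain ⟨f, hfΩ, hqvf⟩ := hUC.exists_basicOpen_le (V := Ω) ⟨q v, hqvΩ⟩ hqvUC
  -- injectivity of `q` on `V0`
  have hinj : ∀ w₁ w₂ : 𝒜.toQCAlg.spec, w₁ ∈ V0 → w₂ ∈ V0 → q w₁ = q w₂ → w₁ = w₂ := by
    intro w₁ w₂ h₁ h₂ he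
    have h3 : (V0.ι ≫ q) ⟨w₁, h₁⟩ = (V0.ι ≫ q) ⟨w₂, h₂⟩ := he
    have h4 := (V0.ι ≫ q).isOpenEmbedding.injective h3
    exact congrArg Subtype.val h4
  -- a nonvanishing coefficient at `x`
  obtain ⟨n, k, hkn, hcoef⟩ := (mem_basicOpen_iff_exists_coef (hgood X₁ D₁.hV hX₁W) f pt₁
    (isHomogeneous_gpt D₁ x hxX₁)).mp hqvf
  obtain ⟨c, hc⟩ := Groth.Agent.Lib.helper28.PolyGrade.exists_eq_of_mem_deg (𝒜.deg X₁ D₁.hV)
    (𝒜.str.app (op X₁)).hom D₁.z (𝒜.str_mem X₁ D₁.hV) D₁.hz D₁.hpoly.2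
    (coef_mem (hgood X₁ D₁.hV hX₁W) n k f)
  have hcx : x ∈ X.basicOpen c := by
    by_contra hcon
    apply hcoef
    rw [hc]
    exact (term_mem_gpt_iff D₁ x hxX₁ c k).mpr hcon
  -- the degree is positive
  have hk0 : k ≠ 0 := by
    rintro rfl
    have h1 : (𝒜.toQCAlg.ι X₁ D₁.hV ≫ q) (vpt aug D₁.hV x hxX₁) ∉ C.basicOpen f := by
      intro hmem
      have h2 : (𝒜.toQCAlg.ι X₁ D₁.hV ≫ q) (vpt aug D₁.hV x hxX₁) = ε (p x) := by
        have h3 : (𝒜.toQCAlg.ι X₁ D₁.hV ≫ q) (vpt aug D₁.hV x hxX₁) =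
            q ((𝒜.toQCAlg.ι X₁ D₁.hV) (vpt aug D₁.hV x hxX₁)) := rfl
        rw [h3, ι_vpt aug j0 hj0 D₁.hV x hxX₁]
        have := congrArg (fun k => k.base x) hjq
        exact this
      obtain ⟨w, hwV0, -, hwq⟩ := (hΩ _).mp (hfΩ hmem)
      have h4 : ε (p x) ∈ Set.range (V0.ι ≫ q).base ∩ Set.range ε.base :=
        ⟨⟨⟨w, hwV0⟩, hwq.trans h2⟩, ⟨p x, rfl⟩⟩
      rw [hdisj] at h4
      exact h4
    have h5 := (not_iff_not.mpr (mem_basicOpen_iff_exists_coef (hgood X₁ D₁.hV hX₁W) f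
      (vpt aug D₁.hV x hxX₁) (isHomogeneous_vpt aug haug D₁.hV x hxX₁))).mp h1
    have h6 : coef (hgood X₁ D₁.hV hX₁W) n 0 f ∈ (vpt aug D₁.hV x hxX₁).asIdeal := by
      by_contra hcon
      exact h5 ⟨n, 0, hkn, hcon⟩
    rw [hc, pow_zero, mul_one, str_mem_vpt_iff] at h6
    exact h6 hcx
  obtain ⟨k', rfl⟩ : ∃ k', k = k' + 1 := ⟨k - 1, by omega⟩
  obtain ⟨τ, hτ⟩ := exists_coefSec W hgood hkn f
  refine ⟨k', τ, ?_, ?_, ?_⟩
  · intro V hV i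
    rw [hτ V hV i]
    exact coef_mem _ _ _ _
  · -- generation near `x`
    have hle : X.basicOpen c ≤ X₁ := X.basicOpen_le c
    refine ⟨X.basicOpen c, D₁.hV.basicOpen c, hle.trans hX₁W, hcx, ?_⟩
    have h2 := deg_subset_span_basicOpen 𝒜 X₁ D₁.hV c (k' + 1) (D₁.z ^ (k' + 1))
      (deg_subset_span_z D₁ (k' + 1))
    have h3 : (𝒜.presheaf.map (homOfLE (hle.trans hX₁W)).op).hom τ =
        (𝒜.presheaf.map (homOfLE hle).op).hom ((𝒜.str.app (op X₁)).hom c) *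
          (𝒜.presheaf.map (homOfLE hle).op).hom (D₁.z ^ (k' + 1)) := by
      rw [← map_mul, ← hc, ← hτ X₁ D₁.hV hX₁W, ← CommRingCat.comp_apply, ← Functor.map_comp]
      rfl
    have h4 : IsUnit ((𝒜.presheaf.map (homOfLE hle).op).hom ((𝒜.str.app (op X₁)).hom c)) := by
      have h5 : (𝒜.presheaf.map (homOfLE hle).op).hom ((𝒜.str.app (op X₁)).hom c) =
          (𝒜.str.app (op (X.basicOpen c))).hom
            ((X.presheaf.map (homOfLE hle).op).hom c) := by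
        have := 𝒜.str.naturality (homOfLE hle).op
        exact (congrArg (fun k => k.hom c) this).symm
      rw [h5]
      exact (RingedSpace.isUnit_res_basicOpen _ c).map _
    rw [h3, Ideal.span_singleton_mul_left_unit h4]
    exact h2
  · -- no generation outside `N`
    intro x'' V hV i hx''V hspan
    by_contra hx''N
    obtain ⟨U₀', hx''U₀', hU₀'⟩ := exists_open_genData hA hL x''
    obtain ⟨a, haU, hx''a⟩ := hV.exists_basicOpen_le (V := U₀') ⟨x'', hx''U₀'⟩ hx''V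
    obtain ⟨D₂⟩ := hU₀' (X.basicOpen a) (hV.basicOpen a) haU
    have hX₂W : X.basicOpen a ≤ W := (X.basicOpen_le a).trans i
    have h3 := deg_subset_span_basicOpen 𝒜 V hV a (k' + 1) _ hspan
    have h4 : (𝒜.presheaf.map (homOfLE (X.basicOpen_le a)).op).hom
        ((𝒜.presheaf.map (homOfLE i).op).hom τ) = coef (hgood _ D₂.hV hX₂W) n (k' + 1) f := by
      rw [← hτ _ D₂.hV hX₂W, ← CommRingCat.comp_apply, ← Functor.map_comp]
      rfl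
    rw [h4] at h3
    obtain ⟨c₂, hc₂⟩ := Groth.Agent.Lib.helper28.PolyGrade.exists_eq_of_mem_deg
      (𝒜.deg _ D₂.hV) (𝒜.str.app (op (X.basicOpen a))).hom D₂.z (𝒜.str_mem _ D₂.hV) D₂.hz
      D₂.hpoly.2 (coef_mem (hgood _ D₂.hV hX₂W) n (k' + 1) f)
    have hzmem : D₂.z ^ (k' + 1) ∈ 𝒜.deg _ D₂.hV (k' + 1) := by
      have hz1 : D₂.z ∈ 𝒜.deg _ D₂.hV 1 := D₂.hz
      have := SetLike.pow_mem_graded (k' + 1) hz1
      simpa using this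
    have hunit : IsUnit c₂ := by
      refine isUnit_of_span (𝒜.str.app (op (X.basicOpen a))).hom D₂.z D₂.hpoly c₂ (k' + 1) ?_
      rw [← hc₂]
      exact h3 hzmem
    have hx''c₂ : x'' ∈ X.basicOpen c₂ := by
      rw [X.basicOpen_of_isUnit hunit]
      exact hx''a
    have hnot : coef (hgood _ D₂.hV hX₂W) n (k' + 1) f ∉ (gpt D₂ x'' hx''a).asIdeal := by
      rw [hc₂, term_mem_gpt_iff D₂ x'' hx''a c₂ (k' + 1)]
      exact fun h => h hx''c₂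
    have hmem := (mem_basicOpen_iff_exists_coef (hgood _ D₂.hV hX₂W) f (gpt D₂ x'' hx''a)
      (isHomogeneous_gpt D₂ x'' hx''a)).mpr ⟨n, k' + 1, hkn, hnot⟩
    obtain ⟨w, hwV0, hwN, hwq⟩ := (hΩ _).mp (hfΩ hmem)
    have hv₂V0 : (𝒜.toQCAlg.ι _ D₂.hV) (gpt D₂ x'' hx''a) ∈ V0 := by
      have : (𝒜.toQCAlg.ι _ D₂.hV) (gpt D₂ x'' hx''a) ∈ (V0 : Set 𝒜.toQCAlg.spec) := by
        rw [hV0]
        exact gpt_notMem_range aug j0 h0 haug hj0 D₂ x'' hx''a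
      exact this
    have hweq := hinj w _ hwV0 hv₂V0 hwq
    rw [hweq, π_gpt D₂ x'' hx''a] at hwN
    exact hx''N hwN

end Groth.Agent.Lib.helper28.Grauert
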