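import Groth.Agent.Lib.Helper28.SymLineDom

/-!
# `r⁻¹(D₊(f))` for `r = Proj(u) : G(u) ⟶ Proj(𝒮)`, `u : 𝒮 → q_* Sym(L)`, over an arbitrary affine
open of the base (helper28)

Generalises `SymLineDom.mem_image_preimage_iff` from an affine base to any affine open `U ⊆ Y`.
-/

set_option autoImplicit false
universe u

namespace Groth.Agent.Lib.helper28.SymLineDom

open CategoryTheory CategoryTheory.Limits AlgebraicGeometry TopologicalSpace Opposite
open HomogeneousLocalization
open scoped HomogeneousIdeal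
open Groth.Agent.Lib.helper28.RelTwistChart Groth.Agent.Lib.helper28.ProjQGlue
open Groth.Agent.Lib.helper28

variable {Y X P PL : Scheme.{u}} {q : X ⟶ Y}
  (L : X.Modules) [L.IsQuasicoherent]
  {𝒮 : RelProj.QCGrAlg Y} (𝒮L : RelProj.QCGrAlg X) (j : L ⟶ 𝒮L.toModule)
  (hj : RelProj.IsGrSymAlg L 𝒮L j)
  (u : RelProj.QGrHom q 𝒮 𝒮L)
  {p : P ⟶ Y} {chart : ∀ (U : Y.Opens) (hU : IsAffineOpen U),
    (((p ⁻¹ᵁ U : P.Opens) : Scheme.{u}) ≅ Proj (𝒮.deg U hU))}
  {pL : PL ⟶ X} {chartL : ∀ (U : X.Opens) (hU : IsAffineOpen U),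
    (((pL ⁻¹ᵁ U : PL.Opens) : Scheme.{u}) ≅ Proj (𝒮L.deg U hU))}

include hj in
/-- Points of `r⁻¹(D₊(f))`, `f` homogeneous over the affine open `U ⊆ Y`, seen in `Proj(𝒮L)`,
are the points over the open `X_t ⊆ q⁻¹ U`, `t = ψ♭(f)`. -/
theorem mem_image_preimage_iff' (hL : PicF.IsInvertible L) (hP : RelProj.IsRelProj 𝒮 p chart)
    (hPL : RelProj.IsRelProj 𝒮L pL chartL)
    (r : ((RelProj.domQ u pL chartL : PL.Opens) : Scheme.{u}) ⟶ P)
    (hr : ∀ (U : Y.Opens) (hU : IsAffineOpen U) (U' : X.Opens) (hU' : IsAffineOpen U')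
      (hle : U' ≤ q ⁻¹ᵁ U) (d : ℕ) (hd : 0 < d) (f : 𝒮.presheaf.obj (op U))
      (hf : f ∈ 𝒮.deg U hU d),
      stdChart u pL chartL U hU U' hU' hle hd f hf ≫ r = tgt u p chart U hU U' hU' hle hd f hf)
    (U : Y.Opens) (hU : IsAffineOpen U) {d : ℕ} (hd : 0 < d) (f : 𝒮.presheaf.obj (op U))
    (hf : f ∈ 𝒮.deg U hU d) (z : PL) :
    z ∈ (RelProj.domQ u pL chartL).ι ''ᵁ
        (r ⁻¹ᵁ ((RelProj.emb p chart U hU) ''ᵁ Proj.basicOpen (𝒮.deg U hU) f)) ↔
      ∃ (V : X.Opens) (hV : IsAffineOpen V) (hle : V ≤ q ⁻¹ᵁ U), pL z ∈ V ∧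
        ((𝒮L.deg V hV d : AddSubgroup (𝒮L.presheaf.obj (op V))) :
          Set (𝒮L.presheaf.obj (op V))) ⊆
          (Ideal.span {(u.appLE U V hle).hom f} : Set (𝒮L.presheaf.obj (op V))) := by
  have hO : (RelProj.emb p chart U hU) ''ᵁ Proj.basicOpen (𝒮.deg U hU) f =
      (Proj.awayι (𝒮.deg U hU) f hf hd ≫ RelProj.emb p chart U hU).opensRange := by
    rw [Scheme.Hom.opensRange_comp, Proj.opensRange_awayι]
  have hover := glue_comp_p u hP hPL r hr
  constructor
  · rintro ⟨x', hx', rfl⟩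
    have hxU : pL ((RelProj.domQ u pL chartL).ι x') ∈ q ⁻¹ᵁ U := by
      obtain ⟨y, -, hy⟩ := hx'
      have h1 : p (r x') ∈ U := by
        have h2 : RelProj.emb p chart U hU y ∈ Set.range (RelProj.emb p chart U hU) := ⟨y, rfl⟩
        rw [range_emb] at h2
        have h3 : r x' = RelProj.emb p chart U hU y := hy.symm
        rw [h3]
        exact h2
      have h4 := congrArg (fun k => k.base x') hover
      simp only [Scheme.Hom.comp_base, TopCat.comp_app] at h4
      change q (pL ((RelProj.domQ u pL chartL).ι x')) ∈ U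
      rw [← h4]
      exact h1
    obtain ⟨V, hV, hxV, hle⟩ := (Opens.isBasis_iff_nbhd.mp X.isBasis_affineOpens) hxU
    rw [hO] at hx'
    have hx : x' ∈ (stdChart u pL chartL U hU V hV hle hd f hf).opensRange := by
      rw [← preimage_chart u hP hPL r hr U hU V hV hle hd f hf]
      exact ⟨hx', hxV⟩
    obtain ⟨w, rfl⟩ := hx
    have e1 : (RelProj.domQ u pL chartL).ι (stdChart u pL chartL U hU V hV hle hd f hf w) =
        RelProj.emb pL chartL V hV ((Proj.awayι (𝒮L.deg V hV) (u.gradedAt U hU V hV hle f)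
          ((u.gradedAt U hU V hV hle).map_mem hf) hd) w) := by
      rw [← Scheme.Hom.comp_apply, stdChart_ι, awayEmb_apply]
    have hty : u.gradedAt U hU V hV hle f ∉ ((Proj.awayι (𝒮L.deg V hV)
        (u.gradedAt U hU V hV hle f) ((u.gradedAt U hU V hV hle).map_mem hf) hd)
          w).asHomogeneousIdeal := by
      have : (Proj.awayι (𝒮L.deg V hV) (u.gradedAt U hU V hV hle f)
          ((u.gradedAt U hU V hV hle).map_mem hf) hd) w ∈
          (Proj.awayι (𝒮L.deg V hV) (u.gradedAt U hU V hV hle f)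
            ((u.gradedAt U hU V hV hle).map_mem hf) hd).opensRange := ⟨w, rfl⟩
      rw [Proj.opensRange_awayι] at this
      exact (ProjectiveSpectrum.mem_basicOpen _ _ _).mp this
    obtain ⟨V', hV', hle', hxV', hspan⟩ := SymLineGen.exists_affine_deg_subset_span L 𝒮L j hj
      pL chartL hPL hL V hV (u.gradedAt U hU V hV hle f)
      ((u.gradedAt U hU V hV hle).map_mem hf) _ hty
    refine ⟨V', hV', hle'.trans hle, ?_, ?_⟩
    · have h9 := hxV'
      rw [← e1] at h9
      exact h9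
    · have e2 : (𝒮L.presheaf.map (homOfLE hle').op).hom (u.gradedAt U hU V hV hle f) =
          (u.appLE U V' (hle'.trans hle)).hom f := by
        have := congrArg (fun k => k.hom f) (u.toQHom.appLE_map hle hle')
        exact this
      rw [← e2]
      exact hspan
  · rintro ⟨V, hV, hle, hzV, hspan⟩
    have hz : z ∈ Set.range (RelProj.emb pL chartL V hV) := by
      rw [range_emb]
      exact hzV
    obtain ⟨y, rfl⟩ := hz
    have hty := SymLineGen.notMem_of_deg_subset_span L 𝒮L j hj V hV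
      ((u.appLE U V hle).hom f) hspan y
    have hy : y ∈ (Proj.awayι (𝒮L.deg V hV) (u.gradedAt U hU V hV hle f)
        ((u.gradedAt U hU V hV hle).map_mem hf) hd).opensRange := by
      rw [Proj.opensRange_awayι]
      exact (ProjectiveSpectrum.mem_basicOpen _ _ _).mpr hty
    obtain ⟨w, rfl⟩ := hy
    have e1 : (RelProj.domQ u pL chartL).ι (stdChart u pL chartL U hU V hV hle hd f hf w) =
        RelProj.emb pL chartL V hV ((Proj.awayι (𝒮L.deg V hV) (u.gradedAt U hU V hV hle f)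
          ((u.gradedAt U hU V hV hle).map_mem hf) hd) w) := by
      rw [← Scheme.Hom.comp_apply, stdChart_ι, awayEmb_apply]
    refine ⟨stdChart u pL chartL U hU V hV hle hd f hf w, ?_, e1⟩
    have e2 : r (stdChart u pL chartL U hU V hV hle hd f hf w) =
        (tgt u p chart U hU V hV hle hd f hf) w := by
      rw [← Scheme.Hom.comp_apply, hr]
    have e3 : r (stdChart u pL chartL U hU V hV hle hd f hf w) ∈
        (Proj.awayι (𝒮.deg U hU) f hf hd ≫ RelProj.emb p chart U hU).opensRange := by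
      rw [e2, tgt_apply]
      exact ⟨_, Scheme.Hom.comp_apply _ _ _⟩
    rw [hO]
    exact e3

end Groth.Agent.Lib.helper28.SymLineDom
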