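import Groth.Agent.Lib.Helper28.SymLineGenLocus
import Groth.Agent.Lib.Helper28.SymLineDom2
import Groth.Agent.Lib.Helper28.ProjQDom
import Groth.Agent.Lib.Helper12.AmpleRestrict

/-!
# Relative ampleness from `r_{L,ψ}` being an everywhere defined embedding (helper28)

`f : X ⟶ Y` quasi-compact, `L` invertible on `X` with graded symmetric algebra `𝒮L`
(`Proj(𝒮L) = X`), `u : 𝒜 → f_* 𝒮L` a graded `f`-morphism, `r = Proj(u) : G(u) ⟶ Proj(𝒜)`.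
* `mem_genLocus_iff_mem_preimage`: `(f⁻¹V)_t = r⁻¹(D₊(a))` for `μ t = u(a)`.
* `isRelAmple_of_isInducing` (EGA II 4.6.? direction b ⇒ a): if `G(u)` is everything and `r` is
  a topological embedding (inducing suffices), then `L` is `f`-ample.
-/

set_option autoImplicit false
set_option linter.style.haveILetI false
universe u
open CategoryTheory AlgebraicGeometry TopologicalSpace Opposite TensorProduct

namespace Groth.Agent.Lib.helper28.SymLineAmple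

open Groth.Agent.Lib.helper28.SymLinePow Groth.Agent.Lib.helper28.SymLineGenLocus
open Groth.Agent.Lib.helper12.TwistExtend Groth.Agent.Lib.helper12.AmpleBasis
  Groth.Agent.Lib.helper11.IsoLocus Groth.Agent.Lib.helper11.GenLocus
open Groth.Agent.Lib.helper28.RelTwistChart Groth.Agent.Lib.helper28.ProjQGlue
open Groth.Agent.Lib.helper28 Groth.Agent.Lib.helper12.AmplePow Groth.Agent.Lib.helper11.InvMod

variable {X Y P PL : Scheme.{u}} (f : X ⟶ Y)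
  (L : X.Modules) [L.IsQuasicoherent]
  (𝒮L : RelProj.QCGrAlg X) (jL : L ⟶ 𝒮L.toModule) (hjL : RelProj.IsGrSymAlg L 𝒮L jL)
  (pL : PL ⟶ X) (chartL : ∀ (U : X.Opens) (hU : IsAffineOpen U),
    (((pL ⁻¹ᵁ U : PL.Opens) : Scheme.{u}) ≅ Proj (𝒮L.deg U hU)))
  (hPL : RelProj.IsRelProj 𝒮L pL chartL)
  (𝒜 : RelProj.QCGrAlg Y) (u : RelProj.QGrHom f 𝒜 𝒮L)
  (p : P ⟶ Y) (chart : ∀ (U : Y.Opens) (hU : IsAffineOpen U),
    (((p ⁻¹ᵁ U : P.Opens) : Scheme.{u}) ≅ Proj (𝒜.deg U hU)))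
  (hP : RelProj.IsRelProj 𝒜 p chart)
  (r : ((RelProj.domQ u pL chartL : PL.Opens) : Scheme.{u}) ⟶ P)
  (hr : RelProj.IsProjQMapOn u p chart pL chartL (RelProj.domQ u pL chartL) r)

include hjL hPL hP hr in
/-- `W_t = r⁻¹(D₊(a))` for `t ∈ Γ(f⁻¹V, L^{⊗ d})` with `μ t = u(a)`. -/
theorem mem_genLocus_iff_mem_preimage (hL : PicF.IsInvertible L) (V : Y.Opens)
    (hV : IsAffineOpen V) {d : ℕ} (hd : 0 < d) (a : 𝒜.presheaf.obj (op V))
    (ha : a ∈ 𝒜.deg V hV d) (t : (CohB1.tensorPow L d).val.obj (op (f ⁻¹ᵁ V)))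
    (ht : μ jL d (f ⁻¹ᵁ V) t = (u.app V).hom a) (y' : ((f ⁻¹ᵁ V : X.Opens) : Scheme.{u}))
    (z' : PL) (hz' : pL z' = (f ⁻¹ᵁ V).ι y') :
    y' ∈ CohB1.genLocus _ (secHom (CohB1.tensorPow L d) (f ⁻¹ᵁ V) t) ↔
      z' ∈ (RelProj.domQ u pL chartL).ι ''ᵁ
        (r ⁻¹ᵁ ((RelProj.emb p chart V hV) ''ᵁ Proj.basicOpen (𝒜.deg V hV) a)) := by
  have hr' := (ProjQComp.isProjQMapOn_iff u r).mp hr
  rw [mem_genLocus_secHom_iff hjL hL,
    SymLineDom.mem_image_preimage_iff' L 𝒮L jL hjL u hL hP hPL r hr' V hV hd a ha z', ht]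
  constructor
  · rintro ⟨V', hV', hle, hmem, hspan⟩
    exact ⟨V', hV', hle, by rw [hz']; exact hmem, hspan⟩
  · rintro ⟨V', hV', hle, hmem, hspan⟩
    exact ⟨V', hV', hle, by rw [← hz']; exact hmem, hspan⟩

include hjL hPL hP hr in
/-- EGA II 4.6.? : if `r = r_{L,ψ} : Proj(Sym L) = X ⟶ Proj(𝒜)` is everywhere defined and a
topological embedding, then `L` is `f`-ample. -/
theorem isRelAmple_of_isInducing [QuasiCompact f] (hL : PicF.IsInvertible L)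
    (htop : RelProj.domQ u pL chartL = ⊤) (hemb : Topology.IsInducing r.base) :
    RelAmple.IsRelAmple f L := by
  have hiso : IsIso pL := SymLineProj.isIso_of_isInvertible L 𝒮L jL hjL pL chartL hPL hL
  have hr' := (ProjQComp.isProjQMapOn_iff u r).mp hr
  have hover := glue_comp_p u hP hPL r hr'
  refine ⟨inferInstance, fun V => ?_⟩
  have hcW : IsCompact ((f ⁻¹ᵁ V.1 : X.Opens) : Set X) :=
    QuasiCompact.isCompact_preimage (f := f) _ V.1.2 V.2.isCompact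
  haveI : CompactSpace ((f ⁻¹ᵁ V.1 : X.Opens) : Scheme.{u}) := isCompact_iff_compactSpace.mp hcW
  refine isAmple_of_isBasis (isInvertible_restrict (f ⁻¹ᵁ V.1).ι hL) ?_
  rw [Opens.isBasis_iff_nbhd]
  intro O' x' hx'
  obtain ⟨z, hz⟩ := pL.surjective ((f ⁻¹ᵁ V.1).ι x')
  have hzdom : z ∈ RelProj.domQ u pL chartL := by rw [htop]; trivial
  -- the open `Ω₀` of `G(u)` over `O'`, and an open `Ω` of `P` with `r⁻¹ Ω = Ω₀`
  obtain ⟨Ωs, hΩo, hΩ⟩ := hemb.isOpen_iff.mp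
    ((RelProj.domQ u pL chartL).ι ⁻¹ᵁ (pL ⁻¹ᵁ ((f ⁻¹ᵁ V.1).ι ''ᵁ O'))).2
  have hΩmem : ∀ w : ((RelProj.domQ u pL chartL : PL.Opens) : Scheme.{u}),
      r w ∈ Ωs ↔ pL ((RelProj.domQ u pL chartL).ι w) ∈ (f ⁻¹ᵁ V.1).ι ''ᵁ O' := by
    intro w
    have := congrArg (fun S => w ∈ S) hΩ
    exact Iff.of_eq this
  have hz₀Ω : r ⟨z, hzdom⟩ ∈ Ωs := by
    rw [hΩmem]
    change pL z ∈ _
    rw [hz]
    exact ⟨x', hx', rfl⟩
  have hprz : p (r ⟨z, hzdom⟩) ∈ V.1 := by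
    have h4 := congrArg (fun k => k.base ⟨z, hzdom⟩) hover
    simp only [Scheme.Hom.comp_base, TopCat.comp_app] at h4
    rw [h4]
    change f (pL z) ∈ V.1
    rw [hz]
    exact x'.2
  have hrange : r ⟨z, hzdom⟩ ∈ Set.range (RelProj.emb p chart V.1 V.2) := by
    rw [range_emb]
    exact hprz
  obtain ⟨y, hy⟩ := hrange
  obtain ⟨d, hd, a, ha, hay, haΩ⟩ := ProjQComp.exists_homogeneous_basicOpen_le (𝒜.deg V.1 V.2)
    ((RelProj.emb p chart V.1 V.2) ⁻¹ᵁ ⟨Ωs, hΩo⟩) y (by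
      change RelProj.emb p chart V.1 V.2 y ∈ Ωs
      rw [hy]
      exact hz₀Ω)
  -- the section `t` of `L^{⊗ d}` over `f⁻¹ V` with `μ t = u(a)`
  obtain ⟨t, ht⟩ := exists_μ_eq hjL hL d (f ⁻¹ᵁ V.1) ((u.app V.1).hom a)
    (fun V' hV' i => u.map_mem V.1 V.2 V' hV' i ha)
  obtain ⟨n, rfl⟩ : ∃ n, d = n + 1 := ⟨d - 1, by omega⟩
  refine ⟨_, ⟨n, secHom (CohB1.tensorPow L (n + 1)) (f ⁻¹ᵁ V.1) t ≫
    (restrictTensorPowIso (f ⁻¹ᵁ V.1).ι L (n + 1)).hom, rfl⟩, ?_, ?_⟩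
  · rw [genLocus_comp_iso]
    rw [mem_genLocus_iff_mem_preimage f L 𝒮L jL hjL pL chartL hPL 𝒜 u p chart hP r hr hL V.1 V.2
      hd a ha t ht x' z hz]
    refine ⟨⟨z, hzdom⟩, ?_, rfl⟩
    refine ⟨y, ?_, hy⟩
    exact (ProjectiveSpectrum.mem_basicOpen _ _ _).mpr hay
  · intro y' hy'
    rw [genLocus_comp_iso] at hy'
    obtain ⟨zy, hzy⟩ := pL.surjective ((f ⁻¹ᵁ V.1).ι y')
    rw [mem_genLocus_iff_mem_preimage f L 𝒮L jL hjL pL chartL hPL 𝒜 u p chart hP r hr hL V.1 V.2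
      hd a ha t ht y' zy hzy] at hy'
    obtain ⟨w, ⟨y₁, hy₁, hy₁w⟩, hwz⟩ := hy'
    have hzy' : pL ((RelProj.domQ u pL chartL).ι w) = (f ⁻¹ᵁ V.1).ι y' :=
      (congrArg (fun q => pL q) hwz).trans hzy
    have hwΩ : r w ∈ Ωs := by
      have h5 : y₁ ∈ (RelProj.emb p chart V.1 V.2) ⁻¹ᵁ (⟨Ωs, hΩo⟩ : P.Opens) := haΩ hy₁
      change RelProj.emb p chart V.1 V.2 y₁ ∈ Ωs at h5
      have h6 : RelProj.emb p chart V.1 V.2 y₁ = r w := hy₁w
      rw [← h6]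
      exact h5
    rw [hΩmem, hzy'] at hwΩ
    obtain ⟨w', hw', hww'⟩ := hwΩ
    have : w' = y' := (f ⁻¹ᵁ V.1).ι.isOpenEmbedding.injective hww'
    rw [← this]
    exact hw'

end Groth.Agent.Lib.helper28.SymLineAmple
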