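import Groth.Agent.Lib.Helper28.GrauertConv1
import Groth.Agent.Lib.Helper28.SymLineAmple
import Groth.Agent.Lib.Helper12.AmpleLocal

/-!
# Grauert's criterion, sufficiency (helper28; EGA II 8.9.1, "if" part)

`isRelAmple_of_contraction`: `p : X ⟶ Y` quasi-compact, `L` invertible on `X`, `V = V(L)` with
zero section `j0` and complement `V0`; if `q : V ⟶ C` and `ε : Y ⟶ C` satisfy `j0 ≫ q = p ≫ ε`,
`q|V0` is an open immersion and `q(V0) ∩ ε(Y) = ∅`, then `L` is ample relative to `p`.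
-/

set_option autoImplicit false
set_option linter.style.haveILetI false
set_option linter.unusedSectionVars false
universe u
open CategoryTheory AlgebraicGeometry TopologicalSpace Opposite
open scoped HomogeneousIdeal

namespace Groth.Agent.Lib.helper28.Grauert

open Groth.Agent.Lib.helper28.SymLinePow Groth.Agent.Lib.helper28.SymLineGenLocus
  Groth.Agent.Lib.helper28.VertexSection Groth.Agent.Lib.helper28.RelSpecMap
open Groth.Agent.Lib.helper12.TwistExtend Groth.Agent.Lib.helper12.AmpleBasis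
  Groth.Agent.Lib.helper11.IsoLocus Groth.Agent.Lib.helper11.GenLocus
open Groth.Agent.Lib.helper28 Groth.Agent.Lib.helper12.AmplePow Groth.Agent.Lib.helper11.InvMod
  Groth.Agent.Lib.helper12.AmpleLocal

variable {X Y C : Scheme.{u}} (p : X ⟶ Y) {L : X.Modules} [L.IsQuasicoherent]
  {𝒜 : RelProj.QCGrAlg X} {jL : L ⟶ 𝒜.toModule} (hA : RelProj.IsGrSymAlg L 𝒜 jL)
  (hL : PicF.IsInvertible L) (h0 : RelCone.StrZeroBij 𝒜)
  {aug : 𝒜.toQCAlg ⟶ RelSpec.QCAlg.unit X} (haug : RelCone.IsAugmentation 𝒜 aug)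
  {j0 : X ⟶ 𝒜.toQCAlg.spec} (hj0 : RelCone.IsVertex 𝒜 aug j0)
  {V0 : 𝒜.toQCAlg.spec.Opens} (hV0 : (V0 : Set 𝒜.toQCAlg.spec) = (Set.range j0.base)ᶜ)
  {ε : Y ⟶ C} {q : 𝒜.toQCAlg.spec ⟶ C} (hjq : j0 ≫ q = p ≫ ε)

include hA hL h0 haug hj0 hV0 hjq in
theorem isRelAmple_of_contraction [QuasiCompact p] (himm : IsOpenImmersion (V0.ι ≫ q))
    (hdisj : Set.range (V0.ι ≫ q).base ∩ Set.range ε.base = ∅) :
    RelAmple.IsRelAmple p L := by
  refine ⟨inferInstance, fun U => ?_⟩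
  refine isAmple_restrict_preimage_of_cover p U.2 fun y hy => ?_
  obtain ⟨UC, hUC, hεy, -⟩ := (Opens.isBasis_iff_nbhd.mp C.isBasis_affineOpens)
    (show ε y ∈ (⊤ : C.Opens) from trivial)
  obtain ⟨h, hle, hyh⟩ := U.2.exists_basicOpen_le (V := ε ⁻¹ᵁ UC) ⟨y, hεy⟩ hy
  refine ⟨h, hyh, ?_⟩
  have hcW : IsCompact ((p ⁻¹ᵁ Y.basicOpen h : X.Opens) : Set X) :=
    QuasiCompact.isCompact_preimage (f := p) _ (Y.basicOpen h).2 (U.2.basicOpen h).isCompact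
  haveI : CompactSpace ((p ⁻¹ᵁ Y.basicOpen h : X.Opens) : Scheme.{u}) :=
    isCompact_iff_compactSpace.mp hcW
  refine isAmple_of_isBasis (isInvertible_restrict (p ⁻¹ᵁ Y.basicOpen h).ι hL) ?_
  rw [Opens.isBasis_iff_nbhd]
  intro O' x' hx'
  obtain ⟨k, τ, hdeg, hgen, hout⟩ := exists_section p hA hL h0 haug hj0 hV0 hjq himm hdisj UC hUC
    (Y.basicOpen h) hle ((p ⁻¹ᵁ Y.basicOpen h).ι x') x'.2 ((p ⁻¹ᵁ Y.basicOpen h).ι ''ᵁ O')
    ⟨x', hx', rfl⟩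
  obtain ⟨t, ht⟩ := exists_μ_eq hA hL (k + 1) (p ⁻¹ᵁ Y.basicOpen h) τ hdeg
  refine ⟨_, ⟨k, secHom (CohB1.tensorPow L (k + 1)) (p ⁻¹ᵁ Y.basicOpen h) t ≫
    (restrictTensorPowIso (p ⁻¹ᵁ Y.basicOpen h).ι L (k + 1)).hom, rfl⟩, ?_, ?_⟩
  · rw [genLocus_comp_iso, mem_genLocus_secHom_iff hA hL, ht]
    exact hgen
  · intro y' hy'
    rw [genLocus_comp_iso, mem_genLocus_secHom_iff hA hL, ht] at hy'
    obtain ⟨V, hV, i, hyV, hspan⟩ := hy'
    obtain ⟨w, hw, hwy⟩ := hout _ V hV i hyV hspan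
    have : w = y' := (p ⁻¹ᵁ Y.basicOpen h).ι.isOpenEmbedding.injective hwy
    rw [← this]
    exact hw

end Groth.Agent.Lib.helper28.Grauert
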