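import Mathlib

/-!
# Fibre products of rings and localization (helper28)

`fib φ ψ = R ×_T S` for `φ : R → T`, `ψ : S → T`.  `isLocalization_fib`: if `R'`, `S'` are the
localizations of `R`, `S` at `r`, `s` (with `φ r = ψ s`) and `T → T'` kills only `r`-torsion, then
`R' ×_{T'} S'` is the localization of `R ×_T S` at `(r, s)`.
-/

set_option autoImplicit false
set_option linter.style.haveILetI false

namespace Groth.Agent.Lib.helper28.GrauertFib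

variable {R S T R' S' T' : Type*} [CommRing R] [CommRing S] [CommRing T] [CommRing R']
  [CommRing S'] [CommRing T']

/-- The fibre product `R ×_T S`. -/
def fib (φ : R →+* T) (ψ : S →+* T) : Subring (R × S) :=
  RingHom.eqLocus (φ.comp (RingHom.fst R S)) (ψ.comp (RingHom.snd R S))

theorem mem_fib {φ : R →+* T} {ψ : S →+* T} {x : R × S} : x ∈ fib φ ψ ↔ φ x.1 = ψ x.2 := Iff.rfl

variable (φ : R →+* T) (ψ : S →+* T) (φ' : R' →+* T') (ψ' : S' →+* T')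
  (ρR : R →+* R') (ρS : S →+* S') (ρT : T →+* T')
  (hφ : ρT.comp φ = φ'.comp ρR) (hψ : ρT.comp ψ = ψ'.comp ρS)

/-- The induced map of fibre products. -/
def fibMap : fib φ ψ →+* fib φ' ψ' :=
  ((RingHom.prodMap ρR ρS).comp (fib φ ψ).subtype).codRestrict (fib φ' ψ') (by
    rintro ⟨⟨a, σ⟩, hx⟩
    change φ' (ρR a) = ψ' (ρS σ)
    have h1 : φ' (ρR a) = ρT (φ a) := (RingHom.congr_fun hφ a).symm
    have h2 : ψ' (ρS σ) = ρT (ψ σ) := (RingHom.congr_fun hψ σ).symm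
    rw [h1, h2]
    exact congrArg ρT hx)

theorem fibMap_val (x : fib φ ψ) :
    (fibMap φ ψ φ' ψ' ρR ρS ρT hφ hψ x : R' × S') = (ρR x.1.1, ρS x.1.2) := rfl

/-- Elementary consequences of being a localization away from an element. -/
theorem away_elem {A A' : Type*} [CommRing A] [CommRing A'] (ρ : A →+* A') (a : A)
    (h : letI := ρ.toAlgebra; IsLocalization.Away a A') :
    IsUnit (ρ a) ∧ (∀ z : A', ∃ (k : ℕ) (x : A), z * ρ a ^ k = ρ x) ∧
      (∀ x : A, ρ x = 0 → ∃ k : ℕ, a ^ k * x = 0) := by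
  letI := ρ.toAlgebra
  refine ⟨IsLocalization.Away.algebraMap_isUnit a, fun z => ?_, fun x hx => ?_⟩
  · obtain ⟨k, x, hx⟩ := IsLocalization.Away.surj a z
    exact ⟨k, x, hx⟩
  · have h0 : algebraMap A A' x = algebraMap A A' 0 := by
      rw [map_zero]
      exact hx
    obtain ⟨⟨c, k, rfl⟩, hc⟩ := IsLocalization.exists_of_eq (M := Submonoid.powers a) h0
    refine ⟨k, ?_⟩
    simpa using hc

/-- Converse of `away_elem`. -/
theorem away_of_elem {A A' : Type*} [CommRing A] [CommRing A'] (ρ : A →+* A') (a : A)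
    (h1 : IsUnit (ρ a)) (h2 : ∀ z : A', ∃ (k : ℕ) (x : A), z * ρ a ^ k = ρ x)
    (h3 : ∀ x : A, ρ x = 0 → ∃ k : ℕ, a ^ k * x = 0) :
    letI := ρ.toAlgebra; IsLocalization.Away a A' := by
  letI := ρ.toAlgebra
  refine (isLocalization_iff (M := Submonoid.powers a) (S := A')).mpr ⟨?_, ?_, ?_⟩
  · rintro ⟨_, k, rfl⟩
    change IsUnit (ρ (a ^ k))
    rw [map_pow]
    exact h1.pow k
  · intro z
    obtain ⟨k, x, hx⟩ := h2 z
    refine ⟨⟨x, ⟨a ^ k, k, rfl⟩⟩, ?_⟩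
    change z * ρ (a ^ k) = ρ x
    rw [map_pow]
    exact hx
  · intro x y hxy
    have h0 : ρ (x - y) = 0 := by
      rw [map_sub, sub_eq_zero]
      exact hxy
    obtain ⟨k, hk⟩ := h3 _ h0
    refine ⟨⟨a ^ k, k, rfl⟩, ?_⟩
    change a ^ k * x = a ^ k * y
    rw [← sub_eq_zero, ← mul_sub]
    exact hk

/-- Transport of a localization along a commutative square of ring isomorphisms. -/
theorem away_transfer {A A' A₂ A₂' : Type*} [CommRing A] [CommRing A'] [CommRing A₂]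
    [CommRing A₂'] (ρ : A →+* A') (ρ₂ : A₂ →+* A₂') (e : A ≃+* A₂) (e' : A' ≃+* A₂')
    (hsq : ∀ x, e' (ρ x) = ρ₂ (e x)) (a : A)
    (h : letI := ρ.toAlgebra; IsLocalization.Away a A') :
    letI := ρ₂.toAlgebra; IsLocalization.Away (e a) A₂' := by
  obtain ⟨h1, h2, h3⟩ := away_elem ρ a h
  refine away_of_elem ρ₂ (e a) ?_ ?_ ?_
  · rw [← hsq]
    exact h1.map e'
  · intro z₂
    obtain ⟨k, x, hx⟩ := h2 (e'.symm z₂)
    refine ⟨k, e x, ?_⟩
    rw [← hsq, ← hsq, ← hx, map_mul, map_pow, e'.apply_symm_apply]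
  · intro x₂ hx₂
    have h0 : ρ (e.symm x₂) = 0 := by
      apply e'.injective
      rw [hsq, e.apply_symm_apply, hx₂, map_zero]
    obtain ⟨k, hk⟩ := h3 _ h0
    refine ⟨k, ?_⟩
    have := congrArg e hk
    rwa [map_mul, map_pow, e.apply_symm_apply, map_zero] at this

include hφ hψ in
theorem isLocalization_fib (r : R) (s : S) (hrs : φ r = ψ s)
    (hR : letI := ρR.toAlgebra; IsLocalization.Away r R')
    (hS : letI := ρS.toAlgebra; IsLocalization.Away s S')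
    (hT : ∀ t : T, ρT t = 0 → ∃ k : ℕ, φ r ^ k * t = 0) :
    letI := (fibMap φ ψ φ' ψ' ρR ρS ρT hφ hψ).toAlgebra
    IsLocalization.Away (⟨(r, s), hrs⟩ : fib φ ψ) (fib φ' ψ') := by
  letI := (fibMap φ ψ φ' ψ' ρR ρS ρT hφ hψ).toAlgebra
  obtain ⟨hR1, hR2, hR3⟩ := away_elem ρR r hR
  obtain ⟨hS1, hS2, hS3⟩ := away_elem ρS s hS
  set b : fib φ ψ := ⟨(r, s), hrs⟩ with hb
  have hbpow : ∀ k : ℕ, ((b ^ k : fib φ ψ) : R × S) = (r ^ k, s ^ k) := by
    intro k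
    induction k with
    | zero => rfl
    | succ k ih =>
      rw [pow_succ, Subring.coe_mul, ih, pow_succ, pow_succ]
      rfl
  have hcompat : ∀ (a : R') (σ : S'), φ' a = ψ' σ → (a, σ) ∈ fib φ' ψ' := fun a σ h => h
  refine (isLocalization_iff (M := Submonoid.powers b) (S := fib φ' ψ')).mpr ⟨?_, ?_, ?_⟩
  · rintro ⟨_, k, rfl⟩
    -- the image of `b ^ k` is a unit
    have hu : IsUnit (algebraMap (fib φ ψ) (fib φ' ψ') b) := by
      obtain ⟨uR, huR⟩ := hR1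
      obtain ⟨uS, huS⟩ := hS1
      have hinv : φ' (↑uR⁻¹ : R') = ψ' (↑uS⁻¹ : S') := by
        have h1 : φ' (↑uR : R') = ψ' (↑uS : S') := by
          rw [huR, huS]
          have h2 : φ' (ρR r) = ρT (φ r) := (RingHom.congr_fun hφ r).symm
          have h3 : ψ' (ρS s) = ρT (ψ s) := (RingHom.congr_fun hψ s).symm
          rw [h2, h3, hrs]
        have h4 : φ' (↑uR⁻¹ : R') * φ' (↑uR : R') = 1 := by
          rw [← map_mul, Units.inv_mul, map_one]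
        have h5 : ψ' (↑uS⁻¹ : S') * ψ' (↑uS : S') = 1 := by
          rw [← map_mul, Units.inv_mul, map_one]
        calc φ' (↑uR⁻¹ : R') = φ' (↑uR⁻¹ : R') * (ψ' (↑uS⁻¹ : S') * ψ' (↑uS : S')) := by
              rw [h5, mul_one]
          _ = (φ' (↑uR⁻¹ : R') * φ' (↑uR : R')) * ψ' (↑uS⁻¹ : S') := by rw [h1]; ring
          _ = ψ' (↑uS⁻¹ : S') := by rw [h4, one_mul]
      refine IsUnit.of_mul_eq_one (⟨((↑uR⁻¹ : R'), (↑uS⁻¹ : S')), hinv⟩ : fib φ' ψ') ?_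
      apply Subtype.ext
      change (ρR r * (↑uR⁻¹ : R'), ρS s * (↑uS⁻¹ : S')) = (1, 1)
      rw [← huR, ← huS, Units.mul_inv, Units.mul_inv]
    change IsUnit (algebraMap (fib φ ψ) (fib φ' ψ') (b ^ k))
    rw [map_pow]
    exact hu.pow k
  · rintro ⟨⟨a', σ'⟩, hz⟩
    obtain ⟨k1, a, ha⟩ := hR2 a'
    obtain ⟨k2, σ, hσ⟩ := hS2 σ'
    -- common exponent
    have ha' : a' * ρR r ^ (k1 + k2) = ρR (r ^ k2 * a) := by
      rw [map_mul, map_pow, ← ha, pow_add]; ring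
    have hσ' : σ' * ρS s ^ (k1 + k2) = ρS (s ^ k1 * σ) := by
      rw [map_mul, map_pow, ← hσ, pow_add]; ring
    have hd : ρT (φ (r ^ k2 * a) - ψ (s ^ k1 * σ)) = 0 := by
      have h1 : ρT (φ (r ^ k2 * a)) = φ' (ρR (r ^ k2 * a)) := RingHom.congr_fun hφ _
      have h2 : ρT (ψ (s ^ k1 * σ)) = ψ' (ρS (s ^ k1 * σ)) := RingHom.congr_fun hψ _
      rw [map_sub, h1, h2, ← ha', ← hσ', map_mul, map_mul, map_pow, map_pow, sub_eq_zero]
      have h3 : φ' a' = ψ' σ' := hz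
      have h4 : φ' (ρR r) = ψ' (ρS s) := by
        have h5 : φ' (ρR r) = ρT (φ r) := (RingHom.congr_fun hφ r).symm
        have h6 : ψ' (ρS s) = ρT (ψ s) := (RingHom.congr_fun hψ s).symm
        rw [h5, h6, hrs]
      rw [h3, h4]
    obtain ⟨j, hj⟩ := hT _ hd
    have hmem : (r ^ j * (r ^ k2 * a), s ^ j * (s ^ k1 * σ)) ∈ fib φ ψ := by
      change φ (r ^ j * (r ^ k2 * a)) = ψ (s ^ j * (s ^ k1 * σ))
      rw [map_mul, map_mul ψ, map_pow, map_pow ψ, ← hrs, ← sub_eq_zero, ← mul_sub]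
      exact hj
    refine ⟨⟨⟨_, hmem⟩, ⟨b ^ (k1 + k2 + j), _, rfl⟩⟩, ?_⟩
    apply Subtype.ext
    change (a' * ρR ((b ^ (k1 + k2 + j) : fib φ ψ) : R × S).1,
      σ' * ρS ((b ^ (k1 + k2 + j) : fib φ ψ) : R × S).2) =
      (ρR (r ^ j * (r ^ k2 * a)), ρS (s ^ j * (s ^ k1 * σ)))
    rw [hbpow]
    refine Prod.ext ?_ ?_
    · change a' * ρR (r ^ (k1 + k2 + j)) = ρR (r ^ j * (r ^ k2 * a))
      rw [map_mul ρR (r ^ j), ← ha', map_pow, map_pow, pow_add]; ring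
    · change σ' * ρS (s ^ (k1 + k2 + j)) = ρS (s ^ j * (s ^ k1 * σ))
      rw [map_mul ρS (s ^ j), ← hσ', map_pow, map_pow, pow_add]; ring
  · rintro ⟨⟨a₁, σ₁⟩, h₁⟩ ⟨⟨a₂, σ₂⟩, h₂⟩ heq
    have heq' : (ρR a₁, ρS σ₁) = (ρR a₂, ρS σ₂) := congrArg Subtype.val heq
    have e1 : ρR (a₁ - a₂) = 0 := by rw [map_sub, sub_eq_zero]; exact (Prod.ext_iff.mp heq').1
    have e2 : ρS (σ₁ - σ₂) = 0 := by rw [map_sub, sub_eq_zero]; exact (Prod.ext_iff.mp heq').2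
    obtain ⟨k1, hk1⟩ := hR3 _ e1
    obtain ⟨k2, hk2⟩ := hS3 _ e2
    refine ⟨⟨b ^ (k1 + k2), _, rfl⟩, ?_⟩
    apply Subtype.ext
    change ((b ^ (k1 + k2) : fib φ ψ) : R × S) * (a₁, σ₁) =
      ((b ^ (k1 + k2) : fib φ ψ) : R × S) * (a₂, σ₂)
    rw [hbpow]
    refine Prod.ext ?_ ?_
    · change r ^ (k1 + k2) * a₁ = r ^ (k1 + k2) * a₂
      rw [← sub_eq_zero, ← mul_sub, pow_add, mul_comm (r ^ k1), mul_assoc, hk1, mul_zero]
    · change s ^ (k1 + k2) * σ₁ = s ^ (k1 + k2) * σ₂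
      rw [← sub_eq_zero, ← mul_sub, pow_add, mul_assoc, hk2, mul_zero]

end Groth.Agent.Lib.helper28.GrauertFib
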