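import Groth.Agent.Lib.Helper28.GrauertCone
import Groth.Agent.Lib.Helper28.RelSpecMap
import Groth.Prelude.Def_RelSpec2

/-!
# The contraction `V(L) ⟶ Spec(O_Y ⊕ ⊕_{n ≥ 1} p_* L^n)` (helper28)

`p : X ⟶ Y` quasi-compact quasi-separated, `A` a quasi-coherent algebra on `X` with an
augmentation `aug`, `B = coneAlg p A aug`.
* `exists_section_of_aug`: an augmentation `a : B ⟶ O_Y` of a quasi-coherent algebra defines a
  section of `Spec(B) ⟶ Y`.
* `exists_contraction`: the morphisms `q : Spec(A) ⟶ Spec(B)` and `ε : Y ⟶ Spec(B)` with their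
  chart descriptions, `ε ≫ π = 𝟙`, `q ≫ π = π ≫ p`, and `j0 ≫ q = p ≫ ε` for the section `j0`
  of `Spec(A)` defined by `aug`.
-/

set_option autoImplicit false
set_option linter.style.haveILetI false
universe u
open CategoryTheory AlgebraicGeometry TopologicalSpace Opposite

namespace Groth.Agent.Lib.helper28.Grauert

open Groth.Agent.Lib.helper28.RelSpecMap

section Sec

variable {Y : Scheme.{u}} (B : RelSpec.QCAlg Y) (a : B ⟶ RelSpec.QCAlg.unit Y)

theorem g_res' {U V : Y.AffineZariskiSite} (i : V ≤ U) :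
    Spec.map (Y.presheaf.map (homOfLE (Scheme.AffineZariskiSite.toOpens_mono i)).op) ≫
      (Spec.map (a.hom.app (op U.1)) ≫ B.ι U.1 U.2) =
      Spec.map (a.hom.app (op V.1)) ≫ B.ι V.1 V.2 := by
  have hn := a.hom.naturality (homOfLE (Scheme.AffineZariskiSite.toOpens_mono i)).op
  rw [← ι_res' B i, ← Category.assoc, ← Category.assoc, ← Spec.map_comp, ← Spec.map_comp]
  exact congrArg (fun k => Spec.map k ≫ B.ι U.1 U.2) hn.symm

/-- The section of `Spec(B) ⟶ Y` defined by an augmentation. -/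
theorem exists_section_of_aug :
    ∃ ε : Y ⟶ B.spec, ε ≫ B.π = 𝟙 Y ∧ ∀ (U : Y.Opens) (hU : IsAffineOpen U),
      hU.fromSpec ≫ ε = Spec.map (a.hom.app (op U)) ≫ B.ι U hU := by
  have key := existsUnique_of_charts_local (X := Y) (Y := B.spec) (ι := Y.AffineZariskiSite)
    (U := fun U => Spec Γ(Y, U.1)) (fun U => U.2.fromSpec) ?_
    (fun U => Spec.map (a.hom.app (op U.1)) ≫ B.ι U.1 U.2) ?_
  · obtain ⟨ε, hε, -⟩ := key
    refine ⟨ε, ?_, fun U hU => hε ⟨U, hU⟩⟩
    apply hom_ext_of_local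
    intro x
    obtain ⟨U, hU, hxU⟩ : ∃ U : Y.Opens, IsAffineOpen U ∧ x ∈ U := by
      obtain ⟨_, ⟨U, hU, rfl⟩, hxU, -⟩ := Y.isBasis_affineOpens.exists_subset_of_mem_open
        (Set.mem_univ x) isOpen_univ
      exact ⟨U, hU, hxU⟩
    refine ⟨Spec Γ(Y, U), hU.fromSpec, inferInstance, ?_, ?_⟩
    · rw [IsAffineOpen.range_fromSpec]
      exact hxU
    · obtain ⟨a', ha'⟩ : ∃ a' : B.presheaf.obj (op U) ⟶ Γ(Y, U), a' = a.hom.app (op U) :=
        ⟨_, rfl⟩
      have h3 : B.str.app (op U) ≫ a' = 𝟙 _ := by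
        rw [ha']
        exact congrArg (fun k => k.app (op U)) a.comm
      have h1 : hU.fromSpec ≫ ε = Spec.map a' ≫ B.ι U hU := by
        rw [ha']
        exact hε ⟨U, hU⟩
      rw [← Category.assoc, h1, Category.assoc, B.ι_π U hU, ← Category.assoc,
        ← Spec.map_comp, h3, Spec.map_id, Category.comp_id]
      exact Category.id_comp _
  · intro x
    obtain ⟨_, ⟨U, hU, rfl⟩, hxU, -⟩ := Y.isBasis_affineOpens.exists_subset_of_mem_open
      (Set.mem_univ x) isOpen_univ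
    refine ⟨⟨U, hU⟩, ?_⟩
    rw [IsAffineOpen.range_fromSpec]
    exact hxU
  · intro U V x hxU hxV
    rw [IsAffineOpen.range_fromSpec] at hxU hxV
    obtain ⟨W, hWU, hWV, hxW, -⟩ := exists_common_basic U V ⊤ x hxU hxV trivial
    have e1 : Spec.map (Y.presheaf.map (homOfLE (Scheme.AffineZariskiSite.toOpens_mono hWU)).op) ≫
        U.2.fromSpec = W.2.fromSpec := U.2.map_fromSpec W.2 _
    have e2 : Spec.map (Y.presheaf.map (homOfLE (Scheme.AffineZariskiSite.toOpens_mono hWV)).op) ≫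
        V.2.fromSpec = W.2.fromSpec := V.2.map_fromSpec W.2 _
    refine ⟨Spec Γ(Y, W.1),
      Spec.map (Y.presheaf.map (homOfLE (Scheme.AffineZariskiSite.toOpens_mono hWU)).op),
      Spec.map (Y.presheaf.map (homOfLE (Scheme.AffineZariskiSite.toOpens_mono hWV)).op),
      e1.trans e2.symm, (g_res' B a hWU).trans (g_res' B a hWV).symm, ?_, ?_⟩
    · rw [e1]
      infer_instance
    · rw [e1, IsAffineOpen.range_fromSpec]
      exact hxW

end Sec

section Contraction

variable {X Y : Scheme.{u}} (p : X ⟶ Y) [QuasiCompact p] [QuasiSeparated p]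
  (A : RelSpec.QCAlg X) (aug : A ⟶ RelSpec.QCAlg.unit X)

/-- The ring map `B(U) → A(X')` for `X' ≤ p⁻¹ U`: `(a, σ) ↦ σ|X'`. -/
noncomputable abbrev coneLE (U : Y.Opens) (X' : X.Opens) (hle : X' ≤ p ⁻¹ᵁ U) :
    (coneAlg p A aug).presheaf.obj (op U) ⟶ A.presheaf.obj (op X') :=
  uLE p (coneAlg p A aug) A (coneToPush p A aug) U X' hle

theorem coneLE_apply (U : Y.Opens) (X' : X.Opens) (hle : X' ≤ p ⁻¹ᵁ U)
    (x : (conePresheaf p A aug).obj (op U)) :
    (coneLE p A aug U X' hle).hom x =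
      (A.presheaf.map (homOfLE hle).op).hom (cval p A aug x).2 := rfl

theorem exists_contraction (j0 : X ⟶ A.spec)
    (hj0 : ∀ (X' : X.Opens) (hX' : IsAffineOpen X'),
      hX'.fromSpec ≫ j0 = Spec.map (aug.hom.app (op X')) ≫ A.ι X' hX') :
    ∃ (ε : Y ⟶ (coneAlg p A aug).spec) (q : A.spec ⟶ (coneAlg p A aug).spec),
      ε ≫ (coneAlg p A aug).π = 𝟙 Y ∧ q ≫ (coneAlg p A aug).π = A.π ≫ p ∧ j0 ≫ q = p ≫ ε ∧
      (∀ (U : Y.Opens) (hU : IsAffineOpen U), hU.fromSpec ≫ ε =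
        Spec.map ((coneAug p A aug).hom.app (op U)) ≫ (coneAlg p A aug).ι U hU) ∧
      (∀ (U : Y.Opens) (hU : IsAffineOpen U) (X' : X.Opens) (hX' : IsAffineOpen X')
        (hle : X' ≤ p ⁻¹ᵁ U),
        A.ι X' hX' ≫ q = Spec.map (coneLE p A aug U X' hle) ≫ (coneAlg p A aug).ι U hU) := by
  obtain ⟨ε, hε1, hε2⟩ := exists_section_of_aug (coneAlg p A aug) (coneAug p A aug)
  obtain ⟨q, hq, -⟩ := existsUnique_specMap p (coneAlg p A aug) A (coneToPush p A aug)
  refine ⟨ε, q, hε1, ?_, ?_, hε2, hq⟩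
  · exact specMap_π p (coneAlg p A aug) A (coneToPush p A aug) (coneToPush_str p A aug) q hq
  · apply hom_ext_of_local
    intro x
    obtain ⟨U, hU, hxU⟩ : ∃ U : Y.Opens, IsAffineOpen U ∧ p x ∈ U := by
      obtain ⟨_, ⟨U, hU, rfl⟩, hxU, -⟩ := Y.isBasis_affineOpens.exists_subset_of_mem_open
        (Set.mem_univ (p x)) isOpen_univ
      exact ⟨U, hU, hxU⟩
    obtain ⟨X', hX', hxX', hle⟩ : ∃ X' : X.Opens, IsAffineOpen X' ∧ x ∈ X' ∧ X' ≤ p ⁻¹ᵁ U := by
      obtain ⟨_, ⟨X', hX', rfl⟩, hxX', hle⟩ := X.isBasis_affineOpens.exists_subset_of_mem_open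
        (show x ∈ ((p ⁻¹ᵁ U : X.Opens) : Set X) from hxU) (p ⁻¹ᵁ U).isOpen
      exact ⟨X', hX', hxX', hle⟩
    refine ⟨Spec Γ(X, X'), hX'.fromSpec, inferInstance, ?_, ?_⟩
    · rw [IsAffineOpen.range_fromSpec]
      exact hxX'
    · obtain ⟨a', ha'⟩ : ∃ a' : A.presheaf.obj (op X') ⟶ Γ(X, X'), a' = aug.hom.app (op X') :=
        ⟨_, rfl⟩
      obtain ⟨b', hb'⟩ : ∃ b' : (coneAlg p A aug).presheaf.obj (op U) ⟶ Γ(Y, U),
        b' = (coneAug p A aug).hom.app (op U) := ⟨_, rfl⟩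
      have hj0' : hX'.fromSpec ≫ j0 = Spec.map a' ≫ A.ι X' hX' := by
        rw [ha']
        exact hj0 X' hX'
      have hε2' : hU.fromSpec ≫ ε = Spec.map b' ≫ (coneAlg p A aug).ι U hU := by
        rw [hb']
        exact hε2 U hU
      have hring : coneLE p A aug U X' hle ≫ a' = b' ≫ p.appLE U X' hle := by
        rw [ha', hb']
        ext x
        change (aug.hom.app (op X')).hom ((A.presheaf.map (homOfLE hle).op).hom
          (cval p A aug x).2) = (p.appLE U X' hle).hom (cval p A aug x).1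
        have h1 := congrArg (fun k => k.hom (cval p A aug x).2)
          (aug.hom.naturality (homOfLE hle).op)
        have h2 : (p.appLE U X' hle).hom (cval p A aug x).1 =
            (X.presheaf.map (homOfLE hle).op).hom (phi p U (cval p A aug x).1) := rfl
        rw [h2, cval_mem]
        exact h1
      rw [← Category.assoc, hj0', Category.assoc, hq U hU X' hX' hle, ← Category.assoc,
        ← Spec.map_comp, hring, Spec.map_comp, Category.assoc, ← hε2', ← Category.assoc,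
        IsAffineOpen.SpecMap_appLE_fromSpec p hU hX' hle, Category.assoc]

end Contraction

end Groth.Agent.Lib.helper28.Grauert
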