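import Groth.Agent.Lib.Helper28.QCAlgRestrict
import Groth.Agent.Lib.Helper28.SymLineGenLocus
import Groth.Agent.Lib.Helper12.TwistKill

/-!
# Extension and annihilation of sections of a quasi-coherent algebra over `W_t` (helper28)

`A` a quasi-coherent algebra on `X`, `N` an invertible module with a module map `ν : N ⟶ A`,
`W ⊆ X` an open with `↑W` quasi-compact (quasi-separated), `t ∈ Γ(W, N)`, `W_t = WT W t ⊆ W`.
* `powMap_pow`, `mulPow A j k : A ⊗ M^{⊗ k} ⟶ A`, `mulPow_twist`.
* `kill`: `τ ∈ A(W)` with `τ|W_t = 0` satisfies `τ · (ν t)^k = 0` for some `k > 0`.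
* `extend`: for `g ∈ A(W_t)` there are `m > 0` and `σ' ∈ A(W)` with `σ'|W_t = g · (ν t)^m`.
-/

set_option autoImplicit false
set_option linter.style.haveILetI false
universe u
open CategoryTheory AlgebraicGeometry TopologicalSpace Opposite TensorProduct

namespace Groth.Agent.Lib.helper28.SymLineExtend

open Groth.Agent.Lib.helper28.PowMap Groth.Agent.Lib.helper28.TensorDesc
  Groth.Agent.Lib.helper28.QCAlgRestrict Groth.Agent.Lib.helper28.SymLineGenLocus
open Groth.Agent.Lib.helper12.TwistExtend Groth.Agent.Lib.helper12.AmpleBasis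
  Groth.Agent.Lib.helper11.IsoLocus Groth.Agent.Lib.helper11.GenLocus
  Groth.Agent.Lib.helper12.TwistKill

section Pow

variable {X : Scheme.{u}} (A : RelSpec.QCAlg X) {M : X.Modules} (j : M ⟶ A.toModule)

/-- `powMap` on the powers of a global section. -/
theorem powMap_pow (s : Coh.structureModule X ⟶ M) (k : ℕ) (U : X.Opens) :
    toRing A (((powMap A j k).val.app (op U)).hom (SecTwist.pow s k U)) =
      toRing A ((j.val.app (op U)).hom (SecTwist.val s U)) ^ k := by
  induction k with
  | zero =>
    rw [pow_zero]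
    change toRing A ((unitHom A).app U ((1 : Γ(X, U)) : Γ(Coh.structureModule X, U))) = 1
    rw [unitHom_app, map_one]
  | succ k ih =>
    change toRing A (((powMap A j (k + 1)).val.app (op U)).hom
      (SecTwist.tmul (CohB1.tensorPow M k) M U (SecTwist.pow s k U) (SecTwist.val s U))) = _
    rw [powMap_succ_tmul, ih, pow_succ]

/-- Multiplication `A ⊗ M^{⊗ k} ⟶ A`, `a ⊗ y ↦ a · j^k(y)`. -/
noncomputable def mulPow (k : ℕ) : CohB1.tensorMod A.toModule (CohB1.tensorPow M k) ⟶ A.toModule :=
  (mulPair A (powMap A j k) (𝟙 A.toModule)).desc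

theorem mulPow_twist (s : Coh.structureModule X ⟶ M) (k : ℕ) (U : X.Opens)
    (a : A.presheaf.obj (op U)) :
    toRing A (((mulPow A j k).val.app (op U)).hom (SecTwist.twist s k A.toModule U (ofRing A a))) =
      a * toRing A ((j.val.app (op U)).hom (SecTwist.val s U)) ^ k := by
  unfold mulPow SecTwist.twist
  rw [BiPair.desc_tmul, mulPair_toFun]
  change a * toRing A (((powMap A j k).val.app (op U)).hom (SecTwist.pow s k U)) = _
  rw [powMap_pow]

end Pow

section KE

variable {X : Scheme.{u}} (A : RelSpec.QCAlg X)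

theorem res_bijective_of_eq {O W : X.Opens} (h : O = W) (hle : O ≤ W) :
    Function.Bijective (A.presheaf.map (homOfLE hle).op).hom := by
  subst h
  have h1 : homOfLE hle = 𝟙 O := rfl
  have h2 : A.presheaf.map (homOfLE hle).op = 𝟙 _ := by
    rw [h1, op_id, A.presheaf.map_id]
  rw [h2]
  exact Function.bijective_id

variable {N : X.Modules} (ν : N ⟶ A.toModule) (hN : PicF.IsInvertible N)
  (W : X.Opens) (t : N.val.obj (op W))

/-- The open `W_t`, as an open of `X`. -/
noncomputable def WT : X.Opens := W.ι ''ᵁ CohB1.genLocus (N.restrict W.ι) (secHom N W t)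

theorem WT_le : WT W t ≤ W := image_le W _

/-- `ν` of the section named by `secHom N W t` over `U'` is the restriction of `ν t`. -/
theorem restrHom_val (U' : (↑W : Scheme.{u}).Opens) :
    toRing (restr A W) (((restrHom A W ν).val.app (op U')).hom
      (SecTwist.val (secHom N W t) U')) =
      (A.presheaf.map (homOfLE (image_le W U')).op).hom (toRing A ((ν.val.app (op W)).hom t)) := by
  have h1 : SecTwist.val (secHom N W t) U' =
      res (N.restrict W.ι) (le_top : U' ≤ ⊤) (topSec N W t) := val_homOfSec _ _ _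
  rw [h1, res_topSec]
  have h2 := res_app ν (image_le W U') t
  change toRing A ((ν.val.app (op (W.ι ''ᵁ U'))).hom (res N (image_le W U') t)) = _
  rw [← h2]
  rfl

include hN in
/-- **Annihilation**: a section of `A` over the quasi-compact open `W` vanishing on `W_t` is
killed by a power of `ν t`. -/
theorem kill [CompactSpace (↑W : Scheme.{u})] (τ : A.presheaf.obj (op W))
    (hτ : (A.presheaf.map (homOfLE (WT_le W t)).op).hom τ = 0) :
    ∃ k : ℕ, 0 < k ∧ τ * toRing A ((ν.val.app (op W)).hom t) ^ k = 0 := by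
  haveI : (restr A W).toModule.IsQuasicoherent :=
    Groth.Agent.Lib.helper16.QCAlg.isQuasicoherent_toModule (restr A W)
  have hNZ := Groth.Agent.Lib.helper11.InvMod.isInvertible_restrict W.ι hN
  have hker : (restr A W).toModule.val.map
      (homOfLE (le_top : CohB1.genLocus (N.restrict W.ι) (secHom N W t) ≤ ⊤)).op
      (ofRing (restr A W) ((A.presheaf.map (homOfLE (image_le W ⊤)).op).hom τ)) = 0 := by
    change (A.presheaf.map _).hom ((A.presheaf.map (homOfLE (image_le W ⊤)).op).hom τ) = 0
    rw [← CommRingCat.comp_apply, ← Functor.map_comp]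
    exact hτ
  obtain ⟨k, hk, h0⟩ := kill_top (restr A W).toModule hNZ (secHom N W t) _ hker
  refine ⟨k, hk, ?_⟩
  have h1 := mulPow_twist (restr A W) (restrHom A W ν) (secHom N W t) k ⊤
    ((A.presheaf.map (homOfLE (image_le W ⊤)).op).hom τ)
  rw [h0, map_zero, restrHom_val] at h1
  apply (res_bijective_of_eq A (Scheme.Opens.ι_image_top W) (image_le W ⊤)).1
  rw [map_mul, map_pow, map_zero]
  exact h1.symm

include hN in
/-- **Extension**: a section of `A` over `W_t`, multiplied by a power of `ν t`, extends to `W`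
(`W` quasi-compact and quasi-separated). -/
theorem extend [CompactSpace (↑W : Scheme.{u})] [QuasiSeparatedSpace (↑W : Scheme.{u})]
    (g : A.presheaf.obj (op (WT W t))) :
    ∃ m : ℕ, 0 < m ∧ ∃ σ' : A.presheaf.obj (op W),
      (A.presheaf.map (homOfLE (WT_le W t)).op).hom σ' =
        g * ((A.presheaf.map (homOfLE (WT_le W t)).op).hom
          (toRing A ((ν.val.app (op W)).hom t))) ^ m := by
  haveI : (restr A W).toModule.IsQuasicoherent :=
    Groth.Agent.Lib.helper16.QCAlg.isQuasicoherent_toModule (restr A W)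
  have hNZ := Groth.Agent.Lib.helper11.InvMod.isInvertible_restrict W.ι hN
  obtain ⟨m, hm, t', ht'⟩ := extend_top (restr A W).toModule hNZ (secHom N W t)
    (ofRing (restr A W) g)
  refine ⟨m, hm, ?_⟩
  obtain ⟨σ', hσ'⟩ := (res_bijective_of_eq A (Scheme.Opens.ι_image_top W) (image_le W ⊤)).2
    (toRing (restr A W) (((mulPow (restr A W) (restrHom A W ν) m).val.app (op ⊤)).hom t'))
  refine ⟨σ', ?_⟩
  have h1 := res_app (mulPow (restr A W) (restrHom A W ν) m)
    (le_top : CohB1.genLocus (N.restrict W.ι) (secHom N W t) ≤ ⊤) t'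
  rw [ht'] at h1
  have h2 := mulPow_twist (restr A W) (restrHom A W ν) (secHom N W t) m
    (CohB1.genLocus (N.restrict W.ι) (secHom N W t)) g
  rw [restrHom_val] at h2
  refine Eq.trans ?_ h2
  rw [← h1]
  change _ = (A.presheaf.map _).hom (toRing (restr A W)
    (((mulPow (restr A W) (restrHom A W ν) m).val.app (op ⊤)).hom t'))
  rw [← hσ', ← CommRingCat.comp_apply, ← Functor.map_comp]
  rfl

end KE

section KE'

variable {X : Scheme.{u}} (A : RelSpec.QCAlg X) {N : X.Modules} (ν : N ⟶ A.toModule)
  (hN : PicF.IsInvertible N) (W : X.Opens) (t : N.val.obj (op W))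

include hN in
/-- `kill` for an open equal to `W_t`. -/
theorem kill' [CompactSpace (↑W : Scheme.{u})] (O : X.Opens) (h : O = WT W t) (hle : O ≤ W)
    (τ : A.presheaf.obj (op W)) (hτ : (A.presheaf.map (homOfLE hle).op).hom τ = 0) :
    ∃ k : ℕ, 0 < k ∧ τ * toRing A ((ν.val.app (op W)).hom t) ^ k = 0 := by
  subst h
  exact kill A ν hN W t τ hτ

include hN in
/-- `extend` for an open equal to `W_t`. -/
theorem extend' [CompactSpace (↑W : Scheme.{u})] [QuasiSeparatedSpace (↑W : Scheme.{u})]
    (O : X.Opens) (h : O = WT W t) (hle : O ≤ W) (g : A.presheaf.obj (op O)) :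
    ∃ m : ℕ, 0 < m ∧ ∃ σ' : A.presheaf.obj (op W),
      (A.presheaf.map (homOfLE hle).op).hom σ' =
        g * ((A.presheaf.map (homOfLE hle).op).hom
          (toRing A ((ν.val.app (op W)).hom t))) ^ m := by
  subst h
  exact extend A ν hN W t g

end KE'

end Groth.Agent.Lib.helper28.SymLineExtend
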