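import Groth.Agent.Lib.Helper28.GrauertConv2
import Groth.Agent.Lib.Helper28.GrauertMap
import Groth.Agent.Lib.Helper28.GrauertAway
import Groth.Agent.Lib.Helper28.SymLineSec
import Groth.Agent.Lib.Helper28.SymLineExtend
import Groth.Agent.Lib.Helper28.PairGlue

/-!
# Grauert's criterion, necessity (helper28; EGA II 8.9.1, "only if" part)

`p : X ⟶ Y` quasi-compact quasi-separated, `L` invertible and `p`-ample, `V = V(L) = Spec(𝒜)`,
`B = coneAlg p 𝒜 aug = O_Y ×_{p_* O_X} p_* 𝒜`, `C = Spec(B)`, `q : V ⟶ C`, `ε : Y ⟶ C`.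
* `isLocalization_cone`: for `U ⊆ Y` affine, `t ∈ Γ(p⁻¹U, L^{n+1})` with `X_t` affine and
  `b = (0, μ t) ∈ B(U)`: `𝒜(X_t)[1/τ]` is the localization `B(U)_b`.
* `exists_chart`: each point of `V` off the zero section has a neighbourhood `q⁻¹(D(b))` mapped
  isomorphically onto the open `D(b)` of `C`, which misses `ε(Y)`.
* `exists_contraction_of_isRelAmple`: the conclusion of the criterion.
-/

set_option autoImplicit false
set_option linter.style.haveILetI false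
set_option linter.unusedSectionVars false
universe u
open CategoryTheory AlgebraicGeometry TopologicalSpace Opposite
open scoped HomogeneousIdeal

namespace Groth.Agent.Lib.helper28.Grauert

open Groth.Agent.Lib.helper28.SymLinePow Groth.Agent.Lib.helper28.SymLineGenLocus
  Groth.Agent.Lib.helper28.VertexSection Groth.Agent.Lib.helper28.RelSpecMap
  Groth.Agent.Lib.helper28.SymLineExtend Groth.Agent.Lib.helper28.GrauertFib
  Groth.Agent.Lib.helper28.PowMap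

theorem away_toAlgebra {A A' : Type*} [CommRing A] [CommRing A'] [Algebra A A'] (a : A)
    [h : IsLocalization.Away a A'] :
    letI := (algebraMap A A').toAlgebra; IsLocalization.Away a A' := by
  have h' := (isLocalization_iff (M := Submonoid.powers a) (S := A')).mp h
  letI := (algebraMap A A').toAlgebra
  exact (isLocalization_iff (M := Submonoid.powers a) (S := A')).mpr h'

variable {X Y : Scheme.{u}} (p : X ⟶ Y) {L : X.Modules} [L.IsQuasicoherent]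
  {𝒜 : RelProj.QCGrAlg X} {jL : L ⟶ 𝒜.toModule} (hA : RelProj.IsGrSymAlg L 𝒜 jL)
  (hL : PicF.IsInvertible L)
  {aug : 𝒜.toQCAlg ⟶ RelSpec.QCAlg.unit X} (haug : RelCone.IsAugmentation 𝒜 aug)

include hA hL haug in
/-- The augmentation kills sections of positive degree over any open. -/
theorem aug_μ (W : X.Opens) (n : ℕ) (t : (CohB1.tensorPow L (n + 1)).val.obj (op W)) :
    (aug.hom.app (op W)).hom (μ jL (n + 1) W t) = 0 := by
  refine PairGlue.eq_of_affine (B := RelSpec.QCAlg.unit X) W _ _ (fun X' hX' hle => ?_)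
  have h1 := congrArg (fun k => k.hom (μ jL (n + 1) W t)) (aug.hom.naturality (homOfLE hle).op)
  rw [map_zero]
  refine h1.symm.trans ?_
  change (aug.hom.app (op X')).hom ((𝒜.presheaf.map (homOfLE hle).op).hom (μ jL (n + 1) W t)) = 0
  rw [← μ_res]
  exact haug X' hX' n _ (μ_mem_deg hA hL (n + 1) X' hX' _)

variable [QuasiCompact p] [QuasiSeparated p]

/-- The section `(0, μ t)` of the cone algebra. -/
noncomputable def bElt (U : Y.Opens) (n : ℕ)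
    (t : (CohB1.tensorPow L (n + 1)).val.obj (op (p ⁻¹ᵁ U))) :
    (coneAlg p 𝒜.toQCAlg aug).presheaf.obj (op U) :=
  cmk p 𝒜.toQCAlg aug 0 (μ jL (n + 1) (p ⁻¹ᵁ U) t) (by
    rw [map_zero]
    exact (aug_μ hA hL haug (p ⁻¹ᵁ U) n t).symm)

theorem cval_bElt (U : Y.Opens) (n : ℕ)
    (t : (CohB1.tensorPow L (n + 1)).val.obj (op (p ⁻¹ᵁ U))) :
    cval p 𝒜.toQCAlg aug (bElt p hA hL haug U n t) = (0, μ jL (n + 1) (p ⁻¹ᵁ U) t) := rfl

include hA hL haug in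
/-- `𝒜(X_t)[1/τ]` is the localization of the cone ring over `U` at `b = (0, τ)`. -/
theorem isLocalization_cone (U : Y.Opens) (hU : IsAffineOpen U) (n : ℕ)
    (t : (CohB1.tensorPow L (n + 1)).val.obj (op (p ⁻¹ᵁ U)))
    {T : Type u} [CommRing T]
    (θ₀ : 𝒜.presheaf.obj (op (WT (p ⁻¹ᵁ U) t)) →+* T)
    (hθ₀ : letI := θ₀.toAlgebra
      IsLocalization.Away ((𝒜.presheaf.map (homOfLE (WT_le (p ⁻¹ᵁ U) t)).op).hom
        (μ jL (n + 1) (p ⁻¹ᵁ U) t)) T) :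
    letI := (θ₀.comp (coneLE p 𝒜.toQCAlg aug U (WT (p ⁻¹ᵁ U) t) (WT_le (p ⁻¹ᵁ U) t)).hom).toAlgebra
    IsLocalization.Away (bElt p hA hL haug U n t) T := by
  have hcW : IsCompact ((p ⁻¹ᵁ U : X.Opens) : Set X) :=
    QuasiCompact.isCompact_preimage (f := p) _ U.2 hU.isCompact
  haveI : CompactSpace ((p ⁻¹ᵁ U : X.Opens) : Scheme.{u}) := isCompact_iff_compactSpace.mp hcW
  haveI : QuasiSeparatedSpace ((p ⁻¹ᵁ U : X.Opens) : Scheme.{u}) := by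
    haveI : IsAffine (U : Scheme.{u}) := hU
    exact quasiSeparatedSpace_of_quasiSeparated (p ∣_ U)
  have hN := Groth.Agent.Lib.helper12.TensorInv.isInvertible_tensorPow hL (n + 1)
  have hτ : psi p 𝒜.toQCAlg aug U (μ jL (n + 1) (p ⁻¹ᵁ U) t) = 0 :=
    aug_μ hA hL haug (p ⁻¹ᵁ U) n t
  exact away_cone (phi p U) (psi p 𝒜.toQCAlg aug U)
    (𝒜.presheaf.map (homOfLE (WT_le (p ⁻¹ᵁ U) t)).op).hom θ₀ (μ jL (n + 1) (p ⁻¹ᵁ U) t) hτ hθ₀
    (fun s => by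
      obtain ⟨m, -, σ', hσ'⟩ := extend 𝒜.toQCAlg (powMap 𝒜.toQCAlg jL (n + 1)) hN (p ⁻¹ᵁ U) t s
      exact ⟨m, σ', hσ'⟩)
    (fun σ hσ => by
      obtain ⟨k, -, hk⟩ := kill 𝒜.toQCAlg (powMap 𝒜.toQCAlg jL (n + 1)) hN (p ⁻¹ᵁ U) t σ hσ
      exact ⟨k, hk⟩)


omit [QuasiCompact p] [QuasiSeparated p] in
include hA hL in
/-- If `τ = μ t` does not vanish at a point of a chart with a generator, the point lies over
`W_t`. -/
theorem mem_WT_of_notMem (W : X.Opens) (n : ℕ)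
    (t : (CohB1.tensorPow L (n + 1)).val.obj (op W)) {X' : X.Opens} (D : GenData L 𝒜 jL X')
    (hle : X' ≤ W) (P : Spec (𝒜.presheaf.obj (op X')))
    (hP : (𝒜.presheaf.map (homOfLE hle).op).hom (μ jL (n + 1) W t) ∉ P.asIdeal) :
    𝒜.toQCAlg.π ((𝒜.toQCAlg.ι X' D.hV) P) ∈ WT W t := by
  obtain ⟨c, hc⟩ := (D.bijective_smul_γ hL (n + 1)).2
    ((CohB1.tensorPow L (n + 1)).val.map (homOfLE hle).op t)
  have hτ' : (𝒜.presheaf.map (homOfLE hle).op).hom (μ jL (n + 1) W t) =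
      (𝒜.str.app (op X')).hom c * D.z ^ (n + 1) := by
    rw [← μ_res, ← D.μ_smul_γ (n + 1) c]
    exact congrArg (μ jL (n + 1) X') hc.symm
  rw [hτ'] at hP
  have hcP : (𝒜.str.app (op X')).hom c ∉ P.asIdeal := fun h => hP (Ideal.mul_mem_right _ _ h)
  set x := 𝒜.toQCAlg.π ((𝒜.toQCAlg.ι X' D.hV) P) with hx
  have hx' : x = D.hV.fromSpec ((Spec.map (𝒜.str.app (op X'))) P) := π_ι_apply _ D.hV P
  have hxc : x ∈ X.basicOpen c := by
    have h1 : (Spec.map (𝒜.str.app (op X'))) P ∈ D.hV.fromSpec ⁻¹ᵁ X.basicOpen c := by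
      rw [D.hV.fromSpec_preimage_basicOpen]
      exact hcP
    rw [hx']
    exact h1
  have hxX' : x ∈ X' := X.basicOpen_le c hxc
  -- generation over the basic open
  have hspan1 := deg_subset_span_basicOpen 𝒜 X' D.hV c (n + 1) (D.z ^ (n + 1))
    (deg_subset_span_z D (n + 1))
  have hle'' : X.basicOpen c ≤ W := (X.basicOpen_le c).trans hle
  have hunit : IsUnit ((𝒜.presheaf.map (homOfLE (X.basicOpen_le c)).op).hom
      ((𝒜.str.app (op X')).hom c)) := by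
    letI := (𝒜.presheaf.map (homOfLE (X.basicOpen_le c)).op).hom.toAlgebra
    haveI hloc : IsLocalization.Away ((𝒜.str.app (op X')).hom c)
      (𝒜.presheaf.obj (op (X.basicOpen c))) := 𝒜.isQC X' D.hV c
    exact IsLocalization.Away.algebraMap_isUnit ((𝒜.str.app (op X')).hom c)
  have hτ'' : (𝒜.presheaf.map (homOfLE hle'').op).hom (μ jL (n + 1) W t) =
      (𝒜.presheaf.map (homOfLE (X.basicOpen_le c)).op).hom ((𝒜.str.app (op X')).hom c) *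
        (𝒜.presheaf.map (homOfLE (X.basicOpen_le c)).op).hom (D.z ^ (n + 1)) := by
    rw [← map_mul, ← hτ', ← CommRingCat.comp_apply, ← Functor.map_comp]
    rfl
  refine ⟨⟨x, hle hxX'⟩, ?_, rfl⟩
  rw [SetLike.mem_coe, mem_genLocus_secHom_iff hA hL]
  refine ⟨X.basicOpen c, D.hV.basicOpen c, hle'', hxc, ?_⟩
  rw [hτ'', Ideal.span_singleton_mul_left_unit hunit]
  exact hspan1

omit [QuasiCompact p] [QuasiSeparated p] in
include hA haug in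
/-- A section generating its degree over an affine open does not vanish off the zero section. -/
theorem notMem_of_span (h0 : RelCone.StrZeroBij 𝒜) {j0 : X ⟶ 𝒜.toQCAlg.spec}
    (hj0 : RelCone.IsVertex 𝒜 aug j0) {X'' : X.Opens} (hX'' : IsAffineOpen X'') (d : ℕ)
    (σ : 𝒜.presheaf.obj (op X''))
    (hspan : ((𝒜.deg X'' hX'' d : AddSubgroup (𝒜.presheaf.obj (op X''))) :
      Set (𝒜.presheaf.obj (op X''))) ⊆ (Ideal.span {σ} : Set (𝒜.presheaf.obj (op X''))))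
    (P : Spec (𝒜.presheaf.obj (op X'')))
    (hP : (𝒜.toQCAlg.ι X'' hX'') P ∉ Set.range j0.base) : σ ∉ P.asIdeal := by
  intro hσ
  apply hP
  rw [mem_range_ε_iff 𝒜 aug j0 h0 haug hj0 X'' hX'' P]
  intro a ha
  have h1 := SymGraded.irrelevant_le_span L 𝒜 jL hA X'' hX'' ha
  refine (Ideal.span_le.mpr ?_) h1
  rintro _ ⟨m, rfl⟩
  have hb : (show 𝒜.presheaf.obj (op X'') from (jL.app X'').hom m) ∈ 𝒜.deg X'' hX'' 1 :=
    hA.2 X'' hX'' m
  have hbd : (show 𝒜.presheaf.obj (op X'') from (jL.app X'').hom m) ^ d ∈ 𝒜.deg X'' hX'' d := by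
    have := SetLike.pow_mem_graded d hb
    simpa using this
  have h2 : (show 𝒜.presheaf.obj (op X'') from (jL.app X'').hom m) ^ d ∈ P.asIdeal :=
    (Ideal.span_le.mpr (Set.singleton_subset_iff.mpr hσ)) (hspan hbd)
  exact P.isPrime.mem_of_pow_mem d h2


section Chart

variable {j0 : X ⟶ 𝒜.toQCAlg.spec} (hj0 : RelCone.IsVertex 𝒜 aug j0)
  (h0 : RelCone.StrZeroBij 𝒜)
  (ε : Y ⟶ (coneAlg p 𝒜.toQCAlg aug).spec)
  (q : 𝒜.toQCAlg.spec ⟶ (coneAlg p 𝒜.toQCAlg aug).spec)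
  (hεπ : ε ≫ (coneAlg p 𝒜.toQCAlg aug).π = 𝟙 Y)
  (hqπ : q ≫ (coneAlg p 𝒜.toQCAlg aug).π = 𝒜.toQCAlg.π ≫ p)
  (hε : ∀ (U : Y.Opens) (hU : IsAffineOpen U), hU.fromSpec ≫ ε =
    Spec.map ((coneAug p 𝒜.toQCAlg aug).hom.app (op U)) ≫ (coneAlg p 𝒜.toQCAlg aug).ι U hU)
  (hq : ∀ (U : Y.Opens) (hU : IsAffineOpen U) (X' : X.Opens) (hX' : IsAffineOpen X')
    (hle : X' ≤ p ⁻¹ᵁ U), 𝒜.toQCAlg.ι X' hX' ≫ q =
      Spec.map (coneLE p 𝒜.toQCAlg aug U X' hle) ≫ (coneAlg p 𝒜.toQCAlg aug).ι U hU)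

/-- The open `D(b)` of the cone, for a section `b` of the cone algebra over an affine open. -/
noncomputable def DB (U : Y.Opens) (hU : IsAffineOpen U)
    (b : (coneAlg p 𝒜.toQCAlg aug).presheaf.obj (op U)) : (coneAlg p 𝒜.toQCAlg aug).spec.Opens :=
  ((coneAlg p 𝒜.toQCAlg aug).ι U hU) ''ᵁ (PrimeSpectrum.basicOpen b)

theorem ι_mem_DB_iff (U : Y.Opens) (hU : IsAffineOpen U)
    (b : (coneAlg p 𝒜.toQCAlg aug).presheaf.obj (op U))
    (Q : Spec ((coneAlg p 𝒜.toQCAlg aug).presheaf.obj (op U))) :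
    ((coneAlg p 𝒜.toQCAlg aug).ι U hU) Q ∈ DB p U hU b ↔ b ∉ Q.asIdeal := by
  constructor
  · rintro ⟨Q', hQ', hQQ'⟩
    have : Q' = Q := ((coneAlg p 𝒜.toQCAlg aug).ι U hU).isOpenEmbedding.injective hQQ'
    rw [← this]
    exact hQ'
  · intro h
    exact ⟨Q, h, rfl⟩

include hq in
theorem q_mem_DB_iff (U : Y.Opens) (hU : IsAffineOpen U)
    (b : (coneAlg p 𝒜.toQCAlg aug).presheaf.obj (op U)) (X' : X.Opens) (hX' : IsAffineOpen X')
    (hle : X' ≤ p ⁻¹ᵁ U) (P : Spec (𝒜.presheaf.obj (op X'))) :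
    q ((𝒜.toQCAlg.ι X' hX') P) ∈ DB p U hU b ↔
      (𝒜.presheaf.map (homOfLE hle).op).hom (cval p 𝒜.toQCAlg aug b).2 ∉ P.asIdeal := by
  have h1 : q ((𝒜.toQCAlg.ι X' hX') P) = ((coneAlg p 𝒜.toQCAlg aug).ι U hU)
      ((Spec.map (coneLE p 𝒜.toQCAlg aug U X' hle)) P) := by
    have := congrArg (fun k => k.base P) (hq U hU X' hX' hle)
    exact this
  rw [h1, ι_mem_DB_iff]
  rfl

include hεπ hε in
theorem ε_notMem_DB (U : Y.Opens) (hU : IsAffineOpen U)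
    (b : (coneAlg p 𝒜.toQCAlg aug).presheaf.obj (op U))
    (hb : (cval p 𝒜.toQCAlg aug b).1 = 0) (y : Y) : ε y ∉ DB p U hU b := by
  rintro ⟨Q, hQ, hQy'⟩
  have hQy : ((coneAlg p 𝒜.toQCAlg aug).ι U hU) Q = ε y := hQy'
  have hyU : y ∈ U := by
    have h1 : (coneAlg p 𝒜.toQCAlg aug).π (ε y) = y := by
      have := congrArg (fun k => k.base y) hεπ
      exact this
    have h2 : ((coneAlg p 𝒜.toQCAlg aug).ι U hU) Q ∈
        Set.range ((coneAlg p 𝒜.toQCAlg aug).ι U hU).base := ⟨Q, rfl⟩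
    rw [range_ι, hQy] at h2
    have h3 : (coneAlg p 𝒜.toQCAlg aug).π (ε y) ∈ U := h2
    rw [h1] at h3
    exact h3
  have h4 : ε y = ((coneAlg p 𝒜.toQCAlg aug).ι U hU)
      ((Spec.map ((coneAug p 𝒜.toQCAlg aug).hom.app (op U))) (hU.primeIdealOf ⟨y, hyU⟩)) := by
    have h5 := congrArg (fun k => k.base (hU.primeIdealOf ⟨y, hyU⟩)) (hε U hU)
    have h6 : hU.fromSpec (hU.primeIdealOf ⟨y, hyU⟩) = y := hU.fromSpec_primeIdealOf ⟨y, hyU⟩
    have h7 : ε (hU.fromSpec (hU.primeIdealOf ⟨y, hyU⟩)) = _ := h5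
    rw [h6] at h7
    exact h7
  have h8 : Q = (Spec.map ((coneAug p 𝒜.toQCAlg aug).hom.app (op U)))
      (hU.primeIdealOf ⟨y, hyU⟩) :=
    ((coneAlg p 𝒜.toQCAlg aug).ι U hU).isOpenEmbedding.injective (hQy.trans h4)
  have h9 : b ∉ Q.asIdeal := hQ
  apply h9
  rw [h8]
  change ((coneAug p 𝒜.toQCAlg aug).hom.app (op U)).hom b ∈ (hU.primeIdealOf ⟨y, hyU⟩).asIdeal
  rw [coneAug_apply, hb]
  exact zero_mem _


include hA hL haug hj0 h0 hqπ hq in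
theorem exists_chart (v : 𝒜.toQCAlg.spec) (hv : v ∉ Set.range j0.base) (U : Y.Opens)
    (hU : IsAffineOpen U) (hvU : 𝒜.toQCAlg.π v ∈ p ⁻¹ᵁ U)
    (hample : CohB1.IsAmple (L.restrict (p ⁻¹ᵁ U).ι)) :
    ∃ b : (coneAlg p 𝒜.toQCAlg aug).presheaf.obj (op U), (cval p 𝒜.toQCAlg aug b).1 = 0 ∧
      q v ∈ DB p U hU b ∧
      ∃ (Z : Scheme.{u}) (k : Z ⟶ 𝒜.toQCAlg.spec), IsOpenImmersion k ∧ IsOpenImmersion (k ≫ q) ∧
        Set.range k.base = q.base ⁻¹' (DB p U hU b : Set (coneAlg p 𝒜.toQCAlg aug).spec) := by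
  obtain ⟨n, t, hxt, haff⟩ := SymLineSec.exists_sec_of_isAmple (p ⁻¹ᵁ U) hample
    ⟨𝒜.toQCAlg.π v, hvU⟩
  have hXt : IsAffineOpen (WT (p ⁻¹ᵁ U) t) := haff.image_of_isOpenImmersion (p ⁻¹ᵁ U).ι
  obtain ⟨ρτ, hρτ⟩ : ∃ ρτ : 𝒜.presheaf.obj (op (WT (p ⁻¹ᵁ U) t)),
    ρτ = (𝒜.presheaf.map (homOfLE (WT_le (p ⁻¹ᵁ U) t)).op).hom (μ jL (n + 1) (p ⁻¹ᵁ U) t) :=
    ⟨_, rfl⟩
  let θ₀ : 𝒜.presheaf.obj (op (WT (p ⁻¹ᵁ U) t)) →+* Localization.Away ρτ := algebraMap _ _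
  have hθ₀ : letI := θ₀.toAlgebra; IsLocalization.Away ρτ (Localization.Away ρτ) :=
    away_toAlgebra ρτ
  have hloc := isLocalization_cone p hA hL haug U hU n t θ₀ (by rw [← hρτ]; exact hθ₀)
  refine ⟨bElt p hA hL haug U n t, rfl, ?_, Spec (CommRingCat.of (Localization.Away ρτ)),
    Spec.map (CommRingCat.ofHom θ₀) ≫ 𝒜.toQCAlg.ι (WT (p ⁻¹ᵁ U) t) hXt, ?_, ?_, ?_⟩
  · obtain ⟨X'', hX'', hle'', hxX'', hspan⟩ :=
      (mem_genLocus_secHom_iff hA hL (p ⁻¹ᵁ U) (n + 1) t ⟨𝒜.toQCAlg.π v, hvU⟩).mp hxt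
    have hvr : v ∈ Set.range (𝒜.toQCAlg.ι X'' hX'').base := by
      rw [range_ι]
      exact hxX''
    obtain ⟨P, rfl⟩ := hvr
    rw [q_mem_DB_iff p q hq U hU _ X'' hX'' hle'' P]
    exact notMem_of_span hA haug h0 hj0 hX'' (n + 1) _ hspan P hv
  · haveI : IsOpenImmersion (Spec.map (CommRingCat.ofHom θ₀)) :=
      IsOpenImmersion.of_isLocalization ρτ
    infer_instance
  · have e : (Spec.map (CommRingCat.ofHom θ₀) ≫ 𝒜.toQCAlg.ι (WT (p ⁻¹ᵁ U) t) hXt) ≫ q =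
        Spec.map (CommRingCat.ofHom (θ₀.comp (coneLE p 𝒜.toQCAlg aug U (WT (p ⁻¹ᵁ U) t)
          (WT_le (p ⁻¹ᵁ U) t)).hom)) ≫ (coneAlg p 𝒜.toQCAlg aug).ι U hU := by
      rw [Category.assoc, hq U hU (WT (p ⁻¹ᵁ U) t) hXt (WT_le (p ⁻¹ᵁ U) t), ← Category.assoc,
        ← Spec.map_comp]
      rfl
    rw [e]
    letI := (θ₀.comp (coneLE p 𝒜.toQCAlg aug U (WT (p ⁻¹ᵁ U) t)
      (WT_le (p ⁻¹ᵁ U) t)).hom).toAlgebra
    haveI := hloc
    haveI : IsOpenImmersion (Spec.map (CommRingCat.ofHom (θ₀.comp (coneLE p 𝒜.toQCAlg aug U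
        (WT (p ⁻¹ᵁ U) t) (WT_le (p ⁻¹ᵁ U) t)).hom))) :=
      IsOpenImmersion.of_isLocalization (bElt p hA hL haug U n t)
    infer_instance
  · ext v'
    constructor
    · rintro ⟨z, rfl⟩
      change q ((𝒜.toQCAlg.ι (WT (p ⁻¹ᵁ U) t) hXt) ((Spec.map (CommRingCat.ofHom θ₀)) z)) ∈
        DB p U hU _
      rw [q_mem_DB_iff p q hq U hU _ (WT (p ⁻¹ᵁ U) t) hXt (WT_le (p ⁻¹ᵁ U) t)]
      change (𝒜.presheaf.map (homOfLE (WT_le (p ⁻¹ᵁ U) t)).op).hom (μ jL (n + 1) (p ⁻¹ᵁ U) t) ∉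
        ((Spec.map (CommRingCat.ofHom θ₀)) z).asIdeal
      rw [← hρτ]
      intro hmem
      have hmem' : θ₀ ρτ ∈ z.asIdeal := hmem
      have hu : IsUnit (θ₀ ρτ) := IsLocalization.Away.algebraMap_isUnit ρτ
      exact z.isPrime.ne_top (Ideal.eq_top_of_isUnit_mem _ hmem' hu)
    · intro hv'
      have hv'' : q v' ∈ DB p U hU (bElt p hA hL haug U n t) := hv'
      have hx'W : 𝒜.toQCAlg.π v' ∈ p ⁻¹ᵁ U := by
        obtain ⟨Q, -, hQ⟩ := hv''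
        have h2 : ((coneAlg p 𝒜.toQCAlg aug).ι U hU) Q ∈
            Set.range ((coneAlg p 𝒜.toQCAlg aug).ι U hU).base := ⟨Q, rfl⟩
        rw [range_ι] at h2
        have hQ' : ((coneAlg p 𝒜.toQCAlg aug).ι U hU) Q = q v' := hQ
        rw [hQ'] at h2
        have h3 : (coneAlg p 𝒜.toQCAlg aug).π (q v') = p (𝒜.toQCAlg.π v') := by
          have := congrArg (fun k => k.base v') hqπ
          exact this
        have h4 : (coneAlg p 𝒜.toQCAlg aug).π (q v') ∈ U := h2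
        rw [h3] at h4
        exact h4
      obtain ⟨X', hx'X', hX'W, ⟨D⟩⟩ := exists_genData hA hL (𝒜.toQCAlg.π v') (p ⁻¹ᵁ U) hx'W
      have hvr : v' ∈ Set.range (𝒜.toQCAlg.ι X' D.hV).base := by
        rw [range_ι]
        exact hx'X'
      obtain ⟨P, rfl⟩ := hvr
      rw [q_mem_DB_iff p q hq U hU _ X' D.hV hX'W P] at hv''
      have hxt' := mem_WT_of_notMem hA hL (p ⁻¹ᵁ U) n t D hX'W P hv''
      have hvr2 : (𝒜.toQCAlg.ι X' D.hV) P ∈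
          Set.range (𝒜.toQCAlg.ι (WT (p ⁻¹ᵁ U) t) hXt).base := by
        rw [range_ι]
        exact hxt'
      obtain ⟨Q, hQ⟩ := hvr2
      have hQ1 : (𝒜.toQCAlg.ι (WT (p ⁻¹ᵁ U) t) hXt) Q = (𝒜.toQCAlg.ι X' D.hV) P := hQ
      have hQ' : q ((𝒜.toQCAlg.ι (WT (p ⁻¹ᵁ U) t) hXt) Q) ∈
          DB p U hU (bElt p hA hL haug U n t) := by
        rw [hQ1]
        exact hv'
      rw [q_mem_DB_iff p q hq U hU _ (WT (p ⁻¹ᵁ U) t) hXt (WT_le (p ⁻¹ᵁ U) t) Q] at hQ'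
      have hQ2 : ρτ ∉ Q.asIdeal := by
        rw [hρτ]
        exact hQ'
      have hrange := PrimeSpectrum.localization_away_comap_range (Localization.Away ρτ) ρτ
      have hQmem : (Q : PrimeSpectrum (𝒜.presheaf.obj (op (WT (p ⁻¹ᵁ U) t)))) ∈
          Set.range (PrimeSpectrum.comap (algebraMap (𝒜.presheaf.obj (op (WT (p ⁻¹ᵁ U) t)))
            (Localization.Away ρτ))) := by
        rw [hrange]
        exact hQ2
      obtain ⟨z, hz⟩ := hQmem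
      refine ⟨z, ?_⟩
      change (𝒜.toQCAlg.ι (WT (p ⁻¹ᵁ U) t) hXt) ((Spec.map (CommRingCat.ofHom θ₀)) z) = _
      rw [← hQ1]
      exact congrArg (fun w => (𝒜.toQCAlg.ι (WT (p ⁻¹ᵁ U) t) hXt) w) hz


variable {V0 : 𝒜.toQCAlg.spec.Opens} (hV0 : (V0 : Set 𝒜.toQCAlg.spec) = (Set.range j0.base)ᶜ)
  (hjq : j0 ≫ q = p ≫ ε) (hample : RelAmple.IsRelAmple p L)

include hA hL haug hj0 h0 hεπ hqπ hε hq hV0 hjq hample in
theorem isOpenImmersion_of_isRelAmple : IsOpenImmersion (V0.ι ≫ q) := by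
  refine IsZariskiLocalAtTarget.of_forall_source_exists_preimage (P := @IsOpenImmersion)
    (V0.ι ≫ q) (fun v' => ?_)
  have hv : V0.ι v' ∉ Set.range j0.base := by
    have h1 : V0.ι v' ∈ (V0 : Set 𝒜.toQCAlg.spec) := v'.2
    rw [hV0] at h1
    exact h1
  obtain ⟨U, hU, hxU⟩ : ∃ U : Y.Opens, IsAffineOpen U ∧ p (𝒜.toQCAlg.π (V0.ι v')) ∈ U := by
    obtain ⟨_, ⟨U, hU, rfl⟩, hxU, -⟩ := Y.isBasis_affineOpens.exists_subset_of_mem_open
      (Set.mem_univ (p (𝒜.toQCAlg.π (V0.ι v')))) isOpen_univ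
    exact ⟨U, hU, hxU⟩
  obtain ⟨b, hb, hqv, Z, k, hk1, hk2, hk3⟩ := exists_chart p hA hL haug hj0 h0 q hqπ hq
    (V0.ι v') hv U hU hxU (hample.2 ⟨U, hU⟩)
  refine ⟨DB p U hU b, hqv, ?_⟩
  haveI := hk1
  haveI := hk2
  have hrange : Set.range (((V0.ι ≫ q) ⁻¹ᵁ DB p U hU b).ι ≫ V0.ι).base = Set.range k.base := by
    rw [hk3]
    ext w
    constructor
    · rintro ⟨w', rfl⟩
      exact w'.2
    · intro hw
      have hwV0 : w ∈ V0 := by
        change w ∈ (V0 : Set 𝒜.toQCAlg.spec)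
        rw [hV0]
        rintro ⟨x, rfl⟩
        have h1 : q (j0 x) = ε (p x) := by
          have := congrArg (fun k => k.base x) hjq
          exact this
        have h2 : q (j0 x) ∈ DB p U hU b := hw
        rw [h1] at h2
        exact ε_notMem_DB p ε hεπ hε U hU b hb (p x) h2
      exact ⟨⟨⟨w, hwV0⟩, hw⟩, rfl⟩
  have hfac := IsOpenImmersion.isoOfRangeEq_hom_fac
    (((V0.ι ≫ q) ⁻¹ᵁ DB p U hU b).ι ≫ V0.ι) k hrange
  have e : ((V0.ι ≫ q) ⁻¹ᵁ DB p U hU b).ι ≫ V0.ι ≫ q =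
      (IsOpenImmersion.isoOfRangeEq (((V0.ι ≫ q) ⁻¹ᵁ DB p U hU b).ι ≫ V0.ι) k hrange).hom ≫
        (k ≫ q) := by
    rw [← Category.assoc, ← Category.assoc, hfac]
  rw [e]
  infer_instance

include hA hL haug hj0 h0 hεπ hqπ hε hq hV0 hample in
theorem disjoint_of_isRelAmple :
    Set.range (V0.ι ≫ q).base ∩ Set.range ε.base = ∅ := by
  rw [Set.eq_empty_iff_forall_notMem]
  rintro c ⟨⟨v', rfl⟩, ⟨y, hy⟩⟩
  have hv : V0.ι v' ∉ Set.range j0.base := by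
    have h1 : V0.ι v' ∈ (V0 : Set 𝒜.toQCAlg.spec) := v'.2
    rw [hV0] at h1
    exact h1
  obtain ⟨U, hU, hxU⟩ : ∃ U : Y.Opens, IsAffineOpen U ∧ p (𝒜.toQCAlg.π (V0.ι v')) ∈ U := by
    obtain ⟨_, ⟨U, hU, rfl⟩, hxU, -⟩ := Y.isBasis_affineOpens.exists_subset_of_mem_open
      (Set.mem_univ (p (𝒜.toQCAlg.π (V0.ι v')))) isOpen_univ
    exact ⟨U, hU, hxU⟩
  obtain ⟨b, hb, hqv, -⟩ := exists_chart p hA hL haug hj0 h0 q hqπ hq
    (V0.ι v') hv U hU hxU (hample.2 ⟨U, hU⟩)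
  have h1 : ε y = q (V0.ι v') := hy
  rw [← h1] at hqv
  exact ε_notMem_DB p ε hεπ hε U hU b hb y hqv


omit [QuasiCompact p] [QuasiSeparated p] in
include h0 haug hj0 in
theorem ι_mem_range_iff_z_mem {X' : X.Opens} (D : GenData L 𝒜 jL X')
    (P : Spec (𝒜.presheaf.obj (op X'))) :
    (𝒜.toQCAlg.ι X' D.hV) P ∈ Set.range j0.base ↔ D.z ∈ P.asIdeal := by
  rw [mem_range_ε_iff 𝒜 aug j0 h0 haug hj0 X' D.hV P]
  constructor
  · intro h
    have hz1 : D.z ∈ 𝒜.deg X' D.hV 1 := D.hz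
    exact h (HomogeneousIdeal.mem_irrelevant_of_mem _ Nat.one_pos hz1)
  · intro hz
    rw [HomogeneousIdeal.toIdeal_irrelevant_le]
    intro i hi x hx
    obtain ⟨w, hw⟩ := Ideal.mem_span_singleton'.mp (deg_subset_span_z D i hx)
    rw [← hw]
    obtain ⟨i', rfl⟩ : ∃ i', i = i' + 1 := ⟨i - 1, by omega⟩
    rw [pow_succ]
    exact Ideal.mul_mem_left _ _ (Ideal.mul_mem_left _ _ hz)

omit [QuasiCompact p] [QuasiSeparated p] in
include hA hL h0 haug hj0 hV0 in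
theorem quasiCompact_ι : QuasiCompact V0.ι := by
  refine IsZariskiLocalAtTarget.of_forall_exists_morphismRestrict (P := @QuasiCompact)
    (fun v => ?_)
  obtain ⟨X', hxX', -, ⟨D⟩⟩ := exists_genData hA hL (𝒜.toQCAlg.π v) ⊤ trivial
  refine ⟨𝒜.toQCAlg.π ⁻¹ᵁ X', hxX', ?_⟩
  have hO : IsAffineOpen (𝒜.toQCAlg.π ⁻¹ᵁ X') := D.hV.preimage 𝒜.toQCAlg.π
  haveI : IsAffine ((𝒜.toQCAlg.π ⁻¹ᵁ X' : 𝒜.toQCAlg.spec.Opens) : Scheme.{u}) := hO
  rw [HasAffineProperty.iff_of_isAffine (P := @QuasiCompact)]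
  refine isCompact_iff_compactSpace.mp ?_
  have hK : IsCompact ((𝒜.toQCAlg.ι X' D.hV).base '' {P : Spec (𝒜.presheaf.obj (op X')) | D.z ∉ P.asIdeal}) :=
    IsCompact.image (PrimeSpectrum.isCompact_basicOpen D.z) (𝒜.toQCAlg.ι X' D.hV).continuous
  have hKV0 : (𝒜.toQCAlg.ι X' D.hV).base '' {P : Spec (𝒜.presheaf.obj (op X')) | D.z ∉ P.asIdeal} ⊆
      Set.range V0.ι.base := by
    rintro _ ⟨P, hP, rfl⟩
    have h1 : (𝒜.toQCAlg.ι X' D.hV) P ∈ (V0 : Set 𝒜.toQCAlg.spec) := by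
      rw [hV0]
      intro h
      exact hP ((ι_mem_range_iff_z_mem haug hj0 h0 D P).mp h)
    exact ⟨⟨_, h1⟩, rfl⟩
  have heq : ((V0.ι ⁻¹ᵁ (𝒜.toQCAlg.π ⁻¹ᵁ X') : (V0 : Scheme.{u}).Opens) : Set (V0 : Scheme.{u})) =
      V0.ι.base ⁻¹' ((𝒜.toQCAlg.ι X' D.hV).base '' {P : Spec (𝒜.presheaf.obj (op X')) | D.z ∉ P.asIdeal}) := by
    ext w
    constructor
    · intro hw
      have hw1 : V0.ι w ∈ Set.range (𝒜.toQCAlg.ι X' D.hV).base := by
        rw [range_ι]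
        exact hw
      obtain ⟨P, hP⟩ := hw1
      refine ⟨P, ?_, hP⟩
      intro hz
      have h2 : (𝒜.toQCAlg.ι X' D.hV) P ∈ Set.range j0.base :=
        (ι_mem_range_iff_z_mem haug hj0 h0 D P).mpr hz
      have h3 : V0.ι w ∈ (V0 : Set 𝒜.toQCAlg.spec) := w.2
      rw [hV0] at h3
      apply h3
      have hP' : (𝒜.toQCAlg.ι X' D.hV) P = V0.ι w := hP
      rw [← hP']
      exact h2
    · rintro ⟨P, -, hP⟩
      have hP' : (𝒜.toQCAlg.ι X' D.hV) P = V0.ι w := hP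
      have h1 : (𝒜.toQCAlg.ι X' D.hV) P ∈ Set.range (𝒜.toQCAlg.ι X' D.hV).base := ⟨P, rfl⟩
      rw [range_ι, hP'] at h1
      exact h1
  rw [heq]
  exact (V0.ι.isOpenEmbedding.isInducing.isCompact_preimage_iff hKV0).mpr hK

include hA hL haug hj0 h0 hqπ hV0 in
theorem quasiCompact_comp : QuasiCompact (V0.ι ≫ q) := by
  haveI : QuasiCompact V0.ι := quasiCompact_ι hA hL haug hj0 h0 hV0
  haveI : QuasiCompact ((V0.ι ≫ q) ≫ (coneAlg p 𝒜.toQCAlg aug).π) := by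
    rw [Category.assoc, hqπ]
    infer_instance
  exact QuasiCompact.of_comp (V0.ι ≫ q) (coneAlg p 𝒜.toQCAlg aug).π

end Chart


section Main

variable {j0 : X ⟶ 𝒜.toQCAlg.spec} (hj0 : RelCone.IsVertex 𝒜 aug j0)
  (h0 : RelCone.StrZeroBij 𝒜)
  {V0 : 𝒜.toQCAlg.spec.Opens} (hV0 : (V0 : Set 𝒜.toQCAlg.spec) = (Set.range j0.base)ᶜ)

include hA hL haug hj0 h0 hV0 in
/-- **Grauert's criterion, necessity** (EGA II 8.9.1): if `L` is ample relative to the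
quasi-compact quasi-separated `p`, the cone `C = Spec(O_Y ×_{p_* O_X} p_* Sym L)` with its vertex
section `ε` and the contraction `q : V(L) ⟶ C` satisfy the conditions of the criterion. -/
theorem exists_contraction_of_isRelAmple (hample : RelAmple.IsRelAmple p L) :
    ∃ (ε : Y ⟶ (coneAlg p 𝒜.toQCAlg aug).spec)
      (q : 𝒜.toQCAlg.spec ⟶ (coneAlg p 𝒜.toQCAlg aug).spec),
      ε ≫ (coneAlg p 𝒜.toQCAlg aug).π = 𝟙 Y ∧
      q ≫ (coneAlg p 𝒜.toQCAlg aug).π = 𝒜.toQCAlg.π ≫ p ∧ j0 ≫ q = p ≫ ε ∧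
      IsOpenImmersion (V0.ι ≫ q) ∧ QuasiCompact (V0.ι ≫ q) ∧
      Set.range (V0.ι ≫ q).base ∩ Set.range ε.base = ∅ := by
  obtain ⟨ε, q, hεπ, hqπ, hjq, hε, hq⟩ := exists_contraction p 𝒜.toQCAlg aug j0 hj0.chart
  exact ⟨ε, q, hεπ, hqπ, hjq,
    isOpenImmersion_of_isRelAmple p hA hL haug hj0 h0 ε q hεπ hqπ hε hq hV0 hjq hample,
    quasiCompact_comp p hA hL haug hj0 h0 q hqπ hV0,
    disjoint_of_isRelAmple p hA hL haug hj0 h0 ε q hεπ hqπ hε hq hV0 hample⟩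

end Main

end Groth.Agent.Lib.helper28.Grauert
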