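import Groth.Agent.Lib.Helper28.PolyGrade

/-!
# The generic point of a fibre of a line bundle, algebraically (helper28)

`B = A₀[z]` graded with `A₀` in degree `0` and `z` in degree `1`, `𝔭` a prime of `A₀`.
* `extP ι 𝔭 = 𝔭 B`: prime, homogeneous, `ι c * z ^ k ∈ 𝔭 B ↔ c ∈ 𝔭`, `z ∉ 𝔭 B`.
* For a retraction `aug : B → A₀` of `ι` killing the positive degrees: `comap aug 𝔭` is homogeneous.
-/

set_option autoImplicit false
universe u

namespace Groth.Agent.Lib.helper28.GrauertPrime

open Polynomial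

variable {A₀ B : Type u} [CommRing A₀] [CommRing B] (ℬ : ℕ → AddSubgroup B) [GradedRing ℬ]
  (ι : A₀ →+* B) (z : B)

/-- `𝔭 B`. -/
def extP (𝔭 : Ideal A₀) : Ideal B := Ideal.map ι 𝔭

variable {ι z}

theorem mem_extP_iff (hpoly : Function.Bijective (Polynomial.eval₂RingHom ι z)) (𝔭 : Ideal A₀)
    (Q : Polynomial A₀) :
    Polynomial.eval₂RingHom ι z Q ∈ extP ι 𝔭 ↔ ∀ k, Q.coeff k ∈ 𝔭 := by
  let e : Polynomial A₀ ≃+* B := RingEquiv.ofBijective _ hpoly
  have hι : ι = (e : Polynomial A₀ →+* B).comp Polynomial.C := by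
    ext a
    change ι a = Polynomial.eval₂RingHom ι z (Polynomial.C a)
    rw [Polynomial.coe_eval₂RingHom, Polynomial.eval₂_C]
  have h1 : extP ι 𝔭 = Ideal.map (e : Polynomial A₀ →+* B) (Ideal.map Polynomial.C 𝔭) := by
    unfold extP
    rw [Ideal.map_map, ← hι]
  rw [h1, ← Ideal.mem_map_C_iff]
  change e Q ∈ Ideal.map (e : Polynomial A₀ →+* B) _ ↔ _
  constructor
  · intro h
    have h2 := Ideal.mem_map_of_mem (e.symm : B →+* Polynomial A₀) h
    rw [Ideal.map_map] at h2
    have h3 : ((e.symm : B →+* Polynomial A₀).comp (e : Polynomial A₀ →+* B)) =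
        RingHom.id _ := by
      ext : 1
      · simp
      · simp
    rw [h3, Ideal.map_id] at h2
    have h4 : (e.symm : B →+* Polynomial A₀) (e Q) = Q := e.symm_apply_apply Q
    rw [h4] at h2
    exact h2
  · intro h
    exact Ideal.mem_map_of_mem _ h

theorem isPrime_extP (hpoly : Function.Bijective (Polynomial.eval₂RingHom ι z)) (𝔭 : Ideal A₀)
    [h𝔭 : 𝔭.IsPrime] : (extP ι 𝔭).IsPrime := by
  let e : Polynomial A₀ ≃+* B := RingEquiv.ofBijective _ hpoly
  have hι : ι = (e : Polynomial A₀ →+* B).comp Polynomial.C := by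
    ext a
    change ι a = Polynomial.eval₂RingHom ι z (Polynomial.C a)
    rw [Polynomial.coe_eval₂RingHom, Polynomial.eval₂_C]
  have h1 : extP ι 𝔭 = Ideal.map (e : Polynomial A₀ →+* B) (Ideal.map Polynomial.C 𝔭) := by
    unfold extP
    rw [Ideal.map_map, ← hι]
  rw [h1]
  have : (Ideal.map (Polynomial.C : A₀ →+* Polynomial A₀) 𝔭).IsPrime :=
    Ideal.isPrime_map_C_of_isPrime
  exact Ideal.map_isPrime_of_equiv e

theorem term_mem_extP_iff (hpoly : Function.Bijective (Polynomial.eval₂RingHom ι z))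
    (𝔭 : Ideal A₀) (c : A₀) (k : ℕ) : ι c * z ^ k ∈ extP ι 𝔭 ↔ c ∈ 𝔭 := by
  have h1 : ι c * z ^ k = Polynomial.eval₂RingHom ι z (Polynomial.monomial k c) := by
    rw [Polynomial.coe_eval₂RingHom, Polynomial.eval₂_monomial]
  rw [h1, mem_extP_iff hpoly]
  constructor
  · intro h
    have := h k
    rwa [Polynomial.coeff_monomial, if_pos rfl] at this
  · intro h j
    rw [Polynomial.coeff_monomial]
    split_ifs
    · exact h
    · exact zero_mem _

theorem isHomogeneous_extP (hι : ∀ a, ι a ∈ ℬ 0) (𝔭 : Ideal A₀) :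
    (extP ι 𝔭).IsHomogeneous ℬ := by
  unfold extP Ideal.map
  refine Ideal.homogeneous_span ℬ _ ?_
  rintro _ ⟨a, _, rfl⟩
  exact ⟨0, hι a⟩

theorem z_notMem_extP (hpoly : Function.Bijective (Polynomial.eval₂RingHom ι z))
    (𝔭 : Ideal A₀) [h𝔭 : 𝔭.IsPrime] : z ∉ extP ι 𝔭 := by
  intro h
  have h1 : ι 1 * z ^ 1 ∈ extP ι 𝔭 := by
    rw [map_one, one_mul, pow_one]
    exact h
  rw [term_mem_extP_iff hpoly] at h1
  exact h𝔭.ne_top ((Ideal.eq_top_iff_one _).mpr h1)

theorem comap_extP (hpoly : Function.Bijective (Polynomial.eval₂RingHom ι z))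
    (𝔭 : Ideal A₀) : (extP ι 𝔭).comap ι = 𝔭 := by
  ext c
  rw [Ideal.mem_comap]
  have := term_mem_extP_iff hpoly 𝔭 c 0
  rwa [pow_zero, mul_one] at this

/-- The preimage of a prime of `A₀` under an augmentation is homogeneous. -/
theorem isHomogeneous_comap_aug (aug : B →+* A₀)
    (haug : ∀ (d : ℕ) (x : B), x ∈ ℬ (d + 1) → aug x = 0) (𝔭 : Ideal A₀) :
    (𝔭.comap aug).IsHomogeneous ℬ := by
  classical
  intro k b hb
  rw [Ideal.mem_comap] at hb ⊢
  have haug' : ∀ (j : ℕ), j ≠ 0 → aug (DirectSum.decompose ℬ b j : B) = 0 := by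
    intro j hj
    obtain ⟨d, rfl⟩ : ∃ d, j = d + 1 := ⟨j - 1, by omega⟩
    exact haug d _ (SetLike.coe_mem _)
  by_cases hk : k = 0
  · subst hk
    have hsum : aug b = aug (DirectSum.decompose ℬ b 0 : B) := by
      conv_lhs => rw [← DirectSum.sum_support_decompose ℬ b]
      rw [map_sum]
      by_cases h0 : 0 ∈ (DirectSum.decompose ℬ b).support
      · rw [Finset.sum_eq_single_of_mem 0 h0]
        intro j _ hj
        exact haug' j hj
      · rw [Finset.sum_eq_zero]
        · rw [DFinsupp.notMem_support_iff.mp h0]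
          simp
        · intro j hj
          have : j ≠ 0 := by
            rintro rfl
            exact h0 hj
          exact haug' j this
    rw [← hsum]
    exact hb
  · rw [haug' k hk]
    exact zero_mem _

end Groth.Agent.Lib.helper28.GrauertPrime
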