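import Groth.Agent.Lib.Helper28.GrauertNec
import Groth.Agent.Lib.Helper28.GrauertInt
import Groth.Agent.Lib.Helper28.ChartLocal
import Groth.Agent.Lib.Helper28.RelSpecLocal

/-!
# Grauert's criterion, necessity in the proper case (helper28; EGA II 8.9.1)

`p : X ⟶ Y` proper, `L` `p`-ample, `V = V(L)`, `C = Spec(O_Y ×_{p_* O_X} p_* Sym L)`,
`q : V ⟶ C`, `ε : Y ⟶ C`.
* `isIntegralHom_hLift`: `V ⟶ X ×_Y C` is integral (locally `O(X')[z]` over a ring containing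
  `O(X')` and a unit multiple of `z^{n+1}`), hence `isProper_q`: `q` is proper.
* `range_eq_compl`: `q(V ∖ j0(X)) = C ∖ ε(Y)` (the image of `q` is closed and every section of
  the augmentation ideal vanishing on the image of `q` is nilpotent).
* `exists_proper_contraction_of_isRelAmple`.
-/

set_option autoImplicit false
set_option linter.style.haveILetI false
set_option linter.unusedSectionVars false
universe u
open CategoryTheory CategoryTheory.Limits AlgebraicGeometry TopologicalSpace Opposite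
open scoped HomogeneousIdeal

namespace Groth.Agent.Lib.helper28.Grauert

open Groth.Agent.Lib.helper28.SymLinePow Groth.Agent.Lib.helper28.SymLineGenLocus
  Groth.Agent.Lib.helper28.VertexSection Groth.Agent.Lib.helper28.RelSpecMap
  Groth.Agent.Lib.helper28.SymLineExtend Groth.Agent.Lib.helper28.GrauertFib
  Groth.Agent.Lib.helper28.PowMap Groth.Agent.Lib.helper28.GrauertInt

variable {X Y : Scheme.{u}} (p : X ⟶ Y) {L : X.Modules} [L.IsQuasicoherent]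
  {𝒜 : RelProj.QCGrAlg X} {jL : L ⟶ 𝒜.toModule} (hA : RelProj.IsGrSymAlg L 𝒜 jL)
  (hL : PicF.IsInvertible L)
  {aug : 𝒜.toQCAlg ⟶ RelSpec.QCAlg.unit X} (haug : RelCone.IsAugmentation 𝒜 aug)

/-- A chart of `X` adapted to a section generating a power of `L`. -/
structure GoodChart (jL : L ⟶ 𝒜.toModule) (X' : X.Opens) where
  U : Y.Opens
  hU : IsAffineOpen U
  hle : X' ≤ p ⁻¹ᵁ U
  D : GenData L 𝒜 jL X'
  n : ℕ
  t : (CohB1.tensorPow L (n + 1)).val.obj (op (p ⁻¹ᵁ U))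
  hspan : ((𝒜.deg X' D.hV (n + 1) : AddSubgroup (𝒜.presheaf.obj (op X'))) :
    Set (𝒜.presheaf.obj (op X'))) ⊆
      (Ideal.span {(𝒜.presheaf.map (homOfLE hle).op).hom (μ jL (n + 1) (p ⁻¹ᵁ U) t)} :
        Set (𝒜.presheaf.obj (op X')))

include hA hL in
theorem exists_goodChart (hample : RelAmple.IsRelAmple p L) (x : X) :
    ∃ X' : X.Opens, x ∈ X' ∧ Nonempty (GoodChart p jL X') := by
  obtain ⟨U, hU, hxU⟩ : ∃ U : Y.Opens, IsAffineOpen U ∧ p x ∈ U := by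
    obtain ⟨_, ⟨U, hU, rfl⟩, hxU, -⟩ := Y.isBasis_affineOpens.exists_subset_of_mem_open
      (Set.mem_univ (p x)) isOpen_univ
    exact ⟨U, hU, hxU⟩
  have hxW : x ∈ p ⁻¹ᵁ U := hxU
  obtain ⟨n, t, hxt, -⟩ := SymLineSec.exists_sec_of_isAmple (p ⁻¹ᵁ U) (hample.2 ⟨U, hU⟩)
    ⟨x, hxW⟩
  obtain ⟨V₁, hV₁, hle₁, hxV₁, hspan₁⟩ :=
    (mem_genLocus_secHom_iff hA hL (p ⁻¹ᵁ U) (n + 1) t ⟨x, hxW⟩).mp hxt
  obtain ⟨U₀, hxU₀, hU₀⟩ := exists_open_genData hA hL x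
  obtain ⟨a, haU₀, hxa⟩ := hV₁.exists_basicOpen_le (V := U₀) ⟨x, hxU₀⟩ hxV₁
  obtain ⟨D⟩ := hU₀ (X.basicOpen a) (hV₁.basicOpen a) haU₀
  refine ⟨X.basicOpen a, hxa, ⟨⟨U, hU, (X.basicOpen_le a).trans hle₁, D, n, t, ?_⟩⟩⟩
  have h1 := deg_subset_span_basicOpen 𝒜 V₁ hV₁ a (n + 1) _ hspan₁
  have h2 : (𝒜.presheaf.map (homOfLE ((X.basicOpen_le a).trans hle₁)).op).hom
      (μ jL (n + 1) (p ⁻¹ᵁ U) t) =
      (𝒜.presheaf.map (homOfLE (X.basicOpen_le a)).op).hom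
        ((𝒜.presheaf.map (homOfLE hle₁).op).hom (μ jL (n + 1) (p ⁻¹ᵁ U) t)) := by
    rw [← CommRingCat.comp_apply, ← Functor.map_comp]
    rfl
  rw [h2]
  exact h1


section Lift

variable [QuasiCompact p] [QuasiSeparated p]
  (q : 𝒜.toQCAlg.spec ⟶ (coneAlg p 𝒜.toQCAlg aug).spec)
  (hqπ : q ≫ (coneAlg p 𝒜.toQCAlg aug).π = 𝒜.toQCAlg.π ≫ p)
  (hq : ∀ (U : Y.Opens) (hU : IsAffineOpen U) (X' : X.Opens) (hX' : IsAffineOpen X')
    (hle : X' ≤ p ⁻¹ᵁ U), 𝒜.toQCAlg.ι X' hX' ≫ q =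
      Spec.map (coneLE p 𝒜.toQCAlg aug U X' hle) ≫ (coneAlg p 𝒜.toQCAlg aug).ι U hU)

/-- The morphism `V ⟶ X ×_Y C`. -/
noncomputable def hLift : 𝒜.toQCAlg.spec ⟶ pullback p (coneAlg p 𝒜.toQCAlg aug).π :=
  pullback.lift 𝒜.toQCAlg.π q hqπ.symm

theorem hLift_fst : hLift p q hqπ ≫ pullback.fst p (coneAlg p 𝒜.toQCAlg aug).π = 𝒜.toQCAlg.π :=
  pullback.lift_fst _ _ _

theorem hLift_snd : hLift p q hqπ ≫ pullback.snd p (coneAlg p 𝒜.toQCAlg aug).π = q :=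
  pullback.lift_snd _ _ _

theorem hLift_preimage (X' : X.Opens) :
    hLift p q hqπ ⁻¹ᵁ (pullback.fst p (coneAlg p 𝒜.toQCAlg aug).π ⁻¹ᵁ X') =
      𝒜.toQCAlg.π ⁻¹ᵁ X' := by
  rw [← Scheme.Hom.comp_preimage, hLift_fst]

/-- The ring map of `V ⟶ X ×_Y C` over the chart `fst⁻¹ X'`. -/
noncomputable def psiChart (X' : X.Opens) (hX' : IsAffineOpen X') :
    Γ(pullback p (coneAlg p 𝒜.toQCAlg aug).π,
      pullback.fst p (coneAlg p 𝒜.toQCAlg aug).π ⁻¹ᵁ X') ⟶ 𝒜.presheaf.obj (op X') :=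
  (hLift p q hqπ).appLE (pullback.fst p (coneAlg p 𝒜.toQCAlg aug).π ⁻¹ᵁ X')
    (𝒜.toQCAlg.π ⁻¹ᵁ X') (hLift_preimage p q hqπ X').ge ≫ 𝒜.toQCAlg.gammaAff X' hX'

theorem psiChart_fst (X' : X.Opens) (hX' : IsAffineOpen X') :
    (pullback.fst p (coneAlg p 𝒜.toQCAlg aug).π).app X' ≫ psiChart p q hqπ X' hX' =
      𝒜.str.app (op X') := by
  unfold psiChart
  rw [← Category.assoc, Scheme.Hom.app_eq_appLE, Scheme.Hom.appLE_comp_appLE,
    appLE_congr_hom (hLift_fst p q hqπ) X' (𝒜.toQCAlg.π ⁻¹ᵁ X') _ le_rfl,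
    Scheme.Hom.appLE_eq_app]
  exact 𝒜.toQCAlg.π_app_gammaAff X' hX'

include hq in
theorem psiChart_snd (U : Y.Opens) (hU : IsAffineOpen U) (X' : X.Opens) (hX' : IsAffineOpen X')
    (hle : X' ≤ p ⁻¹ᵁ U)
    (hle2 : pullback.fst p (coneAlg p 𝒜.toQCAlg aug).π ⁻¹ᵁ X' ≤
      pullback.snd p (coneAlg p 𝒜.toQCAlg aug).π ⁻¹ᵁ ((coneAlg p 𝒜.toQCAlg aug).π ⁻¹ᵁ U)) :
    (pullback.snd p (coneAlg p 𝒜.toQCAlg aug).π).appLE ((coneAlg p 𝒜.toQCAlg aug).π ⁻¹ᵁ U)
      (pullback.fst p (coneAlg p 𝒜.toQCAlg aug).π ⁻¹ᵁ X') hle2 ≫ psiChart p q hqπ X' hX' =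
      (coneAlg p 𝒜.toQCAlg aug).gammaAff U hU ≫ coneLE p 𝒜.toQCAlg aug U X' hle := by
  have hle3 : 𝒜.toQCAlg.π ⁻¹ᵁ X' ≤ q ⁻¹ᵁ ((coneAlg p 𝒜.toQCAlg aug).π ⁻¹ᵁ U) := by
    rw [← Scheme.Hom.comp_preimage, hqπ, Scheme.Hom.comp_preimage]
    exact 𝒜.toQCAlg.π.preimage_mono hle
  unfold psiChart
  rw [← Category.assoc, Scheme.Hom.appLE_comp_appLE,
    appLE_congr_hom (hLift_snd p q hqπ) _ (𝒜.toQCAlg.π ⁻¹ᵁ X') _ hle3]
  exact appLE_gammaAff 𝒜.toQCAlg (coneAlg p 𝒜.toQCAlg aug) q U hU X' hX' _ (hq U hU X' hX' hle)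
    hle3


include hA hL haug hq in
theorem isIntegral_psiChart {X' : X.Opens} (G : GoodChart p jL X') :
    (psiChart p q hqπ X' G.D.hV).hom.IsIntegral := by
  haveI : IsIso ((coneAlg p 𝒜.toQCAlg aug).gammaAff G.U G.hU) :=
    Groth.Agent.S8255.isIso_gammaAff _ G.U G.hU
  -- `τ' = str c * z ^ (n + 1)` with `c` a unit
  obtain ⟨c, hc⟩ := (G.D.bijective_smul_γ hL (G.n + 1)).2
    ((CohB1.tensorPow L (G.n + 1)).val.map (homOfLE G.hle).op G.t)
  have hτ' : (𝒜.presheaf.map (homOfLE G.hle).op).hom (μ jL (G.n + 1) (p ⁻¹ᵁ G.U) G.t) =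
      (𝒜.str.app (op X')).hom c * G.D.z ^ (G.n + 1) := by
    rw [← μ_res, ← G.D.μ_smul_γ (G.n + 1) c]
    exact congrArg (μ jL (G.n + 1) X') hc.symm
  have hz1 : G.D.z ∈ 𝒜.deg X' G.D.hV 1 := G.D.hz
  have hzn : G.D.z ^ (G.n + 1) ∈ 𝒜.deg X' G.D.hV (G.n + 1) := by
    have := SetLike.pow_mem_graded (G.n + 1) hz1
    simpa using this
  have hcu : IsUnit c := by
    refine isUnit_of_span (𝒜.str.app (op X')).hom G.D.z G.D.hpoly c (G.n + 1) ?_
    rw [← hτ']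
    exact G.hspan hzn
  obtain ⟨cu, rfl⟩ := hcu
  have hle2 : pullback.fst p (coneAlg p 𝒜.toQCAlg aug).π ⁻¹ᵁ X' ≤
      pullback.snd p (coneAlg p 𝒜.toQCAlg aug).π ⁻¹ᵁ
        ((coneAlg p 𝒜.toQCAlg aug).π ⁻¹ᵁ G.U) := by
    rw [← Scheme.Hom.comp_preimage, ← pullback.condition, Scheme.Hom.comp_preimage]
    exact (pullback.fst p (coneAlg p 𝒜.toQCAlg aug).π).preimage_mono G.hle
  refine isIntegral_of_poly (psiChart p q hqπ X' G.D.hV).hom (𝒜.str.app (op X')).hom G.D.z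
    G.D.hpoly.2 (fun a => ?_) G.n ?_
  · refine ⟨((pullback.fst p (coneAlg p 𝒜.toQCAlg aug).π).app X').hom a, ?_⟩
    exact congrArg (fun k => k.hom a) (psiChart_fst p q hqπ X' G.D.hV)
  · refine ⟨((pullback.fst p (coneAlg p 𝒜.toQCAlg aug).π).app X').hom (↑cu⁻¹ : Γ(X, X')) *
      ((pullback.snd p (coneAlg p 𝒜.toQCAlg aug).π).appLE
        ((coneAlg p 𝒜.toQCAlg aug).π ⁻¹ᵁ G.U)
        (pullback.fst p (coneAlg p 𝒜.toQCAlg aug).π ⁻¹ᵁ X') hle2).hom
        ((inv ((coneAlg p 𝒜.toQCAlg aug).gammaAff G.U G.hU)).hom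
          (bElt p hA hL haug G.U G.n G.t)), ?_⟩
    rw [map_mul]
    have e1 : (psiChart p q hqπ X' G.D.hV).hom
        (((pullback.fst p (coneAlg p 𝒜.toQCAlg aug).π).app X').hom (↑cu⁻¹ : Γ(X, X'))) =
        (𝒜.str.app (op X')).hom (↑cu⁻¹ : Γ(X, X')) :=
      congrArg (fun k => k.hom (↑cu⁻¹ : Γ(X, X'))) (psiChart_fst p q hqπ X' G.D.hV)
    have e2 : (psiChart p q hqπ X' G.D.hV).hom
        (((pullback.snd p (coneAlg p 𝒜.toQCAlg aug).π).appLE
          ((coneAlg p 𝒜.toQCAlg aug).π ⁻¹ᵁ G.U)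
          (pullback.fst p (coneAlg p 𝒜.toQCAlg aug).π ⁻¹ᵁ X') hle2).hom
          ((inv ((coneAlg p 𝒜.toQCAlg aug).gammaAff G.U G.hU)).hom
            (bElt p hA hL haug G.U G.n G.t))) =
        (𝒜.presheaf.map (homOfLE G.hle).op).hom (μ jL (G.n + 1) (p ⁻¹ᵁ G.U) G.t) := by
      have h1 := congrArg (fun k => k.hom ((inv ((coneAlg p 𝒜.toQCAlg aug).gammaAff G.U G.hU)).hom
        (bElt p hA hL haug G.U G.n G.t)))
        (psiChart_snd p q hqπ hq G.U G.hU X' G.D.hV G.hle hle2)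
      refine h1.trans ?_
      have h2 : ((coneAlg p 𝒜.toQCAlg aug).gammaAff G.U G.hU).hom
          ((inv ((coneAlg p 𝒜.toQCAlg aug).gammaAff G.U G.hU)).hom
            (bElt p hA hL haug G.U G.n G.t)) = bElt p hA hL haug G.U G.n G.t := by
        rw [← CommRingCat.comp_apply, IsIso.inv_hom_id]
        rfl
      change (coneLE p 𝒜.toQCAlg aug G.U X' G.hle).hom
        (((coneAlg p 𝒜.toQCAlg aug).gammaAff G.U G.hU).hom _) = _
      rw [h2]
      rfl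
    rw [e1, e2, hτ', ← mul_assoc, ← map_mul, Units.inv_mul, map_one, one_mul]

include hA hL haug hq in
theorem isIntegralHom_hLift (hample : RelAmple.IsRelAmple p L) :
    IsIntegralHom (hLift p q hqπ) := by
  let J : Type u := {X' : X.Opens // Nonempty (GoodChart p jL X')}
  let G : ∀ j : J, GoodChart p jL j.1 := fun j => Classical.choice j.2
  haveI : IsAffineHom (pullback.fst p (coneAlg p 𝒜.toQCAlg aug).π) :=
    MorphismProperty.pullback_fst (P := @IsAffineHom) p (coneAlg p 𝒜.toQCAlg aug).π inferInstance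
  have hO : ∀ j : J, IsAffineOpen (pullback.fst p (coneAlg p 𝒜.toQCAlg aug).π ⁻¹ᵁ j.1) :=
    fun j => (G j).D.hV.preimage _
  refine ChartLocal.of_charts (hLift p q hqπ) (J := J)
    (T := fun j => Spec (𝒜.presheaf.obj (op j.1)))
    (Q := fun j => Spec Γ(pullback p (coneAlg p 𝒜.toQCAlg aug).π,
      pullback.fst p (coneAlg p 𝒜.toQCAlg aug).π ⁻¹ᵁ j.1))
    (fun j => 𝒜.toQCAlg.ι j.1 (G j).D.hV) (fun j => (hO j).fromSpec)
    (fun j => Spec.map (psiChart p q hqπ j.1 (G j).D.hV)) @IsIntegralHom ?_ ?_ ?_ ?_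
  · intro j
    unfold psiChart
    rw [Spec.map_comp, Category.assoc,
      IsAffineOpen.SpecMap_appLE_fromSpec (hLift p q hqπ) (hO j)
        ((G j).D.hV.preimage 𝒜.toQCAlg.π) (hLift_preimage p q hqπ j.1).ge,
      ← Category.assoc, SpecMap_gammaAff_fromSpec]
  · intro j
    rw [IsAffineOpen.opensRange_fromSpec, hLift_preimage, 𝒜.toQCAlg.π_preimage j.1 (G j).D.hV]
  · intro x
    obtain ⟨X', hxX', hG⟩ := exists_goodChart p hA hL hample
      (pullback.fst p (coneAlg p 𝒜.toQCAlg aug).π x)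
    refine ⟨⟨X', hG⟩, ?_⟩
    rw [IsAffineOpen.range_fromSpec]
    exact hxX'
  · intro j
    rw [IsIntegralHom.SpecMap_iff]
    exact isIntegral_psiChart p hA hL haug q hqπ hq (G j)


omit [QuasiCompact p] [QuasiSeparated p] in
include hA hL in
theorem locallyOfFiniteType_π : LocallyOfFiniteType 𝒜.toQCAlg.π := by
  let J : Type u := {X' : X.Opens // Nonempty (GenData L 𝒜 jL X')}
  let D : ∀ j : J, GenData L 𝒜 jL j.1 := fun j => Classical.choice j.2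
  refine Groth.Agent.Lib.helper28.RelSpecLocal.π_of_charts 𝒜.toQCAlg @LocallyOfFiniteType (J := J)
    (fun j => ⟨j.1, (D j).hV⟩) ?_ ?_
  · intro x
    obtain ⟨X', hxX', -, hD⟩ := exists_genData hA hL x ⊤ trivial
    exact ⟨⟨X', hD⟩, hxX'⟩
  · intro j
    rw [HasRingHomProperty.Spec_iff (P := @LocallyOfFiniteType)]
    have h1 : (Polynomial.C : Γ(X, j.1) →+* Polynomial Γ(X, j.1)).FiniteType := by
      rw [← Polynomial.algebraMap_eq, RingHom.finiteType_algebraMap]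
      infer_instance
    have h2 : (Polynomial.eval₂RingHom (𝒜.str.app (op j.1)).hom (D j).z).FiniteType :=
      RingHom.FiniteType.of_surjective _ (D j).hpoly.2
    have h3 : (𝒜.str.app (op j.1)).hom =
        (Polynomial.eval₂RingHom (𝒜.str.app (op j.1)).hom (D j).z).comp Polynomial.C := by
      ext a
      simp
    change (𝒜.str.app (op j.1)).hom.FiniteType
    rw [h3]
    exact h2.comp h1

include hA hL haug hq hqπ in
theorem isProper_q [IsProper p] (hample : RelAmple.IsRelAmple p L) : IsProper q := by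
  haveI := isIntegralHom_hLift p hA hL haug q hqπ hq hample
  haveI : IsSeparated (q ≫ (coneAlg p 𝒜.toQCAlg aug).π) := by
    rw [hqπ]
    infer_instance
  haveI : IsSeparated q := IsSeparated.of_comp q (coneAlg p 𝒜.toQCAlg aug).π
  haveI : LocallyOfFiniteType 𝒜.toQCAlg.π := locallyOfFiniteType_π hA hL
  haveI : LocallyOfFiniteType (q ≫ (coneAlg p 𝒜.toQCAlg aug).π) := by
    rw [hqπ]
    infer_instance
  haveI : LocallyOfFiniteType q := locallyOfFiniteType_of_comp q (coneAlg p 𝒜.toQCAlg aug).π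
  haveI : UniversallyClosed q := by
    rw [← hLift_snd p q hqπ]
    infer_instance
  exact {}

end Lift

section Nil

omit [L.IsQuasicoherent] in
/-- A section over a quasi-compact open which is nilpotent on all affine opens is nilpotent. -/
theorem isNilpotent_of_forall_affine (W : X.Opens) (hW : IsCompact (W : Set X))
    (σ : 𝒜.presheaf.obj (op W))
    (h : ∀ (X' : X.Opens) (_ : IsAffineOpen X') (hle : X' ≤ W),
      IsNilpotent ((𝒜.presheaf.map (homOfLE hle).op).hom σ)) : IsNilpotent σ := by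
  obtain ⟨s, hs, hWs⟩ := isCompact_iff_finite_and_eq_biUnion_affineOpens.mp hW
  haveI : Finite ↥s := hs
  have hle : ∀ i : ↥s, (i.1 : X.Opens) ≤ W := by
    intro i
    rw [hWs]
    exact le_iSup₂ (f := fun (i : X.affineOpens) (_ : i ∈ s) => (i : X.Opens)) i.1 i.2
  have hcov : W ≤ ⨆ i : ↥s, (i.1 : X.Opens) := by
    rw [hWs, iSup_subtype']
  choose n hn using fun i : ↥s => h i.1.1 i.1.2 (hle i)
  obtain ⟨N, hN⟩ := Finite.exists_le n
  refine ⟨N, ?_⟩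
  refine sec_eq_of_cover (fun i : ↥s => (i.1 : X.Opens)) W hle hcov _ _ (fun i => ?_)
  rw [map_pow, map_zero]
  exact pow_eq_zero_of_le (hN i) (hn i)

end Nil


section Surj

variable [QuasiCompact p] [QuasiSeparated p]
  {j0 : X ⟶ 𝒜.toQCAlg.spec} (hj0 : RelCone.IsVertex 𝒜 aug j0)
  (h0 : RelCone.StrZeroBij 𝒜)
  (ε : Y ⟶ (coneAlg p 𝒜.toQCAlg aug).spec)
  (q : 𝒜.toQCAlg.spec ⟶ (coneAlg p 𝒜.toQCAlg aug).spec)
  (hεπ : ε ≫ (coneAlg p 𝒜.toQCAlg aug).π = 𝟙 Y)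
  (hqπ : q ≫ (coneAlg p 𝒜.toQCAlg aug).π = 𝒜.toQCAlg.π ≫ p)
  (hε : ∀ (U : Y.Opens) (hU : IsAffineOpen U), hU.fromSpec ≫ ε =
    Spec.map ((coneAug p 𝒜.toQCAlg aug).hom.app (op U)) ≫ (coneAlg p 𝒜.toQCAlg aug).ι U hU)
  (hq : ∀ (U : Y.Opens) (hU : IsAffineOpen U) (X' : X.Opens) (hX' : IsAffineOpen X')
    (hle : X' ≤ p ⁻¹ᵁ U), 𝒜.toQCAlg.ι X' hX' ≫ q =
      Spec.map (coneLE p 𝒜.toQCAlg aug U X' hle) ≫ (coneAlg p 𝒜.toQCAlg aug).ι U hU)
  {V0 : 𝒜.toQCAlg.spec.Opens} (hV0 : (V0 : Set 𝒜.toQCAlg.spec) = (Set.range j0.base)ᶜ)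
  (hjq : j0 ≫ q = p ≫ ε)

include hε in
/-- A point of the chart over `U` containing the augmentation ideal lies on the vertex
section. -/
theorem mem_range_ε_of_forall (U : Y.Opens) (hU : IsAffineOpen U)
    (Q : Spec ((coneAlg p 𝒜.toQCAlg aug).presheaf.obj (op U)))
    (hQ : ∀ b : (coneAlg p 𝒜.toQCAlg aug).presheaf.obj (op U),
      (cval p 𝒜.toQCAlg aug b).1 = 0 → b ∈ Q.asIdeal) :
    ((coneAlg p 𝒜.toQCAlg aug).ι U hU) Q ∈ Set.range ε.base := by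
  set 𝔮 : Spec Γ(Y, U) := (Spec.map ((coneAlg p 𝒜.toQCAlg aug).str.app (op U))) Q with h𝔮
  have hQ𝔮 : (Spec.map ((coneAug p 𝒜.toQCAlg aug).hom.app (op U))) 𝔮 = Q := by
    apply PrimeSpectrum.ext
    ext x
    change ((coneAlg p 𝒜.toQCAlg aug).str.app (op U)).hom
      (((coneAug p 𝒜.toQCAlg aug).hom.app (op U)).hom x) ∈ Q.asIdeal ↔ x ∈ Q.asIdeal
    have hsub : x - ((coneAlg p 𝒜.toQCAlg aug).str.app (op U)).hom
        (((coneAug p 𝒜.toQCAlg aug).hom.app (op U)).hom x) ∈ Q.asIdeal := by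
      apply hQ
      have h1 : ((coneAug p 𝒜.toQCAlg aug).hom.app (op U)).hom
          (x - ((coneAlg p 𝒜.toQCAlg aug).str.app (op U)).hom
            (((coneAug p 𝒜.toQCAlg aug).hom.app (op U)).hom x)) = 0 := by
        rw [map_sub, sub_eq_zero]
        have := congrArg (fun k => (k.app (op U)).hom
          (((coneAug p 𝒜.toQCAlg aug).hom.app (op U)).hom x)) (coneAug p 𝒜.toQCAlg aug).comm
        exact this.symm
      exact h1
    constructor
    · intro h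
      have := Q.asIdeal.add_mem hsub h
      rwa [sub_add_cancel] at this
    · intro h
      have := Q.asIdeal.sub_mem h hsub
      rwa [sub_sub_cancel] at this
  refine ⟨hU.fromSpec 𝔮, ?_⟩
  have h5 := congrArg (fun k => k.base 𝔮) (hε U hU)
  have h7 : ε (hU.fromSpec 𝔮) = ((coneAlg p 𝒜.toQCAlg aug).ι U hU)
      ((Spec.map ((coneAug p 𝒜.toQCAlg aug).hom.app (op U))) 𝔮) := h5
  rw [hQ𝔮] at h7
  exact h7

include hA hL haug hj0 h0 hεπ hqπ hε hq hV0 hjq in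
theorem range_eq_compl [IsProper p] (hample : RelAmple.IsRelAmple p L) :
    Set.range (V0.ι ≫ q).base = (Set.range ε.base)ᶜ := by
  have hdisj := disjoint_of_isRelAmple p hA hL haug hj0 h0 ε q hεπ hqπ hε hq hV0 hample
  apply Set.Subset.antisymm
  · intro c hc hc'
    have : c ∈ Set.range (V0.ι ≫ q).base ∩ Set.range ε.base := ⟨hc, hc'⟩
    rw [hdisj] at this
    exact this
  · intro c hc
    by_contra hcq
    -- `c` is not in the image of `q`
    have hcq' : c ∉ Set.range q.base := by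
      rintro ⟨v, rfl⟩
      by_cases hv : v ∈ V0
      · exact hcq ⟨⟨v, hv⟩, rfl⟩
      · have hv' : v ∈ Set.range j0.base := by
          by_contra hv''
          apply hv
          change v ∈ (V0 : Set 𝒜.toQCAlg.spec)
          rw [hV0]
          exact hv''
        obtain ⟨x, rfl⟩ := hv'
        apply hc
        refine ⟨p x, ?_⟩
        have := congrArg (fun k => k.base x) hjq
        exact this.symm
    haveI : IsProper q := isProper_q p hA hL haug q hqπ hq hample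
    have hclosed : IsClosed (Set.range q.base) := q.isClosedMap.isClosed_range
    obtain ⟨U, hU, hcU⟩ : ∃ U : Y.Opens, IsAffineOpen U ∧
        (coneAlg p 𝒜.toQCAlg aug).π c ∈ U := by
      obtain ⟨_, ⟨U, hU, rfl⟩, hxU, -⟩ := Y.isBasis_affineOpens.exists_subset_of_mem_open
        (Set.mem_univ ((coneAlg p 𝒜.toQCAlg aug).π c)) isOpen_univ
      exact ⟨U, hU, hxU⟩
    have hcr : c ∈ Set.range ((coneAlg p 𝒜.toQCAlg aug).ι U hU).base := by
      rw [range_ι]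
      exact hcU
    obtain ⟨Q, rfl⟩ := hcr
    -- an element of the augmentation ideal outside `Q`
    obtain ⟨b₁, hb₁, hb₁Q⟩ : ∃ b₁ : (coneAlg p 𝒜.toQCAlg aug).presheaf.obj (op U),
        (cval p 𝒜.toQCAlg aug b₁).1 = 0 ∧ b₁ ∉ Q.asIdeal := by
      by_contra hall
      apply hc
      refine mem_range_ε_of_forall p ε hε U hU Q (fun b hb => ?_)
      by_contra hbQ
      exact hall ⟨b, hb, hbQ⟩
    -- a basic open neighbourhood of `Q` missing the image of `q`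
    have hopen : IsOpen (((coneAlg p 𝒜.toQCAlg aug).ι U hU).base ⁻¹' (Set.range q.base)ᶜ) :=
      hclosed.isOpen_compl.preimage ((coneAlg p 𝒜.toQCAlg aug).ι U hU).continuous
    obtain ⟨_, ⟨_, ⟨b₂, rfl⟩, rfl⟩, hQb₂, hb₂sub⟩ :=
      PrimeSpectrum.isBasis_basic_opens.exists_subset_of_mem_open
        (show (Q : PrimeSpectrum ((coneAlg p 𝒜.toQCAlg aug).presheaf.obj (op U))) ∈
          ((coneAlg p 𝒜.toQCAlg aug).ι U hU).base ⁻¹' (Set.range q.base)ᶜ from hcq') hopen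
    have hb₂Q : b₂ ∉ Q.asIdeal := hQb₂
    have hbQ : b₁ * b₂ ∉ Q.asIdeal := fun h =>
      (Q.isPrime.mem_or_mem h).elim hb₁Q hb₂Q
    have hbval : (cval p 𝒜.toQCAlg aug (b₁ * b₂)).1 = 0 := by
      change (cval p 𝒜.toQCAlg aug b₁).1 * (cval p 𝒜.toQCAlg aug b₂).1 = 0
      rw [hb₁, zero_mul]
    -- the second component is nilpotent
    have hcW : IsCompact ((p ⁻¹ᵁ U : X.Opens) : Set X) :=
      QuasiCompact.isCompact_preimage (f := p) _ U.2 hU.isCompact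
    have hnil : IsNilpotent (cval p 𝒜.toQCAlg aug (b₁ * b₂)).2 := by
      refine isNilpotent_of_forall_affine (p ⁻¹ᵁ U) hcW _ (fun X' hX' hle => ?_)
      rw [nilpotent_iff_mem_prime]
      intro J hJ
      by_contra hJ'
      have h1 := (q_mem_DB_iff p q hq U hU (b₁ * b₂) X' hX' hle ⟨J, hJ⟩).mpr hJ'
      obtain ⟨Q', hQ', hQQ'⟩ := h1
      have hQ'b₂ : b₂ ∉ Q'.asIdeal := fun h => hQ' (Ideal.mul_mem_left _ _ h)
      have h2 : ((coneAlg p 𝒜.toQCAlg aug).ι U hU) Q' ∈ (Set.range q.base)ᶜ := hb₂sub hQ'b₂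
      apply h2
      exact ⟨_, hQQ'.symm⟩
    obtain ⟨N, hN⟩ := hnil
    apply hbQ
    refine Q.isPrime.mem_of_pow_mem (N + 1) ?_
    have hzero : (b₁ * b₂) ^ (N + 1) = 0 := by
      apply cval_injective p 𝒜.toQCAlg aug
      have e1 : (b₁ * b₂ : (coneAlg p 𝒜.toQCAlg aug).presheaf.obj (op U)) =
          zeroPair (phi p U) (psi p 𝒜.toQCAlg aug U) (cval p 𝒜.toQCAlg aug (b₁ * b₂)).2
            (by rw [← cval_mem, hbval, map_zero]) := by
        apply cval_injective p 𝒜.toQCAlg aug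
        exact Prod.ext hbval rfl
      rw [e1]
      refine (zeroPair_pow _ _ _ _ N).trans ?_
      rw [pow_succ, hN, zero_mul]
      rfl
    rw [hzero]
    exact zero_mem _

end Surj

section MainProper

variable [QuasiCompact p] [QuasiSeparated p]
  {j0 : X ⟶ 𝒜.toQCAlg.spec} (hj0 : RelCone.IsVertex 𝒜 aug j0)
  (h0 : RelCone.StrZeroBij 𝒜)
  {V0 : 𝒜.toQCAlg.spec.Opens} (hV0 : (V0 : Set 𝒜.toQCAlg.spec) = (Set.range j0.base)ᶜ)

include hA hL haug hj0 h0 hV0 in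
/-- **Grauert's criterion, necessity, proper case**: for `p` proper and `L` `p`-ample the
contraction `q : V(L) ⟶ C` is proper and maps the complement of the zero section isomorphically
onto the complement of the vertex section. -/
theorem exists_proper_contraction_of_isRelAmple [IsProper p]
    (hample : RelAmple.IsRelAmple p L) :
    ∃ (ε : Y ⟶ (coneAlg p 𝒜.toQCAlg aug).spec)
      (q : 𝒜.toQCAlg.spec ⟶ (coneAlg p 𝒜.toQCAlg aug).spec),
      ε ≫ (coneAlg p 𝒜.toQCAlg aug).π = 𝟙 Y ∧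
      q ≫ (coneAlg p 𝒜.toQCAlg aug).π = 𝒜.toQCAlg.π ≫ p ∧ j0 ≫ q = p ≫ ε ∧ IsProper q ∧
      IsOpenImmersion (V0.ι ≫ q) ∧ QuasiCompact (V0.ι ≫ q) ∧
      Set.range (V0.ι ≫ q).base = (Set.range ε.base)ᶜ := by
  obtain ⟨ε, q, hεπ, hqπ, hjq, hε, hq⟩ := exists_contraction p 𝒜.toQCAlg aug j0 hj0.chart
  exact ⟨ε, q, hεπ, hqπ, hjq, isProper_q p hA hL haug q hqπ hq hample,
    isOpenImmersion_of_isRelAmple p hA hL haug hj0 h0 ε q hεπ hqπ hε hq hV0 hjq hample,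
    quasiCompact_comp p hA hL haug hj0 h0 q hqπ hV0,
    range_eq_compl p hA hL haug hj0 h0 ε q hεπ hqπ hε hq hV0 hjq hample⟩

end MainProper

end Groth.Agent.Lib.helper28.Grauert
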