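import Mathlib

/-!
# Ring maps attached to morphisms from an affine scheme into an affine open (helper28)

For `h : Spec R ⟶ C` whose range lies in an open `U` of `C`: `ringOf h U hU : Γ(C, U) ⟶ R`.
* `ringOf_comp`: functoriality in `R`.
* `mem_basicOpen_iff`: `h P ∈ C.basicOpen f ↔ ringOf h U hU f ∉ P`.
* `exists_one_sub_mem`: an open of `Spec B` containing `V(J)` contains some `D(g)`, `1 - g ∈ J`.
* `exists_fraction`: for `h : Spec B ⟶ C`, an open `U` of `C` with `V(J) ⊆ h⁻¹ U` and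
  `f ∈ Γ(C, U)` there are `g`, `G`, `m` with `1 - g ∈ J` such that for every ring map
  `φ : B → R'` inverting `g` the morphism `Spec φ ≫ h` lands in `U` and its ring map sends `f`
  to `φ G / φ g ^ m`; and `h P ∈ C.basicOpen f ↔ G ∉ P` for the primes `P ∌ g`.
-/

set_option autoImplicit false
universe u
open CategoryTheory AlgebraicGeometry TopologicalSpace Opposite

namespace Groth.Agent.Lib.helper28.Grauert

variable {C : Scheme.{u}}

/-- The ring map attached to a morphism from an affine scheme landing in the open `U`. -/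
noncomputable def ringOf {R : CommRingCat.{u}} (h : Spec R ⟶ C) (U : C.Opens)
    (hU : (⊤ : (Spec R).Opens) ≤ h ⁻¹ᵁ U) : Γ(C, U) ⟶ R :=
  h.appLE U ⊤ hU ≫ (Scheme.ΓSpecIso R).hom

theorem ringOf_comp {R R' : CommRingCat.{u}} (h : Spec R ⟶ C) (U : C.Opens)
    (hU : (⊤ : (Spec R).Opens) ≤ h ⁻¹ᵁ U) (φ : R ⟶ R')
    (hU' : (⊤ : (Spec R').Opens) ≤ (Spec.map φ ≫ h) ⁻¹ᵁ U) :
    ringOf (Spec.map φ ≫ h) U hU' = ringOf h U hU ≫ φ := by
  unfold ringOf
  have h1 : (Spec.map φ ≫ h).appLE U ⊤ hU' =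
      h.appLE U ⊤ hU ≫ (Spec.map φ).appLE ⊤ ⊤ (fun _ _ => trivial) :=
    (Scheme.Hom.appLE_comp_appLE (Spec.map φ) h U ⊤ ⊤ hU (fun _ _ => trivial)).symm
  have h2 : (Spec.map φ).appLE ⊤ ⊤ (fun _ _ => trivial) = (Spec.map φ).appTop := by
    unfold Scheme.Hom.appLE
    exact (Category.comp_id _)
  rw [h1, h2, Category.assoc, Scheme.ΓSpecIso_naturality, Category.assoc]

theorem mem_basicOpen_iff {R : CommRingCat.{u}} (h : Spec R ⟶ C) (U : C.Opens)
    (hU : (⊤ : (Spec R).Opens) ≤ h ⁻¹ᵁ U) (f : Γ(C, U)) (P : Spec R) :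
    h P ∈ C.basicOpen f ↔ (ringOf h U hU).hom f ∉ P.asIdeal := by
  have h1 := Scheme.basicOpen_appLE h ⊤ U hU f
  rw [basicOpen_eq_of_affine'] at h1
  have h2 : P ∈ PrimeSpectrum.basicOpen ((Scheme.ΓSpecIso R).hom ((h.appLE U ⊤ hU) f)) ↔
      P ∈ (⊤ : (Spec R).Opens) ⊓ h ⁻¹ᵁ C.basicOpen f := Iff.of_eq (congrArg (fun S => P ∈ S) h1)
  constructor
  · intro hP
    exact h2.mpr ⟨trivial, hP⟩
  · intro hP
    exact (h2.mp hP).2

theorem exists_one_sub_mem {B : CommRingCat.{u}} (J : Ideal B) (O : (Spec B).Opens)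
    (hO : PrimeSpectrum.zeroLocus (J : Set B) ⊆ (O : Set (Spec B))) :
    ∃ g : B, 1 - g ∈ J ∧ ∀ P : Spec B, g ∉ P.asIdeal → P ∈ O := by
  let S : Set (PrimeSpectrum B) := {P | P ∈ (O : Set (Spec B))}
  have hSo : IsOpen S := O.isOpen
  let I : Ideal B := PrimeSpectrum.vanishingIdeal Sᶜ
  have hIJ : I ⊔ J = ⊤ := by
    rw [← PrimeSpectrum.zeroLocus_empty_iff_eq_top, PrimeSpectrum.zeroLocus_sup]
    rw [Set.eq_empty_iff_forall_notMem]
    rintro P ⟨hP1, hP2⟩
    have h1 : P ∈ closure Sᶜ := by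
      have h0 := PrimeSpectrum.zeroLocus_vanishingIdeal_eq_closure Sᶜ
      rw [← h0]
      exact hP1
    rw [hSo.isClosed_compl.closure_eq] at h1
    exact h1 (hO hP2)
  have h1 : (1 : B) ∈ I ⊔ J := by rw [hIJ]; trivial
  obtain ⟨i, hi, j, hj, hij⟩ := Submodule.mem_sup.mp h1
  refine ⟨i, ?_, ?_⟩
  · have : 1 - i = j := by rw [← hij]; ring
    rw [this]
    exact hj
  · intro P hP
    by_contra hPO
    exact hP ((PrimeSpectrum.mem_vanishingIdeal _ _).mp hi P hPO)

theorem exists_fraction {B : CommRingCat.{u}} (h : Spec B ⟶ C) (U : C.Opens) (J : Ideal B)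
    (hJ : PrimeSpectrum.zeroLocus (J : Set B) ⊆ ((h ⁻¹ᵁ U : (Spec B).Opens) : Set (Spec B)))
    (f : Γ(C, U)) :
    ∃ (g G : B) (m : ℕ), 1 - g ∈ J ∧
      (∀ (R' : CommRingCat.{u}) (φ : B ⟶ R'), IsUnit (φ.hom g) →
        ∃ hU' : (⊤ : (Spec R').Opens) ≤ (Spec.map φ ≫ h) ⁻¹ᵁ U,
          (ringOf (Spec.map φ ≫ h) U hU').hom f * φ.hom g ^ m = φ.hom G) ∧
      (∀ P : Spec B, g ∉ P.asIdeal →
        (h P ∈ U ∧ (h P ∈ C.basicOpen f ↔ G ∉ P.asIdeal))) := by
  obtain ⟨g, hg1, hgO⟩ := exists_one_sub_mem J (h ⁻¹ᵁ U) hJ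
  let lam : B ⟶ CommRingCat.of (Localization.Away g) :=
    CommRingCat.ofHom (algebraMap B (Localization.Away g))
  have hrange : ∀ P' : Spec (CommRingCat.of (Localization.Away g)),
      g ∉ ((Spec.map lam) P').asIdeal := by
    intro P' hmem
    have h1 : (Spec.map lam) P' ∈ Set.range (PrimeSpectrum.comap (algebraMap B (Localization.Away g))) :=
      ⟨P', rfl⟩
    rw [PrimeSpectrum.localization_away_comap_range (Localization.Away g) g] at h1
    exact h1 hmem
  have hUg : (⊤ : (Spec (CommRingCat.of (Localization.Away g))).Opens) ≤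
      (Spec.map lam ≫ h) ⁻¹ᵁ U := by
    intro P' _
    exact hgO _ (hrange P')
  obtain ⟨m, G, hG⟩ := IsLocalization.Away.surj g
    ((ringOf (Spec.map lam ≫ h) U hUg).hom f : Localization.Away g)
  refine ⟨g, G, m, hg1, ?_, ?_⟩
  · intro R' φ hφ
    let kap : CommRingCat.of (Localization.Away g) ⟶ R' :=
      CommRingCat.ofHom (IsLocalization.Away.lift g hφ)
    have hk : lam ≫ kap = φ := by
      ext b
      exact IsLocalization.Away.lift_eq g hφ b
    have hcomp : Spec.map φ ≫ h = Spec.map kap ≫ (Spec.map lam ≫ h) := by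
      rw [← Category.assoc, ← Spec.map_comp, hk]
    have hU' : (⊤ : (Spec R').Opens) ≤ (Spec.map φ ≫ h) ⁻¹ᵁ U := by
      rw [hcomp]
      intro P' _
      exact hUg (show (Spec.map kap) P' ∈ (⊤ : (Spec _).Opens) from trivial)
    refine ⟨hU', ?_⟩
    have h2 : ringOf (Spec.map φ ≫ h) U hU' = ringOf (Spec.map lam ≫ h) U hUg ≫ kap := by
      have h3 := ringOf_comp (Spec.map lam ≫ h) U hUg kap (by rw [← hcomp]; exact hU')
      rw [← h3]
      congr 1
    rw [h2]
    have h4 := congrArg kap.hom hG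
    rw [map_mul, map_pow] at h4
    have e1 : kap.hom (algebraMap B (Localization.Away g) g) = φ.hom g :=
      IsLocalization.Away.lift_eq g hφ g
    have e2 : kap.hom (algebraMap B (Localization.Away g) G) = φ.hom G :=
      IsLocalization.Away.lift_eq g hφ G
    rw [e1, e2] at h4
    exact h4
  · intro P hP
    have hPr : P ∈ Set.range (PrimeSpectrum.comap (algebraMap B (Localization.Away g))) := by
      rw [PrimeSpectrum.localization_away_comap_range (Localization.Away g) g]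
      exact hP
    obtain ⟨P', hP'⟩ := hPr
    have hP'' : (Spec.map lam) P' = P := hP'
    refine ⟨hgO P hP, ?_⟩
    have h5 := mem_basicOpen_iff (Spec.map lam ≫ h) U hUg f P'
    have h6 : (Spec.map lam ≫ h) P' = h P := by
      rw [← hP'']
      rfl
    rw [h6] at h5
    rw [h5]
    have hgP' : algebraMap B (Localization.Away g) g ∉ P'.asIdeal := by
      intro hmem
      apply hP
      rw [← hP'']
      exact hmem
    have hGiff : G ∈ P.asIdeal ↔ algebraMap B (Localization.Away g) G ∈ P'.asIdeal := by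
      rw [← hP'']
      rfl
    rw [hGiff, ← hG]
    constructor
    · intro hn hmem
      rcases P'.isPrime.mem_or_mem hmem with h7 | h7
      · exact hn h7
      · exact hgP' (P'.isPrime.mem_of_pow_mem m h7)
    · intro hn hmem
      exact hn (Ideal.mul_mem_right _ _ hmem)

end Groth.Agent.Lib.helper28.Grauert
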