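import Mathlib
import Groth.Agent.S7459
import Groth.Agent.Lib.Helper28.GrpPts

/-!
# Translates of opens in a group scheme which is universally open over its base
-/

set_option autoImplicit false
universe u
open CategoryTheory MonoidalCategory CartesianMonoidalCategory MonObj GrpObj AlgebraicGeometry

namespace Groth.Agent.Lib.helper28.GrpPts

variable {S : Scheme.{u}}

/-- general version of `S7459` -/
lemma isOpen_range_translate (hS : ∀ (T : Scheme.{u}) (t : T ⟶ S), UniversallyOpen t)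
    (G : Over S) [GrpObj G] (W : G.left.Opens)
    (T : Scheme.{u}) (f : T ⟶ G.left) :
    IsOpen (Set.range ⇑(((Over.homMk f rfl : Over.mk (f ≫ G.hom) ⟶ G) ⊗ₘ
      (Over.homMk W.ι rfl : Over.mk (W.ι ≫ G.hom) ⟶ G)) ≫ μ[G]).left) := by
  rw [Groth.Agent.S7459.tensorHom_comp_mul]
  set T' : Over S := Over.mk (f ≫ G.hom) with hT'
  set W' : Over S := Over.mk (W.ι ≫ G.hom) with hW'
  set f' : T' ⟶ G := Over.homMk f rfl with hf'
  set w' : W' ⟶ G := Over.homMk W.ι rfl with hw'
  have h1 : IsOpenImmersion (T' ◁ w').left := by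
    rw [Over.whiskerLeft_left]
    have : IsOpenImmersion w'.left := inferInstanceAs (IsOpenImmersion W.ι)
    infer_instance
  have h2 : IsIso (Groth.Agent.S7459.shear f').left :=
    inferInstanceAs (IsIso ((Over.forget _).map (Groth.Agent.S7459.shear f')))
  have h3 : UniversallyOpen (snd T' G).left := by
    rw [Over.snd_left]
    have := hS _ T'.hom
    infer_instance
  simp only [Over.comp_left]
  have : Set.range ⇑((T' ◁ w').left ≫ (Groth.Agent.S7459.shear f').left ≫ (snd T' G).left) =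
      ⇑(snd T' G).left '' (⇑(Groth.Agent.S7459.shear f').left '' Set.range ⇑(T' ◁ w').left) := by
    ext x
    simp [Set.mem_image, Set.mem_range]
  rw [this]
  exact (snd T' G).left.isOpenMap _ ((Groth.Agent.S7459.shear f').left.isOpenMap _
    (T' ◁ w').left.isOpenEmbedding.isOpen_range)

/-- left translates of opens are open -/
lemma translate_open' (hS : ∀ (T : Scheme.{u}) (t : T ⟶ S), UniversallyOpen t)
    (G : Over S) [GrpObj G] (W : G.left.Opens)
    (r : G.left) : IsOpen {g₃ | ∃ g₂ ∈ W, Mul3 G r g₂ g₃} := by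
  have h := isOpen_range_translate hS G W _ (G.left.fromSpecResidueField r)
  rw [range_tensorHom_mul] at h
  convert h using 1
  ext g₃
  have h1 : Set.range ⇑(Over.homMk (G.left.fromSpecResidueField r) rfl :
      Over.mk (G.left.fromSpecResidueField r ≫ G.hom) ⟶ G).left = {r} :=
    Scheme.range_fromSpecResidueField r
  have h2 : Set.range ⇑(Over.homMk W.ι rfl : Over.mk (W.ι ≫ G.hom) ⟶ G).left = W :=
    Scheme.Opens.range_ι W
  simp only [Set.mem_setOf_eq, h1, h2, Set.mem_singleton_iff, exists_eq_left]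
  rfl

/-- over a one-point base, any two points can be multiplied -/
lemma Mul3.exists_mul' [Subsingleton S] (G : Over S) [GrpObj G] (g₁ g₂ : G.left) :
    ∃ g₃, Mul3 G g₁ g₂ g₃ := by
  have hsub : Subsingleton (𝟙_ (Over S)).left := inferInstanceAs (Subsingleton S)
  obtain ⟨Z, z, p, q, -, hp, hq⟩ := refine_pt (toUnit G) (toUnit G) g₁ g₂ (Subsingleton.elim _ _)
  exact ⟨_, Z, z, p, q, hp, hq, rfl⟩

/-- the product of a dense open and a nonempty open is everything -/
lemma mul_dense_open_eq_univ [Subsingleton S]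
    (hS : ∀ (T : Scheme.{u}) (t : T ⟶ S), UniversallyOpen t) (G : Over S) [GrpObj G]
    (U V : G.left.Opens) (hU : Dense (U : Set G.left)) (hV : (V : Set G.left).Nonempty)
    (g : G.left) : ∃ z : ↥(G ⊗ G).left, (fst G G).left z ∈ U ∧ (snd G G).left z ∈ V ∧
      μ[G].left z = g := by
  obtain ⟨v₀, hv₀⟩ := hV
  have hO := translate_open' hS G (ι[G].left ⁻¹ᵁ V) g
  obtain ⟨g₃', hg₃'⟩ := Mul3.exists_mul' G g (ι[G].left v₀)
  have hne : {g₃ | ∃ g₂ ∈ ι[G].left ⁻¹ᵁ V, Mul3 G g g₂ g₃}.Nonempty :=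
    ⟨g₃', ι[G].left v₀, by
      show ι[G].left (ι[G].left v₀) ∈ V
      rw [inv_inv_apply]; exact hv₀, hg₃'⟩
  obtain ⟨u, ⟨g₂, hg₂, hm⟩, huU⟩ := hU.inter_open_nonempty _ hO hne
  obtain ⟨X, x, a, b, h1, h2, h3⟩ := hm.rot_right
  refine ⟨(lift a b).left x, ?_, ?_, ?_⟩
  · rw [← Scheme.Hom.comp_apply, ← Over.comp_left, lift_fst, h1]
    exact huU
  · rw [← Scheme.Hom.comp_apply, ← Over.comp_left, lift_snd, h2]
    exact hg₂
  · rw [← Scheme.Hom.comp_apply, ← Over.comp_left, ← Hom.mul_def, h3]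

end Groth.Agent.Lib.helper28.GrpPts
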