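import Mathlib
import Groth.Prelude.Def_Grpd
import Groth.Agent.S7457

/-!
# The stabilizer of a groupoid scheme: `s^* Stab ≅ t^* Stab` over `R` by conjugation
-/

set_option autoImplicit false
universe u
open CategoryTheory CategoryTheory.Limits AlgebraicGeometry
open Groth.Agent.S7457

namespace Groth.Agent.Lib.helper28.GrpdStab

variable {S : Scheme.{u}} (G : Grpd.GroupoidScheme S)

/-- the arrow underlying a point of the stabilizer -/
noncomputable abbrev arr : G.stabilizer ⟶ G.R := pullback.fst G.j G.diag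

lemma j_fst : G.j ≫ pullback.fst G.pU G.pU = G.t := pullback.lift_fst _ _ _
lemma j_snd : G.j ≫ pullback.snd G.pU G.pU = G.s := pullback.lift_snd _ _ _
lemma diag_fst : G.diag ≫ pullback.fst G.pU G.pU = 𝟙 _ := pullback.lift_fst _ _ _
lemma diag_snd : G.diag ≫ pullback.snd G.pU G.pU = 𝟙 _ := pullback.lift_snd _ _ _

lemma arr_s : arr G ≫ G.s = G.stabilizerToU := by
  have h := pullback.condition (f := G.j) (g := G.diag)
  have := congrArg (fun f => f ≫ pullback.snd G.pU G.pU) h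
  simp only [Category.assoc, j_snd, diag_snd, Category.comp_id] at this
  exact this

lemma arr_t : arr G ≫ G.t = G.stabilizerToU := by
  have h := pullback.condition (f := G.j) (g := G.diag)
  have := congrArg (fun f => f ≫ pullback.fst G.pU G.pU) h
  simp only [Category.assoc, j_fst, diag_fst, Category.comp_id] at this
  exact this

lemma stab_ext {T : Scheme.{u}} (σ₁ σ₂ : T ⟶ G.stabilizer) (h : σ₁ ≫ arr G = σ₂ ≫ arr G) :
    σ₁ = σ₂ := by
  apply pullback.hom_ext h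
  have h1 : σ₁ ≫ G.stabilizerToU = σ₂ ≫ G.stabilizerToU := by
    rw [← arr_s, ← Category.assoc, h, Category.assoc]
  exact h1

/-- a point of the stabilizer from an arrow with equal source and target -/
noncomputable def stabMk {T : Scheme.{u}} (ρ : T ⟶ G.R) (h : ρ ≫ G.s = ρ ≫ G.t) :
    T ⟶ G.stabilizer :=
  pullback.lift ρ (ρ ≫ G.s) (by
    apply pullback.hom_ext
    · simp only [Category.assoc, j_fst, diag_fst, Category.comp_id, h]
    · simp only [Category.assoc, j_snd, diag_snd, Category.comp_id])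

lemma stabMk_arr {T : Scheme.{u}} (ρ : T ⟶ G.R) (h : ρ ≫ G.s = ρ ≫ G.t) :
    stabMk G ρ h ≫ arr G = ρ := pullback.lift_fst _ _ _

lemma stabMk_p {T : Scheme.{u}} (ρ : T ⟶ G.R) (h : ρ ≫ G.s = ρ ≫ G.t) :
    stabMk G ρ h ≫ G.stabilizerToU = ρ ≫ G.s := pullback.lift_snd _ _ _

/-- `r ρ r⁻¹` -/
noncomputable def conj {T : Scheme.{u}} (r ρ : T ⟶ G.R) (h1 : r ≫ G.s = ρ ≫ G.t)
    (h2 : ρ ≫ G.s = r ≫ G.s) : T ⟶ G.R :=
  cmp G (cmp G r ρ h1) (r ≫ G.i) (by rw [cmp_s, h2, Category.assoc, G.i_t])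

lemma conj_s {T : Scheme.{u}} (r ρ : T ⟶ G.R) (h1 : r ≫ G.s = ρ ≫ G.t)
    (h2 : ρ ≫ G.s = r ≫ G.s) : conj G r ρ h1 h2 ≫ G.s = r ≫ G.t := by
  unfold conj; rw [cmp_s, Category.assoc, G.i_s]

lemma conj_t {T : Scheme.{u}} (r ρ : T ⟶ G.R) (h1 : r ≫ G.s = ρ ≫ G.t)
    (h2 : ρ ≫ G.s = r ≫ G.s) : conj G r ρ h1 h2 ≫ G.t = r ≫ G.t := by
  unfold conj; rw [cmp_t, cmp_t]

lemma conj_congr {T : Scheme.{u}} {r r' ρ ρ' : T ⟶ G.R} (h1 : r ≫ G.s = ρ ≫ G.t)
    (h2 : ρ ≫ G.s = r ≫ G.s) (hr : r = r') (hρ : ρ = ρ') :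
    conj G r ρ h1 h2 = conj G r' ρ' (by rw [← hr, ← hρ]; exact h1) (by rw [← hr, ← hρ]; exact h2) := by
  subst hr hρ; rfl

lemma pre_conj {T T' : Scheme.{u}} (f : T' ⟶ T) (r ρ : T ⟶ G.R) (h1 : r ≫ G.s = ρ ≫ G.t)
    (h2 : ρ ≫ G.s = r ≫ G.s) :
    f ≫ conj G r ρ h1 h2 = conj G (f ≫ r) (f ≫ ρ) (by rw [Category.assoc, Category.assoc, h1])
      (by rw [Category.assoc, Category.assoc, h2]) := by
  unfold conj
  rw [pre_cmp]
  exact cmp_congr G _ (pre_cmp G f r ρ h1) (Category.assoc _ _ _).symm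

/-- `r⁻¹ h r` -/
noncomputable def conj' {T : Scheme.{u}} (r h : T ⟶ G.R) (h1 : h ≫ G.t = r ≫ G.t)
    (h2 : h ≫ G.s = r ≫ G.t) : T ⟶ G.R :=
  cmp G (cmp G (r ≫ G.i) h (by rw [Category.assoc, G.i_s, h1])) r (by rw [cmp_s, h2])

lemma conj'_s {T : Scheme.{u}} (r h : T ⟶ G.R) (h1 : h ≫ G.t = r ≫ G.t)
    (h2 : h ≫ G.s = r ≫ G.t) : conj' G r h h1 h2 ≫ G.s = r ≫ G.s := by
  unfold conj'; rw [cmp_s]

lemma conj'_t {T : Scheme.{u}} (r h : T ⟶ G.R) (h1 : h ≫ G.t = r ≫ G.t)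
    (h2 : h ≫ G.s = r ≫ G.t) : conj' G r h h1 h2 ≫ G.t = r ≫ G.s := by
  unfold conj'; rw [cmp_t, cmp_t, Category.assoc, G.i_t]

lemma conj'_congr {T : Scheme.{u}} {r r' h h' : T ⟶ G.R} (h1 : h ≫ G.t = r ≫ G.t)
    (h2 : h ≫ G.s = r ≫ G.t) (hr : r = r') (hh : h = h') :
    conj' G r h h1 h2 = conj' G r' h' (by rw [← hr, ← hh]; exact h1) (by rw [← hr, ← hh]; exact h2) := by
  subst hr hh; rfl

lemma pre_conj' {T T' : Scheme.{u}} (f : T' ⟶ T) (r h : T ⟶ G.R) (h1 : h ≫ G.t = r ≫ G.t)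
    (h2 : h ≫ G.s = r ≫ G.t) :
    f ≫ conj' G r h h1 h2 = conj' G (f ≫ r) (f ≫ h) (by rw [Category.assoc, Category.assoc, h1])
      (by rw [Category.assoc, Category.assoc, h2]) := by
  unfold conj'
  rw [pre_cmp]
  refine cmp_congr G _ ?_ rfl
  rw [pre_cmp]
  exact cmp_congr G _ (Category.assoc _ _ _).symm rfl

lemma conj'_conj {T : Scheme.{u}} (r ρ : T ⟶ G.R) (h1 : r ≫ G.s = ρ ≫ G.t)
    (h2 : ρ ≫ G.s = r ≫ G.s) :
    conj' G r (conj G r ρ h1 h2) (conj_t G r ρ h1 h2) (conj_s G r ρ h1 h2) = ρ := by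
  unfold conj' conj
  -- r⁻¹ ((r ρ) r⁻¹) = (r⁻¹ (r ρ)) r⁻¹ = ρ r⁻¹
  have hi : (r ≫ G.i) ≫ G.s = cmp G r ρ h1 ≫ G.t := by rw [cmp_t, Category.assoc, G.i_s]
  have hj : cmp G r ρ h1 ≫ G.s = (r ≫ G.i) ≫ G.t := by rw [cmp_s, h2, Category.assoc, G.i_t]
  have e1 : cmp G (r ≫ G.i) (cmp G (cmp G r ρ h1) (r ≫ G.i) hj)
      (by rw [cmp_t, hi]) = cmp G ρ (r ≫ G.i) (by rw [h2, Category.assoc, G.i_t]) := by
    rw [← cmp_assoc G (r ≫ G.i) (cmp G r ρ h1) (r ≫ G.i) hi hj]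
    exact cmp_congr G _ (L2 G r ρ h1 hi) rfl
  rw [cmp_congr G _ e1 rfl]
  exact L3 G ρ r h2 _ _

lemma conj_conj' {T : Scheme.{u}} (r h : T ⟶ G.R) (h1 : h ≫ G.t = r ≫ G.t)
    (h2 : h ≫ G.s = r ≫ G.t) :
    conj G r (conj' G r h h1 h2) (conj'_t G r h h1 h2).symm (conj'_s G r h h1 h2) = h := by
  unfold conj conj'
  have hi : (r ≫ G.i) ≫ G.s = h ≫ G.t := by rw [Category.assoc, G.i_s, h1]
  have hj : cmp G (r ≫ G.i) h hi ≫ G.s = r ≫ G.t := by rw [cmp_s, h2]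
  have hk : r ≫ G.s = (r ≫ G.i) ≫ G.t := by rw [Category.assoc, G.i_t]
  -- r ((r⁻¹ h) r) = (r (r⁻¹ h)) r = h r
  have e1 : cmp G r (cmp G (cmp G (r ≫ G.i) h hi) r hj) (by rw [cmp_t, cmp_t, hk]) =
      cmp G h r h2 := by
    rw [← cmp_assoc G r (cmp G (r ≫ G.i) h hi) r (by rw [cmp_t, hk]) hj]
    exact cmp_congr G _ (L1 G r h h1.symm hi _) rfl
  rw [cmp_congr G _ e1 rfl]
  exact L4 G h r h2 _

/-- the conjugation isomorphism, forward direction -/
noncomputable def φ : pullback G.stabilizerToU G.s ⟶ pullback G.stabilizerToU G.t :=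
  pullback.lift
    (stabMk G (conj G (pullback.snd G.stabilizerToU G.s) (pullback.fst G.stabilizerToU G.s ≫ arr G)
      (by rw [Category.assoc, arr_t, pullback.condition])
      (by rw [Category.assoc, arr_s, pullback.condition]))
      (by rw [conj_s, conj_t]))
    (pullback.snd G.stabilizerToU G.s)
    (by rw [stabMk_p, conj_s])

/-- the conjugation isomorphism, backward direction -/
noncomputable def ψ : pullback G.stabilizerToU G.t ⟶ pullback G.stabilizerToU G.s :=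
  pullback.lift
    (stabMk G (conj' G (pullback.snd G.stabilizerToU G.t) (pullback.fst G.stabilizerToU G.t ≫ arr G)
      (by rw [Category.assoc, arr_t, pullback.condition])
      (by rw [Category.assoc, arr_s, pullback.condition]))
      (by rw [conj'_s, conj'_t]))
    (pullback.snd G.stabilizerToU G.t)
    (by rw [stabMk_p, conj'_s])

lemma φ_snd : φ G ≫ pullback.snd G.stabilizerToU G.t = pullback.snd G.stabilizerToU G.s :=
  pullback.lift_snd _ _ _

lemma ψ_snd : ψ G ≫ pullback.snd G.stabilizerToU G.s = pullback.snd G.stabilizerToU G.t :=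
  pullback.lift_snd _ _ _

lemma φ_fst_arr : φ G ≫ pullback.fst G.stabilizerToU G.t ≫ arr G =
    conj G (pullback.snd G.stabilizerToU G.s) (pullback.fst G.stabilizerToU G.s ≫ arr G)
      (by rw [Category.assoc, arr_t, pullback.condition])
      (by rw [Category.assoc, arr_s, pullback.condition]) := by
  unfold φ
  rw [← Category.assoc, pullback.lift_fst, stabMk_arr]

lemma ψ_fst_arr : ψ G ≫ pullback.fst G.stabilizerToU G.s ≫ arr G =
    conj' G (pullback.snd G.stabilizerToU G.t) (pullback.fst G.stabilizerToU G.t ≫ arr G)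
      (by rw [Category.assoc, arr_t, pullback.condition])
      (by rw [Category.assoc, arr_s, pullback.condition]) := by
  unfold ψ
  rw [← Category.assoc, pullback.lift_fst, stabMk_arr]

lemma φ_ψ : φ G ≫ ψ G = 𝟙 _ := by
  apply pullback.hom_ext
  · apply stab_ext
    rw [Category.assoc, Category.assoc, ψ_fst_arr, pre_conj',
      conj'_congr G _ _ (φ_snd G) (φ_fst_arr G), conj'_conj, Category.id_comp]
  · rw [Category.assoc, ψ_snd, φ_snd, Category.id_comp]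

lemma ψ_φ : ψ G ≫ φ G = 𝟙 _ := by
  apply pullback.hom_ext
  · apply stab_ext
    rw [Category.assoc, Category.assoc, φ_fst_arr, pre_conj,
      conj_congr G _ _ (ψ_snd G) (ψ_fst_arr G), conj_conj', Category.id_comp]
  · rw [Category.assoc, φ_snd, ψ_snd, Category.id_comp]

/-- `s^* Stab` is also `t^* Stab` -/
theorem isPullback_conj :
    IsPullback (φ G ≫ pullback.fst G.stabilizerToU G.t) (pullback.snd G.stabilizerToU G.s)
      G.stabilizerToU G.t := by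
  haveI : IsIso (φ G) := ⟨⟨ψ G, φ_ψ G, ψ_φ G⟩⟩
  refine IsPullback.of_iso (IsPullback.of_hasPullback G.stabilizerToU G.t)
    (asIso (φ G)).symm (Iso.refl _) (Iso.refl _) (Iso.refl _) ?_ ?_ ?_ ?_
  · simp
  · simp [φ_snd]
  · simp
  · simp

end Groth.Agent.Lib.helper28.GrpdStab
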