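import Mathlib
import Groth.Prelude.Def_W4c2conddiscmodels

set_option autoImplicit false

namespace Groth.Agent.Lib.helper28.HJ

/-- numerator / denominator of a Hirzebruch–Jung continued fraction -/
def nd : List ℤ → ℤ × ℤ
  | [] => (1, 0)
  | b :: L => (b * (nd L).1 - (nd L).2, (nd L).1)

lemma nd_pos : ∀ L : List ℤ, (∀ b ∈ L, 2 ≤ b) → (nd L).2 < (nd L).1 ∧ 0 ≤ (nd L).2 := by
  intro L
  induction L with
  | nil => intro _; simp [nd]
  | cons b L ih =>
    intro h
    have hb : 2 ≤ b := h b (by simp)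
    obtain ⟨h1, h2⟩ := ih (fun c hc => h c (by simp [hc]))
    simp only [nd]
    constructor
    · nlinarith
    · linarith

lemma nd_coprime : ∀ L : List ℤ, IsCoprime (nd L).1 (nd L).2 := by
  intro L
  induction L with
  | nil => simp only [nd]; exact isCoprime_one_left
  | cons b L ih =>
    simp only [nd]
    have h1 : IsCoprime (-(nd L).2 + b * (nd L).1) (nd L).1 :=
      (IsCoprime.add_mul_right_left_iff).2 ih.symm.neg_left
    have e : b * (nd L).1 - (nd L).2 = -(nd L).2 + b * (nd L).1 := by ring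
    rw [e]; exact h1

lemma hjVal_eq : ∀ L : List ℤ, (∀ b ∈ L, 2 ≤ b) →
    HJFrac.hjVal L = ((nd L).1 : ℚ) / ((nd L).2 : ℚ) := by
  intro L
  induction L with
  | nil => intro _; simp [nd, HJFrac.hjVal]
  | cons b L ih =>
    intro h
    have h' : ∀ c ∈ L, 2 ≤ c := fun c hc => h c (by simp [hc])
    obtain ⟨h1, h2⟩ := nd_pos L h'
    have hne : ((nd L).1 : ℚ) ≠ 0 := by
      have : (0 : ℤ) < (nd L).1 := by linarith
      exact_mod_cast this.ne'
    simp only [nd, HJFrac.hjVal]
    rw [ih h', inv_div]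
    push_cast
    field_simp

lemma wronsk : ∀ (L : List ℤ) (μ : ℕ → ℤ),
    (∀ i (h : i < L.length), L[i] * μ (i + 1) = μ i + μ (i + 2)) →
    μ 0 * (nd L).2 - μ 1 * (nd L).1 = - μ (L.length + 1) := by
  intro L
  induction L with
  | nil => intro μ _; simp [nd]
  | cons b L ih =>
    intro μ h
    have h0 := h 0 (by simp)
    simp only [List.getElem_cons_zero, zero_add] at h0
    have h' : ∀ i (hi : i < L.length), L[i] * (fun j => μ (j + 1)) (i + 1)
        = (fun j => μ (j + 1)) i + (fun j => μ (j + 1)) (i + 2) := by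
      intro i hi
      have := h (i + 1) (by simp [hi])
      simpa using this
    have h2 := ih (fun j => μ (j + 1)) h'
    simp only [zero_add] at h2
    simp only [nd, List.length_cons]
    have e1 : 1 + 1 = 2 := rfl
    rw [e1] at h2
    have e2 : L.length + 1 + 1 = L.length + 1 + 1 := rfl
    linear_combination h2 - (nd L).1 * h0

lemma sum_eq : ∀ (L : List ℤ) (μ : ℕ → ℤ),
    (∀ i (h : i < L.length), L[i] * μ (i + 1) = μ i + μ (i + 2)) →
    (∀ i, i ≤ L.length + 1 → μ i ≠ 0) →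
    ∑ i ∈ Finset.range (L.length + 1), 1 / ((μ i : ℚ) * (μ (i + 1) : ℚ)) =
      ((nd L).1 : ℚ) / ((μ 0 : ℚ) * (μ (L.length + 1) : ℚ)) := by
  intro L
  induction L with
  | nil => intro μ _ _; simp [nd]
  | cons b L ih =>
    intro μ h hne
    have h0 := h 0 (by simp)
    simp only [List.getElem_cons_zero, zero_add] at h0
    have h' : ∀ i (hi : i < L.length), L[i] * (fun j => μ (j + 1)) (i + 1)
        = (fun j => μ (j + 1)) i + (fun j => μ (j + 1)) (i + 2) := by
      intro i hi
      have := h (i + 1) (by simp [hi])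
      simpa using this
    have hne' : ∀ i, i ≤ L.length + 1 → (fun j => μ (j + 1)) i ≠ 0 := by
      intro i hi
      exact hne (i + 1) (by simp; omega)
    have h2 := ih (fun j => μ (j + 1)) h' hne'
    have h3 := wronsk L (fun j => μ (j + 1)) h'
    simp only [zero_add] at h2 h3
    rw [List.length_cons, Finset.sum_range_succ']
    simp only [zero_add]
    rw [h2]
    simp only [nd]
    have n0 : (μ 0 : ℚ) ≠ 0 := by exact_mod_cast hne 0 (by omega)
    have n1 : (μ 1 : ℚ) ≠ 0 := by exact_mod_cast hne 1 (by simp)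
    have n2 : (μ (L.length + 1 + 1) : ℚ) ≠ 0 := by exact_mod_cast hne (L.length + 1 + 1) (by simp)
    have h0q : (b : ℚ) * μ 1 = μ 0 + μ 2 := by exact_mod_cast h0
    have h3q : (μ 1 : ℚ) * ((nd L).2 : ℚ) - μ 2 * ((nd L).1 : ℚ) = - μ (L.length + 1 + 1) := by
      exact_mod_cast h3
    push_cast
    field_simp
    linear_combination h3q - ((nd L).1 : ℚ) * h0q

/-- identification of numerator and denominator with `n`, `r` -/
lemma nd_eq (L : List ℤ) (hL : ∀ b ∈ L, 2 ≤ b) (hlen : 1 ≤ L.length) (n r : ℕ) (hr : 0 < r)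
    (hn : 0 < n) (hcop : Nat.Coprime r n) (hhj : (n : ℚ) / r = HJFrac.hjVal L) :
    (nd L).1 = n ∧ (nd L).2 = r := by
  obtain ⟨h1, h2⟩ := nd_pos L hL
  have hq1 : 0 < (nd L).2 := by
    cases L with
    | nil => simp at hlen
    | cons b L' =>
      simp only [nd]
      obtain ⟨h3, h4⟩ := nd_pos L' (fun c hc => hL c (by simp [hc]))
      linarith
  rw [hjVal_eq L hL] at hhj
  have hrq : (r : ℚ) ≠ 0 := by exact_mod_cast hr.ne'
  have hqq : ((nd L).2 : ℚ) ≠ 0 := by exact_mod_cast hq1.ne'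
  rw [div_eq_div_iff hrq hqq] at hhj
  have hz : (n : ℤ) * (nd L).2 = (nd L).1 * (r : ℤ) := by exact_mod_cast hhj
  have hc1 := nd_coprime L
  have hc2 : IsCoprime (n : ℤ) (r : ℤ) := by
    have := Nat.isCoprime_iff_coprime.2 hcop
    exact this.symm
  have d1 : (nd L).1 ∣ (n : ℤ) := by
    have : (nd L).1 ∣ (n : ℤ) * (nd L).2 := ⟨r, by rw [hz]⟩
    exact hc1.dvd_of_dvd_mul_right this
  have d2 : (n : ℤ) ∣ (nd L).1 := by
    have : (n : ℤ) ∣ (nd L).1 * (r : ℤ) := ⟨(nd L).2, by rw [← hz]⟩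
    exact hc2.dvd_of_dvd_mul_right this
  have hN : (nd L).1 = n := Int.dvd_antisymm (by linarith) (by positivity) d1 d2
  refine ⟨hN, ?_⟩
  rw [hN] at hz
  have : (n : ℤ) ≠ 0 := by exact_mod_cast hn.ne'
  have := mul_left_cancel₀ this hz
  exact this

end Groth.Agent.Lib.helper28.HJ
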