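import Groth.Agent.Lib.Helper28.RelProjPair2

/-!
# Irrelevant ideals on all affine pairs from pointwise generation in degree one (helper28)

`u : 𝒜 → f_* ℬ` a graded `f`-morphism, `ℬ` with irrelevant ideals generated in degree one.  If
every point of `X` has an affine neighbourhood `V` (over an affine `U`) on which the image of a
single section of `𝒜_1` generates `ℬ_1`, then for **every** affine pair `(U, V)` the irrelevant
ideal of `ℬ(V)` lies in the ideal generated by the image of the irrelevant ideal of `𝒜(U)`.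
-/

set_option autoImplicit false
universe u

namespace Groth.Agent.Lib.helper28.IrrOfSurj

open CategoryTheory CategoryTheory.Limits AlgebraicGeometry TopologicalSpace Opposite
open scoped HomogeneousIdeal
open Groth.Agent.Lib.helper28.RelSpecMap

section Loc

variable {S : Scheme.{u}} (𝒮 : RelProj.QCGrAlg S)

/-- A homogeneous element over a basic open lifts, up to a power of `r`, to a homogeneous element
of the same degree. -/
theorem exists_deg_lift (U : S.Opens) (hU : IsAffineOpen U) (r : Γ(S, U)) (V : S.Opens)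
    (hV : IsAffineOpen V) (hVr : S.basicOpen r = V) (i : V ≤ U) {d : ℕ}
    (b : 𝒮.presheaf.obj (op V)) (hb : b ∈ 𝒮.deg V hV d) :
    ∃ (k : ℕ) (x : 𝒮.presheaf.obj (op U)), x ∈ 𝒮.deg U hU d ∧
      𝒮.res hU hV i x = b * 𝒮.res hU hV i ((𝒮.str.app (op U)).hom r ^ k) := by
  classical
  subst hVr
  let ψ := 𝒮.res hU hV i
  let _inst := (𝒮.presheaf.map (homOfLE (S.basicOpen_le r)).op).hom.toAlgebra
  let c := (𝒮.str.app (op U)).hom r
  have hloc : IsLocalization.Away c (𝒮.presheaf.obj (op (S.basicOpen r))) := 𝒮.isQC U hU r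
  obtain ⟨⟨x, s, hs⟩, hxs⟩ := IsLocalization.surj (Submonoid.powers c) b
  obtain ⟨k, rfl⟩ := (Submonoid.mem_powers_iff _ _).mp hs
  change b * ψ (c ^ k) = ψ x at hxs
  have hc0 : ψ (c ^ k) ∈ 𝒮.deg (S.basicOpen r) hV 0 := by
    rw [map_pow]
    exact SetLike.pow_mem_graded _ (ψ.map_mem (𝒮.str_mem U hU r))
  have hbi : b * ψ (c ^ k) ∈ 𝒮.deg (S.basicOpen r) hV d := by
    simpa only [add_zero] using
      SetLike.mul_mem_graded (A := 𝒮.deg (S.basicOpen r) hV) hb hc0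
  refine ⟨k, (DirectSum.decompose (𝒮.deg U hU) x d : 𝒮.presheaf.obj (op U)), SetLike.coe_mem _, ?_⟩
  change ψ _ = b * ψ (c ^ k)
  rw [GradedRingHom.map_directSumDecompose, ← hxs, DirectSum.decompose_of_mem_same _ hbi]

theorem isUnit_res_str (U : S.Opens) (hU : IsAffineOpen U) (r : Γ(S, U)) (V : S.Opens)
    (hV : IsAffineOpen V) (hVr : S.basicOpen r = V) (i : V ≤ U) (k : ℕ) :
    IsUnit (𝒮.res hU hV i ((𝒮.str.app (op U)).hom r ^ k)) := by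
  subst hVr
  let _inst := (𝒮.presheaf.map (homOfLE (S.basicOpen_le r)).op).hom.toAlgebra
  let c := (𝒮.str.app (op U)).hom r
  have hloc : IsLocalization.Away c (𝒮.presheaf.obj (op (S.basicOpen r))) := 𝒮.isQC U hU r
  exact IsLocalization.map_units (M := Submonoid.powers c)
    (𝒮.presheaf.obj (op (S.basicOpen r))) ⟨c ^ k, k, rfl⟩

/-- Any element over a basic open lifts up to a power of `r`. -/
theorem exists_lift (U : S.Opens) (hU : IsAffineOpen U) (r : Γ(S, U)) (V : S.Opens)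
    (hV : IsAffineOpen V) (hVr : S.basicOpen r = V) (i : V ≤ U)
    (b : 𝒮.presheaf.obj (op V)) :
    ∃ (k : ℕ) (x : 𝒮.presheaf.obj (op U)),
      𝒮.res hU hV i x = b * 𝒮.res hU hV i ((𝒮.str.app (op U)).hom r ^ k) := by
  subst hVr
  let ψ := 𝒮.res hU hV i
  let _inst := (𝒮.presheaf.map (homOfLE (S.basicOpen_le r)).op).hom.toAlgebra
  let c := (𝒮.str.app (op U)).hom r
  have hloc : IsLocalization.Away c (𝒮.presheaf.obj (op (S.basicOpen r))) := 𝒮.isQC U hU r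
  obtain ⟨⟨x, s, hs⟩, hxs⟩ := IsLocalization.surj (Submonoid.powers c) b
  obtain ⟨k, rfl⟩ := (Submonoid.mem_powers_iff _ _).mp hs
  exact ⟨k, x, hxs.symm⟩

/-- An element vanishing over a basic open is killed by a power of `r`. -/
theorem exists_pow_mul_eq_zero (U : S.Opens) (hU : IsAffineOpen U) (r : Γ(S, U)) (V : S.Opens)
    (hV : IsAffineOpen V) (hVr : S.basicOpen r = V) (i : V ≤ U)
    (a : 𝒮.presheaf.obj (op U)) (ha : 𝒮.res hU hV i a = 0) :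
    ∃ N : ℕ, (𝒮.str.app (op U)).hom r ^ N * a = 0 := by
  subst hVr
  let _inst := (𝒮.presheaf.map (homOfLE (S.basicOpen_le r)).op).hom.toAlgebra
  let c := (𝒮.str.app (op U)).hom r
  have hloc : IsLocalization.Away c (𝒮.presheaf.obj (op (S.basicOpen r))) := 𝒮.isQC U hU r
  have h0 : algebraMap (𝒮.presheaf.obj (op U)) (𝒮.presheaf.obj (op (S.basicOpen r))) a =
      algebraMap (𝒮.presheaf.obj (op U)) (𝒮.presheaf.obj (op (S.basicOpen r))) 0 := by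
    rw [map_zero]
    exact ha
  obtain ⟨⟨_, N, rfl⟩, hN⟩ := (IsLocalization.eq_iff_exists (Submonoid.powers c) _).mp h0
  exact ⟨N, by simpa using hN⟩

end Loc

section Main

variable {X Y : Scheme.{u}} {f : X ⟶ Y} {𝒜 : RelProj.QCGrAlg Y} {ℬ : RelProj.QCGrAlg X}
  (u : RelProj.QGrHom f 𝒜 ℬ)

/-- Local step: near a point where the image of a single degree-one section generates `ℬ_1`,
a degree-one section of `ℬ` over `V` lies, up to a function not vanishing at the point, in the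
ideal generated by the image of `𝒜(U)₊`. -/
theorem exists_mul_mem (U : Y.Opens) (hU : IsAffineOpen U) (V : X.Opens) (hV : IsAffineOpen V)
    (hle : V ≤ f ⁻¹ᵁ U)
    (U₁ : Y.Opens) (hU₁ : IsAffineOpen U₁) (e : 𝒜.presheaf.obj (op U₁)) (he : e ∈ 𝒜.deg U₁ hU₁ 1)
    (V₁ : X.Opens) (hV₁ : IsAffineOpen V₁) (hle₁ : V₁ ≤ f ⁻¹ᵁ U₁)
    (hspan : ((ℬ.deg V₁ hV₁ 1 : AddSubgroup (ℬ.presheaf.obj (op V₁))) :
        Set (ℬ.presheaf.obj (op V₁))) ⊆
      (Ideal.span {(u.appLE U₁ V₁ hle₁).hom e} : Set (ℬ.presheaf.obj (op V₁))))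
    (x : X) (hxV : x ∈ V) (hxV₁ : x ∈ V₁)
    (ℓ : ℬ.presheaf.obj (op V)) (hℓ : ℓ ∈ ℬ.deg V hV 1) :
    ∃ c : Γ(X, V), x ∈ X.basicOpen c ∧
      (ℬ.str.app (op V)).hom c * ℓ ∈
        Ideal.map (u.gradedAt U hU V hV hle) ((𝒜.deg U hU)₊).toIdeal := by
  classical
  have hfxU : f.base x ∈ U := hle hxV
  have hfxU₁ : f.base x ∈ U₁ := hle₁ hxV₁
  obtain ⟨W₀, hW₀U, hW₀U₁, hfxW₀, -⟩ := exists_common_basic (X := Y) ⟨U, hU⟩ ⟨U₁, hU₁⟩ ⊤
    (f.base x) hfxU hfxU₁ trivial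
  obtain ⟨g, hg⟩ := hW₀U
  obtain ⟨g₁, hg₁⟩ := hW₀U₁
  have iW₀U : W₀.1 ≤ U := (le_of_eq hg.symm).trans (Y.basicOpen_le g)
  have iW₀U₁ : W₀.1 ≤ U₁ := (le_of_eq hg₁.symm).trans (Y.basicOpen_le g₁)
  obtain ⟨W, hWV, hWV₁, hxW, hWf⟩ := exists_common_basic (X := X) ⟨V, hV⟩ ⟨V₁, hV₁⟩
    (f ⁻¹ᵁ W₀.1) x hxV hxV₁ hfxW₀
  obtain ⟨h, hh⟩ := hWV
  obtain ⟨h₁, hh₁⟩ := hWV₁
  have iWV : W.1 ≤ V := (le_of_eq hh.symm).trans (X.basicOpen_le h)
  have iWV₁ : W.1 ≤ V₁ := (le_of_eq hh₁.symm).trans (X.basicOpen_le h₁)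
  -- lift `e|W₀` to `a ∈ 𝒜(U)_1`
  obtain ⟨k, a, ha, hak⟩ := exists_deg_lift 𝒜 U hU g W₀.1 W₀.2 hg iW₀U
    (𝒜.res hU₁ W₀.2 iW₀U₁ e) ((𝒜.res hU₁ W₀.2 iW₀U₁).map_mem he)
  have hunit₀ := isUnit_res_str 𝒜 U hU g W₀.1 W₀.2 hg iW₀U k
  have e1 : (u.appLE U W.1 (hWf.trans (f.preimage_mono iW₀U))).hom a =
      (u.appLE U₁ W.1 (hWf.trans (f.preimage_mono iW₀U₁))).hom e *
        (u.appLE W₀.1 W.1 hWf).hom (𝒜.res hU W₀.2 iW₀U ((𝒜.str.app (op U)).hom g ^ k)) := by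
    have h1 : (u.appLE U W.1 (hWf.trans (f.preimage_mono iW₀U))).hom a =
        (u.appLE W₀.1 W.1 hWf).hom (𝒜.res hU W₀.2 iW₀U a) :=
      congr($(u.map_appLE iW₀U hWf).hom a).symm
    have h2 : (u.appLE U₁ W.1 (hWf.trans (f.preimage_mono iW₀U₁))).hom e =
        (u.appLE W₀.1 W.1 hWf).hom (𝒜.res hU₁ W₀.2 iW₀U₁ e) :=
      congr($(u.map_appLE iW₀U₁ hWf).hom e).symm
    rw [h1, h2, hak, map_mul]
  have hv₀ : IsUnit ((u.appLE W₀.1 W.1 hWf).hom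
      (𝒜.res hU W₀.2 iW₀U ((𝒜.str.app (op U)).hom g ^ k))) := hunit₀.map _
  -- `ℓ|W` is a multiple of `u(e)|W`
  obtain ⟨k₁, y, hy, hyk⟩ := exists_deg_lift ℬ V₁ hV₁ h₁ W.1 W.2 hh₁ iWV₁
    (ℬ.res hV W.2 iWV ℓ) ((ℬ.res hV W.2 iWV).map_mem hℓ)
  have hv₁ := isUnit_res_str ℬ V₁ hV₁ h₁ W.1 W.2 hh₁ iWV₁ k₁
  obtain ⟨c, hc⟩ := Ideal.mem_span_singleton'.mp (hspan hy)
  have e2 : ℬ.res hV₁ W.2 iWV₁ y = ℬ.res hV₁ W.2 iWV₁ c *
      (u.appLE U₁ W.1 (hWf.trans (f.preimage_mono iW₀U₁))).hom e := by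
    rw [← hc, map_mul]
    congr 1
    exact congr($(u.appLE_map hle₁ iWV₁).hom e)
  have e3 : (u.appLE U W.1 (hWf.trans (f.preimage_mono iW₀U))).hom a =
      ℬ.res hV W.2 iWV ((u.gradedAt U hU V hV hle) a) :=
    congr($(u.appLE_map hle iWV).hom a).symm
  obtain ⟨v₀, hv₀'⟩ := hv₀
  obtain ⟨v₁, hv₁'⟩ := hv₁
  -- `ℓ|W = c' * (φ a)|W`
  have e4 : ℬ.res hV W.2 iWV ℓ = (ℬ.res hV₁ W.2 iWV₁ c * ↑v₁⁻¹ * ↑v₀⁻¹) *
      ℬ.res hV W.2 iWV ((u.gradedAt U hU V hV hle) a) := by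
    rw [← e3, e1, ← hv₀']
    have : ℬ.res hV W.2 iWV ℓ * ↑v₁ = ℬ.res hV₁ W.2 iWV₁ c *
        (u.appLE U₁ W.1 (hWf.trans (f.preimage_mono iW₀U₁))).hom e := by
      rw [hv₁', ← hyk, e2]
    calc ℬ.res hV W.2 iWV ℓ = (ℬ.res hV W.2 iWV ℓ * ↑v₁) * ↑v₁⁻¹ := by
          rw [mul_assoc, Units.mul_inv, mul_one]
      _ = _ := by
          rw [this]
          have hvv : (↑v₀⁻¹ : ℬ.presheaf.obj (op W.1)) * ↑v₀ = 1 := Units.inv_mul v₀
          calc ℬ.res hV₁ W.2 iWV₁ c *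
                (u.appLE U₁ W.1 (hWf.trans (f.preimage_mono iW₀U₁))).hom e * ↑v₁⁻¹
              = ℬ.res hV₁ W.2 iWV₁ c *
                (u.appLE U₁ W.1 (hWf.trans (f.preimage_mono iW₀U₁))).hom e * ↑v₁⁻¹ *
                  (↑v₀⁻¹ * ↑v₀) := by rw [hvv, mul_one]
            _ = _ := by ring
  -- lift `c'`
  obtain ⟨n, y', hy'⟩ := exists_lift ℬ V hV h W.1 W.2 hh iWV
    (ℬ.res hV₁ W.2 iWV₁ c * ↑v₁⁻¹ * ↑v₀⁻¹)
  have hzero : ℬ.res hV W.2 iWV ((ℬ.str.app (op V)).hom h ^ n * ℓ -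
      y' * (u.gradedAt U hU V hV hle) a) = 0 := by
    rw [map_sub, map_mul, map_mul, hy', e4]
    ring
  obtain ⟨N, hN⟩ := exists_pow_mul_eq_zero ℬ V hV h W.1 W.2 hh iWV _ hzero
  refine ⟨h ^ (N + n + 1), ?_, ?_⟩
  · rw [X.basicOpen_pow h (Nat.succ_pos _), hh]
    exact hxW
  · have hmem : (u.gradedAt U hU V hV hle) a ∈
        Ideal.map (u.gradedAt U hU V hV hle) ((𝒜.deg U hU)₊).toIdeal :=
      Ideal.mem_map_of_mem _ (HomogeneousIdeal.mem_irrelevant_of_mem _ Nat.one_pos ha)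
    have e5 : (ℬ.str.app (op V)).hom (h ^ (N + n + 1)) * ℓ =
        ((ℬ.str.app (op V)).hom h * (ℬ.str.app (op V)).hom h ^ N * y') *
          (u.gradedAt U hU V hV hle) a := by
      have : (ℬ.str.app (op V)).hom h ^ N * ((ℬ.str.app (op V)).hom h ^ n * ℓ) =
          (ℬ.str.app (op V)).hom h ^ N * (y' * (u.gradedAt U hU V hV hle) a) := by
        rw [← sub_eq_zero, ← mul_sub]
        exact hN
      rw [map_pow, pow_succ, pow_add]
      calc (ℬ.str.app (op V)).hom h ^ N * (ℬ.str.app (op V)).hom h ^ n *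
            (ℬ.str.app (op V)).hom h * ℓ
          = (ℬ.str.app (op V)).hom h *
            ((ℬ.str.app (op V)).hom h ^ N * ((ℬ.str.app (op V)).hom h ^ n * ℓ)) := by ring
        _ = _ := by rw [this]; ring
    rw [e5]
    exact Ideal.mul_mem_left _ _ hmem

variable
  (hgen : ∀ (V : X.Opens) (hV : IsAffineOpen V), ((ℬ.deg V hV)₊).toIdeal ≤
    Ideal.span ((ℬ.deg V hV 1 : AddSubgroup (ℬ.presheaf.obj (op V))) :
      Set (ℬ.presheaf.obj (op V))))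
  (hsurj : ∀ x : X, ∃ (U : Y.Opens) (hU : IsAffineOpen U) (e : 𝒜.presheaf.obj (op U))
      (_ : e ∈ 𝒜.deg U hU 1) (V : X.Opens) (hV : IsAffineOpen V) (hVU : V ≤ f ⁻¹ᵁ U), x ∈ V ∧
        ((ℬ.deg V hV 1 : AddSubgroup (ℬ.presheaf.obj (op V))) : Set (ℬ.presheaf.obj (op V))) ⊆
          (Ideal.span {(u.appLE U V hVU).hom e} : Set (ℬ.presheaf.obj (op V))))

include hgen hsurj in
/-- The hypothesis of Mathlib's `Proj.map` holds on every affine pair. -/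
theorem irrelevant_le_map (U : Y.Opens) (hU : IsAffineOpen U) (V : X.Opens)
    (hV : IsAffineOpen V) (hle : V ≤ f ⁻¹ᵁ U) :
    (ℬ.deg V hV)₊ ≤ ((𝒜.deg U hU)₊).map (u.gradedAt U hU V hV hle) := by
  intro z hz
  change z ∈ Ideal.map (u.gradedAt U hU V hV hle) ((𝒜.deg U hU)₊).toIdeal
  refine Ideal.span_le.mpr ?_ (hgen V hV hz)
  intro ℓ hℓ
  let I : Ideal (ℬ.presheaf.obj (op V)) :=
    Ideal.map (u.gradedAt U hU V hV hle) ((𝒜.deg U hU)₊).toIdeal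
  let J : Ideal Γ(X, V) :=
    { carrier := {c | (ℬ.str.app (op V)).hom c * ℓ ∈ I}
      add_mem' := by
        intro a b ha hb
        simp only [Set.mem_ofPred_eq, map_add, add_mul] at *
        exact I.add_mem ha hb
      zero_mem' := by simp
      smul_mem' := by
        intro c a ha
        simp only [Set.mem_ofPred_eq, smul_eq_mul, map_mul, mul_assoc] at *
        exact I.mul_mem_left _ ha }
  have hJ : J = ⊤ := by
    have h1 : Ideal.span (J : Set Γ(X, V)) = ⊤ := by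
      rw [← hV.self_le_iSup_basicOpen_iff]
      intro x hxV
      obtain ⟨U₁, hU₁, e, he, V₁, hV₁, hle₁, hxV₁, hspan⟩ := hsurj x
      obtain ⟨c, hxc, hc⟩ := exists_mul_mem u U hU V hV hle U₁ hU₁ e he V₁ hV₁ hle₁ hspan x hxV
        hxV₁ ℓ hℓ
      exact Opens.mem_iSup.mpr ⟨⟨c, hc⟩, hxc⟩
    rwa [Ideal.span_eq] at h1
  have h1 : (1 : Γ(X, V)) ∈ J := by rw [hJ]; trivial
  have h2 : (ℬ.str.app (op V)).hom 1 * ℓ ∈ I := h1
  rwa [map_one, one_mul] at h2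

end Main

end Groth.Agent.Lib.helper28.IrrOfSurj
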