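import Groth.Agent.Lib.Helper8.PullbackUnit2
import Groth.Agent.Lib.Helper16.CohFinite

/-!
# More on base change in universal-property form (helper28)

Additions to helper8's `IsBC`:

* `IsBC.trans`: base changes compose.
* `IsBC.of_semilinearEquiv`: transport along isomorphisms of rings and semilinear bijections.
* `IsBC.upgrade`: a base change along `R → R'` between a `B₀`-module and a `B₀'`-module is a base
  change along `B₀ → B₀'` when `B₀'` is generated by the images of `R'` and `B₀`.
* `isBC_res_basicOpen`: for a quasi-coherent module, restriction to a basic open of an affine open.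
* `isIso_homEquiv_symm_of_isBC_cover`: the criterion of helper8 for `g^* A ⟶ B` to be an
  isomorphism, for an affine open *cover* (`B` quasi-coherent) instead of a basis.
-/

set_option autoImplicit false
universe u
open CategoryTheory AlgebraicGeometry TopologicalSpace Opposite

namespace Groth.Agent.Lib.helper28.IsBCExtra

open Groth.Agent.Lib.helper8.PullbackUnit

section Algebra

variable {R R' R'' : Type u} [CommRing R] [CommRing R'] [CommRing R'']
  {φ : R →+* R'} {φ' : R' →+* R''} {N P Q : Type u}
  [AddCommGroup N] [Module R N] [AddCommGroup P] [Module R' P] [AddCommGroup Q] [Module R'' Q]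
  {k : N →+ P} {k' : P →+ Q}

theorem IsBC.trans (hk : IsBC φ k) (hk' : IsBC φ' k') : IsBC (φ'.comp φ) (k'.comp k) := by
  constructor
  · intro r n
    change k' (k (r • n)) = φ' (φ r) • k' (k n)
    rw [hk.map_smul, hk'.map_smul]
  · intro T _ _ h hh
    letI : Module R' T := Module.compHom T φ'
    obtain ⟨h₁, hh₁, hu₁⟩ := hk.existsUnique_lift T h (fun r n => by
      rw [hh]
      rfl)
    obtain ⟨h₂, hh₂, hu₂⟩ := hk'.existsUnique_lift T h₁.toAddMonoidHom (fun r p => by
      change h₁ (r • p) = φ' r • h₁ p
      rw [_root_.map_smul]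
      rfl)
    refine ⟨h₂, fun n => ?_, fun h₃ hh₃ => ?_⟩
    · change h₂ (k' (k n)) = h n
      rw [hh₂]
      exact hh₁ n
    · apply hu₂
      intro p
      let h₃' : P →ₗ[R'] T :=
        { toFun := fun p => h₃ (k' p)
          map_add' := fun a b => by rw [map_add, map_add]
          map_smul' := fun r p => by
            rw [hk'.map_smul, _root_.map_smul]
            rfl }
      have : h₃' = h₁ := hu₁ h₃' (fun n => hh₃ n)
      exact congr($this p)

/-- Transport of `IsBC` along isomorphisms of rings and semilinear additive bijections. -/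
theorem IsBC.of_semilinearEquiv (hk : IsBC φ k)
    {R₁ R₁' N₁ P₁ : Type u} [CommRing R₁] [CommRing R₁'] [AddCommGroup N₁] [Module R₁ N₁]
    [AddCommGroup P₁] [Module R₁' P₁] (φ₁ : R₁ →+* R₁') (k₁ : N₁ →+ P₁)
    (ε : R₁ ≃+* R) (ε' : R₁' ≃+* R') (hφ : ∀ r, ε' (φ₁ r) = φ (ε r))
    (eN : N₁ ≃+ N) (heN : ∀ (r : R₁) (x : N₁), eN (r • x) = ε r • eN x)
    (eP : P₁ ≃+ P) (heP : ∀ (r : R₁') (x : P₁), eP (r • x) = ε' r • eP x)
    (hcomm : ∀ x, eP (k₁ x) = k (eN x)) : IsBC φ₁ k₁ := by
  constructor
  · intro r x
    apply eP.injective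
    rw [hcomm, heN, hk.map_smul, heP, hcomm, hφ]
  · intro T _ _ h hh
    letI : Module R' T := Module.compHom T ε'.symm.toRingHom
    have hsm : ∀ (r : R') (t : T), r • t = ε'.symm r • t := fun _ _ => rfl
    obtain ⟨h', hh', hu⟩ := hk.existsUnique_lift T (h.comp eN.symm.toAddMonoidHom) (by
      intro r n
      change h (eN.symm (r • n)) = φ r • h (eN.symm n)
      have e1 : eN.symm (r • n) = ε.symm r • eN.symm n := by
        apply eN.injective
        rw [AddEquiv.apply_symm_apply, heN, RingEquiv.apply_symm_apply,
          AddEquiv.apply_symm_apply]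
      rw [e1, hh, hsm]
      congr 1
      apply ε'.injective
      rw [RingEquiv.apply_symm_apply, hφ, RingEquiv.apply_symm_apply])
    let h₁ : P₁ →ₗ[R₁'] T :=
      { toFun := fun x => h' (eP x)
        map_add' := fun a b => by rw [map_add, map_add]
        map_smul' := fun r x => by
          rw [heP, _root_.map_smul, hsm, RingEquiv.symm_apply_apply]
          rfl }
    refine ⟨h₁, fun x => ?_, fun h₂ hh₂ => ?_⟩
    · change h' (eP (k₁ x)) = h x
      rw [hcomm, hh']
      change h (eN.symm (eN x)) = h x
      rw [AddEquiv.symm_apply_apply]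
    · let h₂' : P →ₗ[R'] T :=
        { toFun := fun p => h₂ (eP.symm p)
          map_add' := fun a b => by rw [map_add, map_add]
          map_smul' := fun r p => by
            have e1 : eP.symm (r • p) = ε'.symm r • eP.symm p := by
              apply eP.injective
              rw [AddEquiv.apply_symm_apply, heP, RingEquiv.apply_symm_apply,
                AddEquiv.apply_symm_apply]
            rw [e1, _root_.map_smul]
            rfl }
      have : h₂' = h' := hu h₂' (fun n => by
        change h₂ (eP.symm (k n)) = h (eN.symm n)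
        rw [← hh₂]
        congr 1
        apply eP.injective
        rw [AddEquiv.apply_symm_apply, hcomm, AddEquiv.apply_symm_apply])
      ext x
      have := congr($this (eP x))
      change h₂ (eP.symm (eP x)) = h' (eP x) at this
      rw [AddEquiv.symm_apply_apply] at this
      exact this

end Algebra

section Upgrade

variable {R R' B₀ B₀' : Type u} [CommRing R] [CommRing R'] [CommRing B₀] [CommRing B₀']
  {φ : R →+* R'} {α : R →+* B₀} {β : R' →+* B₀'} {ψ : B₀ →+* B₀'}
  {N P : Type u} [AddCommGroup N] [Module B₀ N] [AddCommGroup P] [Module B₀' P] {k : N →+ P}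

/-- A base change along `R → R'` which is semilinear over `B₀ → B₀'` is a base change along
`B₀ → B₀'`, provided `B₀'` is generated as a ring by the images of `R'` and `B₀`. -/
theorem IsBC.upgrade (hw : ψ.comp α = β.comp φ)
    (hgen : Subring.closure (Set.range β ∪ Set.range ψ) = ⊤)
    (hsl : ∀ (b : B₀) (n : N), k (b • n) = ψ b • k n)
    (hk : letI := Module.compHom N α
      letI := Module.compHom P β
      IsBC φ k) : IsBC ψ k := by
  letI iN : Module R N := Module.compHom N α
  letI iP : Module R' P := Module.compHom P β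
  have hk' : IsBC φ k := hk
  refine ⟨hsl, ?_⟩
  intro T _ _ h hh
  letI iT : Module R' T := Module.compHom T β
  have hhR : ∀ (r : R) (n : N), h (r • n) = φ r • h n := by
    intro r n
    change h (α r • n) = β (φ r) • h n
    rw [hh]
    congr 1
    exact congr($hw r)
  obtain ⟨h', hh', hu⟩ := hk'.existsUnique_lift T h hhR
  -- `h'` is `B₀'`-linear
  have hlin : ∀ (b' : B₀') (p : P), h' (b' • p) = b' • h' p := by
    intro b'
    have hb' : b' ∈ Subring.closure (Set.range β ∪ Set.range ψ) := by rw [hgen]; trivial
    induction hb' using Subring.closure_induction with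
    | mem x hx =>
      rcases hx with ⟨r', rfl⟩ | ⟨b, rfl⟩
      · intro p
        exact h'.map_smul r' p
      · -- both sides are `R'`-linear in `p` and agree on `k n`
        obtain ⟨z, -, hz⟩ := hk'.existsUnique_lift T (h.comp (DistribMulAction.toAddMonoidHom N b))
          (by
            intro r n
            change h (b • (α r • n)) = β (φ r) • h (b • n)
            rw [smul_comm, hh]
            congr 1
            exact congr($hw r))
        let z₁ : P →ₗ[R'] T :=
          { toFun := fun p => h' (ψ b • p)
            map_add' := fun a c => by rw [smul_add, map_add]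
            map_smul' := fun r p => by
              change h' (ψ b • (β r • p)) = β r • h' (ψ b • p)
              rw [smul_comm]
              exact h'.map_smul r _ }
        let z₂ : P →ₗ[R'] T :=
          { toFun := fun p => ψ b • h' p
            map_add' := fun a c => by rw [map_add, smul_add]
            map_smul' := fun r p => by
              change ψ b • h' (β r • p) = β r • (ψ b • h' p)
              rw [smul_comm]
              congr 1
              exact h'.map_smul r _ }
        have e1 : z₁ = z := hz z₁ (fun n => by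
          change h' (ψ b • k n) = h (b • n)
          rw [← hsl, hh'])
        have e2 : z₂ = z := hz z₂ (fun n => by
          change ψ b • h' (k n) = h (b • n)
          rw [hh', hh])
        intro p
        exact congr($(e1.trans e2.symm) p)
    | zero => intro p; rw [zero_smul, zero_smul, map_zero]
    | one => intro p; rw [one_smul, one_smul]
    | add x y _ _ hx hy => intro p; rw [add_smul, add_smul, map_add, hx, hy]
    | neg x _ hx => intro p; rw [neg_smul, neg_smul, map_neg, hx]
    | mul x y _ _ hx hy => intro p; rw [mul_smul, mul_smul, hx, hy]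
  let H : P →ₗ[B₀'] T :=
    { toFun := h', map_add' := h'.map_add, map_smul' := hlin }
  refine ⟨H, hh', fun H₂ hH₂ => ?_⟩
  let H₂' : P →ₗ[R'] T :=
    { toFun := H₂
      map_add' := H₂.map_add
      map_smul' := fun r p => H₂.map_smul (β r) p }
  have : H₂' = h' := hu H₂' hH₂
  ext p
  exact congr($this p)

end Upgrade

section Geometric

open Scheme.Modules Groth.Agent.Lib.helper16.CohFinite

/-- For a quasi-coherent module, restriction from an affine open to a basic open is a base
change. -/
theorem isBC_res_basicOpen {Y : Scheme.{u}} (B : Y.Modules) [B.IsQuasicoherent] {V W : Y.Opens}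
    (hV : IsAffineOpen V) (b : Γ(Y, V)) (h : W ≤ V) (e : W = Y.basicOpen b) :
    IsBC (Y.presheaf.map (homOfLE h).op).hom (B.presheaf.map (homOfLE h).op).hom := by
  letI := algOfLE (X := Y) h
  letI := modOfLE B h
  haveI := isScalarTower_ofLE B h
  haveI : IsLocalization.Away b Γ(Y, W) := hV.isLocalization_of_eq_basicOpen b (homOfLE h) e
  haveI := isLocalizedModule_of_eq_basicOpen B hV b h e
  exact IsBC.of_isBaseChange (resLin B h)
    (IsLocalizedModule.isBaseChange (Submonoid.powers b) Γ(Y, W) (resLin B h))

variable {X Y : Scheme.{u}} (g : Y ⟶ X) {A : X.Modules} {B : Y.Modules}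

/-- **Criterion** (cover form): the adjoint `g^* A ⟶ B` of `v : A ⟶ g_* B` (`A`, `B`
quasi-coherent) is an isomorphism as soon as `Y` is covered by affine opens `V`, each mapping into
some affine open `U` of `X`, on which `Γ(A, U) → Γ(B, V)` is a base change along
`Γ(X, U) → Γ(Y, V)`. -/
theorem isIso_homEquiv_symm_of_isBC_cover [A.IsQuasicoherent] [B.IsQuasicoherent]
    (v : A ⟶ (pushforward g).obj B) (𝔘 : Set Y.Opens) (hcov : ∀ y : Y, ∃ V ∈ 𝔘, y ∈ V)
    (H : ∀ V ∈ 𝔘, IsAffineOpen V ∧ ∃ (U : X.Opens) (_ : IsAffineOpen U) (e : V ≤ g ⁻¹ᵁ U),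
      IsBC (g.appLE U V e).hom (ρv g e v)) :
    IsIso (((pullbackPushforwardAdjunction g).homEquiv A B).symm v) := by
  refine isIso_homEquiv_symm_of_isBC g v
    {W | ∃ V ∈ 𝔘, ∃ b : Γ(Y, V), W = Y.basicOpen b} ?_ ?_
  · rw [Opens.isBasis_iff_nbhd]
    intro O y hy
    obtain ⟨V, hV, hyV⟩ := hcov y
    obtain ⟨b, hbO, hyb⟩ := (H V hV).1.exists_basicOpen_le (V := O) ⟨y, hy⟩ hyV
    exact ⟨_, ⟨V, hV, b, rfl⟩, hyb, hbO⟩
  · rintro _ ⟨V, hV, b, rfl⟩
    obtain ⟨hVa, U, hU, e, hbc⟩ := H V hV
    refine ⟨hVa.basicOpen b, U, hU, (Y.basicOpen_le b).trans e, ?_⟩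
    have h1 := IsBC.trans hbc (isBC_res_basicOpen B hVa b (Y.basicOpen_le b) rfl)
    have e1 : (g.appLE U (Y.basicOpen b) ((Y.basicOpen_le b).trans e)).hom =
        (Y.presheaf.map (homOfLE (Y.basicOpen_le b)).op).hom.comp (g.appLE U V e).hom := by
      rw [← CommRingCat.hom_comp, Scheme.Hom.appLE_map]
    have e2 : ρv g ((Y.basicOpen_le b).trans e) v =
        (B.presheaf.map (homOfLE (Y.basicOpen_le b)).op).hom.comp (ρv g e v) := by
      ext a
      change B.presheaf.map _ ((v.app U).hom a) =
        B.presheaf.map _ (B.presheaf.map _ ((v.app U).hom a))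
      rw [← ConcreteCategory.comp_apply, ← Functor.map_comp]
      rfl
    rw [e1, e2]
    exact h1

end Geometric

end Groth.Agent.Lib.helper28.IsBCExtra
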