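import Mathlib
import Groth.Prelude.Def_LCI2
import Groth.Agent.Lib.Helper26.Kos13
import Groth.Agent.Lib.Helper7.TorAPI2
import Groth.Agent.Lib.Helper7.TorAPI3
import Groth.Agent.LibKoszulFlat29
import Groth.Agent.LibKoszulLoc29
import Groth.Agent.Lib.Helper13.TorBal6

/-!
# `Tor` against the quotient by a Koszul-regular sequence (helper28)

* `exists_koszulRes`: the Koszul complex of a Koszul-regular sequence is a projective resolution of
  `A/(l)` (no Noetherian hypothesis).
* `isZero_tor_quotient`: if `l` is Koszul-regular in `A` and its image is Koszul-regular in the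
  `A`-algebra `A'`, then `Tor_i^A(A/(l), A') = 0` for `i ≥ 1`.
-/

set_option autoImplicit false
set_option linter.unusedSectionVars false
set_option linter.style.haveILetI false

universe u

open CategoryTheory CategoryTheory.Limits CochainComplex MonoidalCategory

namespace Groth.Agent.Lib.helper28.KoszulTor

open Groth.Agent.Lib.helper26.Kos Groth.Agent.Lib.helper7.TorAPI

variable {A : Type u} [CommRing A]

/-- The Koszul complex of a Koszul-regular sequence is a projective resolution of `A/(l)`. -/
theorem exists_koszulRes (l : List A) (hl : LCI.IsKoszulRegularSeq A l)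
    (I : Ideal A) (hI : I = Ideal.span {b | b ∈ l}) :
    ∃ P : ProjectiveResolution (ModuleCat.of A (A ⧸ I)),
      P.complex = toChain (CohIII.koszulCx (ModuleCat.of A A) l) := by
  obtain ⟨e0, hpos, hrange⟩ := exists_low A l
  have hrange' : (LinearMap.range ((CohIII.koszulCx (ModuleCat.of A A) l).d (-1) 0).hom).map
      e0.toLinearMap = I := by
    rw [hrange, hI, smul_eq_mul, Ideal.mul_top]
  let aug : (CohIII.koszulCx (ModuleCat.of A A) l).X (ng 0) ⟶ ModuleCat.of A (A ⧸ I) :=
    ModuleCat.ofHom ((Submodule.mkQ I) ∘ₗ e0.toLinearMap)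
  have haug_apply : ∀ z, aug z = Submodule.Quotient.mk (e0 z) := fun z => rfl
  have hdmem : ∀ z, e0 (((CohIII.koszulCx (ModuleCat.of A A) l).d (-1) 0).hom z) ∈ I := by
    intro z
    rw [← hrange']
    exact ⟨_, ⟨z, rfl⟩, rfl⟩
  have haug : (CohIII.koszulCx (ModuleCat.of A A) l).d (ng (0 + 1)) (ng 0) ≫ aug = 0 := by
    ext z
    show aug (((CohIII.koszulCx (ModuleCat.of A A) l).d (-1) 0).hom z) = 0
    rw [haug_apply, Submodule.Quotient.mk_eq_zero]
    exact hdmem z
  have hsurj : Function.Surjective aug := by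
    intro y
    obtain ⟨a, rfl⟩ := Submodule.mkQ_surjective I y
    exact ⟨e0.symm a, by rw [haug_apply, LinearEquiv.apply_symm_apply]; rfl⟩
  have hex0 : LinearMap.range ((CohIII.koszulCx (ModuleCat.of A A) l).d (ng (0 + 1)) (ng 0)).hom =
      LinearMap.ker aug.hom := by
    ext z
    constructor
    · rintro ⟨y, rfl⟩
      rw [LinearMap.mem_ker]
      show aug _ = 0
      rw [haug_apply, Submodule.Quotient.mk_eq_zero]
      exact hdmem y
    · intro hz
      rw [LinearMap.mem_ker] at hz
      have hz' : aug z = 0 := hz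
      rw [haug_apply, Submodule.Quotient.mk_eq_zero, ← hrange'] at hz'
      obtain ⟨_, ⟨y, rfl⟩, hy⟩ := hz'
      exact ⟨y, e0.injective hy⟩
  have hex : ∀ m : ℕ, LinearMap.range ((CohIII.koszulCx (ModuleCat.of A A) l).d
      (ng (m + 1 + 1)) (ng (m + 1))).hom =
      LinearMap.ker ((CohIII.koszulCx (ModuleCat.of A A) l).d (ng (m + 1)) (ng m)).hom := by
    intro m
    have hz := hl (ng (m + 1)) (by simp [ng]; omega)
    have hex1 := ((Koszul.koszul A l).exactAt_iff_isZero_homology _).2 hz
    rw [Groth.Agent.LibKoszulLoc29.koszul_eq_koszulCx] at hex1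
    rw [HomologicalComplex.exactAt_iff' _ (ng (m + 1 + 1)) (ng (m + 1)) (ng m)
      (by simp [ng]; try omega) (by simp [ng]; try omega),
      ShortComplex.moduleCat_exact_iff_range_eq_ker] at hex1
    exact hex1
  refine ⟨{ complex := toChain (CohIII.koszulCx (ModuleCat.of A A) l)
            projective := fun n => ?_
            π := toChainπ aug haug
            quasiIso := quasiIso_toChainπ aug haug hsurj hex0 hex }, rfl⟩
  have := projective_koszulCx A l (ng n)
  exact (IsProjective.iff_projective (R := A) _).mp this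

section Bridge

variable {A' : Type u} [CommRing A'] (φ : A →+* A')

/-- `A'` as an `A`-module by restriction of scalars. -/
noncomputable abbrev Rm : ModuleCat.{u} A :=
  (ModuleCat.restrictScalars φ).obj (ModuleCat.of A' A')

theorem extendScalars_map_apply {M₁ M₂ : ModuleCat.{u} A} (f : M₁ ⟶ M₂)
    (x : TensorProduct A (Rm φ) M₁) :
    (((ModuleCat.extendScalars.{u, u, u} φ).map f).hom x : TensorProduct A (Rm φ) M₂) =
      (Rm φ ◁ f).hom x := by
  induction x using TensorProduct.induction_on with
  | zero =>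
    exact (map_zero ((ModuleCat.extendScalars.{u, u, u} φ).map f).hom).trans
      (map_zero (Rm φ ◁ f).hom).symm
  | tmul s m => rfl
  | add x y hx hy =>
    have h1 := map_add ((ModuleCat.extendScalars.{u, u, u} φ).map f).hom x y
    have h2 := map_add (Rm φ ◁ f).hom x y
    exact h1.trans ((congrArg₂ (· + ·) hx hy).trans h2.symm)

theorem exact_whiskerLeft_of_exact_extendScalars {M₁ M₂ M₃ : ModuleCat.{u} A} (f : M₁ ⟶ M₂)
    (g : M₂ ⟶ M₃) (w : f ≫ g = 0)
    (h : (ShortComplex.mk ((ModuleCat.extendScalars.{u, u, u} φ).map f)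
      ((ModuleCat.extendScalars.{u, u, u} φ).map g)
      (by rw [← Functor.map_comp, w, Functor.map_zero])).Exact) :
    (ShortComplex.mk (Rm φ ◁ f) (Rm φ ◁ g)
      (by rw [← MonoidalCategory.whiskerLeft_comp, w, MonoidalPreadditive.whiskerLeft_zero])).Exact := by
  rw [ShortComplex.ShortExact.moduleCat_exact_iff_function_exact] at h ⊢
  intro y
  have hy := h y
  constructor
  · intro h0
    have h1 : ((ModuleCat.extendScalars.{u, u, u} φ).map g).hom y = 0 := by
      rw [extendScalars_map_apply]
      exact h0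
    obtain ⟨x, hx⟩ := hy.mp h1
    refine ⟨x, ?_⟩
    have := extendScalars_map_apply φ f x
    exact this.symm.trans hx
  · rintro ⟨x, hx⟩
    have h1 : ((ModuleCat.extendScalars.{u, u, u} φ).map g).hom y = 0 :=
      hy.mpr ⟨x, (extendScalars_map_apply φ f x).trans hx⟩
    rw [extendScalars_map_apply] at h1
    exact h1

end Bridge

section Main

variable {A' : Type u} [CommRing A'] (φ : A →+* A')

/-- exactness of `A' ⊗ K(l)` in nonzero degrees. -/
theorem exact_whiskerLeft_koszul (l : List A) (hl' : LCI.IsKoszulRegularSeq A' (l.map φ))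
    (a b c : ℤ) (hab : a + 1 = b) (hbc : b + 1 = c) (hb : b ≠ 0) :
    (ShortComplex.mk (Rm φ ◁ (Koszul.koszul A l).d a b) (Rm φ ◁ (Koszul.koszul A l).d b c)
      (by rw [← MonoidalCategory.whiskerLeft_comp, HomologicalComplex.d_comp_d,
        MonoidalPreadditive.whiskerLeft_zero])).Exact := by
  apply exact_whiskerLeft_of_exact_extendScalars φ _ _ ((Koszul.koszul A l).d_comp_d a b c)
  obtain ⟨e⟩ := Groth.Agent.LibKoszulFlat29.nonempty_koszul_iso φ l
  have h1 : (Koszul.koszul A' (l.map φ)).ExactAt b :=
    (HomologicalComplex.exactAt_iff_isZero_homology _ _).mpr (hl' b hb)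
  have h2 : ((Groth.Agent.LibKoszulFlat29.FC φ).obj (Koszul.koszul A l)).ExactAt b :=
    h1.of_iso e.symm
  rw [HomologicalComplex.exactAt_iff' _ a b c (by simp; omega) (by simp; omega)] at h2
  exact h2

/-- **`Tor_i^A(A', A/(l)) = 0`** for `i ≥ 1`, when `l` is Koszul-regular in `A` and in `A'`. -/
theorem isZero_T_Rm_quotient (l : List A) (hl : LCI.IsKoszulRegularSeq A l)
    (hl' : LCI.IsKoszulRegularSeq A' (l.map φ)) (I : Ideal A) (hI : I = Ideal.span {b | b ∈ l})
    (i : ℕ) : IsZero ((T (i + 1) (Rm φ)).obj (ModuleCat.of A (A ⧸ I))) := by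
  obtain ⟨P, hP⟩ := exists_koszulRes l hl I hI
  refine IsZero.of_iso ?_ (P.isoLeftDerivedObj (tF (Rm φ)) (i + 1))
  change IsZero ((((tF (Rm φ)).mapHomologicalComplex (ComplexShape.down ℕ)).obj
    P.complex).homology (i + 1))
  rw [← HomologicalComplex.exactAt_iff_isZero_homology, hP,
    ← Groth.Agent.LibKoszulLoc29.koszul_eq_koszulCx,
    HomologicalComplex.exactAt_iff' _ (i + 2) (i + 1) i (by simp) (by simp)]
  have h := exact_whiskerLeft_koszul φ l hl' (ng (i + 2)) (ng (i + 1)) (ng i)
    (by simp only [ng]; push_cast; ring) (by simp only [ng]; push_cast; ring)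
    (by simp only [ng]; push_cast; omega)
  refine ShortComplex.exact_of_iso ?_ h
  refine ShortComplex.isoMk (Iso.refl _) (Iso.refl _) (Iso.refl _) ?_ ?_
  · simp only [Iso.refl_hom]
    erw [Category.id_comp, Category.comp_id]
    change (((tF (Rm φ)).mapHomologicalComplex (ComplexShape.down ℕ)).obj
      (toChain (Koszul.koszul A l))).d (i + 2) (i + 1) = _
    rw [Functor.mapHomologicalComplex_obj_d, toChain_d]
    rfl
  · simp only [Iso.refl_hom]
    erw [Category.id_comp, Category.comp_id]
    change (((tF (Rm φ)).mapHomologicalComplex (ComplexShape.down ℕ)).obj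
      (toChain (Koszul.koszul A l))).d (i + 1) i = _
    rw [Functor.mapHomologicalComplex_obj_d, toChain_d]
    rfl

end Main

section Alg

variable (A' : Type u) [CommRing A'] [Algebra A A']

/-- `A'` with its algebra module structure is `A'` with the restricted module structure. -/
noncomputable def rmEquiv : (Rm (algebraMap A A') : Type u) ≃ₗ[A] A' where
  toFun := fun s => s
  invFun := fun s => s
  map_add' := fun _ _ => rfl
  map_smul' := fun a s => (Algebra.smul_def (A := A') a s).symm
  left_inv := fun _ => rfl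
  right_inv := fun _ => rfl

/-- `A'` with its algebra module structure is `A'` with the restricted module structure. -/
noncomputable def rmIso : Rm (algebraMap A A') ≅ ModuleCat.of A A' :=
  (rmEquiv A').toModuleIso

/-- **`Tor_i^A(A/(l), A') = 0`** for `i ≥ 1`, when `l` is Koszul-regular in `A` and its image is
Koszul-regular in the `A`-algebra `A'`. -/
theorem isZero_tor_quotient (l : List A) (hl : LCI.IsKoszulRegularSeq A l)
    (hl' : LCI.IsKoszulRegularSeq A' (l.map (algebraMap A A'))) (I : Ideal A)
    (hI : I = Ideal.span {b | b ∈ l}) (i : ℕ) :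
    IsZero ((T (i + 1) (ModuleCat.of A (A ⧸ I))).obj (ModuleCat.of A A')) := by
  obtain ⟨e⟩ := Groth.Agent.Lib.helper13.TorBal.nonempty_tor_iso_flip A (i + 1)
  have h1 := isZero_T_Rm_quotient (algebraMap A A') l hl hl' I hI i
  have h2 : IsZero ((T (i + 1) (ModuleCat.of A A')).obj (ModuleCat.of A (A ⧸ I))) :=
    h1.of_iso ((((Tor (ModuleCat.{u} A) (i + 1)).mapIso (rmIso A')).app
      (ModuleCat.of A (A ⧸ I))).symm)
  exact h2.of_iso ((e.app (ModuleCat.of A (A ⧸ I))).app (ModuleCat.of A A'))

end Alg

end Groth.Agent.Lib.helper28.KoszulTor
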