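import Mathlib
import Groth.Agent.Lib.Helper28.KoszulTor
import Groth.Agent.LibKoszulComp29

/-!
# `Tor` against the quotient by a Koszul-regular sequence, as Koszul homology (helper28)

* `nonempty_T_Rm_iso`: for `l` Koszul-regular in `A` and `π : A →+* B`,
  `Tor_{j+1}^A(B, A/(l)) ≅ H^{-(j+1)}` of the restriction of scalars of `K_B(π l)`.
-/

set_option autoImplicit false
set_option linter.unusedSectionVars false
set_option linter.style.haveILetI false

universe u

open CategoryTheory CategoryTheory.Limits CochainComplex MonoidalCategory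

namespace Groth.Agent.Lib.helper28.KoszulTor2

open Groth.Agent.Lib.helper26.Kos Groth.Agent.Lib.helper7.TorAPI Groth.Agent.Lib.helper28.KoszulTor
open Groth.Agent.LibKoszulComp29 Groth.Agent.LibKoszulFlat29

variable {A B : Type u} [CommRing A] [CommRing B] (π : A →+* B)

/-- `restrictScalars (extendScalars M)` is `B ⊗ M`. -/
noncomputable def resExtEquiv (M : ModuleCat.{u} A) :
    ((ModuleCat.restrictScalars.{u} π).obj ((ModuleCat.extendScalars.{u, u, u} π).obj M) : Type u)
      ≃ₗ[A] (TensorProduct A (Rm π) M) where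
  toFun := fun x => x
  invFun := fun x => x
  map_add' := fun _ _ => rfl
  map_smul' := fun _ _ => rfl
  left_inv := fun _ => rfl
  right_inv := fun _ => rfl

/-- `restrictScalars (extendScalars M) ≅ B ⊗ M`. -/
noncomputable def resExtIso (M : ModuleCat.{u} A) :
    (ModuleCat.restrictScalars.{u} π).obj ((ModuleCat.extendScalars.{u, u, u} π).obj M) ≅
      Rm π ⊗ M :=
  (resExtEquiv π M).toModuleIso

theorem resExtIso_hom_apply (M : ModuleCat.{u} A)
    (x : (ModuleCat.restrictScalars.{u} π).obj ((ModuleCat.extendScalars.{u, u, u} π).obj M)) :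
    (resExtIso π M).hom.hom x = x := rfl

theorem resExtIso_naturality {M₁ M₂ : ModuleCat.{u} A} (f : M₁ ⟶ M₂) :
    (ModuleCat.restrictScalars.{u} π).map ((ModuleCat.extendScalars.{u, u, u} π).map f) ≫
      (resExtIso π M₂).hom = (resExtIso π M₁).hom ≫ (Rm π ◁ f) := by
  ext x
  exact extendScalars_map_apply π f x

/-- **`Tor_{j+1}^A(B, A/(l))` is Koszul homology of `π l` over `B`** (restricted to `A`). -/
theorem nonempty_T_Rm_iso (l : List A) (hl : LCI.IsKoszulRegularSeq A l) (I : Ideal A)
    (hI : I = Ideal.span {b | b ∈ l}) (j : ℕ) :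
    Nonempty ((T (j + 1) (Rm π)).obj (ModuleCat.of A (A ⧸ I)) ≅
      ((RC π).obj (Koszul.koszul B (l.map π))).homology (ng (j + 1))) := by
  obtain ⟨P, hP⟩ := exists_koszulRes l hl I hI
  rw [← Groth.Agent.LibKoszulLoc29.koszul_eq_koszulCx] at hP
  obtain ⟨e⟩ := nonempty_koszul_iso π l
  let C := ((tF (Rm π)).mapHomologicalComplex (ComplexShape.down ℕ)).obj
    (toChain (Koszul.koszul A l))
  let D := (RC π).obj ((FC π).obj (Koszul.koszul A l))
  have e1 : (T (j + 1) (Rm π)).obj (ModuleCat.of A (A ⧸ I)) ≅ C.homology (j + 1) := by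
    have := P.isoLeftDerivedObj (tF (Rm π)) (j + 1)
    rw [hP] at this
    exact this
  have e2 : C.homology (j + 1) ≅ (C.sc' (j + 2) (j + 1) j).homology :=
    C.homologyIsoSc' (j + 2) (j + 1) j (by simp) (by simp)
  have e3 : D.homology (ng (j + 1)) ≅ (D.sc' (ng (j + 2)) (ng (j + 1)) (ng j)).homology :=
    D.homologyIsoSc' _ _ _ (by simp [ng]; omega) (by simp [ng])
  have e4 : D.sc' (ng (j + 2)) (ng (j + 1)) (ng j) ≅ C.sc' (j + 2) (j + 1) j := by
    refine ShortComplex.isoMk (resExtIso π _) (resExtIso π _) (resExtIso π _) ?_ ?_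
    · change _ ≫ C.d (j + 2) (j + 1) = _
      have : C.d (j + 2) (j + 1) = Rm π ◁ (Koszul.koszul A l).d (ng (j + 2)) (ng (j + 1)) := by
        change (((tF (Rm π)).mapHomologicalComplex (ComplexShape.down ℕ)).obj
          (toChain (Koszul.koszul A l))).d (j + 1 + 1) (j + 1) = _
        rw [Functor.mapHomologicalComplex_obj_d, toChain_d]
        rfl
      rw [this]
      exact (resExtIso_naturality π _).symm
    · change _ ≫ C.d (j + 1) j = _
      have : C.d (j + 1) j = Rm π ◁ (Koszul.koszul A l).d (ng (j + 1)) (ng j) := by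
        change (((tF (Rm π)).mapHomologicalComplex (ComplexShape.down ℕ)).obj
          (toChain (Koszul.koszul A l))).d (j + 1) j = _
        rw [Functor.mapHomologicalComplex_obj_d, toChain_d]
        rfl
      rw [this]
      exact (resExtIso_naturality π _).symm
  have e5 : D.homology (ng (j + 1)) ≅
      ((RC π).obj (Koszul.koszul B (l.map π))).homology (ng (j + 1)) :=
    (HomologicalComplex.homologyFunctor _ _ _).mapIso ((RC π).mapIso e)
  exact ⟨e1 ≪≫ e2 ≪≫ (ShortComplex.homologyMapIso e4).symm ≪≫ e3.symm ≪≫ e5⟩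

end Groth.Agent.Lib.helper28.KoszulTor2
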