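import Mathlib
import Groth.Agent.Lib.Helper28.GrpdLocal

/-!
# Largest opens over which a morphism has a property, and their stability under "actions"
-/

set_option autoImplicit false
universe u
open CategoryTheory CategoryTheory.Limits AlgebraicGeometry
open Groth.Agent.Lib.helper28.GrpdLocal

namespace Groth.Agent.Lib.helper28.LargestOpen

/-- existence of a largest open over which `f` has `P` -/
theorem exists_largest {X Y : Scheme.{u}} (f : X ⟶ Y) (P : MorphismProperty Scheme.{u})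
    [IsZariskiLocalAtTarget P] [P.IsStableUnderBaseChange] :
    ∃ V : Y.Opens, P (f ∣_ V) ∧ ∀ V' : Y.Opens, P (f ∣_ V') → V' ≤ V := by
  let V : Y.Opens := sSup {V' | P (f ∣_ V')}
  refine ⟨V, ?_, fun V' h => le_sSup h⟩
  apply IsZariskiLocalAtTarget.of_forall_exists_morphismRestrict
  intro x
  have hx : x.1 ∈ V := x.2
  obtain ⟨V', hV', hxV'⟩ : ∃ V' ∈ {V' | P (f ∣_ V')}, x.1 ∈ V' :=
    TopologicalSpace.Opens.mem_sSup.mp hx
  refine ⟨V.ι ⁻¹ᵁ V', hxV', ?_⟩
  set U : (V : Scheme.{u}).Opens := V.ι ⁻¹ᵁ V' with hU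
  have hrange : Set.range (U.ι ≫ V.ι) ⊆ Set.range V'.ι := by
    rintro _ ⟨z, rfl⟩
    rw [Scheme.Opens.range_ι]
    exact z.2
  let q : (U : Scheme.{u}) ⟶ (V' : Scheme.{u}) := IsOpenImmersion.lift V'.ι (U.ι ≫ V.ι) hrange
  have hq : q ≫ V'.ι = U.ι ≫ V.ι := IsOpenImmersion.lift_fac _ _ _
  have sq1 : IsPullback ((f ∣_ V) ⁻¹ᵁ U).ι ((f ∣_ V) ∣_ U) (f ∣_ V) U.ι :=
    (isPullback_morphismRestrict _ _).flip
  have sq2 : IsPullback (f ⁻¹ᵁ V).ι (f ∣_ V) f V.ι := (isPullback_morphismRestrict _ _).flip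
  have sq3 := sq1.paste_horiz sq2
  rw [← hq] at sq3
  obtain ⟨A, hA⟩ := restrict_pullback f V' q _ _ sq3
  exact P.of_isPullback hA hV'

/-- if `E → Y` has two structures `p`, `a` (projection and action) with `f` pulled back along both
giving the same `F : E' → E`, then the largest open of `Y` over which `f` has `P` is `a`-stable -/
theorem le_of_descends {X Y E E' : Scheme.{u}} (f : X ⟶ Y) (F : E' ⟶ E) (p a : E ⟶ Y)
    (p' a' : E' ⟶ X) (h₁ : IsPullback p' F f p) (h₂ : IsPullback a' F f a)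
    [Flat a] [UniversallyOpen a]
    (P : MorphismProperty Scheme.{u}) [P.IsStableUnderBaseChange]
    [P.DescendsAlong (@Flat ⊓ @Surjective ⊓ @UniversallyOpen)]
    (V : Y.Opens) (hV : P (f ∣_ V)) (hmax : ∀ V' : Y.Opens, P (f ∣_ V') → V' ≤ V) :
    p ⁻¹ᵁ V ≤ a ⁻¹ᵁ V := by
  set V₁ : E.Opens := p ⁻¹ᵁ V with hV₁
  set VV : E'.Opens := F ⁻¹ᵁ V₁ with hVV
  have hb : IsPullback VV.ι (F ∣_ V₁) F V₁.ι := (isPullback_morphismRestrict F V₁).flip
  -- P (F ∣_ V₁) by base change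
  have sq1 : IsPullback (VV.ι ≫ p') (F ∣_ V₁) f ((p ∣_ V) ≫ V.ι) := by
    rw [morphismRestrict_ι]
    exact hb.paste_horiz h₁
  obtain ⟨A, hA⟩ := restrict_pullback f V (p ∣_ V) _ _ sq1
  have hPb : P (F ∣_ V₁) := P.of_isPullback hA hV
  -- the image of V₁ under a
  set W : Y.Opens := ⟨a '' (V₁ : Set E), a.isOpenMap _ V₁.isOpen⟩ with hW
  have hrange : Set.range (V₁.ι ≫ a) ⊆ Set.range W.ι := by
    rintro _ ⟨x, rfl⟩
    rw [Scheme.Opens.range_ι]
    exact ⟨x.1, x.2, rfl⟩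
  set α : (V₁ : Scheme.{u}) ⟶ (W : Scheme.{u}) := IsOpenImmersion.lift W.ι (V₁.ι ≫ a) hrange with hα
  have hαι : α ≫ W.ι = V₁.ι ≫ a := IsOpenImmersion.lift_fac _ _ _
  have sq2 : IsPullback (VV.ι ≫ a') (F ∣_ V₁) f (α ≫ W.ι) := by
    rw [hαι]
    exact hb.paste_horiz h₂
  obtain ⟨B, hB⟩ := restrict_pullback f W α _ _ sq2
  have hαQ : (@Flat ⊓ @Surjective ⊓ @UniversallyOpen : MorphismProperty Scheme.{u}) α := by
    refine ⟨⟨?_, ?_⟩, ?_⟩
    · refine MorphismProperty.of_postcomp (W := @Flat) (W' := @IsOpenImmersion) α W.ι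
        inferInstance ?_
      rw [hαι]
      exact (inferInstance : Flat (V₁.ι ≫ a))
    · refine ⟨fun y => ?_⟩
      obtain ⟨x, hxV, hx⟩ := y.2
      refine ⟨⟨x, hxV⟩, ?_⟩
      apply Subtype.ext
      have := congrArg (fun g => g.base ⟨x, hxV⟩) hαι
      simpa using this.trans hx
    · refine MorphismProperty.of_postcomp (W := @UniversallyOpen) (W' := @IsOpenImmersion) α W.ι
        inferInstance ?_
      rw [hαι]
      exact (inferInstance : UniversallyOpen (V₁.ι ≫ a))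
  have hPW : P (f ∣_ W) :=
    MorphismProperty.DescendsAlong.of_isPullback (Q := @Flat ⊓ @Surjective ⊓ @UniversallyOpen)
      hB.flip hαQ hPb
  have hle : W ≤ V := hmax W hPW
  intro x hx
  exact hle ⟨x, hx, rfl⟩

end Groth.Agent.Lib.helper28.LargestOpen
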