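import Mathlib

/-!
Index identities for sublattices of `ℤⁿ` (helper28), used for CompLat S14805 / S14806.
-/

set_option autoImplicit false
namespace Groth.Agent.Lib.helper28.LatIdx
open Finset

variable {n : ℕ}

/-- sum of coordinates -/
abbrev Ssum (n : ℕ) : (Fin n → ℤ) →ₗ[ℤ] ℤ := ∑ i : Fin n, (LinearMap.proj i : (Fin n → ℤ) →ₗ[ℤ] ℤ)

/-- diagonal map -/
abbrev Dm (δ : Fin n → ℤ) : (Fin n → ℤ) →ₗ[ℤ] (Fin n → ℤ) := Matrix.mulVecLin (Matrix.diagonal δ)

lemma Ssum_apply (x : Fin n → ℤ) : Ssum n x = ∑ i, x i := by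
  simp [Ssum, LinearMap.sum_apply]

lemma Dm_apply (δ x : Fin n → ℤ) (i : Fin n) : Dm δ x i = δ i * x i := by
  simp [Dm, Matrix.mulVec_diagonal]

lemma Dm_injective (δ : Fin n → ℤ) (hδ : ∀ i, δ i ≠ 0) : Function.Injective (Dm δ) := by
  intro x y h
  funext i
  have := congrFun h i
  rw [Dm_apply, Dm_apply] at this
  exact mul_left_cancel₀ (hδ i) this

lemma card_quot_range_Dm (δ : Fin n → ℤ) (hδ : ∀ i, δ i ≠ 0) :
    (LinearMap.range (Dm δ)).toAddSubgroup.index = (∏ i, δ i).natAbs := by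
  have h := Submodule.natAbs_det_equiv (LinearMap.range (Dm δ))
    (LinearEquiv.ofInjective (Dm δ) (Dm_injective δ hδ)).toAddEquiv
  have h2 : (LinearMap.range (Dm δ)).subtype ∘ₗ
      AddMonoidHom.toIntLinearMap
        ((LinearEquiv.ofInjective (Dm δ) (Dm_injective δ hδ)).toAddEquiv : (Fin n → ℤ) →+ _) = Dm δ := by
    ext x i
    rfl
  rw [h2] at h
  rw [show (LinearMap.range (Dm δ)).toAddSubgroup.index =
    Nat.card ((Fin n → ℤ) ⧸ LinearMap.range (Dm δ)) from rfl, ← h]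
  rw [show Dm δ = Matrix.toLin' (Matrix.diagonal δ) from rfl, LinearMap.det_toLin', Matrix.det_diagonal]

lemma gcd_nonneg (δ : Fin n → ℤ) : 0 ≤ univ.gcd δ := by
  exact Int.nonneg_of_normalize_eq_self (Finset.normalize_gcd (s := (univ : Finset (Fin n))) (f := δ))

lemma Ssum_surjective (hn : 0 < n) : Function.Surjective (Ssum n) := by
  intro t
  refine ⟨Pi.single ⟨0, hn⟩ t, ?_⟩
  rw [Ssum_apply, Finset.sum_pi_single']
  simp

lemma map_range_eq_zmultiples (δ : Fin n → ℤ) :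
    (LinearMap.range (Dm δ)).toAddSubgroup.map (Ssum n).toAddMonoidHom =
      AddSubgroup.zmultiples (univ.gcd δ) := by
  ext t
  simp only [AddSubgroup.mem_map, Submodule.mem_toAddSubgroup, LinearMap.mem_range,
    AddSubgroup.mem_zmultiples_iff]
  constructor
  · rintro ⟨y, ⟨x, rfl⟩, rfl⟩
    have hdvd : univ.gcd δ ∣ ∑ i, δ i * x i :=
      Finset.dvd_sum (fun i _ => Dvd.dvd.mul_right (Finset.gcd_dvd (Finset.mem_univ i)) _)
    obtain ⟨c, hc⟩ := hdvd
    refine ⟨c, ?_⟩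
    show c • univ.gcd δ = Ssum n (Dm δ x)
    rw [Ssum_apply]
    simp only [Dm_apply]
    rw [hc, smul_eq_mul, mul_comm]
  · rintro ⟨c, rfl⟩
    obtain ⟨g, hg⟩ := Finset.gcd_eq_sum_mul (univ : Finset (Fin n)) δ
    refine ⟨Dm δ (c • g), ⟨_, rfl⟩, ?_⟩
    show Ssum n (Dm δ (c • g)) = c • univ.gcd δ
    rw [Ssum_apply, hg, Finset.smul_sum]
    refine Finset.sum_congr rfl (fun i _ => ?_)
    rw [Dm_apply]
    simp only [Pi.smul_apply, smul_eq_mul]
    ring

/-- core identity: for `N ≤ D⁻¹(ker S)`: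
`[D⁻¹ ker S : N] · |det D| = gcd δ · [ker S : D N]`. -/
lemma core (hn : 0 < n) (δ : Fin n → ℤ) (hδ : ∀ i, δ i ≠ 0) (N : AddSubgroup (Fin n → ℤ))
    (hN : N ≤ (LinearMap.ker (Ssum n ∘ₗ Dm δ)).toAddSubgroup) :
    N.relIndex (LinearMap.ker (Ssum n ∘ₗ Dm δ)).toAddSubgroup * (∏ i, δ i).natAbs =
      (univ.gcd δ).natAbs *
        (N.map (Dm δ).toAddMonoidHom).relIndex (LinearMap.ker (Ssum n)).toAddSubgroup := by
  set f : (Fin n → ℤ) →+ (Fin n → ℤ) := (Dm δ).toAddMonoidHom with hf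
  have hfinj : Function.Injective f := Dm_injective δ hδ
  set K : AddSubgroup (Fin n → ℤ) := (LinearMap.ker (Ssum n)).toAddSubgroup with hK
  set I : AddSubgroup (Fin n → ℤ) := (LinearMap.range (Dm δ)).toAddSubgroup with hI
  have hIr : I = f.range := by
    ext x; rfl
  have hKD : (LinearMap.ker (Ssum n ∘ₗ Dm δ)).toAddSubgroup = K.comap f := by
    ext x; rfl
  rw [hKD] at hN ⊢
  -- step 1
  have h1 : N.relIndex (K.comap f) = (N.map f).relIndex (K ⊓ I) := by
    rw [← AddSubgroup.relIndex_map_map_of_injective N (K.comap f) hfinj,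
      AddSubgroup.map_comap_eq, hIr, inf_comm]
  have hM : N.map f ≤ K ⊓ I := by
    rw [hIr, inf_comm, ← AddSubgroup.map_comap_eq]
    exact AddSubgroup.map_mono hN
  have h2 := AddSubgroup.relIndex_mul_relIndex (N.map f) (K ⊓ I) K hM inf_le_left
  have h3 : (K ⊓ I).relIndex K = I.relIndex (K ⊔ I) := by
    rw [AddSubgroup.inf_relIndex_left, AddSubgroup.relIndex_sup_right]
  have h4 := AddSubgroup.relIndex_mul_index (H := I) (K := K ⊔ I) le_sup_right
  have h5 : I.index = (∏ i, δ i).natAbs := card_quot_range_Dm δ hδ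
  have h6 : (K ⊔ I).index = (univ.gcd δ).natAbs := by
    have hker : K = (Ssum n).toAddMonoidHom.ker := by
      ext x; rfl
    rw [sup_comm, hker, ← AddSubgroup.comap_map_eq, map_range_eq_zmultiples,
      AddSubgroup.index_comap_of_surjective _ (Ssum_surjective hn), Int.index_zmultiples]
  rw [h1, ← h2, h3, ← h5, ← h4, h6]
  ring

lemma card_quot_comap {M : Type*} [AddCommGroup M] (P Q : Submodule ℤ M) :
    Nat.card (↥Q ⧸ P.comap Q.subtype) = P.toAddSubgroup.relIndex Q.toAddSubgroup := rfl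

/-- Submodule form of `core`. -/
lemma core' (hn : 0 < n) (δ : Fin n → ℤ) (hδ : ∀ i, δ i ≠ 0) (B : (Fin n → ℤ) →ₗ[ℤ] (Fin n → ℤ))
    (hB : Ssum n ∘ₗ Dm δ ∘ₗ B = 0) :
    (Nat.card (LinearMap.ker (Ssum n ∘ₗ Dm δ) ⧸
        (LinearMap.range B).comap (LinearMap.ker (Ssum n ∘ₗ Dm δ)).subtype) : ℤ) * |∏ i, δ i| =
      (univ.gcd δ) * Nat.card (LinearMap.ker (Ssum n) ⧸
        (LinearMap.range (Dm δ ∘ₗ B)).comap (LinearMap.ker (Ssum n)).subtype) := by
  have hN : (LinearMap.range B).toAddSubgroup ≤ (LinearMap.ker (Ssum n ∘ₗ Dm δ)).toAddSubgroup := by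
    rintro x ⟨y, rfl⟩
    have := LinearMap.congr_fun hB y
    exact this
  have h := core hn δ hδ _ hN
  rw [card_quot_comap, card_quot_comap, LinearMap.range_comp, Submodule.map_toAddSubgroup]
  rw [← Int.natCast_natAbs (∏ i, δ i), ← Int.natAbs_of_nonneg (gcd_nonneg δ)]
  exact_mod_cast h

end Groth.Agent.Lib.helper28.LatIdx
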