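import Mathlib
import Groth.Agent.Lib.Helper28.LatIdx

/-!
Second index identity for sublattices of `ℤⁿ` (helper28), used for CompLat S14806.
-/

set_option autoImplicit false
namespace Groth.Agent.Lib.helper28.LatIdx
open Finset

variable {n : ℕ}

/-- the primitive vector `δ' / gcd δ'` -/
def wv (δ' : Fin n → ℤ) : Fin n → ℤ := fun i => δ' i / univ.gcd δ'

lemma wv_spec (δ' : Fin n → ℤ) (i : Fin n) : δ' i = univ.gcd δ' * wv δ' i :=
  (Int.mul_ediv_cancel' (Finset.gcd_dvd (mem_univ i))).symm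

lemma gcd_ne_zero (hn : 0 < n) (δ' : Fin n → ℤ) (hδ' : ∀ i, δ' i ≠ 0) : univ.gcd δ' ≠ 0 := by
  intro h
  have := Finset.gcd_dvd (f := δ') (mem_univ (⟨0, hn⟩ : Fin n))
  rw [h, zero_dvd_iff] at this
  exact hδ' _ this

lemma wv_ne_zero (δ' : Fin n → ℤ) (hδ' : ∀ i, δ' i ≠ 0) (i : Fin n) : wv δ' i ≠ 0 :=
  fun h => hδ' i (by rw [wv_spec δ' i, h, mul_zero])

lemma wv_bezout (hn : 0 < n) (δ' : Fin n → ℤ) (hδ' : ∀ i, δ' i ≠ 0) :
    ∃ g : Fin n → ℤ, ∑ i, wv δ' i * g i = 1 := by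
  obtain ⟨g, hg⟩ := Finset.gcd_eq_sum_mul (univ : Finset (Fin n)) δ'
  refine ⟨g, ?_⟩
  have hd := gcd_ne_zero hn δ' hδ'
  apply mul_left_cancel₀ hd
  rw [mul_one, Finset.mul_sum]
  conv_rhs => rw [hg]
  refine sum_congr rfl fun i _ => ?_
  rw [← mul_assoc, ← wv_spec]

lemma finrank_ker (A : Matrix (Fin n) (Fin n) ℤ) (hA : A.rank = n - 1) (hn : 0 < n) :
    Module.finrank ℤ (LinearMap.ker A.mulVecLin) = 1 := by
  have h1 := Submodule.finrank_quotient_add_finrank (LinearMap.ker A.mulVecLin)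
  have h2 : Module.finrank ℤ ((Fin n → ℤ) ⧸ LinearMap.ker A.mulVecLin) = A.rank :=
    (LinearMap.quotKerEquivRange A.mulVecLin).finrank_eq
  rw [h2, hA, Module.finrank_pi, Fintype.card_fin] at h1
  omega

lemma ker_eq (A : Matrix (Fin n) (Fin n) ℤ) (hA : A.rank = n - 1) (hn : 0 < n)
    (δ' : Fin n → ℤ) (hδ' : ∀ i, δ' i ≠ 0) (hAδ : A.mulVecLin δ' = 0) (x : Fin n → ℤ)
    (hx : A.mulVecLin x = 0) : ∃ t : ℤ, x = t • wv δ' := by
  set x' : LinearMap.ker A.mulVecLin := ⟨x, hx⟩ with hx'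
  set y' : LinearMap.ker A.mulVecLin := ⟨δ', hAδ⟩ with hy'
  have hnli : ¬ LinearIndependent ℤ ![x', y'] := by
    intro hli
    have := hli.fintype_card_le_finrank
    rw [finrank_ker A hA hn, Fintype.card_fin] at this
    omega
  rw [LinearIndependent.pair_iff] at hnli
  simp only [not_forall] at hnli
  obtain ⟨s, t, hst, hne⟩ := hnli
  have hsti : ∀ i, s * x i + t * δ' i = 0 := by
    intro i
    have := congrArg (fun z : LinearMap.ker A.mulVecLin => (z : Fin n → ℤ) i) hst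
    simpa [hx', hy'] using this
  have hs : s ≠ 0 := by
    intro hs
    apply hne
    refine ⟨hs, ?_⟩
    have := hsti ⟨0, hn⟩
    rw [hs, zero_mul, zero_add] at this
    exact (mul_eq_zero.1 this).resolve_right (hδ' _)
  obtain ⟨g, hg⟩ := wv_bezout hn δ' hδ'
  refine ⟨∑ i, x i * g i, ?_⟩
  funext i
  simp only [Pi.smul_apply, smul_eq_mul]
  apply mul_left_cancel₀ hs
  -- s * x i = - t * d * w i ; s * T = - t * d
  have hT : s * ∑ j, x j * g j = - t * univ.gcd δ' := by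
    rw [Finset.mul_sum]
    have : ∀ j, s * (x j * g j) = (- t * univ.gcd δ') * (wv δ' j * g j) := by
      intro j
      have h1 := hsti j
      rw [wv_spec δ' j] at h1
      linear_combination (g j) * h1
    rw [Finset.sum_congr rfl (fun j _ => this j), ← Finset.mul_sum, hg, mul_one]
  have h1 := hsti i
  rw [wv_spec δ' i] at h1
  rw [← mul_assoc, hT]
  linear_combination h1

lemma relIndex_ker (A : Matrix (Fin n) (Fin n) ℤ) (hA : A.rank = n - 1) (hn : 0 < n)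
    (δ' : Fin n → ℤ) (hδ' : ∀ i, δ' i ≠ 0) (hAδ : A.mulVecLin δ' = 0) :
    (LinearMap.range (Dm δ')).toAddSubgroup.relIndex (LinearMap.ker A.mulVecLin).toAddSubgroup =
      (univ.gcd δ').natAbs := by
  set φ : ℤ →+ (Fin n → ℤ) := (LinearMap.toSpanSingleton ℤ (Fin n → ℤ) (wv δ')).toAddMonoidHom with hφ
  have hφa : ∀ t : ℤ, φ t = t • wv δ' := fun t => rfl
  have hd := gcd_ne_zero hn δ' hδ'
  have hδw : δ' = univ.gcd δ' • wv δ' := by
    funext i; simp only [Pi.smul_apply, smul_eq_mul]; exact wv_spec δ' i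
  have hAw : A.mulVecLin (wv δ') = 0 := by
    have h1 : univ.gcd δ' • A.mulVecLin (wv δ') = 0 := by
      rw [← map_smul, ← hδw]; exact hAδ
    exact (smul_eq_zero.1 h1).resolve_left hd
  have hrange : φ.range = (LinearMap.ker A.mulVecLin).toAddSubgroup := by
    ext x
    constructor
    · rintro ⟨t, rfl⟩
      show A.mulVecLin (φ t) = 0
      rw [hφa, map_smul, hAw, smul_zero]
    · intro hx
      obtain ⟨t, ht⟩ := ker_eq A hA hn δ' hδ' hAδ x hx
      exact ⟨t, by rw [hφa, ht]⟩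
  have hcomap : (LinearMap.range (Dm δ')).toAddSubgroup.comap φ =
      AddSubgroup.zmultiples (univ.gcd δ') := by
    ext t
    simp only [AddSubgroup.mem_comap, Submodule.mem_toAddSubgroup, LinearMap.mem_range,
      AddSubgroup.mem_zmultiples_iff]
    constructor
    · rintro ⟨y, hy⟩
      have h1 := congrFun hy ⟨0, hn⟩
      rw [Dm_apply, hφa, wv_spec δ' ⟨0, hn⟩] at h1
      simp only [Pi.smul_apply, smul_eq_mul] at h1
      have h2 : univ.gcd δ' * y ⟨0, hn⟩ = t := by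
        apply mul_right_cancel₀ (wv_ne_zero δ' hδ' ⟨0, hn⟩)
        linear_combination h1
      exact ⟨y ⟨0, hn⟩, by rw [smul_eq_mul, mul_comm]; exact h2⟩
    · rintro ⟨c, rfl⟩
      refine ⟨fun _ => c, ?_⟩
      funext i
      rw [Dm_apply, hφa]
      simp only [Pi.smul_apply, smul_eq_mul]
      rw [wv_spec δ' i]; ring
  rw [← hrange, ← AddSubgroup.index_comap, hcomap, Int.index_zmultiples]

/-- `[A L : A D' L] · gcd δ' = |det D'|`. -/
lemma relIndex_range (A : Matrix (Fin n) (Fin n) ℤ) (hA : A.rank = n - 1) (hn : 0 < n)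
    (δ' : Fin n → ℤ) (hδ' : ∀ i, δ' i ≠ 0) (hAδ : A.mulVecLin δ' = 0) :
    (LinearMap.range (A.mulVecLin ∘ₗ Dm δ')).toAddSubgroup.relIndex
        (LinearMap.range A.mulVecLin).toAddSubgroup * (univ.gcd δ').natAbs =
      (∏ i, δ' i).natAbs := by
  set f : (Fin n → ℤ) →+ (Fin n → ℤ) := A.mulVecLin.toAddMonoidHom with hf
  set I : AddSubgroup (Fin n → ℤ) := (LinearMap.range (Dm δ')).toAddSubgroup with hI
  have h1 : (LinearMap.range (A.mulVecLin ∘ₗ Dm δ')).toAddSubgroup = I.map f := by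
    rw [LinearMap.range_comp, Submodule.map_toAddSubgroup]; rfl
  have h2 : (LinearMap.range A.mulVecLin).toAddSubgroup = (⊤ : AddSubgroup (Fin n → ℤ)).map f := by
    ext x
    simp only [AddSubgroup.mem_map, AddSubgroup.mem_top, true_and]
    rfl
  have hker : f.ker = (LinearMap.ker A.mulVecLin).toAddSubgroup := by
    ext x; rfl
  rw [h1, h2, AddSubgroup.relIndex_map_map, top_sup_eq, AddSubgroup.relIndex_top_right,
    ← card_quot_range_Dm δ' hδ', ← relIndex_ker A hA hn δ' hδ' hAδ, ← hI, ← hker,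
    ← AddSubgroup.relIndex_sup_left f.ker I, mul_comm]
  exact AddSubgroup.relIndex_mul_index le_sup_left

/-- Submodule form. -/
lemma core2 (hn : 0 < n) (δ δ' : Fin n → ℤ) (hδ' : ∀ i, δ' i ≠ 0)
    (A : Matrix (Fin n) (Fin n) ℤ) (hA : A.rank = n - 1)
    (hSDA : Ssum n ∘ₗ Dm δ ∘ₗ A.mulVecLin = 0) (hAδ : A.mulVecLin δ' = 0) :
    (Nat.card (LinearMap.ker (Ssum n ∘ₗ Dm δ) ⧸
        (LinearMap.range A.mulVecLin).comap (LinearMap.ker (Ssum n ∘ₗ Dm δ)).subtype) : ℤ)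
        * |∏ i, δ' i| =
      (univ.gcd δ') * Nat.card (LinearMap.ker (Ssum n ∘ₗ Dm δ) ⧸
        (LinearMap.range (A.mulVecLin ∘ₗ Dm δ')).comap
          (LinearMap.ker (Ssum n ∘ₗ Dm δ)).subtype) := by
  rw [card_quot_comap, card_quot_comap]
  have hle1 : (LinearMap.range (A.mulVecLin ∘ₗ Dm δ')).toAddSubgroup ≤
      (LinearMap.range A.mulVecLin).toAddSubgroup := by
    rintro x ⟨y, rfl⟩
    exact ⟨Dm δ' y, rfl⟩
  have hle2 : (LinearMap.range A.mulVecLin).toAddSubgroup ≤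
      (LinearMap.ker (Ssum n ∘ₗ Dm δ)).toAddSubgroup := by
    rintro x ⟨y, rfl⟩
    exact LinearMap.congr_fun hSDA y
  have h1 := AddSubgroup.relIndex_mul_relIndex _ _ _ hle1 hle2
  have h2 := relIndex_range A hA hn δ' hδ' hAδ
  have hg : (univ.gcd δ' : ℤ) = ((univ.gcd δ').natAbs : ℤ) :=
    (Int.natAbs_of_nonneg (gcd_nonneg δ')).symm
  have hp : |∏ i, δ' i| = ((∏ i, δ' i).natAbs : ℤ) := (Int.natCast_natAbs _).symm
  rw [hp, hg, ← h1, ← h2]
  push_cast
  ring

end Groth.Agent.Lib.helper28.LatIdx
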