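import Mathlib

set_option autoImplicit false
universe u

/-! For a graded ring `A` and `f ∈ A` of degree one: `A_f = A_(f)[T, T⁻¹]`, `T ↦ f` (helper28). -/

namespace Groth.Agent.Lib.helper28.LaurentAway

open HomogeneousLocalization

variable {A σ : Type u} [CommRing A] [SetLike σ A] [AddSubgroupClass σ A]
  (𝒜 : ℕ → σ) [GradedRing 𝒜] (f : A) (hf : f ∈ 𝒜 1)

/-- If a finite sum of homogeneous elements of pairwise distinct degrees vanishes, every term
vanishes. -/
theorem eq_zero_of_sum_eq_zero {ι : Type*} (s : Finset ι) (x : ι → A) (d : ι → ℕ)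
    (hd : Set.InjOn d s) (hx : ∀ k ∈ s, x k ∈ 𝒜 (d k)) (h : ∑ k ∈ s, x k = 0) :
    ∀ k ∈ s, x k = 0 := by
  classical
  intro k hk
  have h1 := congrArg (GradedRing.proj 𝒜 (d k)) h
  rw [map_sum, map_zero, Finset.sum_eq_single k] at h1
  · rw [GradedRing.proj_apply, DirectSum.decompose_of_mem_same _ (hx k hk)] at h1
    exact h1
  · intro j hj hjk
    rw [GradedRing.proj_apply]
    refine DirectSum.decompose_of_mem_ne _ (hx j hj) ?_
    intro hdd
    exact hjk (hd hj hk hdd)
  · intro hk'
    exact absurd hk hk'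

/-- The unit `f/1` of `A_f`. -/
noncomputable def fUnit : (Localization.Away f)ˣ :=
  (IsLocalization.Away.algebraMap_isUnit (S := Localization.Away f) f).unit

theorem fUnit_val : (fUnit f : Localization.Away f) = algebraMap A (Localization.Away f) f :=
  IsUnit.unit_spec _

/-- The homomorphism `A_(f)[T, T⁻¹] → A_f`, `T ↦ f`. -/
noncomputable def laurentToAway : LaurentPolynomial (Away 𝒜 f) →+* Localization.Away f :=
  LaurentPolynomial.eval₂ (algebraMap (Away 𝒜 f) (Localization.Away f)) (fUnit f)

theorem laurentToAway_C (c : Away 𝒜 f) :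
    laurentToAway 𝒜 f (LaurentPolynomial.C c) = algebraMap (Away 𝒜 f) (Localization.Away f) c :=
  LaurentPolynomial.eval₂_C _ _ c

omit [GradedRing 𝒜] in
theorem mem_nsmul_one {k : ℕ} {a : A} (ha : a ∈ 𝒜 k) : a ∈ 𝒜 (k • 1) := by
  simpa using ha

include hf in
theorem algebraMap_mem_range (a : A) :
    algebraMap A (Localization.Away f) a ∈ (laurentToAway 𝒜 f).range := by
  classical
  induction a using DirectSum.Decomposition.inductionOn 𝒜 with
  | zero =>
    rw [map_zero]
    exact zero_mem _
  | @homogeneous i m =>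
    refine ⟨LaurentPolynomial.C (Away.mk 𝒜 hf i m.1 (mem_nsmul_one 𝒜 m.2)) *
      LaurentPolynomial.T i, ?_⟩
    rw [laurentToAway, LaurentPolynomial.eval₂_C_mul_T_n, fUnit_val]
    change (Away.mk 𝒜 hf i m.1 (mem_nsmul_one 𝒜 m.2)).val * _ = _
    rw [Away.val_mk, ← map_pow, Localization.mk_eq_mk']
    exact IsLocalization.mk'_spec _ m.1 ⟨f ^ i, pow_mem (Submonoid.mem_powers f) i⟩
  | add m m' h h' =>
    rw [map_add]
    exact add_mem h h'

include hf in
theorem laurentToAway_surjective : Function.Surjective (laurentToAway 𝒜 f) := by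
  classical
  intro q
  change q ∈ (laurentToAway 𝒜 f).range
  obtain ⟨a, ⟨_, n, rfl⟩, rfl⟩ := IsLocalization.exists_mk'_eq (Submonoid.powers f) q
  have hinv : ((fUnit f)⁻¹ : (Localization.Away f)ˣ).val ∈ (laurentToAway 𝒜 f).range := by
    refine ⟨LaurentPolynomial.T (-1), ?_⟩
    have := LaurentPolynomial.eval₂_T_neg_n (algebraMap (Away 𝒜 f) (Localization.Away f))
      (fUnit f) 1
    rw [pow_one] at this
    exact this
  have h1 : IsLocalization.mk' (Localization.Away f) a
      (⟨f ^ n, n, rfl⟩ : Submonoid.powers f) =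
      algebraMap A (Localization.Away f) a * (((fUnit f)⁻¹ : (Localization.Away f)ˣ).val) ^ n := by
    rw [IsLocalization.mk'_eq_iff_eq_mul]
    change _ = _ * algebraMap A (Localization.Away f) (f ^ n)
    rw [map_pow, ← fUnit_val, mul_assoc, ← mul_pow, Units.inv_mul, one_pow, mul_one]
  rw [h1]
  exact mul_mem (algebraMap_mem_range 𝒜 f hf a) (pow_mem hinv n)

include hf in
/-- A polynomial over `A_(f)` vanishing at `f/1 ∈ A_f` is zero. -/
theorem poly_eq_zero (Q : Polynomial (Away 𝒜 f))
    (h : Polynomial.eval₂ (algebraMap (Away 𝒜 f) (Localization.Away f))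
      (algebraMap A (Localization.Away f) f) Q = 0) : Q = 0 := by
  classical
  choose m a ha hc using fun k => Away.mk_surjective 𝒜 hf (Q.coeff k)
  have ha' : ∀ k, a k ∈ 𝒜 (m k) := fun k => by simpa using ha k
  set M := Q.support.sup m with hM
  have hmM : ∀ k ∈ Q.support, m k ≤ M := fun k hk => Finset.le_sup hk
  -- the equation in `A_f`
  have h2 : algebraMap A (Localization.Away f)
      (∑ k ∈ Q.support, a k * f ^ (k + M - m k)) = 0 := by
    have h3 : algebraMap A (Localization.Away f) (∑ k ∈ Q.support, a k * f ^ (k + M - m k)) =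
        Polynomial.eval₂ (algebraMap (Away 𝒜 f) (Localization.Away f))
          (algebraMap A (Localization.Away f) f) Q * algebraMap A (Localization.Away f) f ^ M := by
      rw [Polynomial.eval₂_eq_sum, Polynomial.sum_def, map_sum, Finset.sum_mul]
      refine Finset.sum_congr rfl fun k hk => ?_
      rw [← hc k]
      change _ = (Away.mk 𝒜 hf (m k) (a k) (ha k)).val * _ * _
      rw [Away.val_mk, Localization.mk_eq_mk', map_mul, map_pow]
      have e1 : algebraMap A (Localization.Away f) (a k) =
          IsLocalization.mk' (Localization.Away f) (a k)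
            (⟨f ^ m k, pow_mem (Submonoid.mem_powers f) (m k)⟩ : Submonoid.powers f) *
            algebraMap A (Localization.Away f) f ^ m k := by
        rw [← map_pow]
        exact (IsLocalization.mk'_spec _ (a k)
          (⟨f ^ m k, pow_mem (Submonoid.mem_powers f) (m k)⟩ : Submonoid.powers f)).symm
      rw [e1, mul_assoc, mul_assoc, ← pow_add, ← pow_add]
      congr 2
      have := hmM k hk
      omega
    rw [h3, h, zero_mul]
  obtain ⟨⟨_, t, rfl⟩, ht⟩ := (IsLocalization.map_eq_zero_iff (Submonoid.powers f)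
    (Localization.Away f) _).mp h2
  have ht' : ∑ k ∈ Q.support, f ^ t * (a k * f ^ (k + M - m k)) = 0 := by
    rw [← Finset.mul_sum]
    exact ht
  have hterm := eq_zero_of_sum_eq_zero 𝒜 Q.support
    (fun k => f ^ t * (a k * f ^ (k + M - m k))) (fun k => t + k + M) ?_ ?_ ht'
  · refine Polynomial.ext fun k => ?_
    rw [Polynomial.coeff_zero]
    by_contra hk
    have hk' : k ∈ Q.support := Polynomial.mem_support_iff.mpr hk
    apply hk
    rw [← hc k]
    refine HomogeneousLocalization.val_injective _ ?_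
    rw [Away.val_mk, HomogeneousLocalization.val_zero, Localization.mk_eq_mk',
      IsLocalization.mk'_eq_zero_iff]
    refine ⟨⟨f ^ (t + (k + M - m k)), pow_mem (Submonoid.mem_powers f) _⟩, ?_⟩
    have := hterm k hk'
    change f ^ (t + (k + M - m k)) * a k = 0
    rw [pow_add, mul_assoc, mul_comm (f ^ (k + M - m k))]
    exact this
  · intro k _ k' _ hkk
    have : t + k + M = t + k' + M := hkk
    omega
  · intro k hk
    have h1 : f ^ t ∈ 𝒜 t := by simpa using SetLike.pow_mem_graded t hf
    have h2 : f ^ (k + M - m k) ∈ 𝒜 (k + M - m k) := by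
      simpa using SetLike.pow_mem_graded (k + M - m k) hf
    have h3 := SetLike.mul_mem_graded h1 (SetLike.mul_mem_graded (ha' k) h2)
    have e : t + (m k + (k + M - m k)) = t + k + M := by
      have := hmM k hk
      omega
    rw [e] at h3
    exact h3

include hf in
theorem laurentToAway_injective : Function.Injective (laurentToAway 𝒜 f) := by
  classical
  rw [injective_iff_map_eq_zero]
  intro P hP
  obtain ⟨n, Q, hQ⟩ := LaurentPolynomial.exists_T_pow P
  have h1 : Polynomial.eval₂ (algebraMap (Away 𝒜 f) (Localization.Away f))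
      (algebraMap A (Localization.Away f) f) Q = 0 := by
    rw [← fUnit_val, ← LaurentPolynomial.eval₂_toLaurent, hQ, map_mul]
    change laurentToAway 𝒜 f P * _ = 0
    rw [hP, zero_mul]
  have hQ0 : Q = 0 := poly_eq_zero 𝒜 f hf Q h1
  rw [hQ0, map_zero] at hQ
  exact ((LaurentPolynomial.isUnit_T (n : ℤ)).mul_left_eq_zero).mp hQ.symm

include hf in
theorem laurentToAway_bijective : Function.Bijective (laurentToAway 𝒜 f) :=
  ⟨laurentToAway_injective 𝒜 f hf, laurentToAway_surjective 𝒜 f hf⟩

/-- `A_(f)[T, T⁻¹] ≃ A_f`. -/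
noncomputable def laurentAwayEquiv : LaurentPolynomial (Away 𝒜 f) ≃+* Localization.Away f :=
  RingEquiv.ofBijective _ (laurentToAway_bijective 𝒜 f hf)

theorem laurentAwayEquiv_C (c : Away 𝒜 f) :
    laurentAwayEquiv 𝒜 f hf (LaurentPolynomial.C c) =
      algebraMap (Away 𝒜 f) (Localization.Away f) c :=
  laurentToAway_C 𝒜 f c

end Groth.Agent.Lib.helper28.LaurentAway
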