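import Mathlib
import Groth.Agent.Lib.Helper28.GrpdLocal

/-!
# Translations by `T`-points and maximal opens of the source of a homomorphism (SGA3 VI_B §2)
-/

set_option autoImplicit false
universe u
open CategoryTheory CategoryTheory.Limits MonoidalCategory CartesianMonoidalCategory MonObj AlgebraicGeometry

namespace Groth.Agent.Lib.helper28.MaxOpenSrc

/-- universal openness can be checked after precomposing with a surjection -/
lemma univOpen_of_comp_surjective {X' X Y : Scheme.{u}} (q : X' ⟶ X) [Surjective q] (f : X ⟶ Y)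
    (h : UniversallyOpen (q ≫ f)) : UniversallyOpen f := by
  rw [UniversallyOpen.eq] at h ⊢
  intro X₁ Y₁ i₁ i₂ f' hsq
  -- hsq : IsPullback f' i₁ i₂ f   (f' : X₁ ⟶ Y₁)
  have hq := IsPullback.of_hasPullback i₁ q
  have hbig : IsPullback (pullback.fst i₁ q ≫ f') (pullback.snd i₁ q) i₂ (q ≫ f) :=
    hq.paste_horiz hsq
  have hopen : IsOpenMap (pullback.fst i₁ q ≫ f') := h _ _ _ hbig
  have hsurj : Function.Surjective (pullback.fst i₁ q) :=
    (inferInstance : Surjective (pullback.fst i₁ q)).surj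
  intro O hO
  have : ⇑f' '' O = ⇑(pullback.fst i₁ q ≫ f') '' (⇑(pullback.fst i₁ q) ⁻¹' O) := by
    rw [Scheme.Hom.comp_base, TopCat.coe_comp, Set.image_comp, Set.image_preimage_eq _ hsurj]
  rw [this]
  exact hopen _ (hO.preimage (pullback.fst i₁ q).continuous)

variable {S : Scheme.{u}}

lemma isPullback_snd_whiskerLeft (T : Over S) {X Y : Over S} (f : X ⟶ Y) :
    IsPullback (snd T X).left (T ◁ f).left f.left (snd T Y).left := by
  have hr : IsPullback (fst T Y).left (snd T Y).left T.hom Y.hom := by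
    rw [Over.fst_left, Over.snd_left]
    exact IsPullback.of_hasPullback _ _
  have ht : IsPullback (fst T X).left (snd T X).left T.hom X.hom := by
    rw [Over.fst_left, Over.snd_left]
    exact IsPullback.of_hasPullback _ _
  have e1 : (T ◁ f).left ≫ (fst T Y).left = (fst T X).left := by
    rw [← Over.comp_left, whiskerLeft_fst]
  have e2 : (T ◁ f).left ≫ (snd T Y).left = (snd T X).left ≫ f.left := by
    rw [← Over.comp_left, whiskerLeft_snd, Over.comp_left]
  have ht' : IsPullback ((T ◁ f).left ≫ (fst T Y).left) (snd T X).left T.hom (f.left ≫ Y.hom) := by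
    rw [e1, Over.w f]
    exact ht
  exact (IsPullback.of_right ht' e2 hr).flip

lemma isPullback_fst_whiskerRight {T G : Over S} (g : T ⟶ G) (X : Over S) :
    IsPullback (g ▷ X).left (fst T X).left (fst G X).left g.left := by
  have hr : IsPullback (fst G X).left (snd G X).left G.hom X.hom := by
    rw [Over.fst_left, Over.snd_left]
    exact IsPullback.of_hasPullback _ _
  have ht : IsPullback (fst T X).left (snd T X).left T.hom X.hom := by
    rw [Over.fst_left, Over.snd_left]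
    exact IsPullback.of_hasPullback _ _
  have e1 : (g ▷ X).left ≫ (snd G X).left = (snd T X).left := by
    rw [← Over.comp_left, whiskerRight_snd]
  have e2 : (g ▷ X).left ≫ (fst G X).left = (fst T X).left ≫ g.left := by
    rw [← Over.comp_left, whiskerRight_fst, Over.comp_left]
  have ht' : IsPullback ((g ▷ X).left ≫ (snd G X).left) (fst T X).left X.hom (g.left ≫ G.hom) := by
    rw [e1, Over.w g]
    exact ht.flip
  exact IsPullback.of_right ht' e2 hr.flip

section ltr
variable {C : Type*} [Category C] [CartesianMonoidalCategory C] {T G H : C} [GrpObj G] [GrpObj H]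

/-- left translation by a `T`-point -/
def ltr (a : T ⟶ G) : T ⊗ G ⟶ T ⊗ G := lift (fst T G) ((fst T G ≫ a) * snd T G)

@[reassoc] lemma ltr_fst (a : T ⟶ G) : ltr a ≫ fst T G = fst T G := lift_fst _ _
@[reassoc] lemma ltr_snd (a : T ⟶ G) : ltr a ≫ snd T G = (fst T G ≫ a) * snd T G := lift_snd _ _

lemma ltr_comp (a b : T ⟶ G) : ltr a ≫ ltr b = ltr (b * a) := by
  apply CartesianMonoidalCategory.hom_ext
  · rw [Category.assoc, ltr_fst, ltr_fst, ltr_fst]
  · rw [Category.assoc, ltr_snd, MonObj.comp_mul, ltr_fst_assoc, ltr_snd, ltr_snd, MonObj.comp_mul,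
      _root_.mul_assoc]

lemma ltr_one : ltr (1 : T ⟶ G) = 𝟙 _ := by
  apply CartesianMonoidalCategory.hom_ext
  · rw [ltr_fst, Category.id_comp]
  · rw [ltr_snd, MonObj.comp_one, _root_.one_mul, Category.id_comp]

lemma ltr_inv_comp (a : T ⟶ G) : ltr a⁻¹ ≫ ltr a = 𝟙 _ := by
  rw [ltr_comp, mul_inv_cancel, ltr_one]

lemma ltr_comp_inv (a : T ⟶ G) : ltr a ≫ ltr a⁻¹ = 𝟙 _ := by
  rw [ltr_comp, inv_mul_cancel, ltr_one]

lemma ltr_whiskerLeft (a : T ⟶ G) (u : G ⟶ H) [IsMonHom u] :
    ltr a ≫ (T ◁ u) = (T ◁ u) ≫ ltr (a ≫ u) := by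
  apply CartesianMonoidalCategory.hom_ext
  · rw [Category.assoc, whiskerLeft_fst, ltr_fst, Category.assoc, ltr_fst, whiskerLeft_fst]
  · rw [Category.assoc, whiskerLeft_snd, ltr_snd_assoc, MonObj.mul_comp]
    conv_rhs => rw [Category.assoc, ltr_snd, MonObj.comp_mul, whiskerLeft_fst_assoc, whiskerLeft_snd]
    simp only [Category.assoc]

end ltr

/-- the open image of an open under an open map -/
def imgOpen {X Y : Scheme.{u}} (f : X ⟶ Y) (hf : IsOpenMap f) (U : X.Opens) : Y.Opens :=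
  ⟨f '' (U : Set X), hf _ U.isOpen⟩

/-- the translation lemma: the maximal open of the source on which `u` has `P` is stable under
translation by `T`-points, provided `P` descends from `T ⊗ G` to `G` (hypothesis `hdesc`). -/
theorem translate_mem (P : MorphismProperty Scheme.{u}) [P.RespectsIso] [P.IsStableUnderBaseChange]
    {G H : Over S} [GrpObj G] [GrpObj H] (u : G ⟶ H) [IsMonHom u]
    (T : Over S) (hpr : IsOpenMap (snd T G).left)
    (a : T ⟶ G) (V : G.left.Opens) (hV : P (V.ι ≫ u.left))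
    (hmax : ∀ W : G.left.Opens, P (W.ι ≫ u.left) → W ≤ V)
    (hdesc : ∀ N' : (T ⊗ G).left.Opens, P (N'.ι ≫ (T ◁ u).left) →
      P ((imgOpen (snd T G).left hpr N').ι ≫ u.left))
    (w : (T ⊗ G).left) (hw : (snd T G).left w ∈ V) :
    ((fst T G ≫ a) * snd T G).left w ∈ V := by
  obtain ⟨σ, σi, τ, hσσi, hσiσ, hτ, hcomm, hσsnd⟩ : ∃ (σ σi : T ⊗ G ⟶ T ⊗ G) (τ : T ⊗ H ⟶ T ⊗ H),
      σ ≫ σi = 𝟙 _ ∧ σi ≫ σ = 𝟙 _ ∧ IsIso τ ∧ σi ≫ (T ◁ u) ≫ τ = T ◁ u ∧
      σ ≫ snd T G = (fst T G ≫ a) * snd T G := by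
    refine ⟨ltr a, ltr a⁻¹, ltr (a ≫ u), ltr_comp_inv a, ltr_inv_comp a,
      ⟨⟨ltr (a ≫ u)⁻¹, ltr_comp_inv _, ltr_inv_comp _⟩⟩, ?_, ltr_snd a⟩
    have h1 : ltr a ≫ (T ◁ u) = (T ◁ u) ≫ ltr (a ≫ u) := ltr_whiskerLeft a u
    rw [← h1, ← Category.assoc, ltr_inv_comp, Category.id_comp]
  haveI : IsIso σi := ⟨⟨σ, hσiσ, hσσi⟩⟩
  haveI : IsIso σi.left := inferInstanceAs (IsIso ((Over.forget _).map σi))
  haveI : IsIso τ.left := inferInstanceAs (IsIso ((Over.forget _).map τ))
  have hcomml : σi.left ≫ (T ◁ u).left ≫ τ.left = (T ◁ u).left := by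
    rw [← Over.comp_left, ← Over.comp_left, hcomm]
  set VT : (T ⊗ G).left.Opens := (snd T G).left ⁻¹ᵁ V with hVT
  -- base change
  have hPVT : P (VT.ι ≫ (T ◁ u).left) := by
    have sq0 : IsPullback VT.ι ((snd T G).left ∣_ V) (snd T G).left V.ι :=
      (isPullback_morphismRestrict _ _).flip
    have sq1 := isPullback_snd_whiskerLeft T u
    have sq := sq0.flip.paste_vert sq1
    exact P.of_isPullback sq hV
  set N' : (T ⊗ G).left.Opens := σi.left ⁻¹ᵁ VT with hN'
  have hPN' : P (N'.ι ≫ (T ◁ u).left) := by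
    have e : N'.ι ≫ (T ◁ u).left = (σi.left ∣_ VT) ≫ (VT.ι ≫ (T ◁ u).left) ≫ τ.left := by
      simp only [Category.assoc]
      rw [← Category.assoc (σi.left ∣_ VT) VT.ι, morphismRestrict_ι, Category.assoc, hcomml]
    rw [e, P.cancel_left_of_respectsIso, P.cancel_right_of_respectsIso]
    exact hPVT
  have hN := hmax _ (hdesc N' hPN')
  have h1 : σi.left (σ.left w) = w := congrArg (fun m : T ⊗ G ⟶ T ⊗ G => m.left w) hσσi
  have hwN' : σ.left w ∈ N' := by
    show σi.left (σ.left w) ∈ VT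
    rw [h1]
    exact hw
  have h2 : (snd T G).left (σ.left w) ∈ V := hN ⟨_, hwN', rfl⟩
  have h3 : (snd T G).left (σ.left w) = ((fst T G ≫ a) * snd T G).left w :=
    congrArg (fun m : T ⊗ G ⟶ G => m.left w) hσsnd
  rw [← h3]
  exact h2

end Groth.Agent.Lib.helper28.MaxOpenSrc
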