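import Groth.Agent.Lib.Helper12.AmpleCoprod

/-!
# Modules on a disjoint union are determined by their restrictions (helper28)

* `toGlue M : M ⟶ inl_*(M|_X) ⊞ inr_*(M|_{X'})`, an isomorphism (`isIso_toGlue`).
* `nonempty_iso_of_restrict`, `nonempty_iso_of_pullback`: two modules on `X ⨿ X'` with isomorphic
  restrictions (inverse images) to `X` and to `X'` are isomorphic.
-/

set_option autoImplicit false
universe u

open CategoryTheory CategoryTheory.Limits AlgebraicGeometry Opposite TopologicalSpace

namespace Groth.Agent.Lib.helper28.ModCoprod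

open Groth.Agent.Lib.helper12.AmpleCoprod Groth.Agent.Lib.helper11.IsoLocus
open Scheme.Modules

variable {X X' Z : Scheme.{u}}

section General

variable (i : X ⟶ Z) (i' : X' ⟶ Z) [IsOpenImmersion i] [IsOpenImmersion i']

/-- The canonical map `M ⟶ i_*(M|_X) ⊞ i'_*(M|_{X'})`. -/
noncomputable def toGlue (M : Z.Modules) :
    M ⟶ (pushforward i).obj (M.restrict i) ⊞ (pushforward i').obj (M.restrict i') :=
  biprod.lift ((restrictAdjunction i).unit.app M) ((restrictAdjunction i').unit.app M)

theorem restrict_toGlue (hd : Disjoint (Set.range i) (Set.range i')) (M : Z.Modules) :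
    (restrictFunctor i).map (toGlue i i' M) ≫
      (restrictGlueIso i i' hd (M.restrict i) (M.restrict i')).hom = 𝟙 _ := by
  have : PreservesBinaryBiproduct ((pushforward i).obj (M.restrict i))
      ((pushforward i').obj (M.restrict i')) (restrictFunctor i) :=
    preservesBinaryBiproduct_of_preservesBinaryCoproduct _
  have h1 : (restrictGlueIso i i' hd (M.restrict i) (M.restrict i')).hom =
      (restrictFunctor i).map biprod.fst ≫
        (restrictAdjunction i).counit.app (M.restrict i) := by
    unfold restrictGlueIso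
    simp only [Iso.trans_hom, Functor.mapBiprod_hom, Iso.symm_hom, biprod.mapIso_hom,
      Iso.refl_hom, isoBiprodZero_inv, biprod.map_fst, biprod.lift_fst_assoc]
    rfl
  rw [h1, ← Category.assoc, ← Functor.map_comp, toGlue, biprod.lift_fst]
  exact (restrictAdjunction i).left_triangle_components M

theorem isIso_restrict_toGlue (hd : Disjoint (Set.range i) (Set.range i')) (M : Z.Modules) :
    IsIso ((restrictFunctor i).map (toGlue i i' M)) := by
  have h := restrict_toGlue i i' hd M
  have h2 : (restrictFunctor i).map (toGlue i i' M) =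
      (restrictGlueIso i i' hd (M.restrict i) (M.restrict i')).inv := by
    rw [← Category.comp_id ((restrictFunctor i).map (toGlue i i' M)),
      ← (restrictGlueIso i i' hd (M.restrict i) (M.restrict i')).hom_inv_id, ← Category.assoc, h,
      Category.id_comp]
  rw [h2]
  infer_instance

theorem toGlue_braiding (M : Z.Modules) :
    toGlue i i' M ≫ (biprod.braiding _ _).hom = toGlue i' i M := by
  unfold toGlue
  apply biprod.hom_ext
  · simp
  · simp

theorem isIso_restrict_toGlue' (hd : Disjoint (Set.range i) (Set.range i')) (M : Z.Modules) :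
    IsIso ((restrictFunctor i').map (toGlue i i' M)) := by
  have h1 : toGlue i i' M = toGlue i' i M ≫ (biprod.braiding _ _).inv := by
    rw [← toGlue_braiding i i' M, Category.assoc, Iso.hom_inv_id, Category.comp_id]
  have := isIso_restrict_toGlue i' i hd.symm M
  rw [h1, Functor.map_comp]
  infer_instance

end General

section Coprod

theorem isIso_toGlue (M : (X ⨿ X').Modules) :
    IsIso (toGlue (coprod.inl : X ⟶ X ⨿ X') (coprod.inr : X' ⟶ X ⨿ X') M) := by
  have hd : Disjoint (Set.range (coprod.inl : X ⟶ X ⨿ X')) (Set.range (coprod.inr : X' ⟶ X ⨿ X')) :=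
    (isCompl_range_inl_inr X X').disjoint
  refine isIso_of_forall_restrict _ fun x => ?_
  have hx : x ∈ Set.range (coprod.inl : X ⟶ X ⨿ X') ⊔ Set.range (coprod.inr : X' ⟶ X ⨿ X') := by
    rw [(isCompl_range_inl_inr X X').sup_eq_top]
    trivial
  rcases hx with hx | hx
  · exact ⟨(coprod.inl : X ⟶ X ⨿ X').opensRange, hx,
      (isIso_restrictFunctor_iff_opensRange _ _).mp (isIso_restrict_toGlue _ _ hd M)⟩
  · exact ⟨(coprod.inr : X' ⟶ X ⨿ X').opensRange, hx,
      (isIso_restrictFunctor_iff_opensRange _ _).mp (isIso_restrict_toGlue' _ _ hd M)⟩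

/-- Two modules on `X ⨿ X'` with isomorphic restrictions to `X` and `X'` are isomorphic. -/
theorem nonempty_iso_of_restrict (M N : (X ⨿ X').Modules)
    (e₁ : M.restrict (coprod.inl : X ⟶ X ⨿ X') ≅ N.restrict (coprod.inl : X ⟶ X ⨿ X'))
    (e₂ : M.restrict (coprod.inr : X' ⟶ X ⨿ X') ≅ N.restrict (coprod.inr : X' ⟶ X ⨿ X')) :
    Nonempty (M ≅ N) := by
  have := isIso_toGlue M
  have := isIso_toGlue N
  exact ⟨asIso (toGlue coprod.inl coprod.inr M) ≪≫
    biprod.mapIso ((pushforward coprod.inl).mapIso e₁) ((pushforward coprod.inr).mapIso e₂) ≪≫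
    (asIso (toGlue coprod.inl coprod.inr N)).symm⟩

/-- Two modules on `X ⨿ X'` with isomorphic inverse images on `X` and `X'` are isomorphic. -/
theorem nonempty_iso_of_pullback (M N : (X ⨿ X').Modules)
    (e₁ : (Scheme.Modules.pullback (coprod.inl : X ⟶ X ⨿ X')).obj M ≅
      (Scheme.Modules.pullback (coprod.inl : X ⟶ X ⨿ X')).obj N)
    (e₂ : (Scheme.Modules.pullback (coprod.inr : X' ⟶ X ⨿ X')).obj M ≅
      (Scheme.Modules.pullback (coprod.inr : X' ⟶ X ⨿ X')).obj N) :
    Nonempty (M ≅ N) :=
  nonempty_iso_of_restrict M N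
    ((restrictFunctorIsoPullback (coprod.inl : X ⟶ X ⨿ X')).app M ≪≫ e₁ ≪≫
      ((restrictFunctorIsoPullback (coprod.inl : X ⟶ X ⨿ X')).app N).symm)
    ((restrictFunctorIsoPullback (coprod.inr : X' ⟶ X ⨿ X')).app M ≪≫ e₂ ≪≫
      ((restrictFunctorIsoPullback (coprod.inr : X' ⟶ X ⨿ X')).app N).symm)

end Coprod

end Groth.Agent.Lib.helper28.ModCoprod
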