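import Groth.Agent.Lib.Helper28.PProjConeAlg
import Groth.Agent.Lib.Helper28.ConeImm
import Groth.Agent.Lib.Helper28.VertexSection
import Groth.Agent.Lib.Helper28.RelTwistChart

set_option autoImplicit false

universe u

/-! The pointed projective cone is the complement of the vertex (helper28).  Also the bridge from
the prelude's `RelCone.IsPolyOver` / `RelCone.IsConeImm` to the hypotheses of `ConeImm`. -/

namespace Groth.Agent.Lib.helper28.PProjCone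

open CategoryTheory CategoryTheory.Limits AlgebraicGeometry TopologicalSpace Opposite
open HomogeneousLocalization
open Groth.Agent.Lib.helper28.RelSpecMap Groth.Agent.Lib.helper28.ConeImm
open Groth.Agent.Lib.helper28.VertexSection Groth.Agent.Lib.helper28.RelTwistChart

variable {Y PC : Scheme.{u}} (𝒮 𝒮h : RelProj.QCGrAlg Y)
  (ι : 𝒮.toQCAlg ⟶ 𝒮h.toQCAlg) (z : 𝒮h.presheaf.obj (op ⊤))
  (hz : RelCone.IsPolyOver 𝒮 𝒮h ι z)
  (pC : PC ⟶ Y)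
  (chartC : ∀ (U : Y.Opens) (hU : IsAffineOpen U),
    (((pC ⁻¹ᵁ U : PC.Opens) : Scheme.{u}) ≅ Proj (𝒮h.deg U hU)))

/-- The homomorphism `𝒮h(U)_(z) → 𝒮(U)` as a morphism of commutative rings. -/
noncomputable def θ (U : Y.Opens) (hU : IsAffineOpen U) :
    CommRingCat.of (HomogeneousLocalization.Away (𝒮h.deg U hU)
      ((𝒮h.presheaf.map (homOfLE le_top).op).hom z)) ⟶ 𝒮.presheaf.obj (op U) :=
  CommRingCat.ofHom (hz.awayZToBase U hU)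

theorem hθ (U : Y.Opens) (hU : IsAffineOpen U)
    (q : HomogeneousLocalization.Away (𝒮h.deg U hU) ((𝒮h.presheaf.map (homOfLE le_top).op).hom z))
    (k : ℕ) (x : 𝒮.presheaf.obj (op U)) (_hx : x ∈ 𝒮.deg U hU k)
    (hq : q.val = Localization.mk ((ι.hom.app (op U)).hom x)
        ⟨(𝒮h.presheaf.map (homOfLE le_top).op).hom z ^ k,
          pow_mem (Submonoid.mem_powers ((𝒮h.presheaf.map (homOfLE le_top).op).hom z)) k⟩) :
    (θ 𝒮 𝒮h ι z hz U hU).hom q = x := by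
  change hz.awayZToBase U hU q = x
  rw [hz.awayZToBase_of_val U hU q _ k hq, hz.evalOne_ι]

theorem isConeImm_iff (i : 𝒮.toQCAlg.spec ⟶ PC) :
    RelCone.IsConeImm 𝒮 hz pC chartC i ↔ ∀ (U : Y.Opens) (hU : IsAffineOpen U),
      𝒮.toQCAlg.ι U hU ≫ i = fU 𝒮 𝒮h pC chartC z hz.deg_z (θ 𝒮 𝒮h ι z hz) U hU :=
  Iff.rfl

variable (hPC : RelProj.IsRelProj 𝒮h pC chartC)
  (i : 𝒮.toQCAlg.spec ⟶ PC) (hi : RelCone.IsConeImm 𝒮 hz pC chartC i)

include hPC hi in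
theorem map_comp_p : i ≫ pC = 𝒮.toQCAlg.π :=
  ConeImm.map_comp_p 𝒮 𝒮h ι pC chartC z hz.deg_z hPC (θ 𝒮 𝒮h ι z hz) (hθ 𝒮 𝒮h ι z hz) i hi

include hi in
theorem comm_chart (U : Y.Opens) (hU : IsAffineOpen U) :
    𝒮.toQCAlg.ι U hU ≫ i =
      gU 𝒮 𝒮h z hz.deg_z (θ 𝒮 𝒮h ι z hz) U hU ≫ RelProj.emb pC chartC U hU :=
  ConeImm.comm_chart 𝒮 𝒮h pC chartC z hz.deg_z (θ 𝒮 𝒮h ι z hz) i hi U hU

theorem isIso_θ (U : Y.Opens) (hU : IsAffineOpen U) : IsIso (θ 𝒮 𝒮h ι z hz U hU) :=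
  ConeImm.isIso_θ 𝒮 𝒮h ι hz.graded z hz.deg_z hz.bij (θ 𝒮 𝒮h ι z hz) (hθ 𝒮 𝒮h ι z hz) U hU

/-- Chartwise: the points of `Proj 𝒮h(U)` outside the domain of definition of the projection
are the images of the points of `V(𝒮(U)₊)`. -/
theorem not_mem_domOpen_iff (U : Y.Opens) (hU : IsAffineOpen U) (y : Proj (𝒮h.deg U hU)) :
    y ∉ RelCone.domOpen (RelProj.gradedHomAt ι hz.graded U hU) ↔
      ∃ t : Spec (𝒮.presheaf.obj (op U)),
        (HomogeneousIdeal.irrelevant (𝒮.deg U hU)).toIdeal ≤ t.asIdeal ∧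
          (gU 𝒮 𝒮h z hz.deg_z (θ 𝒮 𝒮h ι z hz) U hU).base t = y :=
  PProjConeAlg.not_mem_domOpen_iff (𝒮.deg U hU) (𝒮h.deg U hU)
    (RelProj.gradedHomAt ι hz.graded U hU) _ (hz.deg_z U hU) (θ 𝒮 𝒮h ι z hz U hU)
    (hθ 𝒮 𝒮h ι z hz U hU) (hz.bij U hU).2 (isIso_θ 𝒮 𝒮h ι z hz U hU) y

include hPC hi in
theorem pointedProjCone_eq_compl (h0 : RelCone.StrZeroBij 𝒮)
    (aug : 𝒮.toQCAlg ⟶ RelSpec.QCAlg.unit Y) (haug : RelCone.IsAugmentation 𝒮 aug)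
    (ε : Y ⟶ 𝒮.toQCAlg.spec) (hε : RelCone.IsVertex 𝒮 aug ε) :
    ((RelCone.pointedProjCone 𝒮 hz pC chartC : PC.Opens) : Set PC) =
      (Set.range (ε ≫ i).base)ᶜ := by
  have hip := map_comp_p 𝒮 𝒮h ι z hz pC chartC hPC i hi
  ext x
  rw [Set.mem_compl_iff]
  constructor
  · intro hx hx'
    obtain ⟨V, y', hy', hxy'⟩ := TopologicalSpace.Opens.mem_iSup.mp hx
    obtain ⟨s, hs⟩ := hx'
    have hs' : i.base (ε.base s) = x := by
      rw [← hs]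
      rfl
    -- `s ∈ V`
    have hpx : pC.base x = s := by
      rw [← hs', ← Scheme.Hom.comp_apply, hip, ← Scheme.Hom.comp_apply, hε.comp_π]
      rfl
    have hsV : s ∈ V.1 := by
      have h1 : x ∈ Set.range (RelProj.emb pC chartC V.1 V.2) := ⟨y', hxy'⟩
      rw [range_emb] at h1
      rw [← hpx]
      exact h1
    have hεs : ε.base s ∈ Set.range (𝒮.toQCAlg.ι V.1 V.2).base := by
      rw [range_ι]
      change 𝒮.toQCAlg.π.base (ε.base s) ∈ V.1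
      rw [← Scheme.Hom.comp_apply, hε.comp_π]
      exact hsV
    obtain ⟨t, ht⟩ := hεs
    have htirr : (HomogeneousIdeal.irrelevant (𝒮.deg V.1 V.2)).toIdeal ≤ t.asIdeal :=
      (mem_range_ε_iff 𝒮 aug ε h0 haug hε V.1 V.2 t).mp (ht ▸ ⟨s, rfl⟩)
    have h2 : (RelProj.emb pC chartC V.1 V.2).base
        ((gU 𝒮 𝒮h z hz.deg_z (θ 𝒮 𝒮h ι z hz) V.1 V.2).base t) = x := by
      rw [← Scheme.Hom.comp_apply, ← comm_chart 𝒮 𝒮h ι z hz pC chartC i hi V.1 V.2,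
        Scheme.Hom.comp_apply, ht]
      exact hs'
    have h3 : (gU 𝒮 𝒮h z hz.deg_z (θ 𝒮 𝒮h ι z hz) V.1 V.2).base t = y' :=
      (RelProj.emb pC chartC V.1 V.2).isOpenEmbedding.injective (h2.trans hxy'.symm)
    exact (not_mem_domOpen_iff 𝒮 𝒮h ι z hz V.1 V.2 y').mpr ⟨t, htirr, h3⟩ hy'
  · intro hx
    by_contra hcon
    apply hx
    obtain ⟨U, y, hy⟩ := exists_mem_range_emb pC chartC x
    have hyd : y ∉ RelCone.domOpen (RelProj.gradedHomAt ι hz.graded U.1 U.2) := by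
      intro hyd
      exact hcon (TopologicalSpace.Opens.mem_iSup.mpr ⟨⟨U.1, U.2⟩, y, hyd, hy⟩)
    obtain ⟨t, htirr, hty⟩ := (not_mem_domOpen_iff 𝒮 𝒮h ι z hz U.1 U.2 y).mp hyd
    obtain ⟨s, hs⟩ := (mem_range_ε_iff 𝒮 aug ε h0 haug hε U.1 U.2 t).mpr htirr
    refine ⟨s, ?_⟩
    rw [Scheme.Hom.comp_apply, hs, ← Scheme.Hom.comp_apply,
      comm_chart 𝒮 𝒮h ι z hz pC chartC i hi U.1 U.2, Scheme.Hom.comp_apply, hty]
    exact hy

end Groth.Agent.Lib.helper28.PProjCone
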