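import Groth.Agent.Lib.Helper28.PolyGrade2
import Groth.Prelude.Def_RelSpec2

set_option autoImplicit false

universe u

/-! The vertex of the projective cone over an affine base, algebraically (helper28):
for `B = A[z]` graded, `θ : B_(z) ≅ A`, the points `y` of `Proj B` at which the morphism to
`Proj A` is *not* defined are the images under `Spec A ≅ D₊(z) ⊆ Proj B` of the points of
`V(A₊)`. -/

namespace Groth.Agent.Lib.helper28.PProjConeAlg

open CategoryTheory AlgebraicGeometry HomogeneousLocalization Opposite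
open Groth.Agent.Lib.helper28.PolyGrade2

section Ideal

variable {A₀ B : Type u} [CommRing A₀] [CommRing B] (𝒜 : ℕ → AddSubgroup A₀) [GradedRing 𝒜]
  (ℬ : ℕ → AddSubgroup B) [GradedRing ℬ] (ι : A₀ →+* B) (z : B)

/-- An ideal of `B = A[z]` containing `z` and the images of the homogeneous elements of
positive degree of `A` contains the irrelevant ideal of `B`. -/
theorem irrelevant_le_of_mem (hι : ∀ (k : ℕ) (x : A₀), x ∈ 𝒜 k → ι x ∈ ℬ k) (hz : z ∈ ℬ 1)
    (hpoly : Function.Surjective (Polynomial.eval₂RingHom ι z))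
    (I : Ideal B) (hI : ∀ k : ℕ, 0 < k → ∀ a ∈ 𝒜 k, ι a ∈ I) (hzI : z ∈ I) :
    (HomogeneousIdeal.irrelevant ℬ).toIdeal ≤ I := by
  rw [HomogeneousIdeal.toIdeal_irrelevant_le]
  intro n hn b hb
  obtain ⟨P, rfl⟩ := hpoly b
  have hb' : Polynomial.eval₂ ι z P ∈ ℬ n := hb
  change Polynomial.eval₂ ι z P ∈ I
  rw [eq_sum_of_mem 𝒜 ℬ ι z hι hz n P hb']
  refine Ideal.sum_mem _ fun j _ => ?_
  rcases Nat.eq_zero_or_pos j with rfl | hj0
  · rw [pow_zero, mul_one]
    exact hI n hn _ (proj_mem 𝒜 n _)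
  · exact Ideal.mul_mem_left _ _ (Ideal.pow_mem_of_mem _ hzI j hj0)

end Ideal

section Proj

variable {R : CommRingCat.{u}} {B : Type u} [CommRing B] (𝒜 : ℕ → AddSubgroup R) [GradedRing 𝒜]
  (ℬ : ℕ → AddSubgroup B) [GradedRing ℬ] (ψ : 𝒜 →+*ᵍ ℬ) (z : B) (hz : z ∈ ℬ 1)
  (θ : CommRingCat.of (Away ℬ z) ⟶ R)

/-- The chart map `Spec A ⟶ Proj B`. -/
noncomputable def g : Spec R ⟶ Proj ℬ := Spec.map θ ≫ Proj.awayι ℬ z hz one_pos

variable (hθ : ∀ (q : Away ℬ z) (k : ℕ) (x : R), x ∈ 𝒜 k →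
      q.val = Localization.mk (ψ x) ⟨z ^ k, pow_mem (Submonoid.mem_powers z) k⟩ → θ.hom q = x)

include hθ in
theorem map_mem_g_iff (t : Spec R) {k : ℕ} (hk : 0 < k) (a : R) (ha : a ∈ 𝒜 k) :
    ψ a ∈ ((g ℬ z hz θ).base t).asHomogeneousIdeal ↔ a ∈ t.asIdeal := by
  have h1 := Proj.awayι_preimage_basicOpen ℬ (f := z) hz one_pos (g := ψ a) (ψ.map_mem ha) hk
  have h3 : θ.hom (Away.isLocalizationElem hz (ψ.map_mem ha)) = a := by
    refine hθ _ k a ha ?_
    rw [Away.val_mk, pow_one]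
    rfl
  have h2 : (g ℬ z hz θ).base t ∈ Proj.basicOpen ℬ (ψ a) ↔
      Away.isLocalizationElem hz (ψ.map_mem ha) ∉ ((Spec.map θ).base t).asIdeal := by
    have h1' := congrArg (fun V : (Spec (CommRingCat.of (Away ℬ z))).Opens =>
      (Spec.map θ).base t ∈ V) h1
    exact Iff.of_eq h1'
  have h4 : Away.isLocalizationElem hz (ψ.map_mem ha) ∉ ((Spec.map θ).base t).asIdeal ↔
      a ∉ t.asIdeal := by
    change ¬ (θ.hom (Away.isLocalizationElem hz (ψ.map_mem ha)) ∈ t.asIdeal) ↔ _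
    rw [h3]
  have h5 : (g ℬ z hz θ).base t ∈ Proj.basicOpen ℬ (ψ a) ↔
      ψ a ∉ ((g ℬ z hz θ).base t).asHomogeneousIdeal :=
    ProjectiveSpectrum.mem_basicOpen ℬ (ψ a) _
  rw [← not_iff_not]
  exact h5.symm.trans (h2.trans h4)

include hθ in
/-- The points of `Proj B` where the morphism to `Proj A` is not defined are the images of the
points of `V(A₊) ⊆ Spec A`. -/
theorem not_mem_domOpen_iff
    (hpoly : Function.Surjective (Polynomial.eval₂RingHom (ψ : R →+* B) z))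
    (hiso : IsIso θ) (y : Proj ℬ) :
    y ∉ RelCone.domOpen ψ ↔ ∃ t : Spec R,
      (HomogeneousIdeal.irrelevant 𝒜).toIdeal ≤ t.asIdeal ∧ (g ℬ z hz θ).base t = y := by
  classical
  have hproj : ∀ (a : R), a ∈ (HomogeneousIdeal.irrelevant 𝒜).toIdeal → ∀ k : ℕ,
      GradedRing.proj 𝒜 k a ∈ (HomogeneousIdeal.irrelevant 𝒜).toIdeal := by
    intro a ha k
    have := (HomogeneousIdeal.irrelevant 𝒜).isHomogeneous k ha
    rw [GradedRing.proj_apply]
    exact this
  have hsum : ∀ a : R, a = ∑ k ∈ (DirectSum.decompose 𝒜 a).support, GradedRing.proj 𝒜 k a := by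
    intro a
    conv_lhs => rw [← DirectSum.sum_support_decompose 𝒜 a]
    rfl
  have hmem0 : ∀ a : R, a ∈ (HomogeneousIdeal.irrelevant 𝒜).toIdeal →
      GradedRing.proj 𝒜 0 a = 0 := by
    intro a ha
    exact (HomogeneousIdeal.mem_irrelevant_iff 𝒜 a).mp ha
  constructor
  · intro hy
    rw [RelCone.mem_domOpen] at hy
    have hy' : ∀ f ∈ (HomogeneousIdeal.irrelevant 𝒜).toIdeal, ψ f ∈ y.asHomogeneousIdeal := by
      intro f hf
      by_contra hcon
      exact hy ⟨f, hf, hcon⟩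
    have hirr : ∀ k : ℕ, 0 < k → ∀ a ∈ 𝒜 k, a ∈ (HomogeneousIdeal.irrelevant 𝒜).toIdeal := by
      intro k hk a ha
      exact (HomogeneousIdeal.toIdeal_irrelevant_le (𝒜 := 𝒜)
        (I := (HomogeneousIdeal.irrelevant 𝒜).toIdeal)).mp le_rfl k hk ha
    have hzy : z ∉ y.asHomogeneousIdeal := by
      intro hzy
      apply y.not_irrelevant_le
      exact irrelevant_le_of_mem 𝒜 ℬ (ψ : R →+* B) z (fun k x hx => ψ.map_mem hx) hz hpoly
        y.asHomogeneousIdeal.toIdeal (fun k hk a ha => hy' a (hirr k hk a ha)) hzy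
    have hyD : y ∈ Proj.basicOpen ℬ z := (ProjectiveSpectrum.mem_basicOpen ℬ z y).mpr hzy
    rw [← Proj.opensRange_awayι ℬ z hz one_pos] at hyD
    obtain ⟨q, rfl⟩ := hyD
    obtain ⟨t, rfl⟩ := (Spec.map θ).surjective q
    refine ⟨t, ?_, rfl⟩
    intro a ha
    rw [hsum a]
    refine Ideal.sum_mem _ fun k _ => ?_
    rcases Nat.eq_zero_or_pos k with rfl | hk
    · rw [hmem0 a ha]
      exact Ideal.zero_mem _
    · have h1 := hy' _ (hproj a ha k)
      exact (map_mem_g_iff 𝒜 ℬ ψ z hz θ hθ t hk _ (proj_mem 𝒜 k a)).mp h1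
  · rintro ⟨t, ht, rfl⟩
    rw [RelCone.mem_domOpen]
    rintro ⟨f, hf, hfy⟩
    apply hfy
    rw [hsum f, map_sum]
    refine Ideal.sum_mem _ fun k _ => ?_
    rcases Nat.eq_zero_or_pos k with rfl | hk
    · rw [hmem0 f hf, map_zero]
      exact Ideal.zero_mem _
    · exact (map_mem_g_iff 𝒜 ℬ ψ z hz θ hθ t hk _ (proj_mem 𝒜 k f)).mpr (ht (hproj f hf k))

end Proj

end Groth.Agent.Lib.helper28.PProjConeAlg
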