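import Groth.Agent.Lib.Helper28.PProjInfFunct

set_option autoImplicit false
universe u

namespace Groth.Agent.Lib.helper28.PProjFunct

open CategoryTheory CategoryTheory.Limits AlgebraicGeometry TopologicalSpace Opposite
open HomogeneousLocalization
open scoped HomogeneousIdeal
open Groth.Agent.Lib.helper28.RelSpecMap Groth.Agent.Lib.helper28.RelTwistChart
open Groth.Agent.Lib.helper28.ProjQGlue Groth.Agent.Lib.helper28.ProjQComp
open Groth.Agent.Lib.helper28.PProjRetr Groth.Agent.Lib.helper28.ProjQSquare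

section Geom

variable {Y Y' PC PC' : Scheme.{u}} {q : Y' ⟶ Y}
  {𝒮 : RelProj.QCGrAlg Y} {𝒮' : RelProj.QCGrAlg Y'} (u : RelProj.QGrHom q 𝒮 𝒮')
  {𝒮h : RelProj.QCGrAlg Y} {ι : 𝒮.toQCAlg ⟶ 𝒮h.toQCAlg} {z : 𝒮h.presheaf.obj (op ⊤)}
  (hz : RelCone.IsPolyOver 𝒮 𝒮h ι z)
  {pC : PC ⟶ Y}
  {chartC : ∀ (U : Y.Opens) (hU : IsAffineOpen U),
    (((pC ⁻¹ᵁ U : PC.Opens) : Scheme.{u}) ≅ Proj (𝒮h.deg U hU))}
  {𝒮h' : RelProj.QCGrAlg Y'} {ι' : 𝒮'.toQCAlg ⟶ 𝒮h'.toQCAlg} {z' : 𝒮h'.presheaf.obj (op ⊤)}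
  (hz' : RelCone.IsPolyOver 𝒮' 𝒮h' ι' z')
  {pC' : PC' ⟶ Y'}
  {chartC' : ∀ (U : Y'.Opens) (hU : IsAffineOpen U),
    (((pC' ⁻¹ᵁ U : PC'.Opens) : Scheme.{u}) ≅ Proj (𝒮h'.deg U hU))}
  (uh : RelProj.QGrHom q 𝒮h 𝒮h')
  (huh : ∀ U : Y.Opens, ι.hom.app (op U) ≫ uh.app U = u.app U ≫ ι'.hom.app (op (q ⁻¹ᵁ U)))
  (huhz : (uh.app ⊤).hom z = RelCone.restrictTop 𝒮h' z' (q ⁻¹ᵁ ⊤))

include huh huhz in
/-- "Setting `z = 1`" commutes with `φ`, `φ̂` on affine pairs. -/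
theorem evalOne_gradedAt (U : Y.Opens) (hU : IsAffineOpen U) (U' : Y'.Opens)
    (hU' : IsAffineOpen U') (hle : U' ≤ q ⁻¹ᵁ U) (b : 𝒮h.presheaf.obj (op U)) :
    hz'.evalOne U' hU' (uh.gradedAt U hU U' hU' hle b) =
      u.gradedAt U hU U' hU' hle (hz.evalOne U hU b) := by
  set F₁ : 𝒮h.presheaf.obj (op U) →+* 𝒮'.presheaf.obj (op U') :=
    (hz'.evalOne U' hU').comp (uh.gradedAt U hU U' hU' hle).toRingHom with hF₁
  set F₂ : 𝒮h.presheaf.obj (op U) →+* 𝒮'.presheaf.obj (op U') :=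
    (u.gradedAt U hU U' hU' hle).toRingHom.comp (hz.evalOne U hU) with hF₂
  have key : F₁.comp (Polynomial.eval₂RingHom (ι.hom.app (op U)).hom
      (RelCone.restrictTop 𝒮h z U)) =
      F₂.comp (Polynomial.eval₂RingHom (ι.hom.app (op U)).hom (RelCone.restrictTop 𝒮h z U)) := by
    apply Polynomial.ringHom_ext
    · intro a
      have e1 : F₁ ((ι.hom.app (op U)).hom a) = u.gradedAt U hU U' hU' hle a := by
        change hz'.evalOne U' hU' (uh.gradedAt U hU U' hU' hle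
          ((RelProj.gradedHomAt ι hz.graded U hU) a)) = _
        rw [gradedAt_ι u hz hz' uh huh U hU U' hU' hle a]
        exact hz'.evalOne_ι U' hU' _
      have e2 : F₂ ((ι.hom.app (op U)).hom a) = u.gradedAt U hU U' hU' hle a := by
        change u.gradedAt U hU U' hU' hle (hz.evalOne U hU ((ι.hom.app (op U)).hom a)) = _
        rw [hz.evalOne_ι U hU a]
      simp only [RingHom.comp_apply, Polynomial.coe_eval₂RingHom, Polynomial.eval₂_C]
      rw [e1, e2]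
    · have e1 : F₁ (RelCone.restrictTop 𝒮h z U) = 1 := by
        change hz'.evalOne U' hU' (uh.gradedAt U hU U' hU' hle (RelCone.restrictTop 𝒮h z U)) = 1
        rw [gradedAt_z uh huhz U hU U' hU' hle]
        exact hz'.evalOne_z U' hU'
      have e2 : F₂ (RelCone.restrictTop 𝒮h z U) = 1 := by
        change u.gradedAt U hU U' hU' hle (hz.evalOne U hU (RelCone.restrictTop 𝒮h z U)) = 1
        rw [hz.evalOne_z U hU, map_one]
      simp only [RingHom.comp_apply, Polynomial.coe_eval₂RingHom, Polynomial.eval₂_X]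
      rw [e1, e2]
  obtain ⟨pol, rfl⟩ := (hz.bij U hU).2 b
  exact congr($key pol)

include huh huhz in
/-- The dehomogenisation `𝒮h(U)_(z) → 𝒮(U)` commutes with `φ`, `φ̂` on affine pairs. -/
theorem awayZToBase_comm (U : Y.Opens) (hU : IsAffineOpen U) (U' : Y'.Opens)
    (hU' : IsAffineOpen U') (hle : U' ≤ q ⁻¹ᵁ U) :
    (hz'.awayZToBase U' hU').comp (awayMapTo (uh.gradedAt U hU U' hU' hle)
      (RelCone.restrictTop 𝒮h z U) (RelCone.restrictTop 𝒮h' z' U')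
      (gradedAt_z uh huhz U hU U' hU' hle)) =
    (u.appLE U U' hle).hom.comp (hz.awayZToBase U hU) := by
  ext qq
  obtain ⟨⟨i, ⟨n, hn⟩, ⟨dd, hdd⟩, ⟨k, hk⟩⟩, rfl⟩ := HomogeneousLocalization.mk_surjective qq
  have hk' : RelCone.restrictTop 𝒮h z U ^ k = dd := hk
  simp only [RingHom.comp_apply, awayMapTo, HomogeneousLocalization.map_mk]
  rw [hz.awayZToBase_of_val U hU _ n k (by
    rw [val_mk]
    congr 1
    exact Subtype.ext hk'.symm)]
  rw [hz'.awayZToBase_of_val U' hU' _ (uh.gradedAt U hU U' hU' hle n) k (by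
    rw [val_mk]
    congr 1
    apply Subtype.ext
    change uh.gradedAt U hU U' hU' hle dd = _
    rw [← hk', map_pow, gradedAt_z uh huhz U hU U' hU' hle])]
  exact evalOne_gradedAt u hz hz' uh huh huhz U hU U' hU' hle n


/-- Every point of `Spec(𝒮')` lies on the chart of an affine pair. -/
theorem exists_chart_spec (x : 𝒮'.toQCAlg.spec) :
    ∃ (U : Y.Opens) (hU : IsAffineOpen U) (U' : Y'.Opens) (hU' : IsAffineOpen U')
      (_ : U' ≤ q ⁻¹ᵁ U), x ∈ Set.range (𝒮'.toQCAlg.ι U' hU').base := by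
  obtain ⟨U, hU, U', hU', hle, hb⟩ := exists_affine_pair (q := q) (𝒮'.toQCAlg.π x)
  refine ⟨U, hU, U', hU', hle, ?_⟩
  rw [range_ι]
  exact hb

variable (i : 𝒮.toQCAlg.spec ⟶ PC) (hi : RelCone.IsConeImm 𝒮 hz pC chartC i)
  (i' : 𝒮'.toQCAlg.spec ⟶ PC') (hi' : RelCone.IsConeImm 𝒮' hz' pC' chartC' i')

include hz huhz hi' in
/-- `i'(C') ⊆ G(φ̂)`, pointwise. -/
theorem coneImm_mem_domQ (x : 𝒮'.toQCAlg.spec) : i' x ∈ RelProj.domQ uh pC' chartC' := by
  obtain ⟨U, hU, U', hU', hle, w, rfl⟩ := exists_chart_spec (q := q) x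
  have h1 : i' ((𝒮'.toQCAlg.ι U' hU') w) ∈ Set.range (Proj.awayι (𝒮h'.deg U' hU')
      (RelCone.restrictTop 𝒮h' z' U') (hz'.deg_z U' hU') one_pos ≫
      RelProj.emb pC' chartC' U' hU').base := by
    rw [← Scheme.Hom.comp_apply, hi' U' hU']
    exact ⟨_, (Scheme.Hom.comp_apply _ _ _).symm⟩
  have h2 := range_subset_domQ_of_eq uh (p' := pC') (chart' := chartC') U hU U' hU' hle
    (uh.gradedAt U hU U' hU' hle) rfl one_pos (RelCone.restrictTop 𝒮h z U) (hz.deg_z U hU)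
    (RelCone.restrictTop 𝒮h' z' U') (gradedAt_z uh huhz U hU U' hU' hle) (hz'.deg_z U' hU') h1
  rw [Scheme.Opens.range_ι] at h2
  exact h2

variable (Φh : ((RelProj.domQ uh pC' chartC' : PC'.Opens) : Scheme.{u}) ⟶ PC)
  (hΦh : ∀ (U : Y.Opens) (hU : IsAffineOpen U) (U' : Y'.Opens) (hU' : IsAffineOpen U')
    (hle : U' ≤ q ⁻¹ᵁ U) (d : ℕ) (hd : 0 < d) (f : 𝒮h.presheaf.obj (op U))
    (hf : f ∈ 𝒮h.deg U hU d),
    stdChart uh pC' chartC' U hU U' hU' hle hd f hf ≫ Φh = tgt uh pC chartC U hU U' hU' hle hd f hf)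
  (Φc : 𝒮'.toQCAlg.spec ⟶ 𝒮.toQCAlg.spec) (hΦc : RelSpec.IsSpecQMap u.toQHom Φc)

include hz hz' huh huhz hi hi' hΦh hΦc in
/-- The square formed by `Spec(φ)`, `Φ̂` and the cone immersions commutes. -/
theorem coneImm_comm
    (i'' : 𝒮'.toQCAlg.spec ⟶ ((RelProj.domQ uh pC' chartC' : PC'.Opens) : Scheme.{u}))
    (hi'' : i'' ≫ (RelProj.domQ uh pC' chartC').ι = i') : i'' ≫ Φh = Φc ≫ i := by
  apply hom_ext_of_local
  intro x
  obtain ⟨U, hU, U', hU', hle, hx⟩ := exists_chart_spec (q := q) x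
  refine ⟨_, 𝒮'.toQCAlg.ι U' hU', inferInstance, hx, ?_⟩
  have hκr := range_subset_domQ_of_eq uh (p' := pC') (chart' := chartC') U hU U' hU' hle
    (uh.gradedAt U hU U' hU' hle) rfl one_pos (RelCone.restrictTop 𝒮h z U) (hz.deg_z U hU)
    (RelCone.restrictTop 𝒮h' z' U') (gradedAt_z uh huhz U hU U' hU' hle) (hz'.deg_z U' hU')
  set κ := IsOpenImmersion.lift (RelProj.domQ uh pC' chartC').ι _ hκr with hκdef
  have hκ : κ ≫ (RelProj.domQ uh pC' chartC').ι =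
      Proj.awayι (𝒮h'.deg U' hU') (RelCone.restrictTop 𝒮h' z' U') (hz'.deg_z U' hU') one_pos ≫
        RelProj.emb pC' chartC' U' hU' := IsOpenImmersion.lift_fac _ _ _
  have h1 : 𝒮'.toQCAlg.ι U' hU' ≫ i'' =
      Spec.map (CommRingCat.ofHom (hz'.awayZToBase U' hU')) ≫ κ := by
    rw [← cancel_mono (RelProj.domQ uh pC' chartC').ι, Category.assoc, hi'', Category.assoc, hκ]
    exact hi' U' hU'
  have h2 := chart_eq_of_eq uh Φh hΦh U hU U' hU' hle (uh.gradedAt U hU U' hU' hle) rfl one_pos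
    (RelCone.restrictTop 𝒮h z U) (hz.deg_z U hU) (RelCone.restrictTop 𝒮h' z' U')
    (gradedAt_z uh huhz U hU U' hU' hle) (hz'.deg_z U' hU') κ hκ
  have h3 := awayZToBase_comm u hz hz' uh huh huhz U hU U' hU' hle
  have hL : 𝒮'.toQCAlg.ι U' hU' ≫ i'' ≫ Φh =
      Spec.map (CommRingCat.ofHom (hz'.awayZToBase U' hU')) ≫
      Spec.map (CommRingCat.ofHom (awayMapTo (uh.gradedAt U hU U' hU' hle)
        (RelCone.restrictTop 𝒮h z U) (RelCone.restrictTop 𝒮h' z' U')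
        (gradedAt_z uh huhz U hU U' hU' hle))) ≫
      Proj.awayι (𝒮h.deg U hU) (RelCone.restrictTop 𝒮h z U) (hz.deg_z U hU) one_pos ≫
        RelProj.emb pC chartC U hU := by
    rw [← Category.assoc, h1, Category.assoc, h2]
  have hR : 𝒮'.toQCAlg.ι U' hU' ≫ Φc ≫ i =
      Spec.map (u.appLE U U' hle) ≫ Spec.map (CommRingCat.ofHom (hz.awayZToBase U hU)) ≫
      Proj.awayι (𝒮h.deg U hU) (RelCone.restrictTop 𝒮h z U) (hz.deg_z U hU) one_pos ≫
        RelProj.emb pC chartC U hU := by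
    rw [← Category.assoc, hΦc U hU U' hU' hle, Category.assoc, hi U hU]
  rw [hL, hR, ← Category.assoc (Spec.map _) (Spec.map _), ← Spec.map_comp,
    ← CommRingCat.ofHom_comp, h3, ← Category.assoc (Spec.map _) (Spec.map _), ← Spec.map_comp]
  rfl

end Geom

end Groth.Agent.Lib.helper28.PProjFunct
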