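import Groth.Agent.Lib.Helper28.PProjRetr2

set_option autoImplicit false
universe u

namespace Groth.Agent.Lib.helper28.PProjFunct

open CategoryTheory CategoryTheory.Limits AlgebraicGeometry TopologicalSpace Opposite
open HomogeneousLocalization
open scoped HomogeneousIdeal
open Groth.Agent.Lib.helper28.RelSpecMap Groth.Agent.Lib.helper28.RelTwistChart
open Groth.Agent.Lib.helper28.ProjQGlue Groth.Agent.Lib.helper28.ProjQComp
open Groth.Agent.Lib.helper28.PProjRetr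

section Ring

variable {A B σ τ : Type u} [CommRing A] [SetLike σ A]
    [AddSubgroupClass σ A] [CommRing B] [SetLike τ B] [AddSubgroupClass τ B]
    {𝒜 : ℕ → σ} {ℬ : ℕ → τ} [GradedRing 𝒜] [GradedRing ℬ]

/-- The image in `Proj 𝒜` of a point of `G(ψ) ⊆ Proj ℬ`. -/
def comapPt (ψ : 𝒜 →+*ᵍ ℬ) (y : ProjectiveSpectrum ℬ) (hy : y ∈ RelCone.domOpen ψ) :
    ProjectiveSpectrum 𝒜 where
  asHomogeneousIdeal := y.asHomogeneousIdeal.comap ψ
  isPrime := y.isPrime.comap ψ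
  not_irrelevant_le le := by
    obtain ⟨f, hf, hfy⟩ := (RelCone.mem_domOpen ψ y).mp hy
    exact hfy (le hf)

theorem mem_comapPt (ψ : 𝒜 →+*ᵍ ℬ) (y : ProjectiveSpectrum ℬ) (hy : y ∈ RelCone.domOpen ψ)
    (a : A) : a ∈ (comapPt ψ y hy).asHomogeneousIdeal ↔ ψ a ∈ y.asHomogeneousIdeal := Iff.rfl

theorem mem_domOpen_of_notMem (ψ : 𝒜 →+*ᵍ ℬ) (y : ProjectiveSpectrum ℬ) {d : ℕ} (hd : 0 < d)
    (f : A) (hf : f ∈ 𝒜 d) (hfy : ψ f ∉ y.asHomogeneousIdeal) : y ∈ RelCone.domOpen ψ :=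
  (RelCone.mem_domOpen ψ y).mpr ⟨f, HomogeneousIdeal.mem_irrelevant_of_mem _ hd hf, hfy⟩

end Ring

section Geom

variable {Y Y' PC PC' : Scheme.{u}} {q : Y' ⟶ Y}
  {𝒮 : RelProj.QCGrAlg Y} {𝒮' : RelProj.QCGrAlg Y'} (u : RelProj.QGrHom q 𝒮 𝒮')
  {𝒮h : RelProj.QCGrAlg Y} {ι : 𝒮.toQCAlg ⟶ 𝒮h.toQCAlg} {z : 𝒮h.presheaf.obj (op ⊤)}
  (hz : RelCone.IsPolyOver 𝒮 𝒮h ι z)
  {pC : PC ⟶ Y}
  {chartC : ∀ (U : Y.Opens) (hU : IsAffineOpen U),
    (((pC ⁻¹ᵁ U : PC.Opens) : Scheme.{u}) ≅ Proj (𝒮h.deg U hU))}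
  (hC : RelProj.IsRelProj 𝒮h pC chartC)
  {𝒮h' : RelProj.QCGrAlg Y'} {ι' : 𝒮'.toQCAlg ⟶ 𝒮h'.toQCAlg} {z' : 𝒮h'.presheaf.obj (op ⊤)}
  (hz' : RelCone.IsPolyOver 𝒮' 𝒮h' ι' z')
  {pC' : PC' ⟶ Y'}
  {chartC' : ∀ (U : Y'.Opens) (hU : IsAffineOpen U),
    (((pC' ⁻¹ᵁ U : PC'.Opens) : Scheme.{u}) ≅ Proj (𝒮h'.deg U hU))}
  (hC' : RelProj.IsRelProj 𝒮h' pC' chartC')
  (uh : RelProj.QGrHom q 𝒮h 𝒮h')
  (huh : ∀ U : Y.Opens, ι.hom.app (op U) ≫ uh.app U = u.app U ≫ ι'.hom.app (op (q ⁻¹ᵁ U)))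
  (huhz : (uh.app ⊤).hom z = RelCone.restrictTop 𝒮h' z' (q ⁻¹ᵁ ⊤))

include huh in
/-- `φ̂ ∘ ι = ι' ∘ φ` on affine pairs. -/
theorem gradedAt_ι (U : Y.Opens) (hU : IsAffineOpen U) (U' : Y'.Opens) (hU' : IsAffineOpen U')
    (hle : U' ≤ q ⁻¹ᵁ U) (a : 𝒮.presheaf.obj (op U)) :
    uh.gradedAt U hU U' hU' hle ((RelProj.gradedHomAt ι hz.graded U hU) a) =
      (RelProj.gradedHomAt ι' hz'.graded U' hU') (u.gradedAt U hU U' hU' hle a) := by
  have h1 : (uh.app U).hom ((ι.hom.app (op U)).hom a) =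
      (ι'.hom.app (op (q ⁻¹ᵁ U))).hom ((u.app U).hom a) := congr($(huh U) a)
  have h2 : ∀ b : 𝒮'.presheaf.obj (op (q ⁻¹ᵁ U)),
      (𝒮h'.presheaf.map (homOfLE hle).op).hom ((ι'.hom.app (op (q ⁻¹ᵁ U))).hom b) =
        (ι'.hom.app (op U')).hom ((𝒮'.presheaf.map (homOfLE hle).op).hom b) := fun b =>
    congr($((ι'.hom.naturality (homOfLE hle).op).symm) b)
  change (𝒮h'.presheaf.map (homOfLE hle).op).hom ((uh.app U).hom ((ι.hom.app (op U)).hom a)) =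
    (ι'.hom.app (op U')).hom ((𝒮'.presheaf.map (homOfLE hle).op).hom ((u.app U).hom a))
  rw [h1, h2]

include huhz in
/-- `φ̂(z) = z'` on affine pairs. -/
theorem gradedAt_z (U : Y.Opens) (hU : IsAffineOpen U) (U' : Y'.Opens) (hU' : IsAffineOpen U')
    (hle : U' ≤ q ⁻¹ᵁ U) :
    uh.gradedAt U hU U' hU' hle (RelCone.restrictTop 𝒮h z U) = RelCone.restrictTop 𝒮h' z' U' := by
  have h1 := uh.toQHom.map_appLE (le_top : U ≤ ⊤) hle
  have h2 : (uh.appLE U U' hle).hom ((𝒮h.presheaf.map (homOfLE (le_top : U ≤ ⊤)).op).hom z) =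
      (uh.appLE ⊤ U' (hle.trans (q.preimage_mono le_top))).hom z := congr($h1 z)
  change (uh.appLE U U' hle).hom ((𝒮h.presheaf.map (homOfLE (le_top : U ≤ ⊤)).op).hom z) = _
  rw [h2]
  change (𝒮h'.presheaf.map (homOfLE (hle.trans (q.preimage_mono le_top))).op).hom
    ((uh.app ⊤).hom z) = _
  rw [huhz]
  change (𝒮h'.presheaf.map (homOfLE (hle.trans (q.preimage_mono le_top))).op).hom
    ((𝒮h'.presheaf.map (homOfLE le_top).op).hom z') = (𝒮h'.presheaf.map (homOfLE le_top).op).hom z'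
  rw [← CommRingCat.comp_apply, ← Functor.map_comp]
  rfl

variable (Φh : ((RelProj.domQ uh pC' chartC' : PC'.Opens) : Scheme.{u}) ⟶ PC)
  (hΦh : ∀ (U : Y.Opens) (hU : IsAffineOpen U) (U' : Y'.Opens) (hU' : IsAffineOpen U')
    (hle : U' ≤ q ⁻¹ᵁ U) (d : ℕ) (hd : 0 < d) (f : 𝒮h.presheaf.obj (op U))
    (hf : f ∈ 𝒮h.deg U hU d),
    stdChart uh pC' chartC' U hU U' hU' hle hd f hf ≫ Φh = tgt uh pC chartC U hU U' hU' hle hd f hf)
  {P' : Scheme.{u}} {p' : P' ⟶ Y'}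
  {chart' : ∀ (U : Y'.Opens) (hU : IsAffineOpen U),
    (((p' ⁻¹ᵁ U : P'.Opens) : Scheme.{u}) ≅ Proj (𝒮'.deg U hU))}
  (hP' : RelProj.IsRelProj 𝒮' p' chart')

/-- Every point of `Y'` has an affine neighbourhood mapping into an affine open of `Y`. -/
theorem exists_affine_pair (b : Y') :
    ∃ (U : Y.Opens) (hU : IsAffineOpen U) (U' : Y'.Opens) (hU' : IsAffineOpen U')
      (hle : U' ≤ q ⁻¹ᵁ U), b ∈ U' := by
  obtain ⟨U, hU, hbU, -⟩ := (Opens.isBasis_iff_nbhd.mp Y.isBasis_affineOpens)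
    (show q b ∈ (⊤ : Y.Opens) from trivial)
  obtain ⟨U', hU', hbU', hle⟩ := (Opens.isBasis_iff_nbhd.mp Y'.isBasis_affineOpens)
    (show b ∈ q ⁻¹ᵁ U from hbU)
  exact ⟨U, hU, U', hU', hle, hbU'⟩

include hC hC' hΦh huh in
/-- `Φ̂⁻¹(Ê) ⊆ Ê'`. -/
theorem image_preimage_le :
    (RelProj.domQ uh pC' chartC').ι ''ᵁ (Φh ⁻¹ᵁ RelCone.pointedProjCone 𝒮 hz pC chartC) ≤
      RelCone.pointedProjCone 𝒮' hz' pC' chartC' := by
  rintro _ ⟨x', hx', rfl⟩
  have hx'' : Φh x' ∈ RelCone.pointedProjCone 𝒮 hz pC chartC := hx'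
  obtain ⟨⟨U, hU0⟩, yC, hyC, hyCx⟩ := Opens.mem_iSup.mp hx''
  have hU : IsAffineOpen U := hU0
  obtain ⟨d, hd, f, hf, hfy⟩ := exists_homogeneous_of_mem_domOpen _ yC hyC
  have hcomp := glue_comp_p uh hC hC' Φh hΦh
  have hqb : q (pC' ((RelProj.domQ uh pC' chartC').ι x')) ∈ U := by
    have e1 : q (pC' ((RelProj.domQ uh pC' chartC').ι x')) = pC (Φh x') := by
      rw [← Scheme.Hom.comp_apply, ← Scheme.Hom.comp_apply, ← hcomp, Scheme.Hom.comp_apply]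
    rw [e1]
    have : Φh x' ∈ Set.range (RelProj.emb pC chartC U hU) := ⟨yC, hyCx⟩
    rw [range_emb] at this
    exact this
  obtain ⟨U', hU', hbU', hle⟩ := (Opens.isBasis_iff_nbhd.mp Y'.isBasis_affineOpens)
    (show pC' ((RelProj.domQ uh pC' chartC').ι x') ∈ q ⁻¹ᵁ U from hqb)
  have hmemf : (RelProj.gradedHomAt ι hz.graded U hU) f ∈ 𝒮h.deg U hU d :=
    (RelProj.gradedHomAt ι hz.graded U hU).map_mem hf
  have hx3 : x' ∈ Φh ⁻¹ᵁ (Proj.awayι (𝒮h.deg U hU) ((RelProj.gradedHomAt ι hz.graded U hU) f)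
      hmemf hd ≫ RelProj.emb pC chartC U hU).opensRange ⊓
      (RelProj.domQ uh pC' chartC').ι ⁻¹ᵁ (pC' ⁻¹ᵁ U') := by
    refine ⟨?_, hbU'⟩
    have h5 : Φh x' ∈ (Proj.awayι (𝒮h.deg U hU) ((RelProj.gradedHomAt ι hz.graded U hU) f)
        hmemf hd ≫ RelProj.emb pC chartC U hU).opensRange := by
      rw [Scheme.Hom.opensRange_comp, Proj.opensRange_awayι]
      exact ⟨yC, (ProjectiveSpectrum.mem_basicOpen _ _ _).mpr hfy, hyCx⟩
    exact h5
  have hx4 : x' ∈ (stdChart uh pC' chartC' U hU U' hU' hle hd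
      ((RelProj.gradedHomAt ι hz.graded U hU) f) hmemf).opensRange :=
    (le_of_eq (preimage_chart uh hC hC' Φh hΦh U hU U' hU' hle hd
      ((RelProj.gradedHomAt ι hz.graded U hU) f) hmemf)) hx3
  obtain ⟨w, rfl⟩ := hx4
  have h6 : (RelProj.domQ uh pC' chartC').ι (stdChart uh pC' chartC' U hU U' hU' hle hd _ hmemf w) ∈
      Set.range (RelProj.awayEmb uh pC' chartC' U hU U' hU' hle hd _ hmemf).base :=
    ⟨w, by rw [← Scheme.Hom.comp_apply, stdChart_ι]⟩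
  obtain ⟨y', hy', hfy'⟩ := (mem_range_awayEmb_iff uh pC' chartC' U hU U' hU' hle hd _ hmemf _).mp h6
  rw [gradedAt_ι u hz hz' uh huh U hU U' hU' hle f] at hfy'
  have hy'd : y' ∈ RelCone.domOpen (RelProj.gradedHomAt ι' hz'.graded U' hU') :=
    mem_domOpen_of_notMem _ y' hd _ ((u.gradedAt U hU U' hU' hle).map_mem hf) hfy'
  exact Opens.mem_iSup.mpr ⟨⟨U', hU'⟩, ⟨y', hy'd, hy'⟩⟩

include hC' hP' huh in
/-- If `Proj(φ)` is everywhere defined, every point of `G(ι'(U'))` lies in some `D₊(φ̂ ι f)`. -/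
theorem exists_notMem_of_domQ_eq_top (htop : RelProj.domQ u p' chart' = ⊤)
    (U : Y.Opens) (hU : IsAffineOpen U) (U' : Y'.Opens) (hU' : IsAffineOpen U')
    (hle : U' ≤ q ⁻¹ᵁ U) (y' : Proj (𝒮h'.deg U' hU'))
    (hy' : y' ∈ RelCone.domOpen (RelProj.gradedHomAt ι' hz'.graded U' hU')) :
    ∃ (d : ℕ) (_ : 0 < d) (f : 𝒮.presheaf.obj (op U)) (_ : f ∈ 𝒮.deg U hU d),
      uh.gradedAt U hU U' hU' hle ((RelProj.gradedHomAt ι hz.graded U hU) f) ∉
        y'.asHomogeneousIdeal := by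
  set y'' := comapPt (RelProj.gradedHomAt ι' hz'.graded U' hU') y' hy' with hy''
  have h1 : RelProj.emb p' chart' U' hU' y'' ∈ RelProj.domQ u p' chart' ⊓ p' ⁻¹ᵁ U' := by
    refine ⟨by rw [htop]; trivial, ?_⟩
    have : RelProj.emb p' chart' U' hU' y'' ∈ Set.range (RelProj.emb p' chart' U' hU') := ⟨y'', rfl⟩
    rw [range_emb] at this
    exact this
  rw [domQ_inf_preimage u hP' U hU U' hU' hle] at h1
  obtain ⟨y₀, hy₀, e⟩ := h1
  have e' := (RelProj.emb p' chart' U' hU').isOpenEmbedding.injective e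
  rw [e'] at hy₀
  obtain ⟨d, hd, f, hf, hfy⟩ := exists_homogeneous_of_mem_domOpen _ y'' hy₀
  refine ⟨d, hd, f, hf, ?_⟩
  rw [gradedAt_ι u hz hz' uh huh U hU U' hU' hle f]
  exact fun h => hfy ((mem_comapPt _ y' hy' _).mpr h)

include hz hz' hC' hP' huh huhz in
/-- If `Proj(φ)` is everywhere defined, so is `Proj(φ̂)`. -/
theorem domQ_eq_top (htop : RelProj.domQ u p' chart' = ⊤) :
    RelProj.domQ uh pC' chartC' = ⊤ := by
  rw [← top_le_iff]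
  intro x' _
  obtain ⟨U, hU, U', hU', hle, hb⟩ := exists_affine_pair (q := q) (pC' x')
  have hx' : x' ∈ Set.range (RelProj.emb pC' chartC' U' hU') := by
    rw [range_emb]
    exact hb
  obtain ⟨y', rfl⟩ := hx'
  suffices h : y' ∈ RelCone.domOpen (uh.gradedAt U hU U' hU' hle) from
    Opens.mem_iSup.mpr ⟨⟨(⟨U, hU⟩, ⟨U', hU'⟩), hle⟩, ⟨y', h, rfl⟩⟩
  by_cases hzy : RelCone.restrictTop 𝒮h' z' U' ∈ y'.asHomogeneousIdeal
  · -- at infinity
    have hy'd : y' ∈ RelCone.domOpen (RelProj.gradedHomAt ι' hz'.graded U' hU') := by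
      by_contra hcon
      apply y'.not_irrelevant_le
      refine PProjConeAlg.irrelevant_le_of_mem (𝒮'.deg U' hU') (𝒮h'.deg U' hU')
        (ι'.hom.app (op U')).hom (RelCone.restrictTop 𝒮h' z' U') (hz'.graded U' hU')
        (hz'.deg_z U' hU') (hz'.bij U' hU').2 y'.asHomogeneousIdeal.toIdeal ?_ hzy
      intro k hk a ha
      by_contra hcon2
      exact hcon (mem_domOpen_of_notMem (RelProj.gradedHomAt ι' hz'.graded U' hU') y' hk a ha hcon2)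
    obtain ⟨d, hd, f, hf, hfy⟩ := exists_notMem_of_domQ_eq_top u hz hz' hC' uh huh hP' htop
      U hU U' hU' hle y' hy'd
    exact mem_domOpen_of_notMem _ y' hd _ ((RelProj.gradedHomAt ι hz.graded U hU).map_mem hf) hfy
  · refine mem_domOpen_of_notMem _ y' one_pos (RelCone.restrictTop 𝒮h z U) (hz.deg_z U hU) ?_
    rw [gradedAt_z uh huhz U hU U' hU' hle]
    exact hzy

include hC hC' hP' hΦh huh in
/-- If `Proj(φ)` is everywhere defined, `Ê' ⊆ Φ̂⁻¹(Ê)`. -/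
theorem le_image_preimage (htop : RelProj.domQ u p' chart' = ⊤) :
    RelCone.pointedProjCone 𝒮' hz' pC' chartC' ≤
      (RelProj.domQ uh pC' chartC').ι ''ᵁ (Φh ⁻¹ᵁ RelCone.pointedProjCone 𝒮 hz pC chartC) := by
  intro x' hx'
  obtain ⟨U, hU, U', hU', hle, hb⟩ := exists_affine_pair (q := q) (pC' x')
  have h1 : x' ∈ RelProj.domQ (RelProj.QGrHom.ofHom ι' hz'.graded) pC' chartC' ⊓ pC' ⁻¹ᵁ U' := by
    refine ⟨?_, hb⟩
    rw [← pointedProjCone_eq_domQ hz' hC']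
    exact hx'
  rw [domQ_inf_preimage_ofHom ι' hz'.graded hC' U' hU'] at h1
  obtain ⟨y', hy', rfl⟩ := h1
  obtain ⟨d, hd, f, hf, hfy⟩ := exists_notMem_of_domQ_eq_top u hz hz' hC' uh huh hP' htop
    U hU U' hU' hle y' hy'
  have hmemf := (RelProj.gradedHomAt ι hz.graded U hU).map_mem hf
  have h2 : RelProj.emb pC' chartC' U' hU' y' ∈
      Set.range (RelProj.awayEmb uh pC' chartC' U hU U' hU' hle hd _ hmemf).base :=
    (mem_range_awayEmb_iff uh pC' chartC' U hU U' hU' hle hd _ hmemf _).mpr ⟨y', rfl, hfy⟩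
  obtain ⟨w, hw⟩ := h2
  refine ⟨stdChart uh pC' chartC' U hU U' hU' hle hd _ hmemf w, ?_, ?_⟩
  · have h3 : Φh (stdChart uh pC' chartC' U hU U' hU' hle hd _ hmemf w) ∈
        RelCone.pointedProjCone 𝒮 hz pC chartC := by
      rw [← Scheme.Hom.comp_apply, hΦh]
      have h4 : (tgt uh pC chartC U hU U' hU' hle hd _ hmemf) w =
          RelProj.emb pC chartC U hU ((Proj.awayι (𝒮h.deg U hU)
            ((RelProj.gradedHomAt ι hz.graded U hU) f) hmemf hd)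
            ((Spec.map (CommRingCat.ofHom (Away.map (uh.gradedAt U hU U' hU' hle)
              ((RelProj.gradedHomAt ι hz.graded U hU) f)))) w)) :=
        tgt_apply uh U hU U' hU' hle hd _ hmemf w
      rw [h4]
      refine Opens.mem_iSup.mpr ⟨⟨U, hU⟩, ⟨_, ?_, rfl⟩⟩
      refine mem_domOpen_of_notMem _ _ hd f hf ?_
      have h5 : (Proj.awayι (𝒮h.deg U hU) ((RelProj.gradedHomAt ι hz.graded U hU) f) hmemf hd)
          ((Spec.map (CommRingCat.ofHom (Away.map (uh.gradedAt U hU U' hU' hle)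
            ((RelProj.gradedHomAt ι hz.graded U hU) f)))) w) ∈
          (Proj.awayι (𝒮h.deg U hU) ((RelProj.gradedHomAt ι hz.graded U hU) f) hmemf
            hd).opensRange := ⟨_, rfl⟩
      rw [Proj.opensRange_awayι] at h5
      exact (ProjectiveSpectrum.mem_basicOpen _ _ _).mp h5
    exact h3
  · have e0 : (RelProj.domQ uh pC' chartC').ι
        (stdChart uh pC' chartC' U hU U' hU' hle hd _ hmemf w) =
        (RelProj.awayEmb uh pC' chartC' U hU U' hU' hle hd _ hmemf) w := by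
      rw [← Scheme.Hom.comp_apply, stdChart_ι]
    exact e0.trans hw

end Geom

end Groth.Agent.Lib.helper28.PProjFunct
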