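import Groth.Agent.Lib.Helper28.ProjQSquare

set_option autoImplicit false
universe u

namespace Groth.Agent.Lib.helper28.PProjFunct

open CategoryTheory CategoryTheory.Limits AlgebraicGeometry TopologicalSpace Opposite
open HomogeneousLocalization
open scoped HomogeneousIdeal
open Groth.Agent.Lib.helper28.RelSpecMap Groth.Agent.Lib.helper28.RelTwistChart
open Groth.Agent.Lib.helper28.ProjQGlue Groth.Agent.Lib.helper28.ProjQComp
open Groth.Agent.Lib.helper28.PProjRetr Groth.Agent.Lib.helper28.ProjQSquare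

section Geom

variable {Y Y' PC PC' : Scheme.{u}} {q : Y' ⟶ Y}
  {𝒮 : RelProj.QCGrAlg Y} {𝒮' : RelProj.QCGrAlg Y'} (u : RelProj.QGrHom q 𝒮 𝒮')
  {𝒮h : RelProj.QCGrAlg Y} {ι : 𝒮.toQCAlg ⟶ 𝒮h.toQCAlg} {z : 𝒮h.presheaf.obj (op ⊤)}
  (hz : RelCone.IsPolyOver 𝒮 𝒮h ι z)
  {pC : PC ⟶ Y}
  {chartC : ∀ (U : Y.Opens) (hU : IsAffineOpen U),
    (((pC ⁻¹ᵁ U : PC.Opens) : Scheme.{u}) ≅ Proj (𝒮h.deg U hU))}
  (hC : RelProj.IsRelProj 𝒮h pC chartC)
  {𝒮h' : RelProj.QCGrAlg Y'} {ι' : 𝒮'.toQCAlg ⟶ 𝒮h'.toQCAlg} {z' : 𝒮h'.presheaf.obj (op ⊤)}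
  (hz' : RelCone.IsPolyOver 𝒮' 𝒮h' ι' z')
  {pC' : PC' ⟶ Y'}
  {chartC' : ∀ (U : Y'.Opens) (hU : IsAffineOpen U),
    (((pC' ⁻¹ᵁ U : PC'.Opens) : Scheme.{u}) ≅ Proj (𝒮h'.deg U hU))}
  (hC' : RelProj.IsRelProj 𝒮h' pC' chartC')
  (uh : RelProj.QGrHom q 𝒮h 𝒮h')
  (huh : ∀ U : Y.Opens, ι.hom.app (op U) ≫ uh.app U = u.app U ≫ ι'.hom.app (op (q ⁻¹ᵁ U)))
  (Φh : ((RelProj.domQ uh pC' chartC' : PC'.Opens) : Scheme.{u}) ⟶ PC)
  (hΦh : ∀ (U : Y.Opens) (hU : IsAffineOpen U) (U' : Y'.Opens) (hU' : IsAffineOpen U')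
    (hle : U' ≤ q ⁻¹ᵁ U) (d : ℕ) (hd : 0 < d) (f : 𝒮h.presheaf.obj (op U))
    (hf : f ∈ 𝒮h.deg U hU d),
    stdChart uh pC' chartC' U hU U' hU' hle hd f hf ≫ Φh = tgt uh pC chartC U hU U' hU' hle hd f hf)
  {P' : Scheme.{u}} {p' : P' ⟶ Y'}
  {chart' : ∀ (U : Y'.Opens) (hU : IsAffineOpen U),
    (((p' ⁻¹ᵁ U : P'.Opens) : Scheme.{u}) ≅ Proj (𝒮'.deg U hU))}

include hC hC' hΦh huh in
/-- A point of `Φ̂⁻¹(Ê)` is read, on a suitable affine pair, inside some `D₊(ι'(φ f))`. -/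
theorem exists_chart_of_mem_preimage
    (x' : ((RelProj.domQ uh pC' chartC' : PC'.Opens) : Scheme.{u}))
    (hx'' : Φh x' ∈ RelCone.pointedProjCone 𝒮 hz pC chartC) :
    ∃ (U : Y.Opens) (hU : IsAffineOpen U) (U' : Y'.Opens) (hU' : IsAffineOpen U')
      (hle : U' ≤ q ⁻¹ᵁ U) (d : ℕ) (_ : 0 < d) (f : 𝒮.presheaf.obj (op U))
      (_ : f ∈ 𝒮.deg U hU d) (y' : Proj (𝒮h'.deg U' hU')),
      (RelProj.emb pC' chartC' U' hU').base y' = (RelProj.domQ uh pC' chartC').ι x' ∧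
      (RelProj.gradedHomAt ι' hz'.graded U' hU') (u.gradedAt U hU U' hU' hle f) ∉
        y'.asHomogeneousIdeal := by
  obtain ⟨⟨U, hU0⟩, yC, hyC, hyCx⟩ := Opens.mem_iSup.mp hx''
  have hU : IsAffineOpen U := hU0
  obtain ⟨d, hd, f, hf, hfy⟩ := exists_homogeneous_of_mem_domOpen _ yC hyC
  have hcomp := glue_comp_p uh hC hC' Φh hΦh
  have hqb : q (pC' ((RelProj.domQ uh pC' chartC').ι x')) ∈ U := by
    have e1 : q (pC' ((RelProj.domQ uh pC' chartC').ι x')) = pC (Φh x') := by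
      rw [← Scheme.Hom.comp_apply, ← Scheme.Hom.comp_apply, ← hcomp, Scheme.Hom.comp_apply]
    rw [e1]
    have : Φh x' ∈ Set.range (RelProj.emb pC chartC U hU) := ⟨yC, hyCx⟩
    rw [range_emb] at this
    exact this
  obtain ⟨U', hU', hbU', hle⟩ := (Opens.isBasis_iff_nbhd.mp Y'.isBasis_affineOpens)
    (show pC' ((RelProj.domQ uh pC' chartC').ι x') ∈ q ⁻¹ᵁ U from hqb)
  have hmemf : (RelProj.gradedHomAt ι hz.graded U hU) f ∈ 𝒮h.deg U hU d :=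
    (RelProj.gradedHomAt ι hz.graded U hU).map_mem hf
  have hx3 : x' ∈ Φh ⁻¹ᵁ (Proj.awayι (𝒮h.deg U hU) ((RelProj.gradedHomAt ι hz.graded U hU) f)
      hmemf hd ≫ RelProj.emb pC chartC U hU).opensRange ⊓
      (RelProj.domQ uh pC' chartC').ι ⁻¹ᵁ (pC' ⁻¹ᵁ U') := by
    refine ⟨?_, hbU'⟩
    have h5 : Φh x' ∈ (Proj.awayι (𝒮h.deg U hU) ((RelProj.gradedHomAt ι hz.graded U hU) f)
        hmemf hd ≫ RelProj.emb pC chartC U hU).opensRange := by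
      rw [Scheme.Hom.opensRange_comp, Proj.opensRange_awayι]
      exact ⟨yC, (ProjectiveSpectrum.mem_basicOpen _ _ _).mpr hfy, hyCx⟩
    exact h5
  have hx4 : x' ∈ (stdChart uh pC' chartC' U hU U' hU' hle hd
      ((RelProj.gradedHomAt ι hz.graded U hU) f) hmemf).opensRange :=
    (le_of_eq (preimage_chart uh hC hC' Φh hΦh U hU U' hU' hle hd
      ((RelProj.gradedHomAt ι hz.graded U hU) f) hmemf)) hx3
  obtain ⟨w, rfl⟩ := hx4
  have h6 : (RelProj.domQ uh pC' chartC').ι (stdChart uh pC' chartC' U hU U' hU' hle hd _ hmemf w) ∈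
      Set.range (RelProj.awayEmb uh pC' chartC' U hU U' hU' hle hd _ hmemf).base :=
    ⟨w, by rw [← Scheme.Hom.comp_apply, stdChart_ι]⟩
  obtain ⟨y', hy', hfy'⟩ := (mem_range_awayEmb_iff uh pC' chartC' U hU U' hU' hle hd _ hmemf _).mp h6
  rw [gradedAt_ι u hz hz' uh huh U hU U' hU' hle f] at hfy'
  exact ⟨U, hU, U', hU', hle, d, hd, f, hf, y', hy', hfy'⟩

include hC hC' hΦh huh in
/-- `p̂'(Φ̂⁻¹(Ê)) ⊆ G(φ)`, pointwise. -/
theorem retr_mem_domQ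
    (r' : ((RelCone.pointedProjCone 𝒮' hz' pC' chartC' : PC'.Opens) : Scheme.{u}) ⟶ P')
    (hr' : RelProj.IsProjQMapOn (RelProj.QGrHom.ofHom ι' hz'.graded) p' chart' pC' chartC'
      (RelCone.pointedProjCone 𝒮' hz' pC' chartC') r')
    (x : ((RelCone.pointedProjCone 𝒮' hz' pC' chartC' : PC'.Opens) : Scheme.{u}))
    (x' : ((RelProj.domQ uh pC' chartC' : PC'.Opens) : Scheme.{u}))
    (hxx' : (RelCone.pointedProjCone 𝒮' hz' pC' chartC').ι x = (RelProj.domQ uh pC' chartC').ι x')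
    (hx'' : Φh x' ∈ RelCone.pointedProjCone 𝒮 hz pC chartC) :
    r' x ∈ RelProj.domQ u p' chart' := by
  obtain ⟨U, hU, U', hU', hle, d, hd, f, hf, y', hy', hfy'⟩ :=
    exists_chart_of_mem_preimage u hz hC hz' hC' uh huh Φh hΦh x' hx''
  have hg : u.gradedAt U hU U' hU' hle f ∈ 𝒮'.deg U' hU' d :=
    (u.gradedAt U hU U' hU' hle).map_mem hf
  have hle0' : U' ≤ (𝟙 Y') ⁻¹ᵁ U' := le_rfl
  have h2 := chartOn_eq_of_eq (RelProj.QGrHom.ofHom ι' hz'.graded) _ r' hr' U' hU' U' hU' hle0'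
    (RelProj.gradedHomAt ι' hz'.graded U' hU') (ofHom_gradedAt_self ι' hz'.graded U' hU' hle0') hd
    (u.gradedAt U hU U' hU' hle f) hg _ rfl ((RelProj.gradedHomAt ι' hz'.graded U' hU').2 hg)
    (wChart hz' U' hU' hd _ hg) (wChart_ι hz' U' hU' hd _ hg)
  have hy'r : y' ∈ (Proj.awayι (𝒮h'.deg U' hU')
      ((RelProj.gradedHomAt ι' hz'.graded U' hU') (u.gradedAt U hU U' hU' hle f))
      ((RelProj.gradedHomAt ι' hz'.graded U' hU').2 hg) hd).opensRange := by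
    rw [Proj.opensRange_awayι]
    exact (ProjectiveSpectrum.mem_basicOpen _ _ _).mpr hfy'
  obtain ⟨s, rfl⟩ := hy'r
  have hxs : x = wChart hz' (pC := pC') (chartC := chartC') U' hU' hd _ hg s := by
    apply (RelCone.pointedProjCone 𝒮' hz' pC' chartC').ι.isOpenEmbedding.injective
    rw [hxx', ← hy', ← Scheme.Hom.comp_apply (wChart hz' U' hU' hd _ hg), wChart_ι,
      Scheme.Hom.comp_apply]
  have h3 : r' x ∈ Set.range (RelProj.awayEmb u p' chart' U hU U' hU' hle hd f hf).base := by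
    rw [hxs, ← Scheme.Hom.comp_apply, h2]
    exact ⟨_, (Scheme.Hom.comp_apply _ _ _).symm⟩
  have h4 := RelProj.range_awayEmb_subset_domQ u p' chart' U hU U' hU' hle hd f hf h3
  rw [Scheme.Opens.range_ι] at h4
  exact h4

end Geom

end Groth.Agent.Lib.helper28.PProjFunct
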