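import Groth.Agent.Lib.Helper28.PProjFunct2

set_option autoImplicit false
universe u

namespace Groth.Agent.Lib.helper28.PProjFunct

open CategoryTheory CategoryTheory.Limits AlgebraicGeometry TopologicalSpace Opposite
open HomogeneousLocalization
open scoped HomogeneousIdeal
open Groth.Agent.Lib.helper28.RelSpecMap Groth.Agent.Lib.helper28.RelTwistChart
open Groth.Agent.Lib.helper28.ProjQGlue Groth.Agent.Lib.helper28.ProjQComp
open Groth.Agent.Lib.helper28.PProjRetr Groth.Agent.Lib.helper28.ProjQSquare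

section OnTop

variable {S S' : Scheme.{u}} {g : S' ⟶ S} {𝒮 : RelProj.QCGrAlg S} {𝒮' : RelProj.QCGrAlg S'}
  (u : RelProj.QGrHom g 𝒮 𝒮')
  {P : Scheme.{u}} {p : P ⟶ S}
  {chart : ∀ (U : S.Opens) (hU : IsAffineOpen U),
    (((p ⁻¹ᵁ U : P.Opens) : Scheme.{u}) ≅ Proj (𝒮.deg U hU))}
  {P' : Scheme.{u}} {p' : P' ⟶ S'}
  {chart' : ∀ (U' : S'.Opens) (hU' : IsAffineOpen U'),
    (((p' ⁻¹ᵁ U' : P'.Opens) : Scheme.{u}) ≅ Proj (𝒮'.deg U' hU'))}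

/-- An everywhere defined `Proj(u)` restricted to `⊤`. -/
theorem isProjQMapOn_top_of_isProjQMap (h : P' ⟶ P)
    (hh : RelProj.IsProjQMap u p chart p' chart' h) :
    RelProj.IsProjQMapOn u p chart p' chart' ⊤ ((⊤ : P'.Opens).ι ≫ h) := by
  intro U hU U' hU' hle d hd f hf hW
  rw [← Category.assoc, IsOpenImmersion.lift_fac]
  exact hh.2 U hU U' hU' hle d hd f hf

end OnTop

section Geom

variable {Y Y' PC PC' : Scheme.{u}} {q : Y' ⟶ Y}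
  {𝒮 : RelProj.QCGrAlg Y} {𝒮' : RelProj.QCGrAlg Y'} (u : RelProj.QGrHom q 𝒮 𝒮')
  {𝒮h : RelProj.QCGrAlg Y} {ι : 𝒮.toQCAlg ⟶ 𝒮h.toQCAlg} {z : 𝒮h.presheaf.obj (op ⊤)}
  (hz : RelCone.IsPolyOver 𝒮 𝒮h ι z)
  {pC : PC ⟶ Y}
  {chartC : ∀ (U : Y.Opens) (hU : IsAffineOpen U),
    (((pC ⁻¹ᵁ U : PC.Opens) : Scheme.{u}) ≅ Proj (𝒮h.deg U hU))}
  {𝒮h' : RelProj.QCGrAlg Y'} {ι' : 𝒮'.toQCAlg ⟶ 𝒮h'.toQCAlg} {z' : 𝒮h'.presheaf.obj (op ⊤)}
  (hz' : RelCone.IsPolyOver 𝒮' 𝒮h' ι' z')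
  {pC' : PC' ⟶ Y'}
  {chartC' : ∀ (U : Y'.Opens) (hU : IsAffineOpen U),
    (((pC' ⁻¹ᵁ U : PC'.Opens) : Scheme.{u}) ≅ Proj (𝒮h'.deg U hU))}
  (uh : RelProj.QGrHom q 𝒮h 𝒮h')
  (huh : ∀ U : Y.Opens, ι.hom.app (op U) ≫ uh.app U = u.app U ≫ ι'.hom.app (op (q ⁻¹ᵁ U)))
  (huhz : (uh.app ⊤).hom z = RelCone.restrictTop 𝒮h' z' (q ⁻¹ᵁ ⊤))
  (θ : 𝒮h.toQCAlg ⟶ 𝒮.toQCAlg) (hθ : RelProj.IsGradedHom θ) (hθι : ι ≫ θ = 𝟙 _)
  (hθz : (θ.hom.app (op ⊤)).hom z = 0)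
  (θ' : 𝒮h'.toQCAlg ⟶ 𝒮'.toQCAlg) (hθ' : RelProj.IsGradedHom θ') (hθι' : ι' ≫ θ' = 𝟙 _)
  (hθz' : (θ'.hom.app (op ⊤)).hom z' = 0)

include hθz in
/-- The retraction kills `z` over every open. -/
theorem theta_restrictTop (U : Y.Opens) :
    (θ.hom.app (op U)).hom (RelCone.restrictTop 𝒮h z U) = 0 := by
  have h2 : (θ.hom.app (op U)).hom ((𝒮h.presheaf.map (homOfLE (le_top : U ≤ ⊤)).op).hom z) =
      (𝒮.presheaf.map (homOfLE (le_top : U ≤ ⊤)).op).hom ((θ.hom.app (op ⊤)).hom z) :=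
    congr($(θ.hom.naturality (homOfLE (le_top : U ≤ ⊤)).op) z)
  change (θ.hom.app (op U)).hom ((𝒮h.presheaf.map (homOfLE (le_top : U ≤ ⊤)).op).hom z) = 0
  rw [h2, hθz, map_zero]

include hθι in
theorem theta_ι (U : Y.Opens) (a : 𝒮.presheaf.obj (op U)) :
    (θ.hom.app (op U)).hom ((ι.hom.app (op U)).hom a) = a :=
  congrArg (fun k : 𝒮.toQCAlg ⟶ 𝒮.toQCAlg => (k.hom.app (op U)).hom a) hθι

include hz hz' huh huhz hθι hθz hθι' hθz' in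
/-- `φ ∘ θ = θ' ∘ φ̂` on affine pairs. -/
theorem gradedAt_θ (U : Y.Opens) (hU : IsAffineOpen U) (U' : Y'.Opens) (hU' : IsAffineOpen U')
    (hle : U' ≤ q ⁻¹ᵁ U) (b : 𝒮h.presheaf.obj (op U)) :
    u.gradedAt U hU U' hU' hle ((RelProj.gradedHomAt θ hθ U hU) b) =
      (RelProj.gradedHomAt θ' hθ' U' hU') (uh.gradedAt U hU U' hU' hle b) := by
  set F₁ : 𝒮h.presheaf.obj (op U) →+* 𝒮'.presheaf.obj (op U') :=
    (u.gradedAt U hU U' hU' hle).toRingHom.comp (θ.hom.app (op U)).hom with hF₁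
  set F₂ : 𝒮h.presheaf.obj (op U) →+* 𝒮'.presheaf.obj (op U') :=
    (θ'.hom.app (op U')).hom.comp (uh.gradedAt U hU U' hU' hle).toRingHom with hF₂
  have key : F₁.comp (Polynomial.eval₂RingHom (ι.hom.app (op U)).hom
      (RelCone.restrictTop 𝒮h z U)) =
      F₂.comp (Polynomial.eval₂RingHom (ι.hom.app (op U)).hom (RelCone.restrictTop 𝒮h z U)) := by
    apply Polynomial.ringHom_ext
    · intro a
      have e1 : F₁ ((ι.hom.app (op U)).hom a) = u.gradedAt U hU U' hU' hle a := by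
        change u.gradedAt U hU U' hU' hle ((θ.hom.app (op U)).hom ((ι.hom.app (op U)).hom a)) = _
        rw [theta_ι θ hθι U a]
      have e2 : F₂ ((ι.hom.app (op U)).hom a) = u.gradedAt U hU U' hU' hle a := by
        change (θ'.hom.app (op U')).hom (uh.gradedAt U hU U' hU' hle
          ((RelProj.gradedHomAt ι hz.graded U hU) a)) = _
        rw [gradedAt_ι u hz hz' uh huh U hU U' hU' hle a]
        exact theta_ι θ' hθι' U' _
      simp only [RingHom.comp_apply, Polynomial.coe_eval₂RingHom, Polynomial.eval₂_C]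
      rw [e1, e2]
    · have e1 : F₁ (RelCone.restrictTop 𝒮h z U) = 0 := by
        change u.gradedAt U hU U' hU' hle ((θ.hom.app (op U)).hom (RelCone.restrictTop 𝒮h z U)) = 0
        rw [theta_restrictTop θ hθz U, map_zero]
      have e2 : F₂ (RelCone.restrictTop 𝒮h z U) = 0 := by
        change (θ'.hom.app (op U')).hom (uh.gradedAt U hU U' hU' hle
          (RelCone.restrictTop 𝒮h z U)) = 0
        rw [gradedAt_z uh huhz U hU U' hU' hle]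
        exact theta_restrictTop θ' hθz' U'
      simp only [RingHom.comp_apply, Polynomial.coe_eval₂RingHom, Polynomial.eval₂_X]
      rw [e1, e2]
  obtain ⟨pol, rfl⟩ := (hz.bij U hU).2 b
  exact congr($key pol)


variable {P' : Scheme.{u}} {p' : P' ⟶ Y'}
  {chart' : ∀ (U : Y'.Opens) (hU : IsAffineOpen U),
    (((p' ⁻¹ᵁ U : P'.Opens) : Scheme.{u}) ≅ Proj (𝒮'.deg U hU))}
  (hP' : RelProj.IsRelProj 𝒮' p' chart')
  (jX' : P' ⟶ PC')
  (hjX' : RelProj.IsProjQMap (RelProj.QGrHom.ofHom θ' hθ') pC' chartC' p' chart' jX')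

include hz hz' huh hθι' hP' hjX' in
/-- `j'(G(φ)) ⊆ G(φ̂)`, pointwise. -/
theorem infImm_mem_domQ (x : P') (hx : x ∈ RelProj.domQ u p' chart') :
    jX' x ∈ RelProj.domQ uh pC' chartC' := by
  obtain ⟨U, hU, U', hU', hle, hb⟩ := exists_affine_pair (q := q) (p' x)
  have h1 : x ∈ RelProj.domQ u p' chart' ⊓ p' ⁻¹ᵁ U' := ⟨hx, hb⟩
  rw [domQ_inf_preimage u hP' U hU U' hU' hle] at h1
  obtain ⟨y, hy, rfl⟩ := h1
  obtain ⟨d, hd, f, hf, hfy⟩ := exists_homogeneous_of_mem_domOpen _ y hy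
  set g₀ := (RelProj.gradedHomAt ι' hz'.graded U' hU') (u.gradedAt U hU U' hU' hle f) with hg₀
  have hg₀m : g₀ ∈ 𝒮h'.deg U' hU' d :=
    (RelProj.gradedHomAt ι' hz'.graded U' hU').map_mem ((u.gradedAt U hU U' hU' hle).map_mem hf)
  have hle0' : U' ≤ (𝟙 Y') ⁻¹ᵁ U' := le_rfl
  have eθ : (RelProj.QGrHom.ofHom θ' hθ').gradedAt U' hU' U' hU' hle0' g₀ =
      u.gradedAt U hU U' hU' hle f := by
    rw [ofHom_gradedAt_self θ' hθ' U' hU' hle0']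
    exact theta_ι θ' hθι' U' _
  have h2 : (RelProj.emb p' chart' U' hU').base y ∈ Set.range (RelProj.awayEmb
      (RelProj.QGrHom.ofHom θ' hθ') p' chart' U' hU' U' hU' hle0' hd g₀ hg₀m).base :=
    (mem_range_awayEmb_iff _ p' chart' U' hU' U' hU' hle0' hd g₀ hg₀m _).mpr
      ⟨y, rfl, by rw [eθ]; exact hfy⟩
  obtain ⟨w, hw⟩ := h2
  have h3 := hjX'.2 U' hU' U' hU' hle0' d hd g₀ hg₀m
  have h4 : jX' ((RelProj.emb p' chart' U' hU').base y) ∈ Set.range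
      (Proj.awayι (𝒮h'.deg U' hU') g₀ hg₀m hd ≫ RelProj.emb pC' chartC' U' hU').base := by
    rw [← hw, ← Scheme.Hom.comp_apply, h3]
    exact ⟨_, (Scheme.Hom.comp_apply _ _ _).symm⟩
  have h5 := range_subset_domQ_of_eq uh (p' := pC') (chart' := chartC') U hU U' hU' hle
    (uh.gradedAt U hU U' hU' hle) rfl hd
    ((RelProj.gradedHomAt ι hz.graded U hU) f) ((RelProj.gradedHomAt ι hz.graded U hU).map_mem hf)
    g₀ (gradedAt_ι u hz hz' uh huh U hU U' hU' hle f) hg₀m h4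
  rw [Scheme.Opens.range_ι] at h5
  exact h5

variable {P : Scheme.{u}} {p : P ⟶ Y}
  {chart : ∀ (U : Y.Opens) (hU : IsAffineOpen U),
    (((p ⁻¹ᵁ U : P.Opens) : Scheme.{u}) ≅ Proj (𝒮.deg U hU))}
  (hP : RelProj.IsRelProj 𝒮 p chart)
  (jX : P ⟶ PC)
  (hjX : RelProj.IsProjQMap (RelProj.QGrHom.ofHom θ hθ) pC chartC p chart jX)
  (Φ : ((RelProj.domQ u p' chart' : P'.Opens) : Scheme.{u}) ⟶ P)
  (hΦ : ∀ (U : Y.Opens) (hU : IsAffineOpen U) (U' : Y'.Opens) (hU' : IsAffineOpen U')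
    (hle : U' ≤ q ⁻¹ᵁ U) (d : ℕ) (hd : 0 < d) (f : 𝒮.presheaf.obj (op U))
    (hf : f ∈ 𝒮.deg U hU d),
    stdChart u p' chart' U hU U' hU' hle hd f hf ≫ Φ = tgt u p chart U hU U' hU' hle hd f hf)
  (Φh : ((RelProj.domQ uh pC' chartC' : PC'.Opens) : Scheme.{u}) ⟶ PC)
  (hΦh : ∀ (U : Y.Opens) (hU : IsAffineOpen U) (U' : Y'.Opens) (hU' : IsAffineOpen U')
    (hle : U' ≤ q ⁻¹ᵁ U) (d : ℕ) (hd : 0 < d) (f : 𝒮h.presheaf.obj (op U))
    (hf : f ∈ 𝒮h.deg U hU d),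
    stdChart uh pC' chartC' U hU U' hU' hle hd f hf ≫ Φh = tgt uh pC chartC U hU U' hU' hle hd f hf)

include hz hz' huh huhz hθι hθz hθι' hθz' hP hP' hjX hjX' hΦ hΦh in
/-- The square formed by `Proj(φ)`, `Φ̂` and the immersions at infinity commutes (on `T`-valued
points). -/
theorem infImm_comm {T : Scheme.{u}}
    (d : T ⟶ ((RelProj.domQ u p' chart' : P'.Opens) : Scheme.{u}))
    (e : T ⟶ ((RelProj.domQ uh pC' chartC' : PC'.Opens) : Scheme.{u}))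
    (hde : d ≫ (RelProj.domQ u p' chart').ι ≫ jX' = e ≫ (RelProj.domQ uh pC' chartC').ι) :
    e ≫ Φh = d ≫ Φ ≫ jX := by
  have hr₁ : Set.range (d ≫ (RelProj.domQ u p' chart').ι).base ⊆
      Set.range (⊤ : P'.Opens).ι.base := by
    rw [Scheme.Opens.range_ι]
    intro _ _
    trivial
  have hr₂ : Set.range (d ≫ Φ).base ⊆ Set.range (⊤ : P.Opens).ι.base := by
    rw [Scheme.Opens.range_ι]
    intro _ _
    trivial
  set a₀ := IsOpenImmersion.lift (⊤ : P'.Opens).ι (d ≫ (RelProj.domQ u p' chart').ι) hr₁ with ha₀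
  set c₀ := IsOpenImmersion.lift (⊤ : P.Opens).ι (d ≫ Φ) hr₂ with hc₀
  have ha : a₀ ≫ (⊤ : P'.Opens).ι = d ≫ (RelProj.domQ u p' chart').ι :=
    IsOpenImmersion.lift_fac _ _ _
  have hc : d ≫ Φ = c₀ ≫ (⊤ : P.Opens).ι := (IsOpenImmersion.lift_fac _ _ _).symm
  have he : a₀ ≫ (⊤ : P'.Opens).ι ≫ jX' = e ≫ (RelProj.domQ uh pC' chartC').ι := by
    rw [← Category.assoc, ha, Category.assoc, hde]
  have key := square θ hθ θ' hθ' u uh
    (gradedAt_θ u hz hz' uh huh huhz θ hθ hθι hθz θ' hθ' hθι' hθz') hP hP' Φ hΦ Φh hΦh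
    ⊤ hjX.1.symm ((⊤ : P.Opens).ι ≫ jX) (isProjQMapOn_top_of_isProjQMap _ jX hjX)
    ⊤ hjX'.1.symm ((⊤ : P'.Opens).ι ≫ jX') (isProjQMapOn_top_of_isProjQMap _ jX' hjX')
    d a₀ ha e he c₀ hc
  rw [← key, ← Category.assoc c₀, ← hc, Category.assoc]

end Geom

end Groth.Agent.Lib.helper28.PProjFunct
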