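import Groth.Agent.Lib.Helper28.ProjQComp2
import Groth.Agent.Lib.Helper28.PolyGrade2
import Groth.Agent.Lib.Helper28.RelTwistMap

set_option autoImplicit false
universe u

namespace Groth.Agent.Lib.helper28.PProjRetr

open CategoryTheory CategoryTheory.Limits AlgebraicGeometry TopologicalSpace Opposite
open HomogeneousLocalization
open scoped HomogeneousIdeal
open Groth.Agent.Lib.helper28.RelSpecMap Groth.Agent.Lib.helper28.RelTwistChart
open Groth.Agent.Lib.helper28.ProjQGlue Groth.Agent.Lib.helper28.ProjQComp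
open Groth.Agent.Lib.helper28.PolyGrade2

section Ring

variable {A₀ B : Type u} [CommRing A₀] [CommRing B] {𝒜 : ℕ → AddSubgroup A₀} [GradedRing 𝒜]
  {ℬ : ℕ → AddSubgroup B} [GradedRing ℬ]

/-- For `B = A₀[z]` graded with `z` of degree one, "`z ↦ 0`" is a graded retraction of
`A₀ → B`. -/
theorem exists_gradedRetraction (ψ : 𝒜 →+*ᵍ ℬ) (z : B) (hz : z ∈ ℬ 1)
    (hpoly : Function.Bijective (Polynomial.eval₂RingHom (ψ : A₀ →+* B) z)) :
    ∃ ρ : ℬ →+*ᵍ 𝒜, (∀ a, ρ (ψ a) = a) ∧ ρ z = 0 := by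
  classical
  set E := RingEquiv.ofBijective _ hpoly with hE
  set ρ₀ : B →+* A₀ := (Polynomial.evalRingHom 0).comp E.symm.toRingHom with hρ₀
  have hEC : ∀ a : A₀, E (Polynomial.C a) = ψ a := fun a => by
    change Polynomial.eval₂ (ψ : A₀ →+* B) z (Polynomial.C a) = ψ a
    rw [Polynomial.eval₂_C]
    rfl
  have hEX : E Polynomial.X = z := by
    change Polynomial.eval₂ (ψ : A₀ →+* B) z Polynomial.X = z
    rw [Polynomial.eval₂_X]
  have h1 : ∀ a, ρ₀ (ψ a) = a := fun a => by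
    rw [hρ₀, RingHom.comp_apply, ← hEC]
    simp
  have h2 : ρ₀ z = 0 := by
    rw [hρ₀, RingHom.comp_apply, ← hEX]
    simp
  have hι : ∀ (k : ℕ) (x : A₀), x ∈ 𝒜 k → (ψ : A₀ →+* B) x ∈ ℬ k := fun k x hx => ψ.map_mem hx
  have hmem : ∀ {n : ℕ} {b : B}, b ∈ ℬ n → ρ₀ b ∈ 𝒜 n := by
    intro n b hb
    obtain ⟨P, rfl⟩ := E.surjective b
    have hb' : Polynomial.eval₂ (ψ : A₀ →+* B) z P ∈ ℬ n := hb
    have e1 : E P = ∑ j ∈ Finset.range (n + 1),
        (ψ : A₀ →+* B) (GradedRing.proj 𝒜 (n - j) (P.coeff j)) * z ^ j :=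
      eq_sum_of_mem 𝒜 ℬ (ψ : A₀ →+* B) z hι hz n P hb'
    rw [e1, map_sum, Finset.sum_eq_single 0]
    · rw [map_mul, map_pow, pow_zero, mul_one]
      have : ρ₀ ((ψ : A₀ →+* B) (GradedRing.proj 𝒜 (n - 0) (P.coeff 0))) =
          GradedRing.proj 𝒜 (n - 0) (P.coeff 0) := h1 _
      rw [this]
      exact proj_mem 𝒜 _ _
    · intro j _ hj
      rw [map_mul, map_pow, h2, zero_pow hj, mul_zero]
    · intro h
      exact absurd (Finset.mem_range.mpr (Nat.succ_pos n)) h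
  exact ⟨{ ρ₀ with map_mem := fun hx => hmem hx }, h1, h2⟩

/-- `Spec B_(ψ f) → Spec A_(f)` is surjective when `ψ` has a graded retraction. -/
theorem surjective_specMap_awayMap (ψ : 𝒜 →+*ᵍ ℬ) (ρ : ℬ →+*ᵍ 𝒜) (hρ : ∀ a, ρ (ψ a) = a)
    (f : A₀) :
    Function.Surjective (Spec.map (CommRingCat.ofHom (Away.map ψ f))) := by
  have e : GradedRingHom.id 𝒜 = ρ.comp ψ := by
    apply GradedRingHom.ext
    intro x
    exact (hρ x).symm
  have ex : ρ (ψ f) = (GradedRingHom.id 𝒜) f := hρ f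
  have h1 := awayMapTo_comp ψ ρ (GradedRingHom.id 𝒜) e f ex
  rw [Away.map_id] at h1
  intro s
  refine ⟨Spec.map (CommRingCat.ofHom (awayMapTo ρ (ψ f) ((GradedRingHom.id 𝒜) f) ex)) s, ?_⟩
  rw [← Scheme.Hom.comp_apply, ← Spec.map_comp, ← CommRingCat.ofHom_comp, h1]
  have : Spec.map (CommRingCat.ofHom (RingHom.id (Away 𝒜 f))) = 𝟙 _ := Spec.map_id _
  exact congrArg (fun k : Spec (CommRingCat.of (Away 𝒜 f)) ⟶ Spec (CommRingCat.of (Away 𝒜 f)) =>
    k s) this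

/-- `D₊(ψ f)` of an endomorphism equal to the identity. -/
theorem specMap_awayMap_awayι_of_eq_id (ψ : 𝒜 →+*ᵍ 𝒜) (e : ψ = GradedRingHom.id 𝒜)
    {d : ℕ} (hd : 0 < d) (f : A₀) (hf : f ∈ 𝒜 d) :
    Spec.map (CommRingCat.ofHom (Away.map ψ f)) ≫ Proj.awayι 𝒜 f hf hd =
      Proj.awayι 𝒜 (ψ f) (ψ.map_mem hf) hd := by
  subst e
  rw [Away.map_id]
  have h : Spec.map (CommRingCat.ofHom (RingHom.id (Away 𝒜 f))) =
      𝟙 (Spec (CommRingCat.of (Away 𝒜 f))) := Spec.map_id _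
  exact (congrArg (fun k => k ≫ Proj.awayι 𝒜 f hf hd) h).trans
    (Category.id_comp (Proj.awayι 𝒜 f hf hd))

/-- The map `B_(ψ f) → A_(f)` induced by a retraction `ρ` of `ψ` retracts `A_(f) → B_(ψ f)`. -/
theorem awayMapTo_comp_retraction (ψ : 𝒜 →+*ᵍ ℬ) (ρ : ℬ →+*ᵍ 𝒜) (hρ : ∀ a, ρ (ψ a) = a) (f : A₀) :
    (awayMapTo ρ (ψ f) f (hρ f)).comp (Away.map ψ f) = RingHom.id _ := by
  ext x
  obtain ⟨⟨i, ⟨n, hn⟩, ⟨dd, hdd⟩, hmem⟩, rfl⟩ := HomogeneousLocalization.mk_surjective x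
  simp only [RingHom.comp_apply, RingHom.id_apply, Away.map, awayMapTo,
    HomogeneousLocalization.map_mk]
  simp only [val_mk]
  have h1 : ρ (ψ n) = n := hρ n
  have h2 : ρ (ψ dd) = dd := hρ dd
  congr 1
  exact Subtype.ext h2

/-- `Proj.map` on the standard open `D₊(x)`, `x = ρ s`. -/
theorem awayι_comp_map_of_eq (ρ : ℬ →+*ᵍ 𝒜) (hirr : 𝒜₊ ≤ (ℬ₊).map ρ) {d : ℕ} (hd : 0 < d)
    (s : B) (hs : s ∈ ℬ d) (x : A₀) (ex : ρ s = x) (hx : x ∈ 𝒜 d) :
    Proj.awayι 𝒜 x hx hd ≫ Proj.map ρ hirr =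
      Spec.map (CommRingCat.ofHom (awayMapTo ρ s x ex)) ≫ Proj.awayι ℬ s hs hd := by
  subst ex
  exact Proj.awayι_comp_map ρ hirr hd s hs

end Ring

section Geom

variable {Y PC P : Scheme.{u}} {𝒮 𝒮h : RelProj.QCGrAlg Y}
  {ι : 𝒮.toQCAlg ⟶ 𝒮h.toQCAlg} {z : 𝒮h.presheaf.obj (op ⊤)}
  (hz : RelCone.IsPolyOver 𝒮 𝒮h ι z)
  {pC : PC ⟶ Y}
  {chartC : ∀ (U : Y.Opens) (hU : IsAffineOpen U),
    (((pC ⁻¹ᵁ U : PC.Opens) : Scheme.{u}) ≅ Proj (𝒮h.deg U hU))}
  (hPC : RelProj.IsRelProj 𝒮h pC chartC)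
  {p : P ⟶ Y}
  {chart : ∀ (U : Y.Opens) (hU : IsAffineOpen U),
    (((p ⁻¹ᵁ U : P.Opens) : Scheme.{u}) ≅ Proj (𝒮.deg U hU))}
  (hP : RelProj.IsRelProj 𝒮 p chart)

include hPC in
/-- The pointed projective cone is the open of definition of `Proj(ι)`. -/
theorem pointedProjCone_eq_domQ :
    RelCone.pointedProjCone 𝒮 hz pC chartC =
      RelProj.domQ (RelProj.QGrHom.ofHom ι hz.graded) pC chartC := by
  apply le_antisymm
  · apply iSup_le
    intro U
    rw [← domQ_inf_preimage_ofHom ι hz.graded hPC U.1 U.2]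
    exact inf_le_left
  · intro x hx
    obtain ⟨U, hU, hxU, -⟩ := (Opens.isBasis_iff_nbhd.mp Y.isBasis_affineOpens)
      (show pC x ∈ (⊤ : Y.Opens) from trivial)
    have h1 : x ∈ RelProj.domQ (RelProj.QGrHom.ofHom ι hz.graded) pC chartC ⊓ pC ⁻¹ᵁ U :=
      ⟨hx, hxU⟩
    rw [domQ_inf_preimage_ofHom ι hz.graded hPC U hU] at h1
    exact Opens.mem_iSup.mpr ⟨⟨U, hU⟩, h1⟩

/-- The chart equations characterising the canonical retraction `Ê → Proj(𝒮)`. -/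
def IsRetr (r : ((RelCone.pointedProjCone 𝒮 hz pC chartC : PC.Opens) : Scheme.{u}) ⟶ P) : Prop :=
  ∀ (U : Y.Opens) (hU : IsAffineOpen U) (d : ℕ) (hd : 0 < d) (f : 𝒮.presheaf.obj (op U))
    (hf : f ∈ 𝒮.deg U hU d)
    (g : Spec (CommRingCat.of (HomogeneousLocalization.Away (𝒮h.deg U hU)
      ((RelProj.gradedHomAt ι hz.graded U hU) f))) ⟶
      ((RelCone.pointedProjCone 𝒮 hz pC chartC : PC.Opens) : Scheme.{u})),
    g ≫ (RelCone.pointedProjCone 𝒮 hz pC chartC).ι =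
        Proj.awayι (𝒮h.deg U hU) ((RelProj.gradedHomAt ι hz.graded U hU) f)
          ((RelProj.gradedHomAt ι hz.graded U hU).2 hf) hd ≫ RelProj.emb pC chartC U hU →
      g ≫ r =
        Spec.map (CommRingCat.ofHom (HomogeneousLocalization.Away.map
          (RelProj.gradedHomAt ι hz.graded U hU) f)) ≫
          Proj.awayι (𝒮.deg U hU) f hf hd ≫ RelProj.emb p chart U hU

theorem range_chart_subset (U : Y.Opens) (hU : IsAffineOpen U) {d : ℕ} (hd : 0 < d)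
    (f : 𝒮.presheaf.obj (op U)) (hf : f ∈ 𝒮.deg U hU d) :
    Set.range (Proj.awayι (𝒮h.deg U hU) ((RelProj.gradedHomAt ι hz.graded U hU) f)
      ((RelProj.gradedHomAt ι hz.graded U hU).2 hf) hd ≫ RelProj.emb pC chartC U hU).base ⊆
      Set.range (RelCone.pointedProjCone 𝒮 hz pC chartC).ι.base := by
  rw [Scheme.Opens.range_ι]
  rintro _ ⟨s, rfl⟩
  have hs : (Proj.awayι (𝒮h.deg U hU) ((RelProj.gradedHomAt ι hz.graded U hU) f)
      ((RelProj.gradedHomAt ι hz.graded U hU).2 hf) hd) s ∈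
      RelCone.domOpen (RelProj.gradedHomAt ι hz.graded U hU) := by
    refine (RelCone.mem_domOpen _ _).mpr ⟨f, HomogeneousIdeal.mem_irrelevant_of_mem _ hd hf, ?_⟩
    have : (Proj.awayι (𝒮h.deg U hU) ((RelProj.gradedHomAt ι hz.graded U hU) f)
        ((RelProj.gradedHomAt ι hz.graded U hU).2 hf) hd) s ∈
        (Proj.awayι (𝒮h.deg U hU) ((RelProj.gradedHomAt ι hz.graded U hU) f)
          ((RelProj.gradedHomAt ι hz.graded U hU).2 hf) hd).opensRange := ⟨s, rfl⟩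
    rw [Proj.opensRange_awayι] at this
    exact (ProjectiveSpectrum.mem_basicOpen _ _ _).mp this
  exact Opens.mem_iSup.mpr ⟨⟨U, hU⟩, ⟨_, hs, (Scheme.Hom.comp_apply _ _ _).symm⟩⟩

/-- The standard chart `Spec 𝒮h(U)_(ι f) ⟶ Ê`. -/
noncomputable def wChart (U : Y.Opens) (hU : IsAffineOpen U) {d : ℕ} (hd : 0 < d)
    (f : 𝒮.presheaf.obj (op U)) (hf : f ∈ 𝒮.deg U hU d) :
    Spec (CommRingCat.of (HomogeneousLocalization.Away (𝒮h.deg U hU)
      ((RelProj.gradedHomAt ι hz.graded U hU) f))) ⟶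
      ((RelCone.pointedProjCone 𝒮 hz pC chartC : PC.Opens) : Scheme.{u}) :=
  IsOpenImmersion.lift (RelCone.pointedProjCone 𝒮 hz pC chartC).ι _
    (range_chart_subset hz (pC := pC) (chartC := chartC) U hU hd f hf)

theorem wChart_ι (U : Y.Opens) (hU : IsAffineOpen U) {d : ℕ} (hd : 0 < d)
    (f : 𝒮.presheaf.obj (op U)) (hf : f ∈ 𝒮.deg U hU d) :
    wChart hz (pC := pC) (chartC := chartC) U hU hd f hf ≫
      (RelCone.pointedProjCone 𝒮 hz pC chartC).ι =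
      Proj.awayι (𝒮h.deg U hU) ((RelProj.gradedHomAt ι hz.graded U hU) f)
        ((RelProj.gradedHomAt ι hz.graded U hU).2 hf) hd ≫ RelProj.emb pC chartC U hU :=
  IsOpenImmersion.lift_fac _ _ _

instance isOpenImmersion_wChart (U : Y.Opens) (hU : IsAffineOpen U) {d : ℕ} (hd : 0 < d)
    (f : 𝒮.presheaf.obj (op U)) (hf : f ∈ 𝒮.deg U hU d) :
    IsOpenImmersion (wChart hz (pC := pC) (chartC := chartC) U hU hd f hf) := by
  have : IsOpenImmersion (wChart hz (pC := pC) (chartC := chartC) U hU hd f hf ≫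
      (RelCone.pointedProjCone 𝒮 hz pC chartC).ι) := by
    rw [wChart_ι]
    infer_instance
  exact isOpenImmersion_of_comp_mono _ (RelCone.pointedProjCone 𝒮 hz pC chartC).ι

theorem exists_mem_range_wChart
    (x : ((RelCone.pointedProjCone 𝒮 hz pC chartC : PC.Opens) : Scheme.{u})) :
    ∃ (U : Y.Opens) (hU : IsAffineOpen U) (d : ℕ) (hd : 0 < d) (f : 𝒮.presheaf.obj (op U))
      (hf : f ∈ 𝒮.deg U hU d),
      x ∈ Set.range (wChart hz (pC := pC) (chartC := chartC) U hU hd f hf).base := by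
  have hx : (x.1 : PC) ∈ RelCone.pointedProjCone 𝒮 hz pC chartC := x.2
  obtain ⟨U, hU⟩ := Opens.mem_iSup.mp hx
  obtain ⟨y, hy, hyx⟩ := hU
  obtain ⟨d, hd, f, hf, hfy⟩ := exists_homogeneous_of_mem_domOpen _ y hy
  refine ⟨U.1, U.2, d, hd, f, hf, ?_⟩
  have hy' : y ∈ (Proj.awayι (𝒮h.deg U.1 U.2) ((RelProj.gradedHomAt ι hz.graded U.1 U.2) f)
      ((RelProj.gradedHomAt ι hz.graded U.1 U.2).2 hf) hd).opensRange := by
    rw [Proj.opensRange_awayι]
    exact (ProjectiveSpectrum.mem_basicOpen _ _ _).mpr hfy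
  obtain ⟨s, rfl⟩ := hy'
  refine ⟨s, ?_⟩
  apply (RelCone.pointedProjCone 𝒮 hz pC chartC).ι.isOpenEmbedding.injective
  rw [← Scheme.Hom.comp_apply, wChart_ι, Scheme.Hom.comp_apply]
  exact hyx

variable {hz}

/-- The canonical retraction is unique. -/
theorem IsRetr.ext {r₁ r₂ : ((RelCone.pointedProjCone 𝒮 hz pC chartC : PC.Opens) : Scheme.{u}) ⟶ P}
    (h₁ : IsRetr hz (chart := chart) r₁) (h₂ : IsRetr hz (chart := chart) r₂) : r₁ = r₂ := by
  apply hom_ext_of_local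
  intro x
  obtain ⟨U, hU, d, hd, f, hf, hx⟩ := exists_mem_range_wChart hz x
  refine ⟨_, wChart hz U hU hd f hf, inferInstance, hx, ?_⟩
  rw [h₁ U hU d hd f hf _ (wChart_ι hz U hU hd f hf), h₂ U hU d hd f hf _ (wChart_ι hz U hU hd f hf)]

include hPC in
/-- The glued morphism `Proj(ι)` on `G(ι)`, transported to the pointed projective cone, is the
canonical retraction. -/
theorem isRetr_of_glue
    (Φ : ((RelProj.domQ (RelProj.QGrHom.ofHom ι hz.graded) pC chartC : PC.Opens) : Scheme.{u}) ⟶ P)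
    (hΦ : ∀ (U : Y.Opens) (hU : IsAffineOpen U) (U' : Y.Opens) (hU' : IsAffineOpen U')
      (hle : U' ≤ (𝟙 Y) ⁻¹ᵁ U) (d : ℕ) (hd : 0 < d) (f : 𝒮.presheaf.obj (op U))
      (hf : f ∈ 𝒮.deg U hU d),
      stdChart (RelProj.QGrHom.ofHom ι hz.graded) pC chartC U hU U' hU' hle hd f hf ≫ Φ =
        tgt (RelProj.QGrHom.ofHom ι hz.graded) p chart U hU U' hU' hle hd f hf) :
    IsRetr hz (chart := chart) ((PC.isoOfEq (pointedProjCone_eq_domQ hz hPC)).hom ≫ Φ) := by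
  intro U hU d hd f hf g hg
  have hle : U ≤ (𝟙 Y) ⁻¹ᵁ U := le_rfl
  have h := chart_eq_of_eq (RelProj.QGrHom.ofHom ι hz.graded) Φ hΦ U hU U hU hle
    (RelProj.gradedHomAt ι hz.graded U hU) (ofHom_gradedAt_self ι hz.graded U hU hle) hd f hf
    ((RelProj.gradedHomAt ι hz.graded U hU) f) rfl
    ((RelProj.gradedHomAt ι hz.graded U hU).map_mem hf)
    (g ≫ (PC.isoOfEq (pointedProjCone_eq_domQ hz hPC)).hom)
    (by rw [Category.assoc, Scheme.isoOfEq_hom_ι, hg])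
  rw [← Category.assoc]
  exact h

include hP in
/-- The canonical retraction is surjective. -/
theorem IsRetr.surjective
    {r : ((RelCone.pointedProjCone 𝒮 hz pC chartC : PC.Opens) : Scheme.{u}) ⟶ P}
    (hr : IsRetr hz (chart := chart) r) : Function.Surjective r.base := by
  intro x
  obtain ⟨⟨U, hU⟩, y, hy⟩ := exists_mem_range_emb p chart x
  obtain ⟨d, f, hd, hf, hfy⟩ := exists_pos_notMem (𝒮.deg U hU) y
  have hy' : y ∈ (Proj.awayι (𝒮.deg U hU) f hf hd).opensRange := by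
    rw [Proj.opensRange_awayι]
    exact (ProjectiveSpectrum.mem_basicOpen _ _ _).mpr hfy
  obtain ⟨s, rfl⟩ := hy'
  obtain ⟨ρ, hρ, -⟩ := exists_gradedRetraction (RelProj.gradedHomAt ι hz.graded U hU)
    (RelCone.restrictTop 𝒮h z U) (hz.deg_z U hU) (hz.bij U hU)
  obtain ⟨t, rfl⟩ := surjective_specMap_awayMap (RelProj.gradedHomAt ι hz.graded U hU) ρ hρ f s
  refine ⟨(wChart hz U hU hd f hf) t, ?_⟩
  rw [← Scheme.Hom.comp_apply, hr U hU d hd f hf _ (wChart_ι hz U hU hd f hf),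
    Scheme.Hom.comp_apply, Scheme.Hom.comp_apply]
  exact hy

include hPC hP in
/-- The canonical retraction is the transported glued morphism. -/
theorem IsRetr.eq_glue
    {r : ((RelCone.pointedProjCone 𝒮 hz pC chartC : PC.Opens) : Scheme.{u}) ⟶ P}
    (hr : IsRetr hz (chart := chart) r) :
    ∃ Φ : ((RelProj.domQ (RelProj.QGrHom.ofHom ι hz.graded) pC chartC : PC.Opens) :
        Scheme.{u}) ⟶ P,
      (∀ (U : Y.Opens) (hU : IsAffineOpen U) (U' : Y.Opens) (hU' : IsAffineOpen U')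
        (hle : U' ≤ (𝟙 Y) ⁻¹ᵁ U) (d : ℕ) (hd : 0 < d) (f : 𝒮.presheaf.obj (op U))
        (hf : f ∈ 𝒮.deg U hU d),
        stdChart (RelProj.QGrHom.ofHom ι hz.graded) pC chartC U hU U' hU' hle hd f hf ≫ Φ =
          tgt (RelProj.QGrHom.ofHom ι hz.graded) p chart U hU U' hU' hle hd f hf) ∧
      r = (PC.isoOfEq (pointedProjCone_eq_domQ hz hPC)).hom ≫ Φ := by
  obtain ⟨Φ, hΦ, -⟩ := existsUnique_glue (RelProj.QGrHom.ofHom ι hz.graded) hP hPC
  exact ⟨Φ, hΦ, hr.ext (isRetr_of_glue hPC Φ hΦ)⟩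

include hPC hP in
/-- The canonical retraction exists. -/
theorem exists_isRetr :
    ∃ r : ((RelCone.pointedProjCone 𝒮 hz pC chartC : PC.Opens) : Scheme.{u}) ⟶ P,
      IsRetr hz (chart := chart) r := by
  obtain ⟨Φ, hΦ, -⟩ := existsUnique_glue (RelProj.QGrHom.ofHom ι hz.graded) hP hPC
  exact ⟨_, isRetr_of_glue hPC Φ hΦ⟩

include hPC hP in
/-- The canonical retraction is affine. -/
theorem IsRetr.isAffineHom
    {r : ((RelCone.pointedProjCone 𝒮 hz pC chartC : PC.Opens) : Scheme.{u}) ⟶ P}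
    (hr : IsRetr hz (chart := chart) r) : IsAffineHom r := by
  obtain ⟨Φ, hΦ, rfl⟩ := hr.eq_glue hPC hP
  have : IsAffineHom Φ := isAffineHom_of_chart_eq ι hz.graded hP hPC Φ hΦ
  infer_instance

include hPC hP in
/-- The canonical retraction lies over the base. -/
theorem IsRetr.comp_p
    {r : ((RelCone.pointedProjCone 𝒮 hz pC chartC : PC.Opens) : Scheme.{u}) ⟶ P}
    (hr : IsRetr hz (chart := chart) r) :
    r ≫ p = (RelCone.pointedProjCone 𝒮 hz pC chartC).ι ≫ pC := by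
  obtain ⟨Φ, hΦ, rfl⟩ := hr.eq_glue hPC hP
  rw [Category.assoc, glue_comp_p (RelProj.QGrHom.ofHom ι hz.graded) hP hPC Φ hΦ,
    ← Category.assoc, Scheme.isoOfEq_hom_ι, Category.comp_id]

include hP in
/-- The canonical retraction retracts the immersion at infinity. -/
theorem IsRetr.retraction
    {r : ((RelCone.pointedProjCone 𝒮 hz pC chartC : PC.Opens) : Scheme.{u}) ⟶ P}
    (hr : IsRetr hz (chart := chart) r)
    (θ : 𝒮h.toQCAlg ⟶ 𝒮.toQCAlg) (hθ : RelProj.IsGradedHom θ) (hιθ : ι ≫ θ = 𝟙 _)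
    (hirr : ∀ (U : Y.Opens) (hU : IsAffineOpen U),
      (𝒮.deg U hU)₊ ≤ ((𝒮h.deg U hU)₊).map (RelProj.gradedHomAt θ hθ U hU))
    (j : P ⟶ PC) (hj : RelProj.IsRelProjMap θ hθ hirr chartC chart j)
    (j' : P ⟶ ((RelCone.pointedProjCone 𝒮 hz pC chartC : PC.Opens) : Scheme.{u}))
    (hj' : j' ≫ (RelCone.pointedProjCone 𝒮 hz pC chartC).ι = j) : j' ≫ r = 𝟙 P := by
  apply hom_ext_of_local
  intro x
  obtain ⟨⟨U, hU⟩, y, hy⟩ := exists_mem_range_emb p chart x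
  obtain ⟨d, f, hd, hf, hfy⟩ := exists_pos_notMem (𝒮.deg U hU) y
  have hρψ : ∀ a, (RelProj.gradedHomAt θ hθ U hU) ((RelProj.gradedHomAt ι hz.graded U hU) a) = a :=
    fun a => congrArg (fun k : 𝒮.toQCAlg ⟶ 𝒮.toQCAlg => (k.hom.app (op U)).hom a) hιθ
  have hy' : y ∈ (Proj.awayι (𝒮.deg U hU) f hf hd).opensRange := by
    rw [Proj.opensRange_awayι]
    exact (ProjectiveSpectrum.mem_basicOpen _ _ _).mpr hfy
  obtain ⟨s, rfl⟩ := hy'
  refine ⟨_, Proj.awayι (𝒮.deg U hU) f hf hd ≫ RelProj.emb p chart U hU,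
    inferInstance, ⟨s, (Scheme.Hom.comp_apply _ _ _).trans hy⟩, ?_⟩
  rw [Category.comp_id]
  have h1 : (Proj.awayι (𝒮.deg U hU) f hf hd ≫ RelProj.emb p chart U hU) ≫ j' =
      Spec.map (CommRingCat.ofHom (awayMapTo (RelProj.gradedHomAt θ hθ U hU)
        ((RelProj.gradedHomAt ι hz.graded U hU) f) f (hρψ f))) ≫ wChart hz U hU hd f hf := by
    rw [← cancel_mono (RelCone.pointedProjCone 𝒮 hz pC chartC).ι, Category.assoc, hj',
      Category.assoc, Category.assoc, wChart_ι, RelTwistMap.emb_comp_h hj U hU,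
      ← Category.assoc, awayι_comp_map_of_eq (RelProj.gradedHomAt θ hθ U hU) (hirr U hU) hd
        ((RelProj.gradedHomAt ι hz.graded U hU) f)
        ((RelProj.gradedHomAt ι hz.graded U hU).map_mem hf) f (hρψ f) hf, Category.assoc]
  have h2 := awayMapTo_comp_retraction (RelProj.gradedHomAt ι hz.graded U hU)
    (RelProj.gradedHomAt θ hθ U hU) hρψ f
  rw [← Category.assoc, h1, Category.assoc, hr U hU d hd f hf _ (wChart_ι hz U hU hd f hf),
    ← Category.assoc, ← Spec.map_comp, ← CommRingCat.ofHom_comp, h2]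
  have h3 : Spec.map (CommRingCat.ofHom (RingHom.id (Away (𝒮.deg U hU) f))) =
      𝟙 (Spec (CommRingCat.of (Away (𝒮.deg U hU) f))) := Spec.map_id _
  rw [h3, Category.id_comp]

end Geom

end Groth.Agent.Lib.helper28.PProjRetr
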