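import Groth.Agent.Lib.Helper28.RelSpecMap
import Groth.Prelude.Def_RelSpec2

set_option autoImplicit false

universe u

/-! The pointed affine cone `E ⊆ C = Spec(𝒮)`: membership can be tested in any chart
(helper28). -/

namespace Groth.Agent.Lib.helper28.PointedCone

open CategoryTheory CategoryTheory.Limits AlgebraicGeometry TopologicalSpace Opposite
open Groth.Agent.Lib.helper28.RelSpecMap
open scoped HomogeneousIdeal

section Ring

variable {A B : Type u} [CommRing A] [CommRing B] {𝒜 : ℕ → AddSubgroup A} {ℬ : ℕ → AddSubgroup B}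
  [GradedRing 𝒜] [GradedRing ℬ]

theorem map_mem_irrelevant (ψ : 𝒜 →+*ᵍ ℬ) {f : A} (hf : f ∈ 𝒜₊) : ψ f ∈ ℬ₊ := by
  classical
  rw [HomogeneousIdeal.mem_irrelevant_iff, GradedRing.proj_apply] at hf ⊢
  rw [← ψ.map_directSumDecompose, hf, map_zero]

theorem irrelevant_le_comap_iff (ψ : 𝒜 →+*ᵍ ℬ) (hψ : ℬ₊ ≤ (𝒜₊).map ψ) (P : Ideal B) :
    (𝒜₊).toIdeal ≤ P.comap ψ ↔ (ℬ₊).toIdeal ≤ P := by
  constructor
  · intro h
    have h1 : (ℬ₊).toIdeal ≤ Ideal.map ψ (𝒜₊).toIdeal := hψ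
    exact h1.trans (Ideal.map_le_iff_le_comap.mpr h)
  · intro h f hf
    exact h (map_mem_irrelevant ψ hf)

end Ring

variable {S : Scheme.{u}} (𝒮 : RelProj.QCGrAlg S)

theorem mem_vertexCompl_iff {R : CommRingCat.{u}} (𝒜 : ℕ → AddSubgroup R) [GradedRing 𝒜]
    (p : Spec R) :
    p ∈ RelCone.vertexCompl 𝒜 ↔ ¬ ((𝒜₊).toIdeal ≤ p.asIdeal) := by
  exact not_congr (PrimeSpectrum.mem_zeroLocus (p : PrimeSpectrum R) _)

/-- Membership in `vertexCompl` is compatible with restriction to a basic open. -/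
theorem mem_vertexCompl_res (U : S.Opens) (hU : IsAffineOpen U) (r : Γ(S, U))
    (p : Spec (𝒮.presheaf.obj (op (S.basicOpen r)))) :
    (Spec.map (𝒮.presheaf.map (homOfLE (S.basicOpen_le r)).op)).base p ∈
        RelCone.vertexCompl (𝒮.deg U hU) ↔
      p ∈ RelCone.vertexCompl (𝒮.deg (S.basicOpen r) (hU.basicOpen r)) := by
  rw [mem_vertexCompl_iff, mem_vertexCompl_iff, not_iff_not]
  exact irrelevant_le_comap_iff (𝒮.res hU (hU.basicOpen r) (S.basicOpen_le r))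
    (𝒮.irrelevant_le_map U hU r) p.asIdeal

theorem mem_vertexCompl_res' {U W : S.AffineZariskiSite} (h : W ≤ U)
    (p : Spec (𝒮.presheaf.obj (op W.1))) :
    (Spec.map (𝒮.presheaf.map (homOfLE (Scheme.AffineZariskiSite.toOpens_mono h)).op)).base p ∈
        RelCone.vertexCompl (𝒮.deg U.1 U.2) ↔
      p ∈ RelCone.vertexCompl (𝒮.deg W.1 W.2) := by
  obtain ⟨r, hr⟩ := h
  obtain ⟨W, hW⟩ := W
  obtain ⟨U, hU⟩ := U
  change S.basicOpen r = W at hr
  subst hr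
  exact mem_vertexCompl_res 𝒮 U hU r p

/-- Chart independence of the pointed cone. -/
theorem mem_vertexCompl_of_eq (U V : S.Opens) (hU : IsAffineOpen U) (hV : IsAffineOpen V)
    (p : Spec (𝒮.presheaf.obj (op U))) (p' : Spec (𝒮.presheaf.obj (op V)))
    (h : (𝒮.toQCAlg.ι U hU).base p = (𝒮.toQCAlg.ι V hV).base p') :
    p ∈ RelCone.vertexCompl (𝒮.deg U hU) ↔ p' ∈ RelCone.vertexCompl (𝒮.deg V hV) := by
  have hxU : 𝒮.toQCAlg.π.base ((𝒮.toQCAlg.ι U hU).base p) ∈ U := by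
    have : (𝒮.toQCAlg.ι U hU).base p ∈ Set.range (𝒮.toQCAlg.ι U hU).base := ⟨p, rfl⟩
    rw [range_ι] at this
    exact this
  have hxV : 𝒮.toQCAlg.π.base ((𝒮.toQCAlg.ι U hU).base p) ∈ V := by
    have : (𝒮.toQCAlg.ι V hV).base p' ∈ Set.range (𝒮.toQCAlg.ι V hV).base := ⟨p', rfl⟩
    rw [range_ι, ← h] at this
    exact this
  obtain ⟨W, hWU, hWV, hxW, -⟩ := exists_common_basic (X := S) ⟨U, hU⟩ ⟨V, hV⟩ ⊤ _ hxU hxV trivial
  have hxW' : (𝒮.toQCAlg.ι U hU).base p ∈ Set.range (𝒮.toQCAlg.ι W.1 W.2).base := by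
    rw [range_ι]
    exact hxW
  obtain ⟨p'', hp''⟩ := hxW'
  have e1 := ι_res' 𝒮.toQCAlg hWU
  have e2 := ι_res' 𝒮.toQCAlg hWV
  have h1 : (Spec.map (𝒮.presheaf.map
      (homOfLE (Scheme.AffineZariskiSite.toOpens_mono hWU)).op)).base p'' = p := by
    apply (𝒮.toQCAlg.ι U hU).isOpenEmbedding.injective
    rw [← hp'', ← e1]
    rfl
  have h2 : (Spec.map (𝒮.presheaf.map
      (homOfLE (Scheme.AffineZariskiSite.toOpens_mono hWV)).op)).base p'' = p' := by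
    apply (𝒮.toQCAlg.ι V hV).isOpenEmbedding.injective
    rw [← h, ← hp'', ← e2]
    rfl
  rw [← h1, ← h2, mem_vertexCompl_res' 𝒮 hWU, mem_vertexCompl_res' 𝒮 hWV]

theorem mem_pointedCone_iff (U : S.Opens) (hU : IsAffineOpen U)
    (p : Spec (𝒮.presheaf.obj (op U))) :
    (𝒮.toQCAlg.ι U hU).base p ∈ RelCone.pointedCone 𝒮 ↔
      p ∈ RelCone.vertexCompl (𝒮.deg U hU) := by
  constructor
  · intro h
    obtain ⟨V, hV⟩ := TopologicalSpace.Opens.mem_iSup.mp h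
    obtain ⟨p', hp', hpp'⟩ := hV
    exact (mem_vertexCompl_of_eq 𝒮 U V.1 hU V.2 p p' hpp'.symm).mpr hp'
  · intro h
    exact TopologicalSpace.Opens.mem_iSup.mpr ⟨⟨U, hU⟩, p, h, rfl⟩

end Groth.Agent.Lib.helper28.PointedCone
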