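import Groth.Agent.Lib.Helper28.PProjRetr
import Groth.Agent.Lib.Helper28.PProjCone
import Groth.Agent.Lib.Helper28.PointedCone

set_option autoImplicit false
universe u

namespace Groth.Agent.Lib.helper28.PProjRetr

open CategoryTheory CategoryTheory.Limits AlgebraicGeometry TopologicalSpace Opposite
open HomogeneousLocalization
open scoped HomogeneousIdeal
open Groth.Agent.Lib.helper28.RelSpecMap Groth.Agent.Lib.helper28.RelTwistChart
open Groth.Agent.Lib.helper28.ProjQGlue Groth.Agent.Lib.helper28.ProjQComp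
open Groth.Agent.Lib.helper28.ConeImm

section Ring

variable {A B σ τ : Type u} [CommRing A] [SetLike σ A]
    [AddSubgroupClass σ A] [CommRing B] [SetLike τ B] [AddSubgroupClass τ B]
    {𝒜 : ℕ → σ} {ℬ : ℕ → τ} [GradedRing 𝒜] [GradedRing ℬ]

/-- The image of `w ∈ Spec B_(ψ x)` in `Proj 𝒜` (through `Spec A_(x)`) lies in `D₊(f)` iff the
image of `w` in `Proj ℬ` lies in `D₊(ψ f)`. -/
theorem awayι_mem_basicOpen_map_iff (ψ : 𝒜 →+*ᵍ ℬ)
    {k d : ℕ} (hk : 0 < k) (hd : 0 < d) {x f : A} (hx : x ∈ 𝒜 k) (hf : f ∈ 𝒜 d)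
    (w : Spec (CommRingCat.of (Away ℬ (ψ x)))) :
    (Proj.awayι 𝒜 x hx hk).base ((Spec.map (CommRingCat.ofHom (Away.map ψ x))).base w) ∈
      Proj.basicOpen 𝒜 f ↔
    (Proj.awayι ℬ (ψ x) (ψ.map_mem hx) hk).base w ∈ Proj.basicOpen ℬ (ψ f) := by
  have h1 : (Proj.awayι 𝒜 x hx hk).base ((Spec.map (CommRingCat.ofHom (Away.map ψ x))).base w) ∈
      Proj.basicOpen 𝒜 f ↔ (Spec.map (CommRingCat.ofHom (Away.map ψ x))).base w ∈
      PrimeSpectrum.basicOpen (Away.isLocalizationElem hx hf) := by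
    have := Proj.awayι_preimage_basicOpen 𝒜 hx hk hf hd
    exact Iff.of_eq (congrArg (fun V : (Spec (CommRingCat.of (Away 𝒜 x))).Opens =>
      (Spec.map (CommRingCat.ofHom (Away.map ψ x))).base w ∈ V) this)
  have h2 : (Proj.awayι ℬ (ψ x) (ψ.map_mem hx) hk).base w ∈ Proj.basicOpen ℬ (ψ f) ↔
      w ∈ PrimeSpectrum.basicOpen (Away.isLocalizationElem (ψ.map_mem hx) (ψ.map_mem hf)) := by
    have := Proj.awayι_preimage_basicOpen ℬ (ψ.map_mem hx) hk (ψ.map_mem hf) hd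
    exact Iff.of_eq (congrArg (fun V : (Spec (CommRingCat.of (Away ℬ (ψ x)))).Opens => w ∈ V) this)
  rw [h1, h2]
  have h3 : (Spec.map (CommRingCat.ofHom (Away.map ψ x))).base w ∈
      PrimeSpectrum.basicOpen (Away.isLocalizationElem hx hf) ↔
      Away.map ψ x (Away.isLocalizationElem hx hf) ∉ w.asIdeal := Iff.rfl
  rw [h3, Groth.Agent.Lib.Lead.ProjChart.map_isLocalizationElem]
  rfl

/-- Points of `Proj` with the same homogeneous elements of positive degree are equal. -/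
theorem proj_ext (y₁ y₂ : ProjectiveSpectrum 𝒜)
    (h : ∀ (k : ℕ), 0 < k → ∀ a ∈ 𝒜 k, a ∈ y₁.asHomogeneousIdeal ↔ a ∈ y₂.asHomogeneousIdeal) :
    y₁ = y₂ := by
  classical
  obtain ⟨e, g, he, hg, hg1⟩ := exists_pos_notMem 𝒜 y₁
  have hg2 : g ∉ y₂.asHomogeneousIdeal := fun h2 => hg1 ((h e he g hg).mpr h2)
  have key : ∀ (k : ℕ) (a : A), a ∈ 𝒜 k →
      (a ∈ y₁.asHomogeneousIdeal ↔ a ∈ y₂.asHomogeneousIdeal) := by
    intro k a ha
    have hag : a * g ∈ 𝒜 (k + e) := SetLike.mul_mem_graded ha hg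
    have h1 := h (k + e) (by omega) (a * g) hag
    have p1 : a * g ∈ y₁.asHomogeneousIdeal ↔ a ∈ y₁.asHomogeneousIdeal := by
      constructor
      · intro h'
        exact (y₁.isPrime.mem_or_mem h').resolve_right hg1
      · intro h'
        exact Ideal.mul_mem_right _ _ h'
    have p2 : a * g ∈ y₂.asHomogeneousIdeal ↔ a ∈ y₂.asHomogeneousIdeal := by
      constructor
      · intro h'
        exact (y₂.isPrime.mem_or_mem h').resolve_right hg2
      · intro h'
        exact Ideal.mul_mem_right _ _ h'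
    rw [← p1, ← p2]
    exact h1
  apply ProjectiveSpectrum.ext
  apply HomogeneousIdeal.ext
  ext a
  constructor
  · intro ha
    rw [← DirectSum.sum_support_decompose 𝒜 a]
    refine Ideal.sum_mem _ fun i _ => ?_
    exact (key i _ (SetLike.coe_mem _)).mp (y₁.asHomogeneousIdeal.isHomogeneous i ha)
  · intro ha
    rw [← DirectSum.sum_support_decompose 𝒜 a]
    refine Ideal.sum_mem _ fun i _ => ?_
    exact (key i _ (SetLike.coe_mem _)).mpr (y₂.asHomogeneousIdeal.isHomogeneous i ha)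

end Ring

section Geom

variable {Y PC P : Scheme.{u}} {𝒮 𝒮h : RelProj.QCGrAlg Y}
  {ι : 𝒮.toQCAlg ⟶ 𝒮h.toQCAlg} {z : 𝒮h.presheaf.obj (op ⊤)}
  {hz : RelCone.IsPolyOver 𝒮 𝒮h ι z}
  {pC : PC ⟶ Y}
  {chartC : ∀ (U : Y.Opens) (hU : IsAffineOpen U),
    (((pC ⁻¹ᵁ U : PC.Opens) : Scheme.{u}) ≅ Proj (𝒮h.deg U hU))}
  (hPC : RelProj.IsRelProj 𝒮h pC chartC)
  {p : P ⟶ Y}
  {chart : ∀ (U : Y.Opens) (hU : IsAffineOpen U),
    (((p ⁻¹ᵁ U : P.Opens) : Scheme.{u}) ≅ Proj (𝒮.deg U hU))}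
  (hP : RelProj.IsRelProj 𝒮 p chart)
  {i : 𝒮.toQCAlg.spec ⟶ PC} (hi : RelCone.IsConeImm 𝒮 hz pC chartC i)

theorem injective_gU (U : Y.Opens) (hU : IsAffineOpen U) :
    Function.Injective (gU 𝒮 𝒮h z hz.deg_z (PProjCone.θ 𝒮 𝒮h ι z hz) U hU).base := by
  have := PProjCone.isIso_θ 𝒮 𝒮h ι z hz U hU
  have h : IsOpenImmersion (gU 𝒮 𝒮h z hz.deg_z (PProjCone.θ 𝒮 𝒮h ι z hz) U hU) := by
    unfold gU
    infer_instance
  exact h.base_open.injective

include hi in
theorem map_ι_apply (U : Y.Opens) (hU : IsAffineOpen U) (t : Spec (𝒮.presheaf.obj (op U))) :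
    i.base ((𝒮.toQCAlg.ι U hU).base t) =
      (RelProj.emb pC chartC U hU).base
        ((gU 𝒮 𝒮h z hz.deg_z (PProjCone.θ 𝒮 𝒮h ι z hz) U hU).base t) := by
  have hc := PProjCone.comm_chart 𝒮 𝒮h ι z hz pC chartC i hi U hU
  have := congrArg (fun k => k.base t) hc
  simpa only [Scheme.Hom.comp_base, TopCat.hom_comp, ContinuousMap.comp_apply] using this

include hPC hi in
/-- Chartwise: `i(t)` lies in the pointed projective cone iff `t` is not in the vertex. -/
theorem map_mem_pointedProjCone_iff (U : Y.Opens) (hU : IsAffineOpen U)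
    (t : Spec (𝒮.presheaf.obj (op U))) :
    i.base ((𝒮.toQCAlg.ι U hU).base t) ∈ RelCone.pointedProjCone 𝒮 hz pC chartC ↔
      t ∈ RelCone.vertexCompl (𝒮.deg U hU) := by
  rw [map_ι_apply hi U hU t, PointedCone.mem_vertexCompl_iff]
  have h1 : (RelProj.emb pC chartC U hU).base
      ((gU 𝒮 𝒮h z hz.deg_z (PProjCone.θ 𝒮 𝒮h ι z hz) U hU).base t) ∈
      RelCone.pointedProjCone 𝒮 hz pC chartC ↔
      (gU 𝒮 𝒮h z hz.deg_z (PProjCone.θ 𝒮 𝒮h ι z hz) U hU).base t ∈
        RelCone.domOpen (RelProj.gradedHomAt ι hz.graded U hU) := by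
    constructor
    · intro h
      have h' : (RelProj.emb pC chartC U hU).base
          ((gU 𝒮 𝒮h z hz.deg_z (PProjCone.θ 𝒮 𝒮h ι z hz) U hU).base t) ∈
          RelProj.domQ (RelProj.QGrHom.ofHom ι hz.graded) pC chartC ⊓ pC ⁻¹ᵁ U := by
        refine ⟨?_, ?_⟩
        · rw [← pointedProjCone_eq_domQ hz hPC]
          exact h
        · have : (RelProj.emb pC chartC U hU).base
              ((gU 𝒮 𝒮h z hz.deg_z (PProjCone.θ 𝒮 𝒮h ι z hz) U hU).base t) ∈
              Set.range (RelProj.emb pC chartC U hU) := ⟨_, rfl⟩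
          rw [range_emb] at this
          exact this
      rw [domQ_inf_preimage_ofHom ι hz.graded hPC U hU] at h'
      obtain ⟨y', hy', e⟩ := h'
      have := (RelProj.emb pC chartC U hU).isOpenEmbedding.injective e
      rw [← this]
      exact hy'
    · intro h
      exact Opens.mem_iSup.mpr ⟨⟨U, hU⟩, ⟨_, h, rfl⟩⟩
  rw [h1, ← not_iff_not, not_not, PProjCone.not_mem_domOpen_iff 𝒮 𝒮h ι z hz U hU]
  constructor
  · rintro ⟨t', ht', e⟩
    have := injective_gU (hz := hz) U hU e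
    rw [← this]
    exact ht'
  · intro h
    exact ⟨t, h, rfl⟩

include hPC hi in
/-- The preimage of the pointed projective cone in the affine cone is the pointed affine cone. -/
theorem preimage_pointedProjCone :
    i ⁻¹ᵁ RelCone.pointedProjCone 𝒮 hz pC chartC = RelCone.pointedCone 𝒮 := by
  ext c
  obtain ⟨U, hU, hcU, -⟩ := (Opens.isBasis_iff_nbhd.mp Y.isBasis_affineOpens)
    (show 𝒮.toQCAlg.π c ∈ (⊤ : Y.Opens) from trivial)
  have hc : c ∈ Set.range (𝒮.toQCAlg.ι U hU).base := by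
    rw [range_ι]
    exact hcU
  obtain ⟨t, rfl⟩ := hc
  exact (map_mem_pointedProjCone_iff hPC hi U hU t).trans
    (PointedCone.mem_pointedCone_iff 𝒮 U hU t).symm

include hPC hi in
/-- The morphism `E ⟶ Ê` induced by `i` is affine. -/
theorem isAffineHom_of_lift
    (i' : ((RelCone.pointedCone 𝒮 : 𝒮.toQCAlg.spec.Opens) : Scheme.{u}) ⟶
      ((RelCone.pointedProjCone 𝒮 hz pC chartC : PC.Opens) : Scheme.{u}))
    (hi' : i' ≫ (RelCone.pointedProjCone 𝒮 hz pC chartC).ι = (RelCone.pointedCone 𝒮).ι ≫ i) :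
    IsAffineHom i' := by
  have hE := preimage_pointedProjCone hPC hi
  have haff : IsAffineHom i := ConeImm.isAffineHom_map 𝒮 𝒮h ι pC chartC hz.graded z hz.deg_z
    hz.bij hPC (PProjCone.θ 𝒮 𝒮h ι z hz) (PProjCone.hθ 𝒮 𝒮h ι z hz) i hi
  have h2 : IsAffineHom (i ∣_ RelCone.pointedProjCone 𝒮 hz pC chartC) :=
    IsZariskiLocalAtTarget.restrict haff _
  have e : i' = (𝒮.toQCAlg.spec.isoOfEq hE.symm).hom ≫
      (i ∣_ RelCone.pointedProjCone 𝒮 hz pC chartC) := by
    rw [← cancel_mono (RelCone.pointedProjCone 𝒮 hz pC chartC).ι, hi', Category.assoc,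
      morphismRestrict_ι, ← Category.assoc, Scheme.isoOfEq_hom_ι]
  rw [e]
  infer_instance

include hP hi in
/-- The composite `E ⟶ Ê ⟶ Proj(𝒮)` is surjective. -/
theorem surjective_lift_comp
    {r : ((RelCone.pointedProjCone 𝒮 hz pC chartC : PC.Opens) : Scheme.{u}) ⟶ P}
    (hr : IsRetr hz (chart := chart) r)
    (i' : ((RelCone.pointedCone 𝒮 : 𝒮.toQCAlg.spec.Opens) : Scheme.{u}) ⟶
      ((RelCone.pointedProjCone 𝒮 hz pC chartC : PC.Opens) : Scheme.{u}))
    (hi' : i' ≫ (RelCone.pointedProjCone 𝒮 hz pC chartC).ι = (RelCone.pointedCone 𝒮).ι ≫ i) :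
    Function.Surjective (i' ≫ r).base := by
  intro x
  obtain ⟨⟨U, hU⟩, y, hy⟩ := exists_mem_range_emb p chart x
  obtain ⟨d, f, hd, hf, hfy⟩ := exists_pos_notMem (𝒮.deg U hU) y
  -- the point of the affine cone
  let t : Spec (𝒮.presheaf.obj (op U)) :=
    (⟨y.asHomogeneousIdeal.toIdeal, y.isPrime⟩ : PrimeSpectrum (𝒮.presheaf.obj (op U)))
  have ht : t ∈ RelCone.vertexCompl (𝒮.deg U hU) :=
    (PointedCone.mem_vertexCompl_iff (𝒮.deg U hU) t).mpr y.not_irrelevant_le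
  have hc : (𝒮.toQCAlg.ι U hU).base t ∈ RelCone.pointedCone 𝒮 :=
    (PointedCone.mem_pointedCone_iff 𝒮 U hU t).mpr ht
  set c : ((RelCone.pointedCone 𝒮 : 𝒮.toQCAlg.spec.Opens) : Scheme.{u}) :=
    ⟨(𝒮.toQCAlg.ι U hU).base t, hc⟩ with hcdef
  refine ⟨c, ?_⟩
  -- the point `gU t` lies in `D₊(ι f)`
  have hmem : ∀ {k : ℕ}, 0 < k → ∀ a ∈ 𝒮.deg U hU k,
      ((RelProj.gradedHomAt ι hz.graded U hU) a ∈
        ((gU 𝒮 𝒮h z hz.deg_z (PProjCone.θ 𝒮 𝒮h ι z hz) U hU).base t).asHomogeneousIdeal ↔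
        a ∈ y.asHomogeneousIdeal) := fun {k} hk a ha =>
    PProjConeAlg.map_mem_g_iff (𝒮.deg U hU) (𝒮h.deg U hU) (RelProj.gradedHomAt ι hz.graded U hU)
      _ (hz.deg_z U hU) (PProjCone.θ 𝒮 𝒮h ι z hz U hU) (PProjCone.hθ 𝒮 𝒮h ι z hz U hU) t hk a ha
  have hgD : (gU 𝒮 𝒮h z hz.deg_z (PProjCone.θ 𝒮 𝒮h ι z hz) U hU).base t ∈
      (Proj.awayι (𝒮h.deg U hU) ((RelProj.gradedHomAt ι hz.graded U hU) f)
        ((RelProj.gradedHomAt ι hz.graded U hU).2 hf) hd).opensRange := by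
    rw [Proj.opensRange_awayι]
    exact (ProjectiveSpectrum.mem_basicOpen _ _ _).mpr (fun h => hfy ((hmem hd f hf).mp h))
  obtain ⟨s, hs⟩ := hgD
  -- `i' c` is the chart point `s`
  have e1 : i'.base c = (wChart hz (pC := pC) (chartC := chartC) U hU hd f hf).base s := by
    apply (RelCone.pointedProjCone 𝒮 hz pC chartC).ι.isOpenEmbedding.injective
    have h0 : (RelCone.pointedCone 𝒮).ι.base c = (𝒮.toQCAlg.ι U hU).base t := rfl
    have h1 : (RelCone.pointedProjCone 𝒮 hz pC chartC).ι.base (i'.base c) =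
        i.base ((𝒮.toQCAlg.ι U hU).base t) := by
      rw [← h0, ← Scheme.Hom.comp_apply, hi', Scheme.Hom.comp_apply]
    have h2 : (RelCone.pointedProjCone 𝒮 hz pC chartC).ι.base
        ((wChart hz (pC := pC) (chartC := chartC) U hU hd f hf).base s) =
        (RelProj.emb pC chartC U hU).base ((Proj.awayι (𝒮h.deg U hU)
          ((RelProj.gradedHomAt ι hz.graded U hU) f)
          ((RelProj.gradedHomAt ι hz.graded U hU).2 hf) hd).base s) := by
      have := congrArg (fun k => k.base s) (wChart_ι hz (pC := pC) (chartC := chartC) U hU hd f hf)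
      simpa only [Scheme.Hom.comp_base, TopCat.hom_comp, ContinuousMap.comp_apply] using this
    rw [h1, h2, map_ι_apply hi U hU t]
    exact congrArg _ hs.symm
  have e2 : (i' ≫ r).base c = (RelProj.emb p chart U hU).base
      ((Proj.awayι (𝒮.deg U hU) f hf hd).base
        ((Spec.map (CommRingCat.ofHom (Away.map (RelProj.gradedHomAt ι hz.graded U hU) f))).base
          s)) := by
    have h3 : (i' ≫ r).base c = r.base (i'.base c) := rfl
    rw [h3, e1]
    have := congrArg (fun k => k.base s) (hr U hU d hd f hf _ (wChart_ι hz U hU hd f hf))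
    simpa only [Scheme.Hom.comp_base, TopCat.hom_comp, ContinuousMap.comp_apply] using this
  rw [e2, ← hy]
  congr 1
  apply proj_ext
  intro k hk a ha
  have h4 := awayι_mem_basicOpen_map_iff (RelProj.gradedHomAt ι hz.graded U hU) hd hk hf ha s
  have h4' : a ∉ ((Proj.awayι (𝒮.deg U hU) f hf hd).base
      ((Spec.map (CommRingCat.ofHom (Away.map (RelProj.gradedHomAt ι hz.graded U hU) f))).base
        s)).asHomogeneousIdeal ↔
      (RelProj.gradedHomAt ι hz.graded U hU) a ∉ ((Proj.awayι (𝒮h.deg U hU)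
        ((RelProj.gradedHomAt ι hz.graded U hU) f)
        ((RelProj.gradedHomAt ι hz.graded U hU).map_mem hf) hd).base s).asHomogeneousIdeal := h4
  rw [← not_iff_not, h4']
  have h5 : (Proj.awayι (𝒮h.deg U hU) ((RelProj.gradedHomAt ι hz.graded U hU) f)
      ((RelProj.gradedHomAt ι hz.graded U hU).map_mem hf) hd).base s =
      (gU 𝒮 𝒮h z hz.deg_z (PProjCone.θ 𝒮 𝒮h ι z hz) U hU).base t := hs
  rw [h5, not_iff_not]
  exact hmem hk a ha

end Geom

end Groth.Agent.Lib.helper28.PProjRetr
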