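import Groth.Agent.Lib.Helper28.PProjRetr2
import Groth.Agent.Lib.Helper28.ConeChartAlg
import Groth.Agent.Lib.Lead.GenDegOne

set_option autoImplicit false
universe u

/-! Charts of the canonical retraction `Ê → Proj(𝒮)` and of its restriction `E → Proj(𝒮)` to the
pointed affine cone, general base (helper28): preimages of the standard opens of `Proj(𝒮)`. -/

namespace Groth.Agent.Lib.helper28.PProjRetr

open CategoryTheory CategoryTheory.Limits AlgebraicGeometry TopologicalSpace Opposite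
open HomogeneousLocalization
open scoped HomogeneousIdeal
open Groth.Agent.Lib.helper28.RelSpecMap Groth.Agent.Lib.helper28.RelTwistChart
open Groth.Agent.Lib.helper28.ProjQGlue Groth.Agent.Lib.helper28.ProjQComp
open Groth.Agent.Lib.helper28.PolyGrade2 Groth.Agent.Lib.helper28.ConeImm

section Geom

variable {Y PC P : Scheme.{u}} {𝒮 𝒮h : RelProj.QCGrAlg Y}
  {ι : 𝒮.toQCAlg ⟶ 𝒮h.toQCAlg} {z : 𝒮h.presheaf.obj (op ⊤)}
  {hz : RelCone.IsPolyOver 𝒮 𝒮h ι z}
  {pC : PC ⟶ Y}
  {chartC : ∀ (U : Y.Opens) (hU : IsAffineOpen U),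
    (((pC ⁻¹ᵁ U : PC.Opens) : Scheme.{u}) ≅ Proj (𝒮h.deg U hU))}
  (hPC : RelProj.IsRelProj 𝒮h pC chartC)
  {p : P ⟶ Y}
  {chart : ∀ (U : Y.Opens) (hU : IsAffineOpen U),
    (((p ⁻¹ᵁ U : P.Opens) : Scheme.{u}) ≅ Proj (𝒮.deg U hU))}
  (hP : RelProj.IsRelProj 𝒮 p chart)
  {i : 𝒮.toQCAlg.spec ⟶ PC} (hi : RelCone.IsConeImm 𝒮 hz pC chartC i)

/-- Points of the chart `wChart`, read on the chart of `Ĉ`. -/
theorem mem_range_wChart_iff (U : Y.Opens) (hU : IsAffineOpen U) {d : ℕ} (hd : 0 < d)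
    (f : 𝒮.presheaf.obj (op U)) (hf : f ∈ 𝒮.deg U hU d)
    (x : ((RelCone.pointedProjCone 𝒮 hz pC chartC : PC.Opens) : Scheme.{u})) :
    x ∈ Set.range (wChart hz (pC := pC) (chartC := chartC) U hU hd f hf).base ↔
      ∃ y : Proj (𝒮h.deg U hU), (RelProj.emb pC chartC U hU).base y =
        (RelCone.pointedProjCone 𝒮 hz pC chartC).ι.base x ∧
        (RelProj.gradedHomAt ι hz.graded U hU) f ∉ y.asHomogeneousIdeal := by
  have hr := Proj.opensRange_awayι (𝒮h.deg U hU) ((RelProj.gradedHomAt ι hz.graded U hU) f)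
    ((RelProj.gradedHomAt ι hz.graded U hU).2 hf) hd
  have hw : ∀ w, (RelCone.pointedProjCone 𝒮 hz pC chartC).ι.base
      ((wChart hz (pC := pC) (chartC := chartC) U hU hd f hf).base w) =
      (RelProj.emb pC chartC U hU).base ((Proj.awayι (𝒮h.deg U hU)
        ((RelProj.gradedHomAt ι hz.graded U hU) f)
        ((RelProj.gradedHomAt ι hz.graded U hU).2 hf) hd).base w) := by
    intro w
    have := congrArg (fun k => k.base w) (wChart_ι hz (pC := pC) (chartC := chartC) U hU hd f hf)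
    simpa only [Scheme.Hom.comp_base, TopCat.hom_comp, ContinuousMap.comp_apply] using this
  constructor
  · rintro ⟨w, rfl⟩
    refine ⟨_, (hw w).symm, ?_⟩
    have hz' : (Proj.awayι (𝒮h.deg U hU) ((RelProj.gradedHomAt ι hz.graded U hU) f)
        ((RelProj.gradedHomAt ι hz.graded U hU).2 hf) hd).base w ∈
        Proj.basicOpen (𝒮h.deg U hU) ((RelProj.gradedHomAt ι hz.graded U hU) f) :=
      hr.le ⟨w, rfl⟩
    exact (ProjectiveSpectrum.mem_basicOpen _ _ _).mp hz'
  · rintro ⟨y, hyx, hy⟩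
    have hy' : y ∈ (Proj.awayι (𝒮h.deg U hU) ((RelProj.gradedHomAt ι hz.graded U hU) f)
        ((RelProj.gradedHomAt ι hz.graded U hU).2 hf) hd).opensRange := by
      rw [hr]
      exact (ProjectiveSpectrum.mem_basicOpen _ _ _).mpr hy
    obtain ⟨w, rfl⟩ := hy'
    refine ⟨w, ?_⟩
    apply (RelCone.pointedProjCone 𝒮 hz pC chartC).ι.isOpenEmbedding.injective
    exact (hw w).trans hyx

include hPC hP in
/-- The preimage of a standard open of `Proj(𝒮)` under the canonical retraction is the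
corresponding standard chart of `Ê`. -/
theorem IsRetr.preimage_chart
    {r : ((RelCone.pointedProjCone 𝒮 hz pC chartC : PC.Opens) : Scheme.{u}) ⟶ P}
    (hr : IsRetr hz (chart := chart) r) (U : Y.Opens) (hU : IsAffineOpen U) {d : ℕ} (hd : 0 < d)
    (f : 𝒮.presheaf.obj (op U)) (hf : f ∈ 𝒮.deg U hU d) :
    r ⁻¹ᵁ (Proj.awayι (𝒮.deg U hU) f hf hd ≫ RelProj.emb p chart U hU).opensRange =
      (wChart hz (pC := pC) (chartC := chartC) U hU hd f hf).opensRange := by
  obtain ⟨Φ, hΦ, rfl⟩ := hr.eq_glue hPC hP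
  have hle : U ≤ (𝟙 Y) ⁻¹ᵁ U := le_rfl
  have heq : Φ ⁻¹ᵁ (Proj.awayι (𝒮.deg U hU) f hf hd ≫ RelProj.emb p chart U hU).opensRange =
      (stdChart (RelProj.QGrHom.ofHom ι hz.graded) pC chartC U hU U hU hle hd f hf).opensRange := by
    have hcomp := glue_comp_p (RelProj.QGrHom.ofHom ι hz.graded) hP hPC Φ hΦ
    have hsub : Φ ⁻¹ᵁ (Proj.awayι (𝒮.deg U hU) f hf hd ≫ RelProj.emb p chart U hU).opensRange ≤
        (RelProj.domQ (RelProj.QGrHom.ofHom ι hz.graded) pC chartC).ι ⁻¹ᵁ (pC ⁻¹ᵁ U) := by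
      rintro z' ⟨s, hs⟩
      have h1 : p.base (Φ.base z') ∈ U := by
        rw [← hs, Scheme.Hom.comp_apply]
        have : (RelProj.emb p chart U hU).base ((Proj.awayι (𝒮.deg U hU) f hf hd).base s) ∈
            Set.range (RelProj.emb p chart U hU).base := ⟨_, rfl⟩
        rw [range_emb] at this
        exact this
      have h2 : p.base (Φ.base z') =
          pC.base ((RelProj.domQ (RelProj.QGrHom.ofHom ι hz.graded) pC chartC).ι.base z') := by
        have := congrArg (fun k => k.base z') hcomp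
        simpa using this
      rw [h2] at h1
      exact h1
    have heq := ProjQGlue.preimage_chart (RelProj.QGrHom.ofHom ι hz.graded) hP hPC Φ hΦ U hU U hU
      hle hd f hf
    rw [inf_eq_left.mpr hsub] at heq
    exact heq
  ext x
  have hx1 : x ∈ ((PC.isoOfEq (pointedProjCone_eq_domQ hz hPC)).hom ≫ Φ) ⁻¹ᵁ
      (Proj.awayι (𝒮.deg U hU) f hf hd ≫ RelProj.emb p chart U hU).opensRange ↔
      (PC.isoOfEq (pointedProjCone_eq_domQ hz hPC)).hom.base x ∈
        Φ ⁻¹ᵁ (Proj.awayι (𝒮.deg U hU) f hf hd ≫ RelProj.emb p chart U hU).opensRange := Iff.rfl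
  have hιx : (RelProj.domQ (RelProj.QGrHom.ofHom ι hz.graded) pC chartC).ι.base
      ((PC.isoOfEq (pointedProjCone_eq_domQ hz hPC)).hom.base x) =
      (RelCone.pointedProjCone 𝒮 hz pC chartC).ι.base x := by
    have := congrArg (fun k => k.base x)
      (Scheme.isoOfEq_hom_ι PC (pointedProjCone_eq_domQ hz hPC))
    simpa only [Scheme.Hom.comp_base, TopCat.hom_comp, ContinuousMap.comp_apply] using this
  have hstd : (PC.isoOfEq (pointedProjCone_eq_domQ hz hPC)).hom.base x ∈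
      (stdChart (RelProj.QGrHom.ofHom ι hz.graded) pC chartC U hU U hU hle hd f hf).opensRange ↔
      (RelCone.pointedProjCone 𝒮 hz pC chartC).ι.base x ∈ Set.range
        (RelProj.awayEmb (RelProj.QGrHom.ofHom ι hz.graded) pC chartC U hU U hU hle hd f hf).base := by
    have hw : ∀ w, (RelProj.domQ (RelProj.QGrHom.ofHom ι hz.graded) pC chartC).ι.base
        ((stdChart (RelProj.QGrHom.ofHom ι hz.graded) pC chartC U hU U hU hle hd f hf).base w) =
        (RelProj.awayEmb (RelProj.QGrHom.ofHom ι hz.graded) pC chartC U hU U hU hle hd f hf).base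
          w := by
      intro w
      have := congrArg (fun k => k.base w)
        (stdChart_ι (RelProj.QGrHom.ofHom ι hz.graded) pC chartC U hU U hU hle hd f hf)
      simpa only [Scheme.Hom.comp_base, TopCat.hom_comp, ContinuousMap.comp_apply] using this
    constructor
    · rintro ⟨w, hw'⟩
      refine ⟨w, ?_⟩
      rw [← hw w, ← hιx]
      exact congrArg _ hw'
    · rintro ⟨w, hw'⟩
      refine ⟨w, ?_⟩
      apply (RelProj.domQ (RelProj.QGrHom.ofHom ι hz.graded) pC chartC).ι.isOpenEmbedding.injective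
      rw [hιx]
      exact (hw w).trans hw'
  refine hx1.trans ?_
  rw [heq, hstd, mem_range_awayEmb_iff, ofHom_gradedAt_self]
  exact (mem_range_wChart_iff U hU hd f hf x).symm

/-- When `𝒮` is generated in degree one, the standard opens of `Proj(𝒮)` attached to sections of
degree one cover. -/
theorem exists_deg_one_chart (hgen : 𝒮.IsGenDegOne) (x : P) :
    ∃ (U : Y.Opens) (hU : IsAffineOpen U) (f : 𝒮.presheaf.obj (op U))
      (hf : f ∈ 𝒮.deg U hU 1),
      x ∈ Set.range (Proj.awayι (𝒮.deg U hU) f hf one_pos ≫ RelProj.emb p chart U hU).base := by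
  obtain ⟨⟨U, hU⟩, y, hy⟩ := exists_mem_range_emb p chart x
  have hex : ∃ f ∈ 𝒮.deg U hU 1, f ∉ y.asHomogeneousIdeal := by
    by_contra hcon
    simp only [not_exists, not_and, not_not] at hcon
    apply y.not_irrelevant_le
    intro a ha
    have ha' : a ∈ (HomogeneousIdeal.irrelevant (𝒮.deg U hU)).toIdeal := ha
    have h1 := Groth.Agent.Lib.Lead.GenDegOne.irrelevant_le_span (hgen U hU)
      (𝒮.deg U hU 1 : Set (𝒮.presheaf.obj (op U))) (fun x hx => Ideal.subset_span hx) ha'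
    exact (Ideal.span_le.mpr (fun g hg => hcon g hg)) h1
  obtain ⟨f, hf, hfy⟩ := hex
  refine ⟨U, hU, f, hf, ?_⟩
  have hy' : y ∈ (Proj.awayι (𝒮.deg U hU) f hf one_pos).opensRange := by
    rw [Proj.opensRange_awayι]
    exact (ProjectiveSpectrum.mem_basicOpen _ _ _).mpr hfy
  obtain ⟨s, rfl⟩ := hy'
  exact ⟨s, by rw [Scheme.Hom.comp_apply]; exact hy⟩

/-- The chart `Spec 𝒮(U)_f ⟶ C = Spec(𝒮)`, `f` homogeneous of positive degree, lands in the
pointed cone. -/
theorem range_cChart_subset (U : Y.Opens) (hU : IsAffineOpen U) {d : ℕ} (hd : 0 < d)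
    (f : 𝒮.presheaf.obj (op U)) (hf : f ∈ 𝒮.deg U hU d) :
    Set.range (Spec.map (CommRingCat.ofHom (algebraMap (𝒮.presheaf.obj (op U))
      (Localization.Away f))) ≫ 𝒮.toQCAlg.ι U hU).base ⊆
      Set.range (RelCone.pointedCone 𝒮).ι.base := by
  rw [Scheme.Opens.range_ι]
  rintro _ ⟨s, rfl⟩
  have e0 : (Spec.map (CommRingCat.ofHom (algebraMap (𝒮.presheaf.obj (op U))
      (Localization.Away f))) ≫ 𝒮.toQCAlg.ι U hU).base s =
      (𝒮.toQCAlg.ι U hU).base ((Spec.map (CommRingCat.ofHom (algebraMap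
        (𝒮.presheaf.obj (op U)) (Localization.Away f)))).base s) :=
    Scheme.Hom.comp_apply _ _ _
  rw [e0]
  refine (PointedCone.mem_pointedCone_iff 𝒮 U hU _).mpr ?_
  rw [PointedCone.mem_vertexCompl_iff]
  intro hle
  have hfmem : f ∈ ((Spec.map (CommRingCat.ofHom (algebraMap (𝒮.presheaf.obj (op U))
      (Localization.Away f)))).base s).asIdeal :=
    hle (HomogeneousIdeal.mem_irrelevant_of_mem _ hd hf)
  have hfs : algebraMap (𝒮.presheaf.obj (op U)) (Localization.Away f) f ∈ s.asIdeal := hfmem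
  exact s.isPrime.ne_top (Ideal.eq_top_of_isUnit_mem _ hfs
    (IsLocalization.Away.algebraMap_isUnit f))

variable (𝒮) in
/-- The standard chart `Spec 𝒮(U)_f ⟶ E` of the pointed affine cone. -/
noncomputable def cChart (U : Y.Opens) (hU : IsAffineOpen U) {d : ℕ} (hd : 0 < d)
    (f : 𝒮.presheaf.obj (op U)) (hf : f ∈ 𝒮.deg U hU d) :
    Spec (CommRingCat.of (Localization.Away f)) ⟶
      ((RelCone.pointedCone 𝒮 : 𝒮.toQCAlg.spec.Opens) : Scheme.{u}) :=
  IsOpenImmersion.lift (RelCone.pointedCone 𝒮).ι _ (range_cChart_subset U hU hd f hf)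

theorem cChart_ι (U : Y.Opens) (hU : IsAffineOpen U) {d : ℕ} (hd : 0 < d)
    (f : 𝒮.presheaf.obj (op U)) (hf : f ∈ 𝒮.deg U hU d) :
    cChart 𝒮 U hU hd f hf ≫ (RelCone.pointedCone 𝒮).ι =
      Spec.map (CommRingCat.ofHom (algebraMap (𝒮.presheaf.obj (op U))
        (Localization.Away f))) ≫ 𝒮.toQCAlg.ι U hU :=
  IsOpenImmersion.lift_fac _ _ _

instance isOpenImmersion_cChart (U : Y.Opens) (hU : IsAffineOpen U) {d : ℕ} (hd : 0 < d)
    (f : 𝒮.presheaf.obj (op U)) (hf : f ∈ 𝒮.deg U hU d) :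
    IsOpenImmersion (cChart 𝒮 U hU hd f hf) := by
  have : IsOpenImmersion (cChart 𝒮 U hU hd f hf ≫ (RelCone.pointedCone 𝒮).ι) := by
    rw [cChart_ι]
    infer_instance
  exact isOpenImmersion_of_comp_mono _ (RelCone.pointedCone 𝒮).ι

variable (hz) in
/-- The homomorphism `𝒮h(U)_(ι f) → 𝒮(U)_f`, `b/ι(f)^n ↦ b(z=1)/f^n`. -/
noncomputable def betaU (U : Y.Opens) (hU : IsAffineOpen U) (f : 𝒮.presheaf.obj (op U)) :
    HomogeneousLocalization.Away (𝒮h.deg U hU) ((RelProj.gradedHomAt ι hz.graded U hU) f) →+*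
      Localization.Away f :=
  ConeChartAlg.beta (RelProj.gradedHomAt ι hz.graded U hU) (hz.evalOne U hU)
    (fun a => hz.evalOne_ι U hU a) f

theorem betaU_comp_map (U : Y.Opens) (hU : IsAffineOpen U) {d : ℕ}
    (f : 𝒮.presheaf.obj (op U)) (hf : f ∈ 𝒮.deg U hU d) :
    (betaU hz U hU f).comp (Away.map (RelProj.gradedHomAt ι hz.graded U hU) f) =
      algebraMap (Away (𝒮.deg U hU) f) (Localization.Away f) :=
  ConeChartAlg.beta_comp_map _ _ _ f hf

include hi in
/-- The immersion `E → Ê` on the standard charts. -/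
theorem cChart_comp_lift
    (i' : ((RelCone.pointedCone 𝒮 : 𝒮.toQCAlg.spec.Opens) : Scheme.{u}) ⟶
      ((RelCone.pointedProjCone 𝒮 hz pC chartC : PC.Opens) : Scheme.{u}))
    (hi' : i' ≫ (RelCone.pointedProjCone 𝒮 hz pC chartC).ι = (RelCone.pointedCone 𝒮).ι ≫ i)
    (U : Y.Opens) (hU : IsAffineOpen U) {d : ℕ} (hd : 0 < d)
    (f : 𝒮.presheaf.obj (op U)) (hf : f ∈ 𝒮.deg U hU d) :
    cChart 𝒮 U hU hd f hf ≫ i' =
      Spec.map (CommRingCat.ofHom (betaU hz U hU f)) ≫
        wChart hz (pC := pC) (chartC := chartC) U hU hd f hf := by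
  rw [← cancel_mono (RelCone.pointedProjCone 𝒮 hz pC chartC).ι, Category.assoc, hi',
    ← Category.assoc, cChart_ι, Category.assoc, hi U hU, Category.assoc, wChart_ι]
  have key : Spec.map (CommRingCat.ofHom (betaU hz U hU f)) ≫
      Proj.awayι (𝒮h.deg U hU) ((RelProj.gradedHomAt ι hz.graded U hU) f)
        ((RelProj.gradedHomAt ι hz.graded U hU).2 hf) hd =
      Spec.map (CommRingCat.ofHom ((algebraMap (𝒮.presheaf.obj (op U))
        (Localization.Away f)).comp (hz.awayZToBase U hU))) ≫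
      Proj.awayι (𝒮h.deg U hU) (RelCone.restrictTop 𝒮h z U) (hz.deg_z U hU) one_pos :=
    ConeChartAlg.specMap_beta_awayι (RelProj.gradedHomAt ι hz.graded U hU)
      (RelCone.restrictTop 𝒮h z U) (hz.deg_z U hU) (hz.evalOne U hU)
      (fun a => hz.evalOne_ι U hU a) (hz.evalOne_z U hU) f hd hf
  have key' := congrArg (fun k => k ≫ RelProj.emb pC chartC U hU) key
  simp only [Category.assoc] at key' ⊢
  refine Eq.trans ?_ key'.symm
  have e : Spec.map (CommRingCat.ofHom ((algebraMap (𝒮.presheaf.obj (op U))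
      (Localization.Away f)).comp (hz.awayZToBase U hU))) =
      Spec.map (CommRingCat.ofHom (algebraMap (𝒮.presheaf.obj (op U)) (Localization.Away f))) ≫
        Spec.map (CommRingCat.ofHom (hz.awayZToBase U hU)) := by
    rw [← Spec.map_comp]
    rfl
  rw [e, Category.assoc]

include hi in
/-- The composite `E → Ê → Proj(𝒮)` on the standard charts. -/
theorem cChart_comp
    {r : ((RelCone.pointedProjCone 𝒮 hz pC chartC : PC.Opens) : Scheme.{u}) ⟶ P}
    (hr : IsRetr hz (chart := chart) r)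
    (i' : ((RelCone.pointedCone 𝒮 : 𝒮.toQCAlg.spec.Opens) : Scheme.{u}) ⟶
      ((RelCone.pointedProjCone 𝒮 hz pC chartC : PC.Opens) : Scheme.{u}))
    (hi' : i' ≫ (RelCone.pointedProjCone 𝒮 hz pC chartC).ι = (RelCone.pointedCone 𝒮).ι ≫ i)
    (U : Y.Opens) (hU : IsAffineOpen U) {d : ℕ} (hd : 0 < d)
    (f : 𝒮.presheaf.obj (op U)) (hf : f ∈ 𝒮.deg U hU d) :
    cChart 𝒮 U hU hd f hf ≫ i' ≫ r =
      Spec.map (CommRingCat.ofHom (algebraMap (Away (𝒮.deg U hU) f) (Localization.Away f))) ≫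
        Proj.awayι (𝒮.deg U hU) f hf hd ≫ RelProj.emb p chart U hU := by
  rw [← Category.assoc, cChart_comp_lift hi i' hi' U hU hd f hf, Category.assoc,
    hr U hU d hd f hf _ (wChart_ι hz U hU hd f hf), ← Category.assoc, ← Spec.map_comp,
    ← CommRingCat.ofHom_comp, betaU_comp_map U hU f hf]

include hPC hi in
/-- The preimage in `E` of the standard chart `wChart` of `Ê` is the standard chart `cChart`. -/
theorem preimage_wChart_lift
    (i' : ((RelCone.pointedCone 𝒮 : 𝒮.toQCAlg.spec.Opens) : Scheme.{u}) ⟶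
      ((RelCone.pointedProjCone 𝒮 hz pC chartC : PC.Opens) : Scheme.{u}))
    (hi' : i' ≫ (RelCone.pointedProjCone 𝒮 hz pC chartC).ι = (RelCone.pointedCone 𝒮).ι ≫ i)
    (U : Y.Opens) (hU : IsAffineOpen U) {d : ℕ} (hd : 0 < d)
    (f : 𝒮.presheaf.obj (op U)) (hf : f ∈ 𝒮.deg U hU d) :
    i' ⁻¹ᵁ (wChart hz (pC := pC) (chartC := chartC) U hU hd f hf).opensRange =
      (cChart 𝒮 U hU hd f hf).opensRange := by
  apply le_antisymm
  · intro c hc
    have hc' : i'.base c ∈ Set.range (wChart hz (pC := pC) (chartC := chartC) U hU hd f hf).base :=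
      hc
    obtain ⟨y, hy, hfy⟩ := (mem_range_wChart_iff U hU hd f hf _).mp hc'
    have h1 : (RelCone.pointedProjCone 𝒮 hz pC chartC).ι.base (i'.base c) =
        i.base ((RelCone.pointedCone 𝒮).ι.base c) := by
      rw [← Scheme.Hom.comp_apply, hi', Scheme.Hom.comp_apply]
    have h2 : 𝒮.toQCAlg.π.base ((RelCone.pointedCone 𝒮).ι.base c) ∈ U := by
      have hip := PProjCone.map_comp_p 𝒮 𝒮h ι z hz pC chartC hPC i hi
      have h2' : pC.base (i.base ((RelCone.pointedCone 𝒮).ι.base c)) ∈ U := by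
        rw [← h1, ← hy]
        have : (RelProj.emb pC chartC U hU).base y ∈ Set.range (RelProj.emb pC chartC U hU).base :=
          ⟨y, rfl⟩
        rw [range_emb] at this
        exact this
      have e0 : 𝒮.toQCAlg.π.base ((RelCone.pointedCone 𝒮).ι.base c) =
          pC.base (i.base ((RelCone.pointedCone 𝒮).ι.base c)) := by
        rw [← hip, Scheme.Hom.comp_apply]
      rw [e0]
      exact h2'
    have h3 : (RelCone.pointedCone 𝒮).ι.base c ∈ Set.range (𝒮.toQCAlg.ι U hU).base := by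
      rw [range_ι]
      exact h2
    obtain ⟨t, ht⟩ := h3
    have h4 : (RelProj.emb pC chartC U hU).base
        ((gU 𝒮 𝒮h z hz.deg_z (PProjCone.θ 𝒮 𝒮h ι z hz) U hU).base t) =
        (RelProj.emb pC chartC U hU).base y := by
      rw [← map_ι_apply hi U hU t, ht, ← h1, hy]
    have h5 : (gU 𝒮 𝒮h z hz.deg_z (PProjCone.θ 𝒮 𝒮h ι z hz) U hU).base t = y :=
      (RelProj.emb pC chartC U hU).isOpenEmbedding.injective h4
    have h6 : f ∉ t.asIdeal := by
      intro hft
      apply hfy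
      rw [← h5]
      exact (PProjConeAlg.map_mem_g_iff (𝒮.deg U hU) (𝒮h.deg U hU)
        (RelProj.gradedHomAt ι hz.graded U hU) _ (hz.deg_z U hU) (PProjCone.θ 𝒮 𝒮h ι z hz U hU)
        (PProjCone.hθ 𝒮 𝒮h ι z hz U hU) t hd f hf).mpr hft
    have h7 : t ∈ Set.range (PrimeSpectrum.comap (algebraMap (𝒮.presheaf.obj (op U))
        (Localization.Away f))) := by
      rw [PrimeSpectrum.localization_away_comap_range (Localization.Away f) f]
      exact h6
    obtain ⟨s, hs⟩ := h7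
    refine ⟨s, ?_⟩
    apply (RelCone.pointedCone 𝒮).ι.isOpenEmbedding.injective
    have e1 : (RelCone.pointedCone 𝒮).ι.base ((cChart 𝒮 U hU hd f hf).base s) =
        (𝒮.toQCAlg.ι U hU).base ((Spec.map (CommRingCat.ofHom (algebraMap
          (𝒮.presheaf.obj (op U)) (Localization.Away f)))).base s) := by
      rw [← Scheme.Hom.comp_apply, cChart_ι, Scheme.Hom.comp_apply]
    rw [e1, ← ht]
    exact congrArg _ hs
  · rintro _ ⟨s, rfl⟩
    have e1 : i'.base ((cChart 𝒮 U hU hd f hf).base s) =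
        (wChart hz (pC := pC) (chartC := chartC) U hU hd f hf).base
          ((Spec.map (CommRingCat.ofHom (betaU hz U hU f))).base s) := by
      rw [← Scheme.Hom.comp_apply, ← Scheme.Hom.comp_apply,
        cChart_comp_lift hi i' hi' U hU hd f hf]
    exact ⟨_, e1.symm⟩

include hPC hP hi in
/-- The preimage of a standard open of `Proj(𝒮)` under `E → Ê → Proj(𝒮)` is the corresponding
standard chart of `E`. -/
theorem preimage_cChart
    {r : ((RelCone.pointedProjCone 𝒮 hz pC chartC : PC.Opens) : Scheme.{u}) ⟶ P}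
    (hr : IsRetr hz (chart := chart) r)
    (i' : ((RelCone.pointedCone 𝒮 : 𝒮.toQCAlg.spec.Opens) : Scheme.{u}) ⟶
      ((RelCone.pointedProjCone 𝒮 hz pC chartC : PC.Opens) : Scheme.{u}))
    (hi' : i' ≫ (RelCone.pointedProjCone 𝒮 hz pC chartC).ι = (RelCone.pointedCone 𝒮).ι ≫ i)
    (U : Y.Opens) (hU : IsAffineOpen U) {d : ℕ} (hd : 0 < d)
    (f : 𝒮.presheaf.obj (op U)) (hf : f ∈ 𝒮.deg U hU d) :
    (i' ≫ r) ⁻¹ᵁ (Proj.awayι (𝒮.deg U hU) f hf hd ≫ RelProj.emb p chart U hU).opensRange =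
      (cChart 𝒮 U hU hd f hf).opensRange := by
  rw [Scheme.Hom.comp_preimage, hr.preimage_chart hPC hP U hU hd f hf,
    preimage_wChart_lift hPC hi i' hi' U hU hd f hf]

end Geom

end Groth.Agent.Lib.helper28.PProjRetr
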