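import Mathlib
import Groth.Agent.Lib.Helper28.KoszulChart
import Groth.Agent.Lib.Helper28.BlowUpChart2
import Groth.Agent.Lib.Helper3.LciPerf
import Groth.Agent.Lib.Helper3.PerfHom4
import Groth.Prelude.Def_Mor2

/-!
# The blowing up of a Koszul-regular ideal sheaf is a perfect morphism (helper28)

`perfect_blowUp`: if the ideal sheaf `𝓘` is locally generated by Koszul-regular sequences, every
blowing up `b : X' ⟶ X` of `𝓘` is a perfect morphism (its charts `A[I/f_i]` are lci over `A`,
`KoszulChart.isLCI_chart`).  `exists_koszul_generators_of_regular`: the ideal of a regular closed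
immersion is such an ideal sheaf.
-/

set_option autoImplicit false
set_option linter.style.haveILetI false
set_option linter.unusedTactic false

universe u

open CategoryTheory CategoryTheory.Limits AlgebraicGeometry Opposite TopologicalSpace

namespace Groth.Agent.Lib.helper28.PerfBlowUp

open Groth.Agent.Lib.helper16.ReesBlowup Groth.Agent.Lib.helper28.ReesPres
  Groth.Agent.Lib.helper28.ReesAlg Groth.Agent.Lib.helper28.BlowUpChart
  Groth.Agent.Lib.helper3.PerfHomLoc

section alg

variable {A : Type u} [CommRing A] (I : Ideal A) {r : ℕ} (f : Fin r → A) (hmem : ∀ j, f j ∈ I)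

/-- the chart maps `A → A[I/f_i]` are perfect ring maps. -/
theorem pfh_toAway (hspan : I ≤ Ideal.span (Set.range f))
    (hf : LCI.IsKoszulRegularSeq A (List.ofFn f)) (i : Fin r) :
    PFH (toAway I (f i) (hmem i)) := by
  rw [← pfh_iff_toAlgebra]
  exact @Groth.Agent.Lib.helper3.LciPerf.isPerfectHom_of_isLCI A (ReesFlat.C I (f i) (hmem i)) _ _
    (toAway I (f i) (hmem i)).toAlgebra
    (Groth.Agent.Lib.helper28.KoszulChart.isLCI_chart I f hmem hspan hf i)

end alg

variable {X X' Z : Scheme.{u}}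

/-- **The blowing up of an ideal sheaf locally generated by Koszul-regular sequences is a perfect
morphism.** -/
theorem perfect_blowUp (𝓘 : X.IdealSheafData) (b : X' ⟶ X) (hb : BlowUp.IsBlowUp b 𝓘)
    (hloc : ∀ x : X, ∃ (U : X.Opens) (hU : IsAffineOpen U) (r : ℕ) (f : Fin r → Γ(X, U)),
      x ∈ U ∧ 𝓘.ideal ⟨U, hU⟩ = Ideal.span (Set.range f) ∧
        LCI.IsKoszulRegularSeq Γ(X, U) (List.ofFn f)) :
    MoreMor.IsPerfectMor b := by
  rw [isPerfectMor_iff_exists]
  intro x'
  obtain ⟨U, hU, r, f, hxU, hI, hK⟩ := hloc (b x')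
  have hmem : ∀ j, f j ∈ IU 𝓘 U hU := fun j => by
    change f j ∈ 𝓘.ideal ⟨U, hU⟩
    rw [hI]
    exact Ideal.subset_span ⟨j, rfl⟩
  have hspan : IU 𝓘 U hU ≤ Ideal.span (Set.range f) := hI.le
  obtain ⟨k, W', hW', hle, θ, hxW', hθ⟩ :=
    exists_chart_of_span 𝓘 b hb U hU f hmem hspan x' hxU
  refine ⟨⟨U, hU⟩, ⟨W', hW'⟩, hxW', hle, ?_⟩
  change PFH (b.appLE U W' hle).hom
  rw [← hθ]
  have h1 := pfh_toAway (IU 𝓘 U hU) f hmem hspan hK k
  exact pfh_isLocal.respectsIso.1 _ (RingEquiv.ofBijective θ.toRingHom θ.bijective) h1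

/-- The ideal sheaf of a regular closed immersion is locally generated by Koszul-regular
sequences. -/
theorem exists_koszul_generators_of_regular (i : Z ⟶ X) (hi : Mor2.IsRegularClosedImmersion i)
    (x : X) :
    ∃ (U : X.Opens) (hU : IsAffineOpen U) (r : ℕ) (f : Fin r → Γ(X, U)),
      x ∈ U ∧ i.ker.ideal ⟨U, hU⟩ = Ideal.span (Set.range f) ∧
        LCI.IsKoszulRegularSeq Γ(X, U) (List.ofFn f) := by
  haveI : IsClosedImmersion i := hi.1
  by_cases hx : x ∈ i.ker.support
  · have hx' : x ∈ Set.range i := by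
      rw [← SetLike.mem_coe, Scheme.Hom.support_ker i,
        i.isClosedEmbedding.isClosed_range.closure_eq] at hx
      exact hx
    obtain ⟨z, rfl⟩ := hx'
    obtain ⟨U, hU, hzU, rs, hrs, hker⟩ := hi.2 z
    refine ⟨U, hU, rs.length, rs.get, hzU, ?_, ?_⟩
    · rw [hker, Set.range_list_get]
    · rw [List.ofFn_get]
      exact Groth.Agent.LibRegImmBasic29.isKoszulRegularSeq_of_isWeaklyRegular rs
        hrs.toIsWeaklyRegular
  · rw [Scheme.IdealSheafData.mem_support_iff] at hx
    simp only [not_forall] at hx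
    obtain ⟨U₀, hU₀⟩ := hx
    rw [Scheme.mem_zeroLocus_iff] at hU₀
    simp only [not_forall, not_not] at hU₀
    obtain ⟨s, hs, hxs⟩ := hU₀
    have hD : IsAffineOpen (X.basicOpen s) := U₀.2.basicOpen s
    have htop : i.ker.ideal ⟨X.basicOpen s, hD⟩ = ⊤ := by
      have h1 := i.ker.map_ideal_basicOpen U₀ s
      have h2 : i.ker.ideal ⟨X.basicOpen s, hD⟩ = i.ker.ideal (X.affineBasicOpen s) := rfl
      rw [h2, ← h1]
      apply Ideal.eq_top_of_isUnit_mem _ (Ideal.mem_map_of_mem _ hs)
      exact X.toRingedSpace.isUnit_res_basicOpen s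
    refine ⟨X.basicOpen s, hD, 1, fun _ => 1, hxs, ?_, ?_⟩
    · rw [htop, eq_comm, Ideal.eq_top_iff_one]
      exact Ideal.subset_span ⟨0, rfl⟩
    · have : List.ofFn (fun _ : Fin 1 => (1 : Γ(X, X.basicOpen s))) = [1] := by simp
      rw [this]
      apply Groth.Agent.LibRegImmBasic29.isKoszulRegularSeq_of_isWeaklyRegular
      rw [RingTheory.Sequence.isWeaklyRegular_singleton_iff]
      exact IsSMulRegular.one _

end Groth.Agent.Lib.helper28.PerfBlowUp
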