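import Groth.Agent.Lib.Helper28.VAmpleSec4
import Groth.Agent.Lib.Helper28.ProjPnAbs
import Groth.Agent.Lib.Helper12.VAmple1
import Groth.Agent.Lib.Helper19.ProjSpaceProper
import Groth.Agent.S12474

/-!
# `O(1)` on projective space is very ample in the `P(E)` sense (helper28)

* `closure_cP`: `Γ(D₊(x_l), O)` is generated as a ring by the image of `Γ(Spec R, ⊤)` and the
  functions `x_k / x_l`.
* `isRelVeryAmple_projSpace`: `O(1)` on `P^n_R` is very ample relative to `P^n_R ⟶ Spec R`.
* `isRelVeryAmple_twistOver`: `O(1)` on `P^n_S` is very ample relative to `P^n_S ⟶ S`.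
* `isRelVeryAmple_of_isRelVeryAmplePn`: very ample relative to a projective space implies very ample
  relative to a projective bundle.
-/

set_option autoImplicit false
universe u
open CategoryTheory CategoryTheory.Limits AlgebraicGeometry TopologicalSpace Opposite
open HomogeneousLocalization

namespace Groth.Agent.Lib.helper28.PnVeryAmple

open Groth.Agent.Lib.helper12.ProjUP5 Groth.Agent.Lib.helper11.GenLocus

section Abs

variable (n : ℕ) (R : Type u) [CommRing R]

/-- `Γ(Spec R, ⊤) → R → (R[x])₀`. -/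
noncomputable def rho : Γ(Spec (CommRingCat.of R), ⊤) ⟶
    CommRingCat.of (CohB1.polyGrading n R 0) :=
  (Scheme.ΓSpecIso (CommRingCat.of R)).hom ≫
    CommRingCat.ofHom (algebraMap R (CohB1.polyGrading n R 0))

theorem rho_surjective : Function.Surjective (rho n R).hom := by
  intro y
  obtain ⟨r, hr⟩ := Groth.Agent.Lib.helper19.ProjSpaceProper.surj_zero n R y
  refine ⟨(Scheme.ΓSpecIso (CommRingCat.of R)).inv.hom r, ?_⟩
  change (algebraMap R (CohB1.polyGrading n R 0))
    ((Scheme.ΓSpecIso (CommRingCat.of R)).hom.hom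
      ((Scheme.ΓSpecIso (CommRingCat.of R)).inv.hom r)) = y
  rw [← CommRingCat.comp_apply, Iso.inv_hom_id]
  exact hr

theorem toSpec_eq :
    Proj.toSpecZero (CohB1.polyGrading n R) ≫ Spec.map (rho n R) ≫
      (isAffineOpen_top (Spec (CommRingCat.of R))).fromSpec = CohB1.ProjSpace.toSpec n R := by
  unfold CohB1.ProjSpace.toSpec rho
  congr 1
  rw [IsAffineOpen.fromSpec_top, Scheme.isoSpec_Spec_inv, ← Spec.map_comp,
    Iso.inv_hom_id_assoc]

theorem adjoin_X : Algebra.adjoin (CohB1.polyGrading n R 0)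
    (Set.range (MvPolynomial.X : Fin (n + 1) → MvPolynomial (Fin (n + 1)) R)) = ⊤ := by
  rw [eq_top_iff]
  rintro p -
  induction p using MvPolynomial.induction_on with
  | C a =>
    have : (MvPolynomial.C a : MvPolynomial (Fin (n + 1)) R) =
        algebraMap (CohB1.polyGrading n R 0) (MvPolynomial (Fin (n + 1)) R)
          (algebraMap R (CohB1.polyGrading n R 0) a) := rfl
    rw [this]
    exact Subalgebra.algebraMap_mem _ _
  | add p q hp hq => exact Subalgebra.add_mem _ hp hq
  | mul_X p i hp => exact Subalgebra.mul_mem _ hp (Algebra.subset_adjoin ⟨i, rfl⟩)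

theorem closure_cP (l : Fin (n + 1)) :
    Subring.closure
      (Set.range ((CohB1.ProjSpace.toSpec n R).appLE ⊤ (Dp R n l) le_top).hom ∪
        Set.range (cP R n l)) = ⊤ := by
  have key : ∀ (g : Proj (CohB1.polyGrading n R) ⟶ Spec (CommRingCat.of R))
      (_ : Proj.toSpecZero (CohB1.polyGrading n R) ≫ Spec.map (rho n R) ≫
        (isAffineOpen_top (Spec (CommRingCat.of R))).fromSpec = g),
      Subring.closure (Set.range (g.appLE ⊤ (Dp R n l) le_top).hom ∪ Set.range (cP R n l)) = ⊤ := by
    rintro g rfl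
    have hf : ∀ i : Fin (n + 1), (MvPolynomial.X i : MvPolynomial (Fin (n + 1)) R) ∈
        CohB1.polyGrading n R 1 := Groth.Agent.Lib.helper28.TwistPn.X_mem n R
    have hβ : Function.Surjective (Proj.awayToSection (CohB1.polyGrading n R)
        (MvPolynomial.X l : MvPolynomial (Fin (n + 1)) R)).hom :=
      (ConcreteCategory.bijective_of_isIso (Proj.basicOpenIsoAway (CohB1.polyGrading n R)
        (MvPolynomial.X l : MvPolynomial (Fin (n + 1)) R) (hf l) one_pos).hom).2
    have h11 : ∀ i : Fin (n + 1), (MvPolynomial.X i : MvPolynomial (Fin (n + 1)) R) ∈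
        CohB1.polyGrading n R (1 • 1) := fun i => Xl_mem R n l i
    set T := Subring.closure
      (Set.range ((Proj.toSpecZero (CohB1.polyGrading n R) ≫ Spec.map (rho n R) ≫
          (isAffineOpen_top (Spec (CommRingCat.of R))).fromSpec).appLE ⊤ (Dp R n l) le_top).hom ∪
        Set.range (cP R n l)) with hT
    have hβ1 : ∀ (r0 : CohB1.polyGrading n R 0)
        (h0 : (r0 : MvPolynomial (Fin (n + 1)) R) ∈ CohB1.polyGrading n R (0 • 1)),
        (Proj.awayToSection (CohB1.polyGrading n R)
          (MvPolynomial.X l : MvPolynomial (Fin (n + 1)) R)).hom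
          (Away.mk (CohB1.polyGrading n R) (hf l) 0 (r0 : MvPolynomial (Fin (n + 1)) R) h0) ∈
          T := by
      intro r0 h0
      obtain ⟨r, rfl⟩ := rho_surjective n R r0
      rw [Groth.Agent.Lib.helper28.ProjPnAbs.awayToSection_rho (CohB1.polyGrading n R) ⊤
        (isAffineOpen_top _) (rho n R) (hf l) r h0 le_top]
      exact Subring.subset_closure (Or.inl ⟨r, rfl⟩)
    have hβ2 : ∀ i, (Proj.awayToSection (CohB1.polyGrading n R)
        (MvPolynomial.X l : MvPolynomial (Fin (n + 1)) R)).hom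
        (Away.mk (CohB1.polyGrading n R) (hf l) 1 (MvPolynomial.X i) (h11 i)) ∈ T := by
      intro i
      rw [← cP_eq R n l i]
      exact Subring.subset_closure (Or.inr ⟨i, rfl⟩)
    rw [eq_top_iff]
    rintro b -
    obtain ⟨x, rfl⟩ := hβ b
    have hs := Away.span_mk_prod_pow_eq_top (𝒜 := CohB1.polyGrading n R) (hf l)
      (MvPolynomial.X : Fin (n + 1) → MvPolynomial (Fin (n + 1)) R) (adjoin_X n R)
      (fun _ => 1) hf
    have hx : x ∈ Submodule.span (CohB1.polyGrading n R 0)
        { (Away.mk (CohB1.polyGrading n R) (hf l) a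
          (∏ i, (MvPolynomial.X i : MvPolynomial (Fin (n + 1)) R) ^ ai i)
          (hai ▸ SetLike.prod_pow_mem_graded _ _ _ _ fun i _ ↦ hf i) :
            Away (CohB1.polyGrading n R) (MvPolynomial.X l : MvPolynomial (Fin (n + 1)) R)) |
          (a : ℕ) (ai : Fin (n + 1) → ℕ) (hai : ∑ i, ai i • 1 = a • 1) } := by
      rw [hs]
      trivial
    induction hx using Submodule.span_induction with
    | mem y hy =>
      obtain ⟨a, ai, hai, rfl⟩ := hy
      rw [Groth.Agent.Lib.helper28.ProjPnAbs.away_mk_prod_pow (CohB1.polyGrading n R) (hf l)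
        (MvPolynomial.X : Fin (n + 1) → MvPolynomial (Fin (n + 1)) R) hf a ai hai, map_prod]
      refine Subring.prod_mem _ fun i _ => ?_
      rw [map_pow]
      exact Subring.pow_mem _ (hβ2 i) _
    | zero =>
      rw [map_zero]
      exact Subring.zero_mem _
    | add y z _ _ hy hz =>
      rw [map_add]
      exact Subring.add_mem _ hy hz
    | smul r0 y _ hy =>
      have e : r0 • y = Away.mk (CohB1.polyGrading n R) (hf l) 0
          (r0 : MvPolynomial (Fin (n + 1)) R) ((zero_smul ℕ (1 : ℕ)).symm ▸ r0.2) * y := by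
        rw [Algebra.smul_def]
        congr 1
      rw [e, map_mul]
      exact Subring.mul_mem _ (hβ1 r0 _) hy
  exact key _ (toSpec_eq n R)

/-- `O(1)` on `P^n_R` is very ample (in the `P(E)` sense) relative to `P^n_R ⟶ Spec R`. -/
theorem isRelVeryAmple_projSpace :
    RelProj.IsRelVeryAmple (CohB1.ProjSpace.toSpec n R) (Twist.twistProjSpace n R 1) := by
  have hprop : IsProper (CohB1.ProjSpace.toSpec n R) := inferInstance
  refine Groth.Agent.Lib.helper28.VAmpleSec.isRelVeryAmple_of_global_sections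
    (CohB1.ProjSpace.toSpec n R) _ (Groth.Agent.Lib.helper28.TwistPn.isInvertible n R 1)
    fun x => ?_
  obtain ⟨l, hl⟩ := Groth.Agent.Lib.helper28.TwistPn.exists_X_notMem n R x
  refine ⟨tP R n l, Dp R n l, (genLocus_tP R n l).symm, Set.range (cP R n l), ?_, ?_,
    closure_cP n R l, ?_⟩
  · exact (ProjectiveSpectrum.mem_basicOpen _ _ _).mpr hl
  · exact Proj.isAffineOpen_basicOpen _ _ (Groth.Agent.Lib.helper28.TwistPn.X_mem n R l) one_pos
  · rintro _ ⟨k, rfl⟩
    exact ⟨tP R n k, cP_smul R n l k⟩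

end Abs

section Rel

/-- `O(1)` on `P^n_S` is very ample (in the `P(E)` sense) relative to `P^n_S ⟶ S`. -/
theorem isRelVeryAmple_twistOver (n : ℕ) (S : Scheme.{u}) :
    RelProj.IsRelVeryAmple (CohB1.ProjSpaceOver.toBase n S) (Twist.twistOver n S 1) :=
  Groth.Agent.S12474.result (CohB1.ProjSpace.toSpec n (ULift.{u} ℤ))
    (specULiftZIsTerminal.from S) (pullback.fst _ _) (pullback.snd _ _)
    (IsPullback.of_hasPullback _ _) _
    (Groth.Agent.Lib.helper28.TwistPn.isInvertible n (ULift.{u} ℤ) 1)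
    (isRelVeryAmple_projSpace n (ULift.{u} ℤ))

/-- Very ample relative to a projective space implies very ample relative to a projective
bundle. -/
theorem isRelVeryAmple_of_isRelVeryAmplePn {X S : Scheme.{u}} (f : X ⟶ S) (L : X.Modules)
    (h : RelAmple.IsRelVeryAmplePn f L) : RelProj.IsRelVeryAmple f L := by
  obtain ⟨n, i, himm, hif, ⟨e⟩⟩ := h
  obtain ⟨E, hE, 𝒮, j, hj, P, p, chart, hP, O1, lam, hO1, i₀, hi₀, hi₀p, ⟨e₀⟩⟩ :=
    isRelVeryAmple_twistOver n S
  refine ⟨E, hE, 𝒮, j, hj, P, p, chart, hP, O1, lam, hO1, i ≫ i₀, inferInstance, ?_, ⟨?_⟩⟩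
  · rw [Category.assoc, hi₀p]
    exact hif
  · exact e ≪≫ (Scheme.Modules.pullback i).mapIso e₀ ≪≫
      (Scheme.Modules.pullbackComp i i₀).app O1

end Rel

end Groth.Agent.Lib.helper28.PnVeryAmple
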