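import Groth.Agent.Lib.Helper28.PointedCone

set_option autoImplicit false

universe u

/-! Pointed affine cones and morphisms `Spec(φ)` of affine cones (helper28). -/

namespace Groth.Agent.Lib.helper28.PointedConeMap

open CategoryTheory CategoryTheory.Limits AlgebraicGeometry TopologicalSpace Opposite
open Groth.Agent.Lib.helper28.RelSpecMap Groth.Agent.Lib.helper28.PointedCone
open scoped HomogeneousIdeal

variable {Y Y' : Scheme.{u}} (q : Y' ⟶ Y) (𝒮 : RelProj.QCGrAlg Y) (𝒮' : RelProj.QCGrAlg Y')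
  (u : 𝒮.presheaf ⟶ q.base _* 𝒮'.presheaf)
  (hu : 𝒮.str ≫ u = q.c ≫ (TopCat.Presheaf.pushforward CommRingCat.{u} q.base).map 𝒮'.str)
  (φ : ∀ (U : Y.Opens) (hU : IsAffineOpen U) (U' : Y'.Opens) (hU' : IsAffineOpen U')
    (_ : U' ≤ q ⁻¹ᵁ U), 𝒮.deg U hU →+*ᵍ 𝒮'.deg U' hU')
  (hφ : ∀ (U : Y.Opens) (hU : IsAffineOpen U) (U' : Y'.Opens) (hU' : IsAffineOpen U')
    (hle : U' ≤ q ⁻¹ᵁ U),
      (φ U hU U' hU' hle).toRingHom =
        ((u.app (op U) : 𝒮.presheaf.obj (op U) ⟶ 𝒮'.presheaf.obj (op (q ⁻¹ᵁ U))) ≫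
          𝒮'.presheaf.map (homOfLE hle).op).hom)
  (Φ : 𝒮'.toQCAlg.spec ⟶ 𝒮.toQCAlg.spec)
  (hΦ : ∀ (U : Y.Opens) (hU : IsAffineOpen U) (U' : Y'.Opens) (hU' : IsAffineOpen U')
    (hle : U' ≤ q ⁻¹ᵁ U),
      𝒮'.toQCAlg.ι U' hU' ≫ Φ =
        Spec.map ((u.app (op U) : 𝒮.presheaf.obj (op U) ⟶ 𝒮'.presheaf.obj (op (q ⁻¹ᵁ U))) ≫
          𝒮'.presheaf.map (homOfLE hle).op) ≫ 𝒮.toQCAlg.ι U hU)

/-- Every point of `Spec(𝒮')` lies in a chart over an affine pair. -/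
theorem exists_chart (x' : 𝒮'.toQCAlg.spec) :
    ∃ (U : Y.Opens) (hU : IsAffineOpen U) (U' : Y'.Opens) (hU' : IsAffineOpen U')
      (_ : U' ≤ q ⁻¹ᵁ U) (p' : Spec (𝒮'.presheaf.obj (op U'))),
      (𝒮'.toQCAlg.ι U' hU').base p' = x' := by
  obtain ⟨U, hU, hyU⟩ : ∃ U : Y.Opens, IsAffineOpen U ∧ q.base (𝒮'.toQCAlg.π.base x') ∈ U := by
    obtain ⟨_, ⟨U, hU, rfl⟩, hxU, -⟩ := Y.isBasis_affineOpens.exists_subset_of_mem_open
      (Set.mem_univ (q.base (𝒮'.toQCAlg.π.base x'))) isOpen_univ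
    exact ⟨U, hU, hxU⟩
  obtain ⟨_, ⟨U', hU', rfl⟩, hxU', hle⟩ := Y'.isBasis_affineOpens.exists_subset_of_mem_open
    (show 𝒮'.toQCAlg.π.base x' ∈ ((q ⁻¹ᵁ U : Y'.Opens) : Set Y') from hyU) (q ⁻¹ᵁ U).isOpen
  have hx : x' ∈ Set.range (𝒮'.toQCAlg.ι U' hU').base := by
    rw [range_ι]
    exact hxU'
  obtain ⟨p', hp'⟩ := hx
  exact ⟨U, hU, U', hU', hle, p', hp'⟩

include hΦ in
theorem Φ_chart (U : Y.Opens) (hU : IsAffineOpen U) (U' : Y'.Opens) (hU' : IsAffineOpen U')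
    (hle : U' ≤ q ⁻¹ᵁ U) (p' : Spec (𝒮'.presheaf.obj (op U'))) :
    Φ.base ((𝒮'.toQCAlg.ι U' hU').base p') =
      (𝒮.toQCAlg.ι U hU).base ((Spec.map ((u.app (op U) : 𝒮.presheaf.obj (op U) ⟶
        𝒮'.presheaf.obj (op (q ⁻¹ᵁ U))) ≫ 𝒮'.presheaf.map (homOfLE hle).op)).base p') := by
  rw [← Scheme.Hom.comp_apply, hΦ U hU U' hU' hle, Scheme.Hom.comp_apply]

include hφ in
theorem φ_apply (U : Y.Opens) (hU : IsAffineOpen U) (U' : Y'.Opens) (hU' : IsAffineOpen U')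
    (hle : U' ≤ q ⁻¹ᵁ U) (f : 𝒮.presheaf.obj (op U)) :
    φ U hU U' hU' hle f = ((u.app (op U) : 𝒮.presheaf.obj (op U) ⟶
        𝒮'.presheaf.obj (op (q ⁻¹ᵁ U))) ≫ 𝒮'.presheaf.map (homOfLE hle).op).hom f :=
  RingHom.congr_fun (hφ U hU U' hU' hle) f

include hφ hΦ in
/-- The image under `Φ` of a chart point lies in the pointed cone iff the irrelevant ideal of
`𝒮(U)` does not map into the prime. -/
theorem Φ_mem_pointedCone_iff (U : Y.Opens) (hU : IsAffineOpen U) (U' : Y'.Opens)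
    (hU' : IsAffineOpen U') (hle : U' ≤ q ⁻¹ᵁ U) (p' : Spec (𝒮'.presheaf.obj (op U'))) :
    Φ.base ((𝒮'.toQCAlg.ι U' hU').base p') ∈ RelCone.pointedCone 𝒮 ↔
      ∃ f ∈ ((𝒮.deg U hU)₊).toIdeal, φ U hU U' hU' hle f ∉ p'.asIdeal := by
  rw [Φ_chart q 𝒮 𝒮' u Φ hΦ U hU U' hU' hle p', mem_pointedCone_iff, mem_vertexCompl_iff,
    SetLike.not_le_iff_exists]
  refine exists_congr fun f => and_congr_right fun _ => ?_
  rw [φ_apply q 𝒮 𝒮' u φ hφ U hU U' hU' hle f]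
  rfl

include hφ hΦ in
theorem preimage_pointedCone_le :
    Φ ⁻¹ᵁ RelCone.pointedCone 𝒮 ≤ RelCone.pointedCone 𝒮' := by
  intro x' hx'
  obtain ⟨U, hU, U', hU', hle, p', rfl⟩ := exists_chart q 𝒮' x'
  have h1 : Φ.base ((𝒮'.toQCAlg.ι U' hU').base p') ∈ RelCone.pointedCone 𝒮 := hx'
  rw [Φ_mem_pointedCone_iff q 𝒮 𝒮' u φ hφ Φ hΦ U hU U' hU' hle p'] at h1
  obtain ⟨f, hf, hfp⟩ := h1
  change (𝒮'.toQCAlg.ι U' hU').base p' ∈ RelCone.pointedCone 𝒮'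
  rw [mem_pointedCone_iff, mem_vertexCompl_iff]
  intro hle'
  exact hfp (hle' (map_mem_irrelevant (φ U hU U' hU' hle) hf))

include hφ hΦ in
theorem domOpen_eq_top_iff :
    (∀ (U : Y.Opens) (hU : IsAffineOpen U) (U' : Y'.Opens) (hU' : IsAffineOpen U')
      (hle : U' ≤ q ⁻¹ᵁ U), RelCone.domOpen (φ U hU U' hU' hle) = ⊤) ↔
      Φ ⁻¹ᵁ RelCone.pointedCone 𝒮 = RelCone.pointedCone 𝒮' := by
  classical
  constructor
  · intro h
    refine le_antisymm (preimage_pointedCone_le q 𝒮 𝒮' u φ hφ Φ hΦ) ?_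
    intro x' hx'
    obtain ⟨U, hU, U', hU', hle, p', rfl⟩ := exists_chart q 𝒮' x'
    change Φ.base ((𝒮'.toQCAlg.ι U' hU').base p') ∈ RelCone.pointedCone 𝒮
    rw [Φ_mem_pointedCone_iff q 𝒮 𝒮' u φ hφ Φ hΦ U hU U' hU' hle p']
    rw [mem_pointedCone_iff, mem_vertexCompl_iff] at hx'
    by_contra hcon
    simp only [not_exists, not_and, not_not] at hcon
    -- the homogeneous core of `p'` is a point of `Proj 𝒮'(U')`
    have hprime : ((p'.asIdeal).homogeneousCore (𝒮'.deg U' hU')).toIdeal.IsPrime :=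
      Ideal.IsPrime.homogeneousCore (𝒜 := 𝒮'.deg U' hU') p'.isPrime
    have hnot : ¬ ((𝒮'.deg U' hU')₊ ≤ (p'.asIdeal).homogeneousCore (𝒮'.deg U' hU')) := by
      intro hle2
      apply hx'
      exact fun a ha => Ideal.toIdeal_homogeneousCore_le (𝒮'.deg U' hU') p'.asIdeal (hle2 ha)
    let y : ProjectiveSpectrum (𝒮'.deg U' hU') :=
      ⟨(p'.asIdeal).homogeneousCore (𝒮'.deg U' hU'), hprime, hnot⟩
    have hy : (y : Proj (𝒮'.deg U' hU')) ∈ RelCone.domOpen (φ U hU U' hU' hle) := by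
      rw [h U hU U' hU' hle]
      trivial
    obtain ⟨f, hf, hfy⟩ := (RelCone.mem_domOpen (φ U hU U' hU' hle) y).mp hy
    apply hfy
    change φ U hU U' hU' hle f ∈ ((p'.asIdeal).homogeneousCore (𝒮'.deg U' hU')).toIdeal
    -- decompose `f` into its homogeneous components of positive degree
    rw [← DirectSum.sum_support_decompose (𝒮.deg U hU) f, map_sum]
    refine Ideal.sum_mem _ fun d _ => ?_
    by_cases hd : d = 0
    · subst hd
      have h0 : ((DirectSum.decompose (𝒮.deg U hU) f 0 : 𝒮.deg U hU 0) :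
          𝒮.presheaf.obj (op U)) = 0 := by
        have := (HomogeneousIdeal.mem_irrelevant_iff (𝒮.deg U hU) f).mp hf
        rwa [GradedRing.proj_apply] at this
      rw [h0, map_zero]
      exact Ideal.zero_mem _
    · have hdpos : 0 < d := Nat.pos_of_ne_zero hd
      have hmem : ((DirectSum.decompose (𝒮.deg U hU) f d : 𝒮.deg U hU d) :
          𝒮.presheaf.obj (op U)) ∈ ((𝒮.deg U hU)₊).toIdeal :=
        HomogeneousIdeal.mem_irrelevant_of_mem _ hdpos (SetLike.coe_mem _)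
      refine Ideal.mem_homogeneousCore_of_homogeneous_of_mem
        ⟨d, (φ U hU U' hU' hle).map_mem (SetLike.coe_mem _)⟩ (hcon _ hmem)
  · intro h U hU U' hU' hle
    rw [eq_top_iff]
    intro y _
    rw [RelCone.mem_domOpen]
    let p' : Spec (𝒮'.presheaf.obj (op U')) :=
      (⟨y.asHomogeneousIdeal.toIdeal, y.isPrime⟩ : PrimeSpectrum (𝒮'.presheaf.obj (op U')))
    have hp' : (𝒮'.toQCAlg.ι U' hU').base p' ∈ RelCone.pointedCone 𝒮' := by
      rw [mem_pointedCone_iff, mem_vertexCompl_iff]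
      exact y.not_irrelevant_le
    rw [← h] at hp'
    have hp'' : Φ.base ((𝒮'.toQCAlg.ι U' hU').base p') ∈ RelCone.pointedCone 𝒮 := hp'
    rw [Φ_mem_pointedCone_iff q 𝒮 𝒮' u φ hφ Φ hΦ U hU U' hU' hle p'] at hp''
    exact hp''

end Groth.Agent.Lib.helper28.PointedConeMap
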