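import Mathlib

set_option autoImplicit false
universe u

/-! For a graded ring `B = A[z]` over a graded ring `A` (`z` of degree one) and `f ∈ A` of degree
one: `B_(f) = A_(f)[z/f]` (helper28). -/

namespace Groth.Agent.Lib.helper28.PolyAway

open HomogeneousLocalization Polynomial
open scoped HomogeneousIdeal

variable {A B σ τ : Type u} [CommRing A] [SetLike σ A] [AddSubgroupClass σ A]
  [CommRing B] [SetLike τ B] [AddSubgroupClass τ B]
  {𝒜 : ℕ → σ} {ℬ : ℕ → τ} [GradedRing 𝒜] [GradedRing ℬ]
  (ψ : 𝒜 →+*ᵍ ℬ) (z : B)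

omit [GradedRing 𝒜] in
theorem z_pow_mem (hz : z ∈ ℬ 1) (j : ℕ) : z ^ j ∈ ℬ j := by
  have := SetLike.pow_mem_graded j hz
  simpa using this

theorem map_proj (k : ℕ) (a : A) :
    ψ (GradedRing.proj 𝒜 k a) = GradedRing.proj ℬ k (ψ a) :=
  ψ.map_directSumDecompose

theorem proj_eval₂ (hz : z ∈ ℬ 1) (n : ℕ) (P : Polynomial A) :
    GradedRing.proj ℬ n (Polynomial.eval₂ ψ.toRingHom z P) =
      ∑ j ∈ Finset.range (n + 1), ψ (GradedRing.proj 𝒜 (n - j) (P.coeff j)) * z ^ j := by
  classical
  induction P using Polynomial.induction_on' with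
  | add p q hp hq =>
    rw [Polynomial.eval₂_add, map_add, hp, hq, ← Finset.sum_add_distrib]
    refine Finset.sum_congr rfl fun j _ => ?_
    rw [Polynomial.coeff_add, map_add, map_add, add_mul]
  | monomial j a =>
    rw [Polynomial.eval₂_monomial, GradedRing.proj_apply]
    by_cases hjn : j ≤ n
    · rw [DirectSum.coe_decompose_mul_of_right_mem_of_le ℬ (z_pow_mem z hz j) hjn]
      rw [Finset.sum_eq_single j]
      · rw [Polynomial.coeff_monomial, if_pos rfl, map_proj ψ, GradedRing.proj_apply]
        rfl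
      · intro j' _ hj'
        rw [Polynomial.coeff_monomial, if_neg (Ne.symm hj'), map_zero, map_zero, zero_mul]
      · intro hj
        exact absurd (Finset.mem_range.mpr (Nat.lt_succ_of_le hjn)) hj
    · rw [DirectSum.coe_decompose_mul_of_right_mem_of_not_le ℬ (z_pow_mem z hz j) hjn]
      symm
      refine Finset.sum_eq_zero fun j' hj' => ?_
      have hne : j ≠ j' := by
        have := Finset.mem_range.mp hj'
        omega
      rw [Polynomial.coeff_monomial, if_neg hne, map_zero, map_zero, zero_mul]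

/-- A homogeneous element of degree `n` is a sum of terms `ψ(c_j) z^j` with `c_j` of degree
`n - j`. -/
theorem eq_sum_of_mem (hz : z ∈ ℬ 1) (n : ℕ)
    (P : Polynomial A) (hy : Polynomial.eval₂ ψ.toRingHom z P ∈ ℬ n) :
    Polynomial.eval₂ ψ.toRingHom z P =
      ∑ j ∈ Finset.range (n + 1), ψ (GradedRing.proj 𝒜 (n - j) (P.coeff j)) * z ^ j := by
  classical
  rw [← proj_eval₂ ψ z hz n P, GradedRing.proj_apply]
  exact (DirectSum.decompose_of_mem_same _ hy).symm

theorem proj_mem (k : ℕ) (a : A) : GradedRing.proj 𝒜 k a ∈ 𝒜 k := by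
  classical
  rw [GradedRing.proj_apply]
  exact SetLike.coe_mem _

variable (f : A) (hf : f ∈ 𝒜 1) (hz : z ∈ ℬ 1)

/-- The element `z/f` of `B_(f)`. -/
noncomputable def zOverF : Away ℬ (ψ f) :=
  Away.mk ℬ (ψ.map_mem hf) 1 z (by simpa using hz)

/-- The homomorphism `A_(f)[T] → B_(f)`, `T ↦ z/f`. -/
noncomputable def polyToAway : Polynomial (Away 𝒜 f) →+* Away ℬ (ψ f) :=
  Polynomial.eval₂RingHom (Away.map ψ f) (zOverF ψ z f hf hz)

theorem polyToAway_C (c : Away 𝒜 f) :
    polyToAway ψ z f hf hz (Polynomial.C c) = Away.map ψ f c := by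
  simp [polyToAway]

theorem polyToAway_X : polyToAway ψ z f hf hz Polynomial.X = zOverF ψ z f hf hz := by
  simp [polyToAway]

theorem mem_nsmul_one {k : ℕ} {a : A} (ha : a ∈ 𝒜 k) : a ∈ 𝒜 (k • 1) := by
  simpa using ha

theorem polyToAway_surjective
    (hsurj : Function.Surjective (Polynomial.eval₂RingHom ψ.toRingHom z)) :
    Function.Surjective (polyToAway ψ z f hf hz) := by
  classical
  intro q
  obtain ⟨n, y, hy, rfl⟩ := Away.mk_surjective ℬ (ψ.map_mem hf) q
  obtain ⟨P, rfl⟩ := hsurj y
  have hy' : Polynomial.eval₂ ψ.toRingHom z P ∈ ℬ n := by simpa using hy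
  refine ⟨∑ j ∈ Finset.range (n + 1), Polynomial.C (Away.mk 𝒜 hf (n - j)
    (GradedRing.proj 𝒜 (n - j) (P.coeff j)) (mem_nsmul_one (proj_mem (n - j) (P.coeff j)))) *
    Polynomial.X ^ j, ?_⟩
  rw [map_sum]
  apply HomogeneousLocalization.val_injective
  rw [← HomogeneousLocalization.algebraMap_apply, map_sum]
  simp only [HomogeneousLocalization.algebraMap_apply, map_mul, map_pow, polyToAway_C, polyToAway_X,
    Away.map_mk, zOverF, Away.val_mk]
  have h1 := eq_sum_of_mem ψ z hz n P hy'
  have h2 : (Localization.mk (Polynomial.eval₂ ψ.toRingHom z P)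
      (⟨ψ f ^ n, pow_mem (Submonoid.mem_powers (ψ f)) n⟩ : Submonoid.powers (ψ f)) :
      Localization.Away (ψ f)) =
      Localization.mk (∑ j ∈ Finset.range (n + 1),
        ψ (GradedRing.proj 𝒜 (n - j) (P.coeff j)) * z ^ j)
        ⟨ψ f ^ n, pow_mem (Submonoid.mem_powers (ψ f)) n⟩ :=
    congrArg (fun y => Localization.mk y _) h1
  refine Eq.trans ?_ h2.symm
  rw [Localization.mk_sum]
  refine Finset.sum_congr rfl fun j hj => ?_
  have hjn : j ≤ n := Nat.lt_succ_iff.mp (Finset.mem_range.mp hj)
  rw [Localization.mk_pow, Localization.mk_mul, Localization.mk_eq_mk_iff,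
    Localization.r_iff_exists]
  refine ⟨1, ?_⟩
  simp only [OneMemClass.coe_one, one_mul, Submonoid.coe_mul, SubmonoidClass.coe_pow, pow_one]
  rw [← pow_sub_mul_pow (ψ f) hjn]


section Inj

variable (hpoly : Function.Bijective (Polynomial.eval₂RingHom ψ.toRingHom z))

/-- `B → A_f[X]`: the inverse of `A[X] ≅ B` followed by the localization of the coefficients. -/
noncomputable def beta : B →+* Polynomial (Localization.Away f) :=
  (Polynomial.mapRingHom (algebraMap A (Localization.Away f))).comp
    (RingEquiv.ofBijective _ hpoly).symm.toRingHom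

theorem beta_map (a : A) :
    beta ψ z f hpoly (ψ a) = Polynomial.C (algebraMap A (Localization.Away f) a) := by
  have h1 : (RingEquiv.ofBijective _ hpoly).symm (ψ a) = Polynomial.C a := by
    rw [RingEquiv.symm_apply_eq]
    change ψ a = Polynomial.eval₂ ψ.toRingHom z (Polynomial.C a)
    rw [Polynomial.eval₂_C]
    rfl
  change Polynomial.map (algebraMap A (Localization.Away f))
    ((RingEquiv.ofBijective _ hpoly).symm (ψ a)) = _
  rw [h1, Polynomial.map_C]

theorem beta_z : beta ψ z f hpoly z = Polynomial.X := by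
  have h1 : (RingEquiv.ofBijective _ hpoly).symm z = Polynomial.X := by
    rw [RingEquiv.symm_apply_eq]
    change z = Polynomial.eval₂ ψ.toRingHom z Polynomial.X
    rw [Polynomial.eval₂_X]
  change Polynomial.map (algebraMap A (Localization.Away f))
    ((RingEquiv.ofBijective _ hpoly).symm z) = _
  rw [h1, Polynomial.map_X]

theorem isUnit_C_f :
    IsUnit (Polynomial.C (algebraMap A (Localization.Away f) f) :
      Polynomial (Localization.Away f)) :=
  (IsLocalization.Away.algebraMap_isUnit f).map Polynomial.C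

theorem isUnit_beta : IsUnit (beta ψ z f hpoly (ψ f)) := by
  rw [beta_map]
  exact isUnit_C_f f

/-- `B_f → A_f[X]`. -/
noncomputable def betaLoc : Localization.Away (ψ f) →+* Polynomial (Localization.Away f) :=
  IsLocalization.Away.lift (ψ f) (isUnit_beta ψ z f hpoly)

theorem betaLoc_mk (y : B) (n : ℕ) :
    betaLoc ψ z f hpoly (Localization.mk y ⟨ψ f ^ n, pow_mem (Submonoid.mem_powers (ψ f)) n⟩) *
      Polynomial.C (algebraMap A (Localization.Away f) f) ^ n = beta ψ z f hpoly y := by
  have h1 : betaLoc ψ z f hpoly (algebraMap B (Localization.Away (ψ f)) (ψ f ^ n)) =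
      Polynomial.C (algebraMap A (Localization.Away f) f) ^ n := by
    rw [betaLoc, IsLocalization.Away.lift_eq, map_pow, beta_map]
  have h2 : (Localization.mk y ⟨ψ f ^ n, pow_mem (Submonoid.mem_powers (ψ f)) n⟩ :
      Localization.Away (ψ f)) * algebraMap B (Localization.Away (ψ f)) (ψ f ^ n) =
      algebraMap B (Localization.Away (ψ f)) y := by
    rw [Localization.mk_eq_mk']
    exact IsLocalization.mk'_spec _ y ⟨ψ f ^ n, pow_mem (Submonoid.mem_powers (ψ f)) n⟩
  rw [← h1, ← map_mul, h2, betaLoc, IsLocalization.Away.lift_eq]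

/-- The substitution `X ↦ f X` of `A_f[X]`. -/
noncomputable def gam : Polynomial (Localization.Away f) →+* Polynomial (Localization.Away f) :=
  Polynomial.eval₂RingHom Polynomial.C
    (Polynomial.C (algebraMap A (Localization.Away f) f) * Polynomial.X)

/-- `B_(f) → A_f[X]`, the composite of `B_(f) ⊆ B_f → A_f[X]` and `X ↦ f X`. -/
noncomputable def theta : Away ℬ (ψ f) →+* Polynomial (Localization.Away f) :=
  (gam f).comp ((betaLoc ψ z f hpoly).comp
    (algebraMap (Away ℬ (ψ f)) (Localization.Away (ψ f))))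

theorem theta_comp_polyToAway :
    (theta ψ z f hpoly).comp (polyToAway ψ z f hf hz) =
      Polynomial.mapRingHom (algebraMap (Away 𝒜 f) (Localization.Away f)) := by
  apply Polynomial.ringHom_ext
  · intro c
    obtain ⟨n, a, ha, rfl⟩ := Away.mk_surjective 𝒜 hf c
    rw [RingHom.comp_apply, polyToAway_C, Away.map_mk]
    change gam f (betaLoc ψ z f hpoly ((Away.mk ℬ (ψ.map_mem hf) n (ψ a) (ψ.map_mem ha)).val)) =
      Polynomial.map _ (Polynomial.C (Away.mk 𝒜 hf n a ha))
    rw [Away.val_mk, Polynomial.map_C]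
    have h1 := betaLoc_mk ψ z f hpoly (ψ a) n
    rw [beta_map] at h1
    have h2 : (Polynomial.C ((algebraMap (Away 𝒜 f) (Localization.Away f))
        (Away.mk 𝒜 hf n a ha)) : Polynomial (Localization.Away f)) *
        Polynomial.C (algebraMap A (Localization.Away f) f) ^ n =
        Polynomial.C (algebraMap A (Localization.Away f) a) := by
      rw [← Polynomial.C_pow, ← Polynomial.C_mul]
      congr 1
      change (Away.mk 𝒜 hf n a ha).val * _ = _
      rw [Away.val_mk, ← map_pow, Localization.mk_eq_mk']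
      exact IsLocalization.mk'_spec _ a ⟨f ^ n, pow_mem (Submonoid.mem_powers f) n⟩
    have h3 := ((isUnit_C_f f).pow n).mul_left_injective (h1.trans h2.symm)
    refine (congrArg (gam f) h3).trans ?_
    simp [gam]
  · rw [RingHom.comp_apply, polyToAway_X]
    change gam f (betaLoc ψ z f hpoly ((zOverF ψ z f hf hz).val)) = Polynomial.map _ Polynomial.X
    rw [zOverF, Away.val_mk, Polynomial.map_X]
    have h1 := betaLoc_mk ψ z f hpoly z 1
    rw [beta_z, show (Polynomial.C (algebraMap A (Localization.Away f) f) :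
      Polynomial (Localization.Away f)) ^ 1 = Polynomial.C (algebraMap A (Localization.Away f) f)
      from pow_one _] at h1
    have h2 := congrArg (gam f) h1
    rw [map_mul] at h2
    have h3 : gam f (Polynomial.C (algebraMap A (Localization.Away f) f)) =
        Polynomial.C (algebraMap A (Localization.Away f) f) := by simp [gam]
    have h4 : gam f (Polynomial.X : Polynomial (Localization.Away f)) =
        Polynomial.C (algebraMap A (Localization.Away f) f) * Polynomial.X := by simp [gam]
    rw [h3, h4, mul_comm] at h2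
    exact (isUnit_C_f f).mul_right_injective h2

include hpoly in
theorem polyToAway_injective : Function.Injective (polyToAway ψ z f hf hz) := by
  intro P Q hPQ
  have h := congrArg (theta ψ z f hpoly) hPQ
  have e := theta_comp_polyToAway ψ z f hf hz hpoly
  have hP : theta ψ z f hpoly (polyToAway ψ z f hf hz P) =
      Polynomial.map (algebraMap (Away 𝒜 f) (Localization.Away f)) P := congr($e P)
  have hQ : theta ψ z f hpoly (polyToAway ψ z f hf hz Q) =
      Polynomial.map (algebraMap (Away 𝒜 f) (Localization.Away f)) Q := congr($e Q)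
  rw [hP, hQ] at h
  exact Polynomial.map_injective _ (HomogeneousLocalization.val_injective _) h

include hpoly in
theorem polyToAway_bijective : Function.Bijective (polyToAway ψ z f hf hz) :=
  ⟨polyToAway_injective ψ z f hf hz hpoly, polyToAway_surjective ψ z f hf hz hpoly.2⟩

/-- `A_(f)[T] ≃ B_(f)`. -/
noncomputable def polyAwayEquiv : Polynomial (Away 𝒜 f) ≃+* Away ℬ (ψ f) :=
  RingEquiv.ofBijective _ (polyToAway_bijective ψ z f hf hz hpoly)

theorem polyAwayEquiv_C (c : Away 𝒜 f) :
    polyAwayEquiv ψ z f hf hz hpoly (Polynomial.C c) = Away.map ψ f c :=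
  polyToAway_C ψ z f hf hz c

end Inj

end Groth.Agent.Lib.helper28.PolyAway
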