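import Groth.Agent.Lib.Helper28.TensorDesc
import Groth.Agent.Lib.Helper12.AmpleBasis
import Groth.Prelude.Def_RelSpec
import Groth.Agent.Lib.Helper2.ModSec

/-!
# Tensor powers of a module mapping to an algebra (helper28)

For a quasi-coherent algebra `A` on `X` and a map of modules `j : M ⟶ A`:
`powMap A j n : M^{⊗ n} ⟶ A`, `m₁ ⊗ ⋯ ⊗ m_n ↦ j m₁ ⋯ j m_n`.
-/

set_option autoImplicit false
universe u
open CategoryTheory AlgebraicGeometry TopologicalSpace Opposite

namespace Groth.Agent.Lib.helper28.PowMap

open Groth.Agent.Lib.helper28.TensorDesc Groth.Agent.Lib.helper12.AmpleBasis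
  Groth.Agent.Lib.helper11.GenLocus Groth.Agent.Lib.helper12.TwistExtend

variable {X : Scheme.{u}} (A : RelSpec.QCAlg X)

/-- Sections of `A` as a module are the elements of the ring of sections. -/
def toRing {U : X.Opens} (a : Γ(A.toModule, U)) : A.presheaf.obj (op U) := a

/-- Elements of the ring of sections as sections of the module. -/
def ofRing {U : X.Opens} (a : A.presheaf.obj (op U)) : Γ(A.toModule, U) := a

theorem smul_eq {U : X.Opens} (r : Γ(X, U)) (a : Γ(A.toModule, U)) :
    r • a = ofRing A ((A.str.app (op U)).hom r * toRing A a) := rfl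

theorem res_eq {U V : X.Opens} (i : V ≤ U) (a : Γ(A.toModule, U)) :
    A.toModule.presheaf.map (homOfLE i).op a =
      ofRing A ((A.presheaf.map (homOfLE i).op).hom (toRing A a)) := rfl

variable {M : X.Modules} (j : M ⟶ A.toModule)

/-- The pairing `(a, m) ↦ g a * j m`. -/
noncomputable def mulPair {G : X.Modules} (g : G ⟶ A.toModule) : BiPair G M A.toModule where
  toFun U a m := ofRing A (toRing A (g.app U a) * toRing A (j.app U m))
  add_left U a a' m := by
    rw [map_add]
    exact add_mul (toRing A (g.app U a)) (toRing A (g.app U a')) (toRing A (j.app U m))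
  smul_left U r a m := by
    rw [Scheme.Modules.Hom.app_smul, smul_eq, smul_eq]
    exact congrArg (ofRing A) (mul_assoc _ _ _)
  add_right U a m m' := by
    rw [map_add]
    exact mul_add (toRing A (g.app U a)) (toRing A (j.app U m)) (toRing A (j.app U m'))
  smul_right U r a m := by
    rw [Scheme.Modules.Hom.app_smul, smul_eq, smul_eq]
    exact congrArg (ofRing A) (mul_left_comm _ _ _)
  res U V i a m := by
    rw [res_eq]
    change ofRing A (toRing A (g.app V _) * toRing A (j.app V _)) =
      ofRing A ((A.presheaf.map (homOfLE i).op).hom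
        (toRing A (g.app U a) * toRing A (j.app U m)))
    rw [map_mul]
    have h1 := Groth.Agent.Lib.helper2.ModSec.map_app_apply g (homOfLE i) a
    have h2 := Groth.Agent.Lib.helper2.ModSec.map_app_apply j (homOfLE i) m
    rw [← h1, ← h2]
    rfl

theorem mulPair_toFun {G : X.Modules} (g : G ⟶ A.toModule) (U : X.Opens) (a : Γ(G, U))
    (m : Γ(M, U)) :
    (mulPair A j g).toFun U a m = ofRing A (toRing A (g.app U a) * toRing A (j.app U m)) := rfl

/-- The unit `O ⟶ A`. -/
noncomputable def unitHom : Coh.structureModule X ⟶ A.toModule :=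
  homOfSec A.toModule (ofRing A (1 : A.presheaf.obj (op ⊤)))

theorem sec_unitHom (U : X.Opens) : toRing A (sec (unitHom A) U) = 1 := by
  have h := val_homOfSec A.toModule (ofRing A (1 : A.presheaf.obj (op ⊤))) U
  change toRing A (SecTwist.val (unitHom A) U) = 1
  unfold unitHom
  rw [h]
  exact map_one (A.presheaf.map (homOfLE (le_top : U ≤ ⊤)).op).hom

theorem unitHom_app (U : X.Opens) (r : Γ(X, U)) :
    toRing A ((unitHom A).app U (r : Γ(Coh.structureModule X, U))) = (A.str.app (op U)).hom r := by
  rw [app_apply, smul_eq]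
  change (A.str.app (op U)).hom r * toRing A (sec (unitHom A) U) = _
  rw [sec_unitHom, mul_one]

/-- `M^{⊗ n} ⟶ A`, `m₁ ⊗ ⋯ ⊗ m_n ↦ j m₁ ⋯ j m_n`. -/
noncomputable def powMap : ∀ n : ℕ, CohB1.tensorPow M n ⟶ A.toModule
  | 0 => unitHom A
  | n + 1 => (mulPair A j (powMap n)).desc

theorem powMap_zero : powMap A j 0 = unitHom A := rfl

theorem powMap_succ_tmul (n : ℕ) (U : X.Opens) (a : (CohB1.tensorPow M n).val.obj (op U))
    (m : M.val.obj (op U)) :
    toRing A (((powMap A j (n + 1)).val.app (op U)).hom
      (SecTwist.tmul (CohB1.tensorPow M n) M U a m)) =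
      toRing A (((powMap A j n).val.app (op U)).hom a) * toRing A ((j.val.app (op U)).hom m) :=
  congrArg (toRing A) ((mulPair A j (powMap A j n)).desc_tmul U a m)

end Groth.Agent.Lib.helper28.PowMap
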