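import Groth.Agent.Lib.Helper28.ProjBundleEpi
import Groth.Agent.Lib.Helper28.ProjBundleQuot
import Groth.Agent.Lib.Helper28.RLpsiU2
import Groth.Agent.Lib.Helper28.SymLineAmpleImm

set_option autoImplicit false
universe u

namespace Groth.Agent.Lib.helper28.ProjBundleHom

open CategoryTheory CategoryTheory.Limits AlgebraicGeometry TopologicalSpace Opposite
open HomogeneousLocalization
open scoped HomogeneousIdeal

section General

/-- Two morphisms into a scheme landing in an affine open agree if they agree on the functions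
on that open. -/
theorem ext_of_appLE {T P : Scheme.{u}} (g₁ g₂ : T ⟶ P) (W : P.Opens) (hW : IsAffineOpen W)
    (h₁ : (⊤ : T.Opens) ≤ g₁ ⁻¹ᵁ W) (h₂ : (⊤ : T.Opens) ≤ g₂ ⁻¹ᵁ W)
    (h : g₁.appLE W ⊤ h₁ = g₂.appLE W ⊤ h₂) : g₁ = g₂ := by
  have hr₁ : Set.range g₁ ⊆ Set.range W.ι := by
    rintro _ ⟨x, rfl⟩
    rw [Scheme.Opens.range_ι]
    exact h₁ (show x ∈ (⊤ : T.Opens) from trivial)
  have hr₂ : Set.range g₂ ⊆ Set.range W.ι := by
    rintro _ ⟨x, rfl⟩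
    rw [Scheme.Opens.range_ι]
    exact h₂ (show x ∈ (⊤ : T.Opens) from trivial)
  have e₁ : IsOpenImmersion.lift W.ι g₁ hr₁ ≫ W.ι = g₁ := IsOpenImmersion.lift_fac _ _ _
  have e₂ : IsOpenImmersion.lift W.ι g₂ hr₂ ≫ W.ι = g₂ := IsOpenImmersion.lift_fac _ _ _
  have : IsAffine (W : Scheme.{u}) := hW
  have key : IsOpenImmersion.lift W.ι g₁ hr₁ = IsOpenImmersion.lift W.ι g₂ hr₂ := by
    apply ext_of_isAffine
    have hιW : (⊤ : (W : Scheme.{u}).Opens) ≤ W.ι ⁻¹ᵁ W := W.ι_preimage_self.ge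
    have a₁ : g₁.appLE W ⊤ h₁ = W.ι.appLE W ⊤ hιW ≫
        (IsOpenImmersion.lift W.ι g₁ hr₁).appLE ⊤ ⊤ le_top := by
      rw [Scheme.Hom.appLE_comp_appLE]
      congr 1
      exact e₁.symm
    have a₂ : g₂.appLE W ⊤ h₂ = W.ι.appLE W ⊤ hιW ≫
        (IsOpenImmersion.lift W.ι g₂ hr₂).appLE ⊤ ⊤ le_top := by
      rw [Scheme.Hom.appLE_comp_appLE]
      congr 1
      exact e₂.symm
    have hiso : IsIso (W.ι.appLE W ⊤ hιW) := inferInstanceAs (IsIso (W.ι.appLE W ⊤ W.ι_preimage_self.ge))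
    rw [a₁, a₂] at h
    have h' := (cancel_epi _).mp h
    simpa [Scheme.Hom.appLE] using h'
  rw [← e₁, ← e₂, key]

end General

section AwayGen

open Groth.Agent.Lib.helper28.SymAlg Groth.Agent.Lib.helper28.SymSheaf
  Groth.Agent.Lib.helper28.SymAlgGrading

variable {Y : Scheme.{u}} (E : Y.Modules) [E.IsQuasicoherent]
  (𝒮 : RelProj.QCGrAlg Y) (j : E ⟶ 𝒮.toModule) (hj : RelProj.IsGrSymAlg E 𝒮 j)

/-- the section `j(e)` of `𝒮` over `U` -/
noncomputable abbrev jE (U : Y.Opens) (e : Γ(E, U)) : 𝒮.presheaf.obj (op U) := (j.app U) e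

include hj in
theorem jE_mem (U : Y.Opens) (hU : IsAffineOpen U) (e : Γ(E, U)) :
    jE E 𝒮 j U e ∈ 𝒮.deg U hU 1 := hj.2 U hU e

include hj in
theorem jE_mem' (U : Y.Opens) (hU : IsAffineOpen U) (e : Γ(E, U)) :
    jE E 𝒮 j U e ∈ 𝒮.deg U hU (1 • 1) := hj.2 U hU e

/-- The fraction `j(a) / j(e)`. -/
noncomputable def frac (U : Y.Opens) (hU : IsAffineOpen U) (e a : Γ(E, U)) :
    Away (𝒮.deg U hU) (jE E 𝒮 j U e) :=
  Away.mk (𝒮.deg U hU) (jE_mem E 𝒮 j hj U hU e) 1 (jE E 𝒮 j U a) (jE_mem' E 𝒮 j hj U hU a)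

include hj in
theorem mk_mem_closure (U : Y.Opens) (hU : IsAffineOpen U) (e : Γ(E, U)) (n : ℕ)
    (x : SymU E U) (hx : x ∈ symPow Γ(Y, U) Γ(E, U) n)
    (hy : liftU E 𝒮.toQCAlg j U x ∈ 𝒮.deg U hU (n • 1)) :
    Away.mk (𝒮.deg U hU) (jE_mem E 𝒮 j hj U hU e) n (liftU E 𝒮.toQCAlg j U x) hy ∈
      Subring.closure (Set.range (frac E 𝒮 j hj U hU e)) := by
  induction hx using Submodule.pow_induction_on_left' with
  | algebraMap r =>
    have h1 : Away.mk (𝒮.deg U hU) (jE_mem E 𝒮 j hj U hU e) 0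
        (liftU E 𝒮.toQCAlg j U (algebraMap _ _ r)) hy = frac E 𝒮 j hj U hU e (r • e) := by
      apply HomogeneousLocalization.val_injective
      unfold frac
      rw [Away.val_mk, Away.val_mk, Localization.mk_eq_mk_iff, Localization.r_iff_exists]
      refine ⟨1, ?_⟩
      simp only [OneMemClass.coe_one, one_mul, pow_zero, pow_one]
      rw [liftU_algebraMap]
      have h2 : jE E 𝒮 j U (r • e) = (𝒮.str.app (op U)).hom r * jE E 𝒮 j U e :=
        Scheme.Modules.Hom.app_smul j r e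
      rw [h2]
      ring
    rw [h1]
    exact Subring.subset_closure ⟨_, rfl⟩
  | add x y i hx' hy' ihx ihy =>
    have hx2 : liftU E 𝒮.toQCAlg j U x ∈ 𝒮.deg U hU (i • 1) := by
      rw [smul_eq_mul, mul_one]
      exact SymDegEq.liftU_mem E 𝒮 j hj U hU hx'
    have hy2 : liftU E 𝒮.toQCAlg j U y ∈ 𝒮.deg U hU (i • 1) := by
      rw [smul_eq_mul, mul_one]
      exact SymDegEq.liftU_mem E 𝒮 j hj U hU hy'
    have h1 : Away.mk (𝒮.deg U hU) (jE_mem E 𝒮 j hj U hU e) i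
        (liftU E 𝒮.toQCAlg j U (x + y)) hy =
        Away.mk (𝒮.deg U hU) (jE_mem E 𝒮 j hj U hU e) i (liftU E 𝒮.toQCAlg j U x) hx2 +
        Away.mk (𝒮.deg U hU) (jE_mem E 𝒮 j hj U hU e) i (liftU E 𝒮.toQCAlg j U y) hy2 := by
      apply HomogeneousLocalization.val_injective
      rw [HomogeneousLocalization.val_add, Away.val_mk, Away.val_mk, Away.val_mk, map_add,
        Localization.add_mk_self]
    rw [h1]
    exact Subring.add_mem _ (ihx hx2) (ihy hy2)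
  | mem_mul m hm i x hx' ih =>
    obtain ⟨m₀, rfl⟩ := hm
    have hx2 : liftU E 𝒮.toQCAlg j U x ∈ 𝒮.deg U hU (i • 1) := by
      rw [smul_eq_mul, mul_one]
      exact SymDegEq.liftU_mem E 𝒮 j hj U hU hx'
    have h1 : Away.mk (𝒮.deg U hU) (jE_mem E 𝒮 j hj U hU e) (i + 1)
        (liftU E 𝒮.toQCAlg j U (SymmetricAlgebra.ι _ _ m₀ * x)) hy =
        frac E 𝒮 j hj U hU e m₀ *
        Away.mk (𝒮.deg U hU) (jE_mem E 𝒮 j hj U hU e) i (liftU E 𝒮.toQCAlg j U x) hx2 := by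
      apply HomogeneousLocalization.val_injective
      unfold frac
      rw [HomogeneousLocalization.val_mul, Away.val_mk, Away.val_mk, Away.val_mk, map_mul,
        liftU_ι, Localization.mk_mul, Localization.mk_eq_mk_iff, Localization.r_iff_exists]
      refine ⟨1, ?_⟩
      simp only [OneMemClass.coe_one, one_mul, Submonoid.coe_mul, pow_one]
      change (jE E 𝒮 j U e * jE E 𝒮 j U e ^ i) * (jE E 𝒮 j U m₀ * _) =
        jE E 𝒮 j U e ^ (i + 1) * (jE E 𝒮 j U m₀ * _)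
      ring
    rw [h1]
    exact Subring.mul_mem _ (Subring.subset_closure ⟨_, rfl⟩) (ih hx2)

include hj in
/-- `𝒮(U)_(j e)` is generated as a ring by the fractions `j(a) / j(e)`. -/
theorem away_hom_ext (U : Y.Opens) (hU : IsAffineOpen U) (e : Γ(E, U)) {B : Type*} [CommRing B]
    (χ₁ χ₂ : Away (𝒮.deg U hU) (jE E 𝒮 j U e) →+* B)
    (h : ∀ a, χ₁ (frac E 𝒮 j hj U hU e a) = χ₂ (frac E 𝒮 j hj U hU e a)) : χ₁ = χ₂ := by
  refine RingHom.ext fun x => ?_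
  obtain ⟨n, y, hy, rfl⟩ := Away.mk_surjective (𝒮.deg U hU) (jE_mem E 𝒮 j hj U hU e) x
  have hy' : y ∈ 𝒮.deg U hU n := by
    rw [smul_eq_mul, mul_one] at hy
    exact hy
  obtain ⟨x₀, hx₀, rfl⟩ := (SymDegEq.mem_deg_iff E 𝒮 j hj U hU n y).mp hy'
  have hmem := mk_mem_closure E 𝒮 j hj U hU e n x₀ hx₀ hy
  refine RingHom.eqOn_set_closure (f := χ₁) (g := χ₂) ?_ hmem
  rintro _ ⟨a, rfl⟩
  exact h a

end AwayGen

end Groth.Agent.Lib.helper28.ProjBundleHom
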