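import Groth.Agent.Lib.Helper28.ProjBundleHom1
import Groth.Agent.Lib.Helper12.ProjUP1

set_option autoImplicit false
universe u

namespace Groth.Agent.Lib.helper28.ProjBundleHom

open CategoryTheory CategoryTheory.Limits AlgebraicGeometry TopologicalSpace Opposite
open HomogeneousLocalization
open scoped HomogeneousIdeal
open Groth.Agent.Lib.helper28.RelTwistChart

section AwayI

variable {σ A : Type u} [CommRing A] [SetLike σ A] [AddSubgroupClass σ A]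
  (𝒜 : ℕ → σ) [GradedRing 𝒜]

theorem awayι_le {f : A} {d : ℕ} (hf : f ∈ 𝒜 d) (hd : 0 < d) :
    (⊤ : (Spec (CommRingCat.of (Away 𝒜 f))).Opens) ≤
      (Proj.awayι 𝒜 f hf hd) ⁻¹ᵁ Proj.basicOpen 𝒜 f := by
  intro x _
  change (Proj.awayι 𝒜 f hf hd) x ∈ Proj.basicOpen 𝒜 f
  rw [← Proj.opensRange_awayι 𝒜 f hf hd]
  exact ⟨x, rfl⟩

/-- The function on `D₊(f)` attached to `x ∈ A_(f)` pulls back to `x` on `Spec A_(f)`. -/
theorem awayToSection_awayι_appLE {f : A} {d : ℕ} (hf : f ∈ 𝒜 d) (hd : 0 < d) :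
    Proj.awayToSection 𝒜 f ≫ (Proj.awayι 𝒜 f hf hd).appLE (Proj.basicOpen 𝒜 f) ⊤
      (awayι_le 𝒜 hf hd) = (Scheme.ΓSpecIso _).inv := by
  have key : ∀ (g : Spec (CommRingCat.of (Away 𝒜 f)) ⟶ Proj 𝒜)
      (hg : g = (Proj.basicOpenIsoSpec 𝒜 f hf hd).inv ≫ (Proj.basicOpen 𝒜 f).ι)
      (e : (⊤ : (Spec (CommRingCat.of (Away 𝒜 f))).Opens) ≤ g ⁻¹ᵁ Proj.basicOpen 𝒜 f),
      Proj.awayToSection 𝒜 f ≫ g.appLE (Proj.basicOpen 𝒜 f) ⊤ e = (Scheme.ΓSpecIso _).inv := by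
    rintro _ rfl e
    rw [Groth.Agent.Lib.helper12.ProjUP1.appLE_comp_ι,
      Groth.Agent.Lib.helper12.ProjUP1.basicOpenIsoSpec_inv_appTop,
      ← Proj.basicOpenIsoAway_hom 𝒜 f hf hd]
    simp only [Iso.inv_hom_id_assoc, Iso.hom_inv_id_assoc]
  exact key _ rfl _

end AwayI

section Star

variable {Y P : Scheme.{u}} (E : Y.Modules) [E.IsQuasicoherent]
  (𝒮 : RelProj.QCGrAlg Y) (j : E ⟶ 𝒮.toModule) (hj : RelProj.IsGrSymAlg E 𝒮 j) (p : P ⟶ Y)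
  (chart : ∀ (U : Y.Opens) (hU : IsAffineOpen U),
    ((p ⁻¹ᵁ U : P.Opens) : Scheme.{u}) ≅ Proj (𝒮.deg U hU))
  (hP : RelProj.IsRelProj 𝒮 p chart) (O1 : P.Modules)
  (lam : ∀ (U : Y.Opens) (hU : IsAffineOpen U),
    O1 ⟶ (Scheme.Modules.pushforward (RelProj.emb p chart U hU)).obj
      (GrTwist.twist (𝒮.deg U hU) 1))
  (hO1 : RelProj.IsRelTwist 𝒮 p chart 1 O1 lam)
  (φ : E ⟶ (Scheme.Modules.pushforward p).obj O1)
  (hφ : ∀ (U : Y.Opens) (hU : IsAffineOpen U) (e : Γ(E, U))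
    (y : ↥(RelProj.emb p chart U hU ⁻¹ᵁ (p ⁻¹ᵁ U))),
    GrTwist.val (V := RelProj.emb p chart U hU ⁻¹ᵁ (p ⁻¹ᵁ U))
        ((lam U hU).app (p ⁻¹ᵁ U) ((φ.app U) e)) y =
      algebraMap (𝒮.presheaf.obj (op U)) (GrTwist.Loc (𝒮.deg U hU) y.1)
        ((j.app U) e : 𝒮.presheaf.obj (op U)))

/-- `D₊(j e)` in the chart over `U`. -/
noncomputable def Dp (U : Y.Opens) (hU : IsAffineOpen U) (e : Γ(E, U)) :
    (Proj (𝒮.deg U hU)).Opens :=
  Proj.basicOpen (𝒮.deg U hU) (jE E 𝒮 j U e)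

/-- The image of `D₊(j e)` in `P`. -/
noncomputable def Wp (U : Y.Opens) (hU : IsAffineOpen U) (e : Γ(E, U)) : P.Opens :=
  (RelProj.emb p chart U hU) ''ᵁ (Dp E 𝒮 j U hU e)

theorem Wp_le (U : Y.Opens) (hU : IsAffineOpen U) (e : Γ(E, U)) :
    Wp E 𝒮 j p chart U hU e ≤ p ⁻¹ᵁ U :=
  image_emb_le p chart U hU _

include hj in
theorem isAffineOpen_Wp (U : Y.Opens) (hU : IsAffineOpen U) (e : Γ(E, U)) :
    IsAffineOpen (Wp E 𝒮 j p chart U hU e) :=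
  (Proj.isAffineOpen_basicOpen (𝒮.deg U hU) (jE E 𝒮 j U e) (jE_mem E 𝒮 j hj U hU e)
    one_pos).image_of_isOpenImmersion (RelProj.emb p chart U hU)

theorem preimage_Wp (U : Y.Opens) (hU : IsAffineOpen U) (e : Γ(E, U)) :
    (RelProj.emb p chart U hU ⁻¹ᵁ Wp E 𝒮 j p chart U hU e : (Proj (𝒮.deg U hU)).Opens) =
      ProjectiveSpectrum.basicOpen (𝒮.deg U hU) (jE E 𝒮 j U e) :=
  (RelProj.emb p chart U hU).preimage_image_eq _

/-- The function `j a / j e` on `Wp`. -/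
noncomputable def fn (U : Y.Opens) (hU : IsAffineOpen U) (e a : Γ(E, U)) :
    Γ(P, Wp E 𝒮 j p chart U hU e) :=
  ((RelProj.emb p chart U hU).appIso (Dp E 𝒮 j U hU e)).inv.hom
    ((Proj.awayToSection (𝒮.deg U hU) (jE E 𝒮 j U e)).hom (frac E 𝒮 j hj U hU e a))

/-- The restriction of `φ(a)` to `Wp`. -/
noncomputable def sg (U : Y.Opens) (hU : IsAffineOpen U) (e a : Γ(E, U)) :
    Γ(O1, Wp E 𝒮 j p chart U hU e) :=
  O1.presheaf.map (homOfLE (Wp_le E 𝒮 j p chart U hU e)).op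
    (show Γ(O1, p ⁻¹ᵁ U) from (φ.app U) a)

theorem notMem_of_mem_preimage_Wp (U : Y.Opens) (hU : IsAffineOpen U) (e : Γ(E, U))
    (x : (RelProj.emb p chart U hU ⁻¹ᵁ Wp E 𝒮 j p chart U hU e : (Proj (𝒮.deg U hU)).Opens)) :
    jE E 𝒮 j U e ∉ x.1.asHomogeneousIdeal := by
  have hx : x.1 ∈ ProjectiveSpectrum.basicOpen (𝒮.deg U hU) (jE E 𝒮 j U e) :=
    preimage_Wp E 𝒮 j p chart U hU e ▸ x.2
  exact (ProjectiveSpectrum.mem_basicOpen _ _ _).mp hx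

theorem one_notMem (U : Y.Opens) (hU : IsAffineOpen U) (e : Γ(E, U))
    (x : (RelProj.emb p chart U hU ⁻¹ᵁ Wp E 𝒮 j p chart U hU e : (Proj (𝒮.deg U hU)).Opens)) :
    (1 : 𝒮.presheaf.obj (op U)) ∉ x.1.asHomogeneousIdeal :=
  fun h => x.1.isPrime.ne_top ((Ideal.eq_top_iff_one _).mpr h)

open Groth.Agent.Lib.helper28.GTwistFree in
include hj hφ in
theorem lam_sg (U : Y.Opens) (hU : IsAffineOpen U) (e a : Γ(E, U)) :
    (lam U hU).app (Wp E 𝒮 j p chart U hU e) (sg E 𝒮 j p chart O1 φ U hU e a) =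
      fracSectN (𝒮.deg U hU) 1 (RelProj.emb p chart U hU ⁻¹ᵁ Wp E 𝒮 j p chart U hU e)
        (i := 1) (j := 0) ⟨jE E 𝒮 j U a, jE_mem E 𝒮 j hj U hU a⟩ ⟨1, SetLike.GradedOne.one_mem⟩
        (one_notMem E 𝒮 j p chart U hU e) (by norm_num) := by
  refine sectN_ext' (𝒮.deg U hU) _ _ fun x => ?_
  rw [fracSectN_val]
  have h1 := Groth.Agent.Lib.helper2.ModSec.map_app_apply (lam U hU)
    (homOfLE (Wp_le E 𝒮 j p chart U hU e)) (show Γ(O1, p ⁻¹ᵁ U) from (φ.app U) a)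
  unfold sg
  rw [← h1]
  have h2 := hφ U hU a ⟨x.1, Wp_le E 𝒮 j p chart U hU e x.2⟩
  refine h2.trans ?_
  rw [← Localization.mk_one_eq_algebraMap]
  rfl

open Groth.Agent.Lib.helper28.GTwistFree Groth.Agent.Lib.helper28.LocalGen in
include hj hO1 hφ in
/-- `φ(a) = (j a / j e) • φ(e)` on `Wp`. -/
theorem fn_smul_sg (U : Y.Opens) (hU : IsAffineOpen U) (e a : Γ(E, U)) :
    fn E 𝒮 j hj p chart U hU e a • sg E 𝒮 j p chart O1 φ U hU e e =
      sg E 𝒮 j p chart O1 φ U hU e a := by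
  have hlam := hO1.bijective U hU (Wp E 𝒮 j p chart U hU e) (Wp_le E 𝒮 j p chart U hU e)
  apply hlam.1
  let s₀ : Γ(GrTwist.twist (𝒮.deg U hU) 1,
      RelProj.emb p chart U hU ⁻¹ᵁ Wp E 𝒮 j p chart U hU e) :=
    fracSectN (𝒮.deg U hU) 1 (RelProj.emb p chart U hU ⁻¹ᵁ Wp E 𝒮 j p chart U hU e)
      (i := 1) (j := 0) ⟨jE E 𝒮 j U e, jE_mem E 𝒮 j hj U hU e⟩
      ⟨1, SetLike.GradedOne.one_mem⟩
      (one_notMem E 𝒮 j p chart U hU e) (by norm_num)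
  have hs₀ : (lam U hU).app (Wp E 𝒮 j p chart U hU e) (sg E 𝒮 j p chart O1 φ U hU e e) = s₀ :=
    lam_sg E 𝒮 j hj p chart O1 lam φ hφ U hU e e
  have key : (lam U hU).app (Wp E 𝒮 j p chart U hU e)
      (fn E 𝒮 j hj p chart U hU e a • sg E 𝒮 j p chart O1 φ U hU e e) =
      ((((RelProj.emb p chart U hU).app (Wp E 𝒮 j p chart U hU e)).hom
        (fn E 𝒮 j hj p chart U hU e a)) • s₀ :
        Γ(GrTwist.twist (𝒮.deg U hU) 1,
          RelProj.emb p chart U hU ⁻¹ᵁ Wp E 𝒮 j p chart U hU e)) := by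
    rw [Scheme.Modules.Hom.app_smul, smul_pushforward, hs₀]
  rw [key, lam_sg E 𝒮 j hj p chart O1 lam φ hφ]
  refine sectN_ext' (𝒮.deg U hU) _ _ fun x => ?_
  refine (smul_val (𝒮.deg U hU) (((RelProj.emb p chart U hU).app
    (Wp E 𝒮 j p chart U hU e)).hom (fn E 𝒮 j hj p chart U hU e a))
    (fracSectN (𝒮.deg U hU) 1 (RelProj.emb p chart U hU ⁻¹ᵁ Wp E 𝒮 j p chart U hU e)
      (i := 1) (j := 0) ⟨jE E 𝒮 j U e, jE_mem E 𝒮 j hj U hU e⟩
      ⟨1, SetLike.GradedOne.one_mem⟩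
      (one_notMem E 𝒮 j p chart U hU e) (by norm_num)) x).trans ?_
  rw [fracSectN_val, fracSectN_val]
  have h1 : ((RelProj.emb p chart U hU).app (Wp E 𝒮 j p chart U hU e)).hom
      (fn E 𝒮 j hj p chart U hU e a) =
      ((Proj (𝒮.deg U hU)).presheaf.map (eqToHom ((RelProj.emb p chart U hU).preimage_image_eq
        (Dp E 𝒮 j U hU e))).op).hom
        ((Proj.awayToSection (𝒮.deg U hU) (jE E 𝒮 j U e)).hom (frac E 𝒮 j hj U hU e a)) := by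
    unfold fn
    exact congrArg (fun k => k.hom ((Proj.awayToSection (𝒮.deg U hU) (jE E 𝒮 j U e)).hom
      (frac E 𝒮 j hj U hU e a)))
      ((RelProj.emb p chart U hU).appIso_inv_app (Dp E 𝒮 j U hU e))
  rw [h1]
  have h2 : ((((Proj (𝒮.deg U hU)).presheaf.map (eqToHom
      ((RelProj.emb p chart U hU).preimage_image_eq (Dp E 𝒮 j U hU e))).op).hom
      ((Proj.awayToSection (𝒮.deg U hU) (jE E 𝒮 j U e)).hom (frac E 𝒮 j hj U hU e a))).1 x).val =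
      Localization.mk (jE E 𝒮 j U a) ⟨jE E 𝒮 j U e,
        notMem_of_mem_preimage_Wp E 𝒮 j p chart U hU e x⟩ := by
    change (HomogeneousLocalization.mapId (𝒮.deg U hU) _ (frac E 𝒮 j hj U hU e a)).val = _
    unfold frac
    change Localization.mk (jE E 𝒮 j U a) _ = _
    rw [Localization.mk_eq_mk_iff, Localization.r_iff_exists]
    refine ⟨1, ?_⟩
    simp only [OneMemClass.coe_one, one_mul, pow_one]
    rfl
  rw [h2, Localization.mk_mul, Localization.mk_eq_mk_iff, Localization.r_iff_exists]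
  refine ⟨1, ?_⟩
  simp only [OneMemClass.coe_one, one_mul, Submonoid.coe_mul, mul_one]
  ring

/-- The chart `Spec 𝒮(U)_(j e) ⟶ P`. -/
noncomputable def κ (U : Y.Opens) (hU : IsAffineOpen U) (e : Γ(E, U)) :
    Spec (CommRingCat.of (Away (𝒮.deg U hU) (jE E 𝒮 j U e))) ⟶ P :=
  Proj.awayι (𝒮.deg U hU) (jE E 𝒮 j U e) (jE_mem E 𝒮 j hj U hU e) one_pos ≫
    RelProj.emb p chart U hU

instance isOpenImmersion_κ (U : Y.Opens) (hU : IsAffineOpen U) (e : Γ(E, U)) :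
    IsOpenImmersion (κ E 𝒮 j hj p chart U hU e) := by
  have := RelProj.isOpenImmersion_emb p chart U hU
  unfold κ
  infer_instance

theorem Dp_le (U : Y.Opens) (hU : IsAffineOpen U) (e : Γ(E, U)) :
    Dp E 𝒮 j U hU e ≤ RelProj.emb p chart U hU ⁻¹ᵁ Wp E 𝒮 j p chart U hU e :=
  ((RelProj.emb p chart U hU).preimage_image_eq _).ge

theorem κ_le (U : Y.Opens) (hU : IsAffineOpen U) (e : Γ(E, U)) :
    (⊤ : (Spec (CommRingCat.of (Away (𝒮.deg U hU) (jE E 𝒮 j U e)))).Opens) ≤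
      (κ E 𝒮 j hj p chart U hU e) ⁻¹ᵁ Wp E 𝒮 j p chart U hU e := by
  intro x _
  exact Dp_le E 𝒮 j p chart U hU e
    (awayι_le (𝒮.deg U hU) (jE_mem E 𝒮 j hj U hU e) one_pos (show x ∈ ⊤ from trivial))

theorem opensRange_κ (U : Y.Opens) (hU : IsAffineOpen U) (e : Γ(E, U)) :
    (κ E 𝒮 j hj p chart U hU e).opensRange = Wp E 𝒮 j p chart U hU e := by
  unfold κ Wp Dp
  rw [Scheme.Hom.opensRange_comp, Proj.opensRange_awayι]

/-- The function `j a / j e` pulls back to the fraction `j a / j e` on the chart. -/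
theorem κ_appLE_fn (U : Y.Opens) (hU : IsAffineOpen U) (e a : Γ(E, U)) :
    ((κ E 𝒮 j hj p chart U hU e).appLE (Wp E 𝒮 j p chart U hU e) ⊤
      (κ_le E 𝒮 j hj p chart U hU e)).hom (fn E 𝒮 j hj p chart U hU e a) =
      (Scheme.ΓSpecIso _).inv.hom (frac E 𝒮 j hj U hU e a) := by
  have h1 : (κ E 𝒮 j hj p chart U hU e).appLE (Wp E 𝒮 j p chart U hU e) ⊤
      (κ_le E 𝒮 j hj p chart U hU e) =
      (RelProj.emb p chart U hU).appLE (Wp E 𝒮 j p chart U hU e) (Dp E 𝒮 j U hU e)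
        (Dp_le E 𝒮 j p chart U hU e) ≫
      (Proj.awayι (𝒮.deg U hU) (jE E 𝒮 j U e) (jE_mem E 𝒮 j hj U hU e) one_pos).appLE
        (Dp E 𝒮 j U hU e) ⊤ (awayι_le (𝒮.deg U hU) (jE_mem E 𝒮 j hj U hU e) one_pos) :=
    (Scheme.Hom.appLE_comp_appLE _ _ _ _ _ _ _).symm
  have h2 : ((RelProj.emb p chart U hU).appLE (Wp E 𝒮 j p chart U hU e) (Dp E 𝒮 j U hU e)
      (Dp_le E 𝒮 j p chart U hU e)).hom (fn E 𝒮 j hj p chart U hU e a) =
      (Proj.awayToSection (𝒮.deg U hU) (jE E 𝒮 j U e)).hom (frac E 𝒮 j hj U hU e a) := by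
    unfold fn
    have := (RelProj.emb p chart U hU).appIso_inv_appLE (U := Dp E 𝒮 j U hU e)
      (V := Dp E 𝒮 j U hU e) (Dp_le E 𝒮 j p chart U hU e)
    have h3 := congrArg (fun k => k.hom ((Proj.awayToSection (𝒮.deg U hU) (jE E 𝒮 j U e)).hom
      (frac E 𝒮 j hj U hU e a))) this
    refine h3.trans ?_
    change ((Proj (𝒮.deg U hU)).presheaf.map (𝟙 _)).hom _ = _
    rw [(Proj (𝒮.deg U hU)).presheaf.map_id]
    rfl
  rw [h1, CommRingCat.comp_apply, h2]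
  exact congrArg (fun k => k.hom (frac E 𝒮 j hj U hU e a))
    (awayToSection_awayι_appLE (𝒮.deg U hU) (jE_mem E 𝒮 j hj U hU e) one_pos)

end Star

end Groth.Agent.Lib.helper28.ProjBundleHom
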