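import Groth.Agent.Lib.Helper28.ProjBundleHom2
import Groth.Agent.Lib.Helper8.PullbackUnit

set_option autoImplicit false
universe u

namespace Groth.Agent.Lib.helper28.ProjBundleHom

open CategoryTheory CategoryTheory.Limits AlgebraicGeometry TopologicalSpace Opposite
open HomogeneousLocalization
open scoped HomogeneousIdeal
open Groth.Agent.Lib.helper28.RelTwistChart Groth.Agent.Lib.helper8.PullbackUnit

section Alg

/-- A base change of a module free of rank one on `m` is free of rank one on the image of `m`. -/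
theorem IsBC.bijective_smul {R R' : Type u} [CommRing R] [CommRing R'] {φ : R →+* R'}
    {N Q : Type u} [AddCommGroup N] [Module R N] [AddCommGroup Q] [Module R' Q] {k : N →+ Q}
    (hk : IsBC φ k) (m : N) (hm : Function.Bijective (fun c : R => c • m)) :
    Function.Bijective (fun c : R' => c • k m) := by
  let eN : R ≃ₗ[R] N := LinearEquiv.ofBijective (LinearMap.toSpanSingleton R N m) hm
  have heN : ∀ c : R, eN c = c • m := fun c => rfl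
  let k' : N →+ R' := φ.toAddMonoidHom.comp eN.symm.toLinearMap.toAddMonoidHom
  have hk'm : k' m = 1 := by
    change φ (eN.symm m) = 1
    have : eN.symm m = 1 := by
      rw [LinearEquiv.symm_apply_eq, heN, one_smul]
    rw [this, map_one]
  have hk'smul : ∀ (r : R) (x : N), k' (r • x) = φ r • k' x := by
    intro r x
    change φ (eN.symm (r • x)) = φ r * φ (eN.symm x)
    rw [map_smul, smul_eq_mul, map_mul]
  have hk' : IsBC φ k' := Groth.Agent.Lib.helper28.RelTwistPull.isBC_of_free φ k' hk'smul m hm.2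
    (by
      rw [hk'm]
      constructor
      · intro a b hab
        simpa using hab
      · intro b
        exact ⟨b, by simp⟩)
  let w : R' →ₗ[R'] Q := LinearMap.toSpanSingleton R' Q (k m)
  have hw : ∀ n, w (k' n) = k n := by
    intro n
    obtain ⟨c, rfl⟩ := hm.2 n
    change k' (c • m) • k m = k (c • m)
    rw [hk'smul, hk'm, hk.map_smul, smul_eq_mul, mul_one]
  exact hk'.bijective_of_comp hk w hw

end Alg

section OnX

open Scheme.Modules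

variable {Y P X : Scheme.{u}} (E : Y.Modules) [E.IsQuasicoherent]
  (𝒮 : RelProj.QCGrAlg Y) (j : E ⟶ 𝒮.toModule) (hj : RelProj.IsGrSymAlg E 𝒮 j) (p : P ⟶ Y)
  (chart : ∀ (U : Y.Opens) (hU : IsAffineOpen U),
    ((p ⁻¹ᵁ U : P.Opens) : Scheme.{u}) ≅ Proj (𝒮.deg U hU))
  (hP : RelProj.IsRelProj 𝒮 p chart) (O1 : P.Modules)
  (lam : ∀ (U : Y.Opens) (hU : IsAffineOpen U),
    O1 ⟶ (Scheme.Modules.pushforward (RelProj.emb p chart U hU)).obj
      (GrTwist.twist (𝒮.deg U hU) 1))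
  (hO1 : RelProj.IsRelTwist 𝒮 p chart 1 O1 lam)
  (φ : E ⟶ (Scheme.Modules.pushforward p).obj O1)
  (hφ : ∀ (U : Y.Opens) (hU : IsAffineOpen U) (e : Γ(E, U))
    (y : ↥(RelProj.emb p chart U hU ⁻¹ᵁ (p ⁻¹ᵁ U))),
    GrTwist.val (V := RelProj.emb p chart U hU ⁻¹ᵁ (p ⁻¹ᵁ U))
        ((lam U hU).app (p ⁻¹ᵁ U) ((φ.app U) e)) y =
      algebraMap (𝒮.presheaf.obj (op U)) (GrTwist.Loc (𝒮.deg U hU) y.1)
        ((j.app U) e : 𝒮.presheaf.obj (op U)))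
  (i : X ⟶ P) (L : X.Modules)
  (γ : (Scheme.Modules.pullback i).obj O1 ⟶ L)

/-- The morphism `O_P(1) ⟶ i_* L` adjoint to `γ`. -/
noncomputable def β : O1 ⟶ (Scheme.Modules.pushforward i).obj L :=
  (Scheme.Modules.pullbackPushforwardAdjunction i).homEquiv O1 L γ

/-- The section `γ(i^* t)` of `L` over `V ≤ i⁻¹ W`. -/
noncomputable def pull {W : P.Opens} {V : X.Opens} (hVW : V ≤ i ⁻¹ᵁ W) (t : Γ(O1, W)) :
    Γ(L, V) :=
  (γ.app V) (ρ i hVW O1 t)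

theorem β_app_res {W : P.Opens} {V : X.Opens} (hVW : V ≤ i ⁻¹ᵁ W) (t : Γ(O1, W)) :
    L.presheaf.map (homOfLE hVW).op
      (show Γ(L, i ⁻¹ᵁ W) from (β O1 i L γ).app W t) = pull O1 i L γ hVW t := by
  unfold pull β
  rw [ρ_apply, Adjunction.homEquiv_unit]
  exact Groth.Agent.Lib.helper2.ModSec.map_app_apply γ (homOfLE hVW)
    ((((Scheme.Modules.pullbackPushforwardAdjunction i).unit.app O1).app W).hom t)

theorem pull_smul {W : P.Opens} {V : X.Opens} (hVW : V ≤ i ⁻¹ᵁ W) (r : Γ(P, W))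
    (t : Γ(O1, W)) :
    pull O1 i L γ hVW (r • t) = (i.appLE W V hVW).hom r • pull O1 i L γ hVW t := by
  unfold pull
  have h1 : ρ i hVW O1 (r • t) = (i.appLE W V hVW).hom r • ρ i hVW O1 t := by
    rw [ρ_apply, ρ_apply, Scheme.Modules.Hom.app_smul,
      Groth.Agent.Lib.helper28.LocalGen.smul_pushforward]
    exact Groth.Agent.Lib.helper28.HomOfBasis.map_smul' ((Scheme.Modules.pullback i).obj O1)
      (homOfLE hVW) ((i.app W).hom r) _
  rw [h1, Scheme.Modules.Hom.app_smul]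

include hj hO1 hφ in
theorem bijective_smul_sg (U : Y.Opens) (hU : IsAffineOpen U) (e : Γ(E, U)) :
    Function.Bijective (fun r : Γ(P, Wp E 𝒮 j p chart U hU e) =>
      r • sg E 𝒮 j p chart O1 φ U hU e e) :=
  Groth.Agent.Lib.helper28.RelTwistFree.bijective_smul_of_lam_eq lam hO1 U hU _
    (Wp_le E 𝒮 j p chart U hU e) (d := 1) one_pos (jE_mem E 𝒮 j hj U hU e)
    (preimage_Wp E 𝒮 j p chart U hU e) (i := 1) (j := 0)
    ⟨jE E 𝒮 j U e, jE_mem E 𝒮 j hj U hU e⟩ ⟨1, SetLike.GradedOne.one_mem⟩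
    (notMem_of_mem_preimage_Wp E 𝒮 j p chart U hU e) (one_notMem E 𝒮 j p chart U hU e)
    (by norm_num) _ (lam_sg E 𝒮 j hj p chart O1 lam φ hφ U hU e e)

include hj hO1 hφ in
/-- Over an affine `V ≤ i⁻¹ Wp`, the section `γ(i^* φ(e))` is a basis of `L`. -/
theorem bijective_smul_pull [IsIso γ] (U : Y.Opens) (hU : IsAffineOpen U) (e : Γ(E, U))
    (V : X.Opens) (hV : IsAffineOpen V) (hVW : V ≤ i ⁻¹ᵁ Wp E 𝒮 j p chart U hU e) :
    Function.Bijective (fun c : Γ(X, V) =>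
      c • pull O1 i L γ hVW (sg E 𝒮 j p chart O1 φ U hU e e)) := by
  have hq : O1.IsQuasicoherent :=
    Groth.Agent.Lib.helper28.RelTwistFree.isQuasicoherent lam hO1
  have hBC := isBC_ρ i (isAffineOpen_Wp E 𝒮 j hj p chart U hU e) hV hVW O1
  have h1 := IsBC.bijective_smul hBC (sg E 𝒮 j p chart O1 φ U hU e e)
    (bijective_smul_sg E 𝒮 j hj p chart O1 lam hO1 φ hφ U hU e)
  have hγ : Function.Bijective (γ.app V) := by
    have h2 : IsIso (γ.app V) := (Scheme.Modules.Hom.isIso_iff_isIso_app (φ := γ)).mp inferInstance V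
    exact (ConcreteCategory.isIso_iff_bijective (γ.app V)).mp h2
  have h3 : (fun c : Γ(X, V) => c • pull O1 i L γ hVW (sg E 𝒮 j p chart O1 φ U hU e e)) =
      (γ.app V) ∘ (fun c : Γ(X, V) => c • ρ i hVW O1 (sg E 𝒮 j p chart O1 φ U hU e e)) := by
    funext c
    exact (Scheme.Modules.Hom.app_smul γ c _).symm
  rw [h3]
  exact hγ.comp h1

include hj hO1 hφ in
/-- `γ(i^* φ(a)) = i^♯(j a / j e) • γ(i^* φ(e))` over `V ≤ i⁻¹ Wp`. -/
theorem pull_sg (U : Y.Opens) (hU : IsAffineOpen U) (e a : Γ(E, U))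
    (V : X.Opens) (hVW : V ≤ i ⁻¹ᵁ Wp E 𝒮 j p chart U hU e) :
    pull O1 i L γ hVW (sg E 𝒮 j p chart O1 φ U hU e a) =
      (i.appLE (Wp E 𝒮 j p chart U hU e) V hVW).hom (fn E 𝒮 j hj p chart U hU e a) •
        pull O1 i L γ hVW (sg E 𝒮 j p chart O1 φ U hU e e) := by
  rw [← pull_smul, fn_smul_sg E 𝒮 j hj p chart O1 lam hO1 φ hφ]

end OnX

section OnX2

open Scheme.Modules

variable {Y P X : Scheme.{u}} (E : Y.Modules) [E.IsQuasicoherent]
  (𝒮 : RelProj.QCGrAlg Y) (j : E ⟶ 𝒮.toModule) (hj : RelProj.IsGrSymAlg E 𝒮 j) (p : P ⟶ Y)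
  (chart : ∀ (U : Y.Opens) (hU : IsAffineOpen U),
    ((p ⁻¹ᵁ U : P.Opens) : Scheme.{u}) ≅ Proj (𝒮.deg U hU))
  (hP : RelProj.IsRelProj 𝒮 p chart) (O1 : P.Modules)
  (lam : ∀ (U : Y.Opens) (hU : IsAffineOpen U),
    O1 ⟶ (Scheme.Modules.pushforward (RelProj.emb p chart U hU)).obj
      (GrTwist.twist (𝒮.deg U hU) 1))
  (hO1 : RelProj.IsRelTwist 𝒮 p chart 1 O1 lam)
  (φ : E ⟶ (Scheme.Modules.pushforward p).obj O1)
  (hφ : ∀ (U : Y.Opens) (hU : IsAffineOpen U) (e : Γ(E, U))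
    (y : ↥(RelProj.emb p chart U hU ⁻¹ᵁ (p ⁻¹ᵁ U))),
    GrTwist.val (V := RelProj.emb p chart U hU ⁻¹ᵁ (p ⁻¹ᵁ U))
        ((lam U hU).app (p ⁻¹ᵁ U) ((φ.app U) e)) y =
      algebraMap (𝒮.presheaf.obj (op U)) (GrTwist.Loc (𝒮.deg U hU) y.1)
        ((j.app U) e : 𝒮.presheaf.obj (op U)))
  (i : X ⟶ P) (L : X.Modules) [L.IsQuasicoherent]
  (γ : (Scheme.Modules.pullback i).obj O1 ⟶ L)
  (𝒮L : RelProj.QCGrAlg X) (jL : L ⟶ 𝒮L.toModule) (hjL : RelProj.IsGrSymAlg L 𝒮L jL)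
  (u : RelProj.QGrHom (i ≫ p) 𝒮 𝒮L)
  (hu : ∀ (U : Y.Opens) (_ : IsAffineOpen U) (e : Γ(E, U)),
    (u.app U).hom ((j.app U) e) = (jL.app ((i ≫ p) ⁻¹ᵁ U))
      (show Γ(L, (i ≫ p) ⁻¹ᵁ U) from (β O1 i L γ).app (p ⁻¹ᵁ U) ((φ.app U) e)))

include hu in
/-- `u(j a)`, restricted to `V ≤ i⁻¹ Wp`, is `jL(γ(i^* φ(a)))`. -/
theorem u_appLE_jE (U : Y.Opens) (hU : IsAffineOpen U) (e a : Γ(E, U))
    (V : X.Opens) (hVW : V ≤ i ⁻¹ᵁ Wp E 𝒮 j p chart U hU e) (hle : V ≤ (i ≫ p) ⁻¹ᵁ U) :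
    (u.appLE U V hle).hom (jE E 𝒮 j U a) =
      (jL.app V) (pull O1 i L γ hVW (sg E 𝒮 j p chart O1 φ U hU e a)) := by
  have h1 : (u.appLE U V hle).hom (jE E 𝒮 j U a) =
      (𝒮L.presheaf.map (homOfLE hle).op).hom ((u.app U).hom (jE E 𝒮 j U a)) := rfl
  rw [h1]
  have h2 := hu U hU a
  rw [show (u.app U).hom (jE E 𝒮 j U a) = _ from h2]
  have h3 := Groth.Agent.Lib.helper2.ModSec.map_app_apply jL (homOfLE hle)
    (show Γ(L, (i ≫ p) ⁻¹ᵁ U) from (β O1 i L γ).app (p ⁻¹ᵁ U) ((φ.app U) a))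
  have h5 : L.presheaf.map (homOfLE hle).op
      (show Γ(L, (i ≫ p) ⁻¹ᵁ U) from (β O1 i L γ).app (p ⁻¹ᵁ U) ((φ.app U) a)) =
      pull O1 i L γ hVW (sg E 𝒮 j p chart O1 φ U hU e a) := by
    rw [← β_app_res O1 i L γ hVW]
    unfold sg
    have h4 := Groth.Agent.Lib.helper2.ModSec.map_app_apply (β O1 i L γ)
      (homOfLE (Wp_le E 𝒮 j p chart U hU e)) (show Γ(O1, p ⁻¹ᵁ U) from (φ.app U) a)
    rw [← h4]
    change L.presheaf.map (homOfLE hle).op _ =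
      L.presheaf.map (homOfLE hVW).op (L.presheaf.map (homOfLE
        (i.preimage_mono (Wp_le E 𝒮 j p chart U hU e))).op _)
    rw [← ConcreteCategory.comp_apply, ← Functor.map_comp]
    rfl
  refine Eq.trans ?_ (h3.trans ?_)
  · rfl
  · rw [h5]

include hj hO1 hφ hjL hu in
theorem deg_one_subset_span [IsIso γ] (U : Y.Opens) (hU : IsAffineOpen U) (e : Γ(E, U))
    (V : X.Opens) (hV : IsAffineOpen V) (hVW : V ≤ i ⁻¹ᵁ Wp E 𝒮 j p chart U hU e)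
    (hle : V ≤ (i ≫ p) ⁻¹ᵁ U) :
    ((𝒮L.deg V hV 1 : AddSubgroup (𝒮L.presheaf.obj (op V))) : Set (𝒮L.presheaf.obj (op V))) ⊆
      (Ideal.span {(u.appLE U V hle).hom (jE E 𝒮 j U e)} : Set (𝒮L.presheaf.obj (op V))) := by
  intro b hb
  obtain ⟨m, rfl⟩ := Groth.Agent.Lib.helper28.ProjBundleQuot.exists_of_mem_deg_one L 𝒮L jL hjL
    V hV b hb
  obtain ⟨c, rfl⟩ := (bijective_smul_pull E 𝒮 j hj p chart O1 lam hO1 φ hφ i L γ U hU e V hV
    hVW).2 m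
  rw [SetLike.mem_coe, u_appLE_jE E 𝒮 j p chart O1 φ i L γ 𝒮L jL u hu U hU e e V hVW hle]
  have h1 := Groth.Agent.Lib.helper28.SymAlg.φAdd_smul L 𝒮L.toQCAlg jL V c
    (pull O1 i L γ hVW (sg E 𝒮 j p chart O1 φ U hU e e))
  exact Ideal.mem_span_singleton'.mpr ⟨(𝒮L.str.app (op V)).hom c, h1.symm⟩

include hj hO1 hφ hjL hu in
/-- Affine opens of `i⁻¹ Wp` lie in `X_t`, `t = u(j e)`. -/
theorem le_XT [IsIso γ] (U : Y.Opens) (hU : IsAffineOpen U) (e : Γ(E, U))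
    (V : X.Opens) (hV : IsAffineOpen V) (hVW : V ≤ i ⁻¹ᵁ Wp E 𝒮 j p chart U hU e) :
    V ≤ Groth.Agent.Lib.helper28.RLpsiU.XT 𝒮L u U 1 (jE E 𝒮 j U e) := by
  have hle : V ≤ (i ≫ p) ⁻¹ᵁ U :=
    hVW.trans (i.preimage_mono (Wp_le E 𝒮 j p chart U hU e))
  exact le_iSup_of_le (ι := {V : X.affineOpens // ∃ hle : (V.1 : X.Opens) ≤ (i ≫ p) ⁻¹ᵁ U,
      ((𝒮L.deg V.1 V.2 1 : AddSubgroup (𝒮L.presheaf.obj (op (V.1 : X.Opens)))) :
        Set (𝒮L.presheaf.obj (op (V.1 : X.Opens)))) ⊆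
      (Ideal.span {(u.appLE U (V.1 : X.Opens) hle).hom (jE E 𝒮 j U e)} :
        Set (𝒮L.presheaf.obj (op (V.1 : X.Opens))))})
    (f := fun V => (V.1.1 : X.Opens))
    ⟨⟨V, hV⟩, hle, deg_one_subset_span E 𝒮 j hj p chart O1 lam hO1 φ hφ i L γ 𝒮L jL hjL u hu
      U hU e V hV hVW hle⟩ le_rfl

end OnX2

end Groth.Agent.Lib.helper28.ProjBundleHom
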