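import Groth.Agent.Lib.Helper28.ProjBundleHom3

set_option autoImplicit false
universe u

namespace Groth.Agent.Lib.helper28.ProjBundleHom

open CategoryTheory CategoryTheory.Limits AlgebraicGeometry TopologicalSpace Opposite
open HomogeneousLocalization
open scoped HomogeneousIdeal
open Groth.Agent.Lib.helper28.RelTwistChart Groth.Agent.Lib.helper8.PullbackUnit
open Groth.Agent.Lib.helper28.ProjQGlue

section Gen

/-- For an open immersion with range `W`, restriction of functions `Γ(P, W) → Γ(Z, ⊤)` is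
bijective. -/
theorem bijective_appLE_of_opensRange_eq {Z P : Scheme.{u}} (f : Z ⟶ P) [IsOpenImmersion f]
    (W : P.Opens) (h : f.opensRange = W) (e : (⊤ : Z.Opens) ≤ f ⁻¹ᵁ W) :
    Function.Bijective (f.appLE W ⊤ e).hom := by
  have h' : f ''ᵁ ⊤ = W := f.image_top_eq_opensRange.trans h
  subst h'
  have h1 : f.appLE (f ''ᵁ ⊤) ⊤ e = (f.appIso ⊤).hom := (f.appIso_hom' ⊤).symm
  rw [h1]
  exact (ConcreteCategory.isIso_iff_bijective (f.appIso ⊤).hom).mp inferInstance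

theorem fromSpec_appLE {X : Scheme.{u}} {V : X.Opens} (hV : IsAffineOpen V)
    (e : (⊤ : (Spec Γ(X, V)).Opens) ≤ hV.fromSpec ⁻¹ᵁ V) :
    hV.fromSpec.appLE V ⊤ e = (Scheme.ΓSpecIso Γ(X, V)).inv := by
  rw [Scheme.Hom.appLE, hV.fromSpec_app_self, Category.assoc, ← Functor.map_comp]
  convert Category.comp_id _
  exact (Spec Γ(X, V)).presheaf.map_id _

theorem specMap_appLE_top {R S : CommRingCat.{u}} (f : R ⟶ S)
    (e : (⊤ : (Spec S).Opens) ≤ (Spec.map f) ⁻¹ᵁ ⊤) :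
    (Scheme.ΓSpecIso R).inv ≫ (Spec.map f).appLE ⊤ ⊤ e = f ≫ (Scheme.ΓSpecIso S).inv := by
  have h4 : (Spec.map f).appLE ⊤ ⊤ e = (Spec.map f).appTop := by
    change (Spec.map f).app ⊤ ≫ (Spec S).presheaf.map (𝟙 _) = _
    rw [(Spec S).presheaf.map_id, Category.comp_id]
  rw [h4, ← Scheme.ΓSpecIso_inv_naturality]

end Gen

section Main

open Scheme.Modules

variable {Y P X PL : Scheme.{u}} (E : Y.Modules) [E.IsQuasicoherent]
  (𝒮 : RelProj.QCGrAlg Y) (j : E ⟶ 𝒮.toModule) (hj : RelProj.IsGrSymAlg E 𝒮 j) (p : P ⟶ Y)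
  (chart : ∀ (U : Y.Opens) (hU : IsAffineOpen U),
    ((p ⁻¹ᵁ U : P.Opens) : Scheme.{u}) ≅ Proj (𝒮.deg U hU))
  (hP : RelProj.IsRelProj 𝒮 p chart) (O1 : P.Modules)
  (lam : ∀ (U : Y.Opens) (hU : IsAffineOpen U),
    O1 ⟶ (Scheme.Modules.pushforward (RelProj.emb p chart U hU)).obj
      (GrTwist.twist (𝒮.deg U hU) 1))
  (hO1 : RelProj.IsRelTwist 𝒮 p chart 1 O1 lam)
  (φ : E ⟶ (Scheme.Modules.pushforward p).obj O1)
  (hφ : ∀ (U : Y.Opens) (hU : IsAffineOpen U) (e : Γ(E, U))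
    (y : ↥(RelProj.emb p chart U hU ⁻¹ᵁ (p ⁻¹ᵁ U))),
    GrTwist.val (V := RelProj.emb p chart U hU ⁻¹ᵁ (p ⁻¹ᵁ U))
        ((lam U hU).app (p ⁻¹ᵁ U) ((φ.app U) e)) y =
      algebraMap (𝒮.presheaf.obj (op U)) (GrTwist.Loc (𝒮.deg U hU) y.1)
        ((j.app U) e : 𝒮.presheaf.obj (op U)))
  (i : X ⟶ P) (L : X.Modules) [L.IsQuasicoherent]
  (γ : (Scheme.Modules.pullback i).obj O1 ⟶ L)
  (𝒮L : RelProj.QCGrAlg X) (jL : L ⟶ 𝒮L.toModule) (hjL : RelProj.IsGrSymAlg L 𝒮L jL)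
  (u : RelProj.QGrHom (i ≫ p) 𝒮 𝒮L)
  (hu : ∀ (U : Y.Opens) (_ : IsAffineOpen U) (e : Γ(E, U)),
    (u.app U).hom ((j.app U) e) = (jL.app ((i ≫ p) ⁻¹ᵁ U))
      (show Γ(L, (i ≫ p) ⁻¹ᵁ U) from (β O1 i L γ).app (p ⁻¹ᵁ U) ((φ.app U) e)))
  (pL : PL ⟶ X) (chartL : ∀ (U : X.Opens) (hU : IsAffineOpen U),
    (((pL ⁻¹ᵁ U : PL.Opens) : Scheme.{u}) ≅ Proj (𝒮L.deg U hU)))
  (hPL : RelProj.IsRelProj 𝒮L pL chartL)

include hj hO1 hφ hu in
theorem u_jE_eq (U : Y.Opens) (hU : IsAffineOpen U) (e a : Γ(E, U))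
    (V : X.Opens) (hVW : V ≤ i ⁻¹ᵁ Wp E 𝒮 j p chart U hU e) (hle : V ≤ (i ≫ p) ⁻¹ᵁ U) :
    (u.appLE U V hle).hom (jE E 𝒮 j U a) =
      (𝒮L.str.app (op V)).hom ((i.appLE (Wp E 𝒮 j p chart U hU e) V hVW).hom
        (fn E 𝒮 j hj p chart U hU e a)) * (u.appLE U V hle).hom (jE E 𝒮 j U e) := by
  rw [u_appLE_jE E 𝒮 j p chart O1 φ i L γ 𝒮L jL u hu U hU e a V hVW hle,
    u_appLE_jE E 𝒮 j p chart O1 φ i L γ 𝒮L jL u hu U hU e e V hVW hle,
    pull_sg E 𝒮 j hj p chart O1 lam hO1 φ hφ i L γ U hU e a V hVW]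
  exact Groth.Agent.Lib.helper28.SymAlg.φAdd_smul L 𝒮L.toQCAlg jL V _ _

include hj hO1 hφ hu in
theorem ring_identity (U : Y.Opens) (hU : IsAffineOpen U) (e a : Γ(E, U))
    (V : X.Opens) (hV : IsAffineOpen V) (hVW : V ≤ i ⁻¹ᵁ Wp E 𝒮 j p chart U hU e)
    (hle : V ≤ (i ≫ p) ⁻¹ᵁ U) :
    Away.map (u.gradedAt U hU V hV hle) (jE E 𝒮 j U e) (frac E 𝒮 j hj U hU e a) =
      (𝒮L.strZero V hV ≫ CommRingCat.ofHom (fromZeroRingHom (𝒮L.deg V hV)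
        (Submonoid.powers (u.gradedAt U hU V hV hle (jE E 𝒮 j U e))))).hom
        ((i.appLE (Wp E 𝒮 j p chart U hU e) V hVW).hom (fn E 𝒮 j hj p chart U hU e a)) := by
  apply HomogeneousLocalization.val_injective
  have hρ : ((𝒮L.strZero V hV ≫ CommRingCat.ofHom (fromZeroRingHom (𝒮L.deg V hV)
      (Submonoid.powers (u.gradedAt U hU V hV hle (jE E 𝒮 j U e))))).hom
      ((i.appLE (Wp E 𝒮 j p chart U hU e) V hVW).hom (fn E 𝒮 j hj p chart U hU e a))).val =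
      Localization.mk ((𝒮L.str.app (op V)).hom ((i.appLE (Wp E 𝒮 j p chart U hU e) V hVW).hom
        (fn E 𝒮 j hj p chart U hU e a))) 1 := rfl
  rw [hρ]
  unfold frac
  rw [Away.map_mk, Away.val_mk, Localization.mk_eq_mk_iff, Localization.r_iff_exists]
  refine ⟨1, ?_⟩
  simp only [OneMemClass.coe_one, one_mul, pow_one]
  have h := u_jE_eq E 𝒮 j hj p chart O1 lam hO1 φ hφ i L γ 𝒮L jL u hu U hU e a V hVW hle
  change (u.appLE U V hle).hom (jE E 𝒮 j U a) = (u.appLE U V hle).hom (jE E 𝒮 j U e) * _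
  rw [h, mul_comm]

include hj in
theorem tgt_le (U : Y.Opens) (hU : IsAffineOpen U) (e : Γ(E, U))
    (V : X.Opens) (hV : IsAffineOpen V) (hle : V ≤ (i ≫ p) ⁻¹ᵁ U) :
    (⊤ : (Spec (CommRingCat.of (Away (𝒮L.deg V hV)
      (u.gradedAt U hU V hV hle (jE E 𝒮 j U e))))).Opens) ≤
      (tgt u p chart U hU V hV hle one_pos (jE E 𝒮 j U e) (jE_mem E 𝒮 j hj U hU e)) ⁻¹ᵁ
        Wp E 𝒮 j p chart U hU e := by
  intro x _
  exact κ_le E 𝒮 j hj p chart U hU e (show ((Spec.map (CommRingCat.ofHom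
    (Away.map (u.gradedAt U hU V hV hle) (jE E 𝒮 j U e)))) x) ∈ ⊤ from trivial)

include hPL in
theorem awayEmb_pL (U : Y.Opens) (hU : IsAffineOpen U) (s : 𝒮.presheaf.obj (op U)) {d : ℕ}
    (hd : 0 < d) (hs : s ∈ 𝒮.deg U hU d)
    (V : X.Opens) (hV : IsAffineOpen V) (hle : V ≤ (i ≫ p) ⁻¹ᵁ U) :
    RelProj.awayEmb u pL chartL U hU V hV hle hd s hs ≫ pL =
      Spec.map (𝒮L.strZero V hV ≫ CommRingCat.ofHom (fromZeroRingHom (𝒮L.deg V hV)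
        (Submonoid.powers (u.gradedAt U hU V hV hle s)))) ≫ hV.fromSpec := by
  unfold RelProj.awayEmb
  rw [Category.assoc, Groth.Agent.Lib.helper28.RelProjBC.emb_comp_p hPL V hV, Category.assoc,
    Proj.awayι_toSpecZero_assoc, Spec.map_comp, Category.assoc]

include hj hO1 hφ hu hPL in
/-- On the standard chart over an affine `V ≤ i⁻¹ Wp`, the morphism `pL ≫ i` is the prescribed
one. -/
theorem awayEmb_comp_eq_tgt (U : Y.Opens) (hU : IsAffineOpen U) (e : Γ(E, U))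
    (V : X.Opens) (hV : IsAffineOpen V) (hVW : V ≤ i ⁻¹ᵁ Wp E 𝒮 j p chart U hU e)
    (hle : V ≤ (i ≫ p) ⁻¹ᵁ U) :
    RelProj.awayEmb u pL chartL U hU V hV hle one_pos (jE E 𝒮 j U e)
        (jE_mem E 𝒮 j hj U hU e) ≫ pL ≫ i =
      tgt u p chart U hU V hV hle one_pos (jE E 𝒮 j U e) (jE_mem E 𝒮 j hj U hU e) := by
  have hW := isAffineOpen_Wp E 𝒮 j hj p chart U hU e
  set ζ := 𝒮L.strZero V hV ≫ CommRingCat.ofHom (fromZeroRingHom (𝒮L.deg V hV)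
    (Submonoid.powers (u.gradedAt U hU V hV hle (jE E 𝒮 j U e)))) with hζ
  set θ := CommRingCat.ofHom (Away.map (u.gradedAt U hU V hV hle) (jE E 𝒮 j U e)) with hθ
  have hg1 : RelProj.awayEmb u pL chartL U hU V hV hle one_pos (jE E 𝒮 j U e)
      (jE_mem E 𝒮 j hj U hU e) ≫ pL ≫ i = Spec.map ζ ≫ hV.fromSpec ≫ i := by
    rw [← Category.assoc, awayEmb_pL 𝒮 p i 𝒮L u pL chartL hPL U hU _ one_pos
      (jE_mem E 𝒮 j hj U hU e) V hV hle, Category.assoc]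
  have hg2 : tgt u p chart U hU V hV hle one_pos (jE E 𝒮 j U e) (jE_mem E 𝒮 j hj U hU e) =
      Spec.map θ ≫ κ E 𝒮 j hj p chart U hU e := rfl
  rw [hg1]
  have e1 : (⊤ : (Spec Γ(X, V)).Opens) ≤ hV.fromSpec ⁻¹ᵁ V := by
    rw [hV.fromSpec_preimage_self]
  have e2 : (⊤ : (Spec Γ(X, V)).Opens) ≤ (hV.fromSpec ≫ i) ⁻¹ᵁ Wp E 𝒮 j p chart U hU e :=
    e1.trans (hV.fromSpec.preimage_mono hVW)
  have h₁ : (⊤ : (Spec (CommRingCat.of (Away (𝒮L.deg V hV)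
      (u.gradedAt U hU V hV hle (jE E 𝒮 j U e))))).Opens) ≤
      (Spec.map ζ ≫ hV.fromSpec ≫ i) ⁻¹ᵁ Wp E 𝒮 j p chart U hU e := by
    intro x _
    exact e2 (show (Spec.map ζ) x ∈ ⊤ from trivial)
  refine ext_of_appLE _ _ (Wp E 𝒮 j p chart U hU e) hW h₁
    (tgt_le E 𝒮 j hj p chart i 𝒮L u U hU e V hV hle) ?_
  -- the two ring homomorphisms on `Γ(P, Wp)`
  have e3 : (⊤ : (Spec (CommRingCat.of (Away (𝒮L.deg V hV)
      (u.gradedAt U hU V hV hle (jE E 𝒮 j U e))))).Opens) ≤ Spec.map ζ ⁻¹ᵁ ⊤ := fun _ _ => trivial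
  have e4 : (⊤ : (Spec (CommRingCat.of (Away (𝒮L.deg V hV)
      (u.gradedAt U hU V hV hle (jE E 𝒮 j U e))))).Opens) ≤ Spec.map θ ⁻¹ᵁ ⊤ := fun _ _ => trivial
  have ha1 : (Spec.map ζ ≫ hV.fromSpec ≫ i).appLE (Wp E 𝒮 j p chart U hU e) ⊤ h₁ =
      i.appLE (Wp E 𝒮 j p chart U hU e) V hVW ≫ (Scheme.ΓSpecIso Γ(X, V)).inv ≫
        (Spec.map ζ).appLE ⊤ ⊤ e3 := by
    have a := Scheme.Hom.appLE_comp_appLE hV.fromSpec i _ _ _ hVW e1
    have b := Scheme.Hom.appLE_comp_appLE (Spec.map ζ) (hV.fromSpec ≫ i) _ _ _ e2 e3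
    rw [← fromSpec_appLE hV e1]
    refine b.symm.trans ?_
    rw [← a, Category.assoc]
  have ha2 : (tgt u p chart U hU V hV hle one_pos (jE E 𝒮 j U e)
      (jE_mem E 𝒮 j hj U hU e)).appLE (Wp E 𝒮 j p chart U hU e) ⊤
      (tgt_le E 𝒮 j hj p chart i 𝒮L u U hU e V hV hle) =
      (κ E 𝒮 j hj p chart U hU e).appLE (Wp E 𝒮 j p chart U hU e) ⊤
        (κ_le E 𝒮 j hj p chart U hU e) ≫ (Spec.map θ).appLE ⊤ ⊤ e4 := by
    have b := Scheme.Hom.appLE_comp_appLE (Spec.map θ) (κ E 𝒮 j hj p chart U hU e) _ _ _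
      (κ_le E 𝒮 j hj p chart U hU e) e4
    exact b.symm
  -- `Γ(P, Wp) ≃ 𝒮(U)_(j e)`
  have hε := bijective_appLE_of_opensRange_eq (κ E 𝒮 j hj p chart U hU e)
    (Wp E 𝒮 j p chart U hU e) (opensRange_κ E 𝒮 j hj p chart U hU e)
    (κ_le E 𝒮 j hj p chart U hU e)
  have hΓ : Function.Bijective (Scheme.ΓSpecIso (CommRingCat.of (Away (𝒮.deg U hU)
      (jE E 𝒮 j U e)))).hom.hom :=
    (ConcreteCategory.isIso_iff_bijective (Scheme.ΓSpecIso _).hom).mp inferInstance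
  let εE : Γ(P, Wp E 𝒮 j p chart U hU e) ≃+* Away (𝒮.deg U hU) (jE E 𝒮 j U e) :=
    RingEquiv.ofBijective ((Scheme.ΓSpecIso (CommRingCat.of (Away (𝒮.deg U hU)
      (jE E 𝒮 j U e)))).hom.hom.comp ((κ E 𝒮 j hj p chart U hU e).appLE
        (Wp E 𝒮 j p chart U hU e) ⊤ (κ_le E 𝒮 j hj p chart U hU e)).hom) (hΓ.comp hε)
  have hεfn : ∀ a, εE.symm (frac E 𝒮 j hj U hU e a) = fn E 𝒮 j hj p chart U hU e a := by
    intro a
    rw [RingEquiv.symm_apply_eq]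
    symm
    change (Scheme.ΓSpecIso _).hom.hom (((κ E 𝒮 j hj p chart U hU e).appLE
      (Wp E 𝒮 j p chart U hU e) ⊤ (κ_le E 𝒮 j hj p chart U hU e)).hom
      (fn E 𝒮 j hj p chart U hU e a)) = _
    rw [κ_appLE_fn]
    exact congrArg (fun k : CommRingCat.of (Away (𝒮.deg U hU) (jE E 𝒮 j U e)) ⟶
        CommRingCat.of (Away (𝒮.deg U hU) (jE E 𝒮 j U e)) => k.hom (frac E 𝒮 j hj U hU e a))
      (Scheme.ΓSpecIso (CommRingCat.of (Away (𝒮.deg U hU) (jE E 𝒮 j U e)))).inv_hom_id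
  apply CommRingCat.hom_ext
  have key := away_hom_ext E 𝒮 j hj U hU e
    (((Spec.map ζ ≫ hV.fromSpec ≫ i).appLE (Wp E 𝒮 j p chart U hU e) ⊤ h₁).hom.comp
      εE.symm.toRingHom)
    (((tgt u p chart U hU V hV hle one_pos (jE E 𝒮 j U e)
      (jE_mem E 𝒮 j hj U hU e)).appLE (Wp E 𝒮 j p chart U hU e) ⊤
      (tgt_le E 𝒮 j hj p chart i 𝒮L u U hU e V hV hle)).hom.comp εE.symm.toRingHom) ?_
  · refine RingHom.ext fun t => ?_
    have := congrArg (fun k => k (εE t)) key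
    simp only [RingHom.comp_apply, RingEquiv.toRingHom_eq_coe, RingHom.coe_coe,
      RingEquiv.symm_apply_apply] at this
    exact this
  · intro a
    change ((Spec.map ζ ≫ hV.fromSpec ≫ i).appLE (Wp E 𝒮 j p chart U hU e) ⊤ h₁).hom
        (εE.symm (frac E 𝒮 j hj U hU e a)) =
      ((tgt u p chart U hU V hV hle one_pos (jE E 𝒮 j U e)
        (jE_mem E 𝒮 j hj U hU e)).appLE (Wp E 𝒮 j p chart U hU e) ⊤
        (tgt_le E 𝒮 j hj p chart i 𝒮L u U hU e V hV hle)).hom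
        (εE.symm (frac E 𝒮 j hj U hU e a))
    rw [hεfn, ha1, ha2]
    simp only [CommRingCat.hom_comp, RingHom.comp_apply]
    rw [κ_appLE_fn]
    have hs1 := congrArg (fun k => k.hom ((i.appLE (Wp E 𝒮 j p chart U hU e) V hVW).hom
      (fn E 𝒮 j hj p chart U hU e a))) (specMap_appLE_top ζ e3)
    have hs2 := congrArg (fun k => k.hom (frac E 𝒮 j hj U hU e a)) (specMap_appLE_top θ e4)
    simp only [CommRingCat.hom_comp, RingHom.comp_apply] at hs1 hs2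
    rw [hs1, hs2]
    congr 1
    exact (ring_identity E 𝒮 j hj p chart O1 lam hO1 φ hφ i L γ 𝒮L jL u hu U hU e a V hV hVW
      hle).symm

include hj in
/-- Every point of `X` has an affine neighbourhood `V ≤ i⁻¹ Wp(U, e)`. -/
theorem exists_chart (x : X) :
    ∃ (U : Y.Opens) (hU : IsAffineOpen U) (e : Γ(E, U)) (V : X.Opens) (_ : IsAffineOpen V),
      V ≤ i ⁻¹ᵁ Wp E 𝒮 j p chart U hU e ∧ x ∈ V := by
  obtain ⟨U, hU, hxU, -⟩ := (Opens.isBasis_iff_nbhd.mp Y.isBasis_affineOpens)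
    (show p (i x) ∈ (⊤ : Y.Opens) from trivial)
  have hr : i x ∈ Set.range (RelProj.emb p chart U hU) := by
    rw [range_emb]
    exact hxU
  obtain ⟨y, hy⟩ := hr
  obtain ⟨e, he⟩ := Groth.Agent.Lib.helper28.ProjBundleEpi.exists_notMem E 𝒮 j hj U hU y
  have hW : x ∈ i ⁻¹ᵁ Wp E 𝒮 j p chart U hU e :=
    ⟨y, (ProjectiveSpectrum.mem_basicOpen _ _ _).mpr he, hy⟩
  obtain ⟨V, hV, hxV, hVW⟩ := (Opens.isBasis_iff_nbhd.mp X.isBasis_affineOpens) hW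
  exact ⟨U, hU, e, V, hV, hVW, hxV⟩

include hj hO1 hφ hjL hu in
/-- **Lemma R, part 1**: the morphism induced by `u` is everywhere defined. -/
theorem domQ_eq_top [IsIso γ] : RelProj.domQ u pL chartL = ⊤ := by
  rw [eq_top_iff]
  intro z _
  obtain ⟨U, hU, e, V, hV, hVW, hxV⟩ := exists_chart E 𝒮 j hj p chart i (pL z)
  exact Groth.Agent.Lib.helper28.SymLineAmpleImm.mem_domQ_of_mem_XT u hjL U hU one_pos
    (jE E 𝒮 j U e) (jE_mem E 𝒮 j hj U hU e) z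
    (le_XT E 𝒮 j hj p chart O1 lam hO1 φ hφ i L γ 𝒮L jL hjL u hu U hU e V hV hVW hxV)

include hj hO1 hφ hjL hu hPL in
/-- **Lemma R, part 2**: the morphism induced by `u` is `pL ≫ i`. -/
theorem eq_of_isProjQMapOn [IsIso γ]
    (r : ((RelProj.domQ u pL chartL : PL.Opens) : Scheme.{u}) ⟶ P)
    (hr : RelProj.IsProjQMapOn u p chart pL chartL (RelProj.domQ u pL chartL) r) :
    r = (RelProj.domQ u pL chartL).ι ≫ pL ≫ i := by
  have hr' := (Groth.Agent.Lib.helper28.ProjQComp.isProjQMapOn_iff u r).mp hr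
  refine Groth.Agent.Lib.helper28.RelSpecMap.hom_ext_of_local _ _ fun z => ?_
  obtain ⟨U, hU, e, V, hV, hVW, hxV⟩ := exists_chart E 𝒮 j hj p chart i (pL z.1)
  have hle : V ≤ (i ≫ p) ⁻¹ᵁ U :=
    hVW.trans (i.preimage_mono (Wp_le E 𝒮 j p chart U hU e))
  refine ⟨_, stdChart u pL chartL U hU V hV hle one_pos (jE E 𝒮 j U e)
    (jE_mem E 𝒮 j hj U hU e), inferInstance, ?_, ?_⟩
  · have hzr : z.1 ∈ Set.range (RelProj.emb pL chartL V hV) := by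
      rw [range_emb]
      exact hxV
    obtain ⟨y, hy⟩ := hzr
    have hty := Groth.Agent.Lib.helper28.SymLineGen.notMem_of_deg_subset_span L 𝒮L jL hjL V hV
      ((u.appLE U V hle).hom (jE E 𝒮 j U e))
      (deg_one_subset_span E 𝒮 j hj p chart O1 lam hO1 φ hφ i L γ 𝒮L jL hjL u hu U hU e V hV
        hVW hle) y
    obtain ⟨w, hw⟩ := (mem_range_awayEmb_iff u pL chartL U hU V hV hle one_pos (jE E 𝒮 j U e)
      (jE_mem E 𝒮 j hj U hU e) z.1).mpr ⟨y, hy, hty⟩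
    refine ⟨w, Subtype.ext ?_⟩
    have h1 := congrArg (fun k => k.base w) (stdChart_ι u pL chartL U hU V hV hle one_pos
      (jE E 𝒮 j U e) (jE_mem E 𝒮 j hj U hU e))
    exact h1.trans hw
  · rw [hr', ← Category.assoc, stdChart_ι, awayEmb_comp_eq_tgt E 𝒮 j hj p chart O1 lam hO1 φ hφ
      i L γ 𝒮L jL u hu pL chartL hPL U hU e V hV hVW hle]

end Main

end Groth.Agent.Lib.helper28.ProjBundleHom
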