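import Groth.Agent.Lib.Helper28.ProjPnAbs
import Groth.Agent.Lib.Helper28.ProjBundleFT
import Groth.Agent.Lib.Helper28.SymDegEq
import Groth.Agent.Lib.Helper28.RelTwistChart

/-!
# `O_{P(E)}(1)` is very ample relative to some `P^n_Y` for `E` of finite type on an affine `Y`
(helper28)

* `strZero_surjective`, `adjoin_eq_top`, `exists_notMem_of_span`: the graded symmetric algebra of a
  quasi-coherent module over an affine open, in terms of generators of the module.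
* `isRelVeryAmplePn`: for `Y` affine and `E` quasi-coherent of finite type, `O_{P(E)}(1)` is
  isomorphic to the inverse image of `O(1)` along an immersion of `P(E)` into some `P^n_Y` over `Y`.
-/

set_option autoImplicit false
set_option linter.unusedSectionVars false
universe u

open CategoryTheory CategoryTheory.Limits AlgebraicGeometry TopologicalSpace Opposite
open scoped HomogeneousIdeal

namespace Groth.Agent.Lib.helper28.ProjBundlePn

open Groth.Agent.Lib.helper28.RelTwistChart Groth.Agent.Lib.helper28.ProjBundleEpi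
  Groth.Agent.Lib.helper28.SymAlg Groth.Agent.Lib.helper28.SymSheaf
  Groth.Agent.Lib.helper28.SymAlgGrading Groth.Agent.Lib.helper28.SymGradedExists

variable {Y P : Scheme.{u}} (E : Y.Modules) [E.IsQuasicoherent]
  (𝒯 : RelProj.QCGrAlg Y) (j : E ⟶ 𝒯.toModule) (hj : RelProj.IsGrSymAlg E 𝒯 j)

include hj in
theorem strZero_surjective (U : Y.Opens) (hU : IsAffineOpen U) :
    Function.Surjective (𝒯.strZero U hU).hom := by
  rintro ⟨y, hy⟩
  obtain ⟨x, hx, rfl⟩ := (SymDegEq.mem_deg_iff E 𝒯 j hj U hU 0 y).mp hy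
  have hx' : x ∈ (1 : Submodule Γ(Y, U) (SymmetricAlgebra Γ(Y, U) Γ(E, U))) := by
    have h0 : symPow Γ(Y, U) Γ(E, U) 0 = 1 := pow_zero _
    rw [← h0]
    exact hx
  rw [Submodule.mem_one] at hx'
  obtain ⟨r, rfl⟩ := hx'
  exact ⟨r, Subtype.ext (liftU_algebraMap E 𝒯.toQCAlg j U r).symm⟩

include hj in
/-- `𝒯(U)` is generated over its degree zero part by the images of generators of `E(U)`. -/
theorem adjoin_eq_top (U : Y.Opens) (hU : IsAffineOpen U) (S : Finset Γ(E, U))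
    (hS : ∀ e : Γ(E, U), ∃ c : Γ(E, U) → Γ(Y, U), e = ∑ s ∈ S, c s • s)
    {I : Type*} (f : I → 𝒯.presheaf.obj (op U)) (hfS : ∀ s ∈ S, ∃ i, f i = jE E 𝒯 j U s) :
    Algebra.adjoin (𝒯.deg U hU 0) (Set.range f) = ⊤ := by
  rw [eq_top_iff]
  rintro y -
  obtain ⟨x, rfl⟩ := (eU E 𝒯.toQCAlg j hj.1 U hU).surjective y
  rw [eU_apply]
  induction x using SymmetricAlgebra.induction with
  | algebraMap r =>
    rw [liftU_algebraMap]
    exact Subalgebra.algebraMap_mem _ (⟨_, 𝒯.str_mem U hU r⟩ : 𝒯.deg U hU 0)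
  | ι m =>
    rw [liftU_ι]
    obtain ⟨c, hc⟩ := hS m
    have h1 : (j.app U).hom m = ∑ s ∈ S, (𝒯.str.app (op U)).hom (c s) * jE E 𝒯 j U s := by
      rw [hc]
      exact ProjBundleFT.j_sum_smul E 𝒯 j U S c
    rw [h1]
    refine Subalgebra.sum_mem _ fun s hs => Subalgebra.mul_mem _ ?_ ?_
    · exact Subalgebra.algebraMap_mem _ (⟨_, 𝒯.str_mem U hU (c s)⟩ : 𝒯.deg U hU 0)
    · obtain ⟨i, hi⟩ := hfS s hs
      rw [← hi]
      exact Algebra.subset_adjoin ⟨i, rfl⟩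
  | mul a b ha hb =>
    rw [map_mul]
    exact Subalgebra.mul_mem _ ha hb
  | add a b ha hb =>
    rw [map_add]
    exact Subalgebra.add_mem _ ha hb

include hj in
theorem exists_notMem_of_span (U : Y.Opens) (hU : IsAffineOpen U) (S : Finset Γ(E, U))
    (hS : ∀ e : Γ(E, U), ∃ c : Γ(E, U) → Γ(Y, U), e = ∑ s ∈ S, c s • s)
    (x : ProjectiveSpectrum (𝒯.deg U hU)) :
    ∃ s ∈ S, jE E 𝒯 j U s ∉ x.asHomogeneousIdeal := by
  by_contra hcon
  obtain ⟨e, he⟩ := exists_notMem E 𝒯 j hj U hU x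
  apply he
  obtain ⟨c, hc⟩ := hS e
  rw [hc, ProjBundleFT.j_sum_smul E 𝒯 j U S c]
  refine Ideal.sum_mem _ fun s hs => Ideal.mul_mem_left _ _ ?_
  by_contra h
  exact hcon ⟨s, hs, h⟩

variable (hE : CohB1.IsFT E) (p : P ⟶ Y)
  (chart : ∀ (U : Y.Opens) (hU : IsAffineOpen U),
    (((p ⁻¹ᵁ U : P.Opens) : Scheme.{u}) ≅ Proj (𝒯.deg U hU)))
  (hP : RelProj.IsRelProj 𝒯 p chart) (O1 : P.Modules)
  (lam : ∀ (U : Y.Opens) (hU : IsAffineOpen U),
    O1 ⟶ (Scheme.Modules.pushforward (RelProj.emb p chart U hU)).obj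
      (GrTwist.twist (𝒯.deg U hU) 1))
  (hO1 : RelProj.IsRelTwist 𝒯 p chart 1 O1 lam)

include hj hE hP hO1 in
/-- **`O_{P(E)}(1)` is very ample relative to some `P^n_Y`**, for `Y` affine and `E` of finite
type. -/
theorem isRelVeryAmplePn [IsAffine Y] : RelAmple.IsRelVeryAmplePn p O1 := by
  classical
  have hU : IsAffineOpen (⊤ : Y.Opens) := isAffineOpen_top Y
  obtain ⟨S, hS⟩ := ProjBundleFT.exists_finset_span E hE ⊤ hU
  let f : Option ↥S → 𝒯.presheaf.obj (op (⊤ : Y.Opens)) :=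
    fun o => o.elim 0 (fun s => jE E 𝒯 j ⊤ s.1)
  have hf : ∀ o, f o ∈ 𝒯.deg ⊤ hU 1 := by
    rintro (_ | s)
    · exact zero_mem _
    · exact hj.2 ⊤ hU s.1
  have hadj : Algebra.adjoin (𝒯.deg ⊤ hU 0) (Set.range f) = ⊤ :=
    adjoin_eq_top E 𝒯 j hj ⊤ hU S hS f (fun s hs => ⟨some ⟨s, hs⟩, rfl⟩)
  have hcov : ∀ x : ProjectiveSpectrum (𝒯.deg ⊤ hU), ∃ l, f l ∉ x.asHomogeneousIdeal := by
    intro x
    obtain ⟨s, hs, hsx⟩ := exists_notMem_of_span E 𝒯 j hj ⊤ hU S hS x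
    exact ⟨some ⟨s, hs⟩, hsx⟩
  obtain ⟨n, i', hi', hi'snd, ⟨τ⟩⟩ := ProjPnAbs.isRelVeryAmplePn_proj (𝒯.deg ⊤ hU) ⊤ hU
    (𝒯.strZero ⊤ hU) f hf (strZero_surjective E 𝒯 j hj ⊤ hU) hadj hcov
  have hiso : IsIso (RelProj.emb p chart ⊤ hU) := by
    apply isIso_of_isOpenImmersion_of_opensRange_eq_top
    ext x
    simp only [Scheme.Hom.coe_opensRange, Opens.coe_top, Set.mem_univ, iff_true]
    rw [range_emb]
    trivial
  have hcomp := RelTwistCanon.emb_comp_p hP ⊤ hU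
  refine ⟨n, inv (RelProj.emb p chart ⊤ hU) ≫ i', inferInstance, ?_, ⟨?_⟩⟩
  · refine (Category.assoc _ _ _).trans ?_
    rw [hi'snd, ← hcomp, IsIso.inv_hom_id_assoc]
  · have e1 : O1 ≅ (Scheme.Modules.pullback (inv (RelProj.emb p chart ⊤ hU))).obj
        ((Scheme.Modules.pullback (RelProj.emb p chart ⊤ hU)).obj O1) :=
      ((Scheme.Modules.pullbackId P).app O1).symm ≪≫
        (Scheme.Modules.pullbackCongr (IsIso.inv_hom_id (RelProj.emb p chart ⊤ hU)).symm).app O1 ≪≫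
        ((Scheme.Modules.pullbackComp (inv (RelProj.emb p chart ⊤ hU))
          (RelProj.emb p chart ⊤ hU)).app O1).symm
    have e2 : (Scheme.Modules.pullback (RelProj.emb p chart ⊤ hU)).obj O1 ≅
        GrTwist.twist (𝒯.deg ⊤ hU) ((1 : ℕ) : ℤ) :=
      ((Scheme.Modules.restrictFunctorIsoPullback (RelProj.emb p chart ⊤ hU)).app O1).symm ≪≫
        chartIso lam hO1 ⊤ hU
    exact e1 ≪≫ (Scheme.Modules.pullback (inv (RelProj.emb p chart ⊤ hU))).mapIso (e2 ≪≫ τ) ≪≫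
      (Scheme.Modules.pullbackComp (inv (RelProj.emb p chart ⊤ hU)) i').app _

end Groth.Agent.Lib.helper28.ProjBundlePn
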