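import Groth.Agent.Lib.Helper28.SymGraded
import Groth.Agent.Lib.Helper28.CoprodClosedImm
import Groth.Agent.Lib.Lead.RelProjLocal
import Groth.Agent.Lib.Helper7.QCohProd

set_option autoImplicit false

universe u

/-! `P(E) ⨿ P(F) ⟶ P(E ⊕ F)` is a closed immersion (helper28). -/

namespace Groth.Agent.Lib.helper28.ProjBundleSum

open CategoryTheory CategoryTheory.Limits AlgebraicGeometry TopologicalSpace Opposite
open Groth.Agent.Lib.helper28.SymAlg Groth.Agent.Lib.helper28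
open scoped HomogeneousIdeal

section ring

variable {A B₁ B₂ : Type u} [CommRing A] [CommRing B₁] [CommRing B₂]
  (𝒜 : ℕ → AddSubgroup A) [GradedRing 𝒜]
  (ℬ₁ : ℕ → AddSubgroup B₁) [GradedRing ℬ₁] (ℬ₂ : ℕ → AddSubgroup B₂) [GradedRing ℬ₂]
  (φ₁ : 𝒜 →+*ᵍ ℬ₁) (φ₂ : 𝒜 →+*ᵍ ℬ₂)

/-- The images of `Proj B₁` and `Proj B₂` in `Proj A` are disjoint if the irrelevant ideal of `A` is
generated by sums of an element killed by `φ₁` and an element killed by `φ₂`. -/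
theorem map_ne_map (h₁ : ℬ₁₊ ≤ (𝒜₊).map φ₁) (h₂ : ℬ₂₊ ≤ (𝒜₊).map φ₂) (T : Set A)
    (hT : (𝒜₊).toIdeal ≤ Ideal.span T)
    (hsplit : ∀ t ∈ T, ∃ t₁ t₂ : A, t = t₁ + t₂ ∧ φ₁ t₁ = 0 ∧ φ₂ t₂ = 0)
    (q₁ : Proj ℬ₁) (q₂ : Proj ℬ₂) : (Proj.map φ₁ h₁).base q₁ ≠ (Proj.map φ₂ h₂).base q₂ := by
  intro h
  obtain ⟨y, hy₁, hy₂⟩ : ∃ y : Proj 𝒜, y = (Proj.map φ₁ h₁).base q₁ ∧ y = (Proj.map φ₂ h₂).base q₂ :=
    ⟨_, rfl, h⟩
  apply y.not_irrelevant_le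
  change (𝒜₊).toIdeal ≤ y.asHomogeneousIdeal.toIdeal
  refine hT.trans (Ideal.span_le.mpr ?_)
  intro t ht
  obtain ⟨t₁, t₂, rfl, e₁, e₂⟩ := hsplit t ht
  refine Ideal.add_mem _ ?_ ?_
  · rw [hy₁]
    change φ₁ t₁ ∈ q₁.asHomogeneousIdeal
    rw [e₁]
    exact Ideal.zero_mem _
  · rw [hy₂]
    change φ₂ t₂ ∈ q₂.asHomogeneousIdeal
    rw [e₂]
    exact Ideal.zero_mem _

end ring

section retract

variable {Y : Scheme.{u}} {G : Y.Modules} {A B : RelSpec.QCAlg Y} (jB : G ⟶ B.toModule)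
  (hB : RelSpec.IsSymAlg G B jB) (π : A ⟶ B) (s : G ⟶ A.toModule)
  (hs : s ≫ RelSpec.QCAlg.Hom.toModuleMap π = jB)

include hB hs in
/-- A homomorphism onto a symmetric algebra `B` of `G` through which `G → B` lifts is
surjective on sections. -/
theorem surjective_of_lift (U : Y.Opens) : Function.Surjective (π.hom.app (op U)).hom := by
  obtain ⟨σ, hσ, -⟩ := hB A s
  obtain ⟨_, _, huniq⟩ := hB B jB
  have h1 : jB ≫ RelSpec.QCAlg.Hom.toModuleMap (σ ≫ π) = jB := by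
    rw [toModuleMap_comp, ← Category.assoc, hσ, hs]
  have h2 : jB ≫ RelSpec.QCAlg.Hom.toModuleMap (𝟙 B) = jB := by
    rw [toModuleMap_id, Category.comp_id]
  have h3 : σ ≫ π = 𝟙 B := (huniq _ h1).trans (huniq _ h2).symm
  intro y
  exact ⟨(σ.hom.app (op U)).hom y,
    congrArg (fun k : B ⟶ B => (k.hom.app (op U)).hom y) h3⟩

end retract

section closedImm

variable {Y PA PB : Scheme.{u}} {𝒜 ℬ : RelProj.QCGrAlg Y}
  (φ : 𝒜.toQCAlg ⟶ ℬ.toQCAlg) (hφ : RelProj.IsGradedHom φ)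
  (hirr : ∀ (U : Y.Opens) (hU : IsAffineOpen U),
    (ℬ.deg U hU)₊ ≤ ((𝒜.deg U hU)₊).map (RelProj.gradedHomAt φ hφ U hU))
  {pA : PA ⟶ Y} {pB : PB ⟶ Y}
  {chartA : ∀ (U : Y.Opens) (hU : IsAffineOpen U),
    (((pA ⁻¹ᵁ U : PA.Opens) : Scheme.{u}) ≅ Proj (𝒜.deg U hU))}
  {chartB : ∀ (U : Y.Opens) (hU : IsAffineOpen U),
    (((pB ⁻¹ᵁ U : PB.Opens) : Scheme.{u}) ≅ Proj (ℬ.deg U hU))}

include hirr in
/-- The morphism of relative Proj's induced by a graded homomorphism surjective over the affine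
opens is a closed immersion. -/
theorem isClosedImmersion_of_surjective (hA : RelProj.IsRelProj 𝒜 pA chartA)
    (hB : RelProj.IsRelProj ℬ pB chartB)
    (h : PB ⟶ PA) (hh : RelProj.IsRelProjMap φ hφ hirr chartA chartB h)
    (hsurj : ∀ (U : Y.Opens), IsAffineOpen U → Function.Surjective (φ.hom.app (op U)).hom) :
    IsClosedImmersion h := by
  refine Lead.RelProjLocal.of_forall_affine φ hφ hirr @IsClosedImmersion hA hB h hh ?_
  intro U hU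
  refine Lead.ProjMapG.map_of_forall_away @IsClosedImmersion _ _ ?_
  intro i hi s hs
  exact IsClosedImmersion.spec_of_surjective _
    (Lead.ProjMapG.away_map_surjective (RelProj.gradedHomAt φ hφ U hU) (hsurj U hU) s hs)

end closedImm

section main

variable {Y PE PF P : Scheme.{u}} (E F : Y.Modules) [E.IsQuasicoherent] [F.IsQuasicoherent]
  (𝒮E 𝒮F 𝒮 : RelProj.QCGrAlg Y)
  (jE : E ⟶ 𝒮E.toModule) (hjE : RelProj.IsGrSymAlg E 𝒮E jE)
  (jF : F ⟶ 𝒮F.toModule) (hjF : RelProj.IsGrSymAlg F 𝒮F jF)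
  (j : E ⊞ F ⟶ 𝒮.toModule) (hj : RelProj.IsGrSymAlg (E ⊞ F) 𝒮 j)
  (πE : 𝒮.toQCAlg ⟶ 𝒮E.toQCAlg) (hπE : RelProj.IsGradedHom πE)
  (hjπE : j ≫ RelSpec.QCAlg.Hom.toModuleMap πE = biprod.fst ≫ jE)
  (πF : 𝒮.toQCAlg ⟶ 𝒮F.toQCAlg) (hπF : RelProj.IsGradedHom πF)
  (hjπF : j ≫ RelSpec.QCAlg.Hom.toModuleMap πF = biprod.snd ≫ jF)
  (hirrE : ∀ (U : Y.Opens) (hU : IsAffineOpen U),
    (𝒮E.deg U hU)₊ ≤ ((𝒮.deg U hU)₊).map (RelProj.gradedHomAt πE hπE U hU))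
  (hirrF : ∀ (U : Y.Opens) (hU : IsAffineOpen U),
    (𝒮F.deg U hU)₊ ≤ ((𝒮.deg U hU)₊).map (RelProj.gradedHomAt πF hπF U hU))
  (p : P ⟶ Y) (pE : PE ⟶ Y) (pF : PF ⟶ Y)
  (chart : ∀ (U : Y.Opens) (hU : IsAffineOpen U),
    ((p ⁻¹ᵁ U : P.Opens) : Scheme.{u}) ≅ Proj (𝒮.deg U hU))
  (chartE : ∀ (U : Y.Opens) (hU : IsAffineOpen U),
    ((pE ⁻¹ᵁ U : PE.Opens) : Scheme.{u}) ≅ Proj (𝒮E.deg U hU))
  (chartF : ∀ (U : Y.Opens) (hU : IsAffineOpen U),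
    ((pF ⁻¹ᵁ U : PF.Opens) : Scheme.{u}) ≅ Proj (𝒮F.deg U hU))
  (hP : RelProj.IsRelProj 𝒮 p chart) (hPE : RelProj.IsRelProj 𝒮E pE chartE)
  (hPF : RelProj.IsRelProj 𝒮F pF chartF)
  (hE' : PE ⟶ P) (hhE : RelProj.IsRelProjMap πE hπE hirrE chart chartE hE')
  (hF' : PF ⟶ P) (hhF : RelProj.IsRelProjMap πF hπF hirrF chart chartF hF')

include hjπE in
theorem πE_j_inr (U : Y.Opens) (f : Γ(F, U)) :
    (πE.hom.app (op U)).hom (show 𝒮.presheaf.obj (op U) from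
      (j.app U).hom ((biprod.inr : F ⟶ E ⊞ F).app U f)) = 0 := by
  have h : biprod.inr ≫ j ≫ RelSpec.QCAlg.Hom.toModuleMap πE = 0 := by
    rw [hjπE, biprod.inr_fst_assoc, zero_comp]
  exact congrArg (fun k : F ⟶ 𝒮E.toModule => (k.app U).hom f) h

include hjπF in
theorem πF_j_inl (U : Y.Opens) (e : Γ(E, U)) :
    (πF.hom.app (op U)).hom (show 𝒮.presheaf.obj (op U) from
      (j.app U).hom ((biprod.inl : E ⟶ E ⊞ F).app U e)) = 0 := by
  have h : biprod.inl ≫ j ≫ RelSpec.QCAlg.Hom.toModuleMap πF = 0 := by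
    rw [hjπF, biprod.inl_snd_assoc, zero_comp]
  exact congrArg (fun k : E ⟶ 𝒮F.toModule => (k.app U).hom e) h

theorem j_split (U : Y.Opens) (x : Γ(E ⊞ F, U)) :
    (show 𝒮.presheaf.obj (op U) from (j.app U).hom x) =
      (show 𝒮.presheaf.obj (op U) from (j.app U).hom ((biprod.inr : F ⟶ E ⊞ F).app U
        ((biprod.snd : E ⊞ F ⟶ F).app U x))) +
      (show 𝒮.presheaf.obj (op U) from (j.app U).hom ((biprod.inl : E ⟶ E ⊞ F).app U
        ((biprod.fst : E ⊞ F ⟶ E).app U x))) := by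
  have h : j = biprod.snd ≫ biprod.inr ≫ j + biprod.fst ≫ biprod.inl ≫ j := by
    rw [← Category.assoc, ← Category.assoc, ← Preadditive.add_comp, add_comm, biprod.total,
      Category.id_comp]
  exact congrArg (fun k : E ⊞ F ⟶ 𝒮.toModule => (k.app U).hom x) h

include hj hjπE hjπF hP hPE hPF hhE hhF in
theorem disjoint_range : Disjoint (Set.range hE') (Set.range hF') := by
  have : (E ⊞ F).IsQuasicoherent :=
    Groth.Agent.Lib.helper7.QCohProd.isQuasicoherent_biprod E F inferInstance inferInstance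
  rw [Set.disjoint_iff_forall_ne]
  rintro _ ⟨a, rfl⟩ _ ⟨b, rfl⟩ hab
  have hcE : hE' ≫ p = pE := Lead.RelProjLocal.comp_eq πE hπE hirrE hP hPE hE' hhE
  have hcF : hF' ≫ p = pF := Lead.RelProjLocal.comp_eq πF hπF hirrF hP hPF hF' hhF
  obtain ⟨_, ⟨U, hU : IsAffineOpen U, rfl⟩, hyU, -⟩ :=
    Y.isBasis_affineOpens.exists_subset_of_mem_open (Set.mem_univ (p (hE' a))) isOpen_univ
  have ha : a ∈ pE ⁻¹ᵁ U := by
    change pE a ∈ U
    rw [← hcE, Scheme.Hom.comp_apply]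
    exact hyU
  have hb : b ∈ pF ⁻¹ᵁ U := by
    change pF b ∈ U
    rw [← hcF, Scheme.Hom.comp_apply, ← hab]
    exact hyU
  have e1 := congrArg (fun k => k.base ⟨a, ha⟩) (hhE U hU)
  have e2 := congrArg (fun k => k.base ⟨b, hb⟩) (hhF U hU)
  simp only [Scheme.Hom.comp_apply] at e1 e2
  have e1' : hE' a = (p ⁻¹ᵁ U).ι ((chart U hU).inv ((Proj.map (RelProj.gradedHomAt πE hπE U hU)
      (hirrE U hU)) ((chartE U hU).hom ⟨a, ha⟩))) := e1
  have e2' : hF' b = (p ⁻¹ᵁ U).ι ((chart U hU).inv ((Proj.map (RelProj.gradedHomAt πF hπF U hU)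
      (hirrF U hU)) ((chartF U hU).hom ⟨b, hb⟩))) := e2
  rw [e1', e2'] at hab
  have h3 := (p ⁻¹ᵁ U).ι.isOpenEmbedding.injective hab
  have hinj : Function.Injective (chart U hU).inv := by
    intro x y hxy
    have := congrArg (chart U hU).hom hxy
    rwa [← Scheme.Hom.comp_apply, ← Scheme.Hom.comp_apply, Iso.inv_hom_id] at this
  have h4 := hinj h3
  refine map_ne_map (𝒮.deg U hU) (𝒮E.deg U hU) (𝒮F.deg U hU) _ _ (hirrE U hU) (hirrF U hU)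
    (SymGraded.jSet (E ⊞ F) 𝒮.toQCAlg j U) (SymGraded.irrelevant_le_span (E ⊞ F) 𝒮 j hj U hU) ?_
    _ _ h4
  rintro _ ⟨x, rfl⟩
  exact ⟨_, _, j_split E F 𝒮 j U x, πE_j_inr E F 𝒮E 𝒮 jE j πE hjπE U _,
    πF_j_inl E F 𝒮F 𝒮 jF j πF hjπF U _⟩

include hjE hjF hj hjπE hjπF hP hPE hPF hhE hhF in
theorem isClosedImmersion_coprodDesc : IsClosedImmersion (coprod.desc hE' hF') := by
  have hsE : ∀ (U : Y.Opens), IsAffineOpen U → Function.Surjective (πE.hom.app (op U)).hom :=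
    fun U _ => surjective_of_lift jE hjE.1 πE (biprod.inl ≫ j)
      (by rw [Category.assoc, hjπE, biprod.inl_fst_assoc]) U
  have hsF : ∀ (U : Y.Opens), IsAffineOpen U → Function.Surjective (πF.hom.app (op U)).hom :=
    fun U _ => surjective_of_lift jF hjF.1 πF (biprod.inr ≫ j)
      (by rw [Category.assoc, hjπF, biprod.inr_snd_assoc]) U
  have : IsClosedImmersion hE' :=
    isClosedImmersion_of_surjective πE hπE hirrE hP hPE hE' hhE hsE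
  have : IsClosedImmersion hF' :=
    isClosedImmersion_of_surjective πF hπF hirrF hP hPF hF' hhF hsF
  exact CoprodClosedImm.isClosedImmersion_coprodDesc hE' hF'
    (disjoint_range E F 𝒮E 𝒮F 𝒮 jE jF j hj πE hπE hjπE πF hπF hjπF hirrE hirrF p pE pF chart chartE
      chartF hP hPE hPF hE' hhE hF' hhF)

end main

end Groth.Agent.Lib.helper28.ProjBundleSum
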