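import Groth.Agent.Lib.Helper28.ProjIdealGen1

/-!
# Generators of an ideal sheaf on projective space in one degree (helper28)

Block B7 of helper20's plan for S11924.
* `exists_generators_ideal`: for an ideal sheaf `J` on `P = Proj A[X_0..X_n]` (`A` Noetherian) there
  are `d > 0` and finitely many `g_j` homogeneous of degree `d` such that on every affine open `U` of
  every chart `D₊(X_l)` the functions `g_j / X_l^d` generate `J(U)`;
* `exists_generators`: the case `J = ι.ker` of a closed immersion `ι : X ⟶ P`.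
-/

set_option autoImplicit false
set_option linter.unusedSectionVars false
set_option linter.style.haveILetI false
universe u
open CategoryTheory CategoryTheory.Limits AlgebraicGeometry Opposite TopologicalSpace

namespace Groth.Agent.Lib.helper28.ProjIdealGen

open Groth.Agent.Lib.Helper20.GKS Groth.Agent.Lib.helper28.TwistFree
  Groth.Agent.Lib.helper28.ProjSec

noncomputable section

variable {n : ℕ} {A : Type u} [CommRing A]

local notation "𝒜ₙ" => CohB1.polyGrading n A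
local notation "S" => MvPolynomial (Fin (n + 1)) A

/-- a homogeneous polynomial all of whose dehomogenizations are sections of `J` gives a section of
`J` over every affine open of every chart -/
theorem gam_mem_of_forall (J : (Proj 𝒜ₙ).IdealSheafData) {d : ℕ} (q : 𝒜ₙ d)
    (hq : ∀ i, gam i (D i) (inChart_D i) q ∈ J.ideal (Da i)) (l : Fin (n + 1))
    (U : (Proj 𝒜ₙ).Opens) (hU : IsAffineOpen U) (hUl : InChart l U) :
    gam l U hUl q ∈ J.ideal ⟨U, hU⟩ := by
  have hle : U ≤ D l := (inChart_iff_le l U).mp hUl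
  have hle' : (⟨U, hU⟩ : (Proj 𝒜ₙ).affineOpens) ≤ Da l := hle
  have h1 := J.ideal_le_comap_ideal hle' (hq l)
  rw [Ideal.mem_comap] at h1
  rw [← gam_res l (inChart_D l) hle q]
  exact h1

/-- homogenization in all large degrees -/
theorem exists_homogenization_pad (J : (Proj 𝒜ₙ).IdealSheafData) (l : Fin (n + 1))
    (a : Γ(Proj 𝒜ₙ, D (A := A) l)) (ha : a ∈ J.ideal (Da l)) :
    ∃ e₀ : ℕ, ∀ d : ℕ, e₀ ≤ d → ∃ q : 𝒜ₙ d, gam l (D l) (inChart_D l) q = a ∧
      ∀ i, gam i (D i) (inChart_D i) q ∈ J.ideal (Da i) := by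
  obtain ⟨e, p, hp1, hp2⟩ := exists_homogenization J l a ha
  refine ⟨e, fun d hd => ⟨pad l d hd p, ?_, fun i => ?_⟩⟩
  · rw [gam_pad, hp1]
  · rw [gam_pad_other]
    exact (J.ideal _).mul_mem_left _ (hp2 i)

variable [IsNoetherianRing A]

theorem exists_generators_ideal (J : (Proj 𝒜ₙ).IdealSheafData) :
    ∃ (d m : ℕ) (_ : 0 < d) (g : Fin m → 𝒜ₙ d),
      ∀ (l : Fin (n + 1)) (U : (Proj 𝒜ₙ).Opens) (hU : IsAffineOpen U) (hUl : InChart l U),
        Ideal.span (Set.range fun j => gam l U hUl (g j)) = J.ideal ⟨U, hU⟩ := by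
  classical
  have hN : IsNoetherian (Proj 𝒜ₙ) := Groth.Agent.Lib.helper12.GradedFT.isNoetherian_proj 𝒜ₙ
  have hNl : ∀ l : Fin (n + 1), IsNoetherianRing Γ(Proj 𝒜ₙ, D (A := A) l) := fun l =>
    IsLocallyNoetherian.component_noetherian (Da l)
  -- finite generating sets on the charts
  have hfg : ∀ l : Fin (n + 1), ∃ T : Finset Γ(Proj 𝒜ₙ, D (A := A) l),
      Ideal.span (T : Set Γ(Proj 𝒜ₙ, D (A := A) l)) = J.ideal (Da l) := fun l =>
    ((isNoetherianRing_iff_ideal_fg _).mp (hNl l)) (J.ideal (Da l))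
  choose T hT using hfg
  have hmemT : ∀ (l : Fin (n + 1)) (a : Γ(Proj 𝒜ₙ, D (A := A) l)), a ∈ T l → a ∈ J.ideal (Da l) := by
    intro l a ha
    rw [← hT l]
    exact Ideal.subset_span ha
  -- homogenize each generator, in all large degrees
  have hhom : ∀ x : (Σ l : Fin (n + 1), {a : Γ(Proj 𝒜ₙ, D (A := A) l) // a ∈ T l}),
      ∃ e₀ : ℕ, ∀ d : ℕ, e₀ ≤ d → ∃ q : 𝒜ₙ d, gam x.1 (D x.1) (inChart_D x.1) q = x.2.1 ∧
        ∀ i, gam i (D i) (inChart_D i) q ∈ J.ideal (Da i) := fun x =>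
    exists_homogenization_pad J x.1 x.2.1 (hmemT x.1 x.2.1 x.2.2)
  choose e he using hhom
  -- common degree
  obtain ⟨d, hdpos, hed⟩ : ∃ d : ℕ, 0 < d ∧ ∀ x, e x ≤ d :=
    ⟨Finset.univ.sup e + 1, Nat.succ_pos _,
      fun x => (Finset.le_sup (Finset.mem_univ x)).trans (Nat.le_succ _)⟩
  choose q hq1 hq2 using fun x => he x d (hed x)
  let E := Fintype.equivFin (Σ l : Fin (n + 1), {a : Γ(Proj 𝒜ₙ, D (A := A) l) // a ∈ T l})
  refine ⟨d, _, hdpos, fun j => q (E.symm j), fun l U hU hUl => ?_⟩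
  have hle : U ≤ D l := (inChart_iff_le l U).mp hUl
  have hle' : (⟨U, hU⟩ : (Proj 𝒜ₙ).affineOpens) ≤ Da l := hle
  apply le_antisymm
  · rw [Ideal.span_le]
    rintro _ ⟨j, rfl⟩
    exact gam_mem_of_forall J (q (E.symm j)) (hq2 (E.symm j)) l U hU hUl
  · rw [← J.map_ideal hle', ← hT l, Ideal.map_span, Ideal.span_le]
    rintro _ ⟨a, ha, rfl⟩
    apply Ideal.subset_span
    refine ⟨E ⟨l, ⟨a, ha⟩⟩, ?_⟩
    show gam l U hUl (q (E.symm (E ⟨l, ⟨a, ha⟩⟩))) = _
    rw [Equiv.symm_apply_apply, ← gam_res l (inChart_D l) hle, hq1 ⟨l, ⟨a, ha⟩⟩]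
    rfl

/-- **Generators of the ideal of a closed subscheme of `P^N` in one degree** (block B7). -/
theorem exists_generators (k : Type u) [Field k] (N : ℕ) {X : Scheme.{u}}
    (ι : X ⟶ Proj (CohB1.polyGrading N k)) [IsClosedImmersion ι] :
    ∃ (d m : ℕ) (_ : 0 < d) (g : Fin m → CohB1.polyGrading N k d),
      ∀ (l : Fin (N + 1)) (U : (Proj (CohB1.polyGrading N k)).Opens) (hU : IsAffineOpen U)
        (hUl : InChart l U),
        Ideal.span (Set.range fun j => gam l U hUl (g j)) = ι.ker.ideal ⟨U, hU⟩ :=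
  exists_generators_ideal ι.ker

end

end Groth.Agent.Lib.helper28.ProjIdealGen
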