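import Groth.Agent.Lib.Helper28.SymPairLift2
import Groth.Agent.Lib.Helper28.ProjBundleClosed
import Groth.Agent.Lib.Helper7.QCohPushQC
import Groth.Agent.S12686

/-!
# A proper morphism with a relatively very ample module embeds into `P(f_* L)` (helper28)

`exists_closedImmersion`: for `f : X ⟶ Y` proper and `L` invertible and very ample relative to
`f`, the morphism `r_{L,σ} : X ⟶ P(f_* L)` is a closed immersion over `Y`.
-/

set_option autoImplicit false
universe u

open CategoryTheory CategoryTheory.Limits AlgebraicGeometry TopologicalSpace Opposite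
open scoped HomogeneousIdeal

namespace Groth.Agent.Lib.helper28.ProjOfVeryAmple

open Groth.Agent.Lib.helper28 Groth.Agent.Lib.helper28.ProjQGlue

theorem exists_closedImmersion {X Y : Scheme.{u}} (f : X ⟶ Y) [IsProper f]
    (L : X.Modules) (hL : PicF.IsInvertible L) (hva : RelProj.IsRelVeryAmple f L) :
    ∃ (_ : ((Scheme.Modules.pushforward f).obj L).IsQuasicoherent) (𝒯 : RelProj.QCGrAlg Y)
      (j : (Scheme.Modules.pushforward f).obj L ⟶ 𝒯.toModule) (P : Scheme.{u}) (p : P ⟶ Y)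
      (chart : ∀ (U : Y.Opens) (hU : IsAffineOpen U),
        ((p ⁻¹ᵁ U : P.Opens) : Scheme.{u}) ≅ Proj (𝒯.deg U hU))
      (i : X ⟶ P),
      RelProj.IsGrSymAlg ((Scheme.Modules.pushforward f).obj L) 𝒯 j ∧
        RelProj.IsRelProj 𝒯 p chart ∧ IsClosedImmersion i ∧ i ≫ p = f := by
  have hLq : L.IsQuasicoherent :=
    Groth.Agent.Lib.helper12.AmpleBasis.isQuasicoherent_of_isInvertible hL
  have hEq : ((Scheme.Modules.pushforward f).obj L).IsQuasicoherent :=
    Groth.Agent.Lib.helper7.QCohPushQC.isQuasicoherent_pushforward f L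
  obtain ⟨𝒜, jE, h𝒜⟩ := SymGradedExists.exists_isGrSymAlg ((Scheme.Modules.pushforward f).obj L)
  obtain ⟨P, p, chart, hP⟩ := RelProjExists.exists_relProj 𝒜
  obtain ⟨𝒮L, jL, hjL⟩ := SymGradedExists.exists_isGrSymAlg L
  obtain ⟨PL, pL, chartL, hPL⟩ := RelProjExists.exists_relProj 𝒮L
  have hpLiso : IsIso pL := SymLineProj.isIso_of_isInvertible L 𝒮L jL hjL pL chartL hPL hL
  let u : RelProj.QGrHom f 𝒜 𝒮L :=
    SymPairLift.qGrHom f ((Scheme.Modules.pushforward f).obj L) 𝒜 jE h𝒜 L (𝟙 _) 𝒮L jL hjL.2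
  have hu : ∀ (U : Y.Opens) (x : Γ((Scheme.Modules.pushforward f).obj L, U)),
      (u.app U).hom ((jE.app U) x) = (jL.app (f ⁻¹ᵁ U)) x := fun U x =>
    SymPairLift.qGrHom_j_all f ((Scheme.Modules.pushforward f).obj L) 𝒜 jE h𝒜 L (𝟙 _) 𝒮L jL
      hjL.2 U x
  obtain ⟨r, hr₀, -⟩ := existsUnique_glue u (p := p) (chart := chart) (p' := pL)
    (chart' := chartL) hP hPL
  have hr : RelProj.IsProjQMapOn u p chart pL chartL (RelProj.domQ u pL chartL) r :=
    (ProjQComp.isProjQMapOn_iff u r).mpr hr₀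
  obtain ⟨htop, himm⟩ := Groth.Agent.S12686.result f L hL hLq 𝒮L jL hjL pL chartL hPL hEq 𝒜 jE
    h𝒜 u hu p chart hP r hr hva
  have hι : IsIso (RelProj.domQ u pL chartL).ι := ProjBundleClosed.isIso_ι_of_eq_top _ htop
  have hrp := glue_comp_p u hP hPL r hr₀
  have hip : (inv pL ≫ inv (RelProj.domQ u pL chartL).ι ≫ r) ≫ p = f := by
    rw [Category.assoc, Category.assoc, hrp, IsIso.inv_hom_id_assoc, IsIso.inv_hom_id_assoc]
  have himm' : IsImmersion (inv pL ≫ inv (RelProj.domQ u pL chartL).ι ≫ r) := inferInstance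
  have hsep : IsSeparated p := Groth.Agent.S8259.result 𝒜 p chart hP
  have hprop : IsProper (inv pL ≫ inv (RelProj.domQ u pL chartL).ι ≫ r) := by
    have : IsProper ((inv pL ≫ inv (RelProj.domQ u pL chartL).ι ≫ r) ≫ p) := by
      rw [hip]
      infer_instance
    exact IsProper.of_comp _ p
  have hcl : IsClosedImmersion (inv pL ≫ inv (RelProj.domQ u pL chartL).ι ≫ r) :=
    IsClosedImmersion.of_isPreimmersion _
      (inv pL ≫ inv (RelProj.domQ u pL chartL).ι ≫ r).isClosedMap.isClosed_range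
  exact ⟨hEq, 𝒜, jE, P, p, chart, _, h𝒜, hP, hcl, hip⟩

end Groth.Agent.Lib.helper28.ProjOfVeryAmple
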