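import Groth.Agent.Lib.Helper28.ProjQColim

set_option autoImplicit false
universe u

namespace Groth.Agent.Lib.helper28.ProjQComp

open CategoryTheory CategoryTheory.Limits AlgebraicGeometry TopologicalSpace Opposite

/-- On a quasi-compact scheme, a locally nilpotent section of a sheaf of rings is nilpotent. -/
theorem isNilpotent_of_locally {X : Scheme.{u}} [CompactSpace X] (A : RelSpec.QCAlg X)
    (W : X.Opens) (a : A.presheaf.obj (op W))
    (h : ∀ x : X, ∃ (V : X.Opens) (hVW : V ≤ W), x ∈ V ∧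
      IsNilpotent ((A.presheaf.map (homOfLE hVW).op).hom a)) :
    IsNilpotent a := by
  classical
  choose V hVW hxV hnil using h
  choose n hn using hnil
  obtain ⟨T, hT⟩ := isCompact_univ.elim_finite_subcover (fun x => (V x : Set X))
    (fun x => (V x).2) (fun x _ => Set.mem_iUnion.mpr ⟨x, hxV x⟩)
  refine ⟨T.sup n, ?_⟩
  let F : TopCat.Sheaf CommRingCat X := ⟨A.presheaf, A.isSheaf⟩
  refine TopCat.Sheaf.eq_of_locally_eq' F (fun x : {x // x ∈ T} => V x.1) W
    (fun x => homOfLE (hVW x.1)) ?_ _ _ ?_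
  · intro y _
    obtain ⟨x, hx⟩ := Set.mem_iUnion.mp (hT (Set.mem_univ y))
    obtain ⟨hxT, hyx⟩ := Set.mem_iUnion.mp hx
    exact Opens.mem_iSup.mpr ⟨⟨x, hxT⟩, hyx⟩
  · rintro ⟨x, hxT⟩
    change (A.presheaf.map (homOfLE (hVW x)).op).hom (a ^ T.sup n) =
      (A.presheaf.map (homOfLE (hVW x)).op).hom 0
    rw [map_pow, map_zero]
    have hle : n x ≤ T.sup n := Finset.le_sup hxT
    rw [← Nat.sub_add_cancel hle, pow_add, hn x, mul_zero]

end Groth.Agent.Lib.helper28.ProjQComp
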