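import Groth.Agent.Lib.Helper28.ProjQDom2

set_option autoImplicit false
universe u

namespace Groth.Agent.Lib.helper28.ProjQComp

open CategoryTheory CategoryTheory.Limits AlgebraicGeometry TopologicalSpace Opposite
open HomogeneousLocalization
open scoped HomogeneousIdeal
open Groth.Agent.Lib.helper28.RelSpecMap Groth.Agent.Lib.helper28.RelTwistChart
open Groth.Agent.Lib.helper28.RelProjPair Groth.Agent.Lib.helper28.ProjQGlue

section CompColim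

variable {S S' : Scheme.{u}} {g : S' ⟶ S} {𝒯 𝒮 : RelProj.QCGrAlg S} {𝒮' : RelProj.QCGrAlg S'}
  (v : 𝒯.toQCAlg ⟶ 𝒮.toQCAlg) (hv : RelProj.IsGradedHom v)
  (u : RelProj.QGrHom g 𝒮 𝒮') (u' : RelProj.QGrHom g 𝒯 𝒮')
  (hu' : ∀ U : S.Opens, u'.app U = v.hom.app (op U) ≫ u.app U)
  {PT : Scheme.{u}} {pT : PT ⟶ S}
  {chartT : ∀ (U : S.Opens) (hU : IsAffineOpen U),
    (((pT ⁻¹ᵁ U : PT.Opens) : Scheme.{u}) ≅ Proj (𝒯.deg U hU))}
  {P : Scheme.{u}} {p : P ⟶ S}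
  {chart : ∀ (U : S.Opens) (hU : IsAffineOpen U),
    (((p ⁻¹ᵁ U : P.Opens) : Scheme.{u}) ≅ Proj (𝒮.deg U hU))}
  {P' : Scheme.{u}} {p' : P' ⟶ S'}
  {chart' : ∀ (U' : S'.Opens) (hU' : IsAffineOpen U'),
    (((p' ⁻¹ᵁ U' : P'.Opens) : Scheme.{u}) ≅ Proj (𝒮'.deg U' hU'))}

include hv in
/-- A homogeneous element in the image of `v` has a homogeneous preimage. -/
theorem exists_homogeneous_lift (U : S.Opens) (hU : IsAffineOpen U) {d : ℕ}
    (f : 𝒮.presheaf.obj (op U)) (hf : f ∈ 𝒮.deg U hU d) (y₀ : 𝒯.presheaf.obj (op U))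
    (hy₀ : (v.hom.app (op U)).hom y₀ = f) :
    ∃ t ∈ 𝒯.deg U hU d, RelProj.gradedHomAt v hv U hU t = f := by
  classical
  refine ⟨(DirectSum.decompose (𝒯.deg U hU) y₀ d : 𝒯.presheaf.obj (op U)), SetLike.coe_mem _, ?_⟩
  rw [GradedRingHom.map_directSumDecompose]
  have : RelProj.gradedHomAt v hv U hU y₀ = f := hy₀
  rw [this, DirectSum.decompose_of_mem_same _ hf]

include hv hu' in
/-- A point of `D₊(u (v t))` over `U'` lies in `G(u ∘ v)`. -/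
theorem emb_mem_domQ_comp (U : S.Opens) (hU : IsAffineOpen U) (U' : S'.Opens)
    (hU' : IsAffineOpen U') (hle : U' ≤ g ⁻¹ᵁ U) {d : ℕ} (hd : 0 < d)
    (t : 𝒯.presheaf.obj (op U)) (ht : t ∈ 𝒯.deg U hU d) (y : Proj (𝒮'.deg U' hU'))
    (hty : u.gradedAt U hU U' hU' hle (RelProj.gradedHomAt v hv U hU t) ∉ y.asHomogeneousIdeal) :
    RelProj.emb p' chart' U' hU' y ∈ RelProj.domQ u' p' chart' := by
  have ex : u.gradedAt U hU U' hU' hle (RelProj.gradedHomAt v hv U hU t) =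
      u'.gradedAt U hU U' hU' hle t := by
    rw [gradedAt_comp_eq v hv u u' hu']
    rfl
  rw [ex] at hty
  have h1 : RelProj.emb p' chart' U' hU' y ∈ Set.range
      (RelProj.awayEmb u' p' chart' U hU U' hU' hle hd t ht).base :=
    (mem_range_awayEmb_iff u' p' chart' U hU U' hU' hle hd t ht _).mpr ⟨y, rfl, hty⟩
  have h2 := RelProj.range_awayEmb_subset_domQ u' p' chart' U hU U' hU' hle hd t ht h1
  rw [Scheme.Opens.range_ι] at h2
  exact h2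

include hv hu' in
/-- If `Proj(u ∘ v)` is dominant and the non-nilpotent homogeneous `f` of positive degree is
`v t`, then `Proj(u)⁻¹(D₊(f))` is nonempty. -/
theorem exists_mem_preimage_of_isDominant_comp (hPT : RelProj.IsRelProj 𝒯 pT chartT)
    (hP' : RelProj.IsRelProj 𝒮' p' chart')
    (r : ((RelProj.domQ u p' chart' : P'.Opens) : Scheme.{u}) ⟶ P)
    (hr : ∀ (U : S.Opens) (hU : IsAffineOpen U) (U' : S'.Opens) (hU' : IsAffineOpen U')
      (hle : U' ≤ g ⁻¹ᵁ U) (d : ℕ) (hd : 0 < d) (f : 𝒮.presheaf.obj (op U))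
      (hf : f ∈ 𝒮.deg U hU d),
      stdChart u p' chart' U hU U' hU' hle hd f hf ≫ r = tgt u p chart U hU U' hU' hle hd f hf)
    (r' : ((RelProj.domQ u' p' chart' : P'.Opens) : Scheme.{u}) ⟶ PT)
    (hr' : ∀ (U : S.Opens) (hU : IsAffineOpen U) (U' : S'.Opens) (hU' : IsAffineOpen U')
      (hle : U' ≤ g ⁻¹ᵁ U) (d : ℕ) (hd : 0 < d) (f : 𝒯.presheaf.obj (op U))
      (hf : f ∈ 𝒯.deg U hU d),
      stdChart u' p' chart' U hU U' hU' hle hd f hf ≫ r' =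
        tgt u' pT chartT U hU U' hU' hle hd f hf)
    [IsDominant r'] (U : S.Opens) (hU : IsAffineOpen U) {d : ℕ} (hd : 0 < d)
    (t : 𝒯.presheaf.obj (op U)) (ht : t ∈ 𝒯.deg U hU d)
    (hnil : ¬ IsNilpotent (RelProj.gradedHomAt v hv U hU t)) :
    ∃ x : ((RelProj.domQ u p' chart' : P'.Opens) : Scheme.{u}),
      r x ∈ (RelProj.emb p chart U hU) ''ᵁ
        Proj.basicOpen (𝒮.deg U hU) (RelProj.gradedHomAt v hv U hU t) := by
  have hnil' : ¬ IsNilpotent t := fun h => hnil (h.map (RelProj.gradedHomAt v hv U hU))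
  obtain ⟨w⟩ := nonempty_spec_away_of_not_isNilpotent (𝒯.deg U hU) t hnil'
  obtain ⟨_, hxO, ⟨x', rfl⟩⟩ := (dense_iff_inter_open.mp r'.denseRange)
    (Proj.awayι (𝒯.deg U hU) t ht hd ≫ RelProj.emb pT chartT U hU).opensRange
    (Proj.awayι (𝒯.deg U hU) t ht hd ≫ RelProj.emb pT chartT U hU).opensRange.2 ⟨_, ⟨w, rfl⟩⟩
  have hxU : g (p' ((RelProj.domQ u' p' chart').ι x')) ∈ U := by
    have e : g (p' ((RelProj.domQ u' p' chart').ι x')) = pT (r' x') := by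
      rw [← Scheme.Hom.comp_apply, ← Scheme.Hom.comp_apply, ← Scheme.Hom.comp_apply,
        ← glue_comp_p u' hPT hP' r' hr']
    rw [e]
    obtain ⟨w', hw'⟩ := hxO
    have : r' x' ∈ Set.range (RelProj.emb pT chartT U hU) := by
      rw [← hw', Scheme.Hom.comp_apply]
      exact ⟨_, rfl⟩
    rw [range_emb] at this
    exact this
  obtain ⟨U', hU', hxU', hle⟩ := (Opens.isBasis_iff_nbhd.mp S'.isBasis_affineOpens)
    (show p' ((RelProj.domQ u' p' chart').ι x') ∈ g ⁻¹ᵁ U from hxU)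
  have hx : x' ∈ (stdChart u' p' chart' U hU U' hU' hle hd t ht).opensRange := by
    rw [← preimage_chart u' hPT hP' r' hr' U hU U' hU' hle hd t ht]
    exact ⟨hxO, hxU'⟩
  obtain ⟨w₁, -⟩ := hx
  have ex : u.gradedAt U hU U' hU' hle (RelProj.gradedHomAt v hv U hU t) =
      u'.gradedAt U hU U' hU' hle t := by
    rw [gradedAt_comp_eq v hv u u' hu']
    rfl
  have hne : Nonempty (Spec (CommRingCat.of (Away (𝒮'.deg U' hU')
      (u.gradedAt U hU U' hU' hle (RelProj.gradedHomAt v hv U hU t))))) := by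
    rw [ex]
    exact ⟨w₁⟩
  obtain ⟨w₂⟩ := hne
  have hvt : RelProj.gradedHomAt v hv U hU t ∈ 𝒮.deg U hU d :=
    (RelProj.gradedHomAt v hv U hU).map_mem ht
  refine ⟨stdChart u p' chart' U hU U' hU' hle hd _ hvt w₂, ?_⟩
  have e2 : r (stdChart u p' chart' U hU U' hU' hle hd _ hvt w₂) =
      (tgt u p chart U hU U' hU' hle hd _ hvt) w₂ := by
    rw [← Scheme.Hom.comp_apply, hr]
  rw [e2, tgt_apply]
  refine ⟨_, ?_, rfl⟩
  have : (Proj.awayι (𝒮.deg U hU) _ hvt hd)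
      ((Spec.map (CommRingCat.ofHom (Away.map (u.gradedAt U hU U' hU' hle)
        (RelProj.gradedHomAt v hv U hU t)))) w₂) ∈
      (Proj.awayι (𝒮.deg U hU) _ hvt hd).opensRange := ⟨_, rfl⟩
  rw [Proj.opensRange_awayι] at this
  exact this

end CompColim

section Colim

variable {S S' : Scheme.{u}} {g : S' ⟶ S} {𝒮 : RelProj.QCGrAlg S} {𝒮' : RelProj.QCGrAlg S'}
  (u : RelProj.QGrHom g 𝒮 𝒮')
  {P' : Scheme.{u}} {p' : P' ⟶ S'}
  {chart' : ∀ (U' : S'.Opens) (hU' : IsAffineOpen U'),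
    (((p' ⁻¹ᵁ U' : P'.Opens) : Scheme.{u}) ≅ Proj (𝒮'.deg U' hU'))}
  {Λ : Type u} [Preorder Λ] [IsDirected Λ (· ≤ ·)] [Nonempty Λ]
  (𝒮i : Λ → RelProj.QCGrAlg S) (φ : ∀ i, (𝒮i i).toQCAlg ⟶ 𝒮.toQCAlg)
  (hφ : ∀ i, RelProj.IsGradedHom (φ i))
  (t : ∀ i j, i ≤ j → ((𝒮i i).toQCAlg ⟶ (𝒮i j).toQCAlg))
  (ht : ∀ i j (h : i ≤ j), RelProj.IsGradedHom (t i j h))
  (hφt : ∀ i j (h : i ≤ j), t i j h ≫ φ j = φ i)
  (hsurj : ∀ (U : S.Opens), IsAffineOpen U → ∀ x : 𝒮.presheaf.obj (op U),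
    ∃ (i : Λ) (y : (𝒮i i).presheaf.obj (op U)), ((φ i).hom.app (op U)).hom y = x)
  (ui : ∀ i, RelProj.QGrHom g (𝒮i i) 𝒮')
  (hui : ∀ i (U : S.Opens), (ui i).app U = (φ i).hom.app (op U) ≫ u.app U)

include hφt hui in
theorem ui_comp (i j : Λ) (h : i ≤ j) (U : S.Opens) :
    (ui i).app U = (t i j h).hom.app (op U) ≫ (ui j).app U := by
  rw [hui i, hui j, ← Category.assoc, ← hφt i j h]
  rfl

include ht hφt hui in
theorem domQ_mono_of_le (i j : Λ) (h : i ≤ j) :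
    RelProj.domQ (ui i) p' chart' ≤ RelProj.domQ (ui j) p' chart' :=
  domQ_comp_le (t i j h) (ht i j h) (ui j) (ui i) (ui_comp u 𝒮i φ t hφt ui hui i j h)

include hφ hui in
theorem domQ_le_of_colim (i : Λ) : RelProj.domQ (ui i) p' chart' ≤ RelProj.domQ u p' chart' :=
  domQ_comp_le (φ i) (hφ i) u (ui i) (hui i)

include hφ hsurj hui in
theorem domQ_le_iSup : RelProj.domQ u p' chart' ≤ ⨆ i, RelProj.domQ (ui i) p' chart' := by
  intro z hz
  obtain ⟨V, hV⟩ := Opens.mem_iSup.mp hz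
  obtain ⟨y, hy, rfl⟩ := hV
  obtain ⟨d, hd, f, hf, hfy⟩ := exists_homogeneous_of_mem_domOpen _ y hy
  obtain ⟨i, y₀, hy₀⟩ := hsurj V.1.1.1 V.1.1.2 f
  obtain ⟨t₀, ht₀, rfl⟩ := exists_homogeneous_lift (φ i) (hφ i) V.1.1.1 V.1.1.2 f hf y₀ hy₀
  exact Opens.mem_iSup.mpr ⟨i, emb_mem_domQ_comp (φ i) (hφ i) u (ui i) (hui i) V.1.1.1 V.1.1.2
    V.1.2.1 V.1.2.2 V.2 hd t₀ ht₀ y hfy⟩

include hφ ht hφt hsurj hui in
/-- On a quasi-compact `Proj(𝒮')`: `Proj(u)` is everywhere defined iff some `Proj(u ∘ φ_i)` is. -/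
theorem domQ_eq_top_iff_exists [CompactSpace P'] :
    RelProj.domQ u p' chart' = ⊤ ↔ ∃ i, RelProj.domQ (ui i) p' chart' = ⊤ := by
  constructor
  · intro htop
    have hcov : (Set.univ : Set P') ⊆ ⋃ i, (RelProj.domQ (ui i) p' chart' : Set P') := by
      intro z _
      have hz : z ∈ RelProj.domQ u p' chart' := by rw [htop]; trivial
      have := domQ_le_iSup u 𝒮i φ hφ hsurj ui hui hz
      obtain ⟨i, hi⟩ := Opens.mem_iSup.mp this
      exact Set.mem_iUnion.mpr ⟨i, hi⟩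
    have hdir : Directed (· ⊆ ·) fun i => (RelProj.domQ (ui i) p' chart' : Set P') := by
      intro i j
      obtain ⟨k, hik, hjk⟩ := directed_of (· ≤ ·) i j
      exact ⟨k, domQ_mono_of_le u 𝒮i φ t ht hφt ui hui i k hik,
        domQ_mono_of_le u 𝒮i φ t ht hφt ui hui j k hjk⟩
    obtain ⟨i, hi⟩ := isCompact_univ.elim_directed_cover _
      (fun i => (RelProj.domQ (ui i) p' chart').2) hcov hdir
    exact ⟨i, top_le_iff.mp fun z _ => hi (Set.mem_univ z)⟩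
  · rintro ⟨i, hi⟩
    exact top_le_iff.mp (hi ▸ domQ_le_of_colim u 𝒮i φ hφ ui hui i)

end Colim

end Groth.Agent.Lib.helper28.ProjQComp
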