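import Groth.Agent.Lib.Helper28.ProjQComp

set_option autoImplicit false
universe u

namespace Groth.Agent.Lib.helper28.ProjQComp

open CategoryTheory CategoryTheory.Limits AlgebraicGeometry TopologicalSpace Opposite

/-- If `f ≫ g` is an open immersion and `g` is a monomorphism, then `f` is an open immersion. -/
theorem isOpenImmersion_of_comp_mono {X Y Z : Scheme.{u}} (f : X ⟶ Y) (g : Y ⟶ Z) [Mono g]
    [IsOpenImmersion (f ≫ g)] : IsOpenImmersion f := by
  have sq₁ : IsPullback f (𝟙 X) (𝟙 Y) f := IsPullback.of_vert_isIso ⟨by simp⟩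
  have sq₂ : IsPullback (𝟙 Y) (𝟙 Y) g g := IsKernelPair.id_of_mono g
  have sq := sq₁.paste_horiz sq₂
  rw [Category.comp_id] at sq
  exact MorphismProperty.of_isPullback (P := @IsOpenImmersion) sq.flip inferInstance

open Groth.Agent.Lib.helper28.ProjQGlue

section

variable {S S' : Scheme.{u}} {g : S' ⟶ S} {𝒮 : RelProj.QCGrAlg S} {𝒮' : RelProj.QCGrAlg S'}
  (u : RelProj.QGrHom g 𝒮 𝒮')
  {P : Scheme.{u}} {p : P ⟶ S}
  {chart : ∀ (U : S.Opens) (hU : IsAffineOpen U),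
    (((p ⁻¹ᵁ U : P.Opens) : Scheme.{u}) ≅ Proj (𝒮.deg U hU))}
  {P' : Scheme.{u}} {p' : P' ⟶ S'}
  {chart' : ∀ (U' : S'.Opens) (hU' : IsAffineOpen U'),
    (((p' ⁻¹ᵁ U' : P'.Opens) : Scheme.{u}) ≅ Proj (𝒮'.deg U' hU'))}

/-- When `G(u)` is everything, a morphism restricting to `Proj(u)` on `G(u)` is `Proj(u)`. -/
theorem isProjQMap_of_top (hG : RelProj.domQ u p' chart' = ⊤)
    (v' : ((RelProj.domQ u p' chart' : P'.Opens) : Scheme.{u}) ⟶ P)
    (hv' : ∀ (U : S.Opens) (hU : IsAffineOpen U) (U' : S'.Opens) (hU' : IsAffineOpen U')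
      (hle : U' ≤ g ⁻¹ᵁ U) (d : ℕ) (hd : 0 < d) (f : 𝒮.presheaf.obj (op U))
      (hf : f ∈ 𝒮.deg U hU d),
      stdChart u p' chart' U hU U' hU' hle hd f hf ≫ v' = tgt u p chart U hU U' hU' hle hd f hf)
    (h : P' ⟶ P) (hh : (RelProj.domQ u p' chart').ι ≫ h = v') :
    RelProj.IsProjQMap u p chart p' chart' h := by
  refine ⟨hG, fun U hU U' hU' hle d hd f hf => ?_⟩
  rw [← stdChart_ι, Category.assoc, hh, hv']
  rfl

theorem isIso_ι_of_eq_top {X : Scheme.{u}} {W : X.Opens} (hW : W = ⊤) : IsIso W.ι :=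
  isIso_of_isOpenImmersion_of_opensRange_eq_top _ (by rw [Scheme.Opens.opensRange_ι]; exact hW)

end

end Groth.Agent.Lib.helper28.ProjQComp
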