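import Groth.Agent.Lib.Helper28.ProjQComp2

set_option autoImplicit false
universe u

namespace Groth.Agent.Lib.helper28.ProjQComp

open CategoryTheory CategoryTheory.Limits AlgebraicGeometry TopologicalSpace Opposite

/-- If `f ≫ g` is dominant and `g` is a topological embedding, then `f` is dominant. -/
theorem isDominant_of_comp_isInducing {X Y Z : Scheme.{u}} (f : X ⟶ Y) (g : Y ⟶ Z)
    (hg : Topology.IsInducing g) [IsDominant (f ≫ g)] : IsDominant f := by
  refine ⟨?_⟩
  have h := (f ≫ g).denseRange
  rw [DenseRange, hg.dense_iff]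
  intro x
  have : (g : Y → Z) '' Set.range f = Set.range (f ≫ g) := by
    ext z
    constructor
    · rintro ⟨_, ⟨a, rfl⟩, rfl⟩
      exact ⟨a, by simp⟩
    · rintro ⟨a, rfl⟩
      exact ⟨f a, ⟨a, rfl⟩, by simp⟩
  rw [this]
  exact h (g x)

end Groth.Agent.Lib.helper28.ProjQComp
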