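import Groth.Agent.Lib.Helper28.ProjQDom

set_option autoImplicit false
universe u

namespace Groth.Agent.Lib.helper28.ProjQComp

open CategoryTheory CategoryTheory.Limits AlgebraicGeometry TopologicalSpace Opposite
open HomogeneousLocalization
open scoped HomogeneousIdeal
open Groth.Agent.Lib.helper28.RelSpecMap Groth.Agent.Lib.helper28.RelTwistChart
open Groth.Agent.Lib.helper28.RelProjPair Groth.Agent.Lib.helper28.ProjQGlue

section RingDom2

variable {A σ : Type u} [CommRing A] [SetLike σ A] [AddSubgroupClass σ A]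
  (𝒜 : ℕ → σ) [GradedRing 𝒜]

/-- `Spec A_(f)` is empty when `f` is nilpotent. -/
theorem isEmpty_spec_away_of_isNilpotent (f : A) (hf : IsNilpotent f) :
    IsEmpty (Spec (CommRingCat.of (Away 𝒜 f))) := by
  have h0 : (0 : A) ∈ Submonoid.powers f := by
    obtain ⟨n, hn⟩ := hf
    exact ⟨n, hn⟩
  have hsub : Subsingleton (Localization.Away f) := IsLocalization.subsingleton h0
  have hsub' : Subsingleton (Away 𝒜 f) := by
    refine ⟨fun a b => ?_⟩
    apply HomogeneousLocalization.val_injective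
    exact Subsingleton.elim _ _
  refine ⟨fun w => ?_⟩
  have hw : (w : PrimeSpectrum (Away 𝒜 f)).asIdeal ≠ ⊤ := w.isPrime.ne_top
  apply hw
  rw [Ideal.eq_top_iff_one]
  have : (1 : Away 𝒜 f) = 0 := Subsingleton.elim _ _
  rw [this]
  exact Ideal.zero_mem _

end RingDom2

section DomAffine

variable {S S' : Scheme.{u}} {g : S' ⟶ S} {𝒮 : RelProj.QCGrAlg S} {𝒮' : RelProj.QCGrAlg S'}
  (u : RelProj.QGrHom g 𝒮 𝒮')
  {P : Scheme.{u}} {p : P ⟶ S}
  {chart : ∀ (U : S.Opens) (hU : IsAffineOpen U),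
    (((p ⁻¹ᵁ U : P.Opens) : Scheme.{u}) ≅ Proj (𝒮.deg U hU))}
  {P' : Scheme.{u}} {p' : P' ⟶ S'}
  {chart' : ∀ (U' : S'.Opens) (hU' : IsAffineOpen U'),
    (((p' ⁻¹ᵁ U' : P'.Opens) : Scheme.{u}) ≅ Proj (𝒮'.deg U' hU'))}

/-- Over an affine base: `Proj(u)` is dominant iff every homogeneous `s` of positive degree whose
image is locally nilpotent is nilpotent. -/
theorem isDominant_iff_of_isAffine (hP : RelProj.IsRelProj 𝒮 p chart)
    (hP' : RelProj.IsRelProj 𝒮' p' chart')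
    (r : ((RelProj.domQ u p' chart' : P'.Opens) : Scheme.{u}) ⟶ P)
    (hr : ∀ (U : S.Opens) (hU : IsAffineOpen U) (U' : S'.Opens) (hU' : IsAffineOpen U')
      (hle : U' ≤ g ⁻¹ᵁ U) (d : ℕ) (hd : 0 < d) (f : 𝒮.presheaf.obj (op U))
      (hf : f ∈ 𝒮.deg U hU d),
      stdChart u p' chart' U hU U' hU' hle hd f hf ≫ r = tgt u p chart U hU U' hU' hle hd f hf)
    (hS : IsAffineOpen (⊤ : S.Opens)) :
    IsDominant r ↔
      ∀ (n : ℕ), 0 < n → ∀ s ∈ 𝒮.deg ⊤ hS n,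
        (∀ x : P', ∃ (V : S'.Opens) (_ : IsAffineOpen V), p' x ∈ V ∧
          IsNilpotent ((u.appLE ⊤ V (le_top.trans (Scheme.Hom.preimage_top g).ge)).hom s)) →
          IsNilpotent s := by
  constructor
  · intro hdom n hn s hs hloc
    by_contra hnil
    obtain ⟨w⟩ := nonempty_spec_away_of_not_isNilpotent (𝒮.deg ⊤ hS) s hnil
    obtain ⟨_, hxO, ⟨x, rfl⟩⟩ := (dense_iff_inter_open.mp r.denseRange)
      (Proj.awayι (𝒮.deg ⊤ hS) s hs hn ≫ RelProj.emb p chart ⊤ hS).opensRange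
      (Proj.awayι (𝒮.deg ⊤ hS) s hs hn ≫ RelProj.emb p chart ⊤ hS).opensRange.2 ⟨_, ⟨w, rfl⟩⟩
    obtain ⟨V, hV, hxV, hVnil⟩ := hloc ((RelProj.domQ u p' chart').ι x)
    have hle : V ≤ g ⁻¹ᵁ ⊤ := le_top.trans (Scheme.Hom.preimage_top g).ge
    have hx : x ∈ (stdChart u p' chart' ⊤ hS V hV hle hn s hs).opensRange := by
      rw [← preimage_chart u hP hP' r hr ⊤ hS V hV hle hn s hs]
      exact ⟨hxO, hxV⟩
    obtain ⟨w₁, -⟩ := hx
    exact (isEmpty_spec_away_of_isNilpotent (𝒮'.deg V hV) _ hVnil).false w₁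
  · intro hcrit
    refine ⟨?_⟩
    rw [DenseRange, dense_iff_inter_open]
    rintro W hW ⟨z, hz⟩
    have hz' : z ∈ Set.range (RelProj.emb p chart ⊤ hS) := by
      rw [range_emb]
      trivial
    obtain ⟨y, rfl⟩ := hz'
    obtain ⟨d, hd, t, ht, hty, htW⟩ := exists_homogeneous_basicOpen_le (𝒮.deg ⊤ hS)
      ((RelProj.emb p chart ⊤ hS) ⁻¹ᵁ ⟨W, hW⟩) y hz
    have hnil : ¬ IsNilpotent t := not_isNilpotent_of_notMem _ y t hty
    have hex : ∃ x : P', ∀ (V : S'.Opens) (_ : IsAffineOpen V), p' x ∈ V →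
        ¬ IsNilpotent ((u.appLE ⊤ V (le_top.trans (Scheme.Hom.preimage_top g).ge)).hom t) := by
      by_contra hcon
      apply hnil
      apply hcrit d hd t ht
      intro x
      by_contra hx
      apply hcon
      refine ⟨x, fun V hV hxV hn => hx ⟨V, hV, hxV, hn⟩⟩
    obtain ⟨x, hx⟩ := hex
    obtain ⟨V, hV, hxV, -⟩ := (Opens.isBasis_iff_nbhd.mp S'.isBasis_affineOpens)
      (show p' x ∈ (⊤ : S'.Opens) from trivial)
    have hle : V ≤ g ⁻¹ᵁ ⊤ := le_top.trans (Scheme.Hom.preimage_top g).ge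
    obtain ⟨w₂⟩ := nonempty_spec_away_of_not_isNilpotent (𝒮'.deg V hV)
      (u.gradedAt ⊤ hS V hV hle t) (hx V hV hxV)
    refine ⟨r (stdChart u p' chart' ⊤ hS V hV hle hd t ht w₂), ?_, ⟨_, rfl⟩⟩
    have e2 : r (stdChart u p' chart' ⊤ hS V hV hle hd t ht w₂) =
        (tgt u p chart ⊤ hS V hV hle hd t ht) w₂ := by
      rw [← Scheme.Hom.comp_apply, hr]
    rw [e2, tgt_apply]
    apply htW
    have : (Proj.awayι (𝒮.deg ⊤ hS) t ht hd)
        ((Spec.map (CommRingCat.ofHom (Away.map (u.gradedAt ⊤ hS V hV hle) t))) w₂) ∈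
        (Proj.awayι (𝒮.deg ⊤ hS) t ht hd).opensRange := ⟨_, rfl⟩
    rw [Proj.opensRange_awayι] at this
    exact this

end DomAffine

end Groth.Agent.Lib.helper28.ProjQComp
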