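import Groth.Agent.Lib.Helper28.PProjFunct

set_option autoImplicit false
universe u

namespace Groth.Agent.Lib.helper28.ProjQSquare

open CategoryTheory CategoryTheory.Limits AlgebraicGeometry TopologicalSpace Opposite
open HomogeneousLocalization
open scoped HomogeneousIdeal
open Groth.Agent.Lib.helper28.RelSpecMap Groth.Agent.Lib.helper28.RelTwistChart
open Groth.Agent.Lib.helper28.ProjQGlue Groth.Agent.Lib.helper28.ProjQComp

section Ring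

variable {A B A' B' : Type u} [CommRing A] [CommRing B] [CommRing A'] [CommRing B']
  {𝒜 : ℕ → AddSubgroup A} {ℬ : ℕ → AddSubgroup B} {𝒜' : ℕ → AddSubgroup A'}
  {ℬ' : ℕ → AddSubgroup B'} [GradedRing 𝒜] [GradedRing ℬ] [GradedRing 𝒜'] [GradedRing ℬ']

/-- Localized form of a commutative square of graded ring homomorphisms. -/
theorem awayMap_square (β : ℬ →+*ᵍ 𝒜) (uA : 𝒜 →+*ᵍ 𝒜') (uB : ℬ →+*ᵍ ℬ') (β' : ℬ' →+*ᵍ 𝒜')
    (hsq : ∀ b, uA (β b) = β' (uB b)) (g : B) (ex : β' (uB g) = uA (β g)) :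
    (Away.map uA (β g)).comp (Away.map β g) =
      (awayMapTo β' (uB g) (uA (β g)) ex).comp (Away.map uB g) := by
  ext x
  obtain ⟨⟨i, ⟨n, hn⟩, ⟨dd, hdd⟩, hmem⟩, rfl⟩ := HomogeneousLocalization.mk_surjective x
  simp only [RingHom.comp_apply, Away.map, awayMapTo, HomogeneousLocalization.map_mk]
  simp only [val_mk]
  have h1 : uA (β n) = β' (uB n) := hsq n
  have h2 : uA (β dd) = β' (uB dd) := hsq dd
  congr 1
  exact Subtype.ext h2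

end Ring

section OnW

variable {S S' : Scheme.{u}} {g : S' ⟶ S} {𝒮 : RelProj.QCGrAlg S} {𝒮' : RelProj.QCGrAlg S'}
  (u : RelProj.QGrHom g 𝒮 𝒮')
  {P : Scheme.{u}} {p : P ⟶ S}
  {chart : ∀ (U : S.Opens) (hU : IsAffineOpen U),
    (((p ⁻¹ᵁ U : P.Opens) : Scheme.{u}) ≅ Proj (𝒮.deg U hU))}
  {P' : Scheme.{u}} {p' : P' ⟶ S'}
  {chart' : ∀ (U' : S'.Opens) (hU' : IsAffineOpen U'),
    (((p' ⁻¹ᵁ U' : P'.Opens) : Scheme.{u}) ≅ Proj (𝒮'.deg U' hU'))}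

/-- The chart equations of `IsProjQMapOn`, in a form allowing a homomorphism equal to `u_{U,U'}`
and an element equal to `u f`. -/
theorem chartOn_eq_of_eq (W : P'.Opens) (r : (W : Scheme.{u}) ⟶ P)
    (h : RelProj.IsProjQMapOn u p chart p' chart' W r)
    (U : S.Opens) (hU : IsAffineOpen U) (U' : S'.Opens)
    (hU' : IsAffineOpen U') (hle : U' ≤ g ⁻¹ᵁ U) (ψ : 𝒮.deg U hU →+*ᵍ 𝒮'.deg U' hU')
    (e : u.gradedAt U hU U' hU' hle = ψ) {d : ℕ} (hd : 0 < d) (f : 𝒮.presheaf.obj (op U))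
    (hf : f ∈ 𝒮.deg U hU d) (x : 𝒮'.presheaf.obj (op U')) (ex : ψ f = x)
    (hxm : x ∈ 𝒮'.deg U' hU' d)
    (c : Spec (CommRingCat.of (Away (𝒮'.deg U' hU') x)) ⟶ (W : Scheme.{u}))
    (hc : c ≫ W.ι = Proj.awayι (𝒮'.deg U' hU') x hxm hd ≫ RelProj.emb p' chart' U' hU') :
    c ≫ r = Spec.map (CommRingCat.ofHom (awayMapTo ψ f x ex)) ≫
      Proj.awayι (𝒮.deg U hU) f hf hd ≫ RelProj.emb p chart U hU := by
  subst e
  subst ex
  have hc' : c ≫ W.ι = RelProj.awayEmb u p' chart' U hU U' hU' hle hd f hf := hc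
  have hW : Set.range (RelProj.awayEmb u p' chart' U hU U' hU' hle hd f hf).base ⊆
      Set.range W.ι.base := by
    rw [← hc', Scheme.Hom.comp_base, TopCat.coe_comp]
    exact Set.range_comp_subset_range _ _
  have hcs : c = IsOpenImmersion.lift W.ι
      (RelProj.awayEmb u p' chart' U hU U' hU' hle hd f hf) hW := by
    rw [← cancel_mono W.ι, IsOpenImmersion.lift_fac]
    exact hc'
  rw [hcs]
  exact h U hU U' hU' hle d hd f hf hW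

end OnW

section Square

variable {Y Y' : Scheme.{u}} {q : Y' ⟶ Y}
  {𝒜 ℬ : RelProj.QCGrAlg Y} {𝒜' ℬ' : RelProj.QCGrAlg Y'}
  (β : ℬ.toQCAlg ⟶ 𝒜.toQCAlg) (hβ : RelProj.IsGradedHom β)
  (β' : ℬ'.toQCAlg ⟶ 𝒜'.toQCAlg) (hβ' : RelProj.IsGradedHom β')
  (uA : RelProj.QGrHom q 𝒜 𝒜') (uB : RelProj.QGrHom q ℬ ℬ')
  (hsq : ∀ (U : Y.Opens) (hU : IsAffineOpen U) (U' : Y'.Opens) (hU' : IsAffineOpen U')
    (hle : U' ≤ q ⁻¹ᵁ U) (b : ℬ.presheaf.obj (op U)),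
    uA.gradedAt U hU U' hU' hle ((RelProj.gradedHomAt β hβ U hU) b) =
      (RelProj.gradedHomAt β' hβ' U' hU') (uB.gradedAt U hU U' hU' hle b))
  {PA PB PA' PB' : Scheme.{u}}
  {pA : PA ⟶ Y} {chartA : ∀ (U : Y.Opens) (hU : IsAffineOpen U),
    (((pA ⁻¹ᵁ U : PA.Opens) : Scheme.{u}) ≅ Proj (𝒜.deg U hU))}
  (hPA : RelProj.IsRelProj 𝒜 pA chartA)
  {pB : PB ⟶ Y} {chartB : ∀ (U : Y.Opens) (hU : IsAffineOpen U),
    (((pB ⁻¹ᵁ U : PB.Opens) : Scheme.{u}) ≅ Proj (ℬ.deg U hU))}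
  {pA' : PA' ⟶ Y'} {chartA' : ∀ (U : Y'.Opens) (hU : IsAffineOpen U),
    (((pA' ⁻¹ᵁ U : PA'.Opens) : Scheme.{u}) ≅ Proj (𝒜'.deg U hU))}
  (hPA' : RelProj.IsRelProj 𝒜' pA' chartA')
  {pB' : PB' ⟶ Y'} {chartB' : ∀ (U : Y'.Opens) (hU : IsAffineOpen U),
    (((pB' ⁻¹ᵁ U : PB'.Opens) : Scheme.{u}) ≅ Proj (ℬ'.deg U hU))}
  (ΦA : ((RelProj.domQ uA pA' chartA' : PA'.Opens) : Scheme.{u}) ⟶ PA)
  (hΦA : ∀ (U : Y.Opens) (hU : IsAffineOpen U) (U' : Y'.Opens) (hU' : IsAffineOpen U')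
    (hle : U' ≤ q ⁻¹ᵁ U) (d : ℕ) (hd : 0 < d) (f : 𝒜.presheaf.obj (op U))
    (hf : f ∈ 𝒜.deg U hU d),
    stdChart uA pA' chartA' U hU U' hU' hle hd f hf ≫ ΦA =
      tgt uA pA chartA U hU U' hU' hle hd f hf)
  (ΦB : ((RelProj.domQ uB pB' chartB' : PB'.Opens) : Scheme.{u}) ⟶ PB)
  (hΦB : ∀ (U : Y.Opens) (hU : IsAffineOpen U) (U' : Y'.Opens) (hU' : IsAffineOpen U')
    (hle : U' ≤ q ⁻¹ᵁ U) (d : ℕ) (hd : 0 < d) (f : ℬ.presheaf.obj (op U))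
    (hf : f ∈ ℬ.deg U hU d),
    stdChart uB pB' chartB' U hU U' hU' hle hd f hf ≫ ΦB =
      tgt uB pB chartB U hU U' hU' hle hd f hf)
  (W : PA.Opens) (hW : W = RelProj.domQ (RelProj.QGrHom.ofHom β hβ) pA chartA)
  (Ψ : (W : Scheme.{u}) ⟶ PB)
  (hΨ : RelProj.IsProjQMapOn (RelProj.QGrHom.ofHom β hβ) pB chartB pA chartA W Ψ)
  (W' : PA'.Opens) (hW' : W' = RelProj.domQ (RelProj.QGrHom.ofHom β' hβ') pA' chartA')
  (Ψ' : (W' : Scheme.{u}) ⟶ PB')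
  (hΨ' : RelProj.IsProjQMapOn (RelProj.QGrHom.ofHom β' hβ') pB' chartB' pA' chartA' W' Ψ')

include hsq hPA hPA' hΦA hΦB hW hΨ hW' hΨ' in
/-- **Functoriality of `Proj` for a commutative square of graded morphisms**, on `T`-valued
points. -/
theorem square {T : Scheme.{u}}
    (d : T ⟶ ((RelProj.domQ uA pA' chartA' : PA'.Opens) : Scheme.{u}))
    (a : T ⟶ (W' : Scheme.{u})) (ha : a ≫ W'.ι = d ≫ (RelProj.domQ uA pA' chartA').ι)
    (e : T ⟶ ((RelProj.domQ uB pB' chartB' : PB'.Opens) : Scheme.{u}))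
    (he : a ≫ Ψ' = e ≫ (RelProj.domQ uB pB' chartB').ι)
    (c : T ⟶ (W : Scheme.{u})) (hc : d ≫ ΦA = c ≫ W.ι) :
    c ≫ Ψ = e ≫ ΦB := by
  subst hW
  subst hW'
  apply hom_ext_of_local
  intro τ
  -- the point of `G(β)` and its chart
  have hx1 : (RelProj.domQ (RelProj.QGrHom.ofHom β hβ) pA chartA).ι (c τ) = ΦA (d τ) := by
    rw [← Scheme.Hom.comp_apply, ← hc, Scheme.Hom.comp_apply]
  obtain ⟨U, hU, hxU, -⟩ := (Opens.isBasis_iff_nbhd.mp Y.isBasis_affineOpens)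
    (show pA (ΦA (d τ)) ∈ (⊤ : Y.Opens) from trivial)
  have hx2 : ΦA (d τ) ∈ RelProj.domQ (RelProj.QGrHom.ofHom β hβ) pA chartA ⊓ pA ⁻¹ᵁ U := by
    refine ⟨?_, hxU⟩
    rw [← hx1]
    exact (c τ).2
  rw [domQ_inf_preimage_ofHom β hβ hPA U hU] at hx2
  obtain ⟨y₁, hy₁, hy₁x⟩ := hx2
  obtain ⟨k, hk, g₀, hg₀, hgy⟩ := exists_homogeneous_of_mem_domOpen _ y₁ hy₁
  have hs : (RelProj.gradedHomAt β hβ U hU) g₀ ∈ 𝒜.deg U hU k :=
    (RelProj.gradedHomAt β hβ U hU).map_mem hg₀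
  have hcompA := glue_comp_p uA hPA hPA' ΦA hΦA
  have hqb : pA' ((RelProj.domQ uA pA' chartA').ι (d τ)) ∈ q ⁻¹ᵁ U := by
    have e1 : q (pA' ((RelProj.domQ uA pA' chartA').ι (d τ))) = pA (ΦA (d τ)) := by
      rw [← Scheme.Hom.comp_apply, ← Scheme.Hom.comp_apply, ← hcompA, Scheme.Hom.comp_apply]
    have h9 : q (pA' ((RelProj.domQ uA pA' chartA').ι (d τ))) ∈ U := by
      rw [e1]
      exact hxU
    exact h9
  obtain ⟨U', hU'0, hbU', hle⟩ := (Opens.isBasis_iff_nbhd.mp Y'.isBasis_affineOpens) hqb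
  have hU' : IsAffineOpen U' := hU'0
  have hx3 : d τ ∈ ΦA ⁻¹ᵁ (Proj.awayι (𝒜.deg U hU) ((RelProj.gradedHomAt β hβ U hU) g₀) hs hk ≫
      RelProj.emb pA chartA U hU).opensRange ⊓
      (RelProj.domQ uA pA' chartA').ι ⁻¹ᵁ (pA' ⁻¹ᵁ U') := by
    refine ⟨?_, hbU'⟩
    have h5 : ΦA (d τ) ∈ (Proj.awayι (𝒜.deg U hU) ((RelProj.gradedHomAt β hβ U hU) g₀) hs hk ≫
        RelProj.emb pA chartA U hU).opensRange := by
      rw [Scheme.Hom.opensRange_comp, Proj.opensRange_awayι]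
      exact ⟨y₁, (ProjectiveSpectrum.mem_basicOpen _ _ _).mpr hgy, hy₁x⟩
    exact h5
  have hx4 : d τ ∈ (stdChart uA pA' chartA' U hU U' hU' hle hk
      ((RelProj.gradedHomAt β hβ U hU) g₀) hs).opensRange :=
    (le_of_eq (preimage_chart uA hPA hPA' ΦA hΦA U hU U' hU' hle hk
      ((RelProj.gradedHomAt β hβ U hU) g₀) hs)) hx3
  -- the open neighbourhood of `τ`
  set σ := stdChart uA pA' chartA' U hU U' hU' hle hk ((RelProj.gradedHomAt β hβ U hU) g₀) hs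
    with hσ
  set T₀ : T.Opens := d ⁻¹ᵁ σ.opensRange with hT₀
  have hτ : τ ∈ T₀ := hx4
  have hrange : Set.range (T₀.ι ≫ d).base ⊆ Set.range σ.base := by
    rintro _ ⟨t, rfl⟩
    have : d (T₀.ι t) ∈ σ.opensRange := t.2
    exact this
  set δ := IsOpenImmersion.lift σ (T₀.ι ≫ d) hrange with hδdef
  have hδ : δ ≫ σ = T₀.ι ≫ d := IsOpenImmersion.lift_fac _ _ _
  refine ⟨T₀, T₀.ι, inferInstance, ⟨⟨τ, hτ⟩, rfl⟩, ?_⟩
  -- chart of `G(β)`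
  have hle0 : U ≤ (𝟙 Y) ⁻¹ᵁ U := le_rfl
  have hκr := range_subset_domQ_of_eq (RelProj.QGrHom.ofHom β hβ) (p' := pA) (chart' := chartA)
    U hU U hU hle0 (RelProj.gradedHomAt β hβ U hU) (ofHom_gradedAt_self β hβ U hU hle0) hk g₀ hg₀
    ((RelProj.gradedHomAt β hβ U hU) g₀) rfl hs
  set κ := IsOpenImmersion.lift (RelProj.domQ (RelProj.QGrHom.ofHom β hβ) pA chartA).ι _ hκr
    with hκdef
  have hκ : κ ≫ (RelProj.domQ (RelProj.QGrHom.ofHom β hβ) pA chartA).ι =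
      Proj.awayι (𝒜.deg U hU) ((RelProj.gradedHomAt β hβ U hU) g₀) hs hk ≫
        RelProj.emb pA chartA U hU := IsOpenImmersion.lift_fac _ _ _
  have h1 : T₀.ι ≫ c = δ ≫ Spec.map (CommRingCat.ofHom (Away.map (uA.gradedAt U hU U' hU' hle)
      ((RelProj.gradedHomAt β hβ U hU) g₀))) ≫ κ := by
    rw [← cancel_mono (RelProj.domQ (RelProj.QGrHom.ofHom β hβ) pA chartA).ι]
    simp only [Category.assoc]
    rw [← hc, ← Category.assoc, ← hδ, Category.assoc, hΦA, hκ]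
    rfl
  have h2 := chartOn_eq_of_eq (RelProj.QGrHom.ofHom β hβ) _ Ψ hΨ U hU U hU hle0
    (RelProj.gradedHomAt β hβ U hU) (ofHom_gradedAt_self β hβ U hU hle0) hk g₀ hg₀
    ((RelProj.gradedHomAt β hβ U hU) g₀) rfl hs κ hκ
  -- chart of `G(β')`
  have hg' : uB.gradedAt U hU U' hU' hle g₀ ∈ ℬ'.deg U' hU' k :=
    (uB.gradedAt U hU U' hU' hle).map_mem hg₀
  have ex₂ : (RelProj.gradedHomAt β' hβ' U' hU') (uB.gradedAt U hU U' hU' hle g₀) =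
      uA.gradedAt U hU U' hU' hle ((RelProj.gradedHomAt β hβ U hU) g₀) :=
    (hsq U hU U' hU' hle g₀).symm
  have hxm : uA.gradedAt U hU U' hU' hle ((RelProj.gradedHomAt β hβ U hU) g₀) ∈
      𝒜'.deg U' hU' k := (uA.gradedAt U hU U' hU' hle).map_mem hs
  have hle0' : U' ≤ (𝟙 Y') ⁻¹ᵁ U' := le_rfl
  have hκ'r := range_subset_domQ_of_eq (RelProj.QGrHom.ofHom β' hβ') (p' := pA')
    (chart' := chartA') U' hU' U' hU' hle0' (RelProj.gradedHomAt β' hβ' U' hU')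
    (ofHom_gradedAt_self β' hβ' U' hU' hle0') hk _ hg' _ ex₂ hxm
  set κ' := IsOpenImmersion.lift (RelProj.domQ (RelProj.QGrHom.ofHom β' hβ') pA' chartA').ι _ hκ'r
    with hκ'def
  have hκ' : κ' ≫ (RelProj.domQ (RelProj.QGrHom.ofHom β' hβ') pA' chartA').ι =
      Proj.awayι (𝒜'.deg U' hU') (uA.gradedAt U hU U' hU' hle
        ((RelProj.gradedHomAt β hβ U hU) g₀)) hxm hk ≫
        RelProj.emb pA' chartA' U' hU' := IsOpenImmersion.lift_fac _ _ _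
  have h3 : T₀.ι ≫ a = δ ≫ κ' := by
    rw [← cancel_mono (RelProj.domQ (RelProj.QGrHom.ofHom β' hβ') pA' chartA').ι]
    simp only [Category.assoc]
    rw [ha, ← Category.assoc, ← hδ, Category.assoc, stdChart_ι, hκ']
    rfl
  have h4 := chartOn_eq_of_eq (RelProj.QGrHom.ofHom β' hβ') _ Ψ' hΨ' U' hU' U' hU' hle0'
    (RelProj.gradedHomAt β' hβ' U' hU') (ofHom_gradedAt_self β' hβ' U' hU' hle0') hk _ hg'
    _ ex₂ hxm κ' hκ'
  have h5 : T₀.ι ≫ e = δ ≫ Spec.map (CommRingCat.ofHom (awayMapTo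
      (RelProj.gradedHomAt β' hβ' U' hU') (uB.gradedAt U hU U' hU' hle g₀)
      (uA.gradedAt U hU U' hU' hle ((RelProj.gradedHomAt β hβ U hU) g₀)) ex₂)) ≫
      stdChart uB pB' chartB' U hU U' hU' hle hk g₀ hg₀ := by
    rw [← cancel_mono (RelProj.domQ uB pB' chartB').ι]
    simp only [Category.assoc]
    rw [← he, ← Category.assoc, h3, Category.assoc, h4, stdChart_ι]
    rfl
  -- conclusion
  have hring := awayMap_square (RelProj.gradedHomAt β hβ U hU) (uA.gradedAt U hU U' hU' hle)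
    (uB.gradedAt U hU U' hU' hle) (RelProj.gradedHomAt β' hβ' U' hU')
    (hsq U hU U' hU' hle) g₀ ex₂
  have hL : T₀.ι ≫ c ≫ Ψ = δ ≫ Spec.map (CommRingCat.ofHom (Away.map (uA.gradedAt U hU U' hU' hle)
      ((RelProj.gradedHomAt β hβ U hU) g₀))) ≫
      Spec.map (CommRingCat.ofHom (Away.map (RelProj.gradedHomAt β hβ U hU) g₀)) ≫
      Proj.awayι (ℬ.deg U hU) g₀ hg₀ hk ≫ RelProj.emb pB chartB U hU := by
    rw [← Category.assoc, h1]
    simp only [Category.assoc]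
    rw [h2, awayMapTo_rfl]
  have hR : T₀.ι ≫ e ≫ ΦB = δ ≫ Spec.map (CommRingCat.ofHom (awayMapTo
      (RelProj.gradedHomAt β' hβ' U' hU') (uB.gradedAt U hU U' hU' hle g₀)
      (uA.gradedAt U hU U' hU' hle ((RelProj.gradedHomAt β hβ U hU) g₀)) ex₂)) ≫
      Spec.map (CommRingCat.ofHom (Away.map (uB.gradedAt U hU U' hU' hle) g₀)) ≫
      Proj.awayι (ℬ.deg U hU) g₀ hg₀ hk ≫ RelProj.emb pB chartB U hU := by
    rw [← Category.assoc, h5]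
    simp only [Category.assoc]
    rw [hΦB]
    rfl
  rw [hL, hR, ← Category.assoc (Spec.map _) (Spec.map _), ← Spec.map_comp,
    ← CommRingCat.ofHom_comp, hring, CommRingCat.ofHom_comp, Spec.map_comp]
  simp only [Category.assoc]

end Square

end Groth.Agent.Lib.helper28.ProjQSquare
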