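import Groth.Agent.Lib.Helper28.SymLocal
import Groth.Agent.Lib.Helper28.RelSpecLocal
import Groth.Agent.Lib.Helper16.QCohEpi
import Groth.Agent.Lib.Helper16.FLF2

set_option autoImplicit false

universe u

/-! First properties of vector bundles `V(E) = Spec(Sym E)` (helper28): finite type, smoothness,
closed immersions from surjections. -/

namespace Groth.Agent.Lib.helper28.SymProps

open CategoryTheory CategoryTheory.Limits AlgebraicGeometry TopologicalSpace Opposite
open Groth.Agent.Lib.helper28.SymLoc Groth.Agent.Lib.helper28.SymSheaf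
open Groth.Agent.Lib.helper28.SymAlg Groth.Agent.Lib.helper28

section Algebra

variable {R : Type*} [CommRing R] {M : Type*} [AddCommGroup M] [Module R M]

/-- The symmetric algebra of a finite module is a finitely generated algebra. -/
theorem finiteType_symmetricAlgebra [Module.Finite R M] :
    Algebra.FiniteType R (SymmetricAlgebra R M) := by
  classical
  obtain ⟨s, hs⟩ := (Module.Finite.fg_top : (⊤ : Submodule R M).FG)
  refine ⟨⟨s.image (SymmetricAlgebra.ι R M), ?_⟩⟩
  rw [eq_top_iff]
  suffices key : ∀ x : SymmetricAlgebra R M, x ∈ Algebra.adjoin R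
      ((s.image (SymmetricAlgebra.ι R M) : Finset _) : Set (SymmetricAlgebra R M)) from
    fun x _ => key x
  intro x
  induction x using SymmetricAlgebra.induction with
  | algebraMap r => exact Subalgebra.algebraMap_mem _ r
  | ι m =>
    have hm : m ∈ Submodule.span R (s : Set M) := by rw [hs]; trivial
    have hle : Submodule.span R (s : Set M) ≤
        (Subalgebra.toSubmodule (Algebra.adjoin R
          ((s.image (SymmetricAlgebra.ι R M) : Finset _) : Set (SymmetricAlgebra R M)))).comap
          (SymmetricAlgebra.ι R M) := by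
      rw [Submodule.span_le]
      intro y hy
      apply Algebra.subset_adjoin
      rw [Finset.coe_image]
      exact ⟨y, hy, rfl⟩
    exact hle hm
  | mul a b ha hb => exact Subalgebra.mul_mem _ ha hb
  | add a b ha hb => exact Subalgebra.add_mem _ ha hb

/-- The symmetric algebra of a finite free module is smooth. -/
theorem smooth_symmetricAlgebra {n : ℕ} (e : M ≃ₗ[R] (Fin n → R)) :
    Algebra.Smooth R (SymmetricAlgebra R M) := by
  let b : Module.Basis (Fin n) R M := Module.Basis.ofEquivFun e
  have h1 : Algebra.Smooth R (MvPolynomial (Fin n) R) := {}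
  exact Algebra.Smooth.of_equiv (SymmetricAlgebra.equivMvPolynomial b).symm

end Algebra

variable {S : Scheme.{u}} (E : S.Modules) [E.IsQuasicoherent]
  (A : RelSpec.QCAlg S) (jA : E ⟶ A.toModule) (hA : RelSpec.IsSymAlg E A jA)

theorem str_eq_comp (U : S.Opens) :
    (A.str.app (op U)).hom = (liftU E A jA U).comp (algebraMap Γ(S, U) (SymU E U)) := by
  refine RingHom.ext fun a => ?_
  exact (liftU_algebraMap E A jA U a).symm

include hA in
theorem finiteType_str (U : S.AffineZariskiSite) [Module.Finite Γ(S, U.1) Γ(E, U.1)] :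
    (A.str.app (op U.1)).hom.FiniteType := by
  rw [str_eq_comp E A jA U.1]
  refine RingHom.FiniteType.comp
    (RingHom.FiniteType.of_surjective _ (liftU_bijective E A jA hA U).2) ?_
  rw [RingHom.finiteType_algebraMap]
  exact finiteType_symmetricAlgebra

include hA in
theorem smooth_str (U : S.AffineZariskiSite) {n : ℕ}
    (e : Γ(E, U.1) ≃ₗ[Γ(S, U.1)] (Fin n → Γ(S, U.1))) :
    (A.str.app (op U.1)).hom.Smooth := by
  rw [str_eq_comp E A jA U.1]
  refine RingHom.Smooth.comp ?_ (RingHom.Smooth.of_bijective (liftU_bijective E A jA hA U))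
  rw [RingHom.smooth_algebraMap]
  exact smooth_symmetricAlgebra e

include hA in
/-- `V(E) ⟶ S` is locally of finite type for `E` quasi-coherent of finite type. -/
theorem locallyOfFiniteType_π (hft : SheafOfModules.IsFiniteType.{u} (R := S.ringCatSheaf) E) :
    LocallyOfFiniteType A.π := by
  refine RelSpecLocal.π_of_affine A @LocallyOfFiniteType fun U => ?_
  rw [HasRingHomProperty.Spec_iff (P := @LocallyOfFiniteType)]
  have : Module.Finite Γ(S, U.1) Γ(E, U.1) :=
    Groth.Agent.Lib.helper16.CohFinite.finite_sections_of_isFiniteType E hft U.2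
  exact finiteType_str E A jA hA U

include hA in
/-- `V(E) ⟶ S` is smooth for `E` finite locally free. -/
theorem smooth_π (hlf : FlatMod.IsFinLocFree E) : Smooth A.π := by
  have hex : ∀ x : S, ∃ (U : S.AffineZariskiSite) (n : ℕ), x ∈ U.1 ∧
      Nonempty (Γ(E, U.1) ≃ₗ[Γ(S, U.1)] (Fin n → Γ(S, U.1))) := by
    intro x
    obtain ⟨U, n, hU, hxU, -, he⟩ :=
      Groth.Agent.Lib.helper16.FLF.exists_affine_free_sections_of_isFinLocFree E hlf x
    exact ⟨⟨U, hU⟩, n, hxU, he⟩
  choose U n hxU he using hex
  refine RelSpecLocal.π_of_charts A @Smooth U (fun x => ⟨x, hxU x⟩) fun x => ?_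
  rw [HasRingHomProperty.Spec_iff (P := @Smooth)]
  exact smooth_str E A jA hA (U x) (he x).some

section ClosedImm

variable (F : S.Modules) [F.IsQuasicoherent] (u : E ⟶ F) [Epi u]
  (B : RelSpec.QCAlg S) (kB : F ⟶ B.toModule) (hB : RelSpec.IsSymAlg F B kB)
  (ψ : A ⟶ B) (hψ : jA ≫ RelSpec.QCAlg.Hom.toModuleMap ψ = u ≫ kB)

include hB hψ in
theorem surjective_of_epi (U : S.AffineZariskiSite) :
    Function.Surjective (ψ.hom.app (op U.1)).hom := by
  intro b
  obtain ⟨y, rfl⟩ := (liftU_bijective F B kB hB U).2 b
  change liftU F B kB U.1 y ∈ (ψ.hom.app (op U.1)).hom.range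
  induction y using SymmetricAlgebra.induction with
  | algebraMap a =>
    rw [liftU_algebraMap]
    refine ⟨(A.str.app (op U.1)).hom a, ?_⟩
    exact congrArg (fun k => (k.app (op U.1)).hom a) ψ.comm
  | ι f =>
    rw [liftU_ι]
    obtain ⟨e, rfl⟩ := Groth.Agent.Lib.helper16.QCohEpi.surjective_app_of_epi u U.2 f
    refine ⟨(jA.app U.1).hom e, ?_⟩
    exact congrArg (fun k => (k.app U.1).hom e) hψ
  | mul a b ha hb =>
    rw [map_mul]
    exact Subring.mul_mem _ ha hb
  | add a b ha hb =>
    rw [map_add]
    exact Subring.add_mem _ ha hb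

include hB hψ in
/-- A surjection `E → F` induces a closed immersion `V(F) → V(E)`. -/
theorem isClosedImmersion_specMap : IsClosedImmersion (RelSpec.QCAlg.specMap ψ) :=
  RelSpecLocal.specMap_of_affine @IsClosedImmersion ψ fun U =>
    IsClosedImmersion.spec_of_surjective _ (surjective_of_epi E A jA F u B kB hB ψ hψ U)

end ClosedImm

end Groth.Agent.Lib.helper28.SymProps
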