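import Mathlib
import Groth.Prelude.Def_Mor2
import Groth.Prelude.Def_AffAlg
import Groth.Agent.Lib.Helper12.ImmCharts
import Groth.Agent.Lib.Helper16.QCAlg2
import Groth.Agent.Lib.Helper16.QCAlg1
import Groth.Agent.Lib.Helper28.SymProps
import Groth.Agent.S3569
import Groth.Agent.S8255

set_option autoImplicit false

universe u

/-! Quasi-affine morphisms of finite type factor through an immersion into a vector bundle `V(E)`,
`E` quasi-coherent of finite type (helper28; EGA II 5.1.9). -/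

namespace Groth.Agent.Lib.helper28.QAffImm

open CategoryTheory CategoryTheory.Limits AlgebraicGeometry TopologicalSpace Opposite

/-- (from helper4 `DescIQAGeom`) In a quasi-affine open `N`, every point has arbitrarily small affine
neighbourhoods of the form `D(r)`, `r ∈ Γ(N)`. -/
theorem exists_basicOpen_of_isQuasiAffine {Z : Scheme.{u}} (N : Z.Opens)
    [(N : Scheme.{u}).IsQuasiAffine] (x : Z) (hxN : x ∈ N) (O : Z.Opens) (hxO : x ∈ O) :
    ∃ r : Γ(Z, N), IsAffineOpen (Z.basicOpen r) ∧ x ∈ Z.basicOpen r ∧ Z.basicOpen r ≤ O := by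
  obtain ⟨_, ⟨_, ⟨r₀, hr₀, rfl⟩, rfl⟩, hxr, hrO⟩ :=
    (Scheme.IsQuasiAffine.isBasis_basicOpen (N : Scheme.{u})).exists_subset_of_mem_open
      (show (⟨x, hxN⟩ : N) ∈ N.ι ⁻¹ᵁ O from hxO) (N.ι ⁻¹ᵁ O).2
  have e : N.ι ''ᵁ (N : Scheme.{u}).basicOpen r₀ = Z.basicOpen (N.topIso.hom r₀) := by
    have h := Scheme.Opens.ι_image_basicOpen_topIso_inv N (N.topIso.hom r₀)
    rwa [CategoryTheory.Iso.hom_inv_id_apply] at h
  refine ⟨N.topIso.hom r₀, ?_, ?_, ?_⟩
  · rw [← e]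
    exact hr₀.image_of_isOpenImmersion N.ι
  · rw [← e]
    exact ⟨⟨x, hxN⟩, hxr, rfl⟩
  · rw [← e]
    rintro _ ⟨y, hy, rfl⟩
    exact hrO hy

/-- (from helper12 `VAmple4`) -/
theorem exists_generators_of_finiteType {A B : Type*} [CommRing A] [CommRing B] (φ : A →+* B)
    (h : φ.FiniteType) :
    ∃ s : Finset B, Subring.closure (Set.range φ ∪ (s : Set B)) = ⊤ := by
  classical
  let _ := φ.toAlgebra
  obtain ⟨s, hs⟩ := (h : Algebra.FiniteType A B).out
  refine ⟨s, ?_⟩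
  have h1 := Algebra.adjoin_eq_ring_closure (R := A) (s : Set B)
  rw [hs] at h1
  exact h1.symm.trans rfl

variable {X Y : Scheme.{u}} (f : X ⟶ Y)

/-- Chart data over an affine open `V` with quasi-affine preimage: finitely many functions `r` on `f⁻¹V` with
`X_r` affine, covering `f⁻¹V`, and finitely many more functions `T` such that `Γ(X_r)` is generated by
`Γ(V)`, the restrictions of `T` and the inverse of `r`. -/
theorem exists_chart_data [QuasiCompact f] [LocallyOfFiniteType f] (V : Y.Opens) (hV : IsAffineOpen V)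
    [(f ⁻¹ᵁ V : Scheme.{u}).IsQuasiAffine] :
    ∃ (R T : Finset Γ(X, f ⁻¹ᵁ V)), R ⊆ T ∧ (∀ r ∈ R, IsAffineOpen (X.basicOpen r)) ∧
      (∀ x ∈ f ⁻¹ᵁ V, ∃ r ∈ R, x ∈ X.basicOpen r) ∧
      ∀ r ∈ R, ∀ H : Subring Γ(X, X.basicOpen r),
        (∀ s, (f.appLE V (X.basicOpen r) (X.basicOpen_le r)).hom s ∈ H) →
        (∀ t ∈ T, (X.presheaf.map (homOfLE (X.basicOpen_le r)).op).hom t ∈ H) →
        (∀ w, w * (X.presheaf.map (homOfLE (X.basicOpen_le r)).op).hom r = 1 → w ∈ H) → H = ⊤ := by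
  classical
  have hcomp : IsCompact ((f ⁻¹ᵁ V : X.Opens) : Set X) := f.isCompact_preimage hV.isCompact
  have hqs : IsQuasiSeparated ((f ⁻¹ᵁ V : X.Opens) : Set X) :=
    (isQuasiSeparated_iff_quasiSeparatedSpace _ (f ⁻¹ᵁ V).2).mpr
      (inferInstance : QuasiSeparatedSpace (f ⁻¹ᵁ V : Scheme.{u}))
  have hloc : ∀ x : (f ⁻¹ᵁ V : X.Opens), ∃ r : Γ(X, f ⁻¹ᵁ V),
      IsAffineOpen (X.basicOpen r) ∧ x.1 ∈ X.basicOpen r := by
    intro x
    obtain ⟨r, h1, h2, -⟩ := exists_basicOpen_of_isQuasiAffine (f ⁻¹ᵁ V) x.1 x.2 ⊤ trivial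
    exact ⟨r, h1, h2⟩
  choose r hr hxr using hloc
  obtain ⟨F, hF⟩ := hcomp.elim_finite_subcover
    (fun x : (f ⁻¹ᵁ V : X.Opens) => ((X.basicOpen (r x) : X.Opens) : Set X))
    (fun x => (X.basicOpen (r x)).isOpen) (fun x hx => Set.mem_iUnion.mpr ⟨⟨x, hx⟩, hxr ⟨x, hx⟩⟩)
  -- generators
  have hgens : ∀ x : (f ⁻¹ᵁ V : X.Opens), ∃ b : Finset Γ(X, X.basicOpen (r x)),
      Subring.closure (Set.range (f.appLE V (X.basicOpen (r x)) (X.basicOpen_le _)).hom ∪
        (b : Set Γ(X, X.basicOpen (r x)))) = ⊤ := fun x =>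
    exists_generators_of_finiteType _ (f.finiteType_appLE hV (hr x) (X.basicOpen_le _))
  choose b hb using hgens
  have hlift : ∀ (x : (f ⁻¹ᵁ V : X.Opens)) (c : Γ(X, X.basicOpen (r x))), ∃ (N : ℕ) (a : Γ(X, f ⁻¹ᵁ V)),
      (X.presheaf.map (homOfLE (X.basicOpen_le (r x))).op).hom a =
        ((X.presheaf.map (homOfLE (X.basicOpen_le (r x))).op).hom (r x)) ^ N * c :=
    fun x c => exists_eq_pow_mul_of_isCompact_of_isQuasiSeparated X (f ⁻¹ᵁ V) hcomp hqs (r x) c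
  choose N a ha using hlift
  refine ⟨F.image r, F.image r ∪ F.biUnion (fun x => (b x).image (a x)), Finset.subset_union_left,
    ?_, ?_, ?_⟩
  · intro r' hr'
    obtain ⟨x, -, rfl⟩ := Finset.mem_image.mp hr'
    exact hr x
  · intro x hx
    obtain ⟨y, hy⟩ := Set.mem_iUnion.mp (hF hx)
    obtain ⟨hyF, hxy⟩ := Set.mem_iUnion.mp hy
    exact ⟨r y, Finset.mem_image_of_mem r hyF, hxy⟩
  · intro r' hr' H h1 h2 h3
    obtain ⟨x, hxF, rfl⟩ := Finset.mem_image.mp hr'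
    rw [eq_top_iff, ← hb x, Subring.closure_le]
    rintro c (⟨s, rfl⟩ | hc)
    · exact h1 s
    · have hu : IsUnit ((X.presheaf.map (homOfLE (X.basicOpen_le (r x))).op).hom (r x)) :=
        RingedSpace.isUnit_res_basicOpen X.toRingedSpace (r x)
      obtain ⟨w, hw⟩ := hu.exists_left_inv
      have hwH : w ∈ H := h3 w hw
      have haH : (X.presheaf.map (homOfLE (X.basicOpen_le (r x))).op).hom (a x c) ∈ H := by
        refine h2 _ (Finset.mem_union_right _ (Finset.mem_biUnion.mpr ⟨x, hxF, ?_⟩))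
        exact Finset.mem_image_of_mem _ hc
      have : c = w ^ (N x c) * (X.presheaf.map (homOfLE (X.basicOpen_le (r x))).op).hom (a x c) := by
        rw [ha x c, ← mul_assoc, ← mul_pow, hw, one_pow, one_mul]
      rw [this]
      exact H.mul_mem (H.pow_mem hwH _) haH

section Morphism

open Groth.Agent.Lib.helper28.SymAlg

variable [QuasiCompact f] [QuasiSeparated f] (E : Y.Modules) [E.IsQuasicoherent]
  (u : E ⟶ (RelSpec.QCAlg.directImage f).toModule)

/-- The homomorphism of algebras `Sym(E) ⟶ f_* O_X` extending `u`. -/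
noncomputable def ψ : symAlg E ⟶ RelSpec.QCAlg.directImage f :=
  (isSymAlg E (RelSpec.QCAlg.directImage f) u).exists.choose

theorem j_ψ : j E ≫ RelSpec.QCAlg.Hom.toModuleMap (ψ f E u) = u :=
  (isSymAlg E (RelSpec.QCAlg.directImage f) u).exists.choose_spec

/-- The corresponding homomorphism `π_* O_{V(E)} ⟶ f_* O_X`. -/
noncomputable def ω : AffAlg.algHoms (symAlg E).π f :=
  ⟨(symAlg E).gammaMap ≫ (ψ f E u).hom, by
    rw [← Category.assoc, RelSpec.QCAlg.π_c_gammaMap]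
    exact (ψ f E u).comm⟩

theorem exists_hom : ∃ (h : X ⟶ (symAlg E).spec) (w : h ≫ (symAlg E).π = f),
    ∀ V : Y.Opens, h.appLE ((symAlg E).π ⁻¹ᵁ V) (f ⁻¹ᵁ V) (by subst w; exact le_rfl) =
      (ω f E u).1.app (op V) := by
  obtain ⟨⟨h, w⟩, hh⟩ := (Groth.Agent.S3569.result (symAlg E).π f).2 (ω f E u)
  refine ⟨h, w, fun V => ?_⟩
  rw [← Groth.Agent.S3569.algHom_app (symAlg E).π f h w V]
  exact congrArg (fun k => k.1.app (op V)) hh

end Morphism

section Main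

open Groth.Agent.Lib.helper28.SymAlg

variable [QuasiCompact f] [QuasiSeparated f]

/-- The function on `π⁻¹ V ⊆ V(E)` attached to a section `e` of `E` over the affine open `V`. -/
noncomputable def fn (E : Y.Modules) [E.IsQuasicoherent] (V : Y.Opens) (hV : IsAffineOpen V)
    (e : Γ(E, V)) : Γ((symAlg E).spec, (symAlg E).π ⁻¹ᵁ V) :=
  haveI := Groth.Agent.S8255.isIso_gammaAff (symAlg E) V hV
  (inv ((symAlg E).gammaAff V hV)).hom (((j E).app V).hom e : (symAlg E).presheaf.obj (op V))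

theorem appLE_fn (E : Y.Modules) [E.IsQuasicoherent]
    (u : E ⟶ (RelSpec.QCAlg.directImage f).toModule) (h : X ⟶ (symAlg E).spec)
    (w : h ≫ (symAlg E).π = f)
    (hh : ∀ V : Y.Opens, h.appLE ((symAlg E).π ⁻¹ᵁ V) (f ⁻¹ᵁ V) (by subst w; exact le_rfl) =
      (ω f E u).1.app (op V))
    (V : Y.Opens) (hV : IsAffineOpen V) (e : Γ(E, V)) :
    (h.appLE ((symAlg E).π ⁻¹ᵁ V) (f ⁻¹ᵁ V) (by subst w; exact le_rfl)).hom (fn E V hV e) =
      ((u.app V).hom e : Γ(X, f ⁻¹ᵁ V)) := by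
  have := Groth.Agent.S8255.isIso_gammaAff (symAlg E) V hV
  rw [hh V]
  change ((ψ f E u).hom.app (op V)).hom (((symAlg E).gammaMap.app (op V)).hom (fn E V hV e)) = _
  rw [(symAlg E).gammaMap_app V hV]
  have h1 : ((symAlg E).gammaAff V hV).hom (fn E V hV e) =
      (((j E).app V).hom e : (symAlg E).presheaf.obj (op V)) := by
    change ((symAlg E).gammaAff V hV).hom ((inv ((symAlg E).gammaAff V hV)).hom _) = _
    rw [← CommRingCat.comp_apply, IsIso.inv_hom_id]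
    rfl
  rw [h1]
  exact congrArg (fun k => (k.app V).hom e) (j_ψ f E u)

end Main

theorem appLE_res {X P : Scheme.{u}} (h : X ⟶ P) {U W : P.Opens} {U' Z : X.Opens} (hWU : W ≤ U)
    (hZU' : Z ≤ U') (e1 : U' ≤ h ⁻¹ᵁ U) (e2 : Z ≤ h ⁻¹ᵁ W) (x : Γ(P, U)) :
    (h.appLE W Z e2).hom ((P.presheaf.map (homOfLE hWU).op).hom x) =
      (X.presheaf.map (homOfLE hZU').op).hom ((h.appLE U U' e1).hom x) := by
  rw [← CommRingCat.comp_apply, ← CommRingCat.comp_apply, Scheme.Hom.map_appLE,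
    Scheme.Hom.appLE_map]

section Final

open Groth.Agent.Lib.helper28.SymAlg

variable [QuasiCompact f] [QuasiSeparated f] [LocallyOfFiniteType f]

/-- A quasi-affine morphism of finite type to a quasi-compact quasi-separated scheme factors through an
immersion into a vector bundle `V(E)`, `E` quasi-coherent of finite type. -/
theorem exists_immersion [CompactSpace Y] [QuasiSeparatedSpace Y]
    (hqa : ∀ V : Y.Opens, IsAffineOpen V → Scheme.IsQuasiAffine (f ⁻¹ᵁ V : Scheme.{u})) :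
    ∃ (E : Y.Modules) (_ : E.IsQuasicoherent) (_ : CohB1.IsFT E) (h : X ⟶ (symAlg E).spec),
      IsImmersion h ∧ h ≫ (symAlg E).π = f := by
  classical
  have hBq := Groth.Agent.Lib.helper16.QCAlg.isQuasicoherent_toModule (RelSpec.QCAlg.directImage f)
  obtain ⟨S, hS, hcov⟩ := (isCompact_iff_finite_and_eq_biUnion_affineOpens
    (U := (⊤ : Y.Opens))).mp isCompact_univ
  have hdata : ∀ V : Y.affineOpens, ∃ (R T : Finset Γ(X, f ⁻¹ᵁ V.1)), R ⊆ T ∧
      (∀ r ∈ R, IsAffineOpen (X.basicOpen r)) ∧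
      (∀ x ∈ f ⁻¹ᵁ V.1, ∃ r ∈ R, x ∈ X.basicOpen r) ∧
      ∀ r ∈ R, ∀ H : Subring Γ(X, X.basicOpen r),
        (∀ s, (f.appLE V.1 (X.basicOpen r) (X.basicOpen_le r)).hom s ∈ H) →
        (∀ t ∈ T, (X.presheaf.map (homOfLE (X.basicOpen_le r)).op).hom t ∈ H) →
        (∀ w, w * (X.presheaf.map (homOfLE (X.basicOpen_le r)).op).hom r = 1 → w ∈ H) →
        H = ⊤ := fun V => by
    have := hqa V.1 V.2
    exact exists_chart_data f V.1 V.2
  choose R T hRT hRaff hRcov hgen using hdata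
  obtain ⟨E, u, -, hq, hft, hE⟩ :=
    Groth.Agent.Lib.helper16.Satur.exists_ft_sub_sections_family
      (RelSpec.QCAlg.directImage f).toModule hS.toFinset T
  have := hq
  obtain ⟨h, w, hh⟩ := exists_hom f E u
  refine ⟨E, hq, hft, h, ?_, w⟩
  have hpreim : ∀ (V : S) (t : Γ(X, f ⁻¹ᵁ V.1.1)), t ∈ T V.1 →
      ∃ e : Γ(E, V.1.1), ((u.app V.1.1).hom e : Γ(X, f ⁻¹ᵁ V.1.1)) = t :=
    fun V t ht => hE V.1 (hS.mem_toFinset.mpr V.2) t ht
  choose! e he using hpreim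
  let P := (symAlg E).spec
  let π := (symAlg E).π
  let I := Σ V : S, {r // r ∈ R V.1}
  let G : ∀ i : I, Γ(P, π ⁻¹ᵁ i.1.1.1) := fun i => fn E i.1.1.1 i.1.1.2 (e i.1 i.2.1)
  let W : I → P.Opens := fun i => P.basicOpen (G i)
  let Z : I → X.Opens := fun i => X.basicOpen i.2.1
  have hle : ∀ V : Y.Opens, f ⁻¹ᵁ V ≤ h ⁻¹ᵁ (π ⁻¹ᵁ V) := fun V => by subst w; exact le_rfl
  have hle' : ∀ V : Y.Opens, h ⁻¹ᵁ (π ⁻¹ᵁ V) ≤ f ⁻¹ᵁ V := fun V => by subst w; exact le_rfl
  have hG : ∀ i : I, (h.appLE (π ⁻¹ᵁ i.1.1.1) (f ⁻¹ᵁ i.1.1.1) (hle _)).hom (G i) = i.2.1 := by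
    intro i
    rw [appLE_fn f E u h w hh i.1.1.1 i.1.1.2 (e i.1 i.2.1)]
    exact he i.1 i.2.1 (hRT i.1.1 i.2.2)
  have hpre : ∀ i, h ⁻¹ᵁ W i = Z i := by
    intro i
    change h ⁻¹ᵁ P.basicOpen (G i) = X.basicOpen i.2.1
    rw [Scheme.Hom.preimage_basicOpen, ← hG i, Scheme.Hom.appLE, CommRingCat.comp_apply]
    erw [Scheme.basicOpen_res]
    refine (inf_eq_right.mpr ?_).symm
    exact (X.basicOpen_le _).trans (hle' _)
  refine Groth.Agent.Lib.helper12.ImmCharts.isImmersion_of_charts h W ?_ ?_ ?_ ?_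
  · intro i
    exact (i.1.1.2.preimage π).basicOpen (G i)
  · intro i
    rw [hpre i]
    exact hRaff i.1.1 i.2.1 i.2.2
  · intro i
    have key : ∀ (Z' : X.Opens) (hZ' : h ⁻¹ᵁ W i = Z'),
        Function.Surjective (h.appLE (W i) Z' hZ'.ge).hom →
          Function.Surjective (h.app (W i)).hom := by
      rintro Z' rfl hs
      rwa [← Scheme.Hom.app_eq_appLE] at hs
    refine key (Z i) (hpre i) ?_
    have hZW : Z i ≤ h ⁻¹ᵁ W i := (hpre i).ge
    have hWV : W i ≤ π ⁻¹ᵁ i.1.1.1 := P.basicOpen_le _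
    have hZV : Z i ≤ f ⁻¹ᵁ i.1.1.1 := X.basicOpen_le _
    rw [← RingHom.range_eq_top]
    have hfn : ∀ e' : Γ(E, i.1.1.1),
        (h.appLE (W i) (Z i) hZW).hom ((P.presheaf.map (homOfLE hWV).op).hom
          (fn E i.1.1.1 i.1.1.2 e')) =
        (X.presheaf.map (homOfLE hZV).op).hom ((u.app i.1.1.1).hom e' : Γ(X, f ⁻¹ᵁ i.1.1.1)) := by
      intro e'
      rw [appLE_res h hWV hZV (hle _) hZW, appLE_fn f E u h w hh i.1.1.1 i.1.1.2 e']
    refine hgen i.1.1 i.2.1 i.2.2 _ ?_ ?_ ?_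
    · intro s
      have e1 : f.appLE i.1.1.1 (Z i) hZV =
          π.appLE i.1.1.1 (W i) hWV ≫ h.appLE (W i) (Z i) hZW := by
        rw [Scheme.Hom.appLE_comp_appLE]
        subst w
        rfl
      change (f.appLE i.1.1.1 (Z i) hZV).hom s ∈ _
      rw [e1]
      exact ⟨_, rfl⟩
    · intro t ht
      refine ⟨(P.presheaf.map (homOfLE hWV).op).hom (fn E i.1.1.1 i.1.1.2 (e i.1 t)), ?_⟩
      rw [hfn, he i.1 t ht]
    · intro w' hw'
      have hu : IsUnit ((P.presheaf.map (homOfLE hWV).op).hom (G i)) :=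
        RingedSpace.isUnit_res_basicOpen P.toRingedSpace (G i)
      obtain ⟨v, hv⟩ := hu.exists_left_inv
      refine ⟨v, ?_⟩
      have h1 : (h.appLE (W i) (Z i) hZW).hom ((P.presheaf.map (homOfLE hWV).op).hom (G i)) =
          (X.presheaf.map (homOfLE hZV).op).hom i.2.1 := by
        rw [hfn, he i.1 i.2.1 (hRT i.1.1 i.2.2)]
      have h2 : (h.appLE (W i) (Z i) hZW).hom v *
          (X.presheaf.map (homOfLE hZV).op).hom i.2.1 = 1 := by
        rw [← h1, ← map_mul, hv, map_one]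
      calc (h.appLE (W i) (Z i) hZW).hom v
          = (w' * (X.presheaf.map (homOfLE hZV).op).hom i.2.1) *
              (h.appLE (W i) (Z i) hZW).hom v := by rw [hw', one_mul]
        _ = w' * ((h.appLE (W i) (Z i) hZW).hom v *
              (X.presheaf.map (homOfLE hZV).op).hom i.2.1) := by ring
        _ = w' := by rw [h2, mul_one]
  · rw [eq_top_iff]
    intro x _
    have hx : f x ∈ ((⊤ : Y.Opens) : Set Y) := trivial
    rw [hcov] at hx
    obtain ⟨V, hVS, hxV⟩ : ∃ V : Y.affineOpens, V ∈ S ∧ f x ∈ V.1 := by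
      simpa using hx
    obtain ⟨r, hr, hxr⟩ := hRcov V x hxV
    refine Opens.mem_iSup.mpr ⟨⟨⟨V, hVS⟩, ⟨r, hr⟩⟩, ?_⟩
    rw [hpre]
    exact hxr

end Final

end Groth.Agent.Lib.helper28.QAffImm
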