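import Groth.Agent.Lib.Helper28.PowMap
import Groth.Agent.Lib.Helper16.QCAlg1
import Groth.Agent.Lib.Helper7.IdealCartier

/-!
# Restriction of a quasi-coherent algebra to an open subscheme (helper28)

* `restr A W : RelSpec.QCAlg ↑W`, sections over `U'` are the sections of `A` over `W.ι ''ᵁ U'`.
* `restrHom A W φ : M|_W ⟶ (restr A W).toModule` for `φ : M ⟶ A.toModule`; `restrHom_app`.
-/

set_option autoImplicit false
universe u
open CategoryTheory AlgebraicGeometry TopologicalSpace Opposite

namespace Groth.Agent.Lib.helper28.QCAlgRestrict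

variable {X : Scheme.{u}} (A : RelSpec.QCAlg X) (W : X.Opens)

theorem isLocalization_of_eq (U : X.Opens) (hU : IsAffineOpen U) (r : Γ(X, U)) (O : X.Opens)
    (hO : O = X.basicOpen r) (hle : O ≤ U) :
    letI := (A.presheaf.map (homOfLE hle).op).hom.toAlgebra
    IsLocalization.Away ((A.str.app (op U)).hom r) (A.presheaf.obj (op O)) := by
  subst hO
  exact A.isQC U hU r

/-- Restriction of a quasi-coherent algebra to an open subscheme. -/
noncomputable def restr : RelSpec.QCAlg (↑W : Scheme.{u}) where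
  presheaf := W.ι.opensFunctor.op ⋙ A.presheaf
  isSheaf := TopCat.Presheaf.isSheaf_of_isOpenEmbedding W.ι.isOpenEmbedding A.isSheaf
  str := Functor.whiskerLeft W.ι.opensFunctor.op A.str
  isQC := by
    intro U' hU' r
    have heq : W.ι ''ᵁ (↑W : Scheme.{u}).basicOpen r =
        X.basicOpen (show Γ(X, W.ι ''ᵁ U') from r) := by
      rw [Scheme.image_basicOpen, Scheme.Opens.ι_appIso]
      rfl
    exact isLocalization_of_eq A (W.ι ''ᵁ U') (hU'.image_of_isOpenImmersion W.ι)
      (show Γ(X, W.ι ''ᵁ U') from r) (W.ι ''ᵁ (↑W : Scheme.{u}).basicOpen r) heq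
      (W.ι.image_mono ((↑W : Scheme.{u}).basicOpen_le r))

open Groth.Agent.Lib.helper28.PowMap

/-- A map of modules into `A`, restricted to the open subscheme `W`. -/
noncomputable def restrHom {M : X.Modules} (φ : M ⟶ A.toModule) :
    M.restrict W.ι ⟶ (restr A W).toModule :=
  ⟨letI := (restr A W).moduleSect
   PresheafOfModules.homMk
    (Functor.whiskerLeft W.ι.opensFunctor.op ((PresheafOfModules.toPresheaf _).map φ.val))
    (fun U' r m => by
      obtain ⟨U'⟩ := U'
      have h1 := Groth.Agent.Lib.helper7.IdealCartier.restrict_smul W M U' r m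
      have h2 := Scheme.Modules.Hom.app_smul φ (show Γ(X, W.ι ''ᵁ U') from r)
        (show Γ(M, W.ι ''ᵁ U') from m)
      exact (congrArg (φ.app (W.ι ''ᵁ U')).hom h1).trans h2)⟩

theorem restrHom_app {M : X.Modules} (φ : M ⟶ A.toModule) (U' : (↑W : Scheme.{u}).Opens)
    (m : Γ(M.restrict W.ι, U')) :
    toRing (restr A W) ((restrHom A W φ).app U' m) =
      toRing A (φ.app (W.ι ''ᵁ U') (show Γ(M, W.ι ''ᵁ U') from m)) := rfl

end Groth.Agent.Lib.helper28.QCAlgRestrict
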