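import Groth.Agent.Lib.Helper16.QCohEpi

/-!
# Isomorphisms of quasi-coherent modules via sections over an affine cover (helper28)

`injective_app_basicOpen`, `mono_of_injective_on_affine_cover`,
`isIso_of_bijective_on_affine_cover`.
-/

set_option autoImplicit false
universe u
open CategoryTheory CategoryTheory.Limits AlgebraicGeometry TopologicalSpace Opposite

namespace Groth.Agent.Lib.helper28.QCohIso

open Scheme.Modules Groth.Agent.Lib.helper7 Groth.Agent.Lib.helper16.CohFinite
open Groth.Agent.Lib.helper16.QCohEpi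

variable {X : Scheme.{u}}

/-- injectivity on sections over an affine open passes to basic opens (both quasi-coherent) -/
theorem injective_app_basicOpen {F G : X.Modules} [F.IsQuasicoherent] [G.IsQuasicoherent]
    (u : F ⟶ G) {U : X.Opens} (hU : IsAffineOpen U) (g : Γ(X, U))
    (h : Function.Injective (u.app U).hom) :
    Function.Injective (u.app (X.basicOpen g)).hom := by
  rw [injective_iff_map_eq_zero]
  intro t ht
  have LF := isLocalizedModule_of_eq_basicOpen F hU g (X.basicOpen_le g) rfl
  letI := modOfLE F (X.basicOpen_le g)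
  obtain ⟨⟨s, ⟨_, n, rfl⟩⟩, hs⟩ := LF.surj t
  have hs' : (resRing (X.basicOpen_le g) (g ^ n)) • t =
      F.presheaf.map (homOfLE (X.basicOpen_le g)).op s := hs
  have h1 : G.presheaf.map (homOfLE (X.basicOpen_le g)).op ((u.app U).hom s) = 0 := by
    rw [← app_map u (X.basicOpen_le g) s, ← hs']
    have h2 := Scheme.Modules.Hom.app_smul u (resRing (X.basicOpen_le g) (g ^ n)) t
    refine h2.trans ?_
    erw [ht]
    exact smul_zero _
  obtain ⟨m, hm⟩ := exists_pow_smul_eq_zero_of_isAffineOpen hU G g _ h1
  have h2 : (u.app U).hom (g ^ m • s) = 0 :=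
    (Scheme.Modules.Hom.app_smul u (g ^ m) s).trans hm
  have h3 : g ^ m • s = 0 := h (h2.trans (map_zero _).symm)
  have h4 : F.presheaf.map (homOfLE (X.basicOpen_le g)).op s = 0 :=
    (IsLocalizedModule.eq_zero_iff (Submonoid.powers g) (resLin F (X.basicOpen_le g))).mpr
      ⟨⟨g ^ m, m, rfl⟩, h3⟩
  rw [h4] at hs'
  have hunit : IsUnit (resRing (X.basicOpen_le g) g) :=
    RingedSpace.isUnit_res_basicOpen X.toRingedSpace g
  obtain ⟨v, hv⟩ := hunit.pow n
  rw [map_pow, ← hv] at hs'
  have := congrArg (fun z => (↑v⁻¹ : Γ(X, X.basicOpen g)) • z) hs'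
  simpa [smul_smul] using this

/-- **a morphism of quasi-coherent modules which is injective on sections over an affine open
cover is a monomorphism** -/
theorem mono_of_injective_on_affine_cover {F G : X.Modules} [F.IsQuasicoherent]
    [G.IsQuasicoherent] (u : F ⟶ G)
    {ι : Type*} (W : ι → X.Opens) (hW : ∀ i, IsAffineOpen (W i)) (hcov : ∀ x : X, ∃ i, x ∈ W i)
    (h : ∀ i, Function.Injective (u.app (W i)).hom) : Mono u := by
  let 𝔅 : Set X.Opens := {D | ∃ (i : ι) (g : Γ(X, W i)), D = X.basicOpen g}
  refine mono_of_injective_on_basis u 𝔅 ?_ ?_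
  · rw [Opens.isBasis_iff_nbhd]
    intro O x hx
    obtain ⟨i, hi⟩ := hcov x
    obtain ⟨g, hg, hxg⟩ := (hW i).exists_basicOpen_le (V := O) ⟨x, hx⟩ hi
    exact ⟨X.basicOpen g, ⟨i, g, rfl⟩, hxg, hg⟩
  · rintro D ⟨i, g, rfl⟩
    exact injective_app_basicOpen u (hW i) g (h i)

/-- **a morphism of quasi-coherent modules which is bijective on sections over an affine open
cover is an isomorphism** -/
theorem isIso_of_bijective_on_affine_cover {F G : X.Modules} [F.IsQuasicoherent]
    [G.IsQuasicoherent] (u : F ⟶ G)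
    {ι : Type*} (W : ι → X.Opens) (hW : ∀ i, IsAffineOpen (W i)) (hcov : ∀ x : X, ∃ i, x ∈ W i)
    (h : ∀ i, Function.Bijective (u.app (W i)).hom) : IsIso u := by
  haveI := mono_of_injective_on_affine_cover u W hW hcov (fun i => (h i).1)
  exact isIso_of_mono_of_surjective_on_affine_cover u W hW hcov (fun i => (h i).2)

end Groth.Agent.Lib.helper28.QCohIso
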