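import Groth.Agent.Lib.Helper28.PairGlue
import Groth.Agent.Lib.Helper28.SymPair
import Groth.Agent.Lib.Helper28.SymLineAmpleImm

/-!
# Extensionality for `g`-morphisms of quasi-coherent algebras (helper28)

* `app_eq_of_affine`: two `g`-morphisms agreeing over the affine opens of the base agree.
* `app_eq_of_sym`: two `g`-morphisms out of a symmetric algebra agreeing on the generators agree.
* `domQ_eq_top_of_gen`: `Proj(u)` is everywhere defined when `φ : q^*E → L` is surjective.
-/

set_option autoImplicit false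
universe u

open CategoryTheory CategoryTheory.Limits AlgebraicGeometry TopologicalSpace Opposite

namespace Groth.Agent.Lib.helper28.QHomExt

open Groth.Agent.Lib.helper28 Groth.Agent.Lib.helper28.PairGlue

variable {X Y : Scheme.{u}} {f : X ⟶ Y} {A : RelSpec.QCAlg Y} {B : RelSpec.QCAlg X}

theorem app_eq_of_affine (u₁ u₂ : RelSpec.QHom f A B)
    (h : ∀ (V : Y.Opens), IsAffineOpen V → ∀ a : A.presheaf.obj (op V),
      (u₁.app V).hom a = (u₂.app V).hom a)
    (U : Y.Opens) (a : A.presheaf.obj (op U)) : (u₁.app U).hom a = (u₂.app U).hom a := by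
  refine TopCat.Sheaf.eq_of_locally_eq' (shf B) (fun k : AffIn U => f ⁻¹ᵁ k.1) (f ⁻¹ᵁ U)
    (fun k => homOfLE (f.preimage_mono k.2.2)) ?_ _ _ (fun k => ?_)
  · intro x hx
    obtain ⟨k, hk⟩ := Opens.mem_iSup.mp (le_iSup_affIn U (show f x ∈ U from hx))
    exact Opens.mem_iSup.mpr ⟨k, hk⟩
  · obtain ⟨V, hV, hle⟩ := k
    change (B.presheaf.map (homOfLE (f.preimage_mono hle)).op).hom ((u₁.app U).hom a) =
      (B.presheaf.map (homOfLE (f.preimage_mono hle)).op).hom ((u₂.app U).hom a)
    have h1 : (B.presheaf.map (homOfLE (f.preimage_mono hle)).op).hom ((u₁.app U).hom a) =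
        (u₁.app V).hom ((A.presheaf.map (homOfLE hle).op).hom a) :=
      congrArg (fun k => k.hom a) (u₁.naturality hle)
    have h2 : (B.presheaf.map (homOfLE (f.preimage_mono hle)).op).hom ((u₂.app U).hom a) =
        (u₂.app V).hom ((A.presheaf.map (homOfLE hle).op).hom a) :=
      congrArg (fun k => k.hom a) (u₂.naturality hle)
    rw [h1, h2]
    exact h V hV _

theorem app_str_apply (u₁ : RelSpec.QHom f A B) (U : Y.Opens) (r : Γ(Y, U)) :
    (u₁.app U).hom ((A.str.app (op U)).hom r) =
      (B.str.app (op (f ⁻¹ᵁ U))).hom ((f.app U).hom r) :=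
  congrArg (fun k => k.hom r) (u₁.str_app U)

theorem app_eq_of_sym (E : Y.Modules) [E.IsQuasicoherent] (jA : E ⟶ A.toModule)
    (hA : RelSpec.IsSymAlg E A jA) (u₁ u₂ : RelSpec.QHom f A B)
    (h : ∀ (V : Y.Opens), IsAffineOpen V → ∀ e : Γ(E, V),
      (u₁.app V).hom ((jA.app V).hom e) = (u₂.app V).hom ((jA.app V).hom e))
    (U : Y.Opens) : u₁.app U = u₂.app U := by
  ext a
  refine app_eq_of_affine u₁ u₂ (fun V hV a => ?_) U a
  have key := SymPair.ringHom_ext_of_str_j E A jA hA V hV (u₁.app V).hom (u₂.app V).hom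
    (fun r => by rw [app_str_apply, app_str_apply]) (h V hV)
  exact congrArg (fun k => k a) key

end Groth.Agent.Lib.helper28.QHomExt
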