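import Mathlib
import Groth.Prelude.Def_CAlgX

/-!
# The graded pieces `Jⁿ/Jⁿ⁺¹` of a quasi-regular ideal are finite free over `A/J` (helper28)

`nonempty_linearEquiv`: for a quasi-regular sequence `f` generating `J`, there is an `A`-linear
isomorphism `Jⁿ/Jⁿ⁺¹ ≃ (Fin N → A/J)`.
-/

set_option autoImplicit false
set_option linter.unusedSectionVars false

universe u

open MvPolynomial

namespace Groth.Agent.Lib.helper28.QuasiRegGr

variable {A : Type u} [CommRing A] {c : ℕ} (f : Fin c → A)

/-- exponents of degree `n`. -/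
noncomputable def S (c n : ℕ) : Finset (Fin c →₀ ℕ) :=
  (Finsupp.finite_of_degree_eq (σ := Fin c) n).toFinset

theorem mem_S {n : ℕ} {d : Fin c →₀ ℕ} : d ∈ S c n ↔ d.degree = n := by
  simp [S]

/-- the polynomial with given coefficients in degree `n`. -/
noncomputable def polyL (n : ℕ) : (S c n → A) →ₗ[A] MvPolynomial (Fin c) A :=
  ∑ d : S c n, (monomial d.1 : A →ₗ[A] MvPolynomial (Fin c) A) ∘ₗ LinearMap.proj d

theorem polyL_apply (n : ℕ) (a : S c n → A) :
    polyL n a = ∑ d : S c n, monomial d.1 (a d) := by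
  simp [polyL, LinearMap.sum_apply]

theorem coeff_polyL (n : ℕ) (a : S c n → A) (e : Fin c →₀ ℕ) :
    coeff e (polyL n a) = if h : e ∈ S c n then a ⟨e, h⟩ else 0 := by
  classical
  rw [polyL_apply, coeff_sum]
  simp only [coeff_monomial]
  split_ifs with h
  · rw [Finset.sum_eq_single (⟨e, h⟩ : S c n)]
    · simp
    · intro b _ hb
      rw [if_neg]
      intro hbe
      exact hb (Subtype.ext hbe)
    · intro h'
      exact absurd (Finset.mem_univ _) h'
  · refine Finset.sum_eq_zero fun b _ => ?_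
    rw [if_neg]
    intro hbe
    exact h (hbe ▸ b.2)

theorem polyL_isHomogeneous (n : ℕ) (a : S c n → A) : (polyL n a).IsHomogeneous n := by
  rw [polyL_apply]
  exact IsHomogeneous.sum _ _ _ (fun d _ => isHomogeneous_monomial _ (mem_S.mp d.2))

theorem polyL_coeff_eq (n : ℕ) (P : MvPolynomial (Fin c) A) (hP : P.IsHomogeneous n) :
    polyL n (fun d : S c n => coeff d.1 P) = P := by
  ext e
  rw [coeff_polyL]
  split_ifs with h
  · rfl
  · rw [mem_S] at h
    exact (hP.coeff_eq_zero h).symm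

theorem eval_polyL_mem (n : ℕ) (a : S c n → A) :
    eval f (polyL n a) ∈ Ideal.span (Set.range f) ^ n :=
  (Ideal.mem_span_pow_iff_exists_isHomogeneous f _).mpr ⟨_, polyL_isHomogeneous n a, rfl⟩

/-- `a ↦ Σ a_d f^d`, into `Jⁿ`. -/
noncomputable def ev (n : ℕ) : (S c n → A) →ₗ[A] ↥(Ideal.span (Set.range f) ^ n) :=
  LinearMap.codRestrict (Ideal.span (Set.range f) ^ n)
    ((aeval f : MvPolynomial (Fin c) A →ₐ[A] A).toLinearMap ∘ₗ polyL n)
    (fun a => by
      change aeval f (polyL n a) ∈ _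
      rw [MvPolynomial.aeval_eq_eval]
      exact eval_polyL_mem f n a)

theorem ev_coe (n : ℕ) (a : S c n → A) : ((ev f n a : ↥(Ideal.span (Set.range f) ^ n)) : A) =
    eval f (polyL n a) := by
  change aeval f (polyL n a) = _
  rw [MvPolynomial.aeval_eq_eval]

theorem ev_surjective (n : ℕ) : Function.Surjective (ev f n) := by
  rintro ⟨x, hx⟩
  obtain ⟨P, hP, rfl⟩ := (Ideal.mem_span_pow_iff_exists_isHomogeneous f _).mp hx
  refine ⟨fun d : S c n => coeff d.1 P, Subtype.ext ?_⟩
  rw [ev_coe, polyL_coeff_eq n P hP]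

/-- the quotient `Jⁿ/Jⁿ⁺¹`, in the form of the statements. -/
abbrev Gr (n : ℕ) : Type u :=
  ↥(Ideal.span (Set.range f) ^ n) ⧸
    Submodule.comap (Ideal.span (Set.range f) ^ n).subtype (Ideal.span (Set.range f) ^ (n + 1))

/-- `a ↦ Σ a_d f^d`, into `Jⁿ/Jⁿ⁺¹`. -/
noncomputable def evQ (n : ℕ) : (S c n → A) →ₗ[A] Gr f n :=
  (Submodule.mkQ _) ∘ₗ ev f n

theorem evQ_surjective (n : ℕ) : Function.Surjective (evQ f n) :=
  (Submodule.mkQ_surjective _).comp (ev_surjective f n)

/-- coefficientwise reduction modulo `J`. -/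
noncomputable def red (n : ℕ) : (S c n → A) →ₗ[A] (S c n → A ⧸ Ideal.span (Set.range f)) :=
  (Submodule.mkQ (Ideal.span (Set.range f))).compLeft (S c n)

theorem red_surjective (n : ℕ) : Function.Surjective (red f n) := by
  intro b
  choose a ha using fun d => Submodule.mkQ_surjective (Ideal.span (Set.range f)) (b d)
  exact ⟨a, funext ha⟩

theorem mem_ker_red (n : ℕ) (a : S c n → A) :
    a ∈ LinearMap.ker (red f n) ↔ ∀ d, a d ∈ Ideal.span (Set.range f) := by
  rw [LinearMap.mem_ker]
  constructor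
  · intro h d
    have := congrFun h d
    exact (Submodule.Quotient.mk_eq_zero _).mp this
  · intro h
    funext d
    exact (Submodule.Quotient.mk_eq_zero _).mpr (h d)

theorem mem_ker_evQ (hf : CAlgX.IsQuasiRegular f) (n : ℕ) (a : S c n → A) :
    a ∈ LinearMap.ker (evQ f n) ↔ ∀ d, a d ∈ Ideal.span (Set.range f) := by
  rw [LinearMap.mem_ker]
  change Submodule.Quotient.mk (ev f n a) = 0 ↔ _
  rw [Submodule.Quotient.mk_eq_zero, Submodule.mem_comap, Submodule.subtype_apply, ev_coe]
  constructor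
  · intro h d
    have := hf n (polyL n a) (polyL_isHomogeneous n a) h d.1
    rw [coeff_polyL, dif_pos d.2] at this
    exact this
  · intro h
    rw [polyL_apply, map_sum]
    refine Ideal.sum_mem _ fun d _ => ?_
    have h1 : (monomial d.1 (a d) : MvPolynomial (Fin c) A) = C (a d) * monomial d.1 1 := by
      rw [C_mul_monomial, mul_one]
    rw [h1, map_mul, eval_C, pow_succ']
    refine Ideal.mul_mem_mul (h d) ?_
    exact (Ideal.mem_span_pow_iff_exists_isHomogeneous f _).mpr
      ⟨_, isHomogeneous_monomial _ (mem_S.mp d.2), rfl⟩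

/-- **`Jⁿ/Jⁿ⁺¹` is free of finite rank over `A/J`** for a quasi-regular sequence. -/
theorem nonempty_linearEquiv (hf : CAlgX.IsQuasiRegular f) (n : ℕ) :
    ∃ N : ℕ, Nonempty (Gr f n ≃ₗ[A] (Fin N → A ⧸ Ideal.span (Set.range f))) := by
  have hker : LinearMap.ker (evQ f n) = LinearMap.ker (red f n) := by
    ext a
    rw [mem_ker_evQ f hf, mem_ker_red]
  let e1 := (evQ f n).quotKerEquivOfSurjective (evQ_surjective f n)
  let e2 := (red f n).quotKerEquivOfSurjective (red_surjective f n)
  let e3 := Submodule.quotEquivOfEq _ _ hker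
  let e4 : (S c n → A ⧸ Ideal.span (Set.range f)) ≃ₗ[A]
      (Fin (Fintype.card (S c n)) → A ⧸ Ideal.span (Set.range f)) :=
    LinearEquiv.funCongrLeft A _ (Fintype.equivFin (S c n)).symm
  exact ⟨Fintype.card (S c n), ⟨e1.symm.trans (e3.trans (e2.trans e4))⟩⟩

end Groth.Agent.Lib.helper28.QuasiRegGr
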