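import Groth.Agent.Lib.Helper28.ProjBaseChange
import Groth.Agent.Lib.Helper28.RelTwistChart
import Groth.Agent.Lib.Helper28.RelSpecMap

/-!
# Base change of relative homogeneous spectra (helper28)

`Proj(𝒮') = Proj(𝒮) ×_Y Y'` when the squares `O_Y(U) → O_{Y'}(U')`, `𝒮(U) → 𝒮'(U')` are pushouts.
-/

set_option autoImplicit false
universe u

namespace Groth.Agent.Lib.helper28.RelProjBC

open CategoryTheory CategoryTheory.Limits AlgebraicGeometry TopologicalSpace Opposite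
open scoped HomogeneousIdeal
open Groth.Agent.Lib.helper28.RelSpecMap Groth.Agent.Lib.helper28.RelTwistChart
open Groth.Agent.Lib.helper28.AwayBaseChange Groth.Agent.Lib.helper28.ProjBaseChange

section Chart

variable {S : Scheme.{u}} {𝒮 : RelProj.QCGrAlg S} {P : Scheme.{u}} {p : P ⟶ S}
  {chart : ∀ (U : S.Opens) (hU : IsAffineOpen U),
    (((p ⁻¹ᵁ U : P.Opens) : Scheme.{u}) ≅ Proj (𝒮.deg U hU))}

theorem emb_comp_p (hP : RelProj.IsRelProj 𝒮 p chart) (U : S.Opens) (hU : IsAffineOpen U) :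
    RelProj.emb p chart U hU ≫ p =
      (Proj.toSpecZero (𝒮.deg U hU) ≫ Spec.map (𝒮.strZero U hU)) ≫ hU.fromSpec := by
  unfold RelProj.emb
  rw [Category.assoc, ← hP.chart_over U hU, Iso.inv_hom_id_assoc, Category.assoc]

/-- The chart `Proj 𝒮(U)` of a relative Proj is the preimage of `U`. -/
theorem isPullback_emb (hP : RelProj.IsRelProj 𝒮 p chart) (U : S.Opens) (hU : IsAffineOpen U) :
    IsPullback (RelProj.emb p chart U hU)
      (Proj.toSpecZero (𝒮.deg U hU) ≫ Spec.map (𝒮.strZero U hU)) p hU.fromSpec := by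
  refine (IsOpenImmersion.isPullback _ _ _ _ (emb_comp_p hP U hU) ?_).flip
  apply Opens.ext
  rw [Scheme.Hom.coe_opensRange, range_emb, hU.opensRange_fromSpec]

end Chart

/-- The open cover of `Y'` by the affine opens `U'` contained in the preimage of some affine open
`U` of `Y`. -/
noncomputable def pairCover {Y Y' : Scheme.{u}} (ψ : Y' ⟶ Y) : Y'.OpenCover where
  I₀ := Pair ψ
  X P := Spec Γ(Y', P.U')
  f P := P.hU'.fromSpec
  mem₀ := by
    rw [Scheme.presieve₀_mem_precoverage_iff]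
    refine ⟨fun x ↦ ?_, fun P => inferInstance⟩
    obtain ⟨U, hU, hyU⟩ : ∃ U : Y.Opens, IsAffineOpen U ∧ ψ.base x ∈ U := by
      obtain ⟨_, ⟨U, hU, rfl⟩, hxU, -⟩ := Y.isBasis_affineOpens.exists_subset_of_mem_open
        (Set.mem_univ (ψ.base x)) isOpen_univ
      exact ⟨U, hU, hxU⟩
    obtain ⟨_, ⟨U', hU', rfl⟩, hxU', hle⟩ := Y'.isBasis_affineOpens.exists_subset_of_mem_open
      (show x ∈ ((ψ ⁻¹ᵁ U : Y'.Opens) : Set Y') from hyU) (ψ ⁻¹ᵁ U).isOpen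
    refine ⟨⟨U, U', hU, hU', hle⟩, ?_⟩
    change x ∈ Set.range hU'.fromSpec.base
    rw [hU'.range_fromSpec]
    exact hxU'

/-- **Base change of relative Proj.** -/
theorem isPullback_baseChange {Y Y' P P' : Scheme.{u}} (ψ : Y' ⟶ Y) (𝒮 : RelProj.QCGrAlg Y)
    (𝒮' : RelProj.QCGrAlg Y')
    (φ : ∀ (U : Y.Opens) (hU : IsAffineOpen U) (U' : Y'.Opens) (hU' : IsAffineOpen U')
      (_ : U' ≤ ψ ⁻¹ᵁ U), 𝒮.deg U hU →+*ᵍ 𝒮'.deg U' hU')
    (hpo : ∀ (U : Y.Opens) (hU : IsAffineOpen U) (U' : Y'.Opens) (hU' : IsAffineOpen U')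
      (hle : U' ≤ ψ ⁻¹ᵁ U),
      IsPushout (ψ.appLE U U' hle) (𝒮.str.app (op U)) (𝒮'.str.app (op U'))
        (CommRingCat.ofHom (φ U hU U' hU' hle).toRingHom))
    (hirr : ∀ (U : Y.Opens) (hU : IsAffineOpen U) (U' : Y'.Opens) (hU' : IsAffineOpen U')
      (hle : U' ≤ ψ ⁻¹ᵁ U), (𝒮'.deg U' hU')₊ ≤ ((𝒮.deg U hU)₊).map (φ U hU U' hU' hle))
    (p : P ⟶ Y)
    (chart : ∀ (U : Y.Opens) (hU : IsAffineOpen U),
      (((p ⁻¹ᵁ U : P.Opens) : Scheme.{u}) ≅ Proj (𝒮.deg U hU)))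
    (hP : RelProj.IsRelProj 𝒮 p chart) (p' : P' ⟶ Y')
    (chart' : ∀ (U' : Y'.Opens) (hU' : IsAffineOpen U'),
      (((p' ⁻¹ᵁ U' : P'.Opens) : Scheme.{u}) ≅ Proj (𝒮'.deg U' hU')))
    (hP' : RelProj.IsRelProj 𝒮' p' chart') (g : P' ⟶ P)
    (hg : ∀ (U : Y.Opens) (hU : IsAffineOpen U) (U' : Y'.Opens) (hU' : IsAffineOpen U')
      (hle : U' ≤ ψ ⁻¹ᵁ U),
      RelProj.emb p' chart' U' hU' ≫ g =
        Proj.map (φ U hU U' hU' hle) (hirr U hU U' hU' hle) ≫ RelProj.emb p chart U hU) :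
    IsPullback g p' p ψ := by
  refine (Scheme.isPullback_of_openCover p' g ψ p (pairCover ψ) ?_).flip
  intro Q
  have sqA := isPullback_emb hP Q.U Q.hU
  have sqR := isPullback_proj_map (𝒮.deg Q.U Q.hU) (𝒮'.deg Q.U' Q.hU')
    (ψ.appLE Q.U Q.U' Q.hle).hom (𝒮.str.app (op Q.U)).hom (𝒮'.str.app (op Q.U')).hom
    (φ Q.U Q.hU Q.U' Q.hU' Q.hle) (𝒮.str_mem Q.U Q.hU) (𝒮'.str_mem Q.U' Q.hU')
    (hpo Q.U Q.hU Q.U' Q.hU' Q.hle) (hirr Q.U Q.hU Q.U' Q.hU' Q.hle)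
  have sq := sqR.paste_horiz sqA
  rw [← hg Q.U Q.hU Q.U' Q.hU' Q.hle] at sq
  have e0 : Spec.map (CommRingCat.ofHom (ψ.appLE Q.U Q.U' Q.hle).hom) ≫ Q.hU.fromSpec =
      Q.hU'.fromSpec ≫ ψ := IsAffineOpen.SpecMap_appLE_fromSpec ψ Q.hU Q.hU' Q.hle
  rw [e0] at sq
  have sqB := isPullback_emb hP' Q.U' Q.hU'
  refine IsPullback.of_iso sq.flip sqB.isoPullback (Iso.refl _) (Iso.refl _) (Iso.refl _)
    ?_ ?_ ?_ ?_
  · change _ = sqB.isoPullback.hom ≫ pullback.snd p' Q.hU'.fromSpec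
    rw [sqB.isoPullback_hom_snd]
    exact Category.comp_id _
  · change _ = sqB.isoPullback.hom ≫ pullback.fst p' Q.hU'.fromSpec ≫ g
    rw [← Category.assoc, sqB.isoPullback_hom_fst]
    exact Category.comp_id _
  · exact (Category.comp_id _).trans (Category.id_comp _).symm
  · exact (Category.comp_id _).trans (Category.id_comp _).symm

end Groth.Agent.Lib.helper28.RelProjBC
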