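import Groth.Agent.Lib.Helper28.SymLineDom
import Groth.Agent.Lib.Helper28.RelProjBC

set_option autoImplicit false
universe u

namespace Groth.Agent.Lib.helper28.RLpsi

open CategoryTheory CategoryTheory.Limits AlgebraicGeometry TopologicalSpace Opposite
open HomogeneousLocalization
open scoped HomogeneousIdeal
open Groth.Agent.Lib.helper28.RelTwistChart Groth.Agent.Lib.helper28.ProjQGlue
open Groth.Agent.Lib.helper28

section Ring

/-- A ring homomorphism whose `Spec` is a closed immersion is surjective. -/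
theorem surjective_of_isClosedImmersion_specMap {R S : CommRingCat.{u}} (φ : R ⟶ S)
    [IsClosedImmersion (Spec.map φ)] : Function.Surjective φ.hom := by
  have h := (IsClosedImmersion.isAffine_surjective_of_isAffine (Spec.map φ)).2
  have e : φ = (Scheme.ΓSpecIso R).inv ≫ (Spec.map φ).appTop ≫ (Scheme.ΓSpecIso S).hom := by
    rw [Scheme.ΓSpecIso_naturality, Iso.inv_hom_id_assoc]
  rw [e]
  simp only [CommRingCat.hom_comp, RingHom.coe_comp]
  exact ((ConcreteCategory.bijective_of_isIso (Scheme.ΓSpecIso S).hom).2.comp h).comp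
    (ConcreteCategory.bijective_of_isIso (Scheme.ΓSpecIso R).inv).2

/-- A ring homomorphism whose `Spec` is an isomorphism is bijective. -/
theorem bijective_of_isIso_specMap {R S : CommRingCat.{u}} (φ : R ⟶ S)
    [IsIso (Spec.map φ)] : Function.Bijective φ.hom := by
  have hiso : IsIso (Spec.map φ).appTop := by
    show IsIso ((Spec.map φ).app ⊤)
    infer_instance
  have e : φ = (Scheme.ΓSpecIso R).inv ≫ (Spec.map φ).appTop ≫ (Scheme.ΓSpecIso S).hom := by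
    rw [Scheme.ΓSpecIso_naturality, Iso.inv_hom_id_assoc]
  have : IsIso φ := by
    rw [e]
    infer_instance
  exact ConcreteCategory.bijective_of_isIso φ

end Ring

section Geom

variable {Y X P PL : Scheme.{u}} {q : X ⟶ Y}
  (L : X.Modules) [L.IsQuasicoherent]
  {𝒮 : RelProj.QCGrAlg Y} (𝒮L : RelProj.QCGrAlg X) (j : L ⟶ 𝒮L.toModule)
  (hj : RelProj.IsGrSymAlg L 𝒮L j)
  (u : RelProj.QGrHom q 𝒮 𝒮L)
  {p : P ⟶ Y} {chart : ∀ (U : Y.Opens) (hU : IsAffineOpen U),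
    (((p ⁻¹ᵁ U : P.Opens) : Scheme.{u}) ≅ Proj (𝒮.deg U hU))}
  {pL : PL ⟶ X} {chartL : ∀ (U : X.Opens) (hU : IsAffineOpen U),
    (((pL ⁻¹ᵁ U : PL.Opens) : Scheme.{u}) ≅ Proj (𝒮L.deg U hU))}

/-- The open `X_t` of `X` where `t = ψ♭(s)` generates `L^{⊗n}`. -/
def XT (n : ℕ) (s : 𝒮.presheaf.obj (op ⊤)) : X.Opens :=
  (⨆ V : {V : X.affineOpens //
          ((𝒮L.deg V.1 V.2 n : AddSubgroup (𝒮L.presheaf.obj (op (V.1 : X.Opens)))) : Set (𝒮L.presheaf.obj (op (V.1 : X.Opens)))) ⊆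
            (Ideal.span {(u.appLE ⊤ (V.1 : X.Opens) (le_top.trans (Scheme.Hom.preimage_top q).ge)).hom s} : Set (𝒮L.presheaf.obj (op (V.1 : X.Opens))))},
          (V.1.1 : X.Opens))

variable (hL : PicF.IsInvertible L) (hP : RelProj.IsRelProj 𝒮 p chart)
  (hPL : RelProj.IsRelProj 𝒮L pL chartL)
  (r : ((RelProj.domQ u pL chartL : PL.Opens) : Scheme.{u}) ⟶ P)
  (hr : ∀ (U : Y.Opens) (hU : IsAffineOpen U) (U' : X.Opens) (hU' : IsAffineOpen U')
    (hle : U' ≤ q ⁻¹ᵁ U) (d : ℕ) (hd : 0 < d) (f : 𝒮.presheaf.obj (op U))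
    (hf : f ∈ 𝒮.deg U hU d),
    stdChart u pL chartL U hU U' hU' hle hd f hf ≫ r = tgt u p chart U hU U' hU' hle hd f hf)
  (hY : IsAffineOpen (⊤ : Y.Opens)) {n : ℕ} (hn : 0 < n) (s : 𝒮.presheaf.obj (op ⊤))
  (hs : s ∈ 𝒮.deg ⊤ hY n)

include hj hL hP hPL hr in
/-- `r⁻¹(D₊(s))`, seen in `Proj(𝒮L)`, is the part over `X_t`. -/
theorem image_preimage_eq :
    (RelProj.domQ u pL chartL).ι ''ᵁ
        (r ⁻¹ᵁ (Proj.awayι (𝒮.deg ⊤ hY) s hs hn ≫ RelProj.emb p chart ⊤ hY).opensRange) =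
      pL ⁻¹ᵁ XT 𝒮L u n s := by
  have hO : (RelProj.emb p chart ⊤ hY) ''ᵁ Proj.basicOpen (𝒮.deg ⊤ hY) s =
      (Proj.awayι (𝒮.deg ⊤ hY) s hs hn ≫ RelProj.emb p chart ⊤ hY).opensRange := by
    rw [Scheme.Hom.opensRange_comp, Proj.opensRange_awayι]
  rw [← hO]
  ext z
  rw [SetLike.mem_coe, SetLike.mem_coe,
    SymLineDom.mem_image_preimage_iff L 𝒮L j hj u hL hP hPL r hr hY hn s hs z]
  constructor
  · rintro ⟨V, hV, hzV, hspan⟩
    exact Opens.mem_iSup.mpr ⟨⟨⟨V, hV⟩, hspan⟩, hzV⟩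
  · intro hz
    obtain ⟨⟨⟨V, hV⟩, hspan⟩, hzV⟩ := Opens.mem_iSup.mp hz
    exact ⟨V, hV, hzV, hspan⟩

variable (hXT : IsAffineOpen (XT 𝒮L u n s))

include hj hL hP hPL hr in
/-- When `X_t` is affine, `r⁻¹(D₊(s))` is the standard chart over `X_t`. -/
theorem opensRange_stdChart_XT :
    (stdChart u pL chartL ⊤ hY (XT 𝒮L u n s) hXT
      (le_top.trans (Scheme.Hom.preimage_top q).ge) hn s hs).opensRange =
      r ⁻¹ᵁ (Proj.awayι (𝒮.deg ⊤ hY) s hs hn ≫ RelProj.emb p chart ⊤ hY).opensRange := by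
  rw [← preimage_chart u hP hPL r hr ⊤ hY (XT 𝒮L u n s) hXT
    (le_top.trans (Scheme.Hom.preimage_top q).ge) hn s hs]
  apply le_antisymm
  · exact inf_le_left
  · intro x' hx'
    refine ⟨hx', ?_⟩
    have h1 : (RelProj.domQ u pL chartL).ι x' ∈ (RelProj.domQ u pL chartL).ι ''ᵁ
        (r ⁻¹ᵁ (Proj.awayι (𝒮.deg ⊤ hY) s hs hn ≫ RelProj.emb p chart ⊤ hY).opensRange) :=
      ⟨x', hx', rfl⟩
    rw [image_preimage_eq L 𝒮L j hj u hL hP hPL r hr hY hn s hs] at h1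
    exact h1

include hj hL hP hPL hr in
/-- The square exhibiting `r` over `D₊(s)` as `Spec` of `S_(s) → 𝒮L(X_t)_(u s)`. -/
theorem isPullback_XT :
    IsPullback
      (Spec.map (CommRingCat.ofHom (Away.map (u.gradedAt ⊤ hY (XT 𝒮L u n s) hXT
        (le_top.trans (Scheme.Hom.preimage_top q).ge)) s)))
      (stdChart u pL chartL ⊤ hY (XT 𝒮L u n s) hXT
        (le_top.trans (Scheme.Hom.preimage_top q).ge) hn s hs)
      (Proj.awayι (𝒮.deg ⊤ hY) s hs hn ≫ RelProj.emb p chart ⊤ hY) r := by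
  refine IsOpenImmersion.isPullback _ _ _ _ ?_ ?_
  · rw [hr]
    rfl
  · exact (opensRange_stdChart_XT L 𝒮L j hj u hL hP hPL r hr hY hn s hs hXT).symm

include hj hL hP hPL hr hn hs in
/-- When `X_t` is affine, `D₊(u s)` is all of `Proj 𝒮L(X_t)`. -/
theorem basicOpen_XT_eq_top :
    Proj.basicOpen (𝒮L.deg (XT 𝒮L u n s) hXT) (u.gradedAt ⊤ hY (XT 𝒮L u n s) hXT
      (le_top.trans (Scheme.Hom.preimage_top q).ge) s) = ⊤ := by
  rw [← top_le_iff]
  intro y _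
  have hz : RelProj.emb pL chartL (XT 𝒮L u n s) hXT y ∈ pL ⁻¹ᵁ XT 𝒮L u n s := by
    have : RelProj.emb pL chartL (XT 𝒮L u n s) hXT y ∈
        Set.range (RelProj.emb pL chartL (XT 𝒮L u n s) hXT) := ⟨y, rfl⟩
    rw [range_emb] at this
    exact this
  rw [← image_preimage_eq L 𝒮L j hj u hL hP hPL r hr hY hn s hs] at hz
  obtain ⟨x', hx', hx'z⟩ := hz
  have hx'' : x' ∈ r ⁻¹ᵁ (Proj.awayι (𝒮.deg ⊤ hY) s hs hn ≫
      RelProj.emb p chart ⊤ hY).opensRange := hx'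
  rw [← opensRange_stdChart_XT L 𝒮L j hj u hL hP hPL r hr hY hn s hs hXT] at hx''
  obtain ⟨w, rfl⟩ := hx''
  have e1 : (RelProj.domQ u pL chartL).ι (stdChart u pL chartL ⊤ hY (XT 𝒮L u n s) hXT
      (le_top.trans (Scheme.Hom.preimage_top q).ge) hn s hs w) =
      RelProj.emb pL chartL (XT 𝒮L u n s) hXT ((Proj.awayι (𝒮L.deg (XT 𝒮L u n s) hXT)
        (u.gradedAt ⊤ hY (XT 𝒮L u n s) hXT (le_top.trans (Scheme.Hom.preimage_top q).ge) s)
        ((u.gradedAt ⊤ hY (XT 𝒮L u n s) hXT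
          (le_top.trans (Scheme.Hom.preimage_top q).ge)).map_mem hs) hn) w) := by
    rw [← Scheme.Hom.comp_apply, stdChart_ι, awayEmb_apply]
  have e2 := (RelProj.emb pL chartL (XT 𝒮L u n s) hXT).isOpenEmbedding.injective
    (e1.symm.trans hx'z)
  rw [← e2]
  have : (Proj.awayι (𝒮L.deg (XT 𝒮L u n s) hXT)
      (u.gradedAt ⊤ hY (XT 𝒮L u n s) hXT (le_top.trans (Scheme.Hom.preimage_top q).ge) s)
      ((u.gradedAt ⊤ hY (XT 𝒮L u n s) hXT
        (le_top.trans (Scheme.Hom.preimage_top q).ge)).map_mem hs) hn) w ∈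
      (Proj.awayι (𝒮L.deg (XT 𝒮L u n s) hXT)
      (u.gradedAt ⊤ hY (XT 𝒮L u n s) hXT (le_top.trans (Scheme.Hom.preimage_top q).ge) s)
      ((u.gradedAt ⊤ hY (XT 𝒮L u n s) hXT
        (le_top.trans (Scheme.Hom.preimage_top q).ge)).map_mem hs) hn).opensRange := ⟨w, rfl⟩
  rw [Proj.opensRange_awayι] at this
  exact this

include hj hL hP hPL hr hn hs in
/-- When `X_t` is affine, `O(X_t) → 𝒮L(X_t)_(u s)` is bijective. -/
theorem bijective_strZero_fromZero :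
    Function.Bijective (𝒮L.strZero (XT 𝒮L u n s) hXT ≫ CommRingCat.ofHom
      (fromZeroRingHom (𝒮L.deg (XT 𝒮L u n s) hXT) (Submonoid.powers
        (u.gradedAt ⊤ hY (XT 𝒮L u n s) hXT
          (le_top.trans (Scheme.Hom.preimage_top q).ge) s)))).hom := by
  have hiso : IsIso pL := SymLineProj.isIso_of_isInvertible L 𝒮L j hj pL chartL hPL hL
  have h1 : IsIso (Proj.toSpecZero (𝒮L.deg (XT 𝒮L u n s) hXT) ≫
      Spec.map (𝒮L.strZero (XT 𝒮L u n s) hXT)) :=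
    (RelProjBC.isPullback_emb hPL (XT 𝒮L u n s) hXT).isIso_snd_of_isIso
  have h2 : IsIso (Proj.awayι (𝒮L.deg (XT 𝒮L u n s) hXT)
      (u.gradedAt ⊤ hY (XT 𝒮L u n s) hXT (le_top.trans (Scheme.Hom.preimage_top q).ge) s)
      ((u.gradedAt ⊤ hY (XT 𝒮L u n s) hXT
        (le_top.trans (Scheme.Hom.preimage_top q).ge)).map_mem hs) hn) :=
    isIso_of_isOpenImmersion_of_opensRange_eq_top _ (by
      rw [Proj.opensRange_awayι]
      exact basicOpen_XT_eq_top L 𝒮L j hj u hL hP hPL r hr hY hn s hs hXT)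
  have h3 : Spec.map (𝒮L.strZero (XT 𝒮L u n s) hXT ≫ CommRingCat.ofHom
      (fromZeroRingHom (𝒮L.deg (XT 𝒮L u n s) hXT) (Submonoid.powers
        (u.gradedAt ⊤ hY (XT 𝒮L u n s) hXT
          (le_top.trans (Scheme.Hom.preimage_top q).ge) s)))) =
      Proj.awayι (𝒮L.deg (XT 𝒮L u n s) hXT)
        (u.gradedAt ⊤ hY (XT 𝒮L u n s) hXT (le_top.trans (Scheme.Hom.preimage_top q).ge) s)
        ((u.gradedAt ⊤ hY (XT 𝒮L u n s) hXT
          (le_top.trans (Scheme.Hom.preimage_top q).ge)).map_mem hs) hn ≫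
        Proj.toSpecZero (𝒮L.deg (XT 𝒮L u n s) hXT) ≫
          Spec.map (𝒮L.strZero (XT 𝒮L u n s) hXT) := by
    rw [Spec.map_comp, Proj.awayι_toSpecZero_assoc]
  have h4 : IsIso (Spec.map (𝒮L.strZero (XT 𝒮L u n s) hXT ≫ CommRingCat.ofHom
      (fromZeroRingHom (𝒮L.deg (XT 𝒮L u n s) hXT) (Submonoid.powers
        (u.gradedAt ⊤ hY (XT 𝒮L u n s) hXT
          (le_top.trans (Scheme.Hom.preimage_top q).ge) s))))) := by
    rw [h3]
    infer_instance
  exact bijective_of_isIso_specMap _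

include hj hL hP hPL hr hn hs in
/-- Condition (iii) is the surjectivity of `S_(s) → 𝒮L(X_t)_(u s)`. -/
theorem surjective_awayMap_iff :
    Function.Surjective (Away.map (u.gradedAt ⊤ hY (XT 𝒮L u n s) hXT
        (le_top.trans (Scheme.Hom.preimage_top q).ge)) s) ↔
      ∀ t : X.presheaf.obj (op (XT 𝒮L u n s)), ∃ (m : ℕ) (_ : 0 < m)
        (s' : 𝒮.presheaf.obj (op ⊤)) (_ : s' ∈ 𝒮.deg ⊤ hY (m * n)),
        (𝒮L.str.app (op (XT 𝒮L u n s))).hom t *
          ((u.appLE ⊤ (XT 𝒮L u n s) (le_top.trans (Scheme.Hom.preimage_top q).ge)).hom s) ^ m =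
          (u.appLE ⊤ (XT 𝒮L u n s) (le_top.trans (Scheme.Hom.preimage_top q).ge)).hom s' := by
  have hbij := bijective_strZero_fromZero L 𝒮L j hj u hL hP hPL r hr hY hn s hs hXT
  set ψ := u.gradedAt ⊤ hY (XT 𝒮L u n s) hXT (le_top.trans (Scheme.Hom.preimage_top q).ge)
    with hψ
  have hρ : ∀ t : X.presheaf.obj (op (XT 𝒮L u n s)),
      ((𝒮L.strZero (XT 𝒮L u n s) hXT ≫ CommRingCat.ofHom
        (fromZeroRingHom (𝒮L.deg (XT 𝒮L u n s) hXT) (Submonoid.powers (ψ s)))).hom t).val =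
        Localization.mk ((𝒮L.str.app (op (XT 𝒮L u n s))).hom t) 1 := fun t => rfl
  constructor
  · intro hsurj t
    obtain ⟨a, ha⟩ := hsurj ((𝒮L.strZero (XT 𝒮L u n s) hXT ≫ CommRingCat.ofHom
      (fromZeroRingHom (𝒮L.deg (XT 𝒮L u n s) hXT) (Submonoid.powers (ψ s)))).hom t)
    obtain ⟨m, s', hs', rfl⟩ := Away.mk_surjective (𝒮.deg ⊤ hY) hs a
    rw [Away.map_mk ψ s hs m s' hs', HomogeneousLocalization.ext_iff_val, Away.val_mk, hρ,
      Localization.mk_eq_mk_iff, Localization.r_iff_exists] at ha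
    obtain ⟨⟨_, k, rfl⟩, hk⟩ := ha
    simp only [OneMemClass.coe_one, one_mul] at hk
    refine ⟨m + k + 1, by omega, s' * s ^ (k + 1), ?_, ?_⟩
    · have h1 : s ^ (k + 1) ∈ 𝒮.deg ⊤ hY ((k + 1) • n) := SetLike.pow_mem_graded _ hs
      have h2 := SetLike.mul_mem_graded hs' h1
      have e : m • n + (k + 1) • n = (m + k + 1) * n := by
        simp only [smul_eq_mul]
        ring
      rw [e] at h2
      exact h2
    · change (𝒮L.str.app (op (XT 𝒮L u n s))).hom t * (ψ s) ^ (m + k + 1) = ψ (s' * s ^ (k + 1))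
      rw [map_mul, map_pow]
      have hk' : ψ s ^ k * ψ s' = ψ s ^ k * (ψ s ^ m * (𝒮L.str.app (op (XT 𝒮L u n s))).hom t) :=
        hk
      calc (𝒮L.str.app (op (XT 𝒮L u n s))).hom t * ψ s ^ (m + k + 1)
          = ψ s * (ψ s ^ k * (ψ s ^ m * (𝒮L.str.app (op (XT 𝒮L u n s))).hom t)) := by ring
        _ = ψ s * (ψ s ^ k * ψ s') := by rw [hk']
        _ = ψ s' * ψ s ^ (k + 1) := by ring
  · intro h b
    obtain ⟨t, rfl⟩ := hbij.2 b
    obtain ⟨m, hm, s', hs', hts⟩ := h t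
    have hs'' : s' ∈ 𝒮.deg ⊤ hY (m • n) := by
      rw [smul_eq_mul]
      exact hs'
    refine ⟨Away.mk (𝒮.deg ⊤ hY) hs m s' hs'', ?_⟩
    rw [Away.map_mk ψ s hs m s' hs'', HomogeneousLocalization.ext_iff_val, Away.val_mk, hρ,
      Localization.mk_eq_mk_iff, Localization.r_iff_exists]
    refine ⟨1, ?_⟩
    simp only [OneMemClass.coe_one, one_mul]
    have hts' : (𝒮L.str.app (op (XT 𝒮L u n s))).hom t * ψ s ^ m = ψ s' := hts
    rw [← hts']
    ring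

end Geom

end Groth.Agent.Lib.helper28.RLpsi
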