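import Groth.Agent.Lib.Helper28.RLpsiAff

set_option autoImplicit false
universe u

namespace Groth.Agent.Lib.helper28.RLpsi

open CategoryTheory CategoryTheory.Limits AlgebraicGeometry TopologicalSpace Opposite
open HomogeneousLocalization
open scoped HomogeneousIdeal
open Groth.Agent.Lib.helper28.RelTwistChart Groth.Agent.Lib.helper28.ProjQGlue
open Groth.Agent.Lib.helper28

instance respectsRight_isImmersion :
    MorphismProperty.RespectsRight @IsImmersion.{u} @IsOpenImmersion.{u} where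
  postcomp i hi f hf := by
    have := hi
    have := hf
    infer_instance

instance hasOfPostcomp_isImmersion :
    MorphismProperty.HasOfPostcompProperty @IsImmersion.{u} @IsOpenImmersion.{u} where
  of_postcomp f g _ hfg := by
    have := hfg
    exact IsImmersion.of_comp f g

section Geom

variable {Y X P PL : Scheme.{u}} {q : X ⟶ Y}
  (L : X.Modules) [L.IsQuasicoherent]
  {𝒮 : RelProj.QCGrAlg Y} (𝒮L : RelProj.QCGrAlg X) (j : L ⟶ 𝒮L.toModule)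
  (hj : RelProj.IsGrSymAlg L 𝒮L j)
  (u : RelProj.QGrHom q 𝒮 𝒮L)
  {p : P ⟶ Y} {chart : ∀ (U : Y.Opens) (hU : IsAffineOpen U),
    (((p ⁻¹ᵁ U : P.Opens) : Scheme.{u}) ≅ Proj (𝒮.deg U hU))}
  {pL : PL ⟶ X} {chartL : ∀ (U : X.Opens) (hU : IsAffineOpen U),
    (((pL ⁻¹ᵁ U : PL.Opens) : Scheme.{u}) ≅ Proj (𝒮L.deg U hU))}
  (hL : PicF.IsInvertible L) (hP : RelProj.IsRelProj 𝒮 p chart)
  (hPL : RelProj.IsRelProj 𝒮L pL chartL)
  (r : ((RelProj.domQ u pL chartL : PL.Opens) : Scheme.{u}) ⟶ P)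
  (hr : ∀ (U : Y.Opens) (hU : IsAffineOpen U) (U' : X.Opens) (hU' : IsAffineOpen U')
    (hle : U' ≤ q ⁻¹ᵁ U) (d : ℕ) (hd : 0 < d) (f : 𝒮.presheaf.obj (op U))
    (hf : f ∈ 𝒮.deg U hU d),
    stdChart u pL chartL U hU U' hU' hle hd f hf ≫ r = tgt u p chart U hU U' hU' hle hd f hf)
  (hY : IsAffineOpen (⊤ : Y.Opens))

include hj hL hPL in
/-- If the opens `X_{t_a}` cover `X`, then `Proj(u)` is everywhere defined. -/
theorem domQ_eq_top_of_cover {ι : Type u} (n : ι → ℕ) (s : ι → 𝒮.presheaf.obj (op ⊤))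
    (hns : ∀ a, 0 < n a ∧ s a ∈ 𝒮.deg ⊤ hY (n a))
    (hcov : (⨆ a, XT 𝒮L u (n a) (s a)) = ⊤) : RelProj.domQ u pL chartL = ⊤ := by
  rw [SymLineDom.domQ_eq_top_iff L 𝒮L j hj u hL hPL hY]
  intro x
  have hx : x ∈ ⨆ a, XT 𝒮L u (n a) (s a) := by rw [hcov]; trivial
  obtain ⟨a, ha⟩ := Opens.mem_iSup.mp hx
  obtain ⟨⟨⟨V, hV⟩, hspan⟩, hxV⟩ := Opens.mem_iSup.mp ha
  exact ⟨n a, (hns a).1, s a, (hns a).2, V, hV, hxV, hspan⟩

include hj hL hP hPL hr in
/-- A point over `X_t` is mapped into `D₊(s)`. -/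
theorem mem_preimage_of_mem_XT {n : ℕ} (hn : 0 < n) (s : 𝒮.presheaf.obj (op ⊤))
    (hs : s ∈ 𝒮.deg ⊤ hY n) (x' : ((RelProj.domQ u pL chartL : PL.Opens) : Scheme.{u}))
    (hx' : pL ((RelProj.domQ u pL chartL).ι x') ∈ XT 𝒮L u n s) :
    r x' ∈ (Proj.awayι (𝒮.deg ⊤ hY) s hs hn ≫ RelProj.emb p chart ⊤ hY).opensRange := by
  have h1 : (RelProj.domQ u pL chartL).ι x' ∈ pL ⁻¹ᵁ XT 𝒮L u n s := hx'
  rw [← image_preimage_eq L 𝒮L j hj u hL hP hPL r hr hY hn s hs] at h1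
  obtain ⟨x'', hx'', he⟩ := h1
  have := (RelProj.domQ u pL chartL).ι.isOpenEmbedding.injective he
  rw [← this]
  exact hx''

include hj hL hP hPL hr in
/-- A point mapped into `D₊(s)` lies over `X_t`. -/
theorem mem_XT_of_mem_preimage {n : ℕ} (hn : 0 < n) (s : 𝒮.presheaf.obj (op ⊤))
    (hs : s ∈ 𝒮.deg ⊤ hY n) (x' : ((RelProj.domQ u pL chartL : PL.Opens) : Scheme.{u}))
    (hx' : r x' ∈ (Proj.awayι (𝒮.deg ⊤ hY) s hs hn ≫ RelProj.emb p chart ⊤ hY).opensRange) :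
    pL ((RelProj.domQ u pL chartL).ι x') ∈ XT 𝒮L u n s := by
  have h1 : (RelProj.domQ u pL chartL).ι x' ∈ (RelProj.domQ u pL chartL).ι ''ᵁ
      (r ⁻¹ᵁ (Proj.awayι (𝒮.deg ⊤ hY) s hs hn ≫ RelProj.emb p chart ⊤ hY).opensRange) :=
    ⟨x', hx', rfl⟩
  rw [image_preimage_eq L 𝒮L j hj u hL hP hPL r hr hY hn s hs] at h1
  exact h1

include hj hL hP hPL hr in
/-- Over `D₊(s)` with `X_t` affine, `r` is `Spec` of `S_(s) → 𝒮L(X_t)_(u s)` up to isomorphisms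
of the source. -/
theorem preimage_ι_comp_eq {n : ℕ} (hn : 0 < n) (s : 𝒮.presheaf.obj (op ⊤))
    (hs : s ∈ 𝒮.deg ⊤ hY n) (hXT : IsAffineOpen (XT 𝒮L u n s)) :
    ∃ e : Spec (CommRingCat.of (Away (𝒮L.deg (XT 𝒮L u n s) hXT)
        (u.gradedAt ⊤ hY (XT 𝒮L u n s) hXT (le_top.trans (Scheme.Hom.preimage_top q).ge) s))) ≅
      ((r ⁻¹ᵁ (Proj.awayι (𝒮.deg ⊤ hY) s hs hn ≫ RelProj.emb p chart ⊤ hY).opensRange :
        ((RelProj.domQ u pL chartL : PL.Opens) : Scheme.{u}).Opens) : Scheme.{u}),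
      (r ⁻¹ᵁ (Proj.awayι (𝒮.deg ⊤ hY) s hs hn ≫ RelProj.emb p chart ⊤ hY).opensRange).ι ≫ r =
        e.inv ≫ Spec.map (CommRingCat.ofHom (Away.map (u.gradedAt ⊤ hY (XT 𝒮L u n s) hXT
          (le_top.trans (Scheme.Hom.preimage_top q).ge)) s)) ≫
          Proj.awayι (𝒮.deg ⊤ hY) s hs hn ≫ RelProj.emb p chart ⊤ hY := by
  have hrange : Set.range (stdChart u pL chartL ⊤ hY (XT 𝒮L u n s) hXT
      (le_top.trans (Scheme.Hom.preimage_top q).ge) hn s hs) =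
      Set.range (r ⁻¹ᵁ (Proj.awayι (𝒮.deg ⊤ hY) s hs hn ≫
        RelProj.emb p chart ⊤ hY).opensRange).ι := by
    rw [Scheme.Opens.range_ι]
    exact congrArg (fun W : ((RelProj.domQ u pL chartL : PL.Opens) : Scheme.{u}).Opens =>
      (W : Set ((RelProj.domQ u pL chartL : PL.Opens) : Scheme.{u})))
      (opensRange_stdChart_XT L 𝒮L j hj u hL hP hPL r hr hY hn s hs hXT)
  refine ⟨IsOpenImmersion.isoOfRangeEq _ _ hrange, ?_⟩
  rw [Iso.eq_inv_comp, ← Category.assoc, IsOpenImmersion.isoOfRangeEq_hom_fac, hr]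
  rfl

include hj hL hP hPL hr in
/-- If `r` is an immersion and `D₊(s)` lies in the open where the image of `r` is closed, then
`X_t` is affine and `S_(s) → 𝒮L(X_t)_(u s)` is surjective. -/
theorem affine_surjective_of_isImmersion [IsImmersion r]
    {n : ℕ} (hn : 0 < n) (s : 𝒮.presheaf.obj (op ⊤)) (hs : s ∈ 𝒮.deg ⊤ hY n)
    (hD : (Proj.awayι (𝒮.deg ⊤ hY) s hs hn ≫ RelProj.emb p chart ⊤ hY).opensRange ≤
      r.coborderRange) :
    ∃ hXT : IsAffineOpen (XT 𝒮L u n s),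
      Function.Surjective (Away.map (u.gradedAt ⊤ hY (XT 𝒮L u n s) hXT
        (le_top.trans (Scheme.Hom.preimage_top q).ge)) s) := by
  have hiso : IsIso pL := SymLineProj.isIso_of_isInvertible L 𝒮L j hj pL chartL hPL hL
  have hDaff : IsAffineOpen
      (Proj.awayι (𝒮.deg ⊤ hY) s hs hn ≫ RelProj.emb p chart ⊤ hY).opensRange :=
    isAffineOpen_opensRange _
  -- `r⁻¹(D)` is affine
  have h1 : IsAffineOpen (r ⁻¹ᵁ
      (Proj.awayι (𝒮.deg ⊤ hY) s hs hn ≫ RelProj.emb p chart ⊤ hY).opensRange) := by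
    have e : r ⁻¹ᵁ (Proj.awayι (𝒮.deg ⊤ hY) s hs hn ≫ RelProj.emb p chart ⊤ hY).opensRange =
        r.liftCoborder ⁻¹ᵁ (r.coborderRange.ι ⁻¹ᵁ
          (Proj.awayι (𝒮.deg ⊤ hY) s hs hn ≫ RelProj.emb p chart ⊤ hY).opensRange) := by
      rw [← Scheme.Hom.comp_preimage, Scheme.Hom.liftCoborder_ι]
    rw [e]
    refine IsAffineOpen.preimage ?_ _
    exact hDaff.preimage_of_isOpenImmersion _ (by rw [Scheme.Opens.opensRange_ι]; exact hD)
  have h2 : IsAffineOpen ((RelProj.domQ u pL chartL).ι ''ᵁ (r ⁻¹ᵁ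
      (Proj.awayι (𝒮.deg ⊤ hY) s hs hn ≫ RelProj.emb p chart ⊤ hY).opensRange)) :=
    h1.image_of_isOpenImmersion _
  rw [image_preimage_eq L 𝒮L j hj u hL hP hPL r hr hY hn s hs] at h2
  have hXT : IsAffineOpen (XT 𝒮L u n s) := by
    have h3 := h2.image_of_isOpenImmersion pL
    rw [Scheme.Hom.image_preimage_eq_opensRange_inf, Scheme.Hom.opensRange_of_isIso,
      top_inf_eq] at h3
    exact h3
  refine ⟨hXT, ?_⟩
  have sq := isPullback_XT L 𝒮L j hj u hL hP hPL r hr hY hn s hs hXT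
  have himm : IsImmersion (Spec.map (CommRingCat.ofHom (Away.map (u.gradedAt ⊤ hY (XT 𝒮L u n s)
      hXT (le_top.trans (Scheme.Hom.preimage_top q).ge)) s))) :=
    MorphismProperty.of_isPullback (P := @IsImmersion) sq.flip inferInstance
  have hrange : Set.range (Spec.map (CommRingCat.ofHom (Away.map (u.gradedAt ⊤ hY (XT 𝒮L u n s)
      hXT (le_top.trans (Scheme.Hom.preimage_top q).ge)) s))) =
      (Proj.awayι (𝒮.deg ⊤ hY) s hs hn ≫ RelProj.emb p chart ⊤ hY) ⁻¹'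
        (closure (Set.range r)) := by
    ext t
    constructor
    · rintro ⟨w, rfl⟩
      apply subset_closure
      refine ⟨stdChart u pL chartL ⊤ hY (XT 𝒮L u n s) hXT
        (le_top.trans (Scheme.Hom.preimage_top q).ge) hn s hs w, ?_⟩
      rw [← Scheme.Hom.comp_apply, ← Scheme.Hom.comp_apply, sq.w]
    · intro ht
      have ht2 : (Proj.awayι (𝒮.deg ⊤ hY) s hs hn ≫ RelProj.emb p chart ⊤ hY) t ∈
          coborder (Set.range r) := hD ⟨t, rfl⟩
      have ht3 : (Proj.awayι (𝒮.deg ⊤ hY) s hs hn ≫ RelProj.emb p chart ⊤ hY) t ∈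
          Set.range r := by
        have h5 := closure_inter_coborder (s := Set.range r)
        rw [← h5]
        exact ⟨ht, ht2⟩
      obtain ⟨x', hx'⟩ := ht3
      have hx'' : x' ∈ r ⁻¹ᵁ (Proj.awayι (𝒮.deg ⊤ hY) s hs hn ≫
          RelProj.emb p chart ⊤ hY).opensRange := by
        have h6 : r x' ∈ (Proj.awayι (𝒮.deg ⊤ hY) s hs hn ≫
            RelProj.emb p chart ⊤ hY).opensRange := by
          rw [hx']
          exact ⟨t, rfl⟩
        exact h6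
      rw [← opensRange_stdChart_XT L 𝒮L j hj u hL hP hPL r hr hY hn s hs hXT] at hx''
      obtain ⟨w, rfl⟩ := hx''
      refine ⟨w, ?_⟩
      apply (Proj.awayι (𝒮.deg ⊤ hY) s hs hn ≫
        RelProj.emb p chart ⊤ hY).isOpenEmbedding.injective
      rw [← hx', ← Scheme.Hom.comp_apply, ← Scheme.Hom.comp_apply, sq.w]
  have hclosed : IsClosed (Set.range (Spec.map (CommRingCat.ofHom (Away.map
      (u.gradedAt ⊤ hY (XT 𝒮L u n s) hXT
        (le_top.trans (Scheme.Hom.preimage_top q).ge)) s)))) := by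
    rw [hrange]
    exact isClosed_closure.preimage (Proj.awayι (𝒮.deg ⊤ hY) s hs hn ≫
      RelProj.emb p chart ⊤ hY).continuous
  have hci : IsClosedImmersion (Spec.map (CommRingCat.ofHom (Away.map
      (u.gradedAt ⊤ hY (XT 𝒮L u n s) hXT
        (le_top.trans (Scheme.Hom.preimage_top q).ge)) s))) :=
    IsClosedImmersion.of_isPreimmersion _ hclosed
  exact surjective_of_isClosedImmersion_specMap (CommRingCat.ofHom (Away.map
      (u.gradedAt ⊤ hY (XT 𝒮L u n s) hXT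
        (le_top.trans (Scheme.Hom.preimage_top q).ge)) s))

/-- Over an affine base, the opens `D₊(s)`, `s` homogeneous of positive degree, form a basis. -/
theorem exists_basic (W : P.Opens) (z : P) (hz : z ∈ W) :
    ∃ (d : ℕ) (hd : 0 < d) (s : 𝒮.presheaf.obj (op ⊤)) (hs : s ∈ 𝒮.deg ⊤ hY d),
      z ∈ (Proj.awayι (𝒮.deg ⊤ hY) s hs hd ≫ RelProj.emb p chart ⊤ hY).opensRange ∧
      (Proj.awayι (𝒮.deg ⊤ hY) s hs hd ≫ RelProj.emb p chart ⊤ hY).opensRange ≤ W := by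
  have hz' : z ∈ Set.range (RelProj.emb p chart ⊤ hY) := by
    rw [range_emb]
    trivial
  obtain ⟨y, rfl⟩ := hz'
  obtain ⟨d, hd, t, ht, hty, htW⟩ := ProjQComp.exists_homogeneous_basicOpen_le (𝒮.deg ⊤ hY)
    ((RelProj.emb p chart ⊤ hY) ⁻¹ᵁ W) y hz
  refine ⟨d, hd, t, ht, ?_, ?_⟩
  · rw [Scheme.Hom.opensRange_comp, Proj.opensRange_awayι]
    exact ⟨y, hty, rfl⟩
  · rw [Scheme.Hom.opensRange_comp, Proj.opensRange_awayι]
    rintro _ ⟨y', hy', rfl⟩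
    exact htW hy'

include hj hL hP hPL hr in
/-- **Immersion criterion, sufficiency.** -/
theorem isImmersion_of_family {ι : Type u} (n : ι → ℕ) (s : ι → 𝒮.presheaf.obj (op ⊤))
    (hns : ∀ a, 0 < n a ∧ s a ∈ 𝒮.deg ⊤ hY (n a))
    (hcov : (⨆ a, XT 𝒮L u (n a) (s a)) = ⊤)
    (haff : ∀ a, IsAffineOpen (XT 𝒮L u (n a) (s a)))
    (h3 : ∀ (a : ι) (t : X.presheaf.obj (op (XT 𝒮L u (n a) (s a)))), ∃ (m : ℕ) (_ : 0 < m)
      (s' : 𝒮.presheaf.obj (op ⊤)) (_ : s' ∈ 𝒮.deg ⊤ hY (m * n a)),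
      (𝒮L.str.app (op (XT 𝒮L u (n a) (s a)))).hom t *
        ((u.appLE ⊤ (XT 𝒮L u (n a) (s a))
          (le_top.trans (Scheme.Hom.preimage_top q).ge)).hom (s a)) ^ m =
        (u.appLE ⊤ (XT 𝒮L u (n a) (s a))
          (le_top.trans (Scheme.Hom.preimage_top q).ge)).hom s') :
    IsImmersion r := by
  apply IsZariskiLocalAtTarget.of_forall_source_exists_preimage
  intro x'
  have hx : pL ((RelProj.domQ u pL chartL).ι x') ∈ ⨆ a, XT 𝒮L u (n a) (s a) := by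
    rw [hcov]
    trivial
  obtain ⟨a, ha⟩ := Opens.mem_iSup.mp hx
  refine ⟨(Proj.awayι (𝒮.deg ⊤ hY) (s a) (hns a).2 (hns a).1 ≫
    RelProj.emb p chart ⊤ hY).opensRange,
    mem_preimage_of_mem_XT L 𝒮L j hj u hL hP hPL r hr hY (hns a).1 (s a) (hns a).2 x' ha, ?_⟩
  obtain ⟨e, he⟩ := preimage_ι_comp_eq L 𝒮L j hj u hL hP hPL r hr hY (hns a).1 (s a) (hns a).2
    (haff a)
  rw [he]
  have hsurj := (surjective_awayMap_iff L 𝒮L j hj u hL hP hPL r hr hY (hns a).1 (s a) (hns a).2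
    (haff a)).mpr (h3 a)
  have : IsClosedImmersion (Spec.map (CommRingCat.ofHom (Away.map (u.gradedAt ⊤ hY
      (XT 𝒮L u (n a) (s a)) (haff a) (le_top.trans (Scheme.Hom.preimage_top q).ge)) (s a)))) :=
    IsClosedImmersion.spec_of_surjective _ hsurj
  infer_instance

end Geom

end Groth.Agent.Lib.helper28.RLpsi
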