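import Groth.Agent.Lib.Helper28.RLpsiImm

set_option autoImplicit false
universe u

namespace Groth.Agent.Lib.helper28.RLpsi

open CategoryTheory CategoryTheory.Limits AlgebraicGeometry TopologicalSpace Opposite
open HomogeneousLocalization
open scoped HomogeneousIdeal
open Groth.Agent.Lib.helper28.RelTwistChart Groth.Agent.Lib.helper28.ProjQGlue
open Groth.Agent.Lib.helper28

section Ring

variable {A B : Type u} [CommRing A] [CommRing B] {𝒜 : ℕ → AddSubgroup A} {ℬ : ℕ → AddSubgroup B}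
  [GradedRing 𝒜] [GradedRing ℬ]

/-- Injectivity of `A_(s) → B_(ψ s)` in terms of homogeneous elements. -/
theorem injective_awayMap_iff (ψ : 𝒜 →+*ᵍ ℬ) {n : ℕ} (s : A) (hs : s ∈ 𝒜 n) :
    Function.Injective (Away.map ψ s) ↔
      ∀ m : ℕ, 0 < m → ∀ s' ∈ 𝒜 (m * n), ψ s' = 0 → ∃ k : ℕ, 0 < k ∧ s ^ k * s' = 0 := by
  constructor
  · intro hinj m _ s' hs' h0
    have hs'' : s' ∈ 𝒜 (m • n) := by
      rw [smul_eq_mul]
      exact hs'
    have h1 : Away.map ψ s (Away.mk 𝒜 hs m s' hs'') = Away.map ψ s 0 := by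
      rw [Away.map_mk ψ s hs m s' hs'', map_zero, HomogeneousLocalization.ext_iff_val, Away.val_mk,
        HomogeneousLocalization.val_zero]
      simp only [h0, Localization.mk_zero]
    have h2 := hinj h1
    rw [HomogeneousLocalization.ext_iff_val, Away.val_mk, HomogeneousLocalization.val_zero,
      Localization.mk_eq_mk', IsLocalization.mk'_eq_zero_iff] at h2
    obtain ⟨⟨_, k, rfl⟩, hk⟩ := h2
    refine ⟨k + 1, by omega, ?_⟩
    have hk' : s ^ k * s' = 0 := hk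
    rw [pow_succ', mul_assoc, hk', mul_zero]
  · intro h
    rw [injective_iff_map_eq_zero]
    intro a ha
    obtain ⟨m, s', hs', rfl⟩ := Away.mk_surjective 𝒜 hs a
    rw [Away.map_mk ψ s hs m s' hs', HomogeneousLocalization.ext_iff_val, Away.val_mk,
      HomogeneousLocalization.val_zero, Localization.mk_eq_mk', IsLocalization.mk'_eq_zero_iff]
      at ha
    obtain ⟨⟨_, k, rfl⟩, hk⟩ := ha
    have hk' : ψ s ^ k * ψ s' = 0 := hk
    have hmem : s ^ (k + 1) * s' ∈ 𝒜 ((k + 1 + m) * n) := by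
      have h1 : s ^ (k + 1) ∈ 𝒜 ((k + 1) • n) := SetLike.pow_mem_graded _ hs
      have h2 := SetLike.mul_mem_graded h1 hs'
      have e : (k + 1) • n + m • n = (k + 1 + m) * n := by
        simp only [smul_eq_mul]
        ring
      rw [e] at h2
      exact h2
    have hz : ψ (s ^ (k + 1) * s') = 0 := by
      rw [map_mul, map_pow, pow_succ', mul_assoc, hk', mul_zero]
    obtain ⟨k', _, hk''⟩ := h (k + 1 + m) (by omega) _ hmem hz
    rw [HomogeneousLocalization.ext_iff_val, Away.val_mk, HomogeneousLocalization.val_zero,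
      Localization.mk_eq_mk', IsLocalization.mk'_eq_zero_iff]
    refine ⟨⟨s ^ (k' + (k + 1)), _, rfl⟩, ?_⟩
    change s ^ (k' + (k + 1)) * s' = 0
    rw [pow_add, mul_assoc, hk'']

end Ring

section Geom

variable {Y X P PL : Scheme.{u}} {q : X ⟶ Y}
  (L : X.Modules) [L.IsQuasicoherent]
  {𝒮 : RelProj.QCGrAlg Y} (𝒮L : RelProj.QCGrAlg X) (j : L ⟶ 𝒮L.toModule)
  (hj : RelProj.IsGrSymAlg L 𝒮L j)
  (u : RelProj.QGrHom q 𝒮 𝒮L)
  {p : P ⟶ Y} {chart : ∀ (U : Y.Opens) (hU : IsAffineOpen U),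
    (((p ⁻¹ᵁ U : P.Opens) : Scheme.{u}) ≅ Proj (𝒮.deg U hU))}
  {pL : PL ⟶ X} {chartL : ∀ (U : X.Opens) (hU : IsAffineOpen U),
    (((pL ⁻¹ᵁ U : PL.Opens) : Scheme.{u}) ≅ Proj (𝒮L.deg U hU))}
  (hL : PicF.IsInvertible L) (hP : RelProj.IsRelProj 𝒮 p chart)
  (hPL : RelProj.IsRelProj 𝒮L pL chartL)
  (r : ((RelProj.domQ u pL chartL : PL.Opens) : Scheme.{u}) ⟶ P)
  (hr : ∀ (U : Y.Opens) (hU : IsAffineOpen U) (U' : X.Opens) (hU' : IsAffineOpen U')
    (hle : U' ≤ q ⁻¹ᵁ U) (d : ℕ) (hd : 0 < d) (f : 𝒮.presheaf.obj (op U))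
    (hf : f ∈ 𝒮.deg U hU d),
    stdChart u pL chartL U hU U' hU' hle hd f hf ≫ r = tgt u p chart U hU U' hU' hle hd f hf)
  (hY : IsAffineOpen (⊤ : Y.Opens))

include hj hL hP hPL hr in
/-- The image of `Spec` of `S_(s) → 𝒮L(X_t)_(u s)` is the trace of the image of `r` on `D₊(s)`. -/
theorem range_specMap_eq {n : ℕ} (hn : 0 < n) (s : 𝒮.presheaf.obj (op ⊤))
    (hs : s ∈ 𝒮.deg ⊤ hY n) (hXT : IsAffineOpen (XT 𝒮L u n s)) :
    Set.range (Spec.map (CommRingCat.ofHom (Away.map (u.gradedAt ⊤ hY (XT 𝒮L u n s)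
      hXT (le_top.trans (Scheme.Hom.preimage_top q).ge)) s))) =
      (Proj.awayι (𝒮.deg ⊤ hY) s hs hn ≫ RelProj.emb p chart ⊤ hY) ⁻¹' (Set.range r) := by
  have sq := isPullback_XT L 𝒮L j hj u hL hP hPL r hr hY hn s hs hXT
  ext t
  constructor
  · rintro ⟨w, rfl⟩
    refine ⟨stdChart u pL chartL ⊤ hY (XT 𝒮L u n s) hXT
      (le_top.trans (Scheme.Hom.preimage_top q).ge) hn s hs w, ?_⟩
    rw [← Scheme.Hom.comp_apply, ← Scheme.Hom.comp_apply, sq.w]
  · rintro ⟨x', hx'⟩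
    have hx'' : x' ∈ r ⁻¹ᵁ (Proj.awayι (𝒮.deg ⊤ hY) s hs hn ≫
        RelProj.emb p chart ⊤ hY).opensRange := by
      have h6 : r x' ∈ (Proj.awayι (𝒮.deg ⊤ hY) s hs hn ≫
          RelProj.emb p chart ⊤ hY).opensRange := by
        rw [hx']
        exact ⟨t, rfl⟩
      exact h6
    rw [← opensRange_stdChart_XT L 𝒮L j hj u hL hP hPL r hr hY hn s hs hXT] at hx''
    obtain ⟨w, rfl⟩ := hx''
    refine ⟨w, ?_⟩
    apply (Proj.awayι (𝒮.deg ⊤ hY) s hs hn ≫
      RelProj.emb p chart ⊤ hY).isOpenEmbedding.injective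
    rw [← hx', ← Scheme.Hom.comp_apply, ← Scheme.Hom.comp_apply, sq.w]

include hj hL hP hPL hr in
/-- If `r` is an open immersion and `D₊(s)` lies in its image, then `X_t` is affine and
`S_(s) → 𝒮L(X_t)_(u s)` is bijective. -/
theorem affine_bijective_of_isOpenImmersion [IsOpenImmersion r]
    {n : ℕ} (hn : 0 < n) (s : 𝒮.presheaf.obj (op ⊤)) (hs : s ∈ 𝒮.deg ⊤ hY n)
    (hD : (Proj.awayι (𝒮.deg ⊤ hY) s hs hn ≫ RelProj.emb p chart ⊤ hY).opensRange ≤
      r.opensRange) :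
    ∃ hXT : IsAffineOpen (XT 𝒮L u n s),
      Function.Bijective (Away.map (u.gradedAt ⊤ hY (XT 𝒮L u n s) hXT
        (le_top.trans (Scheme.Hom.preimage_top q).ge)) s) := by
  have hD' : (Proj.awayι (𝒮.deg ⊤ hY) s hs hn ≫ RelProj.emb p chart ⊤ hY).opensRange ≤
      r.coborderRange := by
    intro z hz
    exact subset_coborder (hD hz)
  obtain ⟨hXT, -⟩ := affine_surjective_of_isImmersion L 𝒮L j hj u hL hP hPL r hr hY hn s hs hD'
  refine ⟨hXT, ?_⟩
  have sq := isPullback_XT L 𝒮L j hj u hL hP hPL r hr hY hn s hs hXT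
  have hoi : IsOpenImmersion (Spec.map (CommRingCat.ofHom (Away.map (u.gradedAt ⊤ hY
      (XT 𝒮L u n s) hXT (le_top.trans (Scheme.Hom.preimage_top q).ge)) s))) :=
    MorphismProperty.of_isPullback (P := @IsOpenImmersion) sq.flip inferInstance
  have hrange := range_specMap_eq L 𝒮L j hj u hL hP hPL r hr hY hn s hs hXT
  have htop : (Spec.map (CommRingCat.ofHom (Away.map (u.gradedAt ⊤ hY
      (XT 𝒮L u n s) hXT (le_top.trans (Scheme.Hom.preimage_top q).ge)) s))).opensRange = ⊤ := by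
    rw [← top_le_iff]
    intro t _
    have : t ∈ Set.range (Spec.map (CommRingCat.ofHom (Away.map (u.gradedAt ⊤ hY
      (XT 𝒮L u n s) hXT (le_top.trans (Scheme.Hom.preimage_top q).ge)) s))) := by
      rw [hrange]
      exact hD ⟨t, rfl⟩
    exact this
  have hiso : IsIso (Spec.map (CommRingCat.ofHom (Away.map (u.gradedAt ⊤ hY
      (XT 𝒮L u n s) hXT (le_top.trans (Scheme.Hom.preimage_top q).ge)) s))) :=
    isIso_of_isOpenImmersion_of_opensRange_eq_top _ htop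
  exact bijective_of_isIso_specMap (CommRingCat.ofHom (Away.map (u.gradedAt ⊤ hY
      (XT 𝒮L u n s) hXT (le_top.trans (Scheme.Hom.preimage_top q).ge)) s))

include hj hL hP hPL hr in
/-- **Open immersion criterion, sufficiency.** -/
theorem isOpenImmersion_of_family {ι : Type u} (n : ι → ℕ) (s : ι → 𝒮.presheaf.obj (op ⊤))
    (hns : ∀ a, 0 < n a ∧ s a ∈ 𝒮.deg ⊤ hY (n a))
    (hcov : (⨆ a, XT 𝒮L u (n a) (s a)) = ⊤)
    (haff : ∀ a, IsAffineOpen (XT 𝒮L u (n a) (s a)))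
    (h3 : ∀ (a : ι) (t : X.presheaf.obj (op (XT 𝒮L u (n a) (s a)))), ∃ (m : ℕ) (_ : 0 < m)
      (s' : 𝒮.presheaf.obj (op ⊤)) (_ : s' ∈ 𝒮.deg ⊤ hY (m * n a)),
      (𝒮L.str.app (op (XT 𝒮L u (n a) (s a)))).hom t *
        ((u.appLE ⊤ (XT 𝒮L u (n a) (s a))
          (le_top.trans (Scheme.Hom.preimage_top q).ge)).hom (s a)) ^ m =
        (u.appLE ⊤ (XT 𝒮L u (n a) (s a))
          (le_top.trans (Scheme.Hom.preimage_top q).ge)).hom s')
    (h4 : ∀ (a : ι) (m : ℕ), 0 < m → ∀ s' ∈ 𝒮.deg ⊤ hY (m * n a),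
      (u.appLE ⊤ (XT 𝒮L u (n a) (s a)) (le_top.trans (Scheme.Hom.preimage_top q).ge)).hom s' = 0 →
        ∃ (k : ℕ), 0 < k ∧ (s a) ^ k * s' = 0) :
    IsOpenImmersion r := by
  apply IsZariskiLocalAtTarget.of_forall_source_exists_preimage
  intro x'
  have hx : pL ((RelProj.domQ u pL chartL).ι x') ∈ ⨆ a, XT 𝒮L u (n a) (s a) := by
    rw [hcov]
    trivial
  obtain ⟨a, ha⟩ := Opens.mem_iSup.mp hx
  refine ⟨(Proj.awayι (𝒮.deg ⊤ hY) (s a) (hns a).2 (hns a).1 ≫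
    RelProj.emb p chart ⊤ hY).opensRange,
    mem_preimage_of_mem_XT L 𝒮L j hj u hL hP hPL r hr hY (hns a).1 (s a) (hns a).2 x' ha, ?_⟩
  obtain ⟨e, he⟩ := preimage_ι_comp_eq L 𝒮L j hj u hL hP hPL r hr hY (hns a).1 (s a) (hns a).2
    (haff a)
  rw [he]
  have hsurj := (surjective_awayMap_iff L 𝒮L j hj u hL hP hPL r hr hY (hns a).1 (s a) (hns a).2
    (haff a)).mpr (h3 a)
  have hinj : Function.Injective (Away.map (u.gradedAt ⊤ hY
      (XT 𝒮L u (n a) (s a)) (haff a) (le_top.trans (Scheme.Hom.preimage_top q).ge)) (s a)) :=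
    (injective_awayMap_iff (u.gradedAt ⊤ hY
      (XT 𝒮L u (n a) (s a)) (haff a) (le_top.trans (Scheme.Hom.preimage_top q).ge)) (s a)
      (hns a).2).mpr (fun m hm s' hs' h0 => h4 a m hm s' hs' h0)
  have h1 : IsIso (CommRingCat.ofHom (Away.map (u.gradedAt ⊤ hY
      (XT 𝒮L u (n a) (s a)) (haff a) (le_top.trans (Scheme.Hom.preimage_top q).ge)) (s a))) :=
    (ConcreteCategory.isIso_iff_bijective _).mpr ⟨hinj, hsurj⟩
  infer_instance

include hj hL hP hPL hr in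
/-- **Closed immersion criterion, sufficiency.** -/
theorem isClosedImmersion_of_family {ι : Type u} (n : ι → ℕ) (s : ι → 𝒮.presheaf.obj (op ⊤))
    (hns : ∀ a, 0 < n a ∧ s a ∈ 𝒮.deg ⊤ hY (n a))
    (haff : ∀ a, IsAffineOpen (XT 𝒮L u (n a) (s a)))
    (h3 : ∀ (a : ι) (t : X.presheaf.obj (op (XT 𝒮L u (n a) (s a)))), ∃ (m : ℕ) (_ : 0 < m)
      (s' : 𝒮.presheaf.obj (op ⊤)) (_ : s' ∈ 𝒮.deg ⊤ hY (m * n a)),
      (𝒮L.str.app (op (XT 𝒮L u (n a) (s a)))).hom t *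
        ((u.appLE ⊤ (XT 𝒮L u (n a) (s a))
          (le_top.trans (Scheme.Hom.preimage_top q).ge)).hom (s a)) ^ m =
        (u.appLE ⊤ (XT 𝒮L u (n a) (s a))
          (le_top.trans (Scheme.Hom.preimage_top q).ge)).hom s')
    (h5 : (⨆ a, Proj.basicOpen (𝒮.deg ⊤ hY) (s a)) = ⊤) :
    IsClosedImmersion r := by
  refine IsZariskiLocalAtTarget.of_iSup_eq_top (P := @IsClosedImmersion)
    (fun a => (Proj.awayι (𝒮.deg ⊤ hY) (s a) (hns a).2 (hns a).1 ≫
      RelProj.emb p chart ⊤ hY).opensRange) ?_ ?_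
  · rw [← top_le_iff]
    intro z _
    have hz' : z ∈ Set.range (RelProj.emb p chart ⊤ hY) := by
      rw [range_emb]
      trivial
    obtain ⟨y, rfl⟩ := hz'
    have hy : y ∈ ⨆ a, Proj.basicOpen (𝒮.deg ⊤ hY) (s a) := by
      rw [h5]
      trivial
    obtain ⟨a, ha⟩ := Opens.mem_iSup.mp hy
    refine Opens.mem_iSup.mpr ⟨a, ?_⟩
    rw [Scheme.Hom.opensRange_comp, Proj.opensRange_awayι]
    exact ⟨y, ha, rfl⟩
  · intro a
    obtain ⟨e, he⟩ := preimage_ι_comp_eq L 𝒮L j hj u hL hP hPL r hr hY (hns a).1 (s a) (hns a).2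
      (haff a)
    have hsurj := (surjective_awayMap_iff L 𝒮L j hj u hL hP hPL r hr hY (hns a).1 (s a)
      (hns a).2 (haff a)).mpr (h3 a)
    have hci : IsClosedImmersion (Spec.map (CommRingCat.ofHom (Away.map (u.gradedAt ⊤ hY
        (XT 𝒮L u (n a) (s a)) (haff a) (le_top.trans (Scheme.Hom.preimage_top q).ge)) (s a)))) :=
      IsClosedImmersion.spec_of_surjective _ hsurj
    have hrg : Set.range (Proj.awayι (𝒮.deg ⊤ hY) (s a) (hns a).2 (hns a).1 ≫
        RelProj.emb p chart ⊤ hY) =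
        Set.range (Proj.awayι (𝒮.deg ⊤ hY) (s a) (hns a).2 (hns a).1 ≫
          RelProj.emb p chart ⊤ hY).opensRange.ι := by
      rw [Scheme.Opens.range_ι]
      rfl
    have e2 : r ∣_ (Proj.awayι (𝒮.deg ⊤ hY) (s a) (hns a).2 (hns a).1 ≫
        RelProj.emb p chart ⊤ hY).opensRange =
        e.inv ≫ Spec.map (CommRingCat.ofHom (Away.map (u.gradedAt ⊤ hY
          (XT 𝒮L u (n a) (s a)) (haff a) (le_top.trans (Scheme.Hom.preimage_top q).ge)) (s a))) ≫
          (IsOpenImmersion.isoOfRangeEq _ _ hrg).hom := by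
      rw [← cancel_mono (Proj.awayι (𝒮.deg ⊤ hY) (s a) (hns a).2 (hns a).1 ≫
        RelProj.emb p chart ⊤ hY).opensRange.ι, morphismRestrict_ι, he]
      simp only [Category.assoc, IsOpenImmersion.isoOfRangeEq_hom_fac]
    rw [e2]
    infer_instance

end Geom

end Groth.Agent.Lib.helper28.RLpsi
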