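import Groth.Agent.Lib.Helper28.RLpsiImm2
import Groth.Agent.Lib.Helper28.SymLineDom2

/-!
# `r_{L,ψ}` over an arbitrary affine open of the base (helper28)

The lemmas of `RLpsiAff`/`RLpsiImm`/`RLpsiImm2` with the affine base `⊤` replaced by an arbitrary
affine open `U ⊆ Y`.
-/

set_option autoImplicit false
universe u

namespace Groth.Agent.Lib.helper28.RLpsiU

open CategoryTheory CategoryTheory.Limits AlgebraicGeometry TopologicalSpace Opposite
open HomogeneousLocalization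
open scoped HomogeneousIdeal
open Groth.Agent.Lib.helper28.RelTwistChart Groth.Agent.Lib.helper28.ProjQGlue
open Groth.Agent.Lib.helper28 Groth.Agent.Lib.helper28.RLpsi

section Geom

variable {Y X P PL : Scheme.{u}} {q : X ⟶ Y}
  (L : X.Modules) [L.IsQuasicoherent]
  {𝒮 : RelProj.QCGrAlg Y} (𝒮L : RelProj.QCGrAlg X) (j : L ⟶ 𝒮L.toModule)
  (hj : RelProj.IsGrSymAlg L 𝒮L j)
  (u : RelProj.QGrHom q 𝒮 𝒮L)
  {p : P ⟶ Y} {chart : ∀ (U : Y.Opens) (hU : IsAffineOpen U),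
    (((p ⁻¹ᵁ U : P.Opens) : Scheme.{u}) ≅ Proj (𝒮.deg U hU))}
  {pL : PL ⟶ X} {chartL : ∀ (U : X.Opens) (hU : IsAffineOpen U),
    (((pL ⁻¹ᵁ U : PL.Opens) : Scheme.{u}) ≅ Proj (𝒮L.deg U hU))}

/-- The open `X_t` of `q⁻¹ U` where `t = ψ♭(s)` generates `L^{⊗n}`, for `s` over the open `U`. -/
def XT (U : Y.Opens) (n : ℕ) (s : 𝒮.presheaf.obj (op U)) : X.Opens :=
  (⨆ V : {V : X.affineOpens // ∃ hle : (V.1 : X.Opens) ≤ q ⁻¹ᵁ U,
          ((𝒮L.deg V.1 V.2 n : AddSubgroup (𝒮L.presheaf.obj (op (V.1 : X.Opens)))) : Set (𝒮L.presheaf.obj (op (V.1 : X.Opens)))) ⊆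
            (Ideal.span {(u.appLE U (V.1 : X.Opens) hle).hom s} : Set (𝒮L.presheaf.obj (op (V.1 : X.Opens))))},
          (V.1.1 : X.Opens))

theorem XT_le (U : Y.Opens) (n : ℕ) (s : 𝒮.presheaf.obj (op U)) : XT 𝒮L u U n s ≤ q ⁻¹ᵁ U := by
  refine iSup_le fun V => ?_
  obtain ⟨hle, -⟩ := V.2
  exact hle

variable (hL : PicF.IsInvertible L) (hP : RelProj.IsRelProj 𝒮 p chart)
  (hPL : RelProj.IsRelProj 𝒮L pL chartL)
  (r : ((RelProj.domQ u pL chartL : PL.Opens) : Scheme.{u}) ⟶ P)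
  (hr : ∀ (U : Y.Opens) (hU : IsAffineOpen U) (U' : X.Opens) (hU' : IsAffineOpen U')
    (hle : U' ≤ q ⁻¹ᵁ U) (d : ℕ) (hd : 0 < d) (f : 𝒮.presheaf.obj (op U))
    (hf : f ∈ 𝒮.deg U hU d),
    stdChart u pL chartL U hU U' hU' hle hd f hf ≫ r = tgt u p chart U hU U' hU' hle hd f hf)
  (U : Y.Opens) (hU : IsAffineOpen U) {n : ℕ} (hn : 0 < n) (s : 𝒮.presheaf.obj (op U))
  (hs : s ∈ 𝒮.deg U hU n)

include hj hL hP hPL hr in
/-- `r⁻¹(D₊(s))`, seen in `Proj(𝒮L)`, is the part over `X_t`. -/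
theorem image_preimage_eq :
    (RelProj.domQ u pL chartL).ι ''ᵁ
        (r ⁻¹ᵁ (Proj.awayι (𝒮.deg U hU) s hs hn ≫ RelProj.emb p chart U hU).opensRange) =
      pL ⁻¹ᵁ XT 𝒮L u U n s := by
  have hO : (RelProj.emb p chart U hU) ''ᵁ Proj.basicOpen (𝒮.deg U hU) s =
      (Proj.awayι (𝒮.deg U hU) s hs hn ≫ RelProj.emb p chart U hU).opensRange := by
    rw [Scheme.Hom.opensRange_comp, Proj.opensRange_awayι]
  rw [← hO]
  ext z
  rw [SetLike.mem_coe, SetLike.mem_coe,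
    SymLineDom.mem_image_preimage_iff' L 𝒮L j hj u hL hP hPL r hr U hU hn s hs z]
  constructor
  · rintro ⟨V, hV, hle, hzV, hspan⟩
    exact Opens.mem_iSup.mpr ⟨⟨⟨V, hV⟩, hle, hspan⟩, hzV⟩
  · intro hz
    obtain ⟨⟨⟨V, hV⟩, hle, hspan⟩, hzV⟩ := Opens.mem_iSup.mp hz
    exact ⟨V, hV, hle, hzV, hspan⟩

variable (hXT : IsAffineOpen (XT 𝒮L u U n s))

include hj hL hP hPL hr in
/-- When `X_t` is affine, `r⁻¹(D₊(s))` is the standard chart over `X_t`. -/
theorem opensRange_stdChart_XT :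
    (stdChart u pL chartL U hU (XT 𝒮L u U n s) hXT
      (XT_le 𝒮L u U n s) hn s hs).opensRange =
      r ⁻¹ᵁ (Proj.awayι (𝒮.deg U hU) s hs hn ≫ RelProj.emb p chart U hU).opensRange := by
  rw [← preimage_chart u hP hPL r hr U hU (XT 𝒮L u U n s) hXT
    (XT_le 𝒮L u U n s) hn s hs]
  apply le_antisymm
  · exact inf_le_left
  · intro x' hx'
    refine ⟨hx', ?_⟩
    have h1 : (RelProj.domQ u pL chartL).ι x' ∈ (RelProj.domQ u pL chartL).ι ''ᵁ
        (r ⁻¹ᵁ (Proj.awayι (𝒮.deg U hU) s hs hn ≫ RelProj.emb p chart U hU).opensRange) :=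
      ⟨x', hx', rfl⟩
    rw [image_preimage_eq L 𝒮L j hj u hL hP hPL r hr U hU hn s hs] at h1
    exact h1

include hj hL hP hPL hr in
/-- The square exhibiting `r` over `D₊(s)` as `Spec` of `S_(s) → 𝒮L(X_t)_(u s)`. -/
theorem isPullback_XT :
    IsPullback
      (Spec.map (CommRingCat.ofHom (Away.map (u.gradedAt U hU (XT 𝒮L u U n s) hXT
        (XT_le 𝒮L u U n s)) s)))
      (stdChart u pL chartL U hU (XT 𝒮L u U n s) hXT
        (XT_le 𝒮L u U n s) hn s hs)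
      (Proj.awayι (𝒮.deg U hU) s hs hn ≫ RelProj.emb p chart U hU) r := by
  refine IsOpenImmersion.isPullback _ _ _ _ ?_ ?_
  · rw [hr]
    rfl
  · exact (opensRange_stdChart_XT L 𝒮L j hj u hL hP hPL r hr U hU hn s hs hXT).symm

include hj hL hP hPL hr hn hs in
/-- When `X_t` is affine, `D₊(u s)` is all of `Proj 𝒮L(X_t)`. -/
theorem basicOpen_XT_eq_top :
    Proj.basicOpen (𝒮L.deg (XT 𝒮L u U n s) hXT) (u.gradedAt U hU (XT 𝒮L u U n s) hXT
      (XT_le 𝒮L u U n s) s) = ⊤ := by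
  rw [← top_le_iff]
  intro y _
  have hz : RelProj.emb pL chartL (XT 𝒮L u U n s) hXT y ∈ pL ⁻¹ᵁ XT 𝒮L u U n s := by
    have : RelProj.emb pL chartL (XT 𝒮L u U n s) hXT y ∈
        Set.range (RelProj.emb pL chartL (XT 𝒮L u U n s) hXT) := ⟨y, rfl⟩
    rw [range_emb] at this
    exact this
  rw [← image_preimage_eq L 𝒮L j hj u hL hP hPL r hr U hU hn s hs] at hz
  obtain ⟨x', hx', hx'z⟩ := hz
  have hx'' : x' ∈ r ⁻¹ᵁ (Proj.awayι (𝒮.deg U hU) s hs hn ≫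
      RelProj.emb p chart U hU).opensRange := hx'
  rw [← opensRange_stdChart_XT L 𝒮L j hj u hL hP hPL r hr U hU hn s hs hXT] at hx''
  obtain ⟨w, rfl⟩ := hx''
  have e1 : (RelProj.domQ u pL chartL).ι (stdChart u pL chartL U hU (XT 𝒮L u U n s) hXT
      (XT_le 𝒮L u U n s) hn s hs w) =
      RelProj.emb pL chartL (XT 𝒮L u U n s) hXT ((Proj.awayι (𝒮L.deg (XT 𝒮L u U n s) hXT)
        (u.gradedAt U hU (XT 𝒮L u U n s) hXT (XT_le 𝒮L u U n s) s)
        ((u.gradedAt U hU (XT 𝒮L u U n s) hXT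
          (XT_le 𝒮L u U n s)).map_mem hs) hn) w) := by
    rw [← Scheme.Hom.comp_apply, stdChart_ι, awayEmb_apply]
  have e2 := (RelProj.emb pL chartL (XT 𝒮L u U n s) hXT).isOpenEmbedding.injective
    (e1.symm.trans hx'z)
  rw [← e2]
  have : (Proj.awayι (𝒮L.deg (XT 𝒮L u U n s) hXT)
      (u.gradedAt U hU (XT 𝒮L u U n s) hXT (XT_le 𝒮L u U n s) s)
      ((u.gradedAt U hU (XT 𝒮L u U n s) hXT
        (XT_le 𝒮L u U n s)).map_mem hs) hn) w ∈
      (Proj.awayι (𝒮L.deg (XT 𝒮L u U n s) hXT)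
      (u.gradedAt U hU (XT 𝒮L u U n s) hXT (XT_le 𝒮L u U n s) s)
      ((u.gradedAt U hU (XT 𝒮L u U n s) hXT
        (XT_le 𝒮L u U n s)).map_mem hs) hn).opensRange := ⟨w, rfl⟩
  rw [Proj.opensRange_awayι] at this
  exact this

include hj hL hP hPL hr hn hs in
/-- When `X_t` is affine, `O(X_t) → 𝒮L(X_t)_(u s)` is bijective. -/
theorem bijective_strZero_fromZero :
    Function.Bijective (𝒮L.strZero (XT 𝒮L u U n s) hXT ≫ CommRingCat.ofHom
      (fromZeroRingHom (𝒮L.deg (XT 𝒮L u U n s) hXT) (Submonoid.powers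
        (u.gradedAt U hU (XT 𝒮L u U n s) hXT
          (XT_le 𝒮L u U n s) s)))).hom := by
  have hiso : IsIso pL := SymLineProj.isIso_of_isInvertible L 𝒮L j hj pL chartL hPL hL
  have h1 : IsIso (Proj.toSpecZero (𝒮L.deg (XT 𝒮L u U n s) hXT) ≫
      Spec.map (𝒮L.strZero (XT 𝒮L u U n s) hXT)) :=
    (RelProjBC.isPullback_emb hPL (XT 𝒮L u U n s) hXT).isIso_snd_of_isIso
  have h2 : IsIso (Proj.awayι (𝒮L.deg (XT 𝒮L u U n s) hXT)
      (u.gradedAt U hU (XT 𝒮L u U n s) hXT (XT_le 𝒮L u U n s) s)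
      ((u.gradedAt U hU (XT 𝒮L u U n s) hXT
        (XT_le 𝒮L u U n s)).map_mem hs) hn) :=
    isIso_of_isOpenImmersion_of_opensRange_eq_top _ (by
      rw [Proj.opensRange_awayι]
      exact basicOpen_XT_eq_top L 𝒮L j hj u hL hP hPL r hr U hU hn s hs hXT)
  have h3 : Spec.map (𝒮L.strZero (XT 𝒮L u U n s) hXT ≫ CommRingCat.ofHom
      (fromZeroRingHom (𝒮L.deg (XT 𝒮L u U n s) hXT) (Submonoid.powers
        (u.gradedAt U hU (XT 𝒮L u U n s) hXT
          (XT_le 𝒮L u U n s) s)))) =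
      Proj.awayι (𝒮L.deg (XT 𝒮L u U n s) hXT)
        (u.gradedAt U hU (XT 𝒮L u U n s) hXT (XT_le 𝒮L u U n s) s)
        ((u.gradedAt U hU (XT 𝒮L u U n s) hXT
          (XT_le 𝒮L u U n s)).map_mem hs) hn ≫
        Proj.toSpecZero (𝒮L.deg (XT 𝒮L u U n s) hXT) ≫
          Spec.map (𝒮L.strZero (XT 𝒮L u U n s) hXT) := by
    rw [Spec.map_comp, Proj.awayι_toSpecZero_assoc]
  have h4 : IsIso (Spec.map (𝒮L.strZero (XT 𝒮L u U n s) hXT ≫ CommRingCat.ofHom
      (fromZeroRingHom (𝒮L.deg (XT 𝒮L u U n s) hXT) (Submonoid.powers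
        (u.gradedAt U hU (XT 𝒮L u U n s) hXT
          (XT_le 𝒮L u U n s) s))))) := by
    rw [h3]
    infer_instance
  exact bijective_of_isIso_specMap _

include hj hL hP hPL hr hn hs in
/-- Condition (iii) is the surjectivity of `S_(s) → 𝒮L(X_t)_(u s)`. -/
theorem surjective_awayMap_iff :
    Function.Surjective (Away.map (u.gradedAt U hU (XT 𝒮L u U n s) hXT
        (XT_le 𝒮L u U n s)) s) ↔
      ∀ t : X.presheaf.obj (op (XT 𝒮L u U n s)), ∃ (m : ℕ) (_ : 0 < m)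
        (s' : 𝒮.presheaf.obj (op U)) (_ : s' ∈ 𝒮.deg U hU (m * n)),
        (𝒮L.str.app (op (XT 𝒮L u U n s))).hom t *
          ((u.appLE U (XT 𝒮L u U n s) (XT_le 𝒮L u U n s)).hom s) ^ m =
          (u.appLE U (XT 𝒮L u U n s) (XT_le 𝒮L u U n s)).hom s' := by
  have hbij := bijective_strZero_fromZero L 𝒮L j hj u hL hP hPL r hr U hU hn s hs hXT
  set ψ := u.gradedAt U hU (XT 𝒮L u U n s) hXT (XT_le 𝒮L u U n s)
    with hψ
  have hρ : ∀ t : X.presheaf.obj (op (XT 𝒮L u U n s)),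
      ((𝒮L.strZero (XT 𝒮L u U n s) hXT ≫ CommRingCat.ofHom
        (fromZeroRingHom (𝒮L.deg (XT 𝒮L u U n s) hXT) (Submonoid.powers (ψ s)))).hom t).val =
        Localization.mk ((𝒮L.str.app (op (XT 𝒮L u U n s))).hom t) 1 := fun t => rfl
  constructor
  · intro hsurj t
    obtain ⟨a, ha⟩ := hsurj ((𝒮L.strZero (XT 𝒮L u U n s) hXT ≫ CommRingCat.ofHom
      (fromZeroRingHom (𝒮L.deg (XT 𝒮L u U n s) hXT) (Submonoid.powers (ψ s)))).hom t)
    obtain ⟨m, s', hs', rfl⟩ := Away.mk_surjective (𝒮.deg U hU) hs a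
    rw [Away.map_mk ψ s hs m s' hs', HomogeneousLocalization.ext_iff_val, Away.val_mk, hρ,
      Localization.mk_eq_mk_iff, Localization.r_iff_exists] at ha
    obtain ⟨⟨_, k, rfl⟩, hk⟩ := ha
    simp only [OneMemClass.coe_one, one_mul] at hk
    refine ⟨m + k + 1, by omega, s' * s ^ (k + 1), ?_, ?_⟩
    · have h1 : s ^ (k + 1) ∈ 𝒮.deg U hU ((k + 1) • n) := SetLike.pow_mem_graded _ hs
      have h2 := SetLike.mul_mem_graded hs' h1
      have e : m • n + (k + 1) • n = (m + k + 1) * n := by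
        simp only [smul_eq_mul]
        ring
      rw [e] at h2
      exact h2
    · change (𝒮L.str.app (op (XT 𝒮L u U n s))).hom t * (ψ s) ^ (m + k + 1) = ψ (s' * s ^ (k + 1))
      rw [map_mul, map_pow]
      have hk' : ψ s ^ k * ψ s' = ψ s ^ k * (ψ s ^ m * (𝒮L.str.app (op (XT 𝒮L u U n s))).hom t) :=
        hk
      calc (𝒮L.str.app (op (XT 𝒮L u U n s))).hom t * ψ s ^ (m + k + 1)
          = ψ s * (ψ s ^ k * (ψ s ^ m * (𝒮L.str.app (op (XT 𝒮L u U n s))).hom t)) := by ring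
        _ = ψ s * (ψ s ^ k * ψ s') := by rw [hk']
        _ = ψ s' * ψ s ^ (k + 1) := by ring
  · intro h b
    obtain ⟨t, rfl⟩ := hbij.2 b
    obtain ⟨m, hm, s', hs', hts⟩ := h t
    have hs'' : s' ∈ 𝒮.deg U hU (m • n) := by
      rw [smul_eq_mul]
      exact hs'
    refine ⟨Away.mk (𝒮.deg U hU) hs m s' hs'', ?_⟩
    rw [Away.map_mk ψ s hs m s' hs'', HomogeneousLocalization.ext_iff_val, Away.val_mk, hρ,
      Localization.mk_eq_mk_iff, Localization.r_iff_exists]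
    refine ⟨1, ?_⟩
    simp only [OneMemClass.coe_one, one_mul]
    have hts' : (𝒮L.str.app (op (XT 𝒮L u U n s))).hom t * ψ s ^ m = ψ s' := hts
    rw [← hts']
    ring

end Geom

section Geom2

variable {Y X P PL : Scheme.{u}} {q : X ⟶ Y}
  (L : X.Modules) [L.IsQuasicoherent]
  {𝒮 : RelProj.QCGrAlg Y} (𝒮L : RelProj.QCGrAlg X) (j : L ⟶ 𝒮L.toModule)
  (hj : RelProj.IsGrSymAlg L 𝒮L j)
  (u : RelProj.QGrHom q 𝒮 𝒮L)
  {p : P ⟶ Y} {chart : ∀ (U : Y.Opens) (hU : IsAffineOpen U),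
    (((p ⁻¹ᵁ U : P.Opens) : Scheme.{u}) ≅ Proj (𝒮.deg U hU))}
  {pL : PL ⟶ X} {chartL : ∀ (U : X.Opens) (hU : IsAffineOpen U),
    (((pL ⁻¹ᵁ U : PL.Opens) : Scheme.{u}) ≅ Proj (𝒮L.deg U hU))}
  (hL : PicF.IsInvertible L) (hP : RelProj.IsRelProj 𝒮 p chart)
  (hPL : RelProj.IsRelProj 𝒮L pL chartL)
  (r : ((RelProj.domQ u pL chartL : PL.Opens) : Scheme.{u}) ⟶ P)
  (hr : ∀ (U : Y.Opens) (hU : IsAffineOpen U) (U' : X.Opens) (hU' : IsAffineOpen U')
    (hle : U' ≤ q ⁻¹ᵁ U) (d : ℕ) (hd : 0 < d) (f : 𝒮.presheaf.obj (op U))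
    (hf : f ∈ 𝒮.deg U hU d),
    stdChart u pL chartL U hU U' hU' hle hd f hf ≫ r = tgt u p chart U hU U' hU' hle hd f hf)
  (U : Y.Opens) (hU : IsAffineOpen U)

include hj hL hP hPL hr in
/-- A point over `X_t` is mapped into `D₊(s)`. -/
theorem mem_preimage_of_mem_XT {n : ℕ} (hn : 0 < n) (s : 𝒮.presheaf.obj (op U))
    (hs : s ∈ 𝒮.deg U hU n) (x' : ((RelProj.domQ u pL chartL : PL.Opens) : Scheme.{u}))
    (hx' : pL ((RelProj.domQ u pL chartL).ι x') ∈ XT 𝒮L u U n s) :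
    r x' ∈ (Proj.awayι (𝒮.deg U hU) s hs hn ≫ RelProj.emb p chart U hU).opensRange := by
  have h1 : (RelProj.domQ u pL chartL).ι x' ∈ pL ⁻¹ᵁ XT 𝒮L u U n s := hx'
  rw [← image_preimage_eq L 𝒮L j hj u hL hP hPL r hr U hU hn s hs] at h1
  obtain ⟨x'', hx'', he⟩ := h1
  have := (RelProj.domQ u pL chartL).ι.isOpenEmbedding.injective he
  rw [← this]
  exact hx''

include hj hL hP hPL hr in
/-- A point mapped into `D₊(s)` lies over `X_t`. -/
theorem mem_XT_of_mem_preimage {n : ℕ} (hn : 0 < n) (s : 𝒮.presheaf.obj (op U))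
    (hs : s ∈ 𝒮.deg U hU n) (x' : ((RelProj.domQ u pL chartL : PL.Opens) : Scheme.{u}))
    (hx' : r x' ∈ (Proj.awayι (𝒮.deg U hU) s hs hn ≫ RelProj.emb p chart U hU).opensRange) :
    pL ((RelProj.domQ u pL chartL).ι x') ∈ XT 𝒮L u U n s := by
  have h1 : (RelProj.domQ u pL chartL).ι x' ∈ (RelProj.domQ u pL chartL).ι ''ᵁ
      (r ⁻¹ᵁ (Proj.awayι (𝒮.deg U hU) s hs hn ≫ RelProj.emb p chart U hU).opensRange) :=
    ⟨x', hx', rfl⟩
  rw [image_preimage_eq L 𝒮L j hj u hL hP hPL r hr U hU hn s hs] at h1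
  exact h1

include hj hL hP hPL hr in
/-- Over `D₊(s)` with `X_t` affine, `r` is `Spec` of `S_(s) → 𝒮L(X_t)_(u s)` up to isomorphisms
of the source. -/
theorem preimage_ι_comp_eq {n : ℕ} (hn : 0 < n) (s : 𝒮.presheaf.obj (op U))
    (hs : s ∈ 𝒮.deg U hU n) (hXT : IsAffineOpen (XT 𝒮L u U n s)) :
    ∃ e : Spec (CommRingCat.of (Away (𝒮L.deg (XT 𝒮L u U n s) hXT)
        (u.gradedAt U hU (XT 𝒮L u U n s) hXT (XT_le 𝒮L u U n s) s))) ≅
      ((r ⁻¹ᵁ (Proj.awayι (𝒮.deg U hU) s hs hn ≫ RelProj.emb p chart U hU).opensRange :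
        ((RelProj.domQ u pL chartL : PL.Opens) : Scheme.{u}).Opens) : Scheme.{u}),
      (r ⁻¹ᵁ (Proj.awayι (𝒮.deg U hU) s hs hn ≫ RelProj.emb p chart U hU).opensRange).ι ≫ r =
        e.inv ≫ Spec.map (CommRingCat.ofHom (Away.map (u.gradedAt U hU (XT 𝒮L u U n s) hXT
          (XT_le 𝒮L u U n s)) s)) ≫
          Proj.awayι (𝒮.deg U hU) s hs hn ≫ RelProj.emb p chart U hU := by
  have hrange : Set.range (stdChart u pL chartL U hU (XT 𝒮L u U n s) hXT
      (XT_le 𝒮L u U n s) hn s hs) =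
      Set.range (r ⁻¹ᵁ (Proj.awayι (𝒮.deg U hU) s hs hn ≫
        RelProj.emb p chart U hU).opensRange).ι := by
    rw [Scheme.Opens.range_ι]
    exact congrArg (fun W : ((RelProj.domQ u pL chartL : PL.Opens) : Scheme.{u}).Opens =>
      (W : Set ((RelProj.domQ u pL chartL : PL.Opens) : Scheme.{u})))
      (opensRange_stdChart_XT L 𝒮L j hj u hL hP hPL r hr U hU hn s hs hXT)
  refine ⟨IsOpenImmersion.isoOfRangeEq _ _ hrange, ?_⟩
  rw [Iso.eq_inv_comp, ← Category.assoc, IsOpenImmersion.isoOfRangeEq_hom_fac, hr]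
  rfl

include hj hL hP hPL hr in
/-- If `r` is an immersion and `D₊(s)` lies in the open where the image of `r` is closed, then
`X_t` is affine and `S_(s) → 𝒮L(X_t)_(u s)` is surjective. -/
theorem affine_surjective_of_isImmersion [IsImmersion r]
    {n : ℕ} (hn : 0 < n) (s : 𝒮.presheaf.obj (op U)) (hs : s ∈ 𝒮.deg U hU n)
    (hD : (Proj.awayι (𝒮.deg U hU) s hs hn ≫ RelProj.emb p chart U hU).opensRange ≤
      r.coborderRange) :
    ∃ hXT : IsAffineOpen (XT 𝒮L u U n s),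
      Function.Surjective (Away.map (u.gradedAt U hU (XT 𝒮L u U n s) hXT
        (XT_le 𝒮L u U n s)) s) := by
  have hiso : IsIso pL := SymLineProj.isIso_of_isInvertible L 𝒮L j hj pL chartL hPL hL
  have hDaff : IsAffineOpen
      (Proj.awayι (𝒮.deg U hU) s hs hn ≫ RelProj.emb p chart U hU).opensRange :=
    isAffineOpen_opensRange _
  -- `r⁻¹(D)` is affine
  have h1 : IsAffineOpen (r ⁻¹ᵁ
      (Proj.awayι (𝒮.deg U hU) s hs hn ≫ RelProj.emb p chart U hU).opensRange) := by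
    have e : r ⁻¹ᵁ (Proj.awayι (𝒮.deg U hU) s hs hn ≫ RelProj.emb p chart U hU).opensRange =
        r.liftCoborder ⁻¹ᵁ (r.coborderRange.ι ⁻¹ᵁ
          (Proj.awayι (𝒮.deg U hU) s hs hn ≫ RelProj.emb p chart U hU).opensRange) := by
      rw [← Scheme.Hom.comp_preimage, Scheme.Hom.liftCoborder_ι]
    rw [e]
    refine IsAffineOpen.preimage ?_ _
    exact hDaff.preimage_of_isOpenImmersion _ (by rw [Scheme.Opens.opensRange_ι]; exact hD)
  have h2 : IsAffineOpen ((RelProj.domQ u pL chartL).ι ''ᵁ (r ⁻¹ᵁ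
      (Proj.awayι (𝒮.deg U hU) s hs hn ≫ RelProj.emb p chart U hU).opensRange)) :=
    h1.image_of_isOpenImmersion _
  rw [image_preimage_eq L 𝒮L j hj u hL hP hPL r hr U hU hn s hs] at h2
  have hXT : IsAffineOpen (XT 𝒮L u U n s) := by
    have h3 := h2.image_of_isOpenImmersion pL
    rw [Scheme.Hom.image_preimage_eq_opensRange_inf, Scheme.Hom.opensRange_of_isIso,
      top_inf_eq] at h3
    exact h3
  refine ⟨hXT, ?_⟩
  have sq := isPullback_XT L 𝒮L j hj u hL hP hPL r hr U hU hn s hs hXT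
  have himm : IsImmersion (Spec.map (CommRingCat.ofHom (Away.map (u.gradedAt U hU (XT 𝒮L u U n s)
      hXT (XT_le 𝒮L u U n s)) s))) :=
    MorphismProperty.of_isPullback (P := @IsImmersion) sq.flip inferInstance
  have hrange : Set.range (Spec.map (CommRingCat.ofHom (Away.map (u.gradedAt U hU (XT 𝒮L u U n s)
      hXT (XT_le 𝒮L u U n s)) s))) =
      (Proj.awayι (𝒮.deg U hU) s hs hn ≫ RelProj.emb p chart U hU) ⁻¹'
        (closure (Set.range r)) := by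
    ext t
    constructor
    · rintro ⟨w, rfl⟩
      apply subset_closure
      refine ⟨stdChart u pL chartL U hU (XT 𝒮L u U n s) hXT
        (XT_le 𝒮L u U n s) hn s hs w, ?_⟩
      rw [← Scheme.Hom.comp_apply, ← Scheme.Hom.comp_apply, sq.w]
    · intro ht
      have ht2 : (Proj.awayι (𝒮.deg U hU) s hs hn ≫ RelProj.emb p chart U hU) t ∈
          coborder (Set.range r) := hD ⟨t, rfl⟩
      have ht3 : (Proj.awayι (𝒮.deg U hU) s hs hn ≫ RelProj.emb p chart U hU) t ∈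
          Set.range r := by
        have h5 := closure_inter_coborder (s := Set.range r)
        rw [← h5]
        exact ⟨ht, ht2⟩
      obtain ⟨x', hx'⟩ := ht3
      have hx'' : x' ∈ r ⁻¹ᵁ (Proj.awayι (𝒮.deg U hU) s hs hn ≫
          RelProj.emb p chart U hU).opensRange := by
        have h6 : r x' ∈ (Proj.awayι (𝒮.deg U hU) s hs hn ≫
            RelProj.emb p chart U hU).opensRange := by
          rw [hx']
          exact ⟨t, rfl⟩
        exact h6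
      rw [← opensRange_stdChart_XT L 𝒮L j hj u hL hP hPL r hr U hU hn s hs hXT] at hx''
      obtain ⟨w, rfl⟩ := hx''
      refine ⟨w, ?_⟩
      apply (Proj.awayι (𝒮.deg U hU) s hs hn ≫
        RelProj.emb p chart U hU).isOpenEmbedding.injective
      rw [← hx', ← Scheme.Hom.comp_apply, ← Scheme.Hom.comp_apply, sq.w]
  have hclosed : IsClosed (Set.range (Spec.map (CommRingCat.ofHom (Away.map
      (u.gradedAt U hU (XT 𝒮L u U n s) hXT
        (XT_le 𝒮L u U n s)) s)))) := by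
    rw [hrange]
    exact isClosed_closure.preimage (Proj.awayι (𝒮.deg U hU) s hs hn ≫
      RelProj.emb p chart U hU).continuous
  have hci : IsClosedImmersion (Spec.map (CommRingCat.ofHom (Away.map
      (u.gradedAt U hU (XT 𝒮L u U n s) hXT
        (XT_le 𝒮L u U n s)) s))) :=
    IsClosedImmersion.of_isPreimmersion _ hclosed
  exact surjective_of_isClosedImmersion_specMap (CommRingCat.ofHom (Away.map
      (u.gradedAt U hU (XT 𝒮L u U n s) hXT
        (XT_le 𝒮L u U n s)) s))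

/-- Over an affine base, the opens `D₊(s)`, `s` homogeneous of positive degree, form a basis. -/
theorem exists_basic (W : P.Opens) (z : P) (hz : z ∈ W) (hzU : p z ∈ U) :
    ∃ (d : ℕ) (hd : 0 < d) (s : 𝒮.presheaf.obj (op U)) (hs : s ∈ 𝒮.deg U hU d),
      z ∈ (Proj.awayι (𝒮.deg U hU) s hs hd ≫ RelProj.emb p chart U hU).opensRange ∧
      (Proj.awayι (𝒮.deg U hU) s hs hd ≫ RelProj.emb p chart U hU).opensRange ≤ W := by
  have hz' : z ∈ Set.range (RelProj.emb p chart U hU) := by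
    rw [range_emb]
    exact hzU
  obtain ⟨y, rfl⟩ := hz'
  obtain ⟨d, hd, t, ht, hty, htW⟩ := ProjQComp.exists_homogeneous_basicOpen_le (𝒮.deg U hU)
    ((RelProj.emb p chart U hU) ⁻¹ᵁ W) y hz
  refine ⟨d, hd, t, ht, ?_, ?_⟩
  · rw [Scheme.Hom.opensRange_comp, Proj.opensRange_awayι]
    exact ⟨y, hty, rfl⟩
  · rw [Scheme.Hom.opensRange_comp, Proj.opensRange_awayι]
    rintro _ ⟨y', hy', rfl⟩
    exact htW hy'

end Geom2

section Geom3

variable {Y X P PL : Scheme.{u}} {q : X ⟶ Y}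
  (L : X.Modules) [L.IsQuasicoherent]
  {𝒮 : RelProj.QCGrAlg Y} (𝒮L : RelProj.QCGrAlg X) (j : L ⟶ 𝒮L.toModule)
  (hj : RelProj.IsGrSymAlg L 𝒮L j)
  (u : RelProj.QGrHom q 𝒮 𝒮L)
  {p : P ⟶ Y} {chart : ∀ (U : Y.Opens) (hU : IsAffineOpen U),
    (((p ⁻¹ᵁ U : P.Opens) : Scheme.{u}) ≅ Proj (𝒮.deg U hU))}
  {pL : PL ⟶ X} {chartL : ∀ (U : X.Opens) (hU : IsAffineOpen U),
    (((pL ⁻¹ᵁ U : PL.Opens) : Scheme.{u}) ≅ Proj (𝒮L.deg U hU))}
  (hL : PicF.IsInvertible L) (hP : RelProj.IsRelProj 𝒮 p chart)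
  (hPL : RelProj.IsRelProj 𝒮L pL chartL)
  (r : ((RelProj.domQ u pL chartL : PL.Opens) : Scheme.{u}) ⟶ P)
  (hr : ∀ (U : Y.Opens) (hU : IsAffineOpen U) (U' : X.Opens) (hU' : IsAffineOpen U')
    (hle : U' ≤ q ⁻¹ᵁ U) (d : ℕ) (hd : 0 < d) (f : 𝒮.presheaf.obj (op U))
    (hf : f ∈ 𝒮.deg U hU d),
    stdChart u pL chartL U hU U' hU' hle hd f hf ≫ r = tgt u p chart U hU U' hU' hle hd f hf)
  (U : Y.Opens) (hU : IsAffineOpen U)

include hj hL hP hPL hr in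
/-- The image of `Spec` of `S_(s) → 𝒮L(X_t)_(u s)` is the trace of the image of `r` on `D₊(s)`. -/
theorem range_specMap_eq {n : ℕ} (hn : 0 < n) (s : 𝒮.presheaf.obj (op U))
    (hs : s ∈ 𝒮.deg U hU n) (hXT : IsAffineOpen (XT 𝒮L u U n s)) :
    Set.range (Spec.map (CommRingCat.ofHom (Away.map (u.gradedAt U hU (XT 𝒮L u U n s)
      hXT (XT_le 𝒮L u U n s)) s))) =
      (Proj.awayι (𝒮.deg U hU) s hs hn ≫ RelProj.emb p chart U hU) ⁻¹' (Set.range r) := by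
  have sq := isPullback_XT L 𝒮L j hj u hL hP hPL r hr U hU hn s hs hXT
  ext t
  constructor
  · rintro ⟨w, rfl⟩
    refine ⟨stdChart u pL chartL U hU (XT 𝒮L u U n s) hXT
      (XT_le 𝒮L u U n s) hn s hs w, ?_⟩
    rw [← Scheme.Hom.comp_apply, ← Scheme.Hom.comp_apply, sq.w]
  · rintro ⟨x', hx'⟩
    have hx'' : x' ∈ r ⁻¹ᵁ (Proj.awayι (𝒮.deg U hU) s hs hn ≫
        RelProj.emb p chart U hU).opensRange := by
      have h6 : r x' ∈ (Proj.awayι (𝒮.deg U hU) s hs hn ≫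
          RelProj.emb p chart U hU).opensRange := by
        rw [hx']
        exact ⟨t, rfl⟩
      exact h6
    rw [← opensRange_stdChart_XT L 𝒮L j hj u hL hP hPL r hr U hU hn s hs hXT] at hx''
    obtain ⟨w, rfl⟩ := hx''
    refine ⟨w, ?_⟩
    apply (Proj.awayι (𝒮.deg U hU) s hs hn ≫
      RelProj.emb p chart U hU).isOpenEmbedding.injective
    rw [← hx', ← Scheme.Hom.comp_apply, ← Scheme.Hom.comp_apply, sq.w]

include hj hL hP hPL hr in
/-- If `r` is an open immersion and `D₊(s)` lies in its image, then `X_t` is affine and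
`S_(s) → 𝒮L(X_t)_(u s)` is bijective. -/
theorem affine_bijective_of_isOpenImmersion [IsOpenImmersion r]
    {n : ℕ} (hn : 0 < n) (s : 𝒮.presheaf.obj (op U)) (hs : s ∈ 𝒮.deg U hU n)
    (hD : (Proj.awayι (𝒮.deg U hU) s hs hn ≫ RelProj.emb p chart U hU).opensRange ≤
      r.opensRange) :
    ∃ hXT : IsAffineOpen (XT 𝒮L u U n s),
      Function.Bijective (Away.map (u.gradedAt U hU (XT 𝒮L u U n s) hXT
        (XT_le 𝒮L u U n s)) s) := by
  have hD' : (Proj.awayι (𝒮.deg U hU) s hs hn ≫ RelProj.emb p chart U hU).opensRange ≤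
      r.coborderRange := by
    intro z hz
    exact subset_coborder (hD hz)
  obtain ⟨hXT, -⟩ := affine_surjective_of_isImmersion L 𝒮L j hj u hL hP hPL r hr U hU hn s hs hD'
  refine ⟨hXT, ?_⟩
  have sq := isPullback_XT L 𝒮L j hj u hL hP hPL r hr U hU hn s hs hXT
  have hoi : IsOpenImmersion (Spec.map (CommRingCat.ofHom (Away.map (u.gradedAt U hU
      (XT 𝒮L u U n s) hXT (XT_le 𝒮L u U n s)) s))) :=
    MorphismProperty.of_isPullback (P := @IsOpenImmersion) sq.flip inferInstance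
  have hrange := range_specMap_eq L 𝒮L j hj u hL hP hPL r hr U hU hn s hs hXT
  have htop : (Spec.map (CommRingCat.ofHom (Away.map (u.gradedAt U hU
      (XT 𝒮L u U n s) hXT (XT_le 𝒮L u U n s)) s))).opensRange = ⊤ := by
    rw [← top_le_iff]
    intro t _
    have : t ∈ Set.range (Spec.map (CommRingCat.ofHom (Away.map (u.gradedAt U hU
      (XT 𝒮L u U n s) hXT (XT_le 𝒮L u U n s)) s))) := by
      rw [hrange]
      exact hD ⟨t, rfl⟩
    exact this
  have hiso : IsIso (Spec.map (CommRingCat.ofHom (Away.map (u.gradedAt U hU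
      (XT 𝒮L u U n s) hXT (XT_le 𝒮L u U n s)) s))) :=
    isIso_of_isOpenImmersion_of_opensRange_eq_top _ htop
  exact bijective_of_isIso_specMap (CommRingCat.ofHom (Away.map (u.gradedAt U hU
      (XT 𝒮L u U n s) hXT (XT_le 𝒮L u U n s)) s))

end Geom3

section Local

variable {Y X P PL : Scheme.{u}} {q : X ⟶ Y}
  (L : X.Modules) [L.IsQuasicoherent]
  {𝒮 : RelProj.QCGrAlg Y} (𝒮L : RelProj.QCGrAlg X) (j : L ⟶ 𝒮L.toModule)
  (hj : RelProj.IsGrSymAlg L 𝒮L j)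
  (u : RelProj.QGrHom q 𝒮 𝒮L)
  {p : P ⟶ Y} {chart : ∀ (U : Y.Opens) (hU : IsAffineOpen U),
    (((p ⁻¹ᵁ U : P.Opens) : Scheme.{u}) ≅ Proj (𝒮.deg U hU))}
  {pL : PL ⟶ X} {chartL : ∀ (U : X.Opens) (hU : IsAffineOpen U),
    (((pL ⁻¹ᵁ U : PL.Opens) : Scheme.{u}) ≅ Proj (𝒮L.deg U hU))}
  (hL : PicF.IsInvertible L) (hP : RelProj.IsRelProj 𝒮 p chart)
  (hPL : RelProj.IsRelProj 𝒮L pL chartL)
  (r : ((RelProj.domQ u pL chartL : PL.Opens) : Scheme.{u}) ⟶ P)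
  (hr : ∀ (U : Y.Opens) (hU : IsAffineOpen U) (U' : X.Opens) (hU' : IsAffineOpen U')
    (hle : U' ≤ q ⁻¹ᵁ U) (d : ℕ) (hd : 0 < d) (f : 𝒮.presheaf.obj (op U))
    (hf : f ∈ 𝒮.deg U hU d),
    stdChart u pL chartL U hU U' hU' hle hd f hf ≫ r = tgt u p chart U hU U' hU' hle hd f hf)

include hj hL hP hPL hr in
/-- **Open immersion criterion, local form**: if every point of `G(u)` lies over some affine
`X_t`, `t = ψ♭(s)` with `s` homogeneous of positive degree over an affine open `U` of the base,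
such that `𝒮(U)_(s) → 𝒮L(X_t)_(t)` is bijective, then `r` is an open immersion. -/
theorem isOpenImmersion_of_local
    (h : ∀ x' : ((RelProj.domQ u pL chartL : PL.Opens) : Scheme.{u}),
      ∃ (U : Y.Opens) (hU : IsAffineOpen U) (n : ℕ) (_ : 0 < n) (s : 𝒮.presheaf.obj (op U))
        (_ : s ∈ 𝒮.deg U hU n), pL ((RelProj.domQ u pL chartL).ι x') ∈ XT 𝒮L u U n s ∧
        ∃ hXT : IsAffineOpen (XT 𝒮L u U n s),
          Function.Bijective (Away.map (u.gradedAt U hU (XT 𝒮L u U n s) hXT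
            (XT_le 𝒮L u U n s)) s)) :
    IsOpenImmersion r := by
  apply IsZariskiLocalAtTarget.of_forall_source_exists_preimage
  intro x'
  obtain ⟨U, hU, n, hn, s, hs, hx, hXT, hbij⟩ := h x'
  refine ⟨(Proj.awayι (𝒮.deg U hU) s hs hn ≫ RelProj.emb p chart U hU).opensRange,
    mem_preimage_of_mem_XT L 𝒮L j hj u hL hP hPL r hr U hU hn s hs x' hx, ?_⟩
  obtain ⟨e, he⟩ := preimage_ι_comp_eq L 𝒮L j hj u hL hP hPL r hr U hU hn s hs hXT
  rw [he]
  have h1 : IsIso (CommRingCat.ofHom (Away.map (u.gradedAt U hU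
      (XT 𝒮L u U n s) hXT (XT_le 𝒮L u U n s)) s)) :=
    (ConcreteCategory.isIso_iff_bijective _).mpr hbij
  infer_instance

end Local

end Groth.Agent.Lib.helper28.RLpsiU
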