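import Groth.Agent.Lib.Helper28.ReesLoc
import Groth.Agent.Lib.Helper28.AffAlgGlue
import Groth.Agent.Lib.Helper28.GradedTransport
import Groth.Prelude.Def_RelProj
import Groth.Prelude.Def_BlowUp2

/-!
# The Rees algebra of a quasi-coherent ideal as a quasi-coherent graded algebra (helper28)

For an ideal sheaf `𝓘` on a scheme `X`, `grAlg 𝓘 : RelProj.QCGrAlg X` is the quasi-coherent graded
algebra `⊕ 𝓘ⁿ` with `gIso U : (grAlg 𝓘)(U) ≃+* reesAlgebra (𝓘(U))` over the affine opens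
(`gIso_str`, `gIso_res`, `mem_deg_iff`).  It is generated in degree one (`isGenDegOne`) and its
degree-one part is of finite type when `𝓘` is (`isFTDeg_one`).
-/

set_option autoImplicit false
universe u

open CategoryTheory CategoryTheory.Limits AlgebraicGeometry Opposite TopologicalSpace
open scoped HomogeneousIdeal

namespace Groth.Agent.Lib.helper28.ReesAlg

open Groth.Agent.Lib.helper28.ReesLoc Groth.Agent.Lib.helper28
  Groth.Agent.Lib.helper28.GradedTransport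

variable {X : Scheme.{u}} (𝓘 : X.IdealSheafData)

/-- Restriction of functions, as a ring homomorphism. -/
noncomputable def resRing {U V : X.Opens} (h : V ≤ U) : Γ(X, U) →+* Γ(X, V) :=
  (X.presheaf.map (homOfLE h).op).hom

theorem resRing_id (U : X.Opens) : resRing (le_refl U) = RingHom.id Γ(X, U) := by
  ext a
  change (X.presheaf.map (𝟙 (op U))).hom a = a
  rw [X.presheaf.map_id]
  rfl

theorem resRing_comp {U V W : X.Opens} (h : V ≤ U) (h' : W ≤ V) :
    (resRing h').comp (resRing h) = resRing (h'.trans h) := by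
  ext a
  change (X.presheaf.map (homOfLE h).op ≫ X.presheaf.map (homOfLE h').op).hom a = _
  rw [← X.presheaf.map_comp]
  rfl

/-- The ideal of `𝓘` over an affine open. -/
abbrev IU (U : X.Opens) (hU : IsAffineOpen U) : Ideal Γ(X, U) := 𝓘.ideal ⟨U, hU⟩

/-- The Rees algebra of `𝓘` over an affine open. -/
abbrev B (U : X.Opens) (hU : IsAffineOpen U) : Type u := reesAlgebra (IU 𝓘 U hU)

theorem map_IU {U V : X.Opens} (hU : IsAffineOpen U) (hV : IsAffineOpen V) (h : V ≤ U) :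
    (IU 𝓘 U hU).map (resRing h) = IU 𝓘 V hV :=
  𝓘.map_ideal (U := ⟨V, hV⟩) (V := ⟨U, hU⟩) h

/-- The restriction maps of the Rees algebras. -/
noncomputable def Bres {U V : X.Opens} (hU : IsAffineOpen U) (hV : IsAffineOpen V) (h : V ≤ U) :
    B 𝓘 U hU →+* B 𝓘 V hV :=
  reesMap (resRing h) _ _ (map_IU 𝓘 hU hV h).le

theorem Bres_id (U : X.Opens) (hU : IsAffineOpen U) : Bres 𝓘 hU hU le_rfl = RingHom.id _ :=
  (reesMap_congr _ _ _ (by rw [Ideal.map_id]) (resRing_id U)).trans (reesMap_id _ _)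

theorem Bres_comp {U V W : X.Opens} (hU : IsAffineOpen U) (hV : IsAffineOpen V)
    (hW : IsAffineOpen W) (hVU : V ≤ U) (hWV : W ≤ V) :
    (Bres 𝓘 hV hW hWV).comp (Bres 𝓘 hU hV hVU) = Bres 𝓘 hU hW (hWV.trans hVU) :=
  (reesMap_comp _ _ _ _ _ _ _ (by
    rw [← Ideal.map_map, map_IU 𝓘 hU hV hVU, map_IU 𝓘 hV hW hWV])).trans
    (reesMap_congr _ _ _ _ (resRing_comp hVU hWV))

theorem Bres_Bres {U V W : X.Opens} (hU : IsAffineOpen U) (hV : IsAffineOpen V)
    (hW : IsAffineOpen W) (hVU : V ≤ U) (hWV : W ≤ V) (b : B 𝓘 U hU) :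
    Bres 𝓘 hV hW hWV (Bres 𝓘 hU hV hVU b) = Bres 𝓘 hU hW (hWV.trans hVU) b :=
  congrArg (fun k => k b) (Bres_comp 𝓘 hU hV hW hVU hWV)

theorem Bres_algebraMap {U V : X.Opens} (hU : IsAffineOpen U) (hV : IsAffineOpen V) (h : V ≤ U)
    (a : Γ(X, U)) :
    Bres 𝓘 hU hV h (algebraMap Γ(X, U) (B 𝓘 U hU) a) =
      algebraMap Γ(X, V) (B 𝓘 V hV) (resRing h a) :=
  reesMap_algebraMap _ _ _ _ a

theorem Bres_mem {U V : X.Opens} (hU : IsAffineOpen U) (hV : IsAffineOpen V) (h : V ≤ U)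
    {d : ℕ} {b : B 𝓘 U hU} (hb : b ∈ Rees.deg (reesAlgebra (IU 𝓘 U hU)) d) :
    Bres 𝓘 hU hV h b ∈ Rees.deg (reesAlgebra (IU 𝓘 V hV)) d :=
  reesMap_mem_deg _ _ _ _ hb

/-- `B` as a functor on the small affine Zariski site. -/
noncomputable def F : X.AffineZariskiSiteᵒᵖ ⥤ CommRingCat.{u} where
  obj U := CommRingCat.of (B 𝓘 U.unop.1 U.unop.2)
  map {U V} i := CommRingCat.ofHom (Bres 𝓘 U.unop.2 V.unop.2
    (Scheme.AffineZariskiSite.toOpens_mono (leOfHom i.unop)))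
  map_id U := by
    rw [← CommRingCat.ofHom_id]
    congr 1
    exact Bres_id 𝓘 _ _
  map_comp {U V W} i j := by
    rw [← CommRingCat.ofHom_comp]
    congr 1
    exact (Bres_comp 𝓘 _ _ _ _ _).symm

/-- The structure map. -/
noncomputable def strHom (U : X.Opens) (hU : IsAffineOpen U) : Γ(X, U) →+* B 𝓘 U hU :=
  algebraMap Γ(X, U) (B 𝓘 U hU)

/-- The structure map as a natural transformation. -/
noncomputable def α : (Scheme.AffineZariskiSite.toOpensFunctor X).op ⋙ X.presheaf ⟶ F 𝓘 where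
  app U := CommRingCat.ofHom (strHom 𝓘 U.unop.1 U.unop.2)
  naturality {U V} i := by
    ext r
    have hVU : V.unop.1 ≤ U.unop.1 := Scheme.AffineZariskiSite.toOpens_mono (leOfHom i.unop)
    exact (Bres_algebraMap 𝓘 U.unop.2 V.unop.2 hVU r).symm

theorem coequifibered : (α 𝓘).Coequifibered := by
  refine Scheme.AffineZariskiSite.coequifibered_iff_forall_isLocalizationAway.mpr fun U r => ?_
  have hV : IsAffineOpen (X.basicOpen r) := U.2.basicOpen r
  have hVU : X.basicOpen r ≤ U.1 := X.basicOpen_le r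
  have hR : letI := (resRing hVU).toAlgebra; IsLocalization.Away r Γ(X, X.basicOpen r) :=
    U.2.isLocalization_of_eq_basicOpen r (homOfLE hVU) rfl
  exact isLocalization_reesMap (resRing hVU) _ _ (map_IU 𝓘 U.2 hV hVU) r hR

section Alg

/-- The quasi-coherent algebra glued from the Rees algebras. -/
noncomputable def alg : RelSpec.QCAlg X := AffAlgGlue.alg (coequifibered 𝓘)

/-- The sections of `alg` over an affine open are the Rees algebra. -/
noncomputable def gIso (U : X.Opens) (hU : IsAffineOpen U) :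
    (alg 𝓘).presheaf.obj (op U) ≃+* B 𝓘 U hU :=
  (AffAlgGlue.gammaIso (coequifibered 𝓘) ⟨U, hU⟩).commRingCatIsoToRingEquiv

theorem gIso_str (U : X.Opens) (hU : IsAffineOpen U) (r : Γ(X, U)) :
    gIso 𝓘 U hU (((alg 𝓘).str.app (op U)).hom r) = algebraMap Γ(X, U) (B 𝓘 U hU) r :=
  congrArg (fun g => g.hom r) (AffAlgGlue.str_gammaIso (coequifibered 𝓘) ⟨U, hU⟩)

theorem gIso_res_basic (U : X.Opens) (hU : IsAffineOpen U) (r : Γ(X, U))
    (x : (alg 𝓘).presheaf.obj (op U)) :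
    gIso 𝓘 (X.basicOpen r) (hU.basicOpen r)
      (((alg 𝓘).presheaf.map (homOfLE (X.basicOpen_le r)).op).hom x) =
      Bres 𝓘 hU (hU.basicOpen r) (X.basicOpen_le r) (gIso 𝓘 U hU x) := by
  have h := AffAlgGlue.gammaIso_naturality (coequifibered 𝓘)
    (U := ⟨U, hU⟩) (V := ⟨X.basicOpen r, hU.basicOpen r⟩)
    (homOfLE (Scheme.AffineZariskiSite.basicOpen_le ⟨U, hU⟩ r))
  exact congrArg (fun g => g.hom x) h

theorem gIso_res_basic' (U : X.Opens) (hU : IsAffineOpen U) (r : Γ(X, U)) (W : X.Opens)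
    (hW : IsAffineOpen W) (hWr : W = X.basicOpen r) (hle : W ≤ U)
    (x : (alg 𝓘).presheaf.obj (op U)) :
    gIso 𝓘 W hW (((alg 𝓘).presheaf.map (homOfLE hle).op).hom x) =
      Bres 𝓘 hU hW hle (gIso 𝓘 U hU x) := by
  subst hWr
  exact gIso_res_basic 𝓘 U hU r x

/-- Compatibility of `gIso` with all restrictions between affine opens. -/
theorem gIso_res {U V : X.Opens} (hU : IsAffineOpen U) (hV : IsAffineOpen V) (i : V ≤ U)
    (x : (alg 𝓘).presheaf.obj (op U)) :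
    gIso 𝓘 V hV (((alg 𝓘).presheaf.map (homOfLE i).op).hom x) =
      Bres 𝓘 hU hV i (gIso 𝓘 U hU x) := by
  rw [← RingEquiv.eq_symm_apply]
  have hcov : ∀ p : V, ∃ (W : X.Opens) (_ : IsAffineOpen W) (f : Γ(X, U)) (g : Γ(X, V)),
      W = X.basicOpen f ∧ W = X.basicOpen g ∧ p.1 ∈ W := by
    intro p
    obtain ⟨f, g, hfg, hp⟩ := exists_basicOpen_le_affine_inter hU hV p.1 ⟨i p.2, p.2⟩
    exact ⟨X.basicOpen f, hU.basicOpen f, f, g, rfl, hfg, hp⟩
  choose W hW f g hWf hWg hpW using hcov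
  have hWV : ∀ p, W p ≤ V := fun p => (hWg p).le.trans (X.basicOpen_le _)
  have hWU : ∀ p, W p ≤ U := fun p => (hWV p).trans i
  refine TopCat.Sheaf.eq_of_locally_eq' ⟨(alg 𝓘).presheaf, (alg 𝓘).isSheaf⟩ W V
    (fun p => homOfLE (hWV p))
    (fun q hq => Opens.mem_iSup.mpr ⟨⟨q, hq⟩, hpW ⟨q, hq⟩⟩) _ _ fun p => ?_
  change ((alg 𝓘).presheaf.map (homOfLE (hWV p)).op).hom
      (((alg 𝓘).presheaf.map (homOfLE i).op).hom x) =
    ((alg 𝓘).presheaf.map (homOfLE (hWV p)).op).hom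
      ((gIso 𝓘 V hV).symm (Bres 𝓘 hU hV i (gIso 𝓘 U hU x)))
  apply (gIso 𝓘 (W p) (hW p)).injective
  have h1 := gIso_res_basic' 𝓘 V hV (g p) (W p) (hW p) (hWg p) (hWV p)
    ((gIso 𝓘 V hV).symm (Bres 𝓘 hU hV i (gIso 𝓘 U hU x)))
  rw [RingEquiv.apply_symm_apply, Bres_Bres] at h1
  rw [h1, ← CommRingCat.comp_apply, ← (alg 𝓘).presheaf.map_comp]
  exact gIso_res_basic' 𝓘 U hU (f p) (W p) (hW p) (hWf p) (hWU p) x

/-- The degree-`d` part of `alg(U)`. -/
noncomputable def deg (U : X.Opens) (hU : IsAffineOpen U) (d : ℕ) :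
    AddSubgroup ((alg 𝓘).presheaf.obj (op U)) :=
  mapDeg (gIso 𝓘 U hU).symm (Rees.deg (reesAlgebra (IU 𝓘 U hU))) d

theorem mem_deg_iff (U : X.Opens) (hU : IsAffineOpen U) (d : ℕ)
    (x : (alg 𝓘).presheaf.obj (op U)) :
    x ∈ deg 𝓘 U hU d ↔ gIso 𝓘 U hU x ∈ Rees.deg (reesAlgebra (IU 𝓘 U hU)) d := by
  constructor
  · rintro ⟨b, hb, rfl⟩
    change gIso 𝓘 U hU ((gIso 𝓘 U hU).symm b) ∈ _
    rw [RingEquiv.apply_symm_apply]
    exact hb
  · intro h
    exact ⟨_, h, RingEquiv.symm_apply_apply _ _⟩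

noncomputable instance degGraded (U : X.Opens) (hU : IsAffineOpen U) :
    GradedRing (deg 𝓘 U hU) :=
  gradedRing (gIso 𝓘 U hU).symm (Rees.deg (reesAlgebra (IU 𝓘 U hU)))

/-- **The Rees algebra `⊕ 𝓘ⁿ` as a quasi-coherent graded algebra.** -/
@[reducible] noncomputable def grAlg : RelProj.QCGrAlg X where
  toQCAlg := alg 𝓘
  deg := deg 𝓘
  graded := degGraded 𝓘
  map_mem := fun {U V} hU hV i {d x} hx => by
    rw [mem_deg_iff] at hx ⊢
    rw [gIso_res 𝓘 hU hV i x]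
    exact Bres_mem 𝓘 hU hV i hx
  str_mem := by
    intro U hU r
    rw [mem_deg_iff, gIso_str 𝓘 U hU r]
    exact algebraMap_mem_deg_zero _ r

theorem isGenDegOne : (grAlg 𝓘).IsGenDegOne := by
  intro U hU
  have h := closure_deg_zero_one (IU 𝓘 U hU)
  have h2 := congrArg (Subring.map (gIso 𝓘 U hU).symm.toRingHom) h
  rw [RingHom.map_closure, Set.image_union] at h2
  have h3 : Subring.map (gIso 𝓘 U hU).symm.toRingHom ⊤ = ⊤ := by
    rw [← RingHom.range_eq_map, RingHom.range_eq_top]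
    exact (gIso 𝓘 U hU).symm.surjective
  rw [h3] at h2
  exact h2

theorem isFTDeg_one (h𝓘 : BlowUp.IsFiniteTypeIdeal 𝓘) : (grAlg 𝓘).IsFTDeg 1 := by
  classical
  intro U hU
  obtain ⟨T, hT, hspan⟩ := exists_finset_deg_one (IU 𝓘 U hU) (h𝓘 ⟨U, hU⟩)
  refine ⟨T.image (gIso 𝓘 U hU).symm, ?_, ?_⟩
  · intro t ht
    obtain ⟨b, hb, rfl⟩ := Finset.mem_image.mp (Finset.mem_coe.mp ht)
    exact ⟨b, hT (Finset.mem_coe.mpr hb), rfl⟩
  · rintro x ⟨b, hb, rfl⟩
    obtain ⟨c, hc⟩ := hspan b hb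
    refine ⟨fun t => c (gIso 𝓘 U hU t), ?_⟩
    rw [Finset.sum_image (fun _ _ _ _ h => (gIso 𝓘 U hU).symm.injective h)]
    change (gIso 𝓘 U hU).symm b = _
    conv_lhs => rw [hc]
    rw [map_sum]
    refine Finset.sum_congr rfl fun t _ => ?_
    rw [map_mul]
    change _ = ((grAlg 𝓘).str.app (op U)).hom (c (gIso 𝓘 U hU ((gIso 𝓘 U hU).symm t))) * _
    rw [RingEquiv.apply_symm_apply]
    congr 1
    rw [RingEquiv.symm_apply_eq]
    exact (gIso_str 𝓘 U hU (c t)).symm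

end Alg

end Groth.Agent.Lib.helper28.ReesAlg
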