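import Groth.Agent.Lib.Helper28.ReesTau

/-!
# The exceptional divisor sequence on the blow-up of a quasi-regular ideal, II (helper28)

`fs : Fin (n+1) → A` quasi-regular generating `I`, `𝒜 = Rees.deg (reesAlgebra I)`,
`ψ = ReesQuot.psi : 𝒜 → (A/I)[T]`, `g = Proj.map ψ : P^n_{A/I} ⟶ Bl_I`, `τ = ReesTau.tau`.
* `hyp fs hq : TwistSES.Hyp ψ _ (tau fs)`, hence (`TwistSES.shortExact_ses`) short exact sequences
  `0 → O(k+1) → O(k) → g_* O_{P^n_{A/I}}(k) → 0` on `Proj 𝒜`;
* `isClosedImmersion_map`: `g` is a closed immersion.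
-/

set_option autoImplicit false
set_option linter.unusedSectionVars false
universe u
open CategoryTheory CategoryTheory.Limits AlgebraicGeometry Opposite TopologicalSpace Polynomial
open scoped HomogeneousIdeal

namespace Groth.Agent.Lib.helper28.ReesHyp

open Groth.Agent.Lib.helper16.ReesBlowup Groth.Agent.Lib.helper28.ReesQuot
  Groth.Agent.Lib.helper28.TwistSES Groth.Agent.Lib.helper28.GTwistQCoh
  Groth.Agent.Lib.helper28.GTwistSec Groth.Agent.Lib.helper28.ReesTau

section generic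
variable {R : Type u} [CommRing R] {S : Submonoid R}

theorem mk_eq_mk_mul_mk (a a' c : R) (s : S) (h : a * s = a' * c) :
    (Localization.mk a 1 : Localization S) = Localization.mk a' 1 * Localization.mk c s := by
  rw [Localization.mk_mul, Localization.mk_eq_mk_iff, Localization.r_iff_exists]
  refine ⟨1, ?_⟩
  simp only [OneMemClass.coe_one, one_mul]
  rw [mul_comm, h]

theorem eq_zero_of_mul_mk_eq_zero (q : Localization S) (b : R) (t : S)
    (hb : ∀ c : R, ∀ u : S, (u : R) * (c * b) = 0 → ∃ v : S, (v : R) * c = 0)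
    (h : q * Localization.mk b t = 0) : q = 0 := by
  induction q using Localization.induction_on with
  | H y =>
    obtain ⟨c, s⟩ := y
    rw [Localization.mk_mul, mk_eq_zero_iff'] at h
    obtain ⟨u, hu⟩ := h
    rw [mk_eq_zero_iff']
    exact hb c u hu

end generic

variable {A : Type u} [CommRing A] {n : ℕ} (fs : Fin (n + 1) → A)

theorem ker_identity (i : ℕ) (a : reesAlgebra (II fs)) (ha : a ∈ AA fs i)
    (hc : (a : A[X]).coeff i ∈ II fs ^ (i + 1)) (j : Fin (n + 1)) :
    a * FF fs j = mon (II fs) (i + 1) ((a : A[X]).coeff i) hc *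
      algebraMap A (reesAlgebra (II fs)) (fs j) := by
  obtain ⟨c, hc', rfl⟩ := exists_mon_of_mem (II fs) ha
  apply Subtype.ext
  show monomial i c * monomial 1 (fs j) = monomial (i + 1) ((monomial i c).coeff i) * C (fs j)
  rw [Polynomial.coeff_monomial, if_pos rfl, Polynomial.monomial_mul_C,
    Polynomial.monomial_mul_monomial]

theorem inj_identity (u c : reesAlgebra (II fs)) (j : Fin (n + 1))
    (h : u * (c * algebraMap A (reesAlgebra (II fs)) (fs j)) = 0) :
    (u * FF fs j) * c = 0 := by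
  apply Subtype.ext
  have h1 := congrArg (fun p : reesAlgebra (II fs) => (p : A[X]) * Polynomial.X) h
  simp only [Subalgebra.coe_mul, Subalgebra.coe_algebraMap, Polynomial.algebraMap_eq,
    ZeroMemClass.coe_zero, zero_mul] at h1
  rw [Subalgebra.coe_mul, Subalgebra.coe_mul, ZeroMemClass.coe_zero]
  show (u : A[X]) * monomial 1 (fs j) * (c : A[X]) = 0
  rw [← Polynomial.C_mul_X_eq_monomial, ← h1]
  ring

variable (hq : CAlgX.IsQuasiRegular fs)

theorem hyp_ker (i : ℕ) (a : reesAlgebra (II fs)) (ha : a ∈ AA fs i) (h0 : psi fs hq a = 0) :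
    ∃ a' ∈ AA fs (i + 1), ∀ x : ProjectiveSpectrum (AA fs),
      (Localization.mk a 1 : GrTwist.Loc (AA fs) x) =
        Localization.mk a' 1 * (((tau fs).1 ⟨x, trivial⟩ : GrTwist.twistAt (AA fs) (-1) x) :
          GrTwist.Loc (AA fs) x) := by
  have hc := psi_ker fs hq i a h0
  refine ⟨mon (II fs) (i + 1) ((a : A[X]).coeff i) hc, mon_mem _ _ _ _, fun x => ?_⟩
  obtain ⟨j, hj⟩ := exists_FF_notMem fs x
  refine Eq.trans ?_ (congrArg (fun t => (Localization.mk
    (mon (II fs) (i + 1) ((a : A[X]).coeff i) hc) 1 : GrTwist.Loc (AA fs) x) * t)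
    ((tau_val fs x).trans (tauAt_eq fs x j hj)).symm)
  exact mk_eq_mk_mul_mk _ _ _ ⟨FF fs j, hj⟩ (ker_identity fs i a ha hc j)

theorem hyp_zero (y : ProjectiveSpectrum (CohB1.polyGrading n (A ⧸ II fs))) :
    GrTwist.locMap (psi fs hq) (ReesQuot.irrelevant_le fs hq) y
      (((tau fs).1 ⟨ProjectiveSpectrum.comap (psi fs hq) (ReesQuot.irrelevant_le fs hq) y, trivial⟩ :
        GrTwist.twistAt (AA fs) (-1)
          (ProjectiveSpectrum.comap (psi fs hq) (ReesQuot.irrelevant_le fs hq) y)) :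
        GrTwist.Loc (AA fs)
          (ProjectiveSpectrum.comap (psi fs hq) (ReesQuot.irrelevant_le fs hq) y)) = 0 := by
  obtain ⟨j, hj⟩ := exists_FF_notMem fs
    (ProjectiveSpectrum.comap (psi fs hq) (ReesQuot.irrelevant_le fs hq) y)
  refine (congrArg (GrTwist.locMap (psi fs hq) (ReesQuot.irrelevant_le fs hq) y)
    ((tau_val fs _).trans (tauAt_eq fs _ j hj))).trans ?_
  rw [GrTwist.locMap_mk, psi_algebraMap_of_mem fs hq (fs_mem fs j), Localization.mk_zero]

theorem hyp_inj (x : ProjectiveSpectrum (AA fs)) (q : GrTwist.Loc (AA fs) x)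
    (hqz : q * (((tau fs).1 ⟨x, trivial⟩ : GrTwist.twistAt (AA fs) (-1) x) :
      GrTwist.Loc (AA fs) x) = 0) : q = 0 := by
  obtain ⟨j, hj⟩ := exists_FF_notMem fs x
  have h2 : q * (Localization.mk (algebraMap A (reesAlgebra (II fs)) (fs j)) ⟨FF fs j, hj⟩ :
      GrTwist.Loc (AA fs) x) = 0 :=
    (congrArg (fun t => q * t) ((tau_val fs x).trans (tauAt_eq fs x j hj)).symm).trans hqz
  refine eq_zero_of_mul_mk_eq_zero q _ _ (fun c u hu => ?_) h2
  exact ⟨⟨u.1 * FF fs j, fun h => (x.isPrime.mem_or_mem h).elim u.2 hj⟩, inj_identity fs u.1 c j hu⟩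

theorem hyp : Hyp (psi fs hq) (ReesQuot.irrelevant_le fs hq) (tau fs) where
  surj := fun i b hb => psi_surj fs hq i b hb
  ker := hyp_ker fs hq
  zero := hyp_zero fs hq
  inj := hyp_inj fs

theorem isClosedImmersion_map :
    IsClosedImmersion (Proj.map (psi fs hq) (ReesQuot.irrelevant_le fs hq)) := by
  refine Groth.Agent.Lib.Lead.ProjMapG.map_of_forall_away @IsClosedImmersion _ _
    fun i hi s hs => ?_
  refine IsClosedImmersion.spec_of_surjective _ ?_
  exact Groth.Agent.Lib.Lead.ProjChart.away_map_surjective_of_tnSurj (psi fs hq)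
    ⟨0, fun k _ b hb => psi_surj fs hq k b hb⟩ hi s hs

end Groth.Agent.Lib.helper28.ReesHyp
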