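import Mathlib
import Groth.Prelude.Def_Rees

set_option autoImplicit false
set_option linter.style.haveILetI false

universe u

/-! The Rees algebra of an ideal is functorial in the pair (ring, ideal) and commutes with
localization away from an element (helper28). -/

namespace Groth.Agent.Lib.helper28.ReesLoc

open Polynomial

variable {A B C : Type u} [CommRing A] [CommRing B] [CommRing C]

theorem map_mem_rees (ρ : A →+* B) {I : Ideal A} {J : Ideal B} (h : I.map ρ ≤ J) {p : A[X]}
    (hp : p ∈ reesAlgebra I) : p.map ρ ∈ reesAlgebra J := by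
  intro i
  rw [coeff_map]
  have h1 : ρ (p.coeff i) ∈ (I ^ i).map ρ := Ideal.mem_map_of_mem _ (hp i)
  rw [Ideal.map_pow] at h1
  exact Ideal.pow_right_mono h i h1

/-- The map of Rees algebras induced by a ring map carrying `I` into `J`. -/
noncomputable def reesMap (ρ : A →+* B) (I : Ideal A) (J : Ideal B) (h : I.map ρ ≤ J) :
    reesAlgebra I →+* reesAlgebra J :=
  RingHom.codRestrict ((Polynomial.mapRingHom ρ).comp (reesAlgebra I).val.toRingHom)
    (reesAlgebra J) (fun x => map_mem_rees ρ h x.2)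

theorem coe_reesMap (ρ : A →+* B) (I : Ideal A) (J : Ideal B) (h : I.map ρ ≤ J)
    (x : reesAlgebra I) : ((reesMap ρ I J h x : reesAlgebra J) : B[X]) = (x : A[X]).map ρ := rfl

theorem reesMap_algebraMap (ρ : A →+* B) (I : Ideal A) (J : Ideal B) (h : I.map ρ ≤ J) (a : A) :
    reesMap ρ I J h (algebraMap A (reesAlgebra I) a) = algebraMap B (reesAlgebra J) (ρ a) := by
  apply Subtype.ext
  rw [coe_reesMap]
  change (C a).map ρ = C (ρ a)
  rw [Polynomial.map_C]

theorem reesMap_id (I : Ideal A) (h : I.map (RingHom.id A) ≤ I) :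
    reesMap (RingHom.id A) I I h = RingHom.id _ := by
  ext x : 1
  apply Subtype.ext
  rw [coe_reesMap, Polynomial.map_id]
  rfl

theorem reesMap_comp (ρ : A →+* B) (σ : B →+* C) (I : Ideal A) (J : Ideal B) (K : Ideal C)
    (h : I.map ρ ≤ J) (h' : J.map σ ≤ K) (h'' : I.map (σ.comp ρ) ≤ K) :
    (reesMap σ J K h').comp (reesMap ρ I J h) = reesMap (σ.comp ρ) I K h'' := by
  ext x : 1
  apply Subtype.ext
  change ((x : A[X]).map ρ).map σ = (x : A[X]).map (σ.comp ρ)
  rw [Polynomial.map_map]

theorem reesMap_congr {ρ ρ' : A →+* B} (I : Ideal A) (J : Ideal B) (h : I.map ρ ≤ J)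
    (h' : I.map ρ' ≤ J) (e : ρ = ρ') : reesMap ρ I J h = reesMap ρ' I J h' := by
  subst e; rfl

theorem reesMap_mem_deg (ρ : A →+* B) (I : Ideal A) (J : Ideal B) (h : I.map ρ ≤ J) {n : ℕ}
    {x : reesAlgebra I} (hx : x ∈ Rees.deg (reesAlgebra I) n) :
    reesMap ρ I J h x ∈ Rees.deg (reesAlgebra J) n := by
  intro m hm
  rw [coe_reesMap, coeff_map, hx m hm, map_zero]

theorem algebraMap_mem_deg_zero (I : Ideal A) (a : A) :
    algebraMap A (reesAlgebra I) a ∈ Rees.deg (reesAlgebra I) 0 := by
  intro m hm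
  change (C a).coeff m = 0
  rw [coeff_C]
  exact if_neg hm

section loc

variable (ρ : A →+* B) (I : Ideal A) (J : Ideal B) (hJ : I.map ρ = J) (f : A)
  (hloc : letI := ρ.toAlgebra; IsLocalization.Away f B)

include hloc in
theorem exists_pow_mul_eq_of_mem_map {K : Ideal A} {b : B} (hb : b ∈ K.map ρ) :
    ∃ (n : ℕ) (a : A), a ∈ K ∧ b * ρ f ^ n = ρ a := by
  letI := ρ.toAlgebra
  have := hloc
  have h1 := (IsLocalization.mem_map_algebraMap_iff (Submonoid.powers f) B).mp hb
  obtain ⟨⟨⟨a, ha⟩, ⟨_, n, rfl⟩⟩, h2⟩ := h1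
  refine ⟨n, a, ha, ?_⟩
  rw [← map_pow]
  exact h2

include hloc in
theorem exists_pow_mul_eq_of_map_eq {a a' : A} (h : ρ a = ρ a') :
    ∃ n : ℕ, f ^ n * a = f ^ n * a' := by
  letI := ρ.toAlgebra
  have := hloc
  exact IsLocalization.Away.exists_of_eq f h

include hJ hloc in
/-- The Rees algebra commutes with localization away from an element. -/
theorem isLocalization_reesMap :
    letI := (reesMap ρ I J hJ.le).toAlgebra
    IsLocalization.Away (algebraMap A (reesAlgebra I) f) (reesAlgebra J) := by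
  letI := (reesMap ρ I J hJ.le).toAlgebra
  have hunitB : IsUnit (ρ f) := by
    letI := ρ.toAlgebra
    have := hloc
    exact IsLocalization.Away.algebraMap_isUnit f
  have hr : algebraMap (reesAlgebra I) (reesAlgebra J) (algebraMap A (reesAlgebra I) f) =
      algebraMap B (reesAlgebra J) (ρ f) := reesMap_algebraMap ρ I J hJ.le f
  refine IsLocalization.Away.mk _ ?_ ?_ ?_
  · rw [hr]
    exact hunitB.map _
  · rintro ⟨s, hs⟩
    have hs' : ∀ i, s.coeff i ∈ (I ^ i).map ρ := fun i => by
      rw [Ideal.map_pow, hJ]; exact hs i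
    choose n a ha hna using fun i => exists_pow_mul_eq_of_mem_map ρ f hloc (hs' i)
    let N := s.support.sup n
    let p : A[X] := ∑ i ∈ s.support, monomial i (a i * f ^ (N - n i))
    have hp : p ∈ reesAlgebra I := by
      refine Subalgebra.sum_mem _ fun i _ => ?_
      rw [reesAlgebra.monomial_mem]
      exact Ideal.mul_mem_right _ _ (ha i)
    refine ⟨N, ⟨p, hp⟩, ?_⟩
    apply Subtype.ext
    rw [hr]
    change s * (C (ρ f)) ^ N = p.map ρ
    rw [Polynomial.map_sum]
    conv_lhs => rw [← s.sum_monomial_eq, Polynomial.sum_def, Finset.sum_mul]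
    refine Finset.sum_congr rfl fun i hi => ?_
    rw [Polynomial.map_monomial, map_mul, map_pow, ← hna i, mul_assoc, ← pow_add,
      Nat.add_sub_cancel' (Finset.le_sup hi), ← C_pow, monomial_mul_C]
  · rintro ⟨p, hp⟩ ⟨q, hq⟩ h
    have h1 : p.map ρ = q.map ρ := congrArg Subtype.val h
    have h2 : ∀ i, ρ (p.coeff i) = ρ (q.coeff i) := fun i => by
      rw [← coeff_map, ← coeff_map, h1]
    choose n hn using fun i => exists_pow_mul_eq_of_map_eq ρ f hloc (h2 i)
    let N := (p.support ∪ q.support).sup n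
    refine ⟨N, ?_⟩
    apply Subtype.ext
    change (C f) ^ N * p = (C f) ^ N * q
    rw [← C_pow]
    refine Polynomial.ext fun i => ?_
    rw [coeff_C_mul, coeff_C_mul]
    by_cases hi : i ∈ p.support ∪ q.support
    · have hle : n i ≤ N := Finset.le_sup hi
      obtain ⟨k, hk⟩ := Nat.exists_eq_add_of_le hle
      rw [hk, pow_add, mul_comm (f ^ n i), mul_assoc, mul_assoc, hn i]
    · rw [Finset.mem_union, not_or, Polynomial.mem_support_iff, Polynomial.mem_support_iff,
        not_not, not_not] at hi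
      rw [hi.1, hi.2]

end loc

section gen

variable (I : Ideal A)

/-- The element `a Xⁿ` of the Rees algebra, for `a ∈ Iⁿ`. -/
noncomputable def mon (n : ℕ) (a : A) (ha : a ∈ I ^ n) : reesAlgebra I :=
  ⟨monomial n a, reesAlgebra.monomial_mem.mpr ha⟩

theorem mon_mem_deg (n : ℕ) (a : A) (ha : a ∈ I ^ n) :
    mon I n a ha ∈ Rees.deg (reesAlgebra I) n := by
  intro m hm
  change (monomial n a).coeff m = 0
  rw [coeff_monomial]
  exact if_neg fun h => hm h.symm

theorem eq_mon_of_mem_deg {n : ℕ} {x : reesAlgebra I} (hx : x ∈ Rees.deg (reesAlgebra I) n) :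
    x = mon I n ((x : A[X]).coeff n) (x.2 n) := by
  apply Subtype.ext
  refine Polynomial.ext fun m => ?_
  change (x : A[X]).coeff m = (monomial n ((x : A[X]).coeff n)).coeff m
  rw [coeff_monomial]
  split_ifs with h
  · rw [h]
  · exact hx m (Ne.symm h)

/-- The subring of `A[X]` generated by the parts of degree `0` and `1` of the Rees algebra. -/
noncomputable def genSub : Subring A[X] :=
  (Subring.closure ((Rees.deg (reesAlgebra I) 0 : Set (reesAlgebra I)) ∪
      (Rees.deg (reesAlgebra I) 1 : Set (reesAlgebra I)))).map (reesAlgebra I).val.toRingHom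

theorem monomial_mem_genSub (n : ℕ) : ∀ a ∈ I ^ n, monomial n a ∈ genSub I := by
  induction n with
  | zero =>
    intro a ha
    exact ⟨mon I 0 a ha, Subring.subset_closure (Or.inl (mon_mem_deg I 0 a ha)), rfl⟩
  | succ n ih =>
    intro a ha
    have ha' : a ∈ I * I ^ n := by rwa [← pow_succ']
    refine Submodule.mul_induction_on ha' ?_ ?_
    · intro i hi c hc
      have e : monomial (n + 1) (i * c) = monomial 1 i * monomial n c := by
        rw [monomial_mul_monomial, add_comm]
      rw [e]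
      refine Subring.mul_mem _ ?_ (ih c hc)
      have hi' : i ∈ I ^ 1 := by rwa [pow_one]
      exact ⟨mon I 1 i hi', Subring.subset_closure (Or.inr (mon_mem_deg I 1 i hi')), rfl⟩
    · intro x y hx hy
      rw [map_add]
      exact Subring.add_mem _ hx hy

/-- The Rees algebra is generated by its parts of degree `0` and `1`. -/
theorem closure_deg_zero_one :
    Subring.closure ((Rees.deg (reesAlgebra I) 0 : Set (reesAlgebra I)) ∪
      (Rees.deg (reesAlgebra I) 1 : Set (reesAlgebra I))) = ⊤ := by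
  rw [eq_top_iff]
  rintro ⟨p, hp⟩ -
  have h1 : p ∈ genSub I := by
    rw [← p.sum_monomial_eq, Polynomial.sum_def]
    exact Subring.sum_mem _ fun i _ => monomial_mem_genSub I i _ (hp i)
  obtain ⟨y, hy, hyp⟩ := h1
  have : y = ⟨p, hp⟩ := Subtype.ext hyp
  rw [← this]
  exact hy

/-- If `I` is finitely generated, the degree-one part of the Rees algebra is spanned over `A` by
finitely many elements of degree one. -/
theorem exists_finset_deg_one (hI : I.FG) :
    ∃ T : Finset (reesAlgebra I), (↑T : Set (reesAlgebra I)) ⊆ Rees.deg (reesAlgebra I) 1 ∧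
      ∀ x ∈ Rees.deg (reesAlgebra I) 1, ∃ c : reesAlgebra I → A,
        x = ∑ t ∈ T, algebraMap A (reesAlgebra I) (c t) * t := by
  classical
  obtain ⟨G, hG⟩ := hI
  have hGI : ∀ g ∈ G, g ∈ I ^ 1 := fun g hg => by
    rw [pow_one, ← hG]; exact Submodule.subset_span hg
  let T : Finset (reesAlgebra I) := G.attach.image fun g => mon I 1 g.1 (hGI g.1 g.2)
  have hT : (↑T : Set (reesAlgebra I)) ⊆ Rees.deg (reesAlgebra I) 1 := by
    intro t ht
    obtain ⟨g, -, rfl⟩ := Finset.mem_image.mp (Finset.mem_coe.mp ht)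
    exact mon_mem_deg I 1 _ _
  refine ⟨T, hT, fun x hx => ?_⟩
  have hval : Submodule.map (reesAlgebra I).val.toLinearMap (Submodule.span A (↑T : Set (reesAlgebra I))) =
      Submodule.map (monomial 1 : A →ₗ[A] A[X]) I := by
    have hI' : Submodule.map (monomial 1 : A →ₗ[A] A[X]) I =
        Submodule.span A ((monomial 1 : A →ₗ[A] A[X]) '' (↑G : Set A)) := by
      rw [← Submodule.map_span]
      exact congrArg _ hG.symm
    rw [Submodule.map_span, hI']
    congr 1
    ext q
    constructor
    · rintro ⟨t, ht, rfl⟩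
      obtain ⟨g, -, rfl⟩ := Finset.mem_image.mp (Finset.mem_coe.mp ht)
      exact ⟨g.1, g.2, rfl⟩
    · rintro ⟨g, hg, rfl⟩
      exact ⟨mon I 1 g (hGI g hg), Finset.mem_coe.mpr (Finset.mem_image.mpr
        ⟨⟨g, hg⟩, Finset.mem_attach _ _, rfl⟩), rfl⟩
  have hx1 : (x : A[X]) ∈ Submodule.map (monomial 1 : A →ₗ[A] A[X]) I := by
    have := eq_mon_of_mem_deg I hx
    have h2 : (x : A[X]) = monomial 1 ((x : A[X]).coeff 1) := congrArg Subtype.val this
    rw [h2]
    exact ⟨_, by simpa using x.2 1, rfl⟩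
  rw [← hval] at hx1
  obtain ⟨y, hy, hyx⟩ := hx1
  have hyx' : y = x := Subtype.ext hyx
  rw [hyx'] at hy
  obtain ⟨c, -, hc⟩ := Submodule.mem_span_finset.mp hy
  refine ⟨c, ?_⟩
  rw [← hc]
  refine Finset.sum_congr rfl fun t _ => ?_
  rw [Algebra.smul_def]

end gen

end Groth.Agent.Lib.helper28.ReesLoc
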