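import Groth.Agent.Lib.Helper28.ReesAlg
import Groth.Agent.Lib.Helper28.RelProjExists
import Groth.Agent.Lib.Helper16.ReesBlowup2
import Groth.Agent.Lib.Helper16.BlowUpProper
import Groth.Agent.Lib.Lead.ProjMapG
import Groth.Agent.S17083

/-!
# `Proj` of the Rees algebra `⊕ 𝓘ⁿ` is the blow-up, chartwise (helper28)

For the quasi-coherent graded algebra `grAlg 𝓘` of `ReesAlg` and an affine open `U` of `X`, the
structure morphism `piU : Proj (grAlg 𝓘)(U) ⟶ U` is a blowing up of `U` in `𝓘|_U`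
(`isBlowUp_piU`).  Consequently every blowing up of `X` in a finite type ideal is a projective
morphism (`isProjective_of_isBlowUp`).
-/

set_option autoImplicit false
set_option linter.style.haveILetI false
set_option linter.unusedTactic false
universe u

open CategoryTheory CategoryTheory.Limits AlgebraicGeometry Opposite TopologicalSpace
open scoped HomogeneousIdeal

namespace Groth.Agent.Lib.helper28.ReesProj

open Groth.Agent.Lib.helper28.ReesLoc Groth.Agent.Lib.helper28 Groth.Agent.Lib.helper28.ReesAlg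
  Groth.Agent.Lib.helper28.GradedTransport Groth.Agent.Lib.helper28.RelProjExists
  Groth.Agent.Lib.helper16.ReesBlowup Groth.Agent.Lib.helper16.BlowUpProper

section General

variable {A B C σ τ ψ : Type u} [CommRing A] [SetLike σ A] [AddSubgroupClass σ A]
  [CommRing B] [SetLike τ B] [AddSubgroupClass τ B]
  [CommRing C] [SetLike ψ C] [AddSubgroupClass ψ C]
  {𝒜 : ℕ → σ} {ℬ : ℕ → τ} {𝒞 : ℕ → ψ} [GradedRing 𝒜] [GradedRing ℬ] [GradedRing 𝒞]

theorem projMap_comp_eq {f : 𝒜 →+*ᵍ ℬ} {g : ℬ →+*ᵍ 𝒞} {h : 𝒜 →+*ᵍ 𝒞}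
    (hf : ℬ₊ ≤ 𝒜₊.map f) (hg : 𝒞₊ ≤ ℬ₊.map g) (hh : 𝒞₊ ≤ 𝒜₊.map h) (e : g.comp f = h) :
    Proj.map g hg ≫ Proj.map f hf = Proj.map h hh := by
  subst e
  exact (Proj.map_comp f g hf hg).symm

theorem irrelevant_le_map_of_surj (φ : 𝒜 →+*ᵍ ℬ) (hφ : Function.Surjective φ) :
    ℬ₊ ≤ 𝒜₊.map φ := by
  rw [HomogeneousIdeal.irrelevant_le]
  intro d hd x hx
  obtain ⟨a, ha, rfl⟩ := Groth.Agent.Lib.Lead.ProjMapG.surjOn_of_surjective φ hφ d hx
  exact Ideal.mem_map_of_mem _ (HomogeneousIdeal.mem_irrelevant_of_mem _ hd ha)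

end General

section iso

/-- Blow-ups are invariant under isomorphisms of the base. -/
theorem isBlowUp_comp_iso {X X₂ B : Scheme.{u}} (𝓙 : X.IdealSheafData) (b : B ⟶ X)
    (hb : BlowUp.IsBlowUp b 𝓙) (e : X ≅ X₂) : BlowUp.IsBlowUp (b ≫ e.hom) (𝓙.comap e.inv) := by
  refine ⟨?_, fun Y g hg => ?_⟩
  · rw [← Scheme.IdealSheafData.comap_comp, Category.assoc, e.hom_inv_id, Category.comp_id]
    exact hb.1
  · rw [← Scheme.IdealSheafData.comap_comp] at hg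
    obtain ⟨h, hh, hu⟩ := hb.2 Y (g ≫ e.inv) hg
    refine ⟨h, ?_, fun k hk => hu k ?_⟩
    · change h ≫ b ≫ e.hom = g
      rw [← Category.assoc, hh, Category.assoc, e.inv_hom_id, Category.comp_id]
    · change k ≫ b ≫ e.hom = g at hk
      change k ≫ b = g ≫ e.inv
      rw [← hk, Category.assoc, Category.assoc, e.hom_inv_id, Category.comp_id]

/-- Two morphisms into a blow-up agreeing on the base are equal. -/
theorem hom_ext_of_isBlowUp {X B Y : Scheme.{u}} (𝓙 : X.IdealSheafData) (b : B ⟶ X)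
    (hb : BlowUp.IsBlowUp b 𝓙) (h h' : Y ⟶ B) (hh : h ≫ b = h' ≫ b)
    (heff : BlowUp.IsEffCartierIdeal (𝓙.comap (h ≫ b))) : h = h' :=
  (hb.2 Y (h ≫ b) heff).unique rfl hh.symm

end iso

variable {X : Scheme.{u}} (𝓘 : X.IdealSheafData)

/-- `reesAlgebra 𝓘(U) → (grAlg 𝓘)(U)` as a graded ring hom. -/
noncomputable def gTo (U : X.Opens) (hU : IsAffineOpen U) :
    Rees.deg (reesAlgebra (IU 𝓘 U hU)) →+*ᵍ (grAlg 𝓘).deg U hU where
  toRingHom := (gIso 𝓘 U hU).symm.toRingHom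
  map_mem := fun hx => map_mem_mapDeg (gIso 𝓘 U hU).symm _ hx

/-- `(grAlg 𝓘)(U) → reesAlgebra 𝓘(U)` as a graded ring hom. -/
noncomputable def gFrom (U : X.Opens) (hU : IsAffineOpen U) :
    (grAlg 𝓘).deg U hU →+*ᵍ Rees.deg (reesAlgebra (IU 𝓘 U hU)) where
  toRingHom := (gIso 𝓘 U hU).toRingHom
  map_mem := fun hx => (mem_deg_iff 𝓘 U hU _ _).mp hx

@[simp] theorem gTo_apply (U : X.Opens) (hU : IsAffineOpen U) (b : B 𝓘 U hU) :
    gTo 𝓘 U hU b = (gIso 𝓘 U hU).symm b := rfl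

@[simp] theorem gFrom_apply (U : X.Opens) (hU : IsAffineOpen U)
    (x : (alg 𝓘).presheaf.obj (op U)) : gFrom 𝓘 U hU x = gIso 𝓘 U hU x := rfl

theorem gTo_irr (U : X.Opens) (hU : IsAffineOpen U) :
    ((grAlg 𝓘).deg U hU)₊ ≤ ((Rees.deg (reesAlgebra (IU 𝓘 U hU)))₊).map (gTo 𝓘 U hU) :=
  irrelevant_le_map_of_surj _ (gIso 𝓘 U hU).symm.surjective

theorem gFrom_irr (U : X.Opens) (hU : IsAffineOpen U) :
    (Rees.deg (reesAlgebra (IU 𝓘 U hU)))₊ ≤ (((grAlg 𝓘).deg U hU)₊).map (gFrom 𝓘 U hU) :=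
  irrelevant_le_map_of_surj _ (gIso 𝓘 U hU).surjective

/-- `Proj (reesAlgebra 𝓘(U)) ≅ Proj (grAlg 𝓘)(U)`. -/
noncomputable def projIso (U : X.Opens) (hU : IsAffineOpen U) :
    Bl (IU 𝓘 U hU) ≅ Proj ((grAlg 𝓘).deg U hU) where
  hom := Proj.map (gFrom 𝓘 U hU) (gFrom_irr 𝓘 U hU)
  inv := Proj.map (gTo 𝓘 U hU) (gTo_irr 𝓘 U hU)
  hom_inv_id := by
    rw [projMap_comp_eq (h := GradedRingHom.id _) (gTo_irr 𝓘 U hU) (gFrom_irr 𝓘 U hU) (by simp)
      (GradedRingHom.ext fun b => (gIso 𝓘 U hU).apply_symm_apply b)]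
    exact Proj.map_id
  inv_hom_id := by
    rw [projMap_comp_eq (h := GradedRingHom.id _) (gFrom_irr 𝓘 U hU) (gTo_irr 𝓘 U hU) (by simp)
      (GradedRingHom.ext fun b => (gIso 𝓘 U hU).symm_apply_apply b)]
    exact Proj.map_id

theorem strZero_eq (U : X.Opens) (hU : IsAffineOpen U) :
    (grAlg 𝓘).strZero U hU =
      zeroHom (IU 𝓘 U hU) ≫ CommRingCat.ofHom (gTo 𝓘 U hU).gradedZeroRingHom := by
  ext r
  change ((alg 𝓘).str.app (op U)).hom r = (gIso 𝓘 U hU).symm (algebraMap Γ(X, U) (B 𝓘 U hU) r)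
  rw [RingEquiv.eq_symm_apply, gIso_str]

theorem piU_eq (U : X.Opens) (hU : IsAffineOpen U) :
    piU (grAlg 𝓘) U hU = (projIso 𝓘 U hU).inv ≫ bl (IU 𝓘 U hU) ≫ hU.isoSpec.inv := by
  have h : bl (IU 𝓘 U hU) = Proj.toSpecZero (Rees.deg (reesAlgebra (IU 𝓘 U hU))) ≫
      Spec.map (zeroHom (IU 𝓘 U hU)) := rfl
  have h1 := Groth.Agent.Lib.Lead.ProjMapG.map_toSpecZero (gTo 𝓘 U hU) (gTo_irr 𝓘 U hU)
  change _ = Proj.map (gTo 𝓘 U hU) (gTo_irr 𝓘 U hU) ≫ _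
  rw [h, ← Category.assoc, ← Category.assoc, h1, Category.assoc, Category.assoc,
    ← Spec.map_comp_assoc, ← strZero_eq]
  rfl

theorem idl_comap (U : X.Opens) (hU : IsAffineOpen U) :
    (idl (IU 𝓘 U hU)).comap hU.isoSpec.hom = 𝓘.comap U.ι := by
  haveI : IsAffine (U : Scheme.{u}) := hU
  apply Scheme.IdealSheafData.ext_of_isAffine
  have hle : (⊤ : (U : Scheme.{u}).Opens) ≤ U.ι ⁻¹ᵁ U := by
    rw [Scheme.Opens.ι_preimage_self]
  rw [ideal_comap_idl, Groth.Agent.Lib.helper7.IdealComap.ideal_comap U.ι 𝓘 hU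
    (isAffineOpen_top _) hle]
  congr 1
  refine ringOf_eq _ _ (isAffineOpen_top _) (U.ι.appLE U ⊤ hle) ?_
  rw [Scheme.Opens.toSpecΓ_top, IsAffineOpen.isoSpec_hom, Scheme.Opens.toSpecΓ, Category.assoc]
  congr 3
  simp only [Scheme.Hom.appLE, Scheme.Opens.topIso_inv, Scheme.Opens.ι_app]
  rw [Scheme.Opens.toScheme_presheaf_map]
  exact ((X.presheaf.map_comp _ _).symm.trans (congrArg X.presheaf.map (Subsingleton.elim _ _))).symm

/-- **`Proj` of the Rees algebra over an affine open is the blow-up.** -/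
theorem isBlowUp_piU (U : X.Opens) (hU : IsAffineOpen U) :
    BlowUp.IsBlowUp (piU (grAlg 𝓘) U hU) (𝓘.comap U.ι) := by
  rw [piU_eq, ← idl_comap 𝓘 U hU]
  have h1 : BlowUp.IsBlowUp ((projIso 𝓘 U hU).inv ≫ bl (IU 𝓘 U hU)) (idl (IU 𝓘 U hU)) :=
    isBlowUp_of_iso _ _ _ (projIso 𝓘 U hU).symm rfl isBlowUp_bl
  have h2 := isBlowUp_comp_iso _ _ h1 hU.isoSpec.symm
  rw [Category.assoc] at h2
  exact h2

/-- **A blowing up in a finite type ideal is a projective morphism**: it is the relative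
homogeneous spectrum of the Rees algebra `⊕ 𝓘ⁿ`. -/
theorem isProjective_of_isBlowUp {X' : Scheme.{u}} (h𝓘 : BlowUp.IsFiniteTypeIdeal 𝓘)
    (b : X' ⟶ X) (hb : BlowUp.IsBlowUp b 𝓘) : RelProj.IsProjective b := by
  have hres : ∀ U : X.Opens, BlowUp.IsBlowUp (b ∣_ U) (𝓘.comap U.ι) := fun U =>
    isBlowUp_morphismRestrict 𝓘 b hb U
  have hex : ∀ (U : X.Opens) (hU : IsAffineOpen U),
      ∃ φ : ((b ⁻¹ᵁ U : X'.Opens) : Scheme.{u}) ⟶ Proj ((grAlg 𝓘).deg U hU),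
        φ ≫ piU (grAlg 𝓘) U hU = b ∣_ U := fun U hU =>
    ((isBlowUp_piU 𝓘 U hU).2 _ (b ∣_ U) (hres U).1).exists
  choose φ hφ using hex
  have hiso : ∀ (U : X.Opens) (hU : IsAffineOpen U), IsIso (φ U hU) := fun U hU =>
    Groth.Agent.S17083.isIso_of_isBlowUp _ _ _ (hres U) (isBlowUp_piU 𝓘 U hU) (φ U hU) (hφ U hU)
  refine ⟨grAlg 𝓘, X', b, fun U hU => @asIso _ _ _ _ (φ U hU) (hiso U hU), Iso.refl _,
    isGenDegOne 𝓘, isFTDeg_one 𝓘 h𝓘, ⟨?_, ?_⟩, Category.id_comp _⟩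
  · intro U hU
    change φ U hU ≫ _ = _
    rw [← piU_ι, ← Category.assoc, hφ, morphismRestrict_ι]
  · intro U hU r
    change X'.homOfLE _ ≫ φ U hU = φ _ _ ≫ _
    have key : (X'.homOfLE (b.preimage_mono (X.basicOpen_le r)) ≫ φ U hU) ≫
        piU (grAlg 𝓘) U hU = b ∣_ (X.basicOpen r) ≫ X.homOfLE (X.basicOpen_le r) := by
      rw [Category.assoc, hφ, ← cancel_mono U.ι, Category.assoc, morphismRestrict_ι,
        Scheme.homOfLE_ι_assoc, Category.assoc, Scheme.homOfLE_ι, morphismRestrict_ι]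
    apply hom_ext_of_isBlowUp _ _ (isBlowUp_piU 𝓘 U hU)
    · rw [key, Category.assoc, map_piU, ← Category.assoc, hφ]
    · rw [key, Scheme.IdealSheafData.comap_comp, Groth.Agent.Lib.helper16.BlowUpGlue.comap_homOfLE]
      exact (hres _).1

end Groth.Agent.Lib.helper28.ReesProj
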