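import Groth.Agent.Lib.Helper28.TwistSES
import Groth.Agent.Lib.Helper28.ReesQuot
import Groth.Agent.Lib.Helper28.BlowUpChart2
import Groth.Agent.Lib.Lead.ProjMapG
import Groth.Agent.Lib.Lead.ProjChart

/-!
# The exceptional divisor sequence on the blow-up of a quasi-regular ideal (helper28)

`fs : Fin (n+1) → A` quasi-regular generating `I`, `𝒜 = Rees.deg (reesAlgebra I)`,
`ψ = ReesQuot.psi : 𝒜 → (A/I)[T]`, `g = Proj.map ψ : P^n_{A/I} ⟶ Bl_I`.
* `tau fs`: the global section `f_j / (f_j X)` of `O(-1)` on `Proj 𝒜`;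
  (the hypotheses `TwistSES.Hyp` for it are checked in `ReesHyp`).
-/

set_option autoImplicit false
set_option linter.unusedSectionVars false
universe u
open CategoryTheory CategoryTheory.Limits AlgebraicGeometry Opposite TopologicalSpace Polynomial
open scoped HomogeneousIdeal

namespace Groth.Agent.Lib.helper28.ReesTau

open Groth.Agent.Lib.helper16.ReesBlowup Groth.Agent.Lib.helper28.ReesQuot
  Groth.Agent.Lib.helper28.TwistSES Groth.Agent.Lib.helper28.GTwistQCoh
  Groth.Agent.Lib.helper28.GTwistSec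

variable {A : Type u} [CommRing A] {n : ℕ} (fs : Fin (n + 1) → A)

/-- the grading of the Rees algebra -/
abbrev AA : ℕ → Submodule A (reesAlgebra (II fs)) := Rees.deg (reesAlgebra (II fs))

/-- `f_j X` -/
noncomputable abbrev FF (j : Fin (n + 1)) : reesAlgebra (II fs) := F (II fs) (fs j) (fs_mem fs j)

theorem exists_FF_notMem (x : ProjectiveSpectrum (AA fs)) :
    ∃ j : Fin (n + 1), FF fs j ∉ x.asHomogeneousIdeal := by
  by_contra hcon
  simp only [not_exists, not_not] at hcon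
  apply x.not_irrelevant_le
  intro z hz
  have hle : Ideal.span (Set.range fun j : Fin (n + 1) => FF fs j) ≤
      x.asHomogeneousIdeal.toIdeal :=
    Ideal.span_le.mpr (by rintro _ ⟨j, rfl⟩; exact hcon j)
  exact hle (Groth.Agent.Lib.helper28.BlowUpChart.irrelevant_le_span_of_span (II fs) fs
    (fs_mem fs) le_rfl hz)

theorem hcov (x : ProjectiveSpectrum (AA fs)) : ∃ f ∈ AA fs 1, f ∉ x.asHomogeneousIdeal := by
  obtain ⟨j, hj⟩ := exists_FF_notMem fs x
  exact ⟨FF fs j, F_mem (II fs) _ (fs_mem fs j), hj⟩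

theorem algebraMap_mem_zero (a : A) : algebraMap A (reesAlgebra (II fs)) a ∈ AA fs 0 := by
  rw [algebraMap_eq_mon]
  exact mon_mem _ _ _ _

theorem cross (j j' : Fin (n + 1)) :
    algebraMap A (reesAlgebra (II fs)) (fs j') * FF fs j =
      algebraMap A (reesAlgebra (II fs)) (fs j) * FF fs j' := by
  apply Subtype.ext
  simp only [Subalgebra.coe_mul, Subalgebra.coe_algebraMap, F, coe_mon, Polynomial.algebraMap_eq,
    Polynomial.C_mul_monomial]
  rw [mul_comm]

/-- the value `f_j / (f_j X)` -/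
noncomputable def tauAt (x : ProjectiveSpectrum (AA fs)) : GrTwist.Loc (AA fs) x :=
  Localization.mk (algebraMap A (reesAlgebra (II fs)) (fs (exists_FF_notMem fs x).choose))
    ⟨FF fs (exists_FF_notMem fs x).choose, (exists_FF_notMem fs x).choose_spec⟩

theorem tauAt_eq (x : ProjectiveSpectrum (AA fs)) (j : Fin (n + 1))
    (hj : FF fs j ∉ x.asHomogeneousIdeal) :
    tauAt fs x = Localization.mk (algebraMap A (reesAlgebra (II fs)) (fs j)) ⟨FF fs j, hj⟩ := by
  rw [tauAt, mk_eq_mk_iff']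
  refine ⟨1, ?_⟩
  simp only [OneMemClass.coe_one, one_mul]
  rw [mul_comm, mul_comm (FF fs _)]
  exact cross fs j _

theorem tauAt_mem (x : ProjectiveSpectrum (AA fs)) :
    tauAt fs x ∈ GrTwist.twistAt (AA fs) (-1) x :=
  Submodule.subset_span ⟨0, 1,
    ⟨_, algebraMap_mem_zero fs (fs (exists_FF_notMem fs x).choose)⟩,
    ⟨FF fs (exists_FF_notMem fs x).choose, F_mem (II fs) _ (fs_mem fs _)⟩,
    (exists_FF_notMem fs x).choose_spec, by simp, rfl⟩

/-- the global section `τ = f_j / (f_j X)` of `O(-1)` -/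
noncomputable def tau : GrTwist.sectN (𝒜 := AA fs) (-1) (op ⊤) :=
  ⟨fun x => ⟨tauAt fs x.1, tauAt_mem fs x.1⟩, fun x => by
    obtain ⟨j, hj⟩ := exists_FF_notMem fs x.1
    refine ⟨ProjectiveSpectrum.basicOpen (AA fs) (FF fs j),
      (ProjectiveSpectrum.mem_basicOpen (AA fs) _ x.1).mpr hj, homOfLE le_top, 0, 1,
      ⟨_, algebraMap_mem_zero fs (fs j)⟩, ⟨FF fs j, F_mem (II fs) _ (fs_mem fs j)⟩,
      fun y => (ProjectiveSpectrum.mem_basicOpen (AA fs) _ y.1).mp y.2, Or.inl (by simp),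
      fun y => ?_⟩
    exact tauAt_eq fs y.1 j ((ProjectiveSpectrum.mem_basicOpen (AA fs) _ y.1).mp y.2)⟩

theorem tau_val (x : ProjectiveSpectrum (AA fs)) :
    (((tau fs).1 ⟨x, trivial⟩ : GrTwist.twistAt (AA fs) (-1) x) : GrTwist.Loc (AA fs) x) =
      tauAt fs x := rfl

end Groth.Agent.Lib.helper28.ReesTau
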