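import Groth.Agent.Lib.Helper28.GTwistZero
import Groth.Agent.Lib.Helper28.RelTwistSec
import Groth.Agent.Lib.Helper28.GProjSec

/-!
# The structure sheaf of a relative Proj is its twisting sheaf of degree zero (helper28)
-/

set_option autoImplicit false
set_option linter.style.haveILetI false
universe u
open CategoryTheory CategoryTheory.Limits AlgebraicGeometry TopologicalSpace Opposite
open Scheme.Modules

namespace Groth.Agent.Lib.helper28.RelTwistZero

open Groth.Agent.Lib.helper28.RelTwistChart Groth.Agent.Lib.helper2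
  Groth.Agent.Lib.helper28.GTwistZero Groth.Agent.Lib.helper28.GTwistFree
  Groth.Agent.Lib.helper28.GProjSec Groth.Agent.Lib.helper28.LocalGen

variable {Y P : Scheme.{u}} {𝒮 : RelProj.QCGrAlg Y} (p : P ⟶ Y)
  (chart : ∀ (U : Y.Opens) (hU : IsAffineOpen U),
    (((p ⁻¹ᵁ U : P.Opens) : Scheme.{u}) ≅ Proj (𝒮.deg U hU)))

/-- The sectionwise map `O_P(W) → O(0)(emb⁻¹ W)`. -/
noncomputable def lam0Fun (U : Y.Opens) (hU : IsAffineOpen U) (W : P.Opens)
    (r : Γ(Coh.structureModule P, W)) :
    Γ((Scheme.Modules.pushforward (RelProj.emb p chart U hU)).obj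
      (GrTwist.twist (𝒮.deg U hU) 0), W) :=
  toTwist0 (𝒮.deg U hU) (RelProj.emb p chart U hU ⁻¹ᵁ W)
    (((RelProj.emb p chart U hU).app W).hom (show Γ(P, W) from r))

theorem lam0Fun_val (U : Y.Opens) (hU : IsAffineOpen U) (W : P.Opens)
    (r : Γ(Coh.structureModule P, W)) (x : (RelProj.emb p chart U hU ⁻¹ᵁ W : (Proj (𝒮.deg U hU)).Opens)) :
    GrTwist.val (V := RelProj.emb p chart U hU ⁻¹ᵁ W) (lam0Fun p chart U hU W r) x =
      ((toO (𝒮.deg U hU) (((RelProj.emb p chart U hU).app W).hom (show Γ(P, W) from r))).1 x).val :=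
  rfl

theorem lam0Fun_add (U : Y.Opens) (hU : IsAffineOpen U) (W : P.Opens)
    (r r' : Γ(Coh.structureModule P, W)) :
    lam0Fun p chart U hU W (r + r') = lam0Fun p chart U hU W r + lam0Fun p chart U hU W r' := by
  have h1 : ((RelProj.emb p chart U hU).app W).hom (show Γ(P, W) from r + r') =
      ((RelProj.emb p chart U hU).app W).hom (show Γ(P, W) from r) +
        ((RelProj.emb p chart U hU).app W).hom (show Γ(P, W) from r') :=
    map_add ((RelProj.emb p chart U hU).app W).hom _ _
  unfold lam0Fun
  rw [h1]
  exact toTwist0_add _ _ _ _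

theorem lam0Fun_smul (U : Y.Opens) (hU : IsAffineOpen U) (W : P.Opens) (r : Γ(P, W))
    (s : Γ(Coh.structureModule P, W)) :
    lam0Fun p chart U hU W (r • s) = r • lam0Fun p chart U hU W s := by
  have h1 : ((RelProj.emb p chart U hU).app W).hom (show Γ(P, W) from r • s) =
      ((RelProj.emb p chart U hU).app W).hom r *
        ((RelProj.emb p chart U hU).app W).hom (show Γ(P, W) from s) :=
    map_mul ((RelProj.emb p chart U hU).app W).hom r (show Γ(P, W) from s)
  rw [smul_pushforward]
  unfold lam0Fun
  rw [h1]
  exact toTwist0_mul _ _ _ _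

/-- The chart identification of `O_P` with `O(0)`. -/
noncomputable def lam0 (U : Y.Opens) (hU : IsAffineOpen U) :
    Coh.structureModule P ⟶ (Scheme.Modules.pushforward (RelProj.emb p chart U hU)).obj
      (GrTwist.twist (𝒮.deg U hU) 0) :=
  ⟨PresheafOfModules.homMk
    (M₁ := (Coh.structureModule P).val)
    (M₂ := ((Scheme.Modules.pushforward (RelProj.emb p chart U hU)).obj
      (GrTwist.twist (𝒮.deg U hU) 0)).val)
    { app := fun W => AddCommGrpCat.ofHom
        (AddMonoidHom.mk' (lam0Fun p chart U hU W.unop) (lam0Fun_add p chart U hU W.unop))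
      naturality := by
        intro W W₂ f
        ext s
        refine Groth.Agent.Lib.helper28.GTwistQCoh.sectN_ext _ _ _ fun x => ?_
        have e := (RelProj.emb p chart U hU).naturality f
        have e2 := congr($e (show Γ(P, W.unop) from s))
        change ((toO (𝒮.deg U hU) (((RelProj.emb p chart U hU).app W₂.unop).hom
          ((P.presheaf.map f).hom (show Γ(P, W.unop) from s)))).1 x).val = _
        have e3 : ((RelProj.emb p chart U hU).app W₂.unop).hom
            ((P.presheaf.map f).hom (show Γ(P, W.unop) from s)) =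
            ((Proj (𝒮.deg U hU)).presheaf.map
              ((Opens.map (RelProj.emb p chart U hU).base).map f.unop).op).hom
              (((RelProj.emb p chart U hU).app W.unop).hom (show Γ(P, W.unop) from s)) := e2
        rw [e3]
        rfl }
    (fun W r s => lam0Fun_smul p chart U hU W.unop r s)⟩

theorem lam0_app (U : Y.Opens) (hU : IsAffineOpen U) (W : P.Opens)
    (r : Γ(Coh.structureModule P, W)) :
    (lam0 p chart U hU).app W r = lam0Fun p chart U hU W r := rfl

variable {p chart}

/-- The structure sheaf, with the identifications `lam0`, is the twisting sheaf of degree `0`. -/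
theorem isRelTwist_lam0 (hP : RelProj.IsRelProj 𝒮 p chart) :
    RelProj.IsRelTwist 𝒮 p chart 0 (Coh.structureModule P) (lam0 p chart) where
  bijective U hU W hW := by
    have hiso : Function.Bijective ((RelProj.emb p chart U hU).app W).hom := by
      haveI := Scheme.Hom.isIso_app (RelProj.emb p chart U hU) W (by
        intro x hx
        change x ∈ Set.range (RelProj.emb p chart U hU)
        rw [range_emb]
        exact hW hx)
      exact (ConcreteCategory.isIso_iff_bijective ((RelProj.emb p chart U hU).app W)).mp
        inferInstance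
    exact (bijective_toTwist0 (𝒮.deg U hU) (RelProj.emb p chart U hU ⁻¹ᵁ W)).comp hiso
  compat U hU r W s y hy hy' := by
    rw [lam0_app, lam0_app, lam0Fun_val, lam0Fun_val]
    have e := Scheme.Hom.congr_app (RelProj.map_res_emb hP U hU r).symm W
    have e2 := congr($e (show Γ(P, W) from s))
    have key : ((RelProj.emb p chart (Y.basicOpen r) (hU.basicOpen r)).app W).hom
          (show Γ(P, W) from s) =
        ((Proj (𝒮.deg (Y.basicOpen r) (hU.basicOpen r))).presheaf.map
          (eqToHom (congrArg (fun g : Proj (𝒮.deg (Y.basicOpen r) (hU.basicOpen r)) ⟶ P => g ⁻¹ᵁ W)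
            (RelProj.map_res_emb hP U hU r).symm)).op).hom
          (((Proj.map (𝒮.res hU (hU.basicOpen r) (Y.basicOpen_le r))
              (𝒮.irrelevant_le_map U hU r)).app (RelProj.emb p chart U hU ⁻¹ᵁ W)).hom
            (((RelProj.emb p chart U hU).app W).hom (show Γ(P, W) from s))) := e2
    rw [key]
    change (HomogeneousLocalization.localRingHom (𝒮.res hU (hU.basicOpen r) (Y.basicOpen_le r))
      _ _ rfl ((toO (𝒮.deg U hU) (((RelProj.emb p chart U hU).app W).hom
        (show Γ(P, W) from s))).1 ⟨_, hy'⟩)).val = _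
    rw [HomogeneousLocalization.val_localRingHom]
    rfl

end Groth.Agent.Lib.helper28.RelTwistZero
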