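import Groth.Agent.Lib.Helper28.FlatFrac
import Groth.Agent.Lib.Helper28.RelTwistCanon
import Groth.Agent.Lib.Helper28.RelTwistZero
import Groth.Agent.Lib.Helper28.RelTwistFree
import Groth.Agent.Lib.Helper17.FlatOver1

/-!
# Flatness of a relative `Proj` and of its twisting sheaves (helper28; EGA-style)

`𝒮` a quasi-coherent graded algebra on `Y` whose pieces `𝒮_d`, `d ≥ d₀`, are flat over `O_Y`
(affine-locally).  Then `p : Proj 𝒮 ⟶ Y` is flat and every `O_P(n)` is flat over `Y`.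

* `vl`: the value of a section of `O_P(n)` at a chart point; `vl_add`, `vl_smul`, `vl_ext`.
* `flat_sections`: sections of `O_P(n)` over the image of `D₊(F)` are flat over `Γ(Y, U)`
  (equational criterion, through `FlatFrac.flat_of_fractions`).
* `isFlatOver`, `flat_p`.
-/

set_option autoImplicit false
set_option linter.style.haveILetI false
universe u
open CategoryTheory CategoryTheory.Limits AlgebraicGeometry TopologicalSpace Opposite
open Scheme.Modules

namespace Groth.Agent.Lib.helper28.RelProjFlat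

open Groth.Agent.Lib.helper28.GProjSec Groth.Agent.Lib.helper28.RelTwistChart
  Groth.Agent.Lib.helper28.RelTwistSec Groth.Agent.Lib.helper28.RelTwistCanon
  Groth.Agent.Lib.helper28.GTwistFree Groth.Agent.Lib.helper28.LocalGen

noncomputable section

variable {Y P : Scheme.{u}} {𝒮 : RelProj.QCGrAlg Y} {p : P ⟶ Y}
  {chart : ∀ (U : Y.Opens) (hU : IsAffineOpen U),
    (((p ⁻¹ᵁ U : P.Opens) : Scheme.{u}) ≅ Proj (𝒮.deg U hU))}
  {n : ℤ} {L : P.Modules}
  (lam : ∀ (U : Y.Opens) (hU : IsAffineOpen U),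
    L ⟶ (Scheme.Modules.pushforward (RelProj.emb p chart U hU)).obj
      (GrTwist.twist (𝒮.deg U hU) n))
  (U : Y.Opens) (hU : IsAffineOpen U) (N : P.Opens)

/-- The value at the chart point `z` of the section `t` of `O_P(n)` over `N`. -/
def vl (t : Γ(L, N)) (z : Proj (𝒮.deg U hU)) (hz : (RelProj.emb p chart U hU).base z ∈ N) :
    GrTwist.Loc (𝒮.deg U hU) z :=
  GrTwist.val (V := RelProj.emb p chart U hU ⁻¹ᵁ N) ((lam U hU).app N t) ⟨z, hz⟩

theorem vl_add (t t' : Γ(L, N)) (z : Proj (𝒮.deg U hU))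
    (hz : (RelProj.emb p chart U hU).base z ∈ N) :
    vl lam U hU N (t + t') z hz = vl lam U hU N t z hz + vl lam U hU N t' z hz := by
  unfold vl
  rw [map_add]
  rfl

theorem vl_zero (z : Proj (𝒮.deg U hU)) (hz : (RelProj.emb p chart U hU).base z ∈ N) :
    vl lam U hU N (0 : Γ(L, N)) z hz = 0 := by
  unfold vl
  rw [map_zero]
  rfl

theorem vl_smul (hP : RelProj.IsRelProj 𝒮 p chart) (hNU : N ≤ p ⁻¹ᵁ U) (r : Γ(Y, U))
    (t : Γ(L, N)) (z : Proj (𝒮.deg U hU)) (hz : (RelProj.emb p chart U hU).base z ∈ N) :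
    vl lam U hU N ((p.appLE U N hNU).hom r • t) z hz =
      algebraMap (𝒮.presheaf.obj (op U)) (GrTwist.Loc (𝒮.deg U hU) z)
        ((𝒮.str.app (op U)).hom r) * vl lam U hU N t z hz := by
  have hL : (lam U hU).app N ((p.appLE U N hNU).hom r • t) =
      ((((RelProj.emb p chart U hU).app N).hom ((p.appLE U N hNU).hom r) •
        (show Γ(GrTwist.twist (𝒮.deg U hU) n, RelProj.emb p chart U hU ⁻¹ᵁ N) from
          (lam U hU).app N t)) :
        Γ(GrTwist.twist (𝒮.deg U hU) n, RelProj.emb p chart U hU ⁻¹ᵁ N)) := by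
    rw [Scheme.Modules.Hom.app_smul, smul_pushforward]
  unfold vl
  rw [hL]
  let c : GrTwist.O (𝒜 := 𝒮.deg U hU) (op (RelProj.emb p chart U hU ⁻¹ᵁ N)) :=
    ((RelProj.emb p chart U hU).app N).hom ((p.appLE U N hNU).hom r)
  let σ : GrTwist.sectN (𝒜 := 𝒮.deg U hU) n (op (RelProj.emb p chart U hU ⁻¹ᵁ N)) :=
    (lam U hU).app N t
  change ((((c • σ : GrTwist.sectN (𝒜 := 𝒮.deg U hU) n _)).1 ⟨z, hz⟩ :
      GrTwist.twistAt (𝒮.deg U hU) n z) : GrTwist.Loc (𝒮.deg U hU) z) = _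
  rw [smul_val]
  refine congrArg₂ (· * ·) ?_ rfl
  have hc : c = ((Proj (𝒮.deg U hU)).presheaf.map
      (homOfLE ((RelProj.emb p chart U hU).preimage_mono hNU)).op).hom
      (((RelProj.emb p chart U hU).app (p ⁻¹ᵁ U)).hom ((p.app U).hom r)) := by
    have h1 := (RelProj.emb p chart U hU).naturality (homOfLE hNU).op
    have h2 := congrArg (fun k => k.hom ((p.app U).hom r)) h1
    exact h2
  rw [hc]
  exact val_emb_p hP U hU r z (hNU hz)

theorem vl_ext (hL : RelProj.IsRelTwist 𝒮 p chart n L lam) (hNU : N ≤ p ⁻¹ᵁ U)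
    (t t' : Γ(L, N))
    (h : ∀ (z : Proj (𝒮.deg U hU)) (hz : (RelProj.emb p chart U hU).base z ∈ N),
      vl lam U hU N t z hz = vl lam U hU N t' z hz) : t = t' := by
  apply (hL.bijective U hU N hNU).1
  refine Groth.Agent.Lib.helper28.GTwistQCoh.sectN_ext _ _ _ fun x => ?_
  exact h x.1 x.2

open Groth.Agent.Lib.helper28.GTwistSec Groth.Agent.Lib.helper28.GFrac in
/-- **Flatness of the sections of `O_P(n)` over a standard chart.** -/
theorem flat_sections (hP : RelProj.IsRelProj 𝒮 p chart)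
    (hL : RelProj.IsRelTwist 𝒮 p chart n L lam) (hNU : N ≤ p ⁻¹ᵁ U) {d : ℕ} (hd : 0 < d)
    (F : 𝒮.presheaf.obj (op U)) (hF : F ∈ 𝒮.deg U hU d)
    (hN : RelProj.emb p chart U hU ⁻¹ᵁ N = ProjectiveSpectrum.basicOpen (𝒮.deg U hU) F)
    (d₀ : ℕ)
    (hflat : ∀ i : ℕ, d₀ ≤ i →
      letI := (𝒮.str.app (op U)).hom.toAlgebra
      Module.Flat Γ(Y, U)
        ↥(Submodule.span Γ(Y, U) (𝒮.deg U hU i : Set (𝒮.presheaf.obj (op U))))) :
    @Module.Flat Γ(Y, U) Γ(L, N) _ _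
      (Groth.Agent.Lib.helper17.FlatOver1.modSecBase p L hNU) := by
  letI := (𝒮.str.app (op U)).hom.toAlgebra
  letI := Groth.Agent.Lib.helper17.FlatOver1.modSecBase p L hNU
  have hmemF : ∀ (z : Proj (𝒮.deg U hU)), (RelProj.emb p chart U hU).base z ∈ N →
      F ∉ z.asHomogeneousIdeal := by
    intro z hz
    have : z ∈ RelProj.emb p chart U hU ⁻¹ᵁ N := hz
    rw [hN] at this
    exact (ProjectiveSpectrum.mem_basicOpen _ F z).mp this
  have hpow : ∀ (z : Proj (𝒮.deg U hU)), F ∉ z.asHomogeneousIdeal → ∀ k : ℕ,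
      F ^ k ∉ z.asHomogeneousIdeal := fun z hz k h => hz (z.isPrime.mem_of_pow_mem k h)
  have hW : ∀ (k : ℕ) (x : (RelProj.emb p chart U hU ⁻¹ᵁ N : (Proj (𝒮.deg U hU)).Opens)),
      F ^ k ∉ x.1.asHomogeneousIdeal := fun k x => hpow x.1 (hmemF x.1 x.2) k
  let Rel : Γ(L, N) → ℕ → 𝒮.presheaf.obj (op U) → Prop := fun t k m =>
    ∀ (z : Proj (𝒮.deg U hU)) (hz : (RelProj.emb p chart U hU).base z ∈ N)
      (hk : F ^ k ∉ z.asHomogeneousIdeal),
      vl lam U hU N t z hz = (Localization.mk m ⟨F ^ k, hk⟩ : GrTwist.Loc (𝒮.deg U hU) z)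
  refine Groth.Agent.Lib.helper28.FlatFrac.flat_of_fractions (𝒮.deg U hU)
    (fun r => 𝒮.str_mem U hU r) hd F hF n d₀ hflat Rel ?_ ?_ ?_ ?_ ?_ ?_ ?_ ?_
  · -- hex
    intro t
    obtain ⟨k, i, m, hk, hi, hval⟩ := sectN_eq_fraction' (𝒮.deg U hU) n hd hF
      (RelProj.emb p chart U hU ⁻¹ᵁ N) hN ((lam U hU).app N t)
    exact ⟨k, i, m.1, m.2, hi, fun z hz hk' => hval ⟨z, hz⟩⟩
  · -- hmk
    intro k i m hm hi
    have hFk : F ^ k ∈ 𝒮.deg U hU (k • d) := SetLike.pow_mem_graded k hF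
    have hdeg : (i : ℤ) = ((k • d : ℕ) : ℤ) + n := by
      rw [hi, smul_eq_mul]; push_cast; ring
    obtain ⟨t, ht⟩ := (hL.bijective U hU N hNU).2
      (fracSectN (𝒮.deg U hU) n (RelProj.emb p chart U hU ⁻¹ᵁ N) ⟨m, hm⟩ ⟨F ^ k, hFk⟩ (hW k) hdeg)
    refine ⟨t, fun z hz hk' => ?_⟩
    unfold vl
    rw [ht]
    rfl
  · -- hmul
    intro t k j m h z hz hk'
    have hk : F ^ k ∉ z.asHomogeneousIdeal := hpow z (hmemF z hz) k
    rw [h z hz hk, mk_eq_mk_iff']
    refine ⟨1, ?_⟩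
    simp only [OneMemClass.coe_one, one_mul]
    rw [pow_add]
    ring
  · -- hadd
    intro t t' k m m' h h' z hz hk
    rw [vl_add, h z hz hk, h' z hz hk, Localization.add_mk_self]
  · -- hsmul
    intro r t k m h z hz hk
    have h1 : (r • t : Γ(L, N)) = ((p.appLE U N hNU).hom r • t : Γ(L, N)) := rfl
    rw [h1, vl_smul lam U hU N hP hNU, h z hz hk, ← Localization.mk_one_eq_algebraMap,
      Localization.mk_mul, one_mul]
    rfl
  · -- hzero
    intro k z hz hk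
    rw [vl_zero, Localization.mk_zero]
  · -- huniq
    intro t t' k m h h'
    refine vl_ext lam U hU N hL hNU t t' fun z hz => ?_
    have hk : F ^ k ∉ z.asHomogeneousIdeal := hpow z (hmemF z hz) k
    rw [h z hz hk, h' z hz hk]
  · -- hker
    intro k i m hm h
    obtain ⟨N', hN'⟩ := exists_pow_smul_eq_zero (𝒮.deg U hU) (𝒮.deg U hU) hd hF hm (fun y hy => by
      have hyN : (RelProj.emb p chart U hU).base y ∈ N := by
        have : y ∈ RelProj.emb p chart U hU ⁻¹ᵁ N := by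
          rw [hN]; exact (ProjectiveSpectrum.mem_basicOpen _ F y).mpr hy
        exact this
      have h1 := h y hyN (hpow y hy k)
      rw [vl_zero] at h1
      have h2 := (Groth.Agent.Lib.helper28.GTwistQCoh.mk_eq_zero_iff' _ _).mp h1.symm
      obtain ⟨u, hu⟩ := h2
      exact ⟨u.1, u.2, hu⟩)
    exact ⟨N', hN'⟩


section Cover

variable {A σ : Type u} [CommRing A] [SetLike σ A] [AddSubgroupClass σ A] (𝒜 : ℕ → σ)
  [GradedRing 𝒜]

open scoped HomogeneousIdeal in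
theorem exists_pos_deg_notMem (z : ProjectiveSpectrum 𝒜) :
    ∃ (k : ℕ) (F : A), 0 < k ∧ F ∈ 𝒜 k ∧ F ∉ z.asHomogeneousIdeal := by
  classical
  by_contra hcon
  apply z.not_irrelevant_le
  intro x hx
  change x ∈ z.asHomogeneousIdeal.toIdeal
  rw [← DirectSum.sum_support_decompose 𝒜 x]
  refine Ideal.sum_mem _ fun k _ => ?_
  by_cases hk : k = 0
  · subst hk
    have h0 : (DirectSum.decompose 𝒜 x 0 : A) = 0 := (HomogeneousIdeal.mem_irrelevant_iff 𝒜 x).mp hx
    rw [h0]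
    exact zero_mem _
  · by_contra hmem
    exact hcon ⟨k, _, Nat.pos_of_ne_zero hk, SetLike.coe_mem _, hmem⟩

end Cover

/-- **`O_P(n)` is flat over the base** when the high degree pieces of `𝒮` are flat. -/
theorem isFlatOver (hP : RelProj.IsRelProj 𝒮 p chart)
    (hL : RelProj.IsRelTwist 𝒮 p chart n L lam)
    (hflat : ∃ d₀ : ℕ, ∀ d : ℕ, d₀ ≤ d → ∀ (U : Y.Opens) (hU : IsAffineOpen U),
      letI := (𝒮.str.app (op U)).hom.toAlgebra
      Module.Flat Γ(Y, U)
        ↥(Submodule.span Γ(Y, U) (𝒮.deg U hU d : Set (𝒮.presheaf.obj (op U))))) :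
    FlatMod.IsFlatOver p L := by
  obtain ⟨d₀, hd₀⟩ := hflat
  haveI := Groth.Agent.Lib.helper28.RelTwistFree.isQuasicoherent lam hL
  intro x
  obtain ⟨⟨U, hU⟩, z, rfl⟩ := exists_mem_range_emb p chart x
  obtain ⟨d, F, hd, hF, hFz⟩ := exists_pos_deg_notMem (𝒮.deg U hU) z
  let D : (Proj (𝒮.deg U hU)).Opens := Proj.basicOpen (𝒮.deg U hU) F
  have hNU : RelProj.emb p chart U hU ''ᵁ D ≤ p ⁻¹ᵁ U := image_emb_le p chart U hU D
  have hNaff : IsAffineOpen (RelProj.emb p chart U hU ''ᵁ D) :=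
    (Proj.isAffineOpen_basicOpen (𝒮.deg U hU) F hF hd).image_of_isOpenImmersion _
  have hN : RelProj.emb p chart U hU ⁻¹ᵁ (RelProj.emb p chart U hU ''ᵁ D) =
      ProjectiveSpectrum.basicOpen (𝒮.deg U hU) F :=
    (RelProj.emb p chart U hU).preimage_image_eq D
  have hzN : (RelProj.emb p chart U hU).base z ∈ RelProj.emb p chart U hU ''ᵁ D :=
    ⟨z, (ProjectiveSpectrum.mem_basicOpen _ F z).mpr hFz, rfl⟩
  exact Groth.Agent.Lib.helper17.FlatOver1.isFlatOverAt_of_flat_sections p L hNU hNaff hU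
    (flat_sections lam U hU _ hP hL hNU hd F hF hN d₀ (fun i hi => hd₀ i hi U hU)) _ hzN

/-- **A relative `Proj` with flat high degree pieces is flat over the base.** -/
theorem flat_p (hP : RelProj.IsRelProj 𝒮 p chart)
    (hflat : ∃ d₀ : ℕ, ∀ d : ℕ, d₀ ≤ d → ∀ (U : Y.Opens) (hU : IsAffineOpen U),
      letI := (𝒮.str.app (op U)).hom.toAlgebra
      Module.Flat Γ(Y, U)
        ↥(Submodule.span Γ(Y, U) (𝒮.deg U hU d : Set (𝒮.presheaf.obj (op U))))) :
    Flat p := by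
  obtain ⟨d₀, hd₀⟩ := hflat
  rw [HasRingHomProperty.iff_exists_appLE (P := @Flat) (Q := RingHom.Flat)
    (RingHom.Flat.stableUnderComposition.stableUnderCompositionWithLocalizationAway
      RingHom.Flat.holdsForLocalizationAway).1]
  intro x
  obtain ⟨⟨U, hU⟩, z, rfl⟩ := exists_mem_range_emb p chart x
  obtain ⟨d, F, hd, hF, hFz⟩ := exists_pos_deg_notMem (𝒮.deg U hU) z
  let D : (Proj (𝒮.deg U hU)).Opens := Proj.basicOpen (𝒮.deg U hU) F
  have hNU : RelProj.emb p chart U hU ''ᵁ D ≤ p ⁻¹ᵁ U := image_emb_le p chart U hU D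
  have hNaff : IsAffineOpen (RelProj.emb p chart U hU ''ᵁ D) :=
    (Proj.isAffineOpen_basicOpen (𝒮.deg U hU) F hF hd).image_of_isOpenImmersion _
  have hN : RelProj.emb p chart U hU ⁻¹ᵁ (RelProj.emb p chart U hU ''ᵁ D) =
      ProjectiveSpectrum.basicOpen (𝒮.deg U hU) F :=
    (RelProj.emb p chart U hU).preimage_image_eq D
  have hzN : (RelProj.emb p chart U hU).base z ∈ RelProj.emb p chart U hU ''ᵁ D :=
    ⟨z, (ProjectiveSpectrum.mem_basicOpen _ F z).mpr hFz, rfl⟩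
  refine ⟨⟨U, hU⟩, ⟨_, hNaff⟩, hzN, hNU, ?_⟩
  have h0 := flat_sections (Groth.Agent.Lib.helper28.RelTwistZero.lam0 p chart) U hU _ hP
    (Groth.Agent.Lib.helper28.RelTwistZero.isRelTwist_lam0 hP) hNU hd F hF hN d₀
    (fun i hi => hd₀ i hi U hU)
  exact h0


end

end Groth.Agent.Lib.helper28.RelProjFlat
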