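import Groth.Agent.Lib.Helper28.RelProjPair
import Groth.Prelude.Def_RelProj4

/-!
# `Proj(u)` for a graded morphism over a change of base which is a base change (helper28)
-/

set_option autoImplicit false
universe u

namespace Groth.Agent.Lib.helper28.RelProjPair

open CategoryTheory CategoryTheory.Limits AlgebraicGeometry TopologicalSpace Opposite
open scoped HomogeneousIdeal
open Groth.Agent.Lib.helper28.RelSpecMap Groth.Agent.Lib.helper28.RelTwistChart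
open Groth.Agent.Lib.helper28.RelProjBC Groth.Agent.Lib.helper28.ProjBaseChange

section Ring

variable {A B σ τ : Type u} [CommRing A] [SetLike σ A] [AddSubgroupClass σ A]
  [CommRing B] [SetLike τ B] [AddSubgroupClass τ B]
  {𝒜 : ℕ → σ} {ℬ : ℕ → τ} [GradedRing 𝒜] [GradedRing ℬ]

theorem domOpen_eq_top (f : 𝒜 →+*ᵍ ℬ) (hf : ℬ₊ ≤ 𝒜₊.map f) : RelCone.domOpen f = ⊤ := by
  refine top_le_iff.mp fun y _ => ?_
  obtain ⟨d, hd, a, ha, hy⟩ := covers_of_irrelevant_le 𝒜 ℬ f hf y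
  exact (RelCone.mem_domOpen f y).mpr ⟨a, HomogeneousIdeal.mem_irrelevant_of_mem _ hd ha, hy⟩

/-- Two morphisms out of `Proj ℬ` agree if they agree on the charts `D₊(f a)`. -/
theorem hom_ext_of_away {Z : Scheme.{u}} (f : 𝒜 →+*ᵍ ℬ) (hf : ℬ₊ ≤ 𝒜₊.map f)
    (k₁ k₂ : Proj ℬ ⟶ Z)
    (h : ∀ (d : ℕ) (hd : 0 < d) (a : A) (ha : a ∈ 𝒜 d),
      Proj.awayι ℬ (f a) (f.map_mem ha) hd ≫ k₁ = Proj.awayι ℬ (f a) (f.map_mem ha) hd ≫ k₂) :
    k₁ = k₂ := by
  refine (Proj.mapAffineOpenCover f hf).openCover.hom_ext _ _ fun s => ?_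
  exact h s.1 s.1.2 s.2 s.2.2

end Ring

variable {Y Y' : Scheme.{u}} {ψ : Y' ⟶ Y} {𝒮 : RelProj.QCGrAlg Y} {𝒮' : RelProj.QCGrAlg Y'}

/-- The family on affine pairs of a graded morphism over `ψ`. -/
def PairHom.ofQGrHom (u : RelProj.QGrHom ψ 𝒮 𝒮') : PairHom ψ 𝒮 𝒮' where
  φ := u.gradedAt
  res_right U hU U' hU' hle V' hV' i := by
    apply GradedRingHom.ext
    intro x
    exact congr($(u.appLE_map hle i).hom x)
  res_left U hU V hV i U' hU' hle := by
    apply GradedRingHom.ext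
    intro x
    exact congr($(u.map_appLE i hle).hom x)

variable (u : RelProj.QGrHom ψ 𝒮 𝒮') (hu : RelSpec.IsQBaseChange u.toQHom)
  {P P' : Scheme.{u}} {p : P ⟶ Y}
  {chart : ∀ (U : Y.Opens) (hU : IsAffineOpen U),
    (((p ⁻¹ᵁ U : P.Opens) : Scheme.{u}) ≅ Proj (𝒮.deg U hU))}
  {p' : P' ⟶ Y'}
  {chart' : ∀ (U' : Y'.Opens) (hU' : IsAffineOpen U'),
    (((p' ⁻¹ᵁ U' : P'.Opens) : Scheme.{u}) ≅ Proj (𝒮'.deg U' hU'))}

include hu in
theorem irrelevant_le_of_isQBaseChange (U : Y.Opens) (hU : IsAffineOpen U) (U' : Y'.Opens)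
    (hU' : IsAffineOpen U') (hle : U' ≤ ψ ⁻¹ᵁ U) :
    (𝒮'.deg U' hU')₊ ≤ ((𝒮.deg U hU)₊).map (u.gradedAt U hU U' hU' hle) :=
  irrelevant_le_of_isPushout (PairHom.ofQGrHom u) hu U hU U' hU' hle

include hu in
theorem domQ_eq_top (p' : P' ⟶ Y')
    (chart' : ∀ (U' : Y'.Opens) (hU' : IsAffineOpen U'),
      (((p' ⁻¹ᵁ U' : P'.Opens) : Scheme.{u}) ≅ Proj (𝒮'.deg U' hU'))) :
    RelProj.domQ u p' chart' = ⊤ := by
  refine top_le_iff.mp fun x _ => ?_
  obtain ⟨U, hU, hyU⟩ : ∃ U : Y.Opens, IsAffineOpen U ∧ ψ.base (p'.base x) ∈ U := by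
    obtain ⟨_, ⟨U, hU, rfl⟩, hxU, -⟩ := Y.isBasis_affineOpens.exists_subset_of_mem_open
      (Set.mem_univ (ψ.base (p'.base x))) isOpen_univ
    exact ⟨U, hU, hxU⟩
  obtain ⟨_, ⟨U', hU', rfl⟩, hxU', hle⟩ := Y'.isBasis_affineOpens.exists_subset_of_mem_open
    (show p'.base x ∈ ((ψ ⁻¹ᵁ U : Y'.Opens) : Set Y') from hyU) (ψ ⁻¹ᵁ U).isOpen
  have hx : x ∈ Set.range (RelProj.emb p' chart' U' hU') := by
    rw [range_emb]
    exact hxU'
  obtain ⟨y, rfl⟩ := hx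
  refine Opens.mem_iSup.mpr ⟨⟨(⟨U, hU⟩, ⟨U', hU'⟩), hle⟩, ?_⟩
  refine ⟨y, ?_, rfl⟩
  rw [domOpen_eq_top _ (irrelevant_le_of_isQBaseChange u hu U hU U' hU' hle)]
  trivial

include hu in
/-- A morphism is `Proj(u)` iff it is chartwise `Proj.map`. -/
theorem isProjQMap_iff (h : P' ⟶ P) :
    RelProj.IsProjQMap u p chart p' chart' h ↔
      ∀ (U : Y.Opens) (hU : IsAffineOpen U) (U' : Y'.Opens) (hU' : IsAffineOpen U')
        (hle : U' ≤ ψ ⁻¹ᵁ U),
        RelProj.emb p' chart' U' hU' ≫ h =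
          Proj.map (u.gradedAt U hU U' hU' hle)
            (irrelevant_le_of_isQBaseChange u hu U hU U' hU' hle) ≫ RelProj.emb p chart U hU := by
  constructor
  · rintro ⟨-, hh⟩ U hU U' hU' hle
    refine hom_ext_of_away (u.gradedAt U hU U' hU' hle)
      (irrelevant_le_of_isQBaseChange u hu U hU U' hU' hle) _ _ fun d hd a ha => ?_
    have := hh U hU U' hU' hle d hd a ha
    unfold RelProj.awayEmb at this
    rw [Category.assoc] at this
    rw [this, Proj.awayι_comp_map_assoc]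
  · intro hh
    refine ⟨domQ_eq_top u hu p' chart', fun U hU U' hU' hle d hd a ha => ?_⟩
    unfold RelProj.awayEmb
    rw [Category.assoc, hh U hU U' hU' hle, Proj.awayι_comp_map_assoc]

include hu in
/-- **EGA II 3.5.3**: `Proj(u)` exists, is everywhere defined and is a base change of `ψ`. -/
theorem exists_isProjQMap_and_isPullback (hP : RelProj.IsRelProj 𝒮 p chart)
    (hP' : RelProj.IsRelProj 𝒮' p' chart') :
    (∃ h : P' ⟶ P, RelProj.IsProjQMap u p chart p' chart' h) ∧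
      ∀ h : P' ⟶ P, RelProj.IsProjQMap u p chart p' chart' h → IsPullback h p' p ψ := by
  constructor
  · obtain ⟨g, -, hg⟩ := exists_isPullback (PairHom.ofQGrHom u) hu hP hP'
    exact ⟨g, (isProjQMap_iff u hu g).mpr hg⟩
  · intro h hh
    exact isPullback_baseChange ψ 𝒮 𝒮' u.gradedAt hu (irrelevant_le_of_isQBaseChange u hu) p chart
      hP p' chart' hP' h ((isProjQMap_iff u hu h).mp hh)

end Groth.Agent.Lib.helper28.RelProjPair
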