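import Mathlib
import Groth.Prelude.Def_RelProj2
import Groth.Agent.Lib.Helper28.RelTwistSec

set_option autoImplicit false
set_option backward.isDefEq.respectTransparency false
set_option backward.isDefEq.respectTransparency.types false

universe u

/-! The open `X_f ⊆ Proj(𝒮)` of a global homogeneous section `f` of a quasi-coherent graded algebra. -/

namespace Groth.Agent.Lib.helper28.RelProjXf

open AlgebraicGeometry CategoryTheory CategoryTheory.Limits Opposite TopologicalSpace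
open scoped HomogeneousIdeal
open Groth.Agent.Lib.helper28.RelTwistChart Groth.Agent.Lib.helper28.RelTwistSec

variable {Y P : Scheme.{u}} {𝒮 : RelProj.QCGrAlg Y} {p : P ⟶ Y}
  {chart : ∀ (U : Y.Opens) (hU : IsAffineOpen U),
    (((p ⁻¹ᵁ U : P.Opens) : Scheme.{u}) ≅ Proj (𝒮.deg U hU))}

/-- The image by the chart embedding of `D₊(f|U)`. -/
noncomputable def WU (p : P ⟶ Y) (chart : ∀ (U : Y.Opens) (hU : IsAffineOpen U),
    (((p ⁻¹ᵁ U : P.Opens) : Scheme.{u}) ≅ Proj (𝒮.deg U hU)))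
    (f : 𝒮.presheaf.obj (op ⊤)) (U : Y.Opens) (hU : IsAffineOpen U) : P.Opens :=
  (RelProj.emb p chart U hU) ''ᵁ (Proj.basicOpen (𝒮.deg U hU) (fU f U))

theorem emb_apply (U : Y.Opens) (hU : IsAffineOpen U) (z : Proj (𝒮.deg U hU)) :
    (RelProj.emb p chart U hU).base z = (p ⁻¹ᵁ U).ι.base ((chart U hU).inv.base z) := by
  unfold RelProj.emb
  rw [Scheme.Hom.comp_base]
  rfl

theorem WU_eq (f : 𝒮.presheaf.obj (op ⊤)) (U : Y.Opens) (hU : IsAffineOpen U) :
    WU p chart f U hU =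
      (p ⁻¹ᵁ U).ι ''ᵁ ((chart U hU).hom ⁻¹ᵁ Proj.basicOpen (𝒮.deg U hU) (fU f U)) := by
  ext x
  constructor
  · rintro ⟨z, hz, rfl⟩
    refine ⟨(chart U hU).inv.base z, ?_, (emb_apply U hU z).symm⟩
    change (chart U hU).hom.base ((chart U hU).inv.base z) ∈
      Proj.basicOpen (𝒮.deg U hU) (fU f U)
    have h3 : (chart U hU).hom.base ((chart U hU).inv.base z) = z := by
      rw [← Scheme.Hom.comp_apply, Iso.inv_hom_id]
      rfl
    rw [h3]
    exact hz
  · rintro ⟨w, hw, rfl⟩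
    refine ⟨(chart U hU).hom.base w, hw, ?_⟩
    refine (emb_apply U hU _).trans ?_
    have h3 : (chart U hU).inv.base ((chart U hU).hom.base w) = w := by
      rw [← Scheme.Hom.comp_apply, Iso.hom_inv_id]
      rfl
    rw [h3]
    rfl

/-- Membership of a chart point of a basic open `W = D(r) ⊆ U` in `WU U`. -/
theorem emb_mem_WU_iff (hP : RelProj.IsRelProj 𝒮 p chart) (f : 𝒮.presheaf.obj (op ⊤))
    (U : Y.Opens) (hU : IsAffineOpen U) (r : Γ(Y, U)) (W : Y.Opens) (hW : IsAffineOpen W)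
    (hWr : W = Y.basicOpen r) (z : Proj (𝒮.deg W hW)) :
    (RelProj.emb p chart W hW).base z ∈ WU p chart f U hU ↔ fU f W ∉ z.asHomogeneousIdeal := by
  subst hWr
  rw [← emb_comap hP U hU r z]
  have hinj : Function.Injective (RelProj.emb p chart U hU).base :=
    (RelProj.emb p chart U hU).isOpenEmbedding.injective
  have hres := res_fU f hU (hU.basicOpen r) (Y.basicOpen_le r)
  constructor
  · rintro ⟨z', hz', he⟩
    have := hinj he
    subst this
    have h1 := (ProjectiveSpectrum.mem_basicOpen (𝒮.deg U hU) (fU f U) _).mp hz'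
    intro hmem
    apply h1
    change (𝒮.res hU (hU.basicOpen r) (Y.basicOpen_le r)) (fU f U) ∈ z.asHomogeneousIdeal
    rw [hres]
    exact hmem
  · intro hz
    refine ⟨_, ?_, rfl⟩
    apply (ProjectiveSpectrum.mem_basicOpen (𝒮.deg U hU) (fU f U) _).mpr
    intro hmem
    apply hz
    have h2 : (𝒮.res hU (hU.basicOpen r) (Y.basicOpen_le r)) (fU f U) ∈ z.asHomogeneousIdeal :=
      hmem
    rw [hres] at h2
    exact h2

/-- The open `X_f`. -/
noncomputable def Xf (p : P ⟶ Y) (chart : ∀ (U : Y.Opens) (hU : IsAffineOpen U),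
    (((p ⁻¹ᵁ U : P.Opens) : Scheme.{u}) ≅ Proj (𝒮.deg U hU)))
    (f : 𝒮.presheaf.obj (op ⊤)) : P.Opens :=
  ⨆ i : {U : Y.Opens // IsAffineOpen U}, WU p chart f i.1 i.2

theorem Xf_inf (hP : RelProj.IsRelProj 𝒮 p chart) (f : 𝒮.presheaf.obj (op ⊤))
    (U : Y.Opens) (hU : IsAffineOpen U) :
    Xf p chart f ⊓ p ⁻¹ᵁ U = WU p chart f U hU := by
  apply le_antisymm
  · rintro x ⟨hx, hxU⟩
    obtain ⟨⟨V, hV⟩, hxV⟩ := Opens.mem_iSup.mp hx
    have hxV' : x ∈ p ⁻¹ᵁ V := image_emb_le p chart V hV _ hxV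
    obtain ⟨a, b, hab, hxa⟩ := exists_basicOpen_le_affine_inter hU hV (p.base x) ⟨hxU, hxV'⟩
    have hWa : IsAffineOpen (Y.basicOpen a) := hU.basicOpen a
    have hxr : x ∈ Set.range (RelProj.emb p chart (Y.basicOpen a) hWa) := by
      rw [range_emb]
      exact hxa
    obtain ⟨z, rfl⟩ := hxr
    rw [emb_mem_WU_iff hP f V hV b (Y.basicOpen a) hWa hab z] at hxV
    exact (emb_mem_WU_iff hP f U hU a (Y.basicOpen a) hWa rfl z).mpr hxV
  · intro x hx
    exact ⟨Opens.mem_iSup.mpr ⟨⟨U, hU⟩, hx⟩, image_emb_le p chart U hU _ hx⟩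

theorem isAffineHom_Xf (hP : RelProj.IsRelProj 𝒮 p chart) (f : 𝒮.presheaf.obj (op ⊤))
    {d : ℕ} (hd : 0 < d) (hf : ∀ (U : Y.Opens) (hU : IsAffineOpen U), fU f U ∈ 𝒮.deg U hU d) :
    IsAffineHom ((Xf p chart f).ι ≫ p) := by
  constructor
  intro U hU
  have h1 : IsAffineOpen (Xf p chart f ⊓ p ⁻¹ᵁ U) :=
    isAffineOpen_inf f hd U hU (hf U hU) (Xf p chart f)
      ((Xf_inf hP f U hU).trans (WU_eq f U hU))
  have h2 : (Xf p chart f).ι ''ᵁ (((Xf p chart f).ι ≫ p) ⁻¹ᵁ U) = Xf p chart f ⊓ p ⁻¹ᵁ U := by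
    ext x
    constructor
    · rintro ⟨w, hw, rfl⟩
      exact ⟨w.2, hw⟩
    · rintro ⟨hx1, hx2⟩
      exact ⟨⟨x, hx1⟩, hx2, rfl⟩
  rw [← h2] at h1
  exact (Scheme.Hom.isAffineOpen_iff_of_isOpenImmersion (Xf p chart f).ι).mp h1

end Groth.Agent.Lib.helper28.RelProjXf
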