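import Groth.Agent.Lib.Helper28.RelTwistTensor
import Groth.Agent.Lib.Helper28.RelTwistZero
import Groth.Agent.Lib.Helper28.RelTwistExists
import Groth.Agent.Lib.Helper12.RelProjAmple
import Groth.Agent.Lib.Helper11.CounitEpi
import Groth.Agent.Lib.Lead.ModTensor

/-!
# Serre's generation theorem on a relative `Proj` generated in degree one (helper28; EGA II 3.4.x)

* `nonempty_iso_of_isRelTwist`: two twisting modules of the same degree are isomorphic.
* `nonempty_tensorPow_iso`: `O_P(1)^{⊗ k} ≅ O_P(k)`.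
* `exists_epi_counit_twist`: `Y` quasi-compact, `𝒮` generated by `𝒮_1` of finite type, `F`
  quasi-coherent of finite type: `p^* p_* (F(n)) ⟶ F(n)` is an epimorphism for all large `n`.
-/

set_option autoImplicit false
set_option linter.style.haveILetI false
universe u
open CategoryTheory CategoryTheory.Limits AlgebraicGeometry TopologicalSpace Opposite
open Scheme.Modules

namespace Groth.Agent.Lib.helper28.RelSerreGen

open Groth.Agent.Lib.helper28.RelTwistTensor Groth.Agent.Lib.Lead.ModTensor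

noncomputable section

variable {Y P : Scheme.{u}} {𝒮 : RelProj.QCGrAlg Y} {p : P ⟶ Y}
  {chart : ∀ (U : Y.Opens) (hU : IsAffineOpen U),
    (((p ⁻¹ᵁ U : P.Opens) : Scheme.{u}) ≅ Proj (𝒮.deg U hU))}

theorem exists_lam_of_eq {k n : ℤ} (h : k = n) {L : P.Modules}
    {lam : ∀ (U : Y.Opens) (hU : IsAffineOpen U),
      L ⟶ (Scheme.Modules.pushforward (RelProj.emb p chart U hU)).obj
        (GrTwist.twist (𝒮.deg U hU) n)}
    (hL : RelProj.IsRelTwist 𝒮 p chart n L lam) :
    ∃ lam' : ∀ (U : Y.Opens) (hU : IsAffineOpen U),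
      L ⟶ (Scheme.Modules.pushforward (RelProj.emb p chart U hU)).obj
        (GrTwist.twist (𝒮.deg U hU) k), RelProj.IsRelTwist 𝒮 p chart k L lam' := by
  subst h
  exact ⟨lam, hL⟩

/-- Two twisting modules of the same degree on a relative `Proj` generated in degree one are
isomorphic. -/
theorem nonempty_iso_of_isRelTwist (hP : RelProj.IsRelProj 𝒮 p chart) (hgen : 𝒮.IsGenDegOne)
    {n : ℤ} {L L' : P.Modules}
    {lam : ∀ (U : Y.Opens) (hU : IsAffineOpen U),
      L ⟶ (Scheme.Modules.pushforward (RelProj.emb p chart U hU)).obj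
        (GrTwist.twist (𝒮.deg U hU) n)}
    {lam' : ∀ (U : Y.Opens) (hU : IsAffineOpen U),
      L' ⟶ (Scheme.Modules.pushforward (RelProj.emb p chart U hU)).obj
        (GrTwist.twist (𝒮.deg U hU) n)}
    (hL : RelProj.IsRelTwist 𝒮 p chart n L lam) (hL' : RelProj.IsRelTwist 𝒮 p chart n L' lam') :
    Nonempty (L ≅ L') := by
  obtain ⟨lam'', hL''⟩ := exists_lam_of_eq (add_zero n) hL'
  exact ⟨(rightUnitor L).symm ≪≫
    twistTensorIso lam (Groth.Agent.Lib.helper28.RelTwistZero.lam0 p chart) lam'' hP hL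
      (Groth.Agent.Lib.helper28.RelTwistZero.isRelTwist_lam0 hP) hL'' hgen⟩

/-- `O_P(1)^{⊗ k} ≅ O_P(k)` on a relative `Proj` generated in degree one. -/
theorem nonempty_tensorPow_iso (hP : RelProj.IsRelProj 𝒮 p chart) (hgen : 𝒮.IsGenDegOne)
    {L1 : P.Modules}
    {lam1 : ∀ (U : Y.Opens) (hU : IsAffineOpen U),
      L1 ⟶ (Scheme.Modules.pushforward (RelProj.emb p chart U hU)).obj
        (GrTwist.twist (𝒮.deg U hU) 1)}
    (h1 : RelProj.IsRelTwist 𝒮 p chart 1 L1 lam1) :
    ∀ (k : ℕ) {L : P.Modules}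
      {lam : ∀ (U : Y.Opens) (hU : IsAffineOpen U),
        L ⟶ (Scheme.Modules.pushforward (RelProj.emb p chart U hU)).obj
          (GrTwist.twist (𝒮.deg U hU) (k : ℤ))},
      RelProj.IsRelTwist 𝒮 p chart (k : ℤ) L lam → Nonempty (CohB1.tensorPow L1 k ≅ L) := by
  intro k
  induction k with
  | zero =>
    intro L lam hL
    obtain ⟨lam', hL'⟩ := exists_lam_of_eq (k := 0) (by simp) hL
    exact nonempty_iso_of_isRelTwist hP hgen
      (Groth.Agent.Lib.helper28.RelTwistZero.isRelTwist_lam0 hP) hL'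
  | succ k ih =>
    intro L lam hL
    obtain ⟨Lk, lamk, hLk⟩ :=
      Groth.Agent.Lib.helper28.RelTwistExists.exists_isRelTwist 𝒮 p chart hP (k : ℤ)
    obtain ⟨ek⟩ := ih hLk
    obtain ⟨lam'', hL''⟩ := exists_lam_of_eq (k := (k : ℤ) + 1) (by push_cast; ring) hL
    exact ⟨tensorIso ek (Iso.refl L1) ≪≫ twistTensorIso lamk lam1 lam'' hP hLk h1 hL'' hgen⟩

/-- Transfer of the epimorphy of the counit along an isomorphism. -/
theorem epi_counit_of_iso {A B : P.Modules} (e : A ≅ B)
    (h : Epi ((Scheme.Modules.pullbackPushforwardAdjunction p).counit.app A)) :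
    Epi ((Scheme.Modules.pullbackPushforwardAdjunction p).counit.app B) := by
  have hnat : (pushforward p ⋙ Scheme.Modules.pullback p).map e.hom ≫
      (Scheme.Modules.pullbackPushforwardAdjunction p).counit.app B =
      (Scheme.Modules.pullbackPushforwardAdjunction p).counit.app A ≫ e.hom :=
    (Scheme.Modules.pullbackPushforwardAdjunction p).counit.naturality e.hom
  have h2 : Epi ((Scheme.Modules.pullbackPushforwardAdjunction p).counit.app A ≫ e.hom) :=
    epi_comp _ _
  rw [← hnat] at h2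
  exact epi_of_epi ((pushforward p ⋙ Scheme.Modules.pullback p).map e.hom) _

/-- **Serre's generation theorem on a relative `Proj`** (EGA II 3.4.7-type): `Y` quasi-compact,
`𝒮` generated by `𝒮_1` of finite type, `F` quasi-coherent of finite type on `P = Proj 𝒮`.  For all
large `n`, `p^* p_* (F ⊗ O_P(n)) ⟶ F ⊗ O_P(n)` is an epimorphism. -/
theorem exists_epi_counit_twist [CompactSpace Y] (hP : RelProj.IsRelProj 𝒮 p chart)
    (hgen : 𝒮.IsGenDegOne) (hft : 𝒮.IsFTDeg 1) (F : P.Modules) (hF : Coh.IsCoh F) :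
    ∃ n₀ : ℕ, ∀ (n : ℕ), n₀ ≤ n → ∀ (L : P.Modules)
      (lam : ∀ (U : Y.Opens) (hU : IsAffineOpen U),
        L ⟶ (Scheme.Modules.pushforward (RelProj.emb p chart U hU)).obj
          (GrTwist.twist (𝒮.deg U hU) (n : ℤ))),
      RelProj.IsRelTwist 𝒮 p chart (n : ℤ) L lam →
        Epi ((Scheme.Modules.pullbackPushforwardAdjunction p).counit.app
          (CohB1.tensorMod F L)) := by
  obtain ⟨L1, lam1, h1⟩ :=
    Groth.Agent.Lib.helper28.RelTwistExists.exists_isRelTwist 𝒮 p chart hP 1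
  have hamp := Groth.Agent.Lib.helper12.RelProjAmple.isRelAmple_relTwist 𝒮 hgen hft p chart hP
    L1 lam1 h1
  obtain ⟨N, hN⟩ := Groth.Agent.Lib.helper11.CounitEpi.exists_epi_counit_twist p L1 hamp F hF
  refine ⟨N, fun n hn L lam hL => ?_⟩
  obtain ⟨e⟩ := nonempty_tensorPow_iso hP hgen h1 n hL
  exact epi_counit_of_iso (tensorIso (Iso.refl F) e) (hN n hn)

end

end Groth.Agent.Lib.helper28.RelSerreGen
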