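import Groth.Agent.Lib.Helper28.RelSerreGen
import Groth.Agent.Lib.Helper28.RelTwistInvertible
import Groth.Agent.Lib.Helper11.SerreGG
import Groth.Agent.Lib.Helper28.SecEpi
import Groth.Agent.Lib.Helper16.QCAlg2
import Groth.Agent.Lib.Helper7.QCohPushQC
import Groth.Agent.Lib.Helper12.TensorCocont
import Groth.Agent.S8259

/-!
# Serre's quotient theorem on a relative `Proj` generated in degree one (helper28; EGA II 3.4.8-type)

* `adjMap p i : p^* G ⟶ A` for `i : G ⟶ p_* A`; `mem_range_adjMap`.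
* `GenOn A Ω T`: the sections `T i` of `A` over `Ω` generate `A` at every point of `Ω`;
  `genOn_of_genAtBy` (from helper11's `GenAtBy` on the open subscheme `Ω`);
  `exists_finite_genOn`: `L|_{p⁻¹ V}` ample, `F` coherent: `F ⊗ L^n` is generated over `p⁻¹ V` by
  finitely many sections, `n ≫ 0`.
* `exists_ft_epi`: `Y` qcqs, `p` qcqs, `A` quasi-coherent generated over each `p⁻¹ U` (`U` in a
  finite affine cover) by finitely many sections: there is a finite type quasi-coherent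
  `G ⊆ p_* A` with `p^* G ⟶ A` an epimorphism.
* `exists_quotient`: on `P = Proj 𝒮` (`𝒮` generated by `𝒮_1` of finite type, `Y` qcqs), every
  finite type quasi-coherent `F` is a quotient of `p^* G ⊗ O_P(-n)`, `G` of finite type, `n ≫ 0`.
-/

set_option autoImplicit false
set_option linter.style.haveILetI false
universe u
open CategoryTheory CategoryTheory.Limits AlgebraicGeometry TopologicalSpace Opposite
open Scheme.Modules

namespace Groth.Agent.Lib.helper28.RelSerreQuot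

open Groth.Agent.Lib.helper11.SerreGG Groth.Agent.Lib.helper12.TwistExtend

noncomputable section


variable {P Y : Scheme.{u}} (p : P ⟶ Y)

/-- The adjoint `p^* G ⟶ A` of `i : G ⟶ p_* A`. -/
def adjMap {G : Y.Modules} {A : P.Modules} (i : G ⟶ (pushforward p).obj A) :
    (Scheme.Modules.pullback p).obj G ⟶ A :=
  ((pullbackPushforwardAdjunction p).homEquiv G A).symm i

theorem mem_range_adjMap {G : Y.Modules} {A : P.Modules} (i : G ⟶ (pushforward p).obj A)
    (V : Y.Opens) (g : Γ(G, V)) :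
    (i.app V) g ∈ Set.range ((adjMap p i).app (p ⁻¹ᵁ V)) := by
  have h1 : i = (pullbackPushforwardAdjunction p).unit.app G ≫
      (pushforward p).map (adjMap p i) := by
    have h2 := (pullbackPushforwardAdjunction p).homEquiv_unit (f := adjMap p i)
    rw [← h2]
    exact (Equiv.apply_symm_apply _ _).symm
  refine ⟨((pullbackPushforwardAdjunction p).unit.app G).app V g, ?_⟩
  conv_rhs => rw [h1]
  rfl




variable {P : Scheme.{u}}

/-- Local generation by finitely many sections over an open `Ω`, in terms of the module on `P`. -/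
def GenOn (A : P.Modules) (Ω : P.Opens) {ι : Type*} (T : ι → A.val.obj (op Ω)) : Prop :=
  ∀ y ∈ Ω, ∀ (V' : P.Opens) (σ : A.val.obj (op V')), y ∈ V' →
    ∃ (W : P.Opens) (hW : W ≤ V') (hWΩ : W ≤ Ω), y ∈ W ∧
      res A hW σ ∈ Submodule.span (P.ringCatSheaf.obj.obj (op W))
        (Set.range fun i => res A hWΩ (T i))

theorem genOn_of_genAtBy (A : P.Modules) (Ω : P.Opens) {ι : Type*}
    (T : ι → (A.restrict Ω.ι).val.obj (op ⊤))
    (h : ∀ y : (Ω : Scheme.{u}), GenAtBy (A.restrict Ω.ι) T y) :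
    GenOn A Ω (fun i => A.val.map (eqToHom (show Ω = Ω.ι ''ᵁ ⊤ by simp)).op (T i)) := by
  intro y hy V' σ hyV'
  have hle : Ω.ι ''ᵁ (Ω.ι ⁻¹ᵁ V') ≤ V' := by
    rw [Scheme.Hom.image_preimage_eq_opensRange_inf]
    exact inf_le_right
  obtain ⟨W'', hW'', hyW'', hmem⟩ := h ⟨y, hy⟩ (Ω.ι ⁻¹ᵁ V') (res A hle σ) hyV'
  have hWΩ : Ω.ι ''ᵁ W'' ≤ Ω := by
    intro z hz
    obtain ⟨w, -, rfl⟩ := hz
    exact w.2
  refine ⟨Ω.ι ''ᵁ W'', (Scheme.Hom.image_mono _ hW'').trans hle, hWΩ, ⟨⟨y, hy⟩, hyW'', rfl⟩, ?_⟩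
  have hres : res A ((Scheme.Hom.image_mono _ hW'').trans hle) σ =
      res (A.restrict Ω.ι) hW'' (res A hle σ) := by
    change _ = res A (Scheme.Hom.image_mono _ hW'') (res A hle σ)
    rw [res_res]
  rw [hres]
  have key : ∀ x : (A.restrict Ω.ι).val.obj (op W''), x ∈ gsubBy (A.restrict Ω.ι) T W'' →
      (show A.val.obj (op (Ω.ι ''ᵁ W'')) from x) ∈
        Submodule.span (P.ringCatSheaf.obj.obj (op (Ω.ι ''ᵁ W'')))
        (Set.range fun i => res A hWΩ
          (A.val.map (eqToHom (show Ω = Ω.ι ''ᵁ ⊤ by simp)).op (T i))) := by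
    intro x hx
    unfold gsubBy at hx
    induction hx using Submodule.span_induction with
    | mem x hx =>
      obtain ⟨i, rfl⟩ := hx
      refine Submodule.subset_span ⟨i, ?_⟩
      change res A hWΩ (res A (le_of_eq (show Ω = Ω.ι ''ᵁ ⊤ by simp)).ge (T i)) = _
      rw [res_res]
      rfl
    | zero => exact Submodule.zero_mem _
    | add x z _ _ hx hz => exact Submodule.add_mem _ hx hz
    | smul r x _ hx =>
      exact Submodule.smul_mem _ ((Ω.ι.appIso W'').inv.hom r) hx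
  exact key _ hmem




variable {P Y : Scheme.{u}} (p : P ⟶ Y)

theorem exists_finite_genOn (L : P.Modules) (V : Y.Opens)
    (hamp : CohB1.IsAmple (L.restrict (p ⁻¹ᵁ V).ι)) (F : P.Modules) (hF : Coh.IsCoh F) :
    ∃ N : ℕ, ∀ n : ℕ, N ≤ n → ∃ (ι : Type u) (_ : Finite ι)
      (T : ι → (CohB1.tensorMod F (CohB1.tensorPow L n)).val.obj (op (p ⁻¹ᵁ V))),
      GenOn (CohB1.tensorMod F (CohB1.tensorPow L n)) (p ⁻¹ᵁ V) T := by
  have hqs : QuasiSeparatedSpace ((p ⁻¹ᵁ V : P.Opens) : Scheme.{u}) :=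
    Groth.Agent.Lib.helper12.AmpleBasis.quasiSeparatedSpace_of_hasAffineCover hamp.1 hamp.2.2
  obtain ⟨N, hN⟩ := exists_finite_genAtBy_twist hamp
    (F.restrict (p ⁻¹ᵁ V).ι) (Groth.Agent.Lib.helper11.CounitEpi.isCoh_restrict hF _)
  refine ⟨N, fun n hn => ?_⟩
  obtain ⟨ι, hι, T, hT⟩ := hN n hn
  let e : (CohB1.tensorMod F (CohB1.tensorPow L n)).restrict (p ⁻¹ᵁ V).ι ≅
      CohB1.tensorMod (F.restrict (p ⁻¹ᵁ V).ι)
        (CohB1.tensorPow (L.restrict (p ⁻¹ᵁ V).ι) n) :=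
    Groth.Agent.Lib.helper12.TensorRestrict.restrictTensorIso (p ⁻¹ᵁ V).ι F (CohB1.tensorPow L n) ≪≫
      PicGrp.tensorModIso (Iso.refl _)
        (Groth.Agent.Lib.helper12.AmplePow.restrictTensorPowIso (p ⁻¹ᵁ V).ι L n)
  exact ⟨ι, hι, _, genOn_of_genAtBy _ _ _ (fun y => genAtBy_of_iso e.symm (hT y))⟩

theorem exists_ft_epi [CompactSpace Y] [QuasiSeparatedSpace Y] [QuasiCompact p] [QuasiSeparated p]
    (A : P.Modules) [A.IsQuasicoherent]
    (S : Finset Y.affineOpens) (hS : ∀ y : Y, ∃ U ∈ S, y ∈ U.1)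
    (hT : ∀ U ∈ S, ∃ (ι : Type u) (_ : Finite ι) (T : ι → A.val.obj (op (p ⁻¹ᵁ U.1))),
      GenOn A (p ⁻¹ᵁ U.1) T) :
    ∃ (G : Y.Modules) (i : G ⟶ (pushforward p).obj A), Mono i ∧ G.IsQuasicoherent ∧
      CohB1.IsFT G ∧ Epi (adjMap p i) := by
  classical
  haveI hq : ((pushforward p).obj A).IsQuasicoherent :=
    Groth.Agent.Lib.helper7.QCohPushQC.isQuasicoherent_pushforward p A
  choose ι hι T hgen using hT
  let T' : ∀ U : Y.affineOpens, Finset Γ((pushforward p).obj A, U.1) := fun U =>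
    if h : U ∈ S then
      haveI := hι U h
      (Set.finite_range
        (fun i => (show Γ((pushforward p).obj A, U.1) from T U h i))).toFinset
    else ∅
  obtain ⟨G, i, hm, hqG, hft, hmem⟩ :=
    Groth.Agent.Lib.helper16.Satur.exists_ft_sub_sections_family ((pushforward p).obj A) S T'
  refine ⟨G, i, hm, hqG, hft, ?_⟩
  refine Groth.Agent.Lib.helper28.SecEpi.epi_of_locally_surjective _ fun V' s y hy => ?_
  obtain ⟨U, hU, hyU⟩ := hS (p y)
  obtain ⟨W, hW, hWΩ, hyW, hspan⟩ := hgen U hU y hyU V' s hy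
  refine ⟨W, hW, hyW, ?_⟩
  have hle : Submodule.span (P.ringCatSheaf.obj.obj (op W))
      (Set.range fun j => res A hWΩ (T U hU j)) ≤
      LinearMap.range ((adjMap p i).val.app (op W)).hom := by
    rw [Submodule.span_le]
    rintro _ ⟨j, rfl⟩
    have h1 : (show Γ((pushforward p).obj A, U.1) from T U hU j) ∈ T' U := by
      simp only [T', dif_pos hU]
      rw [Set.Finite.mem_toFinset]
      exact ⟨j, rfl⟩
    obtain ⟨g, hg⟩ := hmem U hU _ h1
    obtain ⟨z, hz⟩ := mem_range_adjMap p i U.1 g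
    refine ⟨res _ hWΩ z, ?_⟩
    have hnat := Groth.Agent.Lib.helper12.TwistExtend.res_app (adjMap p i) hWΩ z
    refine hnat.symm.trans ?_
    have hzg : (((adjMap p i).val.app (op (p ⁻¹ᵁ U.1))).hom z : A.val.obj (op (p ⁻¹ᵁ U.1))) =
        T U hU j := hz.trans hg
    rw [hzg]
  obtain ⟨t, ht⟩ := hle hspan
  exact ⟨t, ht⟩

theorem exists_finite_affine_cover (Y : Scheme.{u}) [CompactSpace Y] :
    ∃ S : Finset Y.affineOpens, ∀ y : Y, ∃ U ∈ S, y ∈ U.1 := by
  obtain ⟨S, hS⟩ := isCompact_univ.elim_finite_subcover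
    (fun U : Y.affineOpens => ((U.1 : Y.Opens) : Set Y)) (fun U => U.1.2) (by
      intro y _
      obtain ⟨_, ⟨U, hU, rfl⟩, hyU, -⟩ := Y.isBasis_affineOpens.exists_subset_of_mem_open
        (Set.mem_univ y) isOpen_univ
      exact Set.mem_iUnion.mpr ⟨⟨U, hU⟩, hyU⟩)
  refine ⟨S, fun y => ?_⟩
  have := hS (Set.mem_univ y)
  simpa using this

open Groth.Agent.Lib.Lead.ModTensor Groth.Agent.Lib.helper28.RelTwistTensor
  Groth.Agent.Lib.helper28.RelSerreGen in
/-- **Serre's quotient theorem on a relative `Proj`**: `Y` quasi-compact quasi-separated, `𝒮`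
generated by `𝒮_1` of finite type, `F` quasi-coherent of finite type on `P = Proj 𝒮`.  For all
large `n`, `F` is a quotient of `p^* G ⊗ O_P(-n)` with `G` quasi-coherent of finite type. -/
theorem exists_quotient {𝒮 : RelProj.QCGrAlg Y}
    {chart : ∀ (U : Y.Opens) (hU : IsAffineOpen U),
      (((p ⁻¹ᵁ U : P.Opens) : Scheme.{u}) ≅ Proj (𝒮.deg U hU))}
    [CompactSpace Y] [QuasiSeparatedSpace Y] (hP : RelProj.IsRelProj 𝒮 p chart)
    (hgen : 𝒮.IsGenDegOne) (hft : 𝒮.IsFTDeg 1) (F : P.Modules) (hF : Coh.IsCoh F) :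
    ∃ n₀ : ℕ, ∀ (n : ℕ), n₀ ≤ n → ∀ (L : P.Modules)
      (lam : ∀ (U : Y.Opens) (hU : IsAffineOpen U),
        L ⟶ (Scheme.Modules.pushforward (RelProj.emb p chart U hU)).obj
          (GrTwist.twist (𝒮.deg U hU) (-(n : ℤ)))),
      RelProj.IsRelTwist 𝒮 p chart (-(n : ℤ)) L lam →
        ∃ (G : Y.Modules) (π : CohB1.tensorMod ((Scheme.Modules.pullback p).obj G) L ⟶ F),
          Coh.IsQCoh G ∧ CohB1.IsFT G ∧ Epi π := by
  classical
  obtain ⟨L1, lam1, h1⟩ :=
    Groth.Agent.Lib.helper28.RelTwistExists.exists_isRelTwist 𝒮 p chart hP 1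
  have hamp := Groth.Agent.Lib.helper12.RelProjAmple.isRelAmple_relTwist 𝒮 hgen hft p chart hP
    L1 lam1 h1
  haveI hqc : QuasiCompact p := hamp.1
  haveI hsep : IsSeparated p := Groth.Agent.S8259.result 𝒮 p chart hP
  have hinv : PicF.IsInvertible L1 :=
    Groth.Agent.Lib.helper28.RelTwistInvertible.isInvertible lam1 hgen h1
  obtain ⟨S, hS⟩ := exists_finite_affine_cover Y
  have hloc := fun U : Y.affineOpens => exists_finite_genOn p L1 U.1 (hamp.2 U) F hF
  choose N hN using hloc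
  refine ⟨S.sup N, fun n hn L lam hL => ?_⟩
  haveI hAq : (CohB1.tensorMod F (CohB1.tensorPow L1 n)).IsQuasicoherent :=
    (isCoh_twist hinv hF n).1
  obtain ⟨G, i, -, hGq, hGft, hepi⟩ := exists_ft_epi p (CohB1.tensorMod F (CohB1.tensorPow L1 n))
    S hS (fun U hU => hN U n (le_trans (Finset.le_sup hU) hn))
  obtain ⟨Ln, lamn, hLn⟩ :=
    Groth.Agent.Lib.helper28.RelTwistExists.exists_isRelTwist 𝒮 p chart hP (n : ℤ)
  obtain ⟨e⟩ := nonempty_tensorPow_iso hP hgen h1 n hLn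
  obtain ⟨lam0', h0'⟩ := exists_lam_of_eq (k := (n : ℤ) + -(n : ℤ)) (by ring)
    (Groth.Agent.Lib.helper28.RelTwistZero.isRelTwist_lam0 hP)
  let ε : CohB1.tensorMod (CohB1.tensorMod F (CohB1.tensorPow L1 n)) L ≅ F :=
    assoc F (CohB1.tensorPow L1 n) L ≪≫
      tensorIso (Iso.refl F) (tensorIso e (Iso.refl L) ≪≫
        twistTensorIso lamn lam lam0' hP hLn hL h0' hgen) ≪≫ rightUnitor F
  haveI := hepi
  haveI : Epi (tensorMap (adjMap p i) (𝟙 L)) :=
    Groth.Agent.Lib.helper12.TensorCocont.epi_tensorMap_right L (adjMap p i)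
  exact ⟨G, tensorMap (adjMap p i) (𝟙 L) ≫ ε.hom, hGq, hGft, epi_comp _ _⟩


end

end Groth.Agent.Lib.helper28.RelSerreQuot
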