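import Groth.Agent.Lib.Helper28.RelSpecMap
import Groth.Prelude.Def_RelProj4

set_option autoImplicit false

universe u

/-! Base change of relative spectra: `Spec(g^*A) = Spec(A) ×_S S'` (helper28). -/

namespace Groth.Agent.Lib.helper28.RelSpecBC

open CategoryTheory CategoryTheory.Limits AlgebraicGeometry TopologicalSpace Opposite
open Groth.Agent.Lib.helper28.RelSpecMap

variable {S S' : Scheme.{u}}

/-- The chart `Spec A(U)` of a relative spectrum is the preimage of `U`. -/
theorem isPullback_ι_π (A : RelSpec.QCAlg S) (U : S.Opens) (hU : IsAffineOpen U) :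
    IsPullback (A.ι U hU) (Spec.map (A.str.app (op U))) A.π hU.fromSpec := by
  have h2 := A.glueData.isPullback_natTrans_ι_toBase ⟨U, hU⟩
  have e : A.glueData.natTrans.app ⟨U, hU⟩ = Spec.map (A.str.app (op U)) ≫ hU.isoSpec.inv := rfl
  have h1 : IsPullback (Spec.map (A.str.app (op U))) (𝟙 _) hU.isoSpec.inv
      (A.glueData.natTrans.app ⟨U, hU⟩) :=
    IsPullback.of_vert_isIso ⟨by rw [e, Category.id_comp]⟩
  have h3 := h1.paste_vert h2
  rw [Category.id_comp] at h3
  exact h3.flip

theorem isPullback_of_isQBaseChange (g : S' ⟶ S) (A : RelSpec.QCAlg S) (B : RelSpec.QCAlg S')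
    (u : RelSpec.QHom g A B) (hu : RelSpec.IsQBaseChange u)
    (h : B.spec ⟶ A.spec) (hh : RelSpec.IsSpecQMap u h) :
    IsPullback h B.π A.π g := by
  let 𝒰 : S'.OpenCover := {
    I₀ := Pair g, X P := Spec Γ(S', P.U'), f P := P.hU'.fromSpec,
    mem₀ := by
      rw [Scheme.presieve₀_mem_precoverage_iff]
      refine ⟨fun x ↦ ?_, fun P => inferInstance⟩
      obtain ⟨U, hU, hyU⟩ : ∃ U : S.Opens, IsAffineOpen U ∧ g.base x ∈ U := by
        obtain ⟨_, ⟨U, hU, rfl⟩, hxU, -⟩ := S.isBasis_affineOpens.exists_subset_of_mem_open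
          (Set.mem_univ (g.base x)) isOpen_univ
        exact ⟨U, hU, hxU⟩
      obtain ⟨_, ⟨U', hU', rfl⟩, hxU', hle⟩ := S'.isBasis_affineOpens.exists_subset_of_mem_open
        (show x ∈ ((g ⁻¹ᵁ U : S'.Opens) : Set S') from hyU) (g ⁻¹ᵁ U).isOpen
      refine ⟨⟨U, U', hU, hU', hle⟩, ?_⟩
      change x ∈ Set.range hU'.fromSpec.base
      rw [hU'.range_fromSpec]
      exact hxU' }
  refine (Scheme.isPullback_of_openCover B.π h g A.π 𝒰 ?_).flip
  intro P
  have sqA := isPullback_ι_π A P.U P.hU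
  have sqR := (isPullback_SpecMap_of_isPushout _ _ _ _ (hu P.U P.hU P.U' P.hU' P.hle)).flip
  have sq := sqR.paste_horiz sqA
  rw [← hh P.U P.hU P.U' P.hU' P.hle, IsAffineOpen.SpecMap_appLE_fromSpec g P.hU P.hU' P.hle] at sq
  have sqB := isPullback_ι_π B P.U' P.hU'
  refine IsPullback.of_iso sq.flip sqB.isoPullback (Iso.refl _) (Iso.refl _) (Iso.refl _)
    ?_ ?_ ?_ ?_
  · change _ = sqB.isoPullback.hom ≫ pullback.snd B.π P.hU'.fromSpec
    rw [sqB.isoPullback_hom_snd]
    exact Category.comp_id _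
  · change _ = sqB.isoPullback.hom ≫ pullback.fst B.π P.hU'.fromSpec ≫ h
    rw [← Category.assoc, sqB.isoPullback_hom_fst]
    exact Category.comp_id _
  · exact (Category.comp_id _).trans (Category.id_comp _).symm
  · exact (Category.comp_id _).trans (Category.id_comp _).symm

end Groth.Agent.Lib.helper28.RelSpecBC
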