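import Groth.Agent.Lib.Helper28.RelTildeMap
import Groth.Agent.Lib.Helper28.GMTildeInjSurj
import Groth.Agent.Lib.Helper28.GMTildeTN
import Groth.Agent.Lib.Helper28.RestrictCover
import Groth.Agent.Lib.Helper7.QCohExact

/-!
# Exactness properties of `ℳ ↦ (ℳ(n))~` on a relative Proj (helper28)
-/

set_option autoImplicit false
set_option linter.style.haveILetI false
universe u
open CategoryTheory CategoryTheory.Limits AlgebraicGeometry TopologicalSpace Opposite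
open Scheme.Modules

namespace Groth.Agent.Lib.helper28.RelTildeExact

open Groth.Agent.Lib.helper28.RelTwistChart Groth.Agent.Lib.helper2
  Groth.Agent.Lib.helper28.RelTildeMap

variable {Y P : Scheme.{u}} {𝒮 : RelProj.QCGrAlg Y} (p : P ⟶ Y)
  (chart : ∀ (U : Y.Opens) (hU : IsAffineOpen U),
    (((p ⁻¹ᵁ U : P.Opens) : Scheme.{u}) ≅ Proj (𝒮.deg U hU)))

variable (𝒮) in
/-- Index set of the standard affine cover of the relative Proj. -/
structure CoverIdx where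
  U : Y.Opens
  hU : IsAffineOpen U
  f : 𝒮.presheaf.obj (op U)
  d : ℕ
  hd : 0 < d
  hf : f ∈ 𝒮.deg U hU d

/-- The standard affine opens `emb_U(D₊(f))`. -/
def cov (i : CoverIdx 𝒮) : P.Opens :=
  (RelProj.emb p chart i.U i.hU) ''ᵁ (Proj.basicOpen (𝒮.deg i.U i.hU) i.f)

theorem isAffineOpen_cov (i : CoverIdx 𝒮) : IsAffineOpen (cov p chart i) :=
  (Proj.isAffineOpen_basicOpen (𝒮.deg i.U i.hU) i.f i.hf i.hd).image_of_isOpenImmersion _

theorem exists_mem_cov (x : P) : ∃ i : CoverIdx 𝒮, x ∈ cov p chart i := by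
  obtain ⟨⟨U, hU⟩, z, rfl⟩ := exists_mem_range_emb p chart x
  obtain ⟨e, g, he, hg, hgz⟩ := Groth.Agent.Lib.helper28.GMTildeTN.exists_pos_notMem (𝒮.deg U hU) z
  exact ⟨⟨U, hU, g, e, he, hg⟩, z, (ProjectiveSpectrum.mem_basicOpen _ g z).mpr hgz, rfl⟩

theorem cov_le (i : CoverIdx 𝒮) : cov p chart i ≤ p ⁻¹ᵁ i.U := image_emb_le p chart i.U i.hU _

theorem preimage_cov (i : CoverIdx 𝒮) :
    RelProj.emb p chart i.U i.hU ⁻¹ᵁ cov p chart i = Proj.basicOpen (𝒮.deg i.U i.hU) i.f :=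
  (RelProj.emb p chart i.U i.hU).preimage_image_eq _

variable {p chart}

/-- Quasi-coherence of `(ℳ(n))~`. -/
theorem isQuasicoherent {ℳ : RelProj.GrModule 𝒮} {n : ℤ} {F : P.Modules}
    (lam : ∀ (U : Y.Opens) (hU : IsAffineOpen U),
      F ⟶ (Scheme.Modules.pushforward (RelProj.emb p chart U hU)).obj
        (GrMod.tilde (𝒮.deg U hU) (ℳ.deg U hU) n))
    (hF : RelProj.IsRelTilde 𝒮 p chart ℳ n F lam) : F.IsQuasicoherent := by
  have : ∀ i : {U : Y.Opens // IsAffineOpen U}, IsOpenImmersion (RelProj.emb p chart i.1 i.2) :=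
    fun i => RelProj.isOpenImmersion_emb p chart i.1 i.2
  refine Groth.Agent.Lib.helper28.RestrictCover.isQuasicoherent_of_restrict_cover F
    (ι := {U : Y.Opens // IsAffineOpen U}) (fun i => Proj (𝒮.deg i.1 i.2))
    (fun i => RelProj.emb p chart i.1 i.2)
    (Groth.Agent.Lib.helper28.RelTwistChart.exists_mem_range_emb p chart) (fun i => ?_)
  exact (SheafOfModules.isQuasicoherent (Proj (𝒮.deg i.1 i.2)).ringCatSheaf).prop_of_iso
    (Groth.Agent.Lib.helper28.RelTwistChart.adjIso (RelProj.emb p chart i.1 i.2) (lam i.1 i.2)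
      (fun V => hF.bijective i.1 i.2 _
        (Groth.Agent.Lib.helper28.RelTwistChart.image_emb_le p chart i.1 i.2 V))).symm
    (Groth.Agent.Lib.helper28.GMTildeQCoh.tilde_isQuasicoherent (𝒮.deg i.1 i.2) (ℳ.deg i.1 i.2) n)

section Transfer

variable {ℳ 𝒩 : RelProj.GrModule 𝒮} (u : ℳ.mod ⟶ 𝒩.mod) (hu : RelProj.IsGrModHom u)
  {n : ℤ} {F G : P.Modules}
  (lam : ∀ (U : Y.Opens) (hU : IsAffineOpen U),
    F ⟶ (Scheme.Modules.pushforward (RelProj.emb p chart U hU)).obj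
      (GrMod.tilde (𝒮.deg U hU) (ℳ.deg U hU) n))
  (lam' : ∀ (U : Y.Opens) (hU : IsAffineOpen U),
    G ⟶ (Scheme.Modules.pushforward (RelProj.emb p chart U hU)).obj
      (GrMod.tilde (𝒮.deg U hU) (𝒩.deg U hU) n))
  (ut : F ⟶ G)
  (hut : ∀ (U : Y.Opens) (hU : IsAffineOpen U), ut ≫ lam' U hU =
    lam U hU ≫ (Scheme.Modules.pushforward (RelProj.emb p chart U hU)).map
      (GrMod.map (𝒮.deg U hU) (uU u U) (hu U hU) n))

include hut in
/-- Sectionwise form of the pinning of `ũ`. -/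
theorem lam_ut (U : Y.Opens) (hU : IsAffineOpen U) (W : P.Opens) (s : Γ(F, W)) :
    (lam' U hU).app W (ut.app W s) =
      (GrMod.map (𝒮.deg U hU) (uU u U) (hu U hU) n).app (RelProj.emb p chart U hU ⁻¹ᵁ W)
        ((lam U hU).app W s) := by
  have h1 := hut U hU
  exact congr(($h1).app W s)

include hut in
theorem injective_ut_app (hF : RelProj.IsRelTilde 𝒮 p chart ℳ n F lam)
    (hinj : ∃ n₀ : ℕ, ∀ (U : Y.Opens) (hU : IsAffineOpen U) (k : ℕ), n₀ ≤ k →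
      ∀ m ∈ ℳ.deg U hU k, (u.val.app (op U)).hom m = 0 → m = 0) (i : CoverIdx 𝒮) :
    Function.Injective (ut.app (cov p chart i)).hom := by
  obtain ⟨n₀, hn₀⟩ := hinj
  have hA := Groth.Agent.Lib.helper28.GMTildeInjSurj.injective_app_basicOpen (𝒮.deg i.U i.hU)
    (ℳ.deg i.U i.hU) (𝒩.deg i.U i.hU) (uU u i.U) (hu i.U i.hU) ⟨n₀, hn₀ i.U i.hU⟩ n i.hd i.f i.hf
    _ (preimage_cov p chart i)
  intro s s' hss
  apply (hF.bijective i.U i.hU _ (cov_le p chart i)).1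
  apply hA
  rw [← lam_ut u hu lam lam' ut hut, ← lam_ut u hu lam lam' ut hut]
  exact congrArg _ hss

include hut in
theorem surjective_ut_app (hF : RelProj.IsRelTilde 𝒮 p chart ℳ n F lam)
    (hG : RelProj.IsRelTilde 𝒮 p chart 𝒩 n G lam')
    (hsurj : ∃ n₀ : ℕ, ∀ (U : Y.Opens) (hU : IsAffineOpen U) (k : ℕ), n₀ ≤ k →
      ∀ m' ∈ 𝒩.deg U hU k, ∃ m ∈ ℳ.deg U hU k, (u.val.app (op U)).hom m = m') (i : CoverIdx 𝒮) :
    Function.Surjective (ut.app (cov p chart i)).hom := by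
  obtain ⟨n₀, hn₀⟩ := hsurj
  have hA := Groth.Agent.Lib.helper28.GMTildeInjSurj.surjective_app_basicOpen (𝒮.deg i.U i.hU)
    (ℳ.deg i.U i.hU) (𝒩.deg i.U i.hU) (uU u i.U) (hu i.U i.hU) ⟨n₀, hn₀ i.U i.hU⟩ n i.hd i.f i.hf
    _ (preimage_cov p chart i)
  intro t
  obtain ⟨σ, hσ⟩ := hA ((lam' i.U i.hU).app (cov p chart i) t)
  obtain ⟨s, rfl⟩ := (hF.bijective i.U i.hU _ (cov_le p chart i)).2 σ
  refine ⟨s, (hG.bijective i.U i.hU _ (cov_le p chart i)).1 ?_⟩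
  exact (lam_ut u hu lam lam' ut hut i.U i.hU _ s).trans hσ

end Transfer

section Conclusions

variable {ℳ 𝒩 : RelProj.GrModule 𝒮} (u : ℳ.mod ⟶ 𝒩.mod) (hu : RelProj.IsGrModHom u)
  {n : ℤ} {F G : P.Modules}
  (lam : ∀ (U : Y.Opens) (hU : IsAffineOpen U),
    F ⟶ (Scheme.Modules.pushforward (RelProj.emb p chart U hU)).obj
      (GrMod.tilde (𝒮.deg U hU) (ℳ.deg U hU) n))
  (lam' : ∀ (U : Y.Opens) (hU : IsAffineOpen U),
    G ⟶ (Scheme.Modules.pushforward (RelProj.emb p chart U hU)).obj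
      (GrMod.tilde (𝒮.deg U hU) (𝒩.deg U hU) n))
  (ut : F ⟶ G)
  (hut : ∀ (U : Y.Opens) (hU : IsAffineOpen U), ut ≫ lam' U hU =
    lam U hU ≫ (Scheme.Modules.pushforward (RelProj.emb p chart U hU)).map
      (GrMod.map (𝒮.deg U hU) (uU u U) (hu U hU) n))

include hut in
/-- A (TN)-injective graded homomorphism induces a monomorphism. -/
theorem mono_ut (hF : RelProj.IsRelTilde 𝒮 p chart ℳ n F lam)
    (hG : RelProj.IsRelTilde 𝒮 p chart 𝒩 n G lam')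
    (hinj : ∃ n₀ : ℕ, ∀ (U : Y.Opens) (hU : IsAffineOpen U) (k : ℕ), n₀ ≤ k →
      ∀ m ∈ ℳ.deg U hU k, (u.val.app (op U)).hom m = 0 → m = 0) : Mono ut := by
  haveI := isQuasicoherent lam hF
  haveI := isQuasicoherent lam' hG
  exact Groth.Agent.Lib.helper7.KerSections.mono_of_injective_cover ut (cov p chart)
    (isAffineOpen_cov p chart) (exists_mem_cov p chart)
    (injective_ut_app u hu lam lam' ut hut hF hinj)

include hut in
/-- A (TN)-surjective graded homomorphism induces an epimorphism. -/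
theorem epi_ut (hF : RelProj.IsRelTilde 𝒮 p chart ℳ n F lam)
    (hG : RelProj.IsRelTilde 𝒮 p chart 𝒩 n G lam')
    (hsurj : ∃ n₀ : ℕ, ∀ (U : Y.Opens) (hU : IsAffineOpen U) (k : ℕ), n₀ ≤ k →
      ∀ m' ∈ 𝒩.deg U hU k, ∃ m ∈ ℳ.deg U hU k, (u.val.app (op U)).hom m = m') : Epi ut := by
  haveI := isQuasicoherent lam hF
  haveI := isQuasicoherent lam' hG
  exact Groth.Agent.Lib.helper7.KerSections.epi_of_surjective_cover ut (cov p chart)
    (isAffineOpen_cov p chart) (exists_mem_cov p chart)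
    (surjective_ut_app u hu lam lam' ut hut hF hG hsurj)

end Conclusions

section Exact

variable {ℳ₁ ℳ₂ ℳ₃ : RelProj.GrModule 𝒮} (u : ℳ₁.mod ⟶ ℳ₂.mod) (hu : RelProj.IsGrModHom u)
  (v : ℳ₂.mod ⟶ ℳ₃.mod) (hv : RelProj.IsGrModHom v)
  {n : ℤ} {F₁ F₂ F₃ : P.Modules}
  (lam₁ : ∀ (U : Y.Opens) (hU : IsAffineOpen U),
    F₁ ⟶ (Scheme.Modules.pushforward (RelProj.emb p chart U hU)).obj
      (GrMod.tilde (𝒮.deg U hU) (ℳ₁.deg U hU) n))
  (lam₂ : ∀ (U : Y.Opens) (hU : IsAffineOpen U),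
    F₂ ⟶ (Scheme.Modules.pushforward (RelProj.emb p chart U hU)).obj
      (GrMod.tilde (𝒮.deg U hU) (ℳ₂.deg U hU) n))
  (lam₃ : ∀ (U : Y.Opens) (hU : IsAffineOpen U),
    F₃ ⟶ (Scheme.Modules.pushforward (RelProj.emb p chart U hU)).obj
      (GrMod.tilde (𝒮.deg U hU) (ℳ₃.deg U hU) n))
  (ut : F₁ ⟶ F₂)
  (hut : ∀ (U : Y.Opens) (hU : IsAffineOpen U), ut ≫ lam₂ U hU =
    lam₁ U hU ≫ (Scheme.Modules.pushforward (RelProj.emb p chart U hU)).map
      (GrMod.map (𝒮.deg U hU) (uU u U) (hu U hU) n))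
  (vt : F₂ ⟶ F₃)
  (hvt : ∀ (U : Y.Opens) (hU : IsAffineOpen U), vt ≫ lam₃ U hU =
    lam₂ U hU ≫ (Scheme.Modules.pushforward (RelProj.emb p chart U hU)).map
      (GrMod.map (𝒮.deg U hU) (uU v U) (hv U hU) n))

include hut hvt in
/-- Exactness of `ℳ ↦ (ℳ(n))~`. -/
theorem exact_ut_vt (hF₁ : RelProj.IsRelTilde 𝒮 p chart ℳ₁ n F₁ lam₁)
    (hF₂ : RelProj.IsRelTilde 𝒮 p chart ℳ₂ n F₂ lam₂)
    (hF₃ : RelProj.IsRelTilde 𝒮 p chart ℳ₃ n F₃ lam₃)
    (hex : ∀ (U : Y.Opens) (hU : IsAffineOpen U),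
      Function.Exact (u.val.app (op U)).hom (v.val.app (op U)).hom)
    (w : ut ≫ vt = 0) : (ShortComplex.mk ut vt w).Exact := by
  haveI := isQuasicoherent lam₁ hF₁
  haveI := isQuasicoherent lam₂ hF₂
  haveI := isQuasicoherent lam₃ hF₃
  refine Groth.Agent.Lib.helper7.QCohExact.exact_of_cover ut vt w (cov p chart)
    (isAffineOpen_cov p chart) (exists_mem_cov p chart) (fun i b hb => ?_)
  have hA := Groth.Agent.Lib.helper28.GMTildeInjSurj.exact_app_basicOpen' (𝒮.deg i.U i.hU)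
    (ℳ₁.deg i.U i.hU) (ℳ₂.deg i.U i.hU) (ℳ₃.deg i.U i.hU) (uU u i.U) (hu i.U i.hU)
    (uU v i.U) (hv i.U i.hU) (hex i.U i.hU) n i.hd i.f i.hf _ (preimage_cov p chart i)
  have h0 : (GrMod.map (𝒮.deg i.U i.hU) (uU v i.U) (hv i.U i.hU) n).app
      (RelProj.emb p chart i.U i.hU ⁻¹ᵁ cov p chart i) ((lam₂ i.U i.hU).app (cov p chart i) b) = 0 := by
    rw [← lam_ut v hv lam₂ lam₃ vt hvt]
    have hb' : vt.app (cov p chart i) b = 0 := hb
    rw [hb', map_zero]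
    rfl
  obtain ⟨σ, hσ⟩ := (hA _).mp h0
  obtain ⟨a, rfl⟩ := (hF₁.bijective i.U i.hU _ (cov_le p chart i)).2 σ
  refine ⟨a, (hF₂.bijective i.U i.hU _ (cov_le p chart i)).1 ?_⟩
  exact (lam_ut u hu lam₁ lam₂ ut hut i.U i.hU _ a).trans hσ

end Exact

end Groth.Agent.Lib.helper28.RelTildeExact
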