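import Groth.Agent.Lib.Helper28.GrTFTN
import Groth.Agent.Lib.Helper28.RelTwistChart
import Groth.Agent.Lib.Helper28.GMTildeQCoh
import Groth.Agent.Lib.Helper7.QCohAffine
import Groth.Prelude.Def_RelProj3

/-!
# (TF) and `ℳ~ = 0` imply (TN) over a quasi-compact base (helper28)
-/

set_option autoImplicit false
set_option linter.style.haveILetI false
universe u
open CategoryTheory CategoryTheory.Limits AlgebraicGeometry TopologicalSpace Opposite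

namespace Groth.Agent.Lib.helper28.RelTildeTN

open Groth.Agent.Lib.helper28.RelTwistChart Groth.Agent.Lib.helper28.GMTildeQCoh

variable {Y P : Scheme.{u}} {𝒮 : RelProj.QCGrAlg Y} {p : P ⟶ Y}
  {chart : ∀ (U : Y.Opens) (hU : IsAffineOpen U),
    (((p ⁻¹ᵁ U : P.Opens) : Scheme.{u}) ≅ Proj (𝒮.deg U hU))}
  {ℳ : RelProj.GrModule 𝒮} {F : P.Modules}
  (lam : ∀ (U : Y.Opens) (hU : IsAffineOpen U),
    F ⟶ (Scheme.Modules.pushforward (RelProj.emb p chart U hU)).obj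
      (GrMod.tilde (𝒮.deg U hU) (ℳ.deg U hU) 0))

theorem sections_eq_zero (h0 : IsZero F) (W : P.Opens) (a : Γ(F, W)) : a = 0 := by
  have h1 : (𝟙 F : F ⟶ F) = 0 := (IsZero.iff_id_eq_zero F).mp h0
  have ha : ((𝟙 F : F ⟶ F).app W).hom a = ((0 : F ⟶ F).app W).hom a := by rw [h1]
  exact ha

/-- Step A: a degree-one element acts nilpotently on every homogeneous element. -/
theorem exists_pow_smul_eq_zero (hF : RelProj.IsRelTilde 𝒮 p chart ℳ 0 F lam) (h0 : IsZero F)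
    (U : Y.Opens) (hU : IsAffineOpen U) (t : 𝒮.presheaf.obj (op U)) (ht : t ∈ 𝒮.deg U hU 1)
    (k : ℕ) (m : ℳ.mod.val.obj (op U)) (hm : m ∈ ℳ.deg U hU k) : ∃ N : ℕ, t ^ N • m = 0 := by
  let V : (Proj (𝒮.deg U hU)).Opens := Proj.basicOpen (𝒮.deg U hU) t
  let W : P.Opens := (RelProj.emb p chart U hU) ''ᵁ V
  have hW : W ≤ p ⁻¹ᵁ U := image_emb_le p chart U hU V
  have hinj : Function.Injective (RelProj.emb p chart U hU).base :=
    (RelProj.emb p chart U hU).isOpenEmbedding.injective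
  have hV' : ∀ x : (RelProj.emb p chart U hU ⁻¹ᵁ W : (Proj (𝒮.deg U hU)).Opens),
      t ∉ x.1.asHomogeneousIdeal := by
    rintro ⟨x, z, hz, he⟩
    have := hinj he
    subst this
    exact (ProjectiveSpectrum.mem_basicOpen (𝒮.deg U hU) t _).mp hz
  have htk : t ^ k ∈ 𝒮.deg U hU (k • 1) := SetLike.pow_mem_graded k ht
  have hV'' : ∀ x : (RelProj.emb p chart U hU ⁻¹ᵁ W : (Proj (𝒮.deg U hU)).Opens),
      (⟨t ^ k, htk⟩ : 𝒮.deg U hU (k • 1)).1 ∉ x.1.asHomogeneousIdeal := fun x h =>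
    hV' x (x.1.isPrime.mem_of_pow_mem _ h)
  have hdeg : ((k : ℕ) : ℤ) = ((k • 1 : ℕ) : ℤ) + 0 := by simp
  let σ : GrMod.sect (𝒮.deg U hU) (ℳ.deg U hU) 0 (op (RelProj.emb p chart U hU ⁻¹ᵁ W)) :=
    fracSect (𝒮.deg U hU) (ℳ.deg U hU) 0 (RelProj.emb p chart U hU ⁻¹ᵁ W) ⟨m, hm⟩ ⟨t ^ k, htk⟩
      hV'' hdeg
  obtain ⟨s, hs⟩ := (hF.bijective U hU W hW).2 σ
  have hs0 : s = 0 := sections_eq_zero h0 W s
  have hσ0 : σ = 0 := by
    rw [← hs, hs0]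
    exact map_zero _
  refine Groth.Agent.Lib.helper28.GFrac.exists_pow_smul_eq_zero (𝒮.deg U hU) (ℳ.deg U hU)
    Nat.one_pos ht hm ?_
  intro y hy
  have hyW : (RelProj.emb p chart U hU).base y ∈ W :=
    ⟨y, (ProjectiveSpectrum.mem_basicOpen (𝒮.deg U hU) t y).mpr hy, rfl⟩
  have hval := fracSect_val (𝒮.deg U hU) (ℳ.deg U hU) 0 (RelProj.emb p chart U hU ⁻¹ᵁ W)
    ⟨m, hm⟩ ⟨t ^ k, htk⟩ hV'' hdeg ⟨y, hyW⟩
  have hz : (((σ.1 ⟨y, hyW⟩ : GrMod.tildeAt (𝒮.deg U hU) (ℳ.deg U hU) 0 y) :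
      GrMod.LocMod (𝒮.deg U hU) (M := ℳ.mod.val.obj (op U)) y)) = 0 := by
    rw [hσ0]
    rfl
  rw [hval, mk_eq_zero_iff] at hz
  obtain ⟨u, hu⟩ := hz
  exact ⟨u.1, u.2, hu⟩

/-- Step A+B: the chartwise (TN) bound. -/
theorem exists_bound (hF : RelProj.IsRelTilde 𝒮 p chart ℳ 0 F lam) (h0 : IsZero F)
    (hgen : 𝒮.IsGenDegOne) (hft : 𝒮.IsFTDeg 1) (hTF : ℳ.IsTF)
    (U : Y.Opens) (hU : IsAffineOpen U) :
    ∃ D : ℕ, ∀ K : ℕ, D ≤ K → ∀ m ∈ ℳ.deg U hU K, m = 0 := by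
  obtain ⟨n₀, hn₀⟩ := hTF
  obtain ⟨T, hT1, hT2⟩ := hft U hU
  refine Groth.Agent.Lib.helper28.GrTFTN.tn_of_kill (𝒮.deg U hU) (ℳ.deg U hU) (hgen U hU) T ?_ n₀
    (hn₀ U hU) ?_
  · intro x hx
    obtain ⟨c, hc⟩ := hT2 x hx
    rw [hc]
    exact Ideal.sum_mem _ fun t ht => Ideal.mul_mem_left _ _ (Ideal.subset_span ht)
  · intro t ht k m hm
    exact exists_pow_smul_eq_zero lam hF h0 U hU t (hT1 ht) k m hm


section descent

variable {Y : Scheme.{u}} {𝒮 : RelProj.QCGrAlg Y} {ℳ : RelProj.GrModule 𝒮}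

/-- Quasi-coherence: a section over `D(r)` becomes a restriction after multiplication by a power
of `r`. -/
theorem exists_pow_smul_eq_res (hℳ : Coh.IsQCoh ((AMod.toOS 𝒮.toQCAlg).obj ℳ.mod))
    (U : Y.Opens) (hU : IsAffineOpen U) (r : Γ(Y, U))
    (y : ℳ.mod.val.obj (op (Y.basicOpen r))) :
    ∃ (n : ℕ) (x : ℳ.mod.val.obj (op U)),
      ℳ.res hU (hU.basicOpen r) (Y.basicOpen_le r) x =
        ((𝒮.str.app (op (Y.basicOpen r))).hom
          ((Y.presheaf.map (homOfLE (Y.basicOpen_le r)).op).hom r)) ^ n • y := by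
  haveI : ((AMod.toOS 𝒮.toQCAlg).obj ℳ.mod).IsQuasicoherent := hℳ
  obtain ⟨n, s, hs⟩ := Groth.Agent.Lib.helper7.exists_pow_smul_eq_map_of_isAffineOpen hU
    ((AMod.toOS 𝒮.toQCAlg).obj ℳ.mod) r y
  refine ⟨n, s, ?_⟩
  refine Eq.trans (show _ = _ from hs) ?_
  change ((𝒮.str.app (op (Y.basicOpen r))).hom
    (((Y.presheaf.map (homOfLE (Y.basicOpen_le r)).op).hom r) ^ n)) • y = _
  rw [map_pow]

/-- The (TN) bound passes from an affine open to a basic open of it. -/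
theorem bound_descend (hℳ : Coh.IsQCoh ((AMod.toOS 𝒮.toQCAlg).obj ℳ.mod))
    (U : Y.Opens) (hU : IsAffineOpen U) (r : Γ(Y, U)) (W : Y.Opens) (hW : IsAffineOpen W)
    (hWr : W = Y.basicOpen r) (K : ℕ)
    (hK : ∀ k : ℕ, K ≤ k → ∀ m ∈ ℳ.deg U hU k, m = 0) :
    ∀ k : ℕ, K ≤ k → ∀ m ∈ ℳ.deg W hW k, m = 0 := by
  subst hWr
  intro k hk m hm
  obtain ⟨n, x, hx⟩ := exists_pow_smul_eq_res hℳ U hU r m
  set c : 𝒮.presheaf.obj (op (Y.basicOpen r)) := (𝒮.str.app (op (Y.basicOpen r))).hom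
    ((Y.presheaf.map (homOfLE (Y.basicOpen_le r)).op).hom r) with hc
  have hunit : IsUnit (c ^ n) := by
    have h1 : IsUnit ((Y.presheaf.map (homOfLE (Y.basicOpen_le r)).op).hom r) :=
      RingedSpace.isUnit_res_basicOpen Y.toRingedSpace r
    exact (h1.map (𝒮.str.app (op (Y.basicOpen r))).hom).pow n
  have hc0 : c ^ n ∈ 𝒮.deg (Y.basicOpen r) hW 0 := by
    have h1 : c ∈ 𝒮.deg (Y.basicOpen r) hW 0 := 𝒮.str_mem _ hW _
    have h2 := SetLike.pow_mem_graded n h1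
    simpa using h2
  have h1 : c ^ n • m ∈ ℳ.deg (Y.basicOpen r) hW k := by
    have h2 := SetLike.GradedSMul.smul_mem (A := 𝒮.deg (Y.basicOpen r) hW)
      (B := ℳ.deg (Y.basicOpen r) hW) (i := 0) (j := k) hc0 hm
    rw [vadd_eq_add, zero_add] at h2
    exact h2
  have h2 := Groth.Agent.Lib.helper28.GrTFTN.decompose_map' (ℳ.deg U hU)
    (ℳ.deg (Y.basicOpen r) hW) (ℳ.res hU hW (Y.basicOpen_le r)).toAddMonoidHom
    (fun i m hm => ℳ.res_mem hU hW (Y.basicOpen_le r) i m hm) x k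
  have h3 : (DirectSum.decompose (ℳ.deg U hU) x k : ℳ.mod.val.obj (op U)) = 0 :=
    hK k hk _ (SetLike.coe_mem _)
  rw [h3, map_zero] at h2
  have h4 : (ℳ.res hU hW (Y.basicOpen_le r)).toAddMonoidHom x = c ^ n • m := hx
  rw [h4, DirectSum.decompose_of_mem_same _ h1] at h2
  obtain ⟨v, hv⟩ := hunit
  have h5 : m = (↑v⁻¹ : 𝒮.presheaf.obj (op (Y.basicOpen r))) • (c ^ n • m) := by
    rw [← hv, smul_smul, Units.inv_mul, one_smul]
  rw [h5, h2, smul_zero]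

theorem isTN_of_isZero {P : Scheme.{u}} {p : P ⟶ Y}
    {chart : ∀ (U : Y.Opens) (hU : IsAffineOpen U),
      (((p ⁻¹ᵁ U : P.Opens) : Scheme.{u}) ≅ Proj (𝒮.deg U hU))}
    {F : P.Modules}
    (lam : ∀ (U : Y.Opens) (hU : IsAffineOpen U),
      F ⟶ (Scheme.Modules.pushforward (RelProj.emb p chart U hU)).obj
        (GrMod.tilde (𝒮.deg U hU) (ℳ.deg U hU) 0))
    [CompactSpace Y] (hgen : 𝒮.IsGenDegOne) (hft : 𝒮.IsFTDeg 1)
    (hℳ : Coh.IsQCoh ((AMod.toOS 𝒮.toQCAlg).obj ℳ.mod)) (hTF : ℳ.IsTF)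
    (hF : RelProj.IsRelTilde 𝒮 p chart ℳ 0 F lam) (h0 : IsZero F) : ℳ.IsTN := by
  classical
  have hb := fun i : {U : Y.Opens // IsAffineOpen U} =>
    exists_bound lam hF h0 hgen hft hTF i.1 i.2
  choose D hD using hb
  obtain ⟨t, ht⟩ := isCompact_univ.elim_finite_subcover
    (fun i : {U : Y.Opens // IsAffineOpen U} => ((i.1 : Y.Opens) : Set Y)) (fun i => i.1.2)
    (by
      intro y _
      obtain ⟨U, hU, hyU, -⟩ := (Opens.isBasis_iff_nbhd.mp Y.isBasis_affineOpens)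
        (show y ∈ (⊤ : Y.Opens) from trivial)
      exact Set.mem_iUnion.mpr ⟨⟨U, hU⟩, hyU⟩)
  refine ⟨t.sup D, ?_⟩
  intro V hV k hk m hm
  -- cover `V` by opens basic in both `V` and a member of the finite cover
  have key : ∀ v : V, ∃ a : Γ(Y, V), (v : Y) ∈ Y.basicOpen a ∧
      (ℳ.mod.val.map (homOfLE (Y.basicOpen_le a)).op).hom m = 0 := by
    intro v
    obtain ⟨i, hi⟩ := Set.mem_iUnion.mp (ht (Set.mem_univ (v : Y)))
    obtain ⟨hit, hvi⟩ := Set.mem_iUnion.mp hi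
    obtain ⟨a, b, hab, hva⟩ := exists_basicOpen_le_affine_inter hV i.2 (v : Y) ⟨v.2, hvi⟩
    refine ⟨a, hva, ?_⟩
    have hWa : IsAffineOpen (Y.basicOpen a) := hV.basicOpen a
    have hbd := bound_descend hℳ i.1 i.2 b (Y.basicOpen a) hWa hab (D i) (hD i)
    refine hbd k (le_trans (Finset.le_sup hit) hk) _ ?_
    exact ℳ.map_mem hV hWa (Y.basicOpen_le a) hm
  choose a ha1 ha2 using key
  let Sh : TopCat.Sheaf Ab.{u} Y := ⟨ℳ.mod.val.presheaf, ℳ.mod.isSheaf⟩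
  refine Sh.eq_of_locally_eq' (fun v : V => Y.basicOpen (a v)) V
    (fun v => homOfLE (Y.basicOpen_le (a v))) ?_ m 0 ?_
  · intro y hy
    exact Opens.mem_iSup.mpr ⟨⟨y, hy⟩, ha1 ⟨y, hy⟩⟩
  · intro v
    refine Eq.trans (show _ = _ from ha2 v) ?_
    exact (map_zero _).symm

end descent

end Groth.Agent.Lib.helper28.RelTildeTN
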