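import Groth.Agent.Lib.Helper28.RelTwistExists
import Groth.Agent.Lib.Helper28.GMTildeLoc
import Groth.Agent.Lib.Helper28.RelTildeTN

set_option autoImplicit false
set_option linter.style.haveILetI false

universe u

/-! Existence of the modules `(ℳ(n))~` on a relative homogeneous spectrum (helper28). -/

noncomputable section

namespace Groth.Agent.Lib.helper28.RelTildeExists

open AlgebraicGeometry CategoryTheory CategoryTheory.Limits Opposite TopologicalSpace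
open scoped HomogeneousIdeal
open Groth.Agent.Lib.helper28.RelProjExists Groth.Agent.Lib.helper28.ProjLocAway
  Groth.Agent.Lib.helper28.GMTildeQCoh Groth.Agent.Lib.helper28.GMTildeLoc
  Groth.Agent.Lib.helper28.ChartGlue Groth.Agent.Lib.helper28.LimitSections
  Groth.Agent.Lib.helper28.RelTwistExists
  Groth.Agent.Lib.helper2

section ring

variable {A σ : Type u} [CommRing A] [SetLike σ A] [AddSubgroupClass σ A] {𝒜 : ℕ → σ}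
  [GradedRing 𝒜]
variable {M τ : Type u} [AddCommGroup M] [Module A M] [SetLike τ M] [AddSubgroupClass τ M]
  {ℳ : ℕ → τ} [DirectSum.Decomposition ℳ] [SetLike.GradedSMul 𝒜 ℳ]
variable {B σ' : Type u} [CommRing B] [SetLike σ' B] [AddSubgroupClass σ' B] {ℬ : ℕ → σ'}
  [GradedRing ℬ]
variable {N τ' : Type u} [AddCommGroup N] [Module B N] [SetLike τ' N] [AddSubgroupClass τ' N]
  {𝒩 : ℕ → τ'} [DirectSum.Decomposition 𝒩] [SetLike.GradedSMul ℬ 𝒩]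
variable {C σ'' : Type u} [CommRing C] [SetLike σ'' C] [AddSubgroupClass σ'' C] {𝒞 : ℕ → σ''}
  [GradedRing 𝒞]
variable {Q τ'' : Type u} [AddCommGroup Q] [Module C Q] [SetLike τ'' Q] [AddSubgroupClass τ'' Q]
  {𝒬 : ℕ → τ''} [DirectSum.Decomposition 𝒬] [SetLike.GradedSMul 𝒞 𝒬]

theorem locModMap_id (hid : 𝒜₊ ≤ (𝒜₊).map (GradedRingHom.id 𝒜))
    (v : M →ₛₗ[(GradedRingHom.id 𝒜).toRingHom] M) (hv : ∀ m, v m = m) (y : ProjectiveSpectrum 𝒜)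
    (q : GrMod.LocMod 𝒜 (M := M) y) :
    GrMod.locModMap (𝒜 := 𝒜) (ℬ := 𝒜) (M := M) (N := M) (GradedRingHom.id 𝒜) hid v y q = q := by
  induction q using LocalizedModule.induction_on with | h m s => ?_
  refine (GrMod.locModMap_mk (𝒜 := 𝒜) (ℬ := 𝒜) (M := M) (N := M) (GradedRingHom.id 𝒜) hid v y
    m s).trans ?_
  rw [hv]
  rfl

theorem locModMap_comp (f : 𝒜 →+*ᵍ ℬ) (g : ℬ →+*ᵍ 𝒞) (hf : ℬ₊ ≤ (𝒜₊).map f)
    (hg : 𝒞₊ ≤ (ℬ₊).map g) (hgf : 𝒞₊ ≤ (𝒜₊).map (g.comp f))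
    (v₁ : M →ₛₗ[f.toRingHom] N) (v₂ : N →ₛₗ[g.toRingHom] Q)
    (v₃ : M →ₛₗ[(g.comp f).toRingHom] Q) (hv : ∀ m, v₃ m = v₂ (v₁ m))
    (y : ProjectiveSpectrum 𝒞)
    (q : GrMod.LocMod 𝒜 (M := M)
      (ProjectiveSpectrum.comap f hf (ProjectiveSpectrum.comap g hg y))) :
    GrMod.locModMap (𝒜 := 𝒜) (ℬ := 𝒞) (M := M) (N := Q) (g.comp f) hgf v₃ y q =
      GrMod.locModMap g hg v₂ y
        (GrMod.locModMap f hf v₁ (ProjectiveSpectrum.comap g hg y) q) := by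
  induction q using LocalizedModule.induction_on with | h m s => ?_
  rw [GrMod.locModMap_mk f hf, GrMod.locModMap_mk g hg, ← hv]
  exact GrMod.locModMap_mk (𝒜 := 𝒜) (ℬ := 𝒞) (M := M) (N := Q) (g.comp f) hgf v₃ y m s

theorem val_id (n : ℤ) (ψ : 𝒜 →+*ᵍ 𝒜) (hψ : 𝒜₊ ≤ (𝒜₊).map ψ) (h : ψ = GradedRingHom.id 𝒜)
    (v : M →ₛₗ[ψ.toRingHom] M) (hv : ∀ m, v m = m)
    (U : (Proj 𝒜).Opens) (s : GrMod.sect 𝒜 ℳ n (op U)) (y : ProjectiveSpectrum 𝒜)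
    (hy : y ∈ U) (hy' : ProjectiveSpectrum.comap ψ hψ y ∈ U) :
    GrMod.locModMap ψ hψ v y (s.1 ⟨ProjectiveSpectrum.comap ψ hψ y, hy'⟩).1 =
      (s.1 ⟨y, hy⟩).1 := by
  subst h
  exact locModMap_id _ v hv y _

theorem val_comp (n : ℤ) (ψ₁ : 𝒜 →+*ᵍ ℬ) (ψ₂ : ℬ →+*ᵍ 𝒞) (ψ₃ : 𝒜 →+*ᵍ 𝒞)
    (h₁ : ℬ₊ ≤ (𝒜₊).map ψ₁) (h₂ : 𝒞₊ ≤ (ℬ₊).map ψ₂) (h₃ : 𝒞₊ ≤ (𝒜₊).map ψ₃)
    (h : ψ₃ = ψ₂.comp ψ₁)
    (v₁ : M →ₛₗ[ψ₁.toRingHom] N) (v₂ : N →ₛₗ[ψ₂.toRingHom] Q)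
    (v₃ : M →ₛₗ[ψ₃.toRingHom] Q) (hv : ∀ m, v₃ m = v₂ (v₁ m))
    (U : (Proj 𝒜).Opens) (s : GrMod.sect 𝒜 ℳ n (op U)) (y : ProjectiveSpectrum 𝒞)
    (hy₃ : ProjectiveSpectrum.comap ψ₃ h₃ y ∈ U)
    (hy₁₂ : ProjectiveSpectrum.comap ψ₁ h₁ (ProjectiveSpectrum.comap ψ₂ h₂ y) ∈ U) :
    GrMod.locModMap ψ₃ h₃ v₃ y (s.1 ⟨ProjectiveSpectrum.comap ψ₃ h₃ y, hy₃⟩).1 =
      GrMod.locModMap ψ₂ h₂ v₂ y (GrMod.locModMap ψ₁ h₁ v₁ (ProjectiveSpectrum.comap ψ₂ h₂ y)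
        (s.1 ⟨_, hy₁₂⟩).1) := by
  subst h
  exact locModMap_comp ψ₁ ψ₂ h₁ h₂ h₃ v₁ v₂ v₃ hv y _

end ring

variable {Y P : Scheme.{u}} (𝒮 : RelProj.QCGrAlg Y) (p : P ⟶ Y)
  (chart : ∀ (U : Y.Opens) (hU : IsAffineOpen U),
    (((p ⁻¹ᵁ U : P.Opens) : Scheme.{u}) ≅ Proj (𝒮.deg U hU)))
  (hP : RelProj.IsRelProj 𝒮 p chart) (ℳ : RelProj.GrModule 𝒮)
  (hℳ : Coh.IsQCoh ((AMod.toOS 𝒮.toQCAlg).obj ℳ.mod)) (n : ℤ)

theorem mres_id (U : Y.Opens) (hU : IsAffineOpen U) (m : ℳ.mod.val.obj (op U)) :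
    ℳ.res hU hU le_rfl m = m := by
  rw [RelProj.GrModule.res_apply]
  have : (homOfLE (le_refl U)).op = 𝟙 (op U) := rfl
  rw [this, ℳ.mod.val.map_id]
  rfl

theorem mres_comp {U V W : Y.Opens} (hU : IsAffineOpen U) (hV : IsAffineOpen V)
    (hW : IsAffineOpen W) (i : V ≤ U) (j : W ≤ V) (m : ℳ.mod.val.obj (op U)) :
    ℳ.res hU hW (j.trans i) m = ℳ.res hV hW j (ℳ.res hU hV i m) := by
  rw [RelProj.GrModule.res_apply, RelProj.GrModule.res_apply, RelProj.GrModule.res_apply]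
  exact ℳ.mod.val.map_comp_apply (homOfLE i).op (homOfLE j).op m

include hℳ in
theorem mres_inj (U : Y.Opens) (hU : IsAffineOpen U) (r : Γ(Y, U)) (m : ℳ.mod.val.obj (op U))
    (hm : ℳ.res hU (hU.basicOpen r) (Y.basicOpen_le r) m = 0) :
    ∃ k : ℕ, ((𝒮.str.app (op U)).hom r) ^ k • m = 0 := by
  haveI : ((AMod.toOS 𝒮.toQCAlg).obj ℳ.mod).IsQuasicoherent := hℳ
  obtain ⟨k, hk⟩ := Groth.Agent.Lib.helper7.exists_pow_smul_eq_zero_of_isAffineOpen hU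
    ((AMod.toOS 𝒮.toQCAlg).obj ℳ.mod) r m hm
  refine ⟨k, ?_⟩
  refine Eq.trans ?_ (show _ = _ from hk)
  change _ = ((𝒮.str.app (op U)).hom (r ^ k)) • m
  rw [map_pow]

theorem res_str (U : Y.Opens) (hU : IsAffineOpen U) (r : Γ(Y, U)) :
    𝒮.res hU (hU.basicOpen r) (Y.basicOpen_le r) ((𝒮.str.app (op U)).hom r) =
      (𝒮.str.app (op (Y.basicOpen r))).hom
        ((Y.presheaf.map (homOfLE (Y.basicOpen_le r)).op).hom r) := by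
  rw [RelProj.QCGrAlg.res_apply]
  have := 𝒮.str.naturality (homOfLE (Y.basicOpen_le r)).op
  exact (congr($this r)).symm

include hℳ in
theorem mres_surj (U : Y.Opens) (hU : IsAffineOpen U) (r : Γ(Y, U)) (i : ℕ)
    (b : ℳ.mod.val.obj (op (Y.basicOpen r))) (hb : b ∈ ℳ.deg _ (hU.basicOpen r) i) :
    ∃ (m : ℳ.mod.val.obj (op U)) (k : ℕ), m ∈ ℳ.deg U hU i ∧
      (𝒮.res hU (hU.basicOpen r) (Y.basicOpen_le r) ((𝒮.str.app (op U)).hom r)) ^ k • b =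
        ℳ.res hU (hU.basicOpen r) (Y.basicOpen_le r) m := by
  classical
  obtain ⟨k, x, hx⟩ := Groth.Agent.Lib.helper28.RelTildeTN.exists_pow_smul_eq_res hℳ U hU r b
  rw [← res_str 𝒮 U hU r] at hx
  set c := 𝒮.res hU (hU.basicOpen r) (Y.basicOpen_le r) ((𝒮.str.app (op U)).hom r) with hc
  have hW := hU.basicOpen r
  refine ⟨(DirectSum.decompose (ℳ.deg U hU) x i : ℳ.mod.val.obj (op U)), k,
    SetLike.coe_mem _, ?_⟩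
  have hc0 : c ^ k ∈ 𝒮.deg (Y.basicOpen r) hW 0 := by
    have h1 : c ∈ 𝒮.deg (Y.basicOpen r) hW 0 :=
      (𝒮.res hU hW (Y.basicOpen_le r)).map_mem (𝒮.str_mem U hU r)
    have h2 := SetLike.pow_mem_graded k h1
    simpa using h2
  have h1 : c ^ k • b ∈ ℳ.deg (Y.basicOpen r) hW i := by
    have h2 := SetLike.GradedSMul.smul_mem (A := 𝒮.deg (Y.basicOpen r) hW)
      (B := ℳ.deg (Y.basicOpen r) hW) (i := 0) (j := i) hc0 hb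
    rw [vadd_eq_add, zero_add] at h2
    exact h2
  have h2 := Groth.Agent.Lib.helper28.GrTFTN.decompose_map' (ℳ.deg U hU)
    (ℳ.deg (Y.basicOpen r) hW) (ℳ.res hU hW (Y.basicOpen_le r)).toAddMonoidHom
    (fun i m hm => ℳ.res_mem hU hW (Y.basicOpen_le r) i m hm) x i
  have h4 : (ℳ.res hU hW (Y.basicOpen_le r)).toAddMonoidHom x = c ^ k • b := hx
  rw [h4, DirectSum.decompose_of_mem_same _ h1] at h2
  exact h2

include hℳ in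
theorem mres_bhom {Z V : BIdx Y} (f : Z ⟶ V) :
    ∃ c : 𝒮.presheaf.obj (op V.1), IsLocAt (𝒮.res V.2 Z.2 (le_of_bhom f)) c ∧
      (∀ m : ℳ.mod.val.obj (op V.1), ℳ.res V.2 Z.2 (le_of_bhom f) m = 0 →
        ∃ k : ℕ, c ^ k • m = 0) ∧
      (∀ (i : ℕ) (b : ℳ.mod.val.obj (op Z.1)), b ∈ ℳ.deg Z.1 Z.2 i →
        ∃ (m : ℳ.mod.val.obj (op V.1)) (k : ℕ), m ∈ ℳ.deg V.1 V.2 i ∧
          (𝒮.res V.2 Z.2 (le_of_bhom f) c) ^ k • b = ℳ.res V.2 Z.2 (le_of_bhom f) m) := by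
  obtain ⟨Z, hZ⟩ := Z
  obtain ⟨V, hV⟩ := V
  obtain ⟨r, hr⟩ := f.down
  change Z = Y.basicOpen r at hr
  subst hr
  exact ⟨(𝒮.str.app (op V)).hom r, isLocAt_res 𝒮 V hV r, mres_inj 𝒮 ℳ hℳ V hV r,
    mres_surj 𝒮 ℳ hℳ V hV r⟩

/-- The module of the chart over `V`. -/
def mobj (V : BIdx Y) : P.Modules :=
  (Scheme.Modules.pushforward (RelProj.emb p chart V.1 V.2)).obj
    (GrMod.tilde (𝒮.deg V.1 V.2) (ℳ.deg V.1 V.2) n)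

/-- The transition morphisms. -/
def mtrans {Z V : BIdx Y} (f : Z ⟶ V) : mobj 𝒮 p chart ℳ n V ⟶ mobj 𝒮 p chart ℳ n Z :=
  (Scheme.Modules.pushforward (RelProj.emb p chart V.1 V.2)).map
      (GrMod.comap (𝒮.res V.2 Z.2 (le_of_bhom f)) (irr_of_bhom 𝒮 f)
        (ℳ.res V.2 Z.2 (le_of_bhom f))
        (fun i m hm => ℳ.res_mem V.2 Z.2 (le_of_bhom f) i m hm) n) ≫
    (Scheme.Modules.pushforwardComp (Proj.map (𝒮.res V.2 Z.2 (le_of_bhom f)) (irr_of_bhom 𝒮 f))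
      (RelProj.emb p chart V.1 V.2)).hom.app (GrMod.tilde (𝒮.deg Z.1 Z.2) (ℳ.deg Z.1 Z.2) n) ≫
    (Scheme.Modules.pushforwardCongr (map_emb 𝒮 p chart hP f)).hom.app
      (GrMod.tilde (𝒮.deg Z.1 Z.2) (ℳ.deg Z.1 Z.2) n)

theorem mtrans_val {Z V : BIdx Y} (f : Z ⟶ V) (W : P.Opens) (s : Γ(mobj 𝒮 p chart ℳ n V, W))
    (y : ProjectiveSpectrum (𝒮.deg Z.1 Z.2)) (hy : (RelProj.emb p chart Z.1 Z.2).base y ∈ W)
    (hy' : (RelProj.emb p chart V.1 V.2).base (ProjectiveSpectrum.comap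
      (𝒮.res V.2 Z.2 (le_of_bhom f)) (irr_of_bhom 𝒮 f) y) ∈ W) :
    GrMod.val (V := RelProj.emb p chart Z.1 Z.2 ⁻¹ᵁ W)
        ((mtrans 𝒮 p chart hP ℳ n f).app W s) ⟨y, hy⟩ =
      GrMod.locModMap (𝒮.res V.2 Z.2 (le_of_bhom f)) (irr_of_bhom 𝒮 f)
        (ℳ.res V.2 Z.2 (le_of_bhom f)) y
        (GrMod.val (V := RelProj.emb p chart V.1 V.2 ⁻¹ᵁ W) s ⟨_, hy'⟩) := rfl

theorem mtrans_id (V : BIdx Y) : mtrans 𝒮 p chart hP ℳ n (𝟙 V) = 𝟙 _ := by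
  apply Scheme.Modules.hom_ext
  intro W
  apply ConcreteCategory.hom_ext
  intro s
  refine sect_ext (𝒮.deg V.1 V.2) (ℳ.deg V.1 V.2)
    (U := RelProj.emb p chart V.1 V.2 ⁻¹ᵁ W) _ _ ?_
  rintro ⟨y, hy⟩
  have hy' : (RelProj.emb p chart V.1 V.2).base (ProjectiveSpectrum.comap
      (𝒮.res V.2 V.2 (le_of_bhom (𝟙 V))) (irr_of_bhom 𝒮 (𝟙 V)) y) ∈ W :=
    (emb_comap' 𝒮 p chart hP (𝟙 V) y).symm ▸ hy
  refine (mtrans_val 𝒮 p chart hP ℳ n (𝟙 V) W s y hy hy').trans ?_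
  exact val_id n _ _ (res_id 𝒮 V.1 V.2) (ℳ.res V.2 V.2 (le_of_bhom (𝟙 V)))
    (mres_id 𝒮 ℳ V.1 V.2) (RelProj.emb p chart V.1 V.2 ⁻¹ᵁ W)
    (toSect _ _ (U := RelProj.emb p chart V.1 V.2 ⁻¹ᵁ W) s) y hy hy'

theorem mtrans_comp {Z' Z V : BIdx Y} (k : Z' ⟶ Z) (g : Z ⟶ V) :
    mtrans 𝒮 p chart hP ℳ n (k ≫ g) =
      mtrans 𝒮 p chart hP ℳ n g ≫ mtrans 𝒮 p chart hP ℳ n k := by
  apply Scheme.Modules.hom_ext
  intro W
  apply ConcreteCategory.hom_ext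
  intro s
  refine sect_ext (𝒮.deg Z'.1 Z'.2) (ℳ.deg Z'.1 Z'.2)
    (U := RelProj.emb p chart Z'.1 Z'.2 ⁻¹ᵁ W) _ _ ?_
  rintro ⟨y, hy⟩
  have hy₃ : (RelProj.emb p chart V.1 V.2).base (ProjectiveSpectrum.comap
      (𝒮.res V.2 Z'.2 (le_of_bhom (k ≫ g))) (irr_of_bhom 𝒮 (k ≫ g)) y) ∈ W :=
    (emb_comap' 𝒮 p chart hP (k ≫ g) y).symm ▸ hy
  have hy₂ : (RelProj.emb p chart Z.1 Z.2).base (ProjectiveSpectrum.comap
      (𝒮.res Z.2 Z'.2 (le_of_bhom k)) (irr_of_bhom 𝒮 k) y) ∈ W :=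
    (emb_comap' 𝒮 p chart hP k y).symm ▸ hy
  have hy₁₂ : (RelProj.emb p chart V.1 V.2).base (ProjectiveSpectrum.comap
      (𝒮.res V.2 Z.2 (le_of_bhom g)) (irr_of_bhom 𝒮 g) (ProjectiveSpectrum.comap
      (𝒮.res Z.2 Z'.2 (le_of_bhom k)) (irr_of_bhom 𝒮 k) y)) ∈ W :=
    (emb_comap' 𝒮 p chart hP g _).symm ▸ hy₂
  refine (mtrans_val 𝒮 p chart hP ℳ n (k ≫ g) W s y hy hy₃).trans ?_
  refine Eq.trans ?_ (mtrans_val 𝒮 p chart hP ℳ n k W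
    ((mtrans 𝒮 p chart hP ℳ n g).app W s) y hy hy₂).symm
  refine Eq.trans ?_ (congrArg (GrMod.locModMap (𝒮.res Z.2 Z'.2 (le_of_bhom k))
    (irr_of_bhom 𝒮 k) (ℳ.res Z.2 Z'.2 (le_of_bhom k)) y)
    (mtrans_val 𝒮 p chart hP ℳ n g W s _ hy₂ hy₁₂)).symm
  exact val_comp n _ _ _ _ _ _ (res_comp 𝒮 V.2 Z.2 Z'.2 (le_of_bhom g) (le_of_bhom k))
    (ℳ.res V.2 Z.2 (le_of_bhom g)) (ℳ.res Z.2 Z'.2 (le_of_bhom k))
    (ℳ.res V.2 Z'.2 (le_of_bhom (k ≫ g)))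
    (mres_comp 𝒮 ℳ V.2 Z.2 Z'.2 (le_of_bhom g) (le_of_bhom k))
    (RelProj.emb p chart V.1 V.2 ⁻¹ᵁ W)
    (toSect _ _ (U := RelProj.emb p chart V.1 V.2 ⁻¹ᵁ W) s) y hy₃ hy₁₂

/-- The system of chart modules. -/
def Ψ : (BIdx Y)ᵒᵖ ⥤ P.Modules where
  obj V := mobj 𝒮 p chart ℳ n V.unop
  map f := mtrans 𝒮 p chart hP ℳ n f.unop
  map_id V := mtrans_id 𝒮 p chart hP ℳ n V.unop
  map_comp f g := mtrans_comp 𝒮 p chart hP ℳ n g.unop f.unop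

include hℳ in
theorem isChartSys : IsChartSys p (Ψ 𝒮 p chart hP ℳ n) where
  sep V W I Wi hle hcov s s' hs := by
    refine (ModSec.sheaf (GrMod.tilde (𝒮.deg V.1 V.2) (ℳ.deg V.1 V.2) n)).eq_of_locally_eq'
      (fun i => RelProj.emb p chart V.1 V.2 ⁻¹ᵁ (Wi i)) (RelProj.emb p chart V.1 V.2 ⁻¹ᵁ W)
      (fun i => homOfLE (fun x hx => hle i hx)) (preimage_le_iSup 𝒮 p chart V W I Wi hcov) s s' ?_
    intro i
    exact hs i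
  glue V W I Wi hle hcov σ hσ := by
    obtain ⟨s, hs, -⟩ :=
      (ModSec.sheaf (GrMod.tilde (𝒮.deg V.1 V.2) (ℳ.deg V.1 V.2) n)).existsUnique_gluing'
      (fun i => RelProj.emb p chart V.1 V.2 ⁻¹ᵁ (Wi i)) (RelProj.emb p chart V.1 V.2 ⁻¹ᵁ W)
      (fun i => homOfLE (fun x hx => hle i hx)) (preimage_le_iSup 𝒮 p chart V W I Wi hcov) σ
      (fun i j => hσ i j)
    exact ⟨s, fun i => hs i⟩
  bij {Z V} f W₀ hW₀ := by
    obtain ⟨c, hloc, hinj, hsurj⟩ := mres_bhom 𝒮 ℳ hℳ f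
    have hN : ((RelProj.emb p chart V.1 V.2 ⁻¹ᵁ W₀ : (Proj (𝒮.deg V.1 V.2)).Opens) :
        Set (Proj (𝒮.deg V.1 V.2))) ⊆
        Set.range (Proj.map (𝒮.res V.2 Z.2 (le_of_bhom f)) (irr_of_bhom 𝒮 f)).base := by
      intro x hx
      have hx2 : (RelProj.emb p chart V.1 V.2).base x ∈
          Set.range (RelProj.emb p chart Z.1 Z.2) := by
        rw [Groth.Agent.Lib.helper28.RelTwistChart.range_emb]
        exact hW₀ hx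
      obtain ⟨y, hy⟩ := hx2
      refine ⟨y, ?_⟩
      apply (RelProj.emb p chart V.1 V.2).isOpenEmbedding.injective
      rw [← hy]
      exact emb_comap' 𝒮 p chart hP f y
    have h1 : IsIso ((GrMod.comap (𝒮.res V.2 Z.2 (le_of_bhom f)) (irr_of_bhom 𝒮 f)
        (ℳ.res V.2 Z.2 (le_of_bhom f))
        (fun i m hm => ℳ.res_mem V.2 Z.2 (le_of_bhom f) i m hm) n).app
        (RelProj.emb p chart V.1 V.2 ⁻¹ᵁ W₀)) :=
      (ConcreteCategory.isIso_iff_bijective _).mpr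
        (comap_app_bijective _ _ hloc (irr_of_bhom 𝒮 f) hinj hsurj n _ hN)
    have h2 : (rho (Ψ 𝒮 p chart hP ℳ n) f).app W₀ =
        (GrMod.comap (𝒮.res V.2 Z.2 (le_of_bhom f)) (irr_of_bhom 𝒮 f)
          (ℳ.res V.2 Z.2 (le_of_bhom f))
          (fun i m hm => ℳ.res_mem V.2 Z.2 (le_of_bhom f) i m hm) n).app
          (RelProj.emb p chart V.1 V.2 ⁻¹ᵁ W₀) ≫
        (GrMod.tilde (𝒮.deg Z.1 Z.2) (ℳ.deg Z.1 Z.2) n).presheaf.map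
          (eqToHom (by rw [← map_emb 𝒮 p chart hP f]; rfl)).op := rfl
    rw [h2]
    have h3 : IsIso ((GrMod.tilde (𝒮.deg Z.1 Z.2) (ℳ.deg Z.1 Z.2) n).presheaf.map
        (eqToHom (show op (Proj.map (𝒮.res V.2 Z.2 (le_of_bhom f)) (irr_of_bhom 𝒮 f) ⁻¹ᵁ
          (RelProj.emb p chart V.1 V.2 ⁻¹ᵁ W₀)) = op (RelProj.emb p chart Z.1 Z.2 ⁻¹ᵁ W₀) by
            rw [← map_emb 𝒮 p chart hP f]; rfl))) := inferInstance
    exact (ConcreteCategory.isIso_iff_bijective _).mp (@IsIso.comp_isIso _ _ _ _ _ _ _ h1 h3)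

/-- The module `(ℳ(n))~`. -/
def relTilde : P.Modules := limit (Ψ 𝒮 p chart hP ℳ n)

/-- Its chartwise identifications. -/
def relLam (U : Y.Opens) (hU : IsAffineOpen U) :
    relTilde 𝒮 p chart hP ℳ n ⟶
      (Scheme.Modules.pushforward (RelProj.emb p chart U hU)).obj
        (GrMod.tilde (𝒮.deg U hU) (ℳ.deg U hU) n) :=
  limit.π (Ψ 𝒮 p chart hP ℳ n) (op (BIdx.mk U hU))

include hℳ in
theorem isRelTilde :
    RelProj.IsRelTilde 𝒮 p chart ℳ n (relTilde 𝒮 p chart hP ℳ n)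
      (relLam 𝒮 p chart hP ℳ n) where
  bijective U hU W hW :=
    bijective_limit_π (isChartSys 𝒮 p chart hP ℳ hℳ n) (BIdx.mk U hU) W hW
  compat U hU r W s y hy hy' := by
    have hw : (relLam 𝒮 p chart hP ℳ n (Y.basicOpen r) (hU.basicOpen r)).app W s =
        (mtrans 𝒮 p chart hP ℳ n (bhom U hU r)).app W
          ((relLam 𝒮 p chart hP ℳ n U hU).app W s) := by
      have := limit.w (Ψ 𝒮 p chart hP ℳ n) (bhom U hU r).op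
      unfold relLam
      rw [← this]
      rfl
    rw [hw]
    exact mtrans_val 𝒮 p chart hP ℳ n (bhom U hU r) W _ y hy hy'

include hP hℳ in
theorem exists_isRelTilde :
    ∃ (F : P.Modules) (lam : ∀ (U : Y.Opens) (hU : IsAffineOpen U),
      F ⟶ (Scheme.Modules.pushforward (RelProj.emb p chart U hU)).obj
        (GrMod.tilde (𝒮.deg U hU) (ℳ.deg U hU) n)),
      RelProj.IsRelTilde 𝒮 p chart ℳ n F lam :=
  ⟨_, _, isRelTilde 𝒮 p chart hP ℳ hℳ n⟩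

end Groth.Agent.Lib.helper28.RelTildeExists
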