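import Groth.Agent.Lib.Helper28.RelTildeUniq

/-!
# The morphism `(ℳ(n))~ ⟶ (𝒩(n))~` on a relative Proj induced by a graded homomorphism (helper28)
-/

set_option autoImplicit false
set_option linter.style.haveILetI false
universe u
open CategoryTheory CategoryTheory.Limits AlgebraicGeometry TopologicalSpace Opposite
open Scheme.Modules

namespace Groth.Agent.Lib.helper28.RelTildeMap

open Groth.Agent.Lib.helper28.RelTwistChart Groth.Agent.Lib.helper2
  Groth.Agent.Lib.helper28.RelTildeUniq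

variable {Y P : Scheme.{u}} {𝒮 : RelProj.QCGrAlg Y} {p : P ⟶ Y}
  {chart : ∀ (U : Y.Opens) (hU : IsAffineOpen U),
    (((p ⁻¹ᵁ U : P.Opens) : Scheme.{u}) ≅ Proj (𝒮.deg U hU))}
  {ℳ 𝒩 : RelProj.GrModule 𝒮} (u : ℳ.mod ⟶ 𝒩.mod) (hu : RelProj.IsGrModHom u)
  {n : ℤ} {F G : P.Modules}
  (lam : ∀ (U : Y.Opens) (hU : IsAffineOpen U),
    F ⟶ (Scheme.Modules.pushforward (RelProj.emb p chart U hU)).obj
      (GrMod.tilde (𝒮.deg U hU) (ℳ.deg U hU) n))
  (lam' : ∀ (U : Y.Opens) (hU : IsAffineOpen U),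
    G ⟶ (Scheme.Modules.pushforward (RelProj.emb p chart U hU)).obj
      (GrMod.tilde (𝒮.deg U hU) (𝒩.deg U hU) n))

/-- The linear map `u(U)`. -/
abbrev uU (U : Y.Opens) :
    ℳ.mod.val.obj (op U) →ₗ[𝒮.presheaf.obj (op U)] 𝒩.mod.val.obj (op U) :=
  (u.val.app (op U)).hom

/-- `u` commutes with restrictions, elementwise. -/
theorem u_res {U V : Y.Opens} (hU : IsAffineOpen U) (hV : IsAffineOpen V) (i : V ≤ U)
    (m : ℳ.mod.val.obj (op U)) :
    uU u V (ℳ.res hU hV i m) = 𝒩.res hU hV i (uU u U m) := by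
  have := PresheafOfModules.naturality_apply u.val (homOfLE i).op m
  change (u.val.app (op V)).hom ((ℳ.mod.val.map (homOfLE i).op).hom m) =
    (𝒩.mod.val.map (homOfLE i).op).hom ((u.val.app (op U)).hom m)
  exact this

/-- The section `s'` of `G` reads, on the chart over `U`, the image under `u(U)` of the section
`s` of `F`. -/
def Rel (U : Y.Opens) (hU : IsAffineOpen U) (W : P.Opens) (s : Γ(F, W)) (s' : Γ(G, W)) : Prop :=
  ∀ (y : Proj (𝒮.deg U hU)) (hy : (RelProj.emb p chart U hU).base y ∈ W),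
    GrMod.val (V := RelProj.emb p chart U hU ⁻¹ᵁ W) ((lam' U hU).app W s') ⟨y, hy⟩ =
      GrMod.locMap (uU u U) y
        (GrMod.val (V := RelProj.emb p chart U hU ⁻¹ᵁ W) ((lam U hU).app W s) ⟨y, hy⟩)

include hu in
theorem rel_iff (U : Y.Opens) (hU : IsAffineOpen U) (W : P.Opens) (s : Γ(F, W)) (s' : Γ(G, W)) :
    Rel u lam lam' U hU W s s' ↔ (lam' U hU).app W s' =
      (GrMod.map (𝒮.deg U hU) (uU u U) (hu U hU) n).app (RelProj.emb p chart U hU ⁻¹ᵁ W)
        ((lam U hU).app W s) := by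
  constructor
  · intro h
    exact Groth.Agent.Lib.helper28.GMTildeQCoh.sect_ext _ _ _ _ fun x => h x.1 x.2
  · intro h y hy
    rw [h]
    rfl

theorem rel_res (U : Y.Opens) (hU : IsAffineOpen U) {W W₂ : P.Opens} (i : W₂ ≤ W) (s : Γ(F, W))
    (s' : Γ(G, W)) (h : Rel u lam lam' U hU W s s') :
    Rel u lam lam' U hU W₂ (F.presheaf.map (homOfLE i).op s) (G.presheaf.map (homOfLE i).op s') := by
  intro y hy
  rw [← ModSec.map_app_apply (lam U hU) (homOfLE i) s,
    ← ModSec.map_app_apply (lam' U hU) (homOfLE i) s']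
  exact h y (i hy)

/-- Values only depend on the restriction to a neighbourhood. -/
theorem rel_of_res (U : Y.Opens) (hU : IsAffineOpen U) {W W₂ : P.Opens} (i : W₂ ≤ W) (s : Γ(F, W))
    (s' : Γ(G, W))
    (h : Rel u lam lam' U hU W₂ (F.presheaf.map (homOfLE i).op s)
      (G.presheaf.map (homOfLE i).op s'))
    (y : Proj (𝒮.deg U hU)) (hy : (RelProj.emb p chart U hU).base y ∈ W₂) :
    GrMod.val (V := RelProj.emb p chart U hU ⁻¹ᵁ W) ((lam' U hU).app W s') ⟨y, i hy⟩ =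
      GrMod.locMap (uU u U) y
        (GrMod.val (V := RelProj.emb p chart U hU ⁻¹ᵁ W) ((lam U hU).app W s) ⟨y, i hy⟩) := by
  have h1 := h y hy
  rw [← ModSec.map_app_apply (lam U hU) (homOfLE i) s,
    ← ModSec.map_app_apply (lam' U hU) (homOfLE i) s'] at h1
  exact h1

/-- The maps of localized modules induced by `u` commute with those induced by restriction. -/
theorem locModMap_locMap (U : Y.Opens) (hU : IsAffineOpen U) (r : Γ(Y, U))
    (z : ProjectiveSpectrum (𝒮.deg (Y.basicOpen r) (hU.basicOpen r)))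
    (q : GrMod.LocMod (𝒮.deg U hU) (M := ℳ.mod.val.obj (op U))
      (ProjectiveSpectrum.comap (𝒮.res hU (hU.basicOpen r) (Y.basicOpen_le r))
        (𝒮.irrelevant_le_map U hU r) z)) :
    GrMod.locModMap (𝒮.res hU (hU.basicOpen r) (Y.basicOpen_le r)) (𝒮.irrelevant_le_map U hU r)
        (𝒩.res hU (hU.basicOpen r) (Y.basicOpen_le r)) z (GrMod.locMap (uU u U) _ q) =
      GrMod.locMap (uU u (Y.basicOpen r)) z
        (GrMod.locModMap (𝒮.res hU (hU.basicOpen r) (Y.basicOpen_le r))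
          (𝒮.irrelevant_le_map U hU r) (ℳ.res hU (hU.basicOpen r) (Y.basicOpen_le r)) z q) := by
  induction q using LocalizedModule.induction_on with
  | h m s =>
    rw [GrMod.locMap_mk, GrMod.locModMap_mk, GrMod.locModMap_mk, GrMod.locMap_mk,
      u_res u hU (hU.basicOpen r) (Y.basicOpen_le r) m]

theorem rel_descend (hP : RelProj.IsRelProj 𝒮 p chart)
    (hF : RelProj.IsRelTilde 𝒮 p chart ℳ n F lam) (hG : RelProj.IsRelTilde 𝒮 p chart 𝒩 n G lam')
    (U : Y.Opens) (hU : IsAffineOpen U) (r : Γ(Y, U)) (V : Y.Opens) (hV : IsAffineOpen V)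
    (hVr : V = Y.basicOpen r) (W : P.Opens) (s : Γ(F, W)) (s' : Γ(G, W))
    (h : Rel u lam lam' U hU W s s') : Rel u lam lam' V hV W s s' := by
  subst hVr
  intro z hz
  have hy' : (RelProj.emb p chart U hU).base (ProjectiveSpectrum.comap
      (𝒮.res hU (hU.basicOpen r) (Y.basicOpen_le r)) (𝒮.irrelevant_le_map U hU r) z) ∈ W := by
    rw [emb_comap' hP]
    exact hz
  have hc := hF.compat U hU r W s z hz hy'
  have hc' := hG.compat U hU r W s' z hz hy'
  rw [hc, hc', h _ hy', locModMap_locMap]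

include hu in
theorem rel_unique (hG : RelProj.IsRelTilde 𝒮 p chart 𝒩 n G lam')
    (U : Y.Opens) (hU : IsAffineOpen U) (W : P.Opens) (hW : W ≤ p ⁻¹ᵁ U) (s : Γ(F, W))
    (s' s'' : Γ(G, W)) (h : Rel u lam lam' U hU W s s') (h' : Rel u lam lam' U hU W s s'') :
    s' = s'' := by
  apply (hG.bijective U hU W hW).1
  rw [(rel_iff u hu lam lam' U hU W s s').mp h, (rel_iff u hu lam lam' U hU W s s'').mp h']

include hu in
theorem rel_exists (hG : RelProj.IsRelTilde 𝒮 p chart 𝒩 n G lam')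
    (U : Y.Opens) (hU : IsAffineOpen U) (W : P.Opens) (hW : W ≤ p ⁻¹ᵁ U) (s : Γ(F, W)) :
    ∃ s' : Γ(G, W), Rel u lam lam' U hU W s s' := by
  obtain ⟨s', hs'⟩ := (hG.bijective U hU W hW).2
    ((GrMod.map (𝒮.deg U hU) (uU u U) (hu U hU) n).app (RelProj.emb p chart U hU ⁻¹ᵁ W)
      ((lam U hU).app W s))
  exact ⟨s', (rel_iff u hu lam lam' U hU W s s').mpr hs'⟩

include hu in
theorem rel_indep (hP : RelProj.IsRelProj 𝒮 p chart)
    (hF : RelProj.IsRelTilde 𝒮 p chart ℳ n F lam) (hG : RelProj.IsRelTilde 𝒮 p chart 𝒩 n G lam')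
    (U : Y.Opens) (hU : IsAffineOpen U) (W : P.Opens) (hW : W ≤ p ⁻¹ᵁ U) (s : Γ(F, W))
    (s' : Γ(G, W)) (h : Rel u lam lam' U hU W s s') (U' : Y.Opens) (hU' : IsAffineOpen U') :
    Rel u lam lam' U' hU' W s s' := by
  intro y hy
  have hxU' : (RelProj.emb p chart U' hU').base y ∈ p ⁻¹ᵁ U' := by
    have : (RelProj.emb p chart U' hU').base y ∈ Set.range (RelProj.emb p chart U' hU') := ⟨y, rfl⟩
    rw [range_emb] at this
    exact this
  obtain ⟨r, r', hrr, hx⟩ := exists_basicOpen_le_affine_inter hU hU'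
    (p.base ((RelProj.emb p chart U' hU').base y)) ⟨hW hy, hxU'⟩
  have hV : IsAffineOpen (Y.basicOpen r) := hU.basicOpen r
  have hW₂ : W ⊓ p ⁻¹ᵁ (Y.basicOpen r) ≤ W := inf_le_left
  have h1 := rel_res u lam lam' U hU hW₂ s s' h
  have h2 := rel_descend u lam lam' hP hF hG U hU r _ hV rfl _ _ _ h1
  have hle' : W ⊓ p ⁻¹ᵁ (Y.basicOpen r) ≤ p ⁻¹ᵁ U' := fun x hx =>
    Y.basicOpen_le r' (hrr ▸ hx.2)
  obtain ⟨s'', h3⟩ := rel_exists u hu lam lam' hG U' hU' _ hle' (F.presheaf.map (homOfLE hW₂).op s)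
  have h4 := rel_descend u lam lam' hP hF hG U' hU' r' _ hV hrr _ _ _ h3
  have h5 := rel_unique u hu lam lam' hG _ hV _ inf_le_right _ _ _ h4 h2
  subst h5
  exact rel_of_res u lam lam' U' hU' hW₂ s s' h3 y ⟨hy, hx⟩

open Groth.Agent.Lib.helper28.HomOfBasis in
/-- **The induced morphism**: exactly one morphism `F ⟶ G` reads chartwise as `GrMod.map u(U)`. -/
theorem existsUnique_hom (hP : RelProj.IsRelProj 𝒮 p chart)
    (hF : RelProj.IsRelTilde 𝒮 p chart ℳ n F lam) (hG : RelProj.IsRelTilde 𝒮 p chart 𝒩 n G lam') :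
    ∃! φ : F ⟶ G, ∀ (U : Y.Opens) (hU : IsAffineOpen U), φ ≫ lam' U hU =
      lam U hU ≫ (Scheme.Modules.pushforward (RelProj.emb p chart U hU)).map
        (GrMod.map (𝒮.deg U hU) (uU u U) (hu U hU) n) := by
  classical
  let B : SmallOpens p → P.Opens := fun i => i.1
  have hB : Opens.IsBasis (Set.range B) := isBasis_small
  let UU : SmallOpens p → Y.Opens := fun i => i.2.choose
  have hUU : ∀ i, IsAffineOpen (UU i) := fun i => i.2.choose_spec.choose
  have hle : ∀ i, B i ≤ p ⁻¹ᵁ (UU i) := fun i => i.2.choose_spec.choose_spec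
  have hex : ∀ i (s : Γ(F, B i)), ∃ s' : Γ(G, B i), Rel u lam lam' (UU i) (hUU i) (B i) s s' :=
    fun i s => rel_exists u hu lam lam' hG (UU i) (hUU i) (B i) (hle i) s
  choose φ₀ hrel using hex
  have hadd : ∀ i (s t : Γ(F, B i)), φ₀ i (s + t) = φ₀ i s + φ₀ i t := by
    intro i s t
    refine rel_unique u hu lam lam' hG (UU i) (hUU i) (B i) (hle i) _ _ _ (hrel i _) ?_
    intro y hy
    rw [map_add, map_add]
    change GrMod.val _ ⟨y, hy⟩ + GrMod.val _ ⟨y, hy⟩ =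
      GrMod.locMap _ y (GrMod.val _ ⟨y, hy⟩ + GrMod.val _ ⟨y, hy⟩)
    rw [map_add, hrel i s y hy, hrel i t y hy]
  let φ : ∀ i, Γ(F, B i) →+ Γ(G, B i) := fun i => AddMonoidHom.mk' (φ₀ i) (hadd i)
  have hnat : ∀ (i j : SmallOpens p) (hij : B i ≤ B j) (s : Γ(F, B j)),
      φ i (F.presheaf.map (homOfLE hij).op s) = G.presheaf.map (homOfLE hij).op (φ j s) := by
    intro i j hij s
    refine rel_unique u hu lam lam' hG (UU i) (hUU i) (B i) (hle i) _ _ _ (hrel i _) ?_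
    exact rel_indep u hu lam lam' hP hF hG (UU j) (hUU j) (B i) (hij.trans (hle j)) _ _
      (rel_res u lam lam' (UU j) (hUU j) hij s (φ j s) (hrel j s)) (UU i) (hUU i)
  have hlin : ∀ (i : SmallOpens p) (r : Γ(P, B i)) (s : Γ(F, B i)), φ i (r • s) = r • φ i s := by
    intro i r s
    refine rel_unique u hu lam lam' hG (UU i) (hUU i) (B i) (hle i) _ _ _ (hrel i _) ?_
    have e1 := Scheme.Modules.Hom.app_smul (lam' (UU i) (hUU i)) r (φ₀ i s)
    have e2 := Scheme.Modules.Hom.app_smul (lam (UU i) (hUU i)) r s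
    have e3 := Scheme.Modules.Hom.app_smul
      ((Scheme.Modules.pushforward (RelProj.emb p chart (UU i) (hUU i))).map
        (GrMod.map (𝒮.deg (UU i) (hUU i)) (uU u (UU i)) (hu (UU i) (hUU i)) n)) r
      ((lam (UU i) (hUU i)).app (B i) s)
    have e4 := (rel_iff u hu lam lam' _ _ _ _ _).mp (hrel i s)
    refine (rel_iff u hu lam lam' _ _ _ _ _).mpr ?_
    exact e1.trans ((congrArg (r • ·) e4).trans (e3.symm.trans (congrArg _ e2.symm)))
  obtain ⟨ψ, hψ⟩ := exists_hom_of_basis B hB φ hnat hlin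
  have hψ1 : ∀ (U : Y.Opens) (hU : IsAffineOpen U), ψ ≫ lam' U hU =
      lam U hU ≫ (Scheme.Modules.pushforward (RelProj.emb p chart U hU)).map
        (GrMod.map (𝒮.deg U hU) (uU u U) (hu U hU) n) := by
    intro U hU
    refine hom_ext_of_basis B hB _ _ fun i s => ?_
    change (lam' U hU).app (B i) (ψ.app (B i) s) =
      (GrMod.map (𝒮.deg U hU) (uU u U) (hu U hU) n).app (RelProj.emb p chart U hU ⁻¹ᵁ B i)
        ((lam U hU).app (B i) s)
    rw [hψ i s]
    exact (rel_iff u hu lam lam' U hU (B i) s (φ i s)).mp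
      (rel_indep u hu lam lam' hP hF hG (UU i) (hUU i) (B i) (hle i) s (φ i s) (hrel i s) U hU)
  refine ⟨ψ, hψ1, ?_⟩
  intro ψ' hψ'
  refine hom_ext_of_basis B hB _ _ fun i s => ?_
  apply (hG.bijective (UU i) (hUU i) (B i) (hle i)).1
  rw [hψ i s]
  have h1 := hψ' (UU i) (hUU i)
  have h2 : (lam' (UU i) (hUU i)).app (B i) (ψ'.app (B i) s) =
      (GrMod.map (𝒮.deg _ _) (uU u _) (hu _ _) n).app (RelProj.emb p chart _ _ ⁻¹ᵁ B i)
        ((lam (UU i) (hUU i)).app (B i) s) := congr(($h1).app (B i) s)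
  rw [h2]
  exact ((rel_iff u hu lam lam' _ _ (B i) s (φ i s)).mp (hrel i s)).symm

end Groth.Agent.Lib.helper28.RelTildeMap
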