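import Groth.Prelude.Def_RelProj3
import Groth.Agent.Lib.Helper28.RelTwistChart
import Groth.Agent.Lib.Helper28.GMTildeQCoh
import Groth.Agent.Lib.Helper28.HomOfBasis
import Groth.Agent.Lib.Helper2.ModSec3

/-!
# Uniqueness of the module `(ℳ(n))~` on a relative Proj (helper28)

Two modules `(F, lam)`, `(F', lam')` with `RelProj.IsRelTilde` data for the same `ℳ`, `n` are related
by exactly one morphism commuting with the chart identifications, and it is an isomorphism.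
-/

set_option autoImplicit false
set_option linter.style.haveILetI false
universe u
open CategoryTheory CategoryTheory.Limits AlgebraicGeometry TopologicalSpace Opposite
open Scheme.Modules

namespace Groth.Agent.Lib.helper28.RelTildeUniq

open Groth.Agent.Lib.helper28.RelTwistChart Groth.Agent.Lib.helper2

variable {Y P : Scheme.{u}} {𝒮 : RelProj.QCGrAlg Y} {p : P ⟶ Y}
  {chart : ∀ (U : Y.Opens) (hU : IsAffineOpen U),
    (((p ⁻¹ᵁ U : P.Opens) : Scheme.{u}) ≅ Proj (𝒮.deg U hU))}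
  {ℳ : RelProj.GrModule 𝒮} {n : ℤ} {F F' : P.Modules}
  (lam : ∀ (U : Y.Opens) (hU : IsAffineOpen U),
    F ⟶ (Scheme.Modules.pushforward (RelProj.emb p chart U hU)).obj
      (GrMod.tilde (𝒮.deg U hU) (ℳ.deg U hU) n))
  (lam' : ∀ (U : Y.Opens) (hU : IsAffineOpen U),
    F' ⟶ (Scheme.Modules.pushforward (RelProj.emb p chart U hU)).obj
      (GrMod.tilde (𝒮.deg U hU) (ℳ.deg U hU) n))

/-- The sections `s` of `F` and `s'` of `F'` over `W` have the same values on the chart over `U`. -/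
def Rel (U : Y.Opens) (hU : IsAffineOpen U) (W : P.Opens) (s : Γ(F, W)) (s' : Γ(F', W)) : Prop :=
  ∀ (y : Proj (𝒮.deg U hU)) (hy : (RelProj.emb p chart U hU).base y ∈ W),
    GrMod.val (V := RelProj.emb p chart U hU ⁻¹ᵁ W) ((lam U hU).app W s) ⟨y, hy⟩ =
      GrMod.val (V := RelProj.emb p chart U hU ⁻¹ᵁ W) ((lam' U hU).app W s') ⟨y, hy⟩

theorem rel_iff (U : Y.Opens) (hU : IsAffineOpen U) (W : P.Opens) (s : Γ(F, W)) (s' : Γ(F', W)) :
    Rel lam lam' U hU W s s' ↔ (lam U hU).app W s = (lam' U hU).app W s' := by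
  constructor
  · intro h
    exact Groth.Agent.Lib.helper28.GMTildeQCoh.sect_ext _ _ _ _ fun x => h x.1 x.2
  · intro h y hy
    rw [h]

theorem rel_res (U : Y.Opens) (hU : IsAffineOpen U) {W W₂ : P.Opens} (i : W₂ ≤ W) (s : Γ(F, W))
    (s' : Γ(F', W)) (h : Rel lam lam' U hU W s s') :
    Rel lam lam' U hU W₂ (F.presheaf.map (homOfLE i).op s) (F'.presheaf.map (homOfLE i).op s') := by
  intro y hy
  rw [← ModSec.map_app_apply (lam U hU) (homOfLE i) s,
    ← ModSec.map_app_apply (lam' U hU) (homOfLE i) s']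
  exact h y (i hy)

/-- Values only depend on the restriction to a neighbourhood. -/
theorem rel_of_res (U : Y.Opens) (hU : IsAffineOpen U) {W W₂ : P.Opens} (i : W₂ ≤ W) (s : Γ(F, W))
    (s' : Γ(F', W))
    (h : Rel lam lam' U hU W₂ (F.presheaf.map (homOfLE i).op s) (F'.presheaf.map (homOfLE i).op s'))
    (y : Proj (𝒮.deg U hU)) (hy : (RelProj.emb p chart U hU).base y ∈ W₂) :
    GrMod.val (V := RelProj.emb p chart U hU ⁻¹ᵁ W) ((lam U hU).app W s) ⟨y, i hy⟩ =
      GrMod.val (V := RelProj.emb p chart U hU ⁻¹ᵁ W) ((lam' U hU).app W s') ⟨y, i hy⟩ := by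
  have h1 := h y hy
  rw [← ModSec.map_app_apply (lam U hU) (homOfLE i) s,
    ← ModSec.map_app_apply (lam' U hU) (homOfLE i) s'] at h1
  exact h1

theorem emb_comap' (hP : RelProj.IsRelProj 𝒮 p chart) (U : Y.Opens) (hU : IsAffineOpen U)
    (r : Γ(Y, U)) (z : ProjectiveSpectrum (𝒮.deg (Y.basicOpen r) (hU.basicOpen r))) :
    (RelProj.emb p chart U hU).base (ProjectiveSpectrum.comap
      (𝒮.res hU (hU.basicOpen r) (Y.basicOpen_le r)) (𝒮.irrelevant_le_map U hU r) z) =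
      (RelProj.emb p chart (Y.basicOpen r) (hU.basicOpen r)).base z := by
  rw [← RelProj.map_res_emb hP U hU r, Scheme.Hom.comp_base]
  rfl

theorem rel_descend (hP : RelProj.IsRelProj 𝒮 p chart)
    (hF : RelProj.IsRelTilde 𝒮 p chart ℳ n F lam) (hF' : RelProj.IsRelTilde 𝒮 p chart ℳ n F' lam')
    (U : Y.Opens) (hU : IsAffineOpen U) (r : Γ(Y, U)) (V : Y.Opens) (hV : IsAffineOpen V)
    (hVr : V = Y.basicOpen r) (W : P.Opens) (s : Γ(F, W)) (s' : Γ(F', W))
    (h : Rel lam lam' U hU W s s') : Rel lam lam' V hV W s s' := by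
  subst hVr
  intro z hz
  have hy' : (RelProj.emb p chart U hU).base (ProjectiveSpectrum.comap
      (𝒮.res hU (hU.basicOpen r) (Y.basicOpen_le r)) (𝒮.irrelevant_le_map U hU r) z) ∈ W := by
    rw [emb_comap' hP]
    exact hz
  have hc := hF.compat U hU r W s z hz hy'
  have hc' := hF'.compat U hU r W s' z hz hy'
  rw [hc, hc', h _ hy']

theorem rel_unique (hF' : RelProj.IsRelTilde 𝒮 p chart ℳ n F' lam')
    (U : Y.Opens) (hU : IsAffineOpen U) (W : P.Opens) (hW : W ≤ p ⁻¹ᵁ U) (s : Γ(F, W))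
    (s' s'' : Γ(F', W)) (h : Rel lam lam' U hU W s s') (h' : Rel lam lam' U hU W s s'') :
    s' = s'' := by
  apply (hF'.bijective U hU W hW).1
  rw [← (rel_iff lam lam' U hU W s s').mp h, ← (rel_iff lam lam' U hU W s s'').mp h']

theorem rel_exists (hF' : RelProj.IsRelTilde 𝒮 p chart ℳ n F' lam')
    (U : Y.Opens) (hU : IsAffineOpen U) (W : P.Opens) (hW : W ≤ p ⁻¹ᵁ U) (s : Γ(F, W)) :
    ∃ s' : Γ(F', W), Rel lam lam' U hU W s s' := by
  obtain ⟨s', hs'⟩ := (hF'.bijective U hU W hW).2 ((lam U hU).app W s)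
  exact ⟨s', (rel_iff lam lam' U hU W s s').mpr hs'.symm⟩

theorem rel_indep (hP : RelProj.IsRelProj 𝒮 p chart)
    (hF : RelProj.IsRelTilde 𝒮 p chart ℳ n F lam) (hF' : RelProj.IsRelTilde 𝒮 p chart ℳ n F' lam')
    (U : Y.Opens) (hU : IsAffineOpen U) (W : P.Opens) (hW : W ≤ p ⁻¹ᵁ U) (s : Γ(F, W))
    (s' : Γ(F', W)) (h : Rel lam lam' U hU W s s') (U' : Y.Opens) (hU' : IsAffineOpen U') :
    Rel lam lam' U' hU' W s s' := by
  intro y hy
  have hxU' : (RelProj.emb p chart U' hU').base y ∈ p ⁻¹ᵁ U' := by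
    have : (RelProj.emb p chart U' hU').base y ∈ Set.range (RelProj.emb p chart U' hU') := ⟨y, rfl⟩
    rw [range_emb] at this
    exact this
  obtain ⟨r, r', hrr, hx⟩ := exists_basicOpen_le_affine_inter hU hU'
    (p.base ((RelProj.emb p chart U' hU').base y)) ⟨hW hy, hxU'⟩
  have hV : IsAffineOpen (Y.basicOpen r) := hU.basicOpen r
  have hW₂ : W ⊓ p ⁻¹ᵁ (Y.basicOpen r) ≤ W := inf_le_left
  have h1 := rel_res lam lam' U hU hW₂ s s' h
  have h2 := rel_descend lam lam' hP hF hF' U hU r _ hV rfl _ _ _ h1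
  have hle' : W ⊓ p ⁻¹ᵁ (Y.basicOpen r) ≤ p ⁻¹ᵁ U' := fun x hx =>
    Y.basicOpen_le r' (hrr ▸ hx.2)
  obtain ⟨s'', h3⟩ := rel_exists lam lam' hF' U' hU' _ hle' (F.presheaf.map (homOfLE hW₂).op s)
  have h4 := rel_descend lam lam' hP hF hF' U' hU' r' _ hV hrr _ _ _ h3
  have h5 := rel_unique lam lam' hF' _ hV _ inf_le_right _ _ _ h4 h2
  subst h5
  exact rel_of_res lam lam' U' hU' hW₂ s s' h3 y ⟨hy, hx⟩

variable (p) in
/-- The opens of `P` lying over some affine open of `Y`. -/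
abbrev SmallOpens : Type u := {W : P.Opens // ∃ (U : Y.Opens) (_ : IsAffineOpen U), W ≤ p ⁻¹ᵁ U}

theorem isBasis_small :
    Opens.IsBasis (Set.range (fun i : SmallOpens p => i.1)) := by
  rw [Opens.isBasis_iff_nbhd]
  intro W x hx
  obtain ⟨U, hU, hxU, -⟩ := (Opens.isBasis_iff_nbhd.mp Y.isBasis_affineOpens)
    (show p.base x ∈ (⊤ : Y.Opens) from trivial)
  exact ⟨W ⊓ p ⁻¹ᵁ U, ⟨⟨W ⊓ p ⁻¹ᵁ U, U, hU, inf_le_right⟩, rfl⟩, ⟨hx, hxU⟩, inf_le_left⟩

open Groth.Agent.Lib.helper28.HomOfBasis in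
/-- **Uniqueness of `(ℳ(n))~`**: exactly one morphism commutes with the chart identifications,
and any such morphism is an isomorphism. -/
theorem existsUnique_hom (hP : RelProj.IsRelProj 𝒮 p chart)
    (hF : RelProj.IsRelTilde 𝒮 p chart ℳ n F lam) (hF' : RelProj.IsRelTilde 𝒮 p chart ℳ n F' lam') :
    (∃! φ : F ⟶ F', ∀ (U : Y.Opens) (hU : IsAffineOpen U), φ ≫ lam' U hU = lam U hU) ∧
      ∀ φ : F ⟶ F', (∀ (U : Y.Opens) (hU : IsAffineOpen U), φ ≫ lam' U hU = lam U hU) →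
        IsIso φ := by
  classical
  let B : SmallOpens p → P.Opens := fun i => i.1
  have hB : Opens.IsBasis (Set.range B) := isBasis_small
  let UU : SmallOpens p → Y.Opens := fun i => i.2.choose
  have hUU : ∀ i, IsAffineOpen (UU i) := fun i => i.2.choose_spec.choose
  have hle : ∀ i, B i ≤ p ⁻¹ᵁ (UU i) := fun i => i.2.choose_spec.choose_spec
  let e : ∀ i, Γ(F', B i) ≃+ Γ((Scheme.Modules.pushforward (RelProj.emb p chart (UU i) (hUU i))).obj
      (GrMod.tilde (𝒮.deg (UU i) (hUU i)) (ℳ.deg (UU i) (hUU i)) n), B i) := fun i =>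
    AddEquiv.ofBijective ((lam' (UU i) (hUU i)).app (B i)).hom
      (hF'.bijective (UU i) (hUU i) (B i) (hle i))
  let φ : ∀ i, Γ(F, B i) →+ Γ(F', B i) := fun i =>
    (e i).symm.toAddMonoidHom.comp ((lam (UU i) (hUU i)).app (B i)).hom
  have hφ : ∀ i (s : Γ(F, B i)), (lam' (UU i) (hUU i)).app (B i) (φ i s) =
      (lam (UU i) (hUU i)).app (B i) s := fun i s =>
    (e i).apply_symm_apply ((lam (UU i) (hUU i)).app (B i) s)
  have hrel : ∀ i (s : Γ(F, B i)), Rel lam lam' (UU i) (hUU i) (B i) s (φ i s) := fun i s =>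
    (rel_iff lam lam' _ _ _ _ _).mpr (hφ i s).symm
  have hnat : ∀ (i j : SmallOpens p) (hij : B i ≤ B j) (s : Γ(F, B j)),
      φ i (F.presheaf.map (homOfLE hij).op s) = F'.presheaf.map (homOfLE hij).op (φ j s) := by
    intro i j hij s
    refine rel_unique lam lam' hF' (UU i) (hUU i) (B i) (hle i) _ _ _ (hrel i _) ?_
    exact rel_indep lam lam' hP hF hF' (UU j) (hUU j) (B i) (hij.trans (hle j)) _ _
      (rel_res lam lam' (UU j) (hUU j) hij s (φ j s) (hrel j s)) (UU i) (hUU i)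
  have hlin : ∀ (i : SmallOpens p) (r : Γ(P, B i)) (s : Γ(F, B i)), φ i (r • s) = r • φ i s := by
    intro i r s
    refine rel_unique lam lam' hF' (UU i) (hUU i) (B i) (hle i) _ _ _ (hrel i _) ?_
    rw [rel_iff, Scheme.Modules.Hom.app_smul, Scheme.Modules.Hom.app_smul, hφ]
  obtain ⟨ψ, hψ⟩ := exists_hom_of_basis B hB φ hnat hlin
  have hψ1 : ∀ (U : Y.Opens) (hU : IsAffineOpen U), ψ ≫ lam' U hU = lam U hU := by
    intro U hU
    refine hom_ext_of_basis B hB _ _ fun i s => ?_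
    change (lam' U hU).app (B i) (ψ.app (B i) s) = (lam U hU).app (B i) s
    rw [hψ i s]
    exact ((rel_iff lam lam' U hU (B i) s (φ i s)).mp
      (rel_indep lam lam' hP hF hF' (UU i) (hUU i) (B i) (hle i) s (φ i s) (hrel i s) U hU)).symm
  refine ⟨⟨ψ, hψ1, ?_⟩, ?_⟩
  · intro ψ' hψ'
    refine hom_ext_of_basis B hB _ _ fun i s => ?_
    apply (hF'.bijective (UU i) (hUU i) (B i) (hle i)).1
    rw [hψ i s, hφ i s]
    have := hψ' (UU i) (hUU i)
    exact congr(($this).app (B i) s)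
  · intro φ' hφ'
    refine ModSec.isIso_of_bijective_basis φ' (Set.range B) hB ?_
    rintro _ ⟨i, rfl⟩
    have h1 : ((lam' (UU i) (hUU i)).app (B i)).hom ∘ (φ'.app (B i)).hom =
        ((lam (UU i) (hUU i)).app (B i)).hom := by
      funext s
      have := hφ' (UU i) (hUU i)
      exact congr(($this).app (B i) s)
    have h2 : Function.Bijective (((lam' (UU i) (hUU i)).app (B i)).hom ∘ (φ'.app (B i)).hom) := by
      rw [h1]
      exact hF.bijective (UU i) (hUU i) (B i) (hle i)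
    exact (Function.Bijective.of_comp_iff' (hF'.bijective (UU i) (hUU i) (B i) (hle i)) _).mp h2

end Groth.Agent.Lib.helper28.RelTildeUniq
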