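import Groth.Agent.Lib.Helper28.RelTwistSec
import Groth.Agent.Lib.Helper28.RelTildeUniq
import Groth.Agent.Lib.Helper28.GMTildeMul
import Groth.Agent.Lib.Helper28.GProjSec

/-!
# The multiplication `(ℳ(k))~ × O_P(n) → (ℳ(k + n))~` on a relative Proj (helper28)
-/

set_option autoImplicit false
set_option linter.style.haveILetI false
universe u
open CategoryTheory CategoryTheory.Limits AlgebraicGeometry TopologicalSpace Opposite
open Scheme.Modules
open scoped HomogeneousIdeal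

namespace Groth.Agent.Lib.helper28.RelTildeProd

open Groth.Agent.Lib.helper28.RelTwistChart Groth.Agent.Lib.helper2

variable {Y P : Scheme.{u}} {𝒮 : RelProj.QCGrAlg Y} {p : P ⟶ Y}
  {chart : ∀ (U : Y.Opens) (hU : IsAffineOpen U),
    (((p ⁻¹ᵁ U : P.Opens) : Scheme.{u}) ≅ Proj (𝒮.deg U hU))}
  {ℳ : RelProj.GrModule 𝒮} {k n e : ℤ} {F L F' : P.Modules}
  (lam : ∀ (U : Y.Opens) (hU : IsAffineOpen U),
    F ⟶ (Scheme.Modules.pushforward (RelProj.emb p chart U hU)).obj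
      (GrMod.tilde (𝒮.deg U hU) (ℳ.deg U hU) k))
  (lamL : ∀ (U : Y.Opens) (hU : IsAffineOpen U),
    L ⟶ (Scheme.Modules.pushforward (RelProj.emb p chart U hU)).obj
      (GrTwist.twist (𝒮.deg U hU) n))
  (lam' : ∀ (U : Y.Opens) (hU : IsAffineOpen U),
    F' ⟶ (Scheme.Modules.pushforward (RelProj.emb p chart U hU)).obj
      (GrMod.tilde (𝒮.deg U hU) (ℳ.deg U hU) e))

/-- The section `t` of `(ℳ(e))~` over `N` reads, on the chart over `U`, the product of the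
sections `s` of `(ℳ(k))~` and `l` of `O_P(n)` over `W`. -/
def Rel (U : Y.Opens) (hU : IsAffineOpen U) (W N : P.Opens) (s : Γ(F, W)) (l : Γ(L, W))
    (t : Γ(F', N)) : Prop :=
  ∀ (y : ProjectiveSpectrum (𝒮.deg U hU)) (hy : (RelProj.emb p chart U hU).base y ∈ N)
    (hy' : (RelProj.emb p chart U hU).base y ∈ W),
    GrMod.val (V := RelProj.emb p chart U hU ⁻¹ᵁ N) ((lam' U hU).app N t) ⟨y, hy⟩ =
      GrTwist.val (V := RelProj.emb p chart U hU ⁻¹ᵁ W) ((lamL U hU).app W l) ⟨y, hy'⟩ •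
        GrMod.val (V := RelProj.emb p chart U hU ⁻¹ᵁ W) ((lam U hU).app W s) ⟨y, hy'⟩

theorem rel_resN (U : Y.Opens) (hU : IsAffineOpen U) (W : P.Opens) {N N₂ : P.Opens}
    (i : N₂ ≤ N) (s : Γ(F, W)) (l : Γ(L, W)) (t : Γ(F', N))
    (hr : Rel lam lamL lam' U hU W N s l t) :
    Rel lam lamL lam' U hU W N₂ s l (F'.presheaf.map (homOfLE i).op t) := by
  intro y hy hy'
  rw [← ModSec.map_app_apply (lam' U hU) (homOfLE i) t]
  exact hr y (i hy) hy'

theorem rel_resW (U : Y.Opens) (hU : IsAffineOpen U) {W W₂ : P.Opens} (i : W₂ ≤ W)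
    (N : P.Opens) (s : Γ(F, W)) (l : Γ(L, W)) (t : Γ(F', N))
    (hr : Rel lam lamL lam' U hU W N s l t) :
    Rel lam lamL lam' U hU W₂ N (F.presheaf.map (homOfLE i).op s)
      (L.presheaf.map (homOfLE i).op l) t := by
  intro y hy hy'
  rw [← ModSec.map_app_apply (lam U hU) (homOfLE i) s,
    ← ModSec.map_app_apply (lamL U hU) (homOfLE i) l]
  exact hr y hy (i hy')

/-- Values only depend on the restriction of `t` to a neighbourhood. -/
theorem rel_of_resN (U : Y.Opens) (hU : IsAffineOpen U) (W : P.Opens) {N N₂ : P.Opens}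
    (i : N₂ ≤ N) (s : Γ(F, W)) (l : Γ(L, W)) (t : Γ(F', N))
    (hr : Rel lam lamL lam' U hU W N₂ s l (F'.presheaf.map (homOfLE i).op t))
    (y : ProjectiveSpectrum (𝒮.deg U hU)) (hy : (RelProj.emb p chart U hU).base y ∈ N₂)
    (hy' : (RelProj.emb p chart U hU).base y ∈ W) :
    GrMod.val (V := RelProj.emb p chart U hU ⁻¹ᵁ N) ((lam' U hU).app N t) ⟨y, i hy⟩ =
      GrTwist.val (V := RelProj.emb p chart U hU ⁻¹ᵁ W) ((lamL U hU).app W l) ⟨y, hy'⟩ •
        GrMod.val (V := RelProj.emb p chart U hU ⁻¹ᵁ W) ((lam U hU).app W s) ⟨y, hy'⟩ := by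
  have h1 := hr y hy hy'
  rw [← ModSec.map_app_apply (lam' U hU) (homOfLE i) t] at h1
  exact h1

theorem rel_unique (hF' : RelProj.IsRelTilde 𝒮 p chart ℳ e F' lam')
    (U : Y.Opens) (hU : IsAffineOpen U) (W N : P.Opens) (hN : N ≤ p ⁻¹ᵁ U)
    (hNW : N ≤ W) (s : Γ(F, W)) (l : Γ(L, W)) (t t' : Γ(F', N))
    (hr : Rel lam lamL lam' U hU W N s l t) (hr' : Rel lam lamL lam' U hU W N s l t') :
    t = t' := by
  apply (hF'.bijective U hU N hN).1
  refine Groth.Agent.Lib.helper28.GMTildeQCoh.sect_ext _ _ _ _ fun x => ?_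
  exact (hr x.1 x.2 (hNW x.2)).trans (hr' x.1 x.2 (hNW x.2)).symm

open Groth.Agent.Lib.helper28.GMTildeMul in
theorem rel_exists (he : k + n = e) (hF' : RelProj.IsRelTilde 𝒮 p chart ℳ e F' lam')
    (U : Y.Opens) (hU : IsAffineOpen U) (W N : P.Opens) (hN : N ≤ p ⁻¹ᵁ U)
    (hNW : N ≤ W) (s : Γ(F, W)) (l : Γ(L, W)) :
    ∃ t : Γ(F', N), Rel lam lamL lam' U hU W N s l t := by
  obtain ⟨t, ht⟩ := (hF'.bijective U hU N hN).2
    (castSect (𝒮.deg U hU) (ℳ.deg U hU) he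
      (smulFun (𝒮.deg U hU) (ℳ.deg U hU) k n (RelProj.emb p chart U hU ⁻¹ᵁ N)
        ((lam U hU).app N (F.presheaf.map (homOfLE hNW).op s))
        ((lamL U hU).app N (L.presheaf.map (homOfLE hNW).op l))))
  refine ⟨t, fun y hy hy' => ?_⟩
  rw [ht, ← ModSec.map_app_apply (lam U hU) (homOfLE hNW) s,
    ← ModSec.map_app_apply (lamL U hU) (homOfLE hNW) l]
  exact castSect_val (𝒮.deg U hU) (ℳ.deg U hU) he _ ⟨y, hy⟩

theorem rel_descend (hP : RelProj.IsRelProj 𝒮 p chart)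
    (hF : RelProj.IsRelTilde 𝒮 p chart ℳ k F lam)
    (hL : RelProj.IsRelTwist 𝒮 p chart n L lamL)
    (hF' : RelProj.IsRelTilde 𝒮 p chart ℳ e F' lam')
    (U : Y.Opens) (hU : IsAffineOpen U) (r : Γ(Y, U)) (V : Y.Opens) (hV : IsAffineOpen V)
    (hVr : V = Y.basicOpen r) (W N : P.Opens) (s : Γ(F, W)) (l : Γ(L, W)) (t : Γ(F', N))
    (hr : Rel lam lamL lam' U hU W N s l t) : Rel lam lamL lam' V hV W N s l t := by
  subst hVr
  intro z hz hz'
  have hy : (RelProj.emb p chart U hU).base (ProjectiveSpectrum.comap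
      (𝒮.res hU (hU.basicOpen r) (Y.basicOpen_le r)) (𝒮.irrelevant_le_map U hU r) z) ∈ N := by
    rw [Groth.Agent.Lib.helper28.RelTwistSec.emb_comap hP]
    exact hz
  have hy' : (RelProj.emb p chart U hU).base (ProjectiveSpectrum.comap
      (𝒮.res hU (hU.basicOpen r) (Y.basicOpen_le r)) (𝒮.irrelevant_le_map U hU r) z) ∈ W := by
    rw [Groth.Agent.Lib.helper28.RelTwistSec.emb_comap hP]
    exact hz'
  rw [hF'.compat U hU r N t z hz hy, hF.compat U hU r W s z hz' hy',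
    hL.compat U hU r W l z hz' hy', hr _ hy hy', GrMod.locModMap_smul]

theorem rel_indep (he : k + n = e) (hP : RelProj.IsRelProj 𝒮 p chart)
    (hF : RelProj.IsRelTilde 𝒮 p chart ℳ k F lam)
    (hL : RelProj.IsRelTwist 𝒮 p chart n L lamL)
    (hF' : RelProj.IsRelTilde 𝒮 p chart ℳ e F' lam')
    (U : Y.Opens) (hU : IsAffineOpen U) (W N : P.Opens) (hN : N ≤ p ⁻¹ᵁ U)
    (hNW : N ≤ W) (s : Γ(F, W)) (l : Γ(L, W)) (t : Γ(F', N))
    (hr : Rel lam lamL lam' U hU W N s l t)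
    (U' : Y.Opens) (hU' : IsAffineOpen U') : Rel lam lamL lam' U' hU' W N s l t := by
  intro y hy hy'
  have hxU' : (RelProj.emb p chart U' hU').base y ∈ p ⁻¹ᵁ U' := by
    have : (RelProj.emb p chart U' hU').base y ∈ Set.range (RelProj.emb p chart U' hU') :=
      ⟨y, rfl⟩
    rw [range_emb] at this
    exact this
  obtain ⟨r, r', hrr, hx⟩ := exists_basicOpen_le_affine_inter hU hU'
    (p.base ((RelProj.emb p chart U' hU').base y)) ⟨hN hy, hxU'⟩
  have hV : IsAffineOpen (Y.basicOpen r) := hU.basicOpen r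
  have hN₂ : N ⊓ p ⁻¹ᵁ (Y.basicOpen r) ≤ N := inf_le_left
  have h1 := rel_resN lam lamL lam' U hU W hN₂ s l t hr
  have h2 := rel_descend lam lamL lam' hP hF hL hF' U hU r _ hV rfl W _ s l _ h1
  have hle' : N ⊓ p ⁻¹ᵁ (Y.basicOpen r) ≤ p ⁻¹ᵁ U' := fun x hx =>
    Y.basicOpen_le r' (hrr ▸ hx.2)
  obtain ⟨t'', h3⟩ := rel_exists lam lamL lam' he hF' U' hU' W _ hle' (hN₂.trans hNW) s l
  have h4 := rel_descend lam lamL lam' hP hF hL hF' U' hU' r' _ hV hrr W _ s l _ h3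
  have h5 := rel_unique lam lamL lam' hF' _ hV W _ inf_le_right (hN₂.trans hNW) s l _ _ h4 h2
  subst h5
  exact rel_of_resN lam lamL lam' U' hU' W hN₂ s l t h3 y ⟨hy, hx⟩ hy'

/-- `t` is the product of `s` and `l`. -/
def IsProd (W : P.Opens) (s : Γ(F, W)) (l : Γ(L, W)) (t : Γ(F', W)) : Prop :=
  ∀ (U : Y.Opens) (hU : IsAffineOpen U), Rel lam lamL lam' U hU W W s l t

theorem prod_unique (hF' : RelProj.IsRelTilde 𝒮 p chart ℳ e F' lam') (W : P.Opens)
    (s : Γ(F, W)) (l : Γ(L, W)) (t t' : Γ(F', W)) (ht : IsProd lam lamL lam' W s l t)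
    (ht' : IsProd lam lamL lam' W s l t') : t = t' := by
  refine (ModSec.sheaf F').eq_of_locally_eq'
    (fun i : {U : Y.Opens // IsAffineOpen U} => W ⊓ p ⁻¹ᵁ i.1) W
    (fun i => homOfLE inf_le_left) (Groth.Agent.Lib.helper28.RelTwistSec.le_iSup_inf p _) t t' ?_
  intro i
  exact rel_unique lam lamL lam' hF' i.1 i.2 W _ inf_le_right inf_le_left s l _ _
    (rel_resN lam lamL lam' i.1 i.2 W inf_le_left s l t (ht i.1 i.2))
    (rel_resN lam lamL lam' i.1 i.2 W inf_le_left s l t' (ht' i.1 i.2))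

theorem exists_prod (he : k + n = e) (hP : RelProj.IsRelProj 𝒮 p chart)
    (hF : RelProj.IsRelTilde 𝒮 p chart ℳ k F lam)
    (hL : RelProj.IsRelTwist 𝒮 p chart n L lamL)
    (hF' : RelProj.IsRelTilde 𝒮 p chart ℳ e F' lam') (W : P.Opens)
    (s : Γ(F, W)) (l : Γ(L, W)) : ∃ t : Γ(F', W), IsProd lam lamL lam' W s l t := by
  classical
  let ι := {U : Y.Opens // IsAffineOpen U}
  let N : ι → P.Opens := fun i => W ⊓ p ⁻¹ᵁ i.1
  have hex : ∀ i : ι, ∃ t : Γ(F', N i), Rel lam lamL lam' i.1 i.2 W (N i) s l t := fun i =>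
    rel_exists lam lamL lam' he hF' i.1 i.2 W (N i) inf_le_right inf_le_left s l
  choose sf hsf using hex
  have hcompat : TopCat.Presheaf.IsCompatible F'.presheaf N sf := by
    intro i j
    refine rel_unique lam lamL lam' hF' i.1 i.2 W (N i ⊓ N j) (inf_le_left.trans inf_le_right)
      (inf_le_left.trans inf_le_left) s l _ _
      (rel_resN lam lamL lam' i.1 i.2 W inf_le_left s l (sf i) (hsf i)) ?_
    exact rel_indep lam lamL lam' he hP hF hL hF' j.1 j.2 W (N i ⊓ N j)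
      (inf_le_right.trans inf_le_right) (inf_le_left.trans inf_le_left) s l _
      (rel_resN lam lamL lam' j.1 j.2 W inf_le_right s l (sf j) (hsf j)) i.1 i.2
  obtain ⟨t, ht, -⟩ := (ModSec.sheaf F').existsUnique_gluing' N W
    (fun i => homOfLE (inf_le_left : N i ≤ W))
    (Groth.Agent.Lib.helper28.RelTwistSec.le_iSup_inf p _) sf hcompat
  refine ⟨t, fun U hU y hy hy' => ?_⟩
  have hxU : (RelProj.emb p chart U hU).base y ∈ p ⁻¹ᵁ U := by
    have : (RelProj.emb p chart U hU).base y ∈ Set.range (RelProj.emb p chart U hU) :=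
      ⟨y, rfl⟩
    rw [range_emb] at this
    exact this
  have h3 : F'.presheaf.map (homOfLE (inf_le_left : N ⟨U, hU⟩ ≤ W)).op t = sf ⟨U, hU⟩ :=
    ht ⟨U, hU⟩
  have h4 := hsf ⟨U, hU⟩
  rw [← h3] at h4
  exact rel_of_resN lam lamL lam' U hU W (inf_le_left : N ⟨U, hU⟩ ≤ W) s l t h4 y
    ⟨hy, hxU⟩ hy'

theorem isProd_res (W W₂ : P.Opens) (i : W₂ ≤ W) (s : Γ(F, W)) (l : Γ(L, W)) (t : Γ(F', W))
    (ht : IsProd lam lamL lam' W s l t) :
    IsProd lam lamL lam' W₂ (F.presheaf.map (homOfLE i).op s)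
      (L.presheaf.map (homOfLE i).op l) (F'.presheaf.map (homOfLE i).op t) := fun U hU =>
  rel_resW lam lamL lam' U hU i _ _ _ _
    (rel_resN lam lamL lam' U hU W i s l t (ht U hU))

theorem isProd_add_left (W : P.Opens) (s₁ s₂ : Γ(F, W)) (l : Γ(L, W)) (t₁ t₂ : Γ(F', W))
    (h₁ : IsProd lam lamL lam' W s₁ l t₁) (h₂ : IsProd lam lamL lam' W s₂ l t₂) :
    IsProd lam lamL lam' W (s₁ + s₂) l (t₁ + t₂) := by
  intro U hU y hy hy'
  rw [map_add, map_add]
  change GrMod.val _ ⟨y, hy⟩ + GrMod.val _ ⟨y, hy⟩ =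
    _ • (GrMod.val _ ⟨y, hy'⟩ + GrMod.val _ ⟨y, hy'⟩)
  rw [smul_add, h₁ U hU y hy hy', h₂ U hU y hy hy']

theorem isProd_add_right (W : P.Opens) (s : Γ(F, W)) (l₁ l₂ : Γ(L, W)) (t₁ t₂ : Γ(F', W))
    (h₁ : IsProd lam lamL lam' W s l₁ t₁) (h₂ : IsProd lam lamL lam' W s l₂ t₂) :
    IsProd lam lamL lam' W s (l₁ + l₂) (t₁ + t₂) := by
  intro U hU y hy hy'
  rw [map_add, map_add]
  change GrMod.val _ ⟨y, hy⟩ + GrMod.val _ ⟨y, hy⟩ =
    (GrTwist.val _ ⟨y, hy'⟩ + GrTwist.val _ ⟨y, hy'⟩) • _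
  rw [add_smul, h₁ U hU y hy hy', h₂ U hU y hy hy']

open Groth.Agent.Lib.helper28.GProjSec Groth.Agent.Lib.helper28.GTwistFree
  Groth.Agent.Lib.helper28.LocalGen Groth.Agent.Lib.helper28.GMTildeMul in
theorem isProd_smul_left (W : P.Opens) (r : Γ(P, W)) (s : Γ(F, W)) (l : Γ(L, W))
    (t : Γ(F', W)) (ht : IsProd lam lamL lam' W s l t) :
    IsProd lam lamL lam' W (r • s) l (r • t) := by
  intro U hU y hy hy'
  have hL : (lam' U hU).app W (r • t) =
      ((((RelProj.emb p chart U hU).app W).hom r •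
        (show Γ(GrMod.tilde (𝒮.deg U hU) (ℳ.deg U hU) e, RelProj.emb p chart U hU ⁻¹ᵁ W) from
          (lam' U hU).app W t)) :
        Γ(GrMod.tilde (𝒮.deg U hU) (ℳ.deg U hU) e, RelProj.emb p chart U hU ⁻¹ᵁ W)) := by
    rw [Scheme.Modules.Hom.app_smul, smul_pushforward]
  have hR : (lam U hU).app W (r • s) =
      ((((RelProj.emb p chart U hU).app W).hom r •
        (show Γ(GrMod.tilde (𝒮.deg U hU) (ℳ.deg U hU) k, RelProj.emb p chart U hU ⁻¹ᵁ W) from
          (lam U hU).app W s)) :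
        Γ(GrMod.tilde (𝒮.deg U hU) (ℳ.deg U hU) k, RelProj.emb p chart U hU ⁻¹ᵁ W)) := by
    rw [Scheme.Modules.Hom.app_smul, smul_pushforward]
  rw [hL, hR]
  let c : GrTwist.O (𝒜 := 𝒮.deg U hU) (op (RelProj.emb p chart U hU ⁻¹ᵁ W)) :=
    ((RelProj.emb p chart U hU).app W).hom r
  let σ' : GrMod.sect (𝒮.deg U hU) (ℳ.deg U hU) e (op (RelProj.emb p chart U hU ⁻¹ᵁ W)) :=
    (lam' U hU).app W t
  let σ : GrMod.sect (𝒮.deg U hU) (ℳ.deg U hU) k (op (RelProj.emb p chart U hU ⁻¹ᵁ W)) :=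
    (lam U hU).app W s
  change ((((c • σ' : GrMod.sect (𝒮.deg U hU) (ℳ.deg U hU) e _)).1 ⟨y, hy⟩ :
      GrMod.tildeAt (𝒮.deg U hU) (ℳ.deg U hU) e y) :
        GrMod.LocMod (𝒮.deg U hU) (M := ℳ.mod.val.obj (op U)) y) =
    (GrTwist.val (V := RelProj.emb p chart U hU ⁻¹ᵁ W) ((lamL U hU).app W l) ⟨y, hy'⟩ :
      GrTwist.Loc (𝒮.deg U hU) y) • ((((c • σ : GrMod.sect (𝒮.deg U hU) (ℳ.deg U hU) k _)).1 ⟨y, hy'⟩ :
        GrMod.tildeAt (𝒮.deg U hU) (ℳ.deg U hU) k y) :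
        GrMod.LocMod (𝒮.deg U hU) (M := ℳ.mod.val.obj (op U)) y)
  have e1 := msmul_val (𝒮.deg U hU) (ℳ.deg U hU) c σ' ⟨y, hy⟩
  have e2 := msmul_val (𝒮.deg U hU) (ℳ.deg U hU) c σ ⟨y, hy'⟩
  have e3 := ht U hU y hy hy'
  refine e1.trans ?_
  refine Eq.trans ?_ (congrArg (fun q => GrTwist.val (V := RelProj.emb p chart U hU ⁻¹ᵁ W)
    ((lamL U hU).app W l) ⟨y, hy'⟩ • q) e2.symm)
  refine (congrArg (fun q => (c.1 ⟨y, hy⟩).val • q) e3).trans ?_
  exact smul_comm _ _ _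

open Groth.Agent.Lib.helper28.GProjSec Groth.Agent.Lib.helper28.GTwistFree
  Groth.Agent.Lib.helper28.LocalGen Groth.Agent.Lib.helper28.GMTildeMul in
theorem isProd_smul_right (W : P.Opens) (r : Γ(P, W)) (s : Γ(F, W)) (l : Γ(L, W))
    (t : Γ(F', W)) (ht : IsProd lam lamL lam' W s l t) :
    IsProd lam lamL lam' W s (r • l) (r • t) := by
  intro U hU y hy hy'
  have hL : (lam' U hU).app W (r • t) =
      ((((RelProj.emb p chart U hU).app W).hom r •
        (show Γ(GrMod.tilde (𝒮.deg U hU) (ℳ.deg U hU) e, RelProj.emb p chart U hU ⁻¹ᵁ W) from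
          (lam' U hU).app W t)) :
        Γ(GrMod.tilde (𝒮.deg U hU) (ℳ.deg U hU) e, RelProj.emb p chart U hU ⁻¹ᵁ W)) := by
    rw [Scheme.Modules.Hom.app_smul, smul_pushforward]
  have hR : (lamL U hU).app W (r • l) =
      ((((RelProj.emb p chart U hU).app W).hom r •
        (show Γ(GrTwist.twist (𝒮.deg U hU) n, RelProj.emb p chart U hU ⁻¹ᵁ W) from
          (lamL U hU).app W l)) :
        Γ(GrTwist.twist (𝒮.deg U hU) n, RelProj.emb p chart U hU ⁻¹ᵁ W)) := by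
    rw [Scheme.Modules.Hom.app_smul, smul_pushforward]
  rw [hL, hR]
  let c : GrTwist.O (𝒜 := 𝒮.deg U hU) (op (RelProj.emb p chart U hU ⁻¹ᵁ W)) :=
    ((RelProj.emb p chart U hU).app W).hom r
  let σ' : GrMod.sect (𝒮.deg U hU) (ℳ.deg U hU) e (op (RelProj.emb p chart U hU ⁻¹ᵁ W)) :=
    (lam' U hU).app W t
  let τ : GrTwist.sectN (𝒜 := 𝒮.deg U hU) n (op (RelProj.emb p chart U hU ⁻¹ᵁ W)) :=
    (lamL U hU).app W l
  change ((((c • σ' : GrMod.sect (𝒮.deg U hU) (ℳ.deg U hU) e _)).1 ⟨y, hy⟩ :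
      GrMod.tildeAt (𝒮.deg U hU) (ℳ.deg U hU) e y) :
        GrMod.LocMod (𝒮.deg U hU) (M := ℳ.mod.val.obj (op U)) y) =
    ((((c • τ : GrTwist.sectN (𝒜 := 𝒮.deg U hU) n _)).1 ⟨y, hy'⟩ :
        GrTwist.twistAt (𝒮.deg U hU) n y) : GrTwist.Loc (𝒮.deg U hU) y) • _
  rw [msmul_val, smul_val, mul_smul]
  exact congrArg _ (ht U hU y hy hy')

section Mul

variable (he : k + n = e) (hP : RelProj.IsRelProj 𝒮 p chart)
  (hF : RelProj.IsRelTilde 𝒮 p chart ℳ k F lam)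
  (hL : RelProj.IsRelTwist 𝒮 p chart n L lamL)
  (hF' : RelProj.IsRelTilde 𝒮 p chart ℳ e F' lam')

/-- The product of a section of `(ℳ(k))~` and a section of `O_P(n)`. -/
noncomputable def mul (W : P.Opens) (s : Γ(F, W)) (l : Γ(L, W)) : Γ(F', W) :=
  (exists_prod lam lamL lam' he hP hF hL hF' W s l).choose

theorem isProd_mul (W : P.Opens) (s : Γ(F, W)) (l : Γ(L, W)) :
    IsProd lam lamL lam' W s l (mul lam lamL lam' he hP hF hL hF' W s l) :=
  (exists_prod lam lamL lam' he hP hF hL hF' W s l).choose_spec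

theorem mul_add_left (W : P.Opens) (s₁ s₂ : Γ(F, W)) (l : Γ(L, W)) :
    mul lam lamL lam' he hP hF hL hF' W (s₁ + s₂) l =
      mul lam lamL lam' he hP hF hL hF' W s₁ l + mul lam lamL lam' he hP hF hL hF' W s₂ l :=
  prod_unique lam lamL lam' hF' W _ _ _ _ (isProd_mul lam lamL lam' he hP hF hL hF' W _ _)
    (isProd_add_left lam lamL lam' W s₁ s₂ l _ _
      (isProd_mul lam lamL lam' he hP hF hL hF' W _ _)
      (isProd_mul lam lamL lam' he hP hF hL hF' W _ _))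

theorem mul_add_right (W : P.Opens) (s : Γ(F, W)) (l₁ l₂ : Γ(L, W)) :
    mul lam lamL lam' he hP hF hL hF' W s (l₁ + l₂) =
      mul lam lamL lam' he hP hF hL hF' W s l₁ + mul lam lamL lam' he hP hF hL hF' W s l₂ :=
  prod_unique lam lamL lam' hF' W _ _ _ _ (isProd_mul lam lamL lam' he hP hF hL hF' W _ _)
    (isProd_add_right lam lamL lam' W s l₁ l₂ _ _
      (isProd_mul lam lamL lam' he hP hF hL hF' W _ _)
      (isProd_mul lam lamL lam' he hP hF hL hF' W _ _))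

theorem mul_smul_left (W : P.Opens) (r : Γ(P, W)) (s : Γ(F, W)) (l : Γ(L, W)) :
    mul lam lamL lam' he hP hF hL hF' W (r • s) l =
      r • mul lam lamL lam' he hP hF hL hF' W s l :=
  prod_unique lam lamL lam' hF' W _ _ _ _ (isProd_mul lam lamL lam' he hP hF hL hF' W _ _)
    (isProd_smul_left lam lamL lam' W r s l _
      (isProd_mul lam lamL lam' he hP hF hL hF' W _ _))

theorem mul_smul_right (W : P.Opens) (r : Γ(P, W)) (s : Γ(F, W)) (l : Γ(L, W)) :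
    mul lam lamL lam' he hP hF hL hF' W s (r • l) =
      r • mul lam lamL lam' he hP hF hL hF' W s l :=
  prod_unique lam lamL lam' hF' W _ _ _ _ (isProd_mul lam lamL lam' he hP hF hL hF' W _ _)
    (isProd_smul_right lam lamL lam' W r s l _
      (isProd_mul lam lamL lam' he hP hF hL hF' W _ _))

theorem mul_res (W W₂ : P.Opens) (i : W₂ ≤ W) (s : Γ(F, W)) (l : Γ(L, W)) :
    mul lam lamL lam' he hP hF hL hF' W₂ (F.presheaf.map (homOfLE i).op s)
        (L.presheaf.map (homOfLE i).op l) =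
      F'.presheaf.map (homOfLE i).op (mul lam lamL lam' he hP hF hL hF' W s l) :=
  prod_unique lam lamL lam' hF' W₂ _ _ _ _ (isProd_mul lam lamL lam' he hP hF hL hF' W₂ _ _)
    (isProd_res lam lamL lam' W W₂ i s l _ (isProd_mul lam lamL lam' he hP hF hL hF' W _ _))

end Mul

end Groth.Agent.Lib.helper28.RelTildeProd
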