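import Groth.Agent.Lib.Helper28.RelTildeProd
import Groth.Agent.Lib.Helper28.RelTwistTensor

/-!
# `(ℳ(k))~ ⊗ O_P(n) ≅ (ℳ(k + n))~` on a relative `Proj` generated in degree one (helper28)
-/

set_option autoImplicit false
set_option linter.style.haveILetI false
universe u
open CategoryTheory CategoryTheory.Limits AlgebraicGeometry TopologicalSpace Opposite
open Scheme.Modules TensorProduct MonoidalCategory
open scoped HomogeneousIdeal

namespace Groth.Agent.Lib.helper28.RelTildeTensor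

open Groth.Agent.Lib.helper28.RelTwistChart Groth.Agent.Lib.helper2
  Groth.Agent.Lib.helper28.RelTildeProd Groth.Agent.Lib.helper28.RelTwistTensor

noncomputable section

variable {Y P : Scheme.{u}} {𝒮 : RelProj.QCGrAlg Y} {p : P ⟶ Y}
  {chart : ∀ (U : Y.Opens) (hU : IsAffineOpen U),
    (((p ⁻¹ᵁ U : P.Opens) : Scheme.{u}) ≅ Proj (𝒮.deg U hU))}
  {ℳ : RelProj.GrModule 𝒮} {k n e : ℤ} {F L F' : P.Modules}
  (lam : ∀ (U : Y.Opens) (hU : IsAffineOpen U),
    F ⟶ (Scheme.Modules.pushforward (RelProj.emb p chart U hU)).obj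
      (GrMod.tilde (𝒮.deg U hU) (ℳ.deg U hU) k))
  (lamL : ∀ (U : Y.Opens) (hU : IsAffineOpen U),
    L ⟶ (Scheme.Modules.pushforward (RelProj.emb p chart U hU)).obj
      (GrTwist.twist (𝒮.deg U hU) n))
  (lam' : ∀ (U : Y.Opens) (hU : IsAffineOpen U),
    F' ⟶ (Scheme.Modules.pushforward (RelProj.emb p chart U hU)).obj
      (GrMod.tilde (𝒮.deg U hU) (ℳ.deg U hU) e))
  (he : k + n = e) (hP : RelProj.IsRelProj 𝒮 p chart)
  (hF : RelProj.IsRelTilde 𝒮 p chart ℳ k F lam)
  (hL : RelProj.IsRelTwist 𝒮 p chart n L lamL)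
  (hF' : RelProj.IsRelTilde 𝒮 p chart ℳ e F' lam')

def mulHomApp (W : (P.Opens)ᵒᵖ) :
    (CohB1.tensorPre F L).obj W ⟶ (CohB1.toPMod F').obj W :=
  ModuleCat.MonoidalCategory.tensorLift (M₁ := (CohB1.toPMod F).obj W)
    (M₂ := (CohB1.toPMod L).obj W)
    (fun s t => mul lam lamL lam' he hP hF hL hF' W.unop s t)
    (fun s s' t => mul_add_left lam lamL lam' he hP hF hL hF' W.unop s s' t)
    (fun r s t => mul_smul_left lam lamL lam' he hP hF hL hF' W.unop r s t)
    (fun s t t' => mul_add_right lam lamL lam' he hP hF hL hF' W.unop s t t')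
    (fun r s t => mul_smul_right lam lamL lam' he hP hF hL hF' W.unop r s t)

def mulHom : (CohB1.tensorPre F L : P.PresheafOfModules) ⟶ F'.val where
  app W := mulHomApp lam lamL lam' he hP hF hL hF' W
  naturality {W W₂} f := by
    refine ModuleCat.MonoidalCategory.tensor_ext (fun s t => ?_)
    exact mul_res lam lamL lam' he hP hF hL hF' W.unop W₂.unop (leOfHom f.unop) s t

open Groth.Agent.Lib.helper28.GTwistFree Groth.Agent.Lib.helper28.GMTildeMul
  Groth.Agent.Lib.helper28.LocalGen in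
theorem mulHomApp_bijective (U : Y.Opens) (hU : IsAffineOpen U) (g h : 𝒮.presheaf.obj (op U))
    (d : ℕ) (hg : g ∈ 𝒮.deg U hU 1) (hh : h ∈ 𝒮.deg U hU d) :
    Function.Bijective (mulHomApp lam lamL lam' he hP hF hL hF'
      (op ((RelProj.emb p chart U hU) ''ᵁ (Proj.basicOpen (𝒮.deg U hU) (g * h))))).hom := by
  let W : P.Opens := (RelProj.emb p chart U hU) ''ᵁ (Proj.basicOpen (𝒮.deg U hU) (g * h))
  have hWU : W ≤ p ⁻¹ᵁ U := image_emb_le p chart U hU _
  let V : (Proj (𝒮.deg U hU)).Opens := RelProj.emb p chart U hU ⁻¹ᵁ W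
  have hV : V = ProjectiveSpectrum.basicOpen (𝒮.deg U hU) (g * h) :=
    (RelProj.emb p chart U hU).preimage_image_eq _
  have hFd : g * h ∈ 𝒮.deg U hU (1 + d) := SetLike.mul_mem_graded hg hh
  have hgV : ∀ (c : ℕ) (x : V), g ^ c ∉ x.1.asHomogeneousIdeal := fun c x hmem => by
    have hx : x.1 ∈ ProjectiveSpectrum.basicOpen (𝒮.deg U hU) (g * h) := hV ▸ x.2
    exact (ProjectiveSpectrum.mem_basicOpen (𝒮.deg U hU) (g * h) x.1).mp hx
      (Ideal.mul_mem_right h _ (x.1.isPrime.mem_of_pow_mem c hmem))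
  let fr : Γ(GrTwist.twist (𝒮.deg U hU) n, V) :=
    fracSectN (𝒮.deg U hU) n V ⟨g ^ n.toNat, pow_mem_one hg _⟩ ⟨g ^ (-n).toNat, pow_mem_one hg _⟩
      (hgV _) (toNat_eq n)
  obtain ⟨ul, hul⟩ := (hL.bijective U hU W hWU).2 fr
  have bm := bijective_smul_fracSectN (𝒮.deg U hU) n (by omega : 0 < 1 + d) hFd V hV
    ⟨g ^ n.toNat, pow_mem_one hg _⟩ ⟨g ^ (-n).toNat, pow_mem_one hg _⟩ (hgV _) (hgV _)
    (toNat_eq n)
  have bmul := bijective_smulFun_fracSectN (𝒮.deg U hU) (ℳ.deg U hU) k n V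
    ⟨g ^ n.toNat, pow_mem_one hg _⟩ ⟨g ^ (-n).toNat, pow_mem_one hg _⟩ (hgV _) (hgV _)
    (toNat_eq n)
  have hiso : Function.Bijective ((RelProj.emb p chart U hU).app W).hom := by
    haveI := Scheme.Hom.isIso_app (RelProj.emb p chart U hU) W (by
      intro x hx
      change x ∈ Set.range (RelProj.emb p chart U hU)
      rw [range_emb]
      exact hWU hx)
    exact (ConcreteCategory.isIso_iff_bijective ((RelProj.emb p chart U hU).app W)).mp inferInstance
  refine bijective_of_free_right (M := (CohB1.toPMod F).obj (op W))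
    (N := (CohB1.toPMod L).obj (op W)) (K := (CohB1.toPMod F').obj (op W))
    (mulHomApp lam lamL lam' he hP hF hL hF' (op W)).hom ul ?_ ?_
  · intro y
    obtain ⟨c, hc⟩ := bm.2 ((lamL U hU).app W y)
    obtain ⟨r, rfl⟩ := hiso.2 c
    refine ⟨r, (hL.bijective U hU W hWU).1 ?_⟩
    have key : (lamL U hU).app W (r • ul) =
        (((RelProj.emb p chart U hU).app W).hom r • fr : Γ(GrTwist.twist (𝒮.deg U hU) n, V)) := by
      rw [Scheme.Modules.Hom.app_smul, smul_pushforward, hul]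
    exact key.trans hc
  · have key : ∀ s : Γ(F, W), (lam' U hU).app W (mul lam lamL lam' he hP hF hL hF' W s ul) =
        castSect (𝒮.deg U hU) (ℳ.deg U hU) he
          (smulFun (𝒮.deg U hU) (ℳ.deg U hU) k n V ((lam U hU).app W s) fr) := by
      intro s
      refine Groth.Agent.Lib.helper28.GMTildeQCoh.sect_ext _ _ _ _ fun x => ?_
      have h1 := isProd_mul lam lamL lam' he hP hF hL hF' W s ul U hU x.1 x.2 x.2
      rw [hul] at h1
      refine h1.trans ?_
      exact (castSect_val (𝒮.deg U hU) (ℳ.deg U hU) he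
        (smulFun (𝒮.deg U hU) (ℳ.deg U hU) k n V ((lam U hU).app W s) fr) x).symm
    have hcast : Function.Bijective (castSect (𝒮.deg U hU) (ℳ.deg U hU) he (U := V)) := by
      subst he
      exact Function.bijective_id
    constructor
    · intro s s' hss
      have hss' : mul lam lamL lam' he hP hF hL hF' W s ul =
          mul lam lamL lam' he hP hF hL hF' W s' ul := hss
      apply (hF.bijective U hU W hWU).1
      apply bmul.1
      apply hcast.1
      exact (key s).symm.trans ((congrArg _ hss').trans (key s'))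
    · intro κ
      obtain ⟨τ', hτ'⟩ := hcast.2 ((lam' U hU).app W κ)
      obtain ⟨τ, hτ⟩ := bmul.2 τ'
      obtain ⟨s, rfl⟩ := (hF.bijective U hU W hWU).2 τ
      refine ⟨s, (hF'.bijective U hU W hWU).1 ((key s).trans ?_)⟩
      rw [← hτ']
      exact congrArg _ hτ

section Iso

theorem isIso_sheafify_mulHom (hgen : 𝒮.IsGenDegOne) :
    IsIso ((CohB1.sheafifyMod P).map (mulHom lam lamL lam' he hP hF hL hF')) := by
  refine Groth.Agent.Lib.helper2.TildeTensor.isIso_sheafify_map_of_bijective_on_basis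
    (X := P) (mulHom lam lamL lam' he hP hF hL hF') (basisSet 𝒮 p chart)
    (isBasis_basisSet hgen) ?_
  rintro _ ⟨U, hU, g, h, d, hg, hh, rfl⟩
  exact mulHomApp_bijective lam lamL lam' he hP hF hL hF' U hU g h d hg hh

/-- `(ℳ(k))~ ⊗ O_P(n) ≅ (ℳ(k + n))~` when `𝒮` is generated in degree one. -/
def tildeTensorIso (hgen : 𝒮.IsGenDegOne) : CohB1.tensorMod F L ≅ F' :=
  @asIso _ _ _ _ _ (isIso_sheafify_mulHom lam lamL lam' he hP hF hL hF' hgen) ≪≫
    (asIso (PresheafOfModules.sheafificationAdjunction.{u, u, u, u}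
      (J := Opens.grothendieckTopology P) (𝟙 P.ringCatSheaf.obj)).counit).app F'

end Iso

end

end Groth.Agent.Lib.helper28.RelTildeTensor
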