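import Groth.Agent.Lib.Helper28.RelTwistSec
import Groth.Agent.Lib.Helper28.GTwistAll
import Groth.Agent.Lib.Helper11.IsoLocus

/-!
# The non-vanishing locus of the section `α_d(f)` of `O_P(d)` lies inside `X_f` (helper28)
-/

set_option autoImplicit false
set_option linter.style.haveILetI false
universe u
open CategoryTheory CategoryTheory.Limits AlgebraicGeometry TopologicalSpace Opposite
open Scheme.Modules

namespace Groth.Agent.Lib.helper28.RelTwistGen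

open Groth.Agent.Lib.helper28.RelTwistChart Groth.Agent.Lib.helper28.RelTwistSec
  Groth.Agent.Lib.helper28.GTwistFree Groth.Agent.Lib.helper28.LocalGen
  Groth.Agent.Lib.helper11.IsoLocus

variable {Y P : Scheme.{u}} {𝒮 : RelProj.QCGrAlg Y} {p : P ⟶ Y}
  {chart : ∀ (U : Y.Opens) (hU : IsAffineOpen U),
    (((p ⁻¹ᵁ U : P.Opens) : Scheme.{u}) ≅ Proj (𝒮.deg U hU))}
  {d : ℕ} {L : P.Modules}
  (lam : ∀ (U : Y.Opens) (hU : IsAffineOpen U),
    L ⟶ (Scheme.Modules.pushforward (RelProj.emb p chart U hU)).obj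
      (GrTwist.twist (𝒮.deg U hU) (d : ℤ)))

/-- If the section of `O_P(d)` reading `f / 1` on the chart over `U` generates near `emb z`, then
`f ∉ z` (for `𝒮(U)` generated in degrees `0` and `1`). -/
theorem not_mem_of_mem_genLocus (hL : RelProj.IsRelTwist 𝒮 p chart (d : ℤ) L lam)
    (f : 𝒮.presheaf.obj (op ⊤)) (U : Y.Opens) (hU : IsAffineOpen U)
    (hgenU : Subring.closure ((𝒮.deg U hU 0 : Set (𝒮.presheaf.obj (op U))) ∪
      (𝒮.deg U hU 1 : Set _)) = ⊤)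
    (s : Coh.structureModule P ⟶ L) (hs : IsF lam f 1 0 U hU ⊤ (secOf L s))
    (z : Proj (𝒮.deg U hU)) (hz : (RelProj.emb p chart U hU).base z ∈ CohB1.genLocus L s) :
    fU f U ∉ z.asHomogeneousIdeal := by
  intro hmem
  obtain ⟨g, hg1, hgz⟩ := Groth.Agent.Lib.helper28.GTwistAll.hcov_of_closure (𝒮.deg U hU) hgenU z
  let N : P.Opens := CohB1.genLocus L s ⊓
    (RelProj.emb p chart U hU) ''ᵁ (Proj.basicOpen (𝒮.deg U hU) g)
  have hzN : (RelProj.emb p chart U hU).base z ∈ N :=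
    ⟨hz, z, (ProjectiveSpectrum.mem_basicOpen (𝒮.deg U hU) g z).mpr hgz, rfl⟩
  have hNle : N ≤ p ⁻¹ᵁ U := inf_le_right.trans (image_emb_le p chart U hU _)
  have hgW : ∀ x : (RelProj.emb p chart U hU ⁻¹ᵁ N : (Proj (𝒮.deg U hU)).Opens),
      g ∉ x.1.asHomogeneousIdeal := by
    intro x
    obtain ⟨w, hw, hwe⟩ := (x.2 : (RelProj.emb p chart U hU).base x.1 ∈ N).2
    have : w = x.1 := (RelProj.emb p chart U hU).isOpenEmbedding.injective hwe
    subst this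
    exact (ProjectiveSpectrum.mem_basicOpen (𝒮.deg U hU) g _).mp hw
  have hgd : g ^ d ∈ 𝒮.deg U hU d := by
    have := SetLike.pow_mem_graded (A := 𝒮.deg U hU) d hg1
    simpa [smul_eq_mul] using this
  have h1W : ∀ x : (RelProj.emb p chart U hU ⁻¹ᵁ N : (Proj (𝒮.deg U hU)).Opens),
      (1 : 𝒮.presheaf.obj (op U)) ∉ x.1.asHomogeneousIdeal := fun x h =>
    x.1.isPrime.ne_top ((Ideal.eq_top_iff_one _).mpr h)
  obtain ⟨τ, hτ⟩ := (hL.bijective U hU N hNle).2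
    (fracSectN (𝒮.deg U hU) (d : ℤ) (RelProj.emb p chart U hU ⁻¹ᵁ N)
      ⟨g ^ d, hgd⟩ ⟨1, SetLike.GradedOne.one_mem⟩ h1W (by simp))
  haveI := isIso_app_of_le_isoLocus s (inf_le_left : N ≤ isoLocus s)
  obtain ⟨r, hr⟩ := ((ConcreteCategory.isIso_iff_bijective (s.app N)).mp inferInstance).2 τ
  have hr2 := (unit_hom_app L s N r).symm.trans hr
  have h3 := congrArg (fun y => (lam U hU).app N y) hr2
  simp only at h3
  rw [Scheme.Modules.Hom.app_smul, smul_pushforward, hτ] at h3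
  have hσ := isF_res lam f 1 0 U hU (le_top : N ≤ ⊤) _ hs (z := z) hzN
  rw [pow_zero, pow_one, map_one, mul_one] at hσ
  let c : GrTwist.O (𝒜 := 𝒮.deg U hU) (op (RelProj.emb p chart U hU ⁻¹ᵁ N)) :=
    ((RelProj.emb p chart U hU).app N).hom r
  let σN : GrTwist.sectN (𝒜 := 𝒮.deg U hU) (d : ℤ) (op (RelProj.emb p chart U hU ⁻¹ᵁ N)) :=
    (lam U hU).app N (L.presheaf.map (homOfLE (le_top : N ≤ ⊤)).op (secOf L s))
  have h3' : (c • σN : GrTwist.sectN (𝒜 := 𝒮.deg U hU) (d : ℤ)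
      (op (RelProj.emb p chart U hU ⁻¹ᵁ N))) =
      fracSectN (𝒮.deg U hU) (d : ℤ) (RelProj.emb p chart U hU ⁻¹ᵁ N)
        ⟨g ^ d, hgd⟩ ⟨1, SetLike.GradedOne.one_mem⟩ h1W (by simp) := h3
  have h4 := congrArg (fun y : GrTwist.sectN (𝒜 := 𝒮.deg U hU) (d : ℤ)
      (op (RelProj.emb p chart U hU ⁻¹ᵁ N)) =>
    ((y.1 ⟨z, hzN⟩ : GrTwist.twistAt (𝒮.deg U hU) (d : ℤ) z) : GrTwist.Loc (𝒮.deg U hU) z)) h3'
  simp only at h4
  rw [smul_val, fracSectN_val] at h4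
  have hσ' : ((σN.1 ⟨z, hzN⟩ : GrTwist.twistAt (𝒮.deg U hU) (d : ℤ) z) :
      GrTwist.Loc (𝒮.deg U hU) z) =
      algebraMap (𝒮.presheaf.obj (op U)) (GrTwist.Loc (𝒮.deg U hU) z) (fU f U) := hσ
  rw [hσ'] at h4
  have hu : IsUnit (Localization.mk (g ^ d) ⟨1, h1W ⟨z, hzN⟩⟩ : GrTwist.Loc (𝒮.deg U hU) z) := by
    rw [Localization.mk_eq_mk', IsLocalization.AtPrime.isUnit_mk'_iff]
    exact fun hmem => hgz (z.isPrime.mem_of_pow_mem _ hmem)
  rw [← h4] at hu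
  have hu2 := isUnit_of_mul_isUnit_right hu
  rw [IsLocalization.AtPrime.isUnit_to_map_iff (GrTwist.Loc (𝒮.deg U hU) z)
    z.asHomogeneousIdeal.toIdeal] at hu2
  exact hu2 hmem

end Groth.Agent.Lib.helper28.RelTwistGen
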