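import Groth.Agent.Lib.Helper28.RelTwistTensor
import Groth.Agent.Lib.Helper28.RelTwistZero
import Groth.Agent.Lib.Helper28.RelTwistFree
import Groth.Agent.Lib.Helper28.RelTildeExact

/-!
# `O_X(n)|_U ⊗ O_X(-n)|_U ≅ O_U` on a quasi-compact open of a relative Proj (helper28)
-/

set_option autoImplicit false
set_option linter.style.haveILetI false
universe u
open CategoryTheory CategoryTheory.Limits AlgebraicGeometry TopologicalSpace Opposite
open Scheme.Modules TensorProduct MonoidalCategory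
open scoped HomogeneousIdeal

namespace Groth.Agent.Lib.helper28.RelTwistInv

open Groth.Agent.Lib.helper28.RelTwistChart Groth.Agent.Lib.helper2
  Groth.Agent.Lib.helper28.RelTwistProd Groth.Agent.Lib.helper28.RelTwistTensor

noncomputable section

variable {Y P : Scheme.{u}} {𝒮 : RelProj.QCGrAlg Y} {p : P ⟶ Y}
  {chart : ∀ (U : Y.Opens) (hU : IsAffineOpen U),
    (((p ⁻¹ᵁ U : P.Opens) : Scheme.{u}) ≅ Proj (𝒮.deg U hU))}
  {m n : ℤ} {L L' L'' : P.Modules}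
  (lam : ∀ (U : Y.Opens) (hU : IsAffineOpen U),
    L ⟶ (Scheme.Modules.pushforward (RelProj.emb p chart U hU)).obj
      (GrTwist.twist (𝒮.deg U hU) m))
  (lam' : ∀ (U : Y.Opens) (hU : IsAffineOpen U),
    L' ⟶ (Scheme.Modules.pushforward (RelProj.emb p chart U hU)).obj
      (GrTwist.twist (𝒮.deg U hU) n))
  (lam'' : ∀ (U : Y.Opens) (hU : IsAffineOpen U),
    L'' ⟶ (Scheme.Modules.pushforward (RelProj.emb p chart U hU)).obj
      (GrTwist.twist (𝒮.deg U hU) (m + n)))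
  (hP : RelProj.IsRelProj 𝒮 p chart)
  (hL : RelProj.IsRelTwist 𝒮 p chart m L lam)
  (hL' : RelProj.IsRelTwist 𝒮 p chart n L' lam')
  (hL'' : RelProj.IsRelTwist 𝒮 p chart (m + n) L'' lam'')

theorem pow_mem_deg {U : Y.Opens} {hU : IsAffineOpen U} {g : 𝒮.presheaf.obj (op U)} {d : ℕ}
    (hg : g ∈ 𝒮.deg U hU d) (c : ℕ) : g ^ c ∈ 𝒮.deg U hU (c * d) := by
  have := SetLike.pow_mem_graded (A := 𝒮.deg U hU) c hg
  simpa [smul_eq_mul] using this

theorem toNat_mul_eq (k : ℤ) (d : ℕ) :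
    ((k.toNat * d : ℕ) : ℤ) = (((-k).toNat * d : ℕ) : ℤ) + k * d := by
  have := Int.toNat_sub_toNat_neg k
  push_cast
  linear_combination (d : ℤ) * this

open Groth.Agent.Lib.helper28.GTwistFree Groth.Agent.Lib.helper28.GTwistMul
  Groth.Agent.Lib.helper28.LocalGen Groth.Agent.Lib.helper28.RelTwistFree in
/-- On `W = emb_U(D₊(g * h))`, `g` of degree `d > 0`, the module `O_P(k d)` is generated by one
section, multiplication by which is a bijection `O_P(n)(W) → O_P(k d + n)(W)`. -/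
theorem exists_generator (U : Y.Opens) (hU : IsAffineOpen U) (g h : 𝒮.presheaf.obj (op U))
    (d e : ℕ) (hd : 0 < d) (hg : g ∈ 𝒮.deg U hU d) (hh : h ∈ 𝒮.deg U hU e) (k : ℤ)
    (hm : m = k * d) (W : P.Opens)
    (hW : W = (RelProj.emb p chart U hU) ''ᵁ (Proj.basicOpen (𝒮.deg U hU) (g * h))) :
    ∃ um : Γ(L, W),
      Function.Surjective (fun c : Γ(P, W) => c • um) ∧
      Function.Bijective (fun t : Γ(L', W) => mul lam lam' lam'' hP hL hL' hL'' W um t) := by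
  subst hm
  subst hW
  let W : P.Opens := (RelProj.emb p chart U hU) ''ᵁ (Proj.basicOpen (𝒮.deg U hU) (g * h))
  have hWU : W ≤ p ⁻¹ᵁ U := image_emb_le p chart U hU _
  let V : (Proj (𝒮.deg U hU)).Opens := RelProj.emb p chart U hU ⁻¹ᵁ W
  have hV : V = ProjectiveSpectrum.basicOpen (𝒮.deg U hU) (g * h) :=
    (RelProj.emb p chart U hU).preimage_image_eq _
  have hF : g * h ∈ 𝒮.deg U hU (d + e) := SetLike.mul_mem_graded hg hh
  have hgV : ∀ (c : ℕ) (x : V), g ^ c ∉ x.1.asHomogeneousIdeal := fun c x hmem => by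
    have hx : x.1 ∈ ProjectiveSpectrum.basicOpen (𝒮.deg U hU) (g * h) := hV ▸ x.2
    exact (ProjectiveSpectrum.mem_basicOpen (𝒮.deg U hU) (g * h) x.1).mp hx
      (Ideal.mul_mem_right h _ (x.1.isPrime.mem_of_pow_mem c hmem))
  let fr : Γ(GrTwist.twist (𝒮.deg U hU) (k * d), V) :=
    fracSectN (𝒮.deg U hU) (k * d) V ⟨g ^ k.toNat, pow_mem_deg hg _⟩
      ⟨g ^ (-k).toNat, pow_mem_deg hg _⟩ (hgV _) (toNat_mul_eq k d)
  obtain ⟨um, hum⟩ := (hL.bijective U hU W hWU).2 fr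
  have bm := bijective_smul_of_lam_eq lam hL U hU W hWU (by omega : 0 < d + e) hF hV
    ⟨g ^ k.toNat, pow_mem_deg hg _⟩ ⟨g ^ (-k).toNat, pow_mem_deg hg _⟩ (hgV _) (hgV _)
    (toNat_mul_eq k d) um hum
  have bmul := bijective_mulFun_fracSectN (𝒮.deg U hU) (k * d) n V
    ⟨g ^ k.toNat, pow_mem_deg hg _⟩ ⟨g ^ (-k).toNat, pow_mem_deg hg _⟩ (hgV _) (hgV _)
    (toNat_mul_eq k d)
  refine ⟨um, bm.2, ?_⟩
  have key : ∀ t : Γ(L', W), (lam'' U hU).app W (mul lam lam' lam'' hP hL hL' hL'' W um t) =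
      mulFun (𝒮.deg U hU) (k * d) n V fr ((lam' U hU).app W t) := by
    intro t
    refine Groth.Agent.Lib.helper28.GTwistQCoh.sectN_ext _ _ _ fun x => ?_
    have h1 := isProd_mul lam lam' lam'' hP hL hL' hL'' W um t U hU x.1 x.2 x.2
    rw [hum] at h1
    exact h1
  constructor
  · intro t t' htt
    apply (hL'.bijective U hU W hWU).1
    apply bmul.1
    exact (key t).symm.trans ((congrArg _ htt).trans (key t'))
  · intro κ
    obtain ⟨τ, hτ⟩ := bmul.2 ((lam'' U hU).app W κ)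
    obtain ⟨t, rfl⟩ := (hL'.bijective U hU W hWU).2 τ
    exact ⟨t, (hL''.bijective U hU W hWU).1 ((key t).trans hτ)⟩

section Restricted

variable (Ω : P.Opens)

/-- The multiplication on the restrictions to an open subscheme. -/
def mulHomAppR (W' : ((Ω : Scheme.{u}).Opens)ᵒᵖ) :
    (CohB1.tensorPre (L.restrict Ω.ι) (L'.restrict Ω.ι)).obj W' ⟶
      (CohB1.toPMod (L''.restrict Ω.ι)).obj W' :=
  ModuleCat.MonoidalCategory.tensorLift (M₁ := (CohB1.toPMod (L.restrict Ω.ι)).obj W')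
    (M₂ := (CohB1.toPMod (L'.restrict Ω.ι)).obj W')
    (fun s t => mul lam lam' lam'' hP hL hL' hL'' (Ω.ι ''ᵁ W'.unop) s t)
    (fun s s' t => mul_add_left lam lam' lam'' hP hL hL' hL'' (Ω.ι ''ᵁ W'.unop) s s' t)
    (fun r s t => mul_smul_left lam lam' lam'' hP hL hL' hL'' (Ω.ι ''ᵁ W'.unop)
      ((Ω.ι.appIso W'.unop).inv.hom r) s t)
    (fun s t t' => mul_add_right lam lam' lam'' hP hL hL' hL'' (Ω.ι ''ᵁ W'.unop) s t t')
    (fun r s t => mul_smul_right lam lam' lam'' hP hL hL' hL'' (Ω.ι ''ᵁ W'.unop)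
      ((Ω.ι.appIso W'.unop).inv.hom r) s t)

def mulHomR : (CohB1.tensorPre (L.restrict Ω.ι) (L'.restrict Ω.ι) :
    (Ω : Scheme.{u}).PresheafOfModules) ⟶ (L''.restrict Ω.ι).val where
  app W' := mulHomAppR lam lam' lam'' hP hL hL' hL'' Ω W'
  naturality {W' W₂'} f := by
    refine ModuleCat.MonoidalCategory.tensor_ext (fun s t => ?_)
    exact mul_res lam lam' lam'' hP hL hL' hL'' (Ω.ι ''ᵁ W'.unop) (Ω.ι ''ᵁ W₂'.unop)
      (Scheme.Hom.image_mono _ (leOfHom f.unop)) s t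

open Groth.Agent.Lib.helper28.GTwistMul in
theorem mulHomAppR_bijective (U : Y.Opens) (hU : IsAffineOpen U) (g h : 𝒮.presheaf.obj (op U))
    (d e : ℕ) (hd : 0 < d) (hg : g ∈ 𝒮.deg U hU d) (hh : h ∈ 𝒮.deg U hU e) (k : ℤ)
    (hm : m = k * d) (W' : (Ω : Scheme.{u}).Opens)
    (hW' : Ω.ι ''ᵁ W' = (RelProj.emb p chart U hU) ''ᵁ (Proj.basicOpen (𝒮.deg U hU) (g * h))) :
    Function.Bijective (mulHomAppR lam lam' lam'' hP hL hL' hL'' Ω (op W')).hom := by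
  obtain ⟨um, hs, hb⟩ := exists_generator lam lam' lam'' hP hL hL' hL'' U hU g h d e hd hg hh k hm
    (Ω.ι ''ᵁ W') hW'
  refine bijective_of_free_left (M := (CohB1.toPMod (L.restrict Ω.ι)).obj (op W'))
    (N := (CohB1.toPMod (L'.restrict Ω.ι)).obj (op W'))
    (K := (CohB1.toPMod (L''.restrict Ω.ι)).obj (op W'))
    (mulHomAppR lam lam' lam'' hP hL hL' hL'' Ω (op W')).hom um ?_ hb
  intro y
  obtain ⟨c, hc⟩ := hs y
  refine ⟨(Ω.ι.appIso W').hom.hom c, ?_⟩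
  have h1 : (Ω.ι.appIso W').inv.hom ((Ω.ι.appIso W').hom.hom c) = c := by
    rw [← CommRingCat.comp_apply, Iso.hom_inv_id]
    rfl
  change ((Ω.ι.appIso W').inv.hom ((Ω.ι.appIso W').hom.hom c)) • um = y
  rw [h1]
  exact hc

/-- The opens of `Ω` whose image in `P` is some `emb_U(D₊(g * h))`, `g` of degree `d`. -/
def basisSetR (d : ℕ) : Set (Ω : Scheme.{u}).Opens :=
  {W' | ∃ (U : Y.Opens) (hU : IsAffineOpen U) (g h : 𝒮.presheaf.obj (op U)) (e : ℕ),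
      g ∈ 𝒮.deg U hU d ∧ h ∈ 𝒮.deg U hU e ∧
      Ω.ι ''ᵁ W' = (RelProj.emb p chart U hU) ''ᵁ (Proj.basicOpen (𝒮.deg U hU) (g * h))}

theorem isBasis_basisSetR (d : ℕ)
    (hcov : ∀ x ∈ Ω, ∃ (U : Y.Opens) (hU : IsAffineOpen U) (g : 𝒮.presheaf.obj (op U)),
      g ∈ 𝒮.deg U hU d ∧ x ∈ (RelProj.emb p chart U hU) ''ᵁ (Proj.basicOpen (𝒮.deg U hU) g)) :
    Opens.IsBasis (basisSetR (𝒮 := 𝒮) (p := p) (chart := chart) Ω d) := by
  rw [Opens.isBasis_iff_nbhd]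
  intro O' x' hx'
  obtain ⟨U, hU, g, hg, z, hz, hzx⟩ := hcov (Ω.ι.base x') x'.2
  have hzO : z ∈ (RelProj.emb p chart U hU ⁻¹ᵁ (Ω.ι ''ᵁ O') : (Proj (𝒮.deg U hU)).Opens) := by
    have h1 : Ω.ι.base x' ∈ Ω.ι ''ᵁ O' := ⟨x', hx', rfl⟩
    have hzx' : (RelProj.emb p chart U hU).base z = Ω.ι.base x' := hzx
    exact (hzx'.symm ▸ h1 : (RelProj.emb p chart U hU).base z ∈ Ω.ι ''ᵁ O')
  obtain ⟨e, h, hh, hhz, hhO⟩ :=
    Groth.Agent.Lib.helper28.GTildeSec.exists_homogeneous_basicOpen (𝒮.deg U hU)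
      (RelProj.emb p chart U hU ⁻¹ᵁ (Ω.ι ''ᵁ O')) z hzO
  have hgz : g ∉ z.asHomogeneousIdeal := (ProjectiveSpectrum.mem_basicOpen _ g z).mp hz
  let W : P.Opens := (RelProj.emb p chart U hU) ''ᵁ (Proj.basicOpen (𝒮.deg U hU) (g * h))
  have hWO : W ≤ Ω.ι ''ᵁ O' := by
    rintro _ ⟨w, hw, rfl⟩
    exact hhO w fun hmem => ((ProjectiveSpectrum.mem_basicOpen _ (g * h) w).mp hw)
      (Ideal.mul_mem_left _ _ hmem)
  have hWΩ : W ≤ Ω := fun y hy => by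
    obtain ⟨o, -, rfl⟩ := hWO hy
    exact o.2
  have himg : Ω.ι ''ᵁ (Ω.ι ⁻¹ᵁ W) = W := by
    rw [Scheme.Hom.image_preimage_eq_opensRange_inf, Scheme.Opens.opensRange_ι]
    exact inf_eq_right.mpr hWΩ
  refine ⟨Ω.ι ⁻¹ᵁ W, ⟨U, hU, g, h, e, hg, hh, himg⟩, ?_, ?_⟩
  · have h1 : (RelProj.emb p chart U hU).base z ∈ W :=
      ⟨z, (ProjectiveSpectrum.mem_basicOpen _ (g * h) z).mpr fun hmem =>
        (z.isPrime.mem_or_mem hmem).elim hgz hhz, rfl⟩
    have hzx' : (RelProj.emb p chart U hU).base z = Ω.ι.base x' := hzx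
    exact (hzx' ▸ h1 : Ω.ι.base x' ∈ W)
  · intro y' hy'
    obtain ⟨o, ho, hoy⟩ := hWO (show Ω.ι.base y' ∈ W from hy')
    have : o = y' := Ω.ι.isOpenEmbedding.injective hoy
    exact this ▸ ho

theorem isIso_sheafify_mulHomR (d : ℕ) (hd : 0 < d) (k : ℤ) (hm : m = k * d)
    (hcov : ∀ x ∈ Ω, ∃ (U : Y.Opens) (hU : IsAffineOpen U) (g : 𝒮.presheaf.obj (op U)),
      g ∈ 𝒮.deg U hU d ∧ x ∈ (RelProj.emb p chart U hU) ''ᵁ (Proj.basicOpen (𝒮.deg U hU) g)) :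
    IsIso ((CohB1.sheafifyMod (Ω : Scheme.{u})).map
      (mulHomR lam lam' lam'' hP hL hL' hL'' Ω)) := by
  refine Groth.Agent.Lib.helper2.TildeTensor.isIso_sheafify_map_of_bijective_on_basis
    (X := (Ω : Scheme.{u})) (mulHomR lam lam' lam'' hP hL hL' hL'' Ω)
    (basisSetR (𝒮 := 𝒮) (p := p) (chart := chart) Ω d) (isBasis_basisSetR Ω d hcov) ?_
  rintro W' ⟨U, hU, g, h, e, hg, hh, hW'⟩
  exact mulHomAppR_bijective lam lam' lam'' hP hL hL' hL'' Ω U hU g h d e hd hg hh k hm W' hW'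

/-- `O_P(k d)|_Ω ⊗ O_P(n)|_Ω ≅ O_P(k d + n)|_Ω` when `Ω` is covered by opens `emb_U(D₊(g))`, `g`
of degree `d`. -/
def restrictTensorIso (d : ℕ) (hd : 0 < d) (k : ℤ) (hm : m = k * d)
    (hcov : ∀ x ∈ Ω, ∃ (U : Y.Opens) (hU : IsAffineOpen U) (g : 𝒮.presheaf.obj (op U)),
      g ∈ 𝒮.deg U hU d ∧ x ∈ (RelProj.emb p chart U hU) ''ᵁ (Proj.basicOpen (𝒮.deg U hU) g)) :
    CohB1.tensorMod (L.restrict Ω.ι) (L'.restrict Ω.ι) ≅ L''.restrict Ω.ι :=
  @asIso _ _ _ _ _ (isIso_sheafify_mulHomR lam lam' lam'' hP hL hL' hL'' Ω d hd k hm hcov) ≪≫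
    (asIso (PresheafOfModules.sheafificationAdjunction.{u, u, u, u}
      (J := Opens.grothendieckTopology (Ω : Scheme.{u}))
      (𝟙 (Ω : Scheme.{u}).ringCatSheaf.obj)).counit).app (L''.restrict Ω.ι)

end Restricted

section Main

open Groth.Agent.Lib.helper28.RelTildeExact Groth.Agent.Lib.helper28.RelTwistZero

variable (p chart) in
theorem exists_deg_cover (Ω : P.Opens) (hΩ : IsCompact (Ω : Set P)) :
    ∃ d : ℕ, 0 < d ∧ ∀ x ∈ Ω, ∃ (U : Y.Opens) (hU : IsAffineOpen U) (g : 𝒮.presheaf.obj (op U)),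
      g ∈ 𝒮.deg U hU d ∧ x ∈ (RelProj.emb p chart U hU) ''ᵁ (Proj.basicOpen (𝒮.deg U hU) g) := by
  classical
  have hcover : (Ω : Set P) ⊆ ⋃ i : CoverIdx 𝒮, (cov p chart i : Set P) := fun x _ =>
    Set.mem_iUnion.mpr (exists_mem_cov p chart x)
  obtain ⟨T, hT⟩ := hΩ.elim_finite_subcover (fun i => (cov p chart i : Set P))
    (fun i => (cov p chart i).2) hcover
  have hdpos : 0 < ∏ i ∈ T, i.d := Finset.prod_pos (fun i _ => i.hd)
  refine ⟨∏ i ∈ T, i.d, hdpos, fun x hx => ?_⟩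
  obtain ⟨i, hiT, hxi⟩ : ∃ i ∈ T, x ∈ cov p chart i := by
    have := hT hx
    simpa using this
  obtain ⟨c, hc⟩ : i.d ∣ ∏ i ∈ T, i.d := Finset.dvd_prod_of_mem _ hiT
  refine ⟨i.U, i.hU, i.f ^ c, ?_, ?_⟩
  · rw [hc, mul_comm]
    exact pow_mem_deg i.hf c
  · obtain ⟨z, hz, rfl⟩ := hxi
    refine ⟨z, ?_, rfl⟩
    exact (ProjectiveSpectrum.mem_basicOpen _ _ z).mpr fun hmem =>
      ((ProjectiveSpectrum.mem_basicOpen _ i.f z).mp hz) (z.isPrime.mem_of_pow_mem c hmem)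

/-- On a quasi-compact open `Ω` of a relative Proj, `O(-n)|_Ω` is an inverse of `O(n)|_Ω` for all
`n` divisible by some `d > 0`. -/
theorem exists_inverse_on_compact (hP : RelProj.IsRelProj 𝒮 p chart) (Ω : P.Opens)
    (hΩ : IsCompact (Ω : Set P)) :
    ∃ d : ℕ, 0 < d ∧ ∀ (n : ℤ), (d : ℤ) ∣ n →
      ∀ (L : P.Modules)
        (lam : ∀ (V : Y.Opens) (hV : IsAffineOpen V),
          L ⟶ (Scheme.Modules.pushforward (RelProj.emb p chart V hV)).obj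
            (GrTwist.twist (𝒮.deg V hV) n)),
        RelProj.IsRelTwist 𝒮 p chart n L lam →
      ∀ (L' : P.Modules)
        (lam' : ∀ (V : Y.Opens) (hV : IsAffineOpen V),
          L' ⟶ (Scheme.Modules.pushforward (RelProj.emb p chart V hV)).obj
            (GrTwist.twist (𝒮.deg V hV) (-n))),
        RelProj.IsRelTwist 𝒮 p chart (-n) L' lam' →
          Nonempty (CohB1.tensorMod (L.restrict Ω.ι) (L'.restrict Ω.ι) ≅
            Coh.structureModule (Ω : Scheme.{u})) := by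
  obtain ⟨d, hd, hcov⟩ := exists_deg_cover p chart Ω hΩ
  refine ⟨d, hd, fun n hn L lam hL L' lam' hL' => ?_⟩
  obtain ⟨k, hk⟩ := hn
  have h0 : n + -n = 0 := by ring
  obtain ⟨lam'', hL''⟩ : ∃ lam'' : ∀ (V : Y.Opens) (hV : IsAffineOpen V),
      Coh.structureModule P ⟶ (Scheme.Modules.pushforward (RelProj.emb p chart V hV)).obj
        (GrTwist.twist (𝒮.deg V hV) (n + -n)),
      RelProj.IsRelTwist 𝒮 p chart (n + -n) (Coh.structureModule P) lam'' := by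
    rw [h0]
    exact ⟨lam0 p chart, isRelTwist_lam0 hP⟩
  exact ⟨restrictTensorIso lam lam' lam'' hP hL hL' hL'' Ω d hd k (by rw [hk]; ring) hcov ≪≫
    restrictUnitIso Ω.ι⟩

end Main

end

end Groth.Agent.Lib.helper28.RelTwistInv
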