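import Groth.Agent.Lib.Helper28.RelTwistSec
import Groth.Agent.Lib.Helper28.RelTwistMap
import Groth.Agent.Lib.Helper28.GTwistMul
import Groth.Agent.Lib.Helper28.GProjSec

/-!
# The multiplication `O_P(m) × O_P(n) → O_P(m + n)` of relative twisting sheaves (helper28)

For twisting sheaves on a relative `Proj` given through `RelProj.IsRelTwist`, the unique bilinear
pairing which chartwise is the multiplication of fractions.
-/

set_option autoImplicit false
set_option linter.style.haveILetI false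
universe u
open CategoryTheory CategoryTheory.Limits AlgebraicGeometry TopologicalSpace Opposite
open Scheme.Modules
open scoped HomogeneousIdeal

namespace Groth.Agent.Lib.helper28.RelTwistProd

open Groth.Agent.Lib.helper28.RelTwistChart Groth.Agent.Lib.helper2

variable {Y P : Scheme.{u}} {𝒮 : RelProj.QCGrAlg Y} {p : P ⟶ Y}
  {chart : ∀ (U : Y.Opens) (hU : IsAffineOpen U),
    (((p ⁻¹ᵁ U : P.Opens) : Scheme.{u}) ≅ Proj (𝒮.deg U hU))}
  {m n : ℤ} {L L' L'' : P.Modules}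
  (lam : ∀ (U : Y.Opens) (hU : IsAffineOpen U),
    L ⟶ (Scheme.Modules.pushforward (RelProj.emb p chart U hU)).obj
      (GrTwist.twist (𝒮.deg U hU) m))
  (lam' : ∀ (U : Y.Opens) (hU : IsAffineOpen U),
    L' ⟶ (Scheme.Modules.pushforward (RelProj.emb p chart U hU)).obj
      (GrTwist.twist (𝒮.deg U hU) n))
  (lam'' : ∀ (U : Y.Opens) (hU : IsAffineOpen U),
    L'' ⟶ (Scheme.Modules.pushforward (RelProj.emb p chart U hU)).obj
      (GrTwist.twist (𝒮.deg U hU) (m + n)))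

/-- The section `t` of `O_P(m+n)` over `N` reads, on the chart over `U`, the product of the
sections `s` of `O_P(m)` and `s'` of `O_P(n)` over `W`. -/
def Rel (U : Y.Opens) (hU : IsAffineOpen U) (W N : P.Opens) (s : Γ(L, W)) (s' : Γ(L', W))
    (t : Γ(L'', N)) : Prop :=
  ∀ (y : ProjectiveSpectrum (𝒮.deg U hU)) (hy : (RelProj.emb p chart U hU).base y ∈ N)
    (hy' : (RelProj.emb p chart U hU).base y ∈ W),
    GrTwist.val (V := RelProj.emb p chart U hU ⁻¹ᵁ N) ((lam'' U hU).app N t) ⟨y, hy⟩ =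
      GrTwist.val (V := RelProj.emb p chart U hU ⁻¹ᵁ W) ((lam U hU).app W s) ⟨y, hy'⟩ *
        GrTwist.val (V := RelProj.emb p chart U hU ⁻¹ᵁ W) ((lam' U hU).app W s') ⟨y, hy'⟩

theorem rel_resN (U : Y.Opens) (hU : IsAffineOpen U) (W : P.Opens) {N N₂ : P.Opens}
    (i : N₂ ≤ N) (s : Γ(L, W)) (s' : Γ(L', W)) (t : Γ(L'', N))
    (hr : Rel lam lam' lam'' U hU W N s s' t) :
    Rel lam lam' lam'' U hU W N₂ s s' (L''.presheaf.map (homOfLE i).op t) := by
  intro y hy hy'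
  rw [← ModSec.map_app_apply (lam'' U hU) (homOfLE i) t]
  exact hr y (i hy) hy'

theorem rel_resW (U : Y.Opens) (hU : IsAffineOpen U) {W W₂ : P.Opens} (i : W₂ ≤ W)
    (N : P.Opens) (s : Γ(L, W)) (s' : Γ(L', W)) (t : Γ(L'', N))
    (hr : Rel lam lam' lam'' U hU W N s s' t) :
    Rel lam lam' lam'' U hU W₂ N (L.presheaf.map (homOfLE i).op s)
      (L'.presheaf.map (homOfLE i).op s') t := by
  intro y hy hy'
  rw [← ModSec.map_app_apply (lam U hU) (homOfLE i) s,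
    ← ModSec.map_app_apply (lam' U hU) (homOfLE i) s']
  exact hr y hy (i hy')

/-- Values only depend on the restriction of `t` to a neighbourhood. -/
theorem rel_of_resN (U : Y.Opens) (hU : IsAffineOpen U) (W : P.Opens) {N N₂ : P.Opens}
    (i : N₂ ≤ N) (s : Γ(L, W)) (s' : Γ(L', W)) (t : Γ(L'', N))
    (hr : Rel lam lam' lam'' U hU W N₂ s s' (L''.presheaf.map (homOfLE i).op t))
    (y : ProjectiveSpectrum (𝒮.deg U hU)) (hy : (RelProj.emb p chart U hU).base y ∈ N₂)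
    (hy' : (RelProj.emb p chart U hU).base y ∈ W) :
    GrTwist.val (V := RelProj.emb p chart U hU ⁻¹ᵁ N) ((lam'' U hU).app N t) ⟨y, i hy⟩ =
      GrTwist.val (V := RelProj.emb p chart U hU ⁻¹ᵁ W) ((lam U hU).app W s) ⟨y, hy'⟩ *
        GrTwist.val (V := RelProj.emb p chart U hU ⁻¹ᵁ W) ((lam' U hU).app W s') ⟨y, hy'⟩ := by
  have h1 := hr y hy hy'
  rw [← ModSec.map_app_apply (lam'' U hU) (homOfLE i) t] at h1
  exact h1

theorem rel_unique (hL'' : RelProj.IsRelTwist 𝒮 p chart (m + n) L'' lam'')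
    (U : Y.Opens) (hU : IsAffineOpen U) (W N : P.Opens) (hN : N ≤ p ⁻¹ᵁ U)
    (hNW : N ≤ W) (s : Γ(L, W)) (s' : Γ(L', W)) (t t' : Γ(L'', N))
    (hr : Rel lam lam' lam'' U hU W N s s' t) (hr' : Rel lam lam' lam'' U hU W N s s' t') :
    t = t' := by
  apply (hL''.bijective U hU N hN).1
  refine Groth.Agent.Lib.helper28.GTwistQCoh.sectN_ext _ _ _ fun x => ?_
  exact (hr x.1 x.2 (hNW x.2)).trans (hr' x.1 x.2 (hNW x.2)).symm

open Groth.Agent.Lib.helper28.GTwistMul in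
theorem rel_exists (hL'' : RelProj.IsRelTwist 𝒮 p chart (m + n) L'' lam'')
    (U : Y.Opens) (hU : IsAffineOpen U) (W N : P.Opens) (hN : N ≤ p ⁻¹ᵁ U)
    (hNW : N ≤ W) (s : Γ(L, W)) (s' : Γ(L', W)) :
    ∃ t : Γ(L'', N), Rel lam lam' lam'' U hU W N s s' t := by
  obtain ⟨t, ht⟩ := (hL''.bijective U hU N hN).2
    (mulFun (𝒮.deg U hU) m n (RelProj.emb p chart U hU ⁻¹ᵁ N)
      ((lam U hU).app N (L.presheaf.map (homOfLE hNW).op s))
      ((lam' U hU).app N (L'.presheaf.map (homOfLE hNW).op s')))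
  refine ⟨t, fun y hy hy' => ?_⟩
  rw [ht, ← ModSec.map_app_apply (lam U hU) (homOfLE hNW) s,
    ← ModSec.map_app_apply (lam' U hU) (homOfLE hNW) s']
  rfl

theorem rel_descend (hP : RelProj.IsRelProj 𝒮 p chart)
    (hL : RelProj.IsRelTwist 𝒮 p chart m L lam)
    (hL' : RelProj.IsRelTwist 𝒮 p chart n L' lam')
    (hL'' : RelProj.IsRelTwist 𝒮 p chart (m + n) L'' lam'')
    (U : Y.Opens) (hU : IsAffineOpen U) (r : Γ(Y, U)) (V : Y.Opens) (hV : IsAffineOpen V)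
    (hVr : V = Y.basicOpen r) (W N : P.Opens) (s : Γ(L, W)) (s' : Γ(L', W)) (t : Γ(L'', N))
    (hr : Rel lam lam' lam'' U hU W N s s' t) : Rel lam lam' lam'' V hV W N s s' t := by
  subst hVr
  intro z hz hz'
  have hy : (RelProj.emb p chart U hU).base (ProjectiveSpectrum.comap
      (𝒮.res hU (hU.basicOpen r) (Y.basicOpen_le r)) (𝒮.irrelevant_le_map U hU r) z) ∈ N := by
    rw [Groth.Agent.Lib.helper28.RelTwistSec.emb_comap hP]
    exact hz
  have hy' : (RelProj.emb p chart U hU).base (ProjectiveSpectrum.comap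
      (𝒮.res hU (hU.basicOpen r) (Y.basicOpen_le r)) (𝒮.irrelevant_le_map U hU r) z) ∈ W := by
    rw [Groth.Agent.Lib.helper28.RelTwistSec.emb_comap hP]
    exact hz'
  rw [hL''.compat U hU r N t z hz hy, hL.compat U hU r W s z hz' hy',
    hL'.compat U hU r W s' z hz' hy', hr _ hy hy', map_mul]

theorem rel_indep (hP : RelProj.IsRelProj 𝒮 p chart)
    (hL : RelProj.IsRelTwist 𝒮 p chart m L lam)
    (hL' : RelProj.IsRelTwist 𝒮 p chart n L' lam')
    (hL'' : RelProj.IsRelTwist 𝒮 p chart (m + n) L'' lam'')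
    (U : Y.Opens) (hU : IsAffineOpen U) (W N : P.Opens) (hN : N ≤ p ⁻¹ᵁ U)
    (hNW : N ≤ W) (s : Γ(L, W)) (s' : Γ(L', W)) (t : Γ(L'', N))
    (hr : Rel lam lam' lam'' U hU W N s s' t)
    (U' : Y.Opens) (hU' : IsAffineOpen U') : Rel lam lam' lam'' U' hU' W N s s' t := by
  intro y hy hy'
  have hxU' : (RelProj.emb p chart U' hU').base y ∈ p ⁻¹ᵁ U' := by
    have : (RelProj.emb p chart U' hU').base y ∈ Set.range (RelProj.emb p chart U' hU') :=
      ⟨y, rfl⟩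
    rw [range_emb] at this
    exact this
  obtain ⟨r, r', hrr, hx⟩ := exists_basicOpen_le_affine_inter hU hU'
    (p.base ((RelProj.emb p chart U' hU').base y)) ⟨hN hy, hxU'⟩
  have hV : IsAffineOpen (Y.basicOpen r) := hU.basicOpen r
  have hN₂ : N ⊓ p ⁻¹ᵁ (Y.basicOpen r) ≤ N := inf_le_left
  have h1 := rel_resN lam lam' lam'' U hU W hN₂ s s' t hr
  have h2 := rel_descend lam lam' lam'' hP hL hL' hL'' U hU r _ hV rfl W _ s s' _ h1
  have hle' : N ⊓ p ⁻¹ᵁ (Y.basicOpen r) ≤ p ⁻¹ᵁ U' := fun x hx =>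
    Y.basicOpen_le r' (hrr ▸ hx.2)
  obtain ⟨t'', h3⟩ := rel_exists lam lam' lam'' hL'' U' hU' W _ hle' (hN₂.trans hNW) s s'
  have h4 := rel_descend lam lam' lam'' hP hL hL' hL'' U' hU' r' _ hV hrr W _ s s' _ h3
  have h5 := rel_unique lam lam' lam'' hL'' _ hV W _ inf_le_right (hN₂.trans hNW) s s' _ _ h4 h2
  subst h5
  exact rel_of_resN lam lam' lam'' U' hU' W hN₂ s s' t h3 y ⟨hy, hx⟩ hy'

/-- `t` is the product of `s` and `s'`. -/
def IsProd (W : P.Opens) (s : Γ(L, W)) (s' : Γ(L', W)) (t : Γ(L'', W)) : Prop :=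
  ∀ (U : Y.Opens) (hU : IsAffineOpen U), Rel lam lam' lam'' U hU W W s s' t

theorem prod_unique (hL'' : RelProj.IsRelTwist 𝒮 p chart (m + n) L'' lam'') (W : P.Opens)
    (s : Γ(L, W)) (s' : Γ(L', W)) (t t' : Γ(L'', W)) (ht : IsProd lam lam' lam'' W s s' t)
    (ht' : IsProd lam lam' lam'' W s s' t') : t = t' := by
  refine (ModSec.sheaf L'').eq_of_locally_eq'
    (fun i : {U : Y.Opens // IsAffineOpen U} => W ⊓ p ⁻¹ᵁ i.1) W
    (fun i => homOfLE inf_le_left) (Groth.Agent.Lib.helper28.RelTwistSec.le_iSup_inf p _) t t' ?_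
  intro i
  exact rel_unique lam lam' lam'' hL'' i.1 i.2 W _ inf_le_right inf_le_left s s' _ _
    (rel_resN lam lam' lam'' i.1 i.2 W inf_le_left s s' t (ht i.1 i.2))
    (rel_resN lam lam' lam'' i.1 i.2 W inf_le_left s s' t' (ht' i.1 i.2))

theorem exists_prod (hP : RelProj.IsRelProj 𝒮 p chart)
    (hL : RelProj.IsRelTwist 𝒮 p chart m L lam)
    (hL' : RelProj.IsRelTwist 𝒮 p chart n L' lam')
    (hL'' : RelProj.IsRelTwist 𝒮 p chart (m + n) L'' lam'') (W : P.Opens)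
    (s : Γ(L, W)) (s' : Γ(L', W)) : ∃ t : Γ(L'', W), IsProd lam lam' lam'' W s s' t := by
  classical
  let ι := {U : Y.Opens // IsAffineOpen U}
  let N : ι → P.Opens := fun i => W ⊓ p ⁻¹ᵁ i.1
  have hex : ∀ i : ι, ∃ t : Γ(L'', N i), Rel lam lam' lam'' i.1 i.2 W (N i) s s' t := fun i =>
    rel_exists lam lam' lam'' hL'' i.1 i.2 W (N i) inf_le_right inf_le_left s s'
  choose sf hsf using hex
  have hcompat : TopCat.Presheaf.IsCompatible L''.presheaf N sf := by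
    intro i j
    refine rel_unique lam lam' lam'' hL'' i.1 i.2 W (N i ⊓ N j) (inf_le_left.trans inf_le_right)
      (inf_le_left.trans inf_le_left) s s' _ _
      (rel_resN lam lam' lam'' i.1 i.2 W inf_le_left s s' (sf i) (hsf i)) ?_
    exact rel_indep lam lam' lam'' hP hL hL' hL'' j.1 j.2 W (N i ⊓ N j)
      (inf_le_right.trans inf_le_right) (inf_le_left.trans inf_le_left) s s' _
      (rel_resN lam lam' lam'' j.1 j.2 W inf_le_right s s' (sf j) (hsf j)) i.1 i.2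
  obtain ⟨t, ht, -⟩ := (ModSec.sheaf L'').existsUnique_gluing' N W
    (fun i => homOfLE (inf_le_left : N i ≤ W))
    (Groth.Agent.Lib.helper28.RelTwistSec.le_iSup_inf p _) sf hcompat
  refine ⟨t, fun U hU y hy hy' => ?_⟩
  have hxU : (RelProj.emb p chart U hU).base y ∈ p ⁻¹ᵁ U := by
    have : (RelProj.emb p chart U hU).base y ∈ Set.range (RelProj.emb p chart U hU) :=
      ⟨y, rfl⟩
    rw [range_emb] at this
    exact this
  have h3 : L''.presheaf.map (homOfLE (inf_le_left : N ⟨U, hU⟩ ≤ W)).op t = sf ⟨U, hU⟩ :=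
    ht ⟨U, hU⟩
  have h4 := hsf ⟨U, hU⟩
  rw [← h3] at h4
  exact rel_of_resN lam lam' lam'' U hU W (inf_le_left : N ⟨U, hU⟩ ≤ W) s s' t h4 y
    ⟨hy, hxU⟩ hy'

theorem isProd_res (W W₂ : P.Opens) (i : W₂ ≤ W) (s : Γ(L, W)) (s' : Γ(L', W)) (t : Γ(L'', W))
    (ht : IsProd lam lam' lam'' W s s' t) :
    IsProd lam lam' lam'' W₂ (L.presheaf.map (homOfLE i).op s)
      (L'.presheaf.map (homOfLE i).op s') (L''.presheaf.map (homOfLE i).op t) := fun U hU =>
  rel_resW lam lam' lam'' U hU i _ _ _ _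
    (rel_resN lam lam' lam'' U hU W i s s' t (ht U hU))

theorem isProd_add_left (W : P.Opens) (s₁ s₂ : Γ(L, W)) (s' : Γ(L', W)) (t₁ t₂ : Γ(L'', W))
    (h₁ : IsProd lam lam' lam'' W s₁ s' t₁) (h₂ : IsProd lam lam' lam'' W s₂ s' t₂) :
    IsProd lam lam' lam'' W (s₁ + s₂) s' (t₁ + t₂) := by
  intro U hU y hy hy'
  rw [map_add, map_add]
  change GrTwist.val _ ⟨y, hy⟩ + GrTwist.val _ ⟨y, hy⟩ =
    (GrTwist.val _ ⟨y, hy'⟩ + GrTwist.val _ ⟨y, hy'⟩) * _
  rw [add_mul, h₁ U hU y hy hy', h₂ U hU y hy hy']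

theorem isProd_add_right (W : P.Opens) (s : Γ(L, W)) (s₁' s₂' : Γ(L', W)) (t₁ t₂ : Γ(L'', W))
    (h₁ : IsProd lam lam' lam'' W s s₁' t₁) (h₂ : IsProd lam lam' lam'' W s s₂' t₂) :
    IsProd lam lam' lam'' W s (s₁' + s₂') (t₁ + t₂) := by
  intro U hU y hy hy'
  rw [map_add, map_add]
  change GrTwist.val _ ⟨y, hy⟩ + GrTwist.val _ ⟨y, hy⟩ =
    _ * (GrTwist.val _ ⟨y, hy'⟩ + GrTwist.val _ ⟨y, hy'⟩)
  rw [mul_add, h₁ U hU y hy hy', h₂ U hU y hy hy']

open Groth.Agent.Lib.helper28.GProjSec Groth.Agent.Lib.helper28.GTwistFree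
  Groth.Agent.Lib.helper28.LocalGen in
theorem isProd_smul_left (W : P.Opens) (r : Γ(P, W)) (s : Γ(L, W)) (s' : Γ(L', W))
    (t : Γ(L'', W)) (ht : IsProd lam lam' lam'' W s s' t) :
    IsProd lam lam' lam'' W (r • s) s' (r • t) := by
  intro U hU y hy hy'
  have hL : (lam'' U hU).app W (r • t) =
      ((((RelProj.emb p chart U hU).app W).hom r •
        (show Γ(GrTwist.twist (𝒮.deg U hU) (m + n), RelProj.emb p chart U hU ⁻¹ᵁ W) from
          (lam'' U hU).app W t)) :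
        Γ(GrTwist.twist (𝒮.deg U hU) (m + n), RelProj.emb p chart U hU ⁻¹ᵁ W)) := by
    rw [Scheme.Modules.Hom.app_smul, smul_pushforward]
  have hR : (lam U hU).app W (r • s) =
      ((((RelProj.emb p chart U hU).app W).hom r •
        (show Γ(GrTwist.twist (𝒮.deg U hU) m, RelProj.emb p chart U hU ⁻¹ᵁ W) from
          (lam U hU).app W s)) :
        Γ(GrTwist.twist (𝒮.deg U hU) m, RelProj.emb p chart U hU ⁻¹ᵁ W)) := by
    rw [Scheme.Modules.Hom.app_smul, smul_pushforward]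
  rw [hL, hR]
  let c : GrTwist.O (𝒜 := 𝒮.deg U hU) (op (RelProj.emb p chart U hU ⁻¹ᵁ W)) :=
    ((RelProj.emb p chart U hU).app W).hom r
  let σ'' : GrTwist.sectN (𝒜 := 𝒮.deg U hU) (m + n) (op (RelProj.emb p chart U hU ⁻¹ᵁ W)) :=
    (lam'' U hU).app W t
  let σ : GrTwist.sectN (𝒜 := 𝒮.deg U hU) m (op (RelProj.emb p chart U hU ⁻¹ᵁ W)) :=
    (lam U hU).app W s
  change ((((c • σ'' : GrTwist.sectN (𝒜 := 𝒮.deg U hU) (m + n) _)).1 ⟨y, hy⟩ :
      GrTwist.twistAt (𝒮.deg U hU) (m + n) y) : GrTwist.Loc (𝒮.deg U hU) y) =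
    ((((c • σ : GrTwist.sectN (𝒜 := 𝒮.deg U hU) m _)).1 ⟨y, hy'⟩ :
        GrTwist.twistAt (𝒮.deg U hU) m y) : GrTwist.Loc (𝒮.deg U hU) y) * _
  rw [smul_val, smul_val, mul_assoc]
  exact congrArg _ (ht U hU y hy hy')

open Groth.Agent.Lib.helper28.GProjSec Groth.Agent.Lib.helper28.GTwistFree
  Groth.Agent.Lib.helper28.LocalGen in
theorem isProd_smul_right (W : P.Opens) (r : Γ(P, W)) (s : Γ(L, W)) (s' : Γ(L', W))
    (t : Γ(L'', W)) (ht : IsProd lam lam' lam'' W s s' t) :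
    IsProd lam lam' lam'' W s (r • s') (r • t) := by
  intro U hU y hy hy'
  have hL : (lam'' U hU).app W (r • t) =
      ((((RelProj.emb p chart U hU).app W).hom r •
        (show Γ(GrTwist.twist (𝒮.deg U hU) (m + n), RelProj.emb p chart U hU ⁻¹ᵁ W) from
          (lam'' U hU).app W t)) :
        Γ(GrTwist.twist (𝒮.deg U hU) (m + n), RelProj.emb p chart U hU ⁻¹ᵁ W)) := by
    rw [Scheme.Modules.Hom.app_smul, smul_pushforward]
  have hR : (lam' U hU).app W (r • s') =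
      ((((RelProj.emb p chart U hU).app W).hom r •
        (show Γ(GrTwist.twist (𝒮.deg U hU) n, RelProj.emb p chart U hU ⁻¹ᵁ W) from
          (lam' U hU).app W s')) :
        Γ(GrTwist.twist (𝒮.deg U hU) n, RelProj.emb p chart U hU ⁻¹ᵁ W)) := by
    rw [Scheme.Modules.Hom.app_smul, smul_pushforward]
  rw [hL, hR]
  let c : GrTwist.O (𝒜 := 𝒮.deg U hU) (op (RelProj.emb p chart U hU ⁻¹ᵁ W)) :=
    ((RelProj.emb p chart U hU).app W).hom r
  let σ'' : GrTwist.sectN (𝒜 := 𝒮.deg U hU) (m + n) (op (RelProj.emb p chart U hU ⁻¹ᵁ W)) :=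
    (lam'' U hU).app W t
  let σ' : GrTwist.sectN (𝒜 := 𝒮.deg U hU) n (op (RelProj.emb p chart U hU ⁻¹ᵁ W)) :=
    (lam' U hU).app W s'
  change ((((c • σ'' : GrTwist.sectN (𝒜 := 𝒮.deg U hU) (m + n) _)).1 ⟨y, hy⟩ :
      GrTwist.twistAt (𝒮.deg U hU) (m + n) y) : GrTwist.Loc (𝒮.deg U hU) y) =
    _ * ((((c • σ' : GrTwist.sectN (𝒜 := 𝒮.deg U hU) n _)).1 ⟨y, hy'⟩ :
        GrTwist.twistAt (𝒮.deg U hU) n y) : GrTwist.Loc (𝒮.deg U hU) y)
  rw [smul_val, smul_val, mul_left_comm]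
  exact congrArg _ (ht U hU y hy hy')

section Mul

variable (hP : RelProj.IsRelProj 𝒮 p chart)
  (hL : RelProj.IsRelTwist 𝒮 p chart m L lam)
  (hL' : RelProj.IsRelTwist 𝒮 p chart n L' lam')
  (hL'' : RelProj.IsRelTwist 𝒮 p chart (m + n) L'' lam'')

/-- The product of a section of `O_P(m)` and a section of `O_P(n)`. -/
noncomputable def mul (W : P.Opens) (s : Γ(L, W)) (s' : Γ(L', W)) : Γ(L'', W) :=
  (exists_prod lam lam' lam'' hP hL hL' hL'' W s s').choose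

theorem isProd_mul (W : P.Opens) (s : Γ(L, W)) (s' : Γ(L', W)) :
    IsProd lam lam' lam'' W s s' (mul lam lam' lam'' hP hL hL' hL'' W s s') :=
  (exists_prod lam lam' lam'' hP hL hL' hL'' W s s').choose_spec

theorem mul_add_left (W : P.Opens) (s₁ s₂ : Γ(L, W)) (s' : Γ(L', W)) :
    mul lam lam' lam'' hP hL hL' hL'' W (s₁ + s₂) s' =
      mul lam lam' lam'' hP hL hL' hL'' W s₁ s' + mul lam lam' lam'' hP hL hL' hL'' W s₂ s' :=
  prod_unique lam lam' lam'' hL'' W _ _ _ _ (isProd_mul lam lam' lam'' hP hL hL' hL'' W _ _)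
    (isProd_add_left lam lam' lam'' W s₁ s₂ s' _ _
      (isProd_mul lam lam' lam'' hP hL hL' hL'' W _ _)
      (isProd_mul lam lam' lam'' hP hL hL' hL'' W _ _))

theorem mul_add_right (W : P.Opens) (s : Γ(L, W)) (s₁' s₂' : Γ(L', W)) :
    mul lam lam' lam'' hP hL hL' hL'' W s (s₁' + s₂') =
      mul lam lam' lam'' hP hL hL' hL'' W s s₁' + mul lam lam' lam'' hP hL hL' hL'' W s s₂' :=
  prod_unique lam lam' lam'' hL'' W _ _ _ _ (isProd_mul lam lam' lam'' hP hL hL' hL'' W _ _)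
    (isProd_add_right lam lam' lam'' W s s₁' s₂' _ _
      (isProd_mul lam lam' lam'' hP hL hL' hL'' W _ _)
      (isProd_mul lam lam' lam'' hP hL hL' hL'' W _ _))

theorem mul_smul_left (W : P.Opens) (r : Γ(P, W)) (s : Γ(L, W)) (s' : Γ(L', W)) :
    mul lam lam' lam'' hP hL hL' hL'' W (r • s) s' =
      r • mul lam lam' lam'' hP hL hL' hL'' W s s' :=
  prod_unique lam lam' lam'' hL'' W _ _ _ _ (isProd_mul lam lam' lam'' hP hL hL' hL'' W _ _)
    (isProd_smul_left lam lam' lam'' W r s s' _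
      (isProd_mul lam lam' lam'' hP hL hL' hL'' W _ _))

theorem mul_smul_right (W : P.Opens) (r : Γ(P, W)) (s : Γ(L, W)) (s' : Γ(L', W)) :
    mul lam lam' lam'' hP hL hL' hL'' W s (r • s') =
      r • mul lam lam' lam'' hP hL hL' hL'' W s s' :=
  prod_unique lam lam' lam'' hL'' W _ _ _ _ (isProd_mul lam lam' lam'' hP hL hL' hL'' W _ _)
    (isProd_smul_right lam lam' lam'' W r s s' _
      (isProd_mul lam lam' lam'' hP hL hL' hL'' W _ _))

theorem mul_res (W W₂ : P.Opens) (i : W₂ ≤ W) (s : Γ(L, W)) (s' : Γ(L', W)) :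
    mul lam lam' lam'' hP hL hL' hL'' W₂ (L.presheaf.map (homOfLE i).op s)
        (L'.presheaf.map (homOfLE i).op s') =
      L''.presheaf.map (homOfLE i).op (mul lam lam' lam'' hP hL hL' hL'' W s s') :=
  prod_unique lam lam' lam'' hL'' W₂ _ _ _ _ (isProd_mul lam lam' lam'' hP hL hL' hL'' W₂ _ _)
    (isProd_res lam lam' lam'' W W₂ i s s' _ (isProd_mul lam lam' lam'' hP hL hL' hL'' W _ _))

end Mul

end Groth.Agent.Lib.helper28.RelTwistProd
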