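import Groth.Agent.Lib.Helper28.AwayBaseChange2
import Groth.Agent.Lib.Helper28.GTwistFree
import Groth.Agent.Lib.Helper28.GProjSec
import Groth.Agent.Lib.Helper28.IsBCExtra

/-!
# The twisting sheaves `O(n)` over `D₊(f)` commute with base change (helper28)

For a pushout square of graded rings `𝒜 → 𝒜'` over `R → R'` (structure maps in degree zero), an
element `f ∈ 𝒜_d`, `d > 0`, and an integer `n`: the comparison map
`Γ(D₊(f), O(n)) → Γ(D₊(ψ f), O'(n))`, `a / f^k ↦ ψ a / ψ f^k`, is a base change along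
`Γ(D₊(f), O) → Γ(D₊(ψ f), O')` (no generation in degree one needed).
-/

set_option autoImplicit false
universe u

namespace Groth.Agent.Lib.helper28.TwistBaseChange

open HomogeneousLocalization DirectSum CategoryTheory AlgebraicGeometry Opposite TopologicalSpace
open Groth.Agent.Lib.helper28.AwayBaseChange Groth.Agent.Lib.helper28.GTwistFree
  Groth.Agent.Lib.helper28.GFrac Groth.Agent.Lib.helper28.GTwistSec
open scoped HomogeneousIdeal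

section Mk

variable {A σ : Type u} [CommRing A] [SetLike σ A] [AddSubgroupClass σ A] (𝒜 : ℕ → σ)
  [GradedRing 𝒜] {d : ℕ} (hd : 0 < d) {f : A} (hf : f ∈ 𝒜 d) (n : ℤ)

/-- The exponent of the denominator: `K₀ + m` with `K₀ = max (-n) 0`. -/
def ex (m : ℕ) : ℕ := (-n).toNat + m

/-- The degree of the numerators with denominator `f ^ ex n m`. -/
def dg (d : ℕ) (m : ℕ) : ℕ := ((ex n m * d : ℕ) + n).toNat

include hd in
theorem dg_eq (m : ℕ) : ((dg n d m : ℕ) : ℤ) = ((ex n m * d : ℕ) : ℤ) + n := by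
  unfold dg
  refine Int.toNat_of_nonneg ?_
  have h1 : -n ≤ ((-n).toNat : ℤ) := Int.self_le_toNat (-n)
  have h2 : ex n m ≤ ex n m * d := Nat.le_mul_of_pos_right _ hd
  have h3 : (-n).toNat ≤ ex n m := Nat.le_add_right _ _
  have h4 : (((-n).toNat : ℕ) : ℤ) ≤ ((ex n m * d : ℕ) : ℤ) := by exact_mod_cast h3.trans h2
  linarith

theorem ex_succ (m : ℕ) : ex n (m + 1) = ex n m + 1 := by
  unfold ex
  omega

theorem ex_add (m k : ℕ) : ex n (m + k) = ex n m + k := by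
  unfold ex
  omega

include hd in
theorem dg_add (m k : ℕ) : dg n d (m + k) = dg n d m + k * d := by
  have h1 := dg_eq hd n (m + k)
  have h2 := dg_eq hd n m
  rw [ex_add] at h1
  have : ((dg n d (m + k) : ℕ) : ℤ) = ((dg n d m + k * d : ℕ) : ℤ) := by
    push_cast at h1 h2 ⊢
    linarith
  exact_mod_cast this

include hf in
theorem pow_mem (k : ℕ) : f ^ k ∈ 𝒜 (k * d) := by
  have := SetLike.pow_mem_graded k hf
  simpa [smul_eq_mul] using this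

theorem pow_notMem (k : ℕ) (x : ProjectiveSpectrum.basicOpen 𝒜 f) :
    f ^ k ∉ x.1.asHomogeneousIdeal := fun h =>
  (ProjectiveSpectrum.mem_basicOpen 𝒜 f x.1).mp x.2 (x.1.isPrime.mem_of_pow_mem k h)

/-- `x ↦ x_{dg m} / f ^ (ex m)`, a section of `O(n)` over `D₊(f)`. -/
noncomputable def twMk (m : ℕ) :
    A →+ GrTwist.sectN (𝒜 := 𝒜) n (op (ProjectiveSpectrum.basicOpen 𝒜 f)) where
  toFun x := fracSectN 𝒜 n (ProjectiveSpectrum.basicOpen 𝒜 f) (decompose 𝒜 x (dg n d m))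
    ⟨f ^ ex n m, pow_mem 𝒜 hf _⟩ (pow_notMem 𝒜 _) (dg_eq hd n m)
  map_zero' := by
    refine sectN_ext' 𝒜 _ _ fun y => ?_
    rw [fracSectN_val, decompose_zero, DirectSum.zero_apply, ZeroMemClass.coe_zero,
      Localization.mk_zero]
    rfl
  map_add' x y := by
    refine sectN_ext' 𝒜 _ _ fun z => ?_
    rw [fracSectN_val, decompose_add, DirectSum.add_apply, AddMemClass.coe_add,
      ← Localization.add_mk_self]
    rfl

theorem twMk_val (m : ℕ) (x : A) (y : ProjectiveSpectrum.basicOpen 𝒜 f) :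
    (((twMk 𝒜 hd hf n m x).1 y : GrTwist.twistAt 𝒜 n y.1) : GrTwist.Loc 𝒜 y.1) =
      Localization.mk (decompose 𝒜 x (dg n d m) : A) ⟨f ^ ex n m, pow_notMem 𝒜 _ y⟩ := rfl

theorem twMk_decompose (m : ℕ) (x : A) :
    twMk 𝒜 hd hf n m (decompose 𝒜 x (dg n d m) : A) = twMk 𝒜 hd hf n m x := by
  refine sectN_ext' 𝒜 _ _ fun y => ?_
  rw [twMk_val, twMk_val, decompose_of_mem_same 𝒜 (SetLike.coe_mem _)]

theorem twMk_add_pow (m k : ℕ) (x : A) :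
    twMk 𝒜 hd hf n (m + k) (f ^ k * x) = twMk 𝒜 hd hf n m x := by
  refine sectN_ext' 𝒜 _ _ fun y => ?_
  rw [twMk_val, twMk_val]
  have h1 : (decompose 𝒜 (f ^ k * x) (dg n d (m + k)) : A) =
      f ^ k * (decompose 𝒜 x (dg n d m) : A) := by
    rw [dg_add hd n m k, Nat.add_comm]
    exact coe_decompose_mul_add_of_left_mem 𝒜 (pow_mem 𝒜 hf k)
  rw [h1, mk_eq_mk_iff']
  refine ⟨1, ?_⟩
  simp only [OneMemClass.coe_one, one_mul, ex_add]
  ring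

theorem twMk_surjective
    (s : GrTwist.sectN (𝒜 := 𝒜) n (op (ProjectiveSpectrum.basicOpen 𝒜 f))) :
    ∃ (m : ℕ) (x : A), twMk 𝒜 hd hf n m x = s := by
  obtain ⟨k, i, a, hi, hs⟩ := sectN_eq_fraction 𝒜 n hd hf s
  refine ⟨k, f ^ (-n).toNat * a.1, sectN_ext' 𝒜 _ _ fun y => ?_⟩
  have hdeg : dg n d k = (-n).toNat * d + i := by
    have h1 := dg_eq hd n k
    unfold ex at h1
    have : ((dg n d k : ℕ) : ℤ) = (((-n).toNat * d + i : ℕ) : ℤ) := by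
      push_cast at h1 ⊢
      rw [hi]
      linarith
    exact_mod_cast this
  have hmem : f ^ (-n).toNat * a.1 ∈ 𝒜 (dg n d k) := by
    rw [hdeg]
    exact SetLike.mul_mem_graded (pow_mem 𝒜 hf _) a.2
  rw [twMk_val, decompose_of_mem_same 𝒜 hmem, hs y, mk_eq_mk_iff']
  refine ⟨1, ?_⟩
  simp only [OneMemClass.coe_one, one_mul, ex]
  ring

/-- Multiplication by a section `b_{ld} / f^l` of `O`. -/
theorem twMk_smul (m l : ℕ) (b : 𝒜 (l * d)) (x : A) :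
    (fracSectO 𝒜 (ProjectiveSpectrum.basicOpen 𝒜 f) b ⟨f ^ l, pow_mem 𝒜 hf l⟩ (pow_notMem 𝒜 _) •
      twMk 𝒜 hd hf n m x : GrTwist.sectN (𝒜 := 𝒜) n (op (ProjectiveSpectrum.basicOpen 𝒜 f))) =
      twMk 𝒜 hd hf n (m + l) (b.1 * (decompose 𝒜 x (dg n d m) : A)) := by
  refine sectN_ext' 𝒜 _ _ fun y => ?_
  have hmem : b.1 * (decompose 𝒜 x (dg n d m) : A) ∈ 𝒜 (dg n d (m + l)) := by
    rw [dg_add hd n m l, Nat.add_comm]
    exact SetLike.mul_mem_graded b.2 (SetLike.coe_mem _)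
  rw [smul_val, twMk_val, twMk_val, fracSectO_val, decompose_of_mem_same 𝒜 hmem,
    Localization.mk_mul, mk_eq_mk_iff']
  refine ⟨1, ?_⟩
  simp only [OneMemClass.coe_one, one_mul, Submonoid.coe_mul, ex_add]
  ring

end Mk

section Const

variable {A σ : Type u} [CommRing A] [SetLike σ A] [AddSubgroupClass σ A] (𝒜 : ℕ → σ)
  [GradedRing 𝒜]

theorem one_notMem (x : ProjectiveSpectrum 𝒜) : (1 : A) ∉ x.asHomogeneousIdeal := fun h =>
  x.isPrime.ne_top ((Ideal.eq_top_iff_one _).mpr h)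

/-- The constant sections `a / 1`, `a ∈ 𝒜 0`, of the structure sheaf of `Proj`. -/
noncomputable def constO (W : Opens (ProjectiveSpectrum.top 𝒜)) :
    𝒜 0 →+* GrTwist.O (𝒜 := 𝒜) (op W) where
  toFun a := fracSectO 𝒜 W a ⟨1, SetLike.GradedOne.one_mem⟩ (fun x => one_notMem 𝒜 x.1)
  map_one' := by
    refine O_ext' 𝒜 _ _ fun x => ?_
    rw [fracSectO_val]
    change Localization.mk (1 : A) ⟨1, _⟩ = (1 : HomogeneousLocalization.AtPrime 𝒜 _).val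
    rw [HomogeneousLocalization.val_one]
    exact Localization.mk_self (⟨1, one_notMem 𝒜 x.1⟩ : x.1.asHomogeneousIdeal.toIdeal.primeCompl)
  map_mul' a b := by
    refine O_ext' 𝒜 _ _ fun x => ?_
    rw [fracSectO_val]
    change _ = ((fracSectO 𝒜 W a _ _).1 x * (fracSectO 𝒜 W b _ _).1 x).val
    rw [HomogeneousLocalization.val_mul, fracSectO_val, fracSectO_val, Localization.mk_mul,
      mk_eq_mk_iff']
    refine ⟨1, ?_⟩
    simp
  map_zero' := by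
    refine O_ext' 𝒜 _ _ fun x => ?_
    rw [fracSectO_val]
    change Localization.mk (0 : A) _ = (0 : HomogeneousLocalization.AtPrime 𝒜 _).val
    rw [HomogeneousLocalization.val_zero, Localization.mk_zero]
  map_add' a b := by
    refine O_ext' 𝒜 _ _ fun x => ?_
    rw [fracSectO_val]
    change _ = ((fracSectO 𝒜 W a _ _).1 x + (fracSectO 𝒜 W b _ _).1 x).val
    rw [HomogeneousLocalization.val_add, fracSectO_val, fracSectO_val,
      Localization.add_mk_self]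
    rfl

theorem constO_val (W : Opens (ProjectiveSpectrum.top 𝒜)) (a : 𝒜 0) (x : W) :
    ((constO 𝒜 W a).1 x).val = Localization.mk a.1 ⟨1, one_notMem 𝒜 x.1⟩ := rfl

end Const

section Main

open Groth.Agent.Lib.helper8.PullbackUnit

variable {R R' A A' : Type u} [CommRing R] [CommRing R'] [CommRing A] [CommRing A']
  {σ τ : Type u} [SetLike σ A] [AddSubgroupClass σ A] [SetLike τ A'] [AddSubgroupClass τ A']
  (𝒜 : ℕ → σ) [GradedRing 𝒜] (𝒜' : ℕ → τ) [GradedRing 𝒜']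
  (φ : R →+* R') (α : R →+* A) (β : R' →+* A') (ψ : 𝒜 →+*ᵍ 𝒜')
  (hα : ∀ r, α r ∈ 𝒜 0) (hβ : ∀ r', β r' ∈ 𝒜' 0)
  (hψ : 𝒜'₊ ≤ 𝒜₊.map ψ)
  {d : ℕ} (hd : 0 < d) {f : A} (hf : f ∈ 𝒜 d) (n : ℤ)

theorem basicOpen_subset :
    (ProjectiveSpectrum.basicOpen 𝒜' (ψ f)).1 ⊆
      ProjectiveSpectrum.comap ψ hψ ⁻¹' (ProjectiveSpectrum.basicOpen 𝒜 f).1 := by
  intro y hy
  refine (ProjectiveSpectrum.mem_basicOpen 𝒜 f _).mpr fun hmem => ?_
  have hmem' : ψ f ∈ y.asHomogeneousIdeal := hmem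
  exact (ProjectiveSpectrum.mem_basicOpen 𝒜' (ψ f) y).mp hy hmem'

/-- The comparison of structure sheaves `Γ(D₊(f), O) → Γ(D₊(ψ f), O')`. -/
noncomputable abbrev kap :
    GrTwist.O (𝒜 := 𝒜) (op (ProjectiveSpectrum.basicOpen 𝒜 f)) →+*
      GrTwist.O (𝒜 := 𝒜') (op (ProjectiveSpectrum.basicOpen 𝒜' (ψ f))) :=
  Proj.comapStructureSheaf ψ hψ _ _ (basicOpen_subset 𝒜 𝒜' ψ hψ)

/-- The comparison of twisting sheaves `Γ(D₊(f), O(n)) → Γ(D₊(ψ f), O'(n))`. -/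
noncomputable abbrev Kap :
    GrTwist.sectN (𝒜 := 𝒜) n (op (ProjectiveSpectrum.basicOpen 𝒜 f)) →+
      GrTwist.sectN (𝒜 := 𝒜') n (op (ProjectiveSpectrum.basicOpen 𝒜' (ψ f))) :=
  GrTwist.comapApp ψ hψ n _ _ (basicOpen_subset 𝒜 𝒜' ψ hψ)

theorem kap_val (r : GrTwist.O (𝒜 := 𝒜) (op (ProjectiveSpectrum.basicOpen 𝒜 f)))
    (y : ProjectiveSpectrum.basicOpen 𝒜' (ψ f)) :
    ((kap 𝒜 𝒜' ψ hψ (f := f) r).1 y).val =
      GrTwist.locMap ψ hψ y.1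
        (r.1 ⟨ProjectiveSpectrum.comap ψ hψ y.1, basicOpen_subset 𝒜 𝒜' ψ hψ y.2⟩).val := by
  change ((Proj.comapStructureSheaf ψ hψ _ _ (basicOpen_subset 𝒜 𝒜' ψ hψ) r).1 y).val = _
  rw [GrTwist.comapStructureSheaf_apply, HomogeneousLocalization.val_localRingHom]
  rfl

theorem kap_fracSectO {i : ℕ} (a b : 𝒜 i)
    (hb : ∀ x : ProjectiveSpectrum.basicOpen 𝒜 f, b.1 ∉ x.1.asHomogeneousIdeal)
    (hb' : ∀ y : ProjectiveSpectrum.basicOpen 𝒜' (ψ f), ψ b.1 ∉ y.1.asHomogeneousIdeal) :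
    kap 𝒜 𝒜' ψ hψ (f := f) (fracSectO 𝒜 _ a b hb) =
      fracSectO 𝒜' _ ⟨ψ a.1, ψ.map_mem a.2⟩ ⟨ψ b.1, ψ.map_mem b.2⟩ hb' := by
  refine O_ext' 𝒜' _ _ fun y => ?_
  rw [kap_val, fracSectO_val, fracSectO_val, GrTwist.locMap_mk]

theorem kap_constO (a : 𝒜 0) :
    kap 𝒜 𝒜' ψ hψ (f := f) (constO 𝒜 _ a) = constO 𝒜' _ ⟨ψ a.1, ψ.map_mem a.2⟩ := by
  refine O_ext' 𝒜' _ _ fun y => ?_
  rw [kap_val, constO_val, constO_val, GrTwist.locMap_mk, mk_eq_mk_iff']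
  refine ⟨1, ?_⟩
  simp

theorem Kap_twMk (m : ℕ) (x : A) :
    Kap 𝒜 𝒜' ψ hψ n (f := f) (twMk 𝒜 hd hf n m x) = twMk 𝒜' hd (ψ.map_mem hf) n m (ψ x) := by
  refine sectN_ext' 𝒜' _ _ fun y => ?_
  rw [GrTwist.comapApp_apply_coe, twMk_val, twMk_val, GrTwist.locMap_mk, mk_eq_mk_iff']
  refine ⟨1, ?_⟩
  simp only [OneMemClass.coe_one, one_mul, map_pow, GradedRingHom.map_directSumDecompose]
  rfl

theorem twMk_zero_mul (m : ℕ) {a : A} (ha : a ∈ 𝒜 0) (x : A) :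
    twMk 𝒜 hd hf n m (a * x) =
      (constO 𝒜 (ProjectiveSpectrum.basicOpen 𝒜 f) ⟨a, ha⟩ • twMk 𝒜 hd hf n m x :
      GrTwist.sectN (𝒜 := 𝒜) n (op (ProjectiveSpectrum.basicOpen 𝒜 f))) := by
  refine sectN_ext' 𝒜 _ _ fun y => ?_
  rw [smul_val, twMk_val, twMk_val, constO_val, coe_decompose_mul_of_left_mem_zero 𝒜 ha,
    Localization.mk_mul, mk_eq_mk_iff']
  refine ⟨1, ?_⟩
  simp

/-- The structure map `R → Γ(D₊(f), O)`. -/
noncomputable def strO : R →+* GrTwist.O (𝒜 := 𝒜) (op (ProjectiveSpectrum.basicOpen 𝒜 f)) :=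
  (constO 𝒜 _).comp (zeroHom 𝒜 α hα)

theorem kap_comp_strO (hw : (ψ : A →+* A').comp α = β.comp φ) :
    (kap 𝒜 𝒜' ψ hψ (f := f)).comp (strO 𝒜 α hα) = (strO 𝒜' β hβ (f := ψ f)).comp φ := by
  refine RingHom.ext fun r => ?_
  change kap 𝒜 𝒜' ψ hψ (constO 𝒜 _ ⟨α r, hα r⟩) = constO 𝒜' _ ⟨β (φ r), hβ (φ r)⟩
  rw [kap_constO]
  congr 1
  exact Subtype.ext congr($hw r)

variable (hBC : SemiBC φ α β (ψ : A →+* A').toAddMonoidHom)

include hBC in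
/-- `A'` is spanned over `R'` by the image of `A`. -/
theorem span_range_eq_top :
    letI := Module.compHom A' β
    Submodule.span R' (Set.range ψ) = ⊤ := by
  letI := Module.compHom A' β
  let S : Submodule R' A' := Submodule.span R' (Set.range ψ)
  obtain ⟨H₀, -, huniq⟩ := hBC.lift (A' ⧸ S) 0 (fun r x => by
    rw [AddMonoidHom.zero_apply, AddMonoidHom.zero_apply, smul_zero])
  have e1 : S.mkQ.toAddMonoidHom = H₀ := by
    refine huniq _ ⟨fun r' x' => ?_, fun x => ?_⟩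
    · change S.mkQ (r' • x') = r' • S.mkQ x'
      exact S.mkQ.map_smul r' x'
    · change S.mkQ (ψ x) = 0
      rw [Submodule.mkQ_apply, Submodule.Quotient.mk_eq_zero]
      exact Submodule.subset_span ⟨x, rfl⟩
  have e2 : (0 : A' →+ A' ⧸ S) = H₀ := by
    refine huniq 0 ⟨fun r' x' => ?_, fun x => rfl⟩
    rw [AddMonoidHom.zero_apply, AddMonoidHom.zero_apply, smul_zero]
  rw [eq_top_iff]
  intro x' _
  have := congrArg (fun k : A' →+ A' ⧸ S => k x') (e1.trans e2.symm)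
  change S.mkQ x' = 0 at this
  rwa [Submodule.mkQ_apply, Submodule.Quotient.mk_eq_zero] at this

include hα hβ hBC hd hf in
/-- **`Γ(D₊(f), O(n))` commutes with base change**, over the base rings. -/
theorem isBC_base (hw : (ψ : A →+* A').comp α = β.comp φ) :
    letI := Module.compHom
      (GrTwist.sectN (𝒜 := 𝒜) n (op (ProjectiveSpectrum.basicOpen 𝒜 f))) (strO 𝒜 α hα (f := f))
    letI := Module.compHom
      (GrTwist.sectN (𝒜 := 𝒜') n (op (ProjectiveSpectrum.basicOpen 𝒜' (ψ f))))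
        (strO 𝒜' β hβ (f := ψ f))
    IsBC φ (Kap 𝒜 𝒜' ψ hψ n (f := f)) := by
  letI iN := Module.compHom
    (GrTwist.sectN (𝒜 := 𝒜) n (op (ProjectiveSpectrum.basicOpen 𝒜 f))) (strO 𝒜 α hα (f := f))
  letI iP := Module.compHom
    (GrTwist.sectN (𝒜 := 𝒜') n (op (ProjectiveSpectrum.basicOpen 𝒜' (ψ f))))
      (strO 𝒜' β hβ (f := ψ f))
  have hf' : ψ f ∈ 𝒜' d := ψ.map_mem hf
  have hsmN : ∀ (r : R) (s : GrTwist.sectN (𝒜 := 𝒜) n (op (ProjectiveSpectrum.basicOpen 𝒜 f))),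
      r • s = strO 𝒜 α hα (f := f) r • s := fun _ _ => rfl
  have hsmP : ∀ (r : R')
      (s : GrTwist.sectN (𝒜 := 𝒜') n (op (ProjectiveSpectrum.basicOpen 𝒜' (ψ f)))),
      r • s = strO 𝒜' β hβ (f := ψ f) r • s := fun _ _ => rfl
  constructor
  · intro r s
    rw [hsmN, hsmP, GrTwist.comapApp_smul]
    congr 1
    exact congr($(kap_comp_strO 𝒜 𝒜' φ α β ψ hα hβ hψ (f := f) hw) r)
  intro T _ _ h hlin
  let g : ℕ → (A →+ T) := fun m => h.comp (twMk 𝒜 hd hf n m)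
  have hg_lin : ∀ m r x, g m (α r * x) = φ r • g m x := by
    intro m r x
    change h (twMk 𝒜 hd hf n m (α r * x)) = _
    rw [twMk_zero_mul 𝒜 hd hf n m (hα r)]
    exact hlin r _
  have hg_supp : ∀ m x, g m (decompose 𝒜 x (dg n d m) : A) = g m x := fun m x =>
    congrArg h (twMk_decompose 𝒜 hd hf n m x)
  have hex := fun m => hBC.lift T (g m) (hg_lin m)
  choose G hG hGuniq using hex
  have hGsupp : ∀ m x', G m (decompose 𝒜' x' (dg n d m) : A') = G m x' := fun m x' =>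
    lift_supported 𝒜 𝒜' φ α β ψ hβ hBC T (dg n d m) (g m) (hg_lin m) (hg_supp m) (G m)
      (hG m).1 (hG m).2 x'
  have hrelk : ∀ m k x', G (m + k) (ψ f ^ k * x') = G m x' := by
    intro m k x'
    have : (G (m + k)).comp (AddMonoidHom.mulLeft (ψ f ^ k)) = G m := by
      refine hGuniq m _ ⟨fun r' y' => ?_, fun x => ?_⟩
      · change G (m + k) (ψ f ^ k * (β r' * y')) = r' • G (m + k) (ψ f ^ k * y')
        rw [mul_left_comm, (hG (m + k)).1]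
      · change G (m + k) (ψ f ^ k * ψ x) = g m x
        rw [← map_pow, ← map_mul]
        exact ((hG (m + k)).2 (f ^ k * x)).trans (congrArg h (twMk_add_pow 𝒜 hd hf n m k x))
    exact congrArg (fun k : A' →+ T => k x') this
  have core : ∀ (m₁ m₂ : ℕ) (y₁ y₂ : A') (k : ℕ),
      ψ f ^ k * (ψ f ^ m₂ * y₁) = ψ f ^ k * (ψ f ^ m₁ * y₂) → G m₁ y₁ = G m₂ y₂ := by
    intro m₁ m₂ y₁ y₂ k hk
    rw [← hrelk m₁ (k + m₂) y₁, ← hrelk m₂ (k + m₁) y₂, pow_add, pow_add, mul_assoc, mul_assoc, hk]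
    exact congrArg (fun m => G m _) (by omega)
  -- equal sections have equal values
  have hwd : ∀ (m₁ m₂ : ℕ) (x₁ x₂ : A'),
      twMk 𝒜' hd hf' n m₁ x₁ = twMk 𝒜' hd hf' n m₂ x₂ → G m₁ x₁ = G m₂ x₂ := by
    intro m₁ m₂ x₁ x₂ he
    rw [← hGsupp m₁ x₁, ← hGsupp m₂ x₂]
    set y₁ : A' := (decompose 𝒜' x₁ (dg n d m₁) : A') with hy₁
    set y₂ : A' := (decompose 𝒜' x₂ (dg n d m₂) : A') with hy₂
    have hdeg : ex n m₂ * d + dg n d m₁ = ex n m₁ * d + dg n d m₂ := by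
      have h1 := dg_eq hd n m₁
      have h2 := dg_eq hd n m₂
      have : ((ex n m₂ * d + dg n d m₁ : ℕ) : ℤ) = ((ex n m₁ * d + dg n d m₂ : ℕ) : ℤ) := by
        push_cast at h1 h2 ⊢
        linarith
      exact_mod_cast this
    have hz : ψ f ^ ex n m₂ * y₁ - ψ f ^ ex n m₁ * y₂ ∈ 𝒜' (ex n m₂ * d + dg n d m₁) := by
      refine sub_mem (SetLike.mul_mem_graded (pow_mem 𝒜' hf' _) (SetLike.coe_mem _)) ?_
      rw [hdeg]
      exact SetLike.mul_mem_graded (pow_mem 𝒜' hf' _) (SetLike.coe_mem _)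
    obtain ⟨N, hN⟩ := exists_pow_smul_eq_zero 𝒜' 𝒜' hd hf' hz (fun y hy => by
      have hyV : y ∈ ProjectiveSpectrum.basicOpen 𝒜' (ψ f) :=
        (ProjectiveSpectrum.mem_basicOpen 𝒜' (ψ f) y).mpr hy
      have h1 : (Localization.mk (decompose 𝒜' x₁ (dg n d m₁) : A')
            ⟨ψ f ^ ex n m₁, pow_notMem 𝒜' _ ⟨y, hyV⟩⟩ : GrTwist.Loc 𝒜' y) =
          Localization.mk (decompose 𝒜' x₂ (dg n d m₂) : A')
            ⟨ψ f ^ ex n m₂, pow_notMem 𝒜' _ ⟨y, hyV⟩⟩ :=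
        congrArg (fun s : GrTwist.sectN (𝒜 := 𝒜') n
            (op (ProjectiveSpectrum.basicOpen 𝒜' (ψ f))) =>
          ((s.1 ⟨y, hyV⟩ : GrTwist.twistAt 𝒜' n y) : GrTwist.Loc 𝒜' y)) he
      rw [mk_eq_mk_iff'] at h1
      obtain ⟨c, hc⟩ := h1
      refine ⟨c.1, c.2, ?_⟩
      rw [smul_eq_mul, mul_sub, sub_eq_zero]
      exact hc)
    rw [smul_eq_mul, mul_sub, sub_eq_zero] at hN
    refine core m₁ m₂ y₁ y₂ (N + (-n).toNat) ?_
    have e1 : ψ f ^ ex n m₂ = ψ f ^ (-n).toNat * ψ f ^ m₂ := by rw [ex, pow_add]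
    have e2 : ψ f ^ ex n m₁ = ψ f ^ (-n).toNat * ψ f ^ m₁ := by rw [ex, pow_add]
    rw [e1, e2] at hN
    rw [pow_add, mul_assoc, mul_assoc, ← mul_assoc (ψ f ^ (-n).toNat), hN, ← mul_assoc
      (ψ f ^ (-n).toNat)]
  have hsurj := twMk_surjective 𝒜' hd hf' n
  let h' : GrTwist.sectN (𝒜 := 𝒜') n (op (ProjectiveSpectrum.basicOpen 𝒜' (ψ f))) → T :=
    fun t => G (Classical.choose (hsurj t)) (Classical.choose (Classical.choose_spec (hsurj t)))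
  have hkey : ∀ m x', h' (twMk 𝒜' hd hf' n m x') = G m x' := fun m x' =>
    hwd _ _ _ _ (Classical.choose_spec (Classical.choose_spec (hsurj (twMk 𝒜' hd hf' n m x'))))
  have hcommon : ∀ t₁ t₂ : GrTwist.sectN (𝒜 := 𝒜') n
      (op (ProjectiveSpectrum.basicOpen 𝒜' (ψ f))), ∃ (m : ℕ) (x₁ x₂ : A'),
      twMk 𝒜' hd hf' n m x₁ = t₁ ∧ twMk 𝒜' hd hf' n m x₂ = t₂ := by
    intro t₁ t₂
    obtain ⟨m₁, x₁, rfl⟩ := hsurj t₁
    obtain ⟨m₂, x₂, rfl⟩ := hsurj t₂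
    refine ⟨m₁ + m₂, ψ f ^ m₂ * x₁, ψ f ^ m₁ * x₂, twMk_add_pow 𝒜' hd hf' n m₁ m₂ x₁, ?_⟩
    rw [Nat.add_comm m₁ m₂]
    exact twMk_add_pow 𝒜' hd hf' n m₂ m₁ x₂
  have hadd : ∀ t₁ t₂, h' (t₁ + t₂) = h' t₁ + h' t₂ := by
    intro t₁ t₂
    obtain ⟨m, x₁, x₂, rfl, rfl⟩ := hcommon t₁ t₂
    rw [← map_add, hkey, hkey, hkey, map_add]
  have hsmul : ∀ (r' : R') t, h' (r' • t) = r' • h' t := by
    intro r' t
    obtain ⟨m, x', rfl⟩ := hsurj t
    rw [hsmP]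
    change h' (constO 𝒜' _ ⟨β r', hβ r'⟩ • twMk 𝒜' hd hf' n m x') = _
    rw [← twMk_zero_mul 𝒜' hd hf' n m (hβ r'), hkey, hkey, (hG m).1]
  let H : GrTwist.sectN (𝒜 := 𝒜') n (op (ProjectiveSpectrum.basicOpen 𝒜' (ψ f))) →ₗ[R'] T :=
    { toFun := h', map_add' := hadd, map_smul' := hsmul }
  refine ⟨H, fun s => ?_, fun H' hH' => ?_⟩
  · obtain ⟨m, x, rfl⟩ := twMk_surjective 𝒜 hd hf n s
    change h' (Kap 𝒜 𝒜' ψ hψ n (twMk 𝒜 hd hf n m x)) = h _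
    rw [Kap_twMk, hkey]
    exact (hG m).2 x
  · ext t
    obtain ⟨m, x', rfl⟩ := hsurj t
    change H' _ = h' _
    rw [hkey]
    have : H'.toAddMonoidHom.comp (twMk 𝒜' hd hf' n m) = G m := by
      refine hGuniq m _ ⟨fun r' y' => ?_, fun x => ?_⟩
      · change H' (twMk 𝒜' hd hf' n m (β r' * y')) = r' • H' (twMk 𝒜' hd hf' n m y')
        rw [twMk_zero_mul 𝒜' hd hf' n m (hβ r'), ← H'.map_smul]
        rfl
      · change H' (twMk 𝒜' hd hf' n m (ψ x)) = h (twMk 𝒜 hd hf n m x)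
        rw [← Kap_twMk 𝒜 𝒜' ψ hψ hd hf n m x]
        exact hH' (twMk 𝒜 hd hf n m x)
    exact congrArg (fun k : A' →+ T => k x') this

end Main

section Gen

variable {A σ : Type u} [CommRing A] [SetLike σ A] [AddSubgroupClass σ A] (𝒜 : ℕ → σ)
  [GradedRing 𝒜] {d : ℕ} (hd : 0 < d) {f : A} (hf : f ∈ 𝒜 d)

/-- `x ↦ x_{ld} / f^l`, a section of `O` over `D₊(f)`. -/
noncomputable def oMk (l : ℕ) : A →+ GrTwist.O (𝒜 := 𝒜) (op (ProjectiveSpectrum.basicOpen 𝒜 f)) where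
  toFun x := fracSectO 𝒜 (ProjectiveSpectrum.basicOpen 𝒜 f) (decompose 𝒜 x (l * d))
    ⟨f ^ l, pow_mem 𝒜 hf l⟩ (pow_notMem 𝒜 _)
  map_zero' := by
    refine O_ext' 𝒜 _ _ fun y => ?_
    rw [fracSectO_val, decompose_zero, DirectSum.zero_apply, ZeroMemClass.coe_zero,
      Localization.mk_zero]
    change (0 : GrTwist.Loc 𝒜 y.1) = (0 : HomogeneousLocalization.AtPrime 𝒜 _).val
    rw [HomogeneousLocalization.val_zero]
  map_add' x z := by
    refine O_ext' 𝒜 _ _ fun y => ?_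
    rw [fracSectO_val]
    change _ = ((fracSectO 𝒜 _ _ _ _).1 y + (fracSectO 𝒜 _ _ _ _).1 y).val
    rw [HomogeneousLocalization.val_add, fracSectO_val, fracSectO_val, decompose_add,
      DirectSum.add_apply, AddMemClass.coe_add, Localization.add_mk_self]

theorem oMk_val (l : ℕ) (x : A) (y : ProjectiveSpectrum.basicOpen 𝒜 f) :
    ((oMk 𝒜 hf l x).1 y).val =
      Localization.mk (decompose 𝒜 x (l * d) : A) ⟨f ^ l, pow_notMem 𝒜 _ y⟩ := rfl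

include hd in
theorem oMk_surjective (c : GrTwist.O (𝒜 := 𝒜) (op (ProjectiveSpectrum.basicOpen 𝒜 f))) :
    ∃ (l : ℕ) (x : A), oMk 𝒜 hf l x = c := by
  obtain ⟨k, a, ha, hc⟩ := Groth.Agent.Lib.helper28.GProjSec.O_eq_fraction 𝒜 hd hf
    (show Γ(Proj 𝒜, Proj.basicOpen 𝒜 f) from c)
  refine ⟨k, a, O_ext' 𝒜 _ _ fun y => ?_⟩
  rw [oMk_val, decompose_of_mem_same 𝒜 ha]
  exact (hc y).symm

theorem oMk_zero_mul (l : ℕ) {a : A} (ha : a ∈ 𝒜 0) (x : A) :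
    oMk 𝒜 hf l (a * x) = constO 𝒜 (ProjectiveSpectrum.basicOpen 𝒜 f) ⟨a, ha⟩ * oMk 𝒜 hf l x := by
  refine O_ext' 𝒜 _ _ fun y => ?_
  change _ = ((constO 𝒜 _ _).1 y * (oMk 𝒜 hf l x).1 y).val
  rw [HomogeneousLocalization.val_mul, oMk_val, oMk_val, constO_val,
    coe_decompose_mul_of_left_mem_zero 𝒜 ha, Localization.mk_mul, mk_eq_mk_iff']
  refine ⟨1, ?_⟩
  simp

end Gen

section Final

open Groth.Agent.Lib.helper8.PullbackUnit Groth.Agent.Lib.helper28.IsBCExtra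

variable {R R' A A' : Type u} [CommRing R] [CommRing R'] [CommRing A] [CommRing A']
  {σ τ : Type u} [SetLike σ A] [AddSubgroupClass σ A] [SetLike τ A'] [AddSubgroupClass τ A']
  (𝒜 : ℕ → σ) [GradedRing 𝒜] (𝒜' : ℕ → τ) [GradedRing 𝒜']
  (φ : R →+* R') (α : R →+* A) (β : R' →+* A') (ψ : 𝒜 →+*ᵍ 𝒜')
  (hα : ∀ r, α r ∈ 𝒜 0) (hβ : ∀ r', β r' ∈ 𝒜' 0)
  (hψ : 𝒜'₊ ≤ 𝒜₊.map ψ)
  {d : ℕ} (hd : 0 < d) {f : A} (hf : f ∈ 𝒜 d) (n : ℤ)
  (hBC : SemiBC φ α β (ψ : A →+* A').toAddMonoidHom)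

theorem kap_oMk (l : ℕ) (x : A) :
    kap 𝒜 𝒜' ψ hψ (f := f) (oMk 𝒜 hf l x) = oMk 𝒜' (ψ.map_mem hf) l (ψ x) := by
  refine O_ext' 𝒜' _ _ fun y => ?_
  rw [kap_val, oMk_val, oMk_val, GrTwist.locMap_mk, mk_eq_mk_iff']
  refine ⟨1, ?_⟩
  simp only [OneMemClass.coe_one, one_mul, map_pow, GradedRingHom.map_directSumDecompose]
  rfl

include hd hf hBC in
theorem closure_eq_top :
    Subring.closure (Set.range (strO 𝒜' β hβ (f := ψ f)) ∪
      Set.range (kap 𝒜 𝒜' ψ hψ (f := f))) = ⊤ := by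
  rw [eq_top_iff]
  rintro c -
  have hf' : ψ f ∈ 𝒜' d := ψ.map_mem hf
  obtain ⟨l, x', rfl⟩ := oMk_surjective 𝒜' hd hf' c
  letI := Module.compHom A' β
  have hx' : x' ∈ Submodule.span R' (Set.range ψ) := by
    rw [span_range_eq_top 𝒜 𝒜' φ α β ψ hBC]
    trivial
  induction hx' using Submodule.span_induction with
  | mem y hy =>
    obtain ⟨x, rfl⟩ := hy
    rw [← kap_oMk 𝒜 𝒜' ψ hψ hf l x]
    exact Subring.subset_closure (Or.inr ⟨_, rfl⟩)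
  | zero => rw [map_zero]; exact Subring.zero_mem _
  | add a b _ _ ha hb => rw [map_add]; exact Subring.add_mem _ ha hb
  | smul r' a _ ha =>
    change oMk 𝒜' hf' l (β r' * a) ∈ _
    rw [oMk_zero_mul 𝒜' hf' l (hβ r')]
    exact Subring.mul_mem _ (Subring.subset_closure (Or.inl ⟨r', rfl⟩)) ha

include hα hβ hBC hd hf in
/-- **`Γ(D₊(f), O(n))` commutes with base change**: the comparison map is a base change along
`Γ(D₊(f), O) → Γ(D₊(ψ f), O')`. -/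
theorem isBC_Kap (hw : (ψ : A →+* A').comp α = β.comp φ) :
    IsBC (kap 𝒜 𝒜' ψ hψ (f := f)) (Kap 𝒜 𝒜' ψ hψ n (f := f)) :=
  IsBC.upgrade (α := strO 𝒜 α hα (f := f)) (β := strO 𝒜' β hβ (f := ψ f))
    (kap_comp_strO 𝒜 𝒜' φ α β ψ hα hβ hψ hw)
    (closure_eq_top 𝒜 𝒜' φ α β ψ hβ hψ hd hf hBC)
    (fun b s => GrTwist.comapApp_smul ψ hψ n _ _ (basicOpen_subset 𝒜 𝒜' ψ hψ) b s)
    (isBC_base 𝒜 𝒜' φ α β ψ hα hβ hψ hd hf n hBC hw)

include hα hβ hd hf in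
/-- Version over opens equal to the basic opens, from a pushout square of rings. -/
theorem isBC_comapApp
    (hpo : IsPushout (CommRingCat.ofHom φ) (CommRingCat.ofHom α) (CommRingCat.ofHom β)
      (CommRingCat.ofHom (ψ : A →+* A')))
    (U₁ : Opens (ProjectiveSpectrum.top 𝒜)) (V₁ : Opens (ProjectiveSpectrum.top 𝒜'))
    (hU₁ : U₁ = ProjectiveSpectrum.basicOpen 𝒜 f)
    (hV₁ : V₁ = ProjectiveSpectrum.basicOpen 𝒜' (ψ f))
    (hUV : V₁.1 ⊆ ProjectiveSpectrum.comap ψ hψ ⁻¹' U₁.1) :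
    IsBC (Proj.comapStructureSheaf ψ hψ U₁ V₁ hUV) (GrTwist.comapApp ψ hψ n U₁ V₁ hUV) := by
  subst hU₁ hV₁
  have hw : (ψ : A →+* A').comp α = β.comp φ := by
    have := hpo.w
    exact congr($(this).hom).symm
  exact isBC_Kap 𝒜 𝒜' φ α β ψ hα hβ hψ hd hf n (semiBC_of_isPushout φ α β _ hpo) hw

end Final


end Groth.Agent.Lib.helper28.TwistBaseChange
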