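import Groth.Agent.Lib.Helper28.RelTwistPull2
import Groth.Agent.Lib.Helper28.TwistBaseChange

/-!
# `h^* O_{Proj 𝒮}(n) ≅ O_{Proj 𝒮'}(n)` when `𝒮' = ψ^* 𝒮` (helper28)

Two-base version of `RelTwistPull`, without generation in degree one: `ψ : Y' ⟶ Y`,
`Φ : PairHom ψ 𝒮 𝒮'` whose squares with the structure maps are pushouts, `h : Proj 𝒮' ⟶ Proj 𝒮`
the glued morphism.  Then `h^* O(n) ≅ O'(n)` for every integer `n`.
-/

set_option autoImplicit false
set_option linter.style.haveILetI false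
universe u
open CategoryTheory CategoryTheory.Limits AlgebraicGeometry TopologicalSpace Opposite
open Scheme.Modules
open scoped HomogeneousIdeal

namespace Groth.Agent.Lib.helper28.RelTwistPull3

open Groth.Agent.Lib.helper28.RelTwistChart Groth.Agent.Lib.helper2
  Groth.Agent.Lib.helper28.RelTwistMap Groth.Agent.Lib.helper28.RelTwistMap2
  Groth.Agent.Lib.helper8.PullbackUnit
  Groth.Agent.Lib.helper28.RelProjPair Groth.Agent.Lib.helper28.RelSpecMap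
  Groth.Agent.Lib.helper28.RelTwistPull Groth.Agent.Lib.helper28.IsBCExtra

variable {Y Y' P P' : Scheme.{u}} {ψ : Y' ⟶ Y} {𝒮 : RelProj.QCGrAlg Y} {𝒮' : RelProj.QCGrAlg Y'}

/-- The family on affine pairs of a morphism of presheaves `u : 𝒮 ⟶ ψ_* 𝒮'` which is graded on
affine pairs. -/
def pairHomOfPresheafHom (u : 𝒮.presheaf ⟶ ψ.base _* 𝒮'.presheaf)
    (φ : ∀ (U : Y.Opens) (hU : IsAffineOpen U) (U' : Y'.Opens) (hU' : IsAffineOpen U')
      (_ : U' ≤ ψ ⁻¹ᵁ U), 𝒮.deg U hU →+*ᵍ 𝒮'.deg U' hU')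
    (hφ : ∀ (U : Y.Opens) (hU : IsAffineOpen U) (U' : Y'.Opens) (hU' : IsAffineOpen U')
      (hle : U' ≤ ψ ⁻¹ᵁ U),
      (φ U hU U' hU' hle).toRingHom =
        ((u.app (op U) : 𝒮.presheaf.obj (op U) ⟶ 𝒮'.presheaf.obj (op (ψ ⁻¹ᵁ U))) ≫
          𝒮'.presheaf.map (homOfLE hle).op).hom) : PairHom ψ 𝒮 𝒮' where
  φ := φ
  res_right U hU U' hU' hle V' hV' i := by
    apply GradedRingHom.ext
    intro x
    have h1 : φ U hU U' hU' hle x = _ := congrArg (fun k => k x) (hφ U hU U' hU' hle)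
    have h2 : φ U hU V' hV' (i.trans hle) x = _ :=
      congrArg (fun k => k x) (hφ U hU V' hV' (i.trans hle))
    change (𝒮'.presheaf.map (homOfLE i).op).hom (φ U hU U' hU' hle x) = φ U hU V' hV' _ x
    rw [h1, h2]
    change (((u.app (op U) : 𝒮.presheaf.obj (op U) ⟶ 𝒮'.presheaf.obj (op (ψ ⁻¹ᵁ U))) ≫
      𝒮'.presheaf.map (homOfLE hle).op) ≫ 𝒮'.presheaf.map (homOfLE i).op).hom x = _
    rw [Category.assoc, ← Functor.map_comp]
    rfl
  res_left U hU V hV i U' hU' hle := by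
    apply GradedRingHom.ext
    intro x
    have h1 : φ V hV U' hU' hle ((𝒮.presheaf.map (homOfLE i).op).hom x) = _ :=
      congrArg (fun k => k ((𝒮.presheaf.map (homOfLE i).op).hom x)) (hφ V hV U' hU' hle)
    have h2 : φ U hU U' hU' (hle.trans (ψ.preimage_mono i)) x = _ :=
      congrArg (fun k => k x) (hφ U hU U' hU' (hle.trans (ψ.preimage_mono i)))
    change φ V hV U' hU' hle ((𝒮.presheaf.map (homOfLE i).op).hom x) = φ U hU U' hU' _ x
    rw [h1, h2]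
    have nat := u.naturality (homOfLE i).op
    change (𝒮.presheaf.map (homOfLE i).op ≫
      (u.app (op V) : 𝒮.presheaf.obj (op V) ⟶ 𝒮'.presheaf.obj (op (ψ ⁻¹ᵁ V))) ≫
      𝒮'.presheaf.map (homOfLE hle).op).hom x = _
    rw [← Category.assoc]
    erw [nat]
    change (((u.app (op U) : 𝒮.presheaf.obj (op U) ⟶ 𝒮'.presheaf.obj (op (ψ ⁻¹ᵁ U))) ≫
      𝒮'.presheaf.map (homOfLE (ψ.preimage_mono i)).op) ≫
        𝒮'.presheaf.map (homOfLE hle).op).hom x = _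
    rw [Category.assoc, ← Functor.map_comp]
    rfl

variable {Φ : PairHom ψ 𝒮 𝒮'}
  {hirr : ∀ (U : Y.Opens) (hU : IsAffineOpen U) (U' : Y'.Opens) (hU' : IsAffineOpen U')
    (hle : U' ≤ ψ ⁻¹ᵁ U), (𝒮'.deg U' hU')₊ ≤ ((𝒮.deg U hU)₊).map (Φ.φ U hU U' hU' hle)}
  {p : P ⟶ Y} {p' : P' ⟶ Y'}
  {chart : ∀ (U : Y.Opens) (hU : IsAffineOpen U),
    (((p ⁻¹ᵁ U : P.Opens) : Scheme.{u}) ≅ Proj (𝒮.deg U hU))}
  {chart' : ∀ (U' : Y'.Opens) (hU' : IsAffineOpen U'),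
    (((p' ⁻¹ᵁ U' : P'.Opens) : Scheme.{u}) ≅ Proj (𝒮'.deg U' hU'))}
  {h : P' ⟶ P}

variable (Φ p' chart') in
/-- The opens `emb_{U'}(D₊(φ f))` of `Proj 𝒮'`, `f` homogeneous of positive degree. -/
def coverSet : Set P'.Opens :=
  {V | ∃ (U : Y.Opens) (hU : IsAffineOpen U) (U' : Y'.Opens) (hU' : IsAffineOpen U')
      (hle : U' ≤ ψ ⁻¹ᵁ U) (d : ℕ) (f : 𝒮.presheaf.obj (op U)),
      0 < d ∧ f ∈ 𝒮.deg U hU d ∧
      V = (RelProj.emb p' chart' U' hU') ''ᵁ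
        (Proj.basicOpen (𝒮'.deg U' hU') (Φ.φ U hU U' hU' hle f))}

include hirr in
theorem covers_coverSet (x : P') : ∃ V ∈ coverSet Φ p' chart', x ∈ V := by
  obtain ⟨Q, hxQ⟩ := Opens.mem_iSup.mp
    (le_iSup_inf_pair (ψ := ψ) (p' := p') (⊤ : P'.Opens) (Opens.mem_top x))
  have hxr : x ∈ Set.range (RelProj.emb p' chart' Q.U' Q.hU') := by
    rw [range_emb]
    exact hxQ.2
  obtain ⟨z, rfl⟩ := hxr
  obtain ⟨d, hd, f, hf, hz⟩ :=
    Groth.Agent.Lib.helper28.ProjBaseChange.covers_of_irrelevant_le (𝒮.deg Q.U Q.hU)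
      (𝒮'.deg Q.U' Q.hU') (Φ.φ Q.U Q.hU Q.U' Q.hU' Q.hle) (hirr Q.U Q.hU Q.U' Q.hU' Q.hle) z
  exact ⟨_, ⟨Q.U, Q.hU, Q.U', Q.hU', Q.hle, d, f, hd, hf, rfl⟩, ⟨z, hz, rfl⟩⟩

section Main

variable {n : ℤ} {L : P.Modules} {L' : P'.Modules}
  (hirr)
  (lam : ∀ (U : Y.Opens) (hU : IsAffineOpen U),
    L ⟶ (Scheme.Modules.pushforward (RelProj.emb p chart U hU)).obj
      (GrTwist.twist (𝒮.deg U hU) n))
  (lam' : ∀ (U' : Y'.Opens) (hU' : IsAffineOpen U'),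
    L' ⟶ (Scheme.Modules.pushforward (RelProj.emb p' chart' U' hU')).obj
      (GrTwist.twist (𝒮'.deg U' hU') n))

open Groth.Agent.Lib.helper28.GTwistFree Groth.Agent.Lib.helper28.LocalGen
  Groth.Agent.Lib.helper28.RelTwistTensor Groth.Agent.Lib.helper28.RelTwistFree
  Groth.Agent.Lib.helper28.TwistBaseChange Groth.Agent.Lib.helper28.GProjSec in
theorem isBC_theta
    (hpo : ∀ (U : Y.Opens) (hU : IsAffineOpen U) (U' : Y'.Opens) (hU' : IsAffineOpen U')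
      (hle : U' ≤ ψ ⁻¹ᵁ U),
      IsPushout (ψ.appLE U U' hle) (𝒮.str.app (op U)) (𝒮'.str.app (op U'))
        (CommRingCat.ofHom (Φ.φ U hU U' hU' hle).toRingHom))
    (hL : RelProj.IsRelTwist 𝒮 p chart n L lam)
    (hL' : RelProj.IsRelTwist 𝒮' p' chart' n L' lam')
    (hh : IsPairMap hirr p p' chart chart' h)
    (θ : L ⟶ (Scheme.Modules.pushforward h).obj L')
    (hθ : ∀ (W : P.Opens) (s : Γ(L, W)), IsImg hirr h lam lam' W s (θ.app W s))
    (U : Y.Opens) (hU : IsAffineOpen U) (U' : Y'.Opens) (hU' : IsAffineOpen U')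
    (hle : U' ≤ ψ ⁻¹ᵁ U) (d : ℕ) (f : 𝒮.presheaf.obj (op U)) (hd : 0 < d)
    (hf : f ∈ 𝒮.deg U hU d) :
    IsAffineOpen ((RelProj.emb p' chart' U' hU') ''ᵁ
        (Proj.basicOpen (𝒮'.deg U' hU') (Φ.φ U hU U' hU' hle f))) ∧
      ∃ (V₀ : P.Opens) (_ : IsAffineOpen V₀)
        (e : (RelProj.emb p' chart' U' hU') ''ᵁ
          (Proj.basicOpen (𝒮'.deg U' hU') (Φ.φ U hU U' hU' hle f)) ≤ h ⁻¹ᵁ V₀),
        IsBC (h.appLE V₀ _ e).hom (ρv h e θ) := by
  let φ := Φ.φ U hU U' hU' hle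
  have hF' : φ f ∈ 𝒮'.deg U' hU' d := φ.map_mem hf
  let V : P'.Opens := (RelProj.emb p' chart' U' hU') ''ᵁ (Proj.basicOpen (𝒮'.deg U' hU') (φ f))
  let V₀ : P.Opens := (RelProj.emb p chart U hU) ''ᵁ (Proj.basicOpen (𝒮.deg U hU) f)
  have hVU : V ≤ p' ⁻¹ᵁ U' := image_emb_le p' chart' U' hU' _
  have hV₀U : V₀ ≤ p ⁻¹ᵁ U := image_emb_le p chart U hU _
  have hVB : (RelProj.emb p' chart' U' hU' ⁻¹ᵁ V : (Proj (𝒮'.deg U' hU')).Opens) =
      ProjectiveSpectrum.basicOpen (𝒮'.deg U' hU') (φ f) :=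
    (RelProj.emb p' chart' U' hU').preimage_image_eq _
  have hVA : (RelProj.emb p chart U hU ⁻¹ᵁ V₀ : (Proj (𝒮.deg U hU)).Opens) =
      ProjectiveSpectrum.basicOpen (𝒮.deg U hU) f :=
    (RelProj.emb p chart U hU).preimage_image_eq _
  have hVaff : IsAffineOpen V :=
    (Proj.isAffineOpen_basicOpen (𝒮'.deg U' hU') (φ f) hF' hd).image_of_isOpenImmersion _
  have hV₀aff : IsAffineOpen V₀ :=
    (Proj.isAffineOpen_basicOpen (𝒮.deg U hU) f hf hd).image_of_isOpenImmersion _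
  have e : V ≤ h ⁻¹ᵁ V₀ := by
    rintro _ ⟨z, hz, rfl⟩
    change h.base ((RelProj.emb p' chart' U' hU').base z) ∈ V₀
    rw [h_emb hh U hU U' hU' hle z]
    exact ⟨ProjectiveSpectrum.comap φ (hirr U hU U' hU' hle) z, hz, rfl⟩
  refine ⟨hVaff, V₀, hV₀aff, e, ?_⟩
  have hUV : (RelProj.emb p' chart' U' hU' ⁻¹ᵁ V : (Proj (𝒮'.deg U' hU')).Opens).1 ⊆
      ProjectiveSpectrum.comap φ (hirr U hU U' hU' hle) ⁻¹'
        (RelProj.emb p chart U hU ⁻¹ᵁ V₀ : (Proj (𝒮.deg U hU)).Opens).1 := by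
    intro y hy
    change (RelProj.emb p chart U hU).base
      (ProjectiveSpectrum.comap φ (hirr U hU U' hU' hle) y) ∈ V₀
    rw [← h_emb hh U hU U' hU' hle y]
    exact e hy
  have key := isBC_comapApp (𝒮.deg U hU) (𝒮'.deg U' hU') (ψ.appLE U U' hle).hom
    (𝒮.str.app (op U)).hom (𝒮'.str.app (op U')).hom φ (𝒮.str_mem U hU) (𝒮'.str_mem U' hU')
    (hirr U hU U' hU' hle) hd hf n (hpo U hU U' hU' hle)
    (RelProj.emb p chart U hU ⁻¹ᵁ V₀) (RelProj.emb p' chart' U' hU' ⁻¹ᵁ V) hVA hVB hUV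
  have hbij : Function.Bijective ((RelProj.emb p chart U hU).app V₀).hom :=
    ConcreteCategory.bijective_of_isIso ((RelProj.emb p chart U hU).app V₀)
  have hbij' : Function.Bijective ((RelProj.emb p' chart' U' hU').app V).hom :=
    ConcreteCategory.bijective_of_isIso ((RelProj.emb p' chart' U' hU').app V)
  let ε : Γ(P, V₀) ≃+* GrTwist.O (𝒜 := 𝒮.deg U hU) (op (RelProj.emb p chart U hU ⁻¹ᵁ V₀)) :=
    RingEquiv.ofBijective ((RelProj.emb p chart U hU).app V₀).hom hbij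
  let ε' : Γ(P', V) ≃+*
      GrTwist.O (𝒜 := 𝒮'.deg U' hU') (op (RelProj.emb p' chart' U' hU' ⁻¹ᵁ V)) :=
    RingEquiv.ofBijective ((RelProj.emb p' chart' U' hU').app V).hom hbij'
  let eN : Γ(L, V₀) ≃+
      GrTwist.sectN (𝒜 := 𝒮.deg U hU) n (op (RelProj.emb p chart U hU ⁻¹ᵁ V₀)) :=
    AddEquiv.ofBijective ((lam U hU).app V₀).hom (hL.bijective U hU V₀ hV₀U)
  let eP : Γ(L', V) ≃+
      GrTwist.sectN (𝒜 := 𝒮'.deg U' hU') n (op (RelProj.emb p' chart' U' hU' ⁻¹ᵁ V)) :=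
    AddEquiv.ofBijective ((lam' U' hU').app V).hom (hL'.bijective U' hU' V hVU)
  refine IsBC.of_semilinearEquiv key (h.appLE V₀ V e).hom (ρv h e θ) ε ε' ?_ eN ?_ eP ?_ ?_
  · intro r
    refine O_ext' (𝒮'.deg U' hU') _ _ fun y => ?_
    have hy : (RelProj.emb p' chart' U' hU').base y.1 ∈ h ⁻¹ᵁ V₀ := e y.2
    have hy' : (RelProj.emb p chart U hU).base
        (ProjectiveSpectrum.comap φ (hirr U hU U' hU' hle) y.1) ∈ V₀ := hUV y.2
    have h1 := val_h_app hirr hh U hU U' hU' hle V₀ r y.1 hy hy'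
    rw [GrTwist.comapStructureSheaf_apply, HomogeneousLocalization.val_localRingHom]
    refine Eq.trans ?_ h1
    have nat := Scheme.Hom.naturality (RelProj.emb p' chart' U' hU') (homOfLE e).op
    have h2 := congr($nat ((h.app V₀).hom r))
    change ((toO (𝒮'.deg U' hU') (((RelProj.emb p' chart' U' hU').app V).hom
      ((P'.presheaf.map (homOfLE e).op).hom ((h.app V₀).hom r)))).1 y).val = _
    erw [h2]
    rfl
  · intro r x
    change (lam U hU).app V₀ (r • x) =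
      ((((RelProj.emb p chart U hU).app V₀).hom r •
        (show Γ(GrTwist.twist (𝒮.deg U hU) n, RelProj.emb p chart U hU ⁻¹ᵁ V₀) from
          (lam U hU).app V₀ x)) :
        Γ(GrTwist.twist (𝒮.deg U hU) n, RelProj.emb p chart U hU ⁻¹ᵁ V₀))
    rw [Scheme.Modules.Hom.app_smul, smul_pushforward]
  · intro r x
    change (lam' U' hU').app V (r • x) =
      ((((RelProj.emb p' chart' U' hU').app V).hom r •
        (show Γ(GrTwist.twist (𝒮'.deg U' hU') n, RelProj.emb p' chart' U' hU' ⁻¹ᵁ V) from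
          (lam' U' hU').app V x)) :
        Γ(GrTwist.twist (𝒮'.deg U' hU') n, RelProj.emb p' chart' U' hU' ⁻¹ᵁ V))
    rw [Scheme.Modules.Hom.app_smul, smul_pushforward]
  · intro x
    refine sectN_ext' (𝒮'.deg U' hU') _ _ fun y => ?_
    have hy' : (RelProj.emb p chart U hU).base
        (ProjectiveSpectrum.comap φ (hirr U hU U' hU' hle) y.1) ∈ V₀ := hUV y.2
    have h1 := hθ V₀ x U hU U' hU' hle y.1 (e y.2) hy'
    refine Eq.trans ?_ (Eq.trans h1 ?_)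
    · change GrTwist.val (V := RelProj.emb p' chart' U' hU' ⁻¹ᵁ V)
        ((lam' U' hU').app V (ρv h e θ x)) y = _
      rw [ρv_apply, ← ModSec.map_app_apply (lam' U' hU') (homOfLE e) (θ.app V₀ x)]
      rfl
    · exact (GrTwist.comapApp_apply_coe φ (hirr U hU U' hU' hle) n _ _ hUV (eN x) y).symm

open Groth.Agent.Lib.helper28.RelTwistFree in
/-- `h^* O_{Proj 𝒮}(n) ≅ O_{Proj 𝒮'}(n)` over a change of base, when `𝒮' = ψ^* 𝒮` (pushout squares
over affine pairs). -/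
theorem nonempty_pullback_iso
    (hpo : ∀ (U : Y.Opens) (hU : IsAffineOpen U) (U' : Y'.Opens) (hU' : IsAffineOpen U')
      (hle : U' ≤ ψ ⁻¹ᵁ U),
      IsPushout (ψ.appLE U U' hle) (𝒮.str.app (op U)) (𝒮'.str.app (op U'))
        (CommRingCat.ofHom (Φ.φ U hU U' hU' hle).toRingHom))
    (hP : RelProj.IsRelProj 𝒮 p chart) (hP' : RelProj.IsRelProj 𝒮' p' chart')
    (hL : RelProj.IsRelTwist 𝒮 p chart n L lam)
    (hL' : RelProj.IsRelTwist 𝒮' p' chart' n L' lam')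
    (hh : IsPairMap hirr p p' chart chart' h) :
    Nonempty ((Scheme.Modules.pullback h).obj L ≅ L') := by
  obtain ⟨θ, hθ, -⟩ := existsUnique_theta hirr lam lam' hP hP' hL hL' hh
  haveI := isQuasicoherent lam hL
  haveI := isQuasicoherent lam' hL'
  haveI := isIso_homEquiv_symm_of_isBC_cover h θ (coverSet Φ p' chart')
    (covers_coverSet (hirr := hirr)) (by
      rintro _ ⟨U, hU, U', hU', hle, d, f, hd, hf, rfl⟩
      exact isBC_theta hirr lam lam' hpo hL hL' hh θ hθ U hU U' hU' hle d f hd hf)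
  exact ⟨asIso (((pullbackPushforwardAdjunction h).homEquiv L L').symm θ)⟩

end Main

end Groth.Agent.Lib.helper28.RelTwistPull3
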