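import Mathlib

/-!
# Affine opens of a fibre product and their rings of functions (helper28)

* `mem_closure_of_isPushout`: a pushout of commutative rings is generated by the two images.
* `isAffineOpen_inf_of_isPullback`, `mem_closure_of_isPullback`: for a cartesian square
  `T = P₁ ×_Q P₂` and affine opens `A_i ⊆ P_i` lying over an affine open `U ⊆ Q`, the open
  `π₁⁻¹ A₁ ⊓ π₂⁻¹ A₂` is affine and its ring of functions is generated by the images of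
  `O(A₁)` and `O(A₂)`.
-/

set_option autoImplicit false
universe u
open CategoryTheory CategoryTheory.Limits AlgebraicGeometry TopologicalSpace Opposite

namespace Groth.Agent.Lib.helper28.Segre2

theorem mem_closure_of_isPushout {A B C P : CommRingCat.{u}} {f : A ⟶ B} {g : A ⟶ C}
    {inl : B ⟶ P} {inr : C ⟶ P} (h : IsPushout f g inl inr) (x : P) :
    x ∈ Subring.closure (Set.range inl.hom ∪ Set.range inr.hom) := by
  set S : Subring P := Subring.closure (Set.range inl.hom ∪ Set.range inr.hom) with hS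
  let b₁ : B ⟶ CommRingCat.of S := CommRingCat.ofHom
    (inl.hom.codRestrict S (fun b => Subring.subset_closure (Or.inl ⟨b, rfl⟩)))
  let b₂ : C ⟶ CommRingCat.of S := CommRingCat.ofHom
    (inr.hom.codRestrict S (fun c => Subring.subset_closure (Or.inr ⟨c, rfl⟩)))
  let ι : CommRingCat.of S ⟶ P := CommRingCat.ofHom S.subtype
  have hw : f ≫ b₁ = g ≫ b₂ := by
    ext a
    exact congrArg (fun k => k.hom a) h.w
  have h1 : b₁ ≫ ι = inl := by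
    ext b
    rfl
  have h2 : b₂ ≫ ι = inr := by
    ext c
    rfl
  have hid : h.desc b₁ b₂ hw ≫ ι = 𝟙 P := by
    apply h.hom_ext
    · rw [← Category.assoc, h.inl_desc, h1, Category.comp_id]
    · rw [← Category.assoc, h.inr_desc, h2, Category.comp_id]
  have hx : x = ι.hom ((h.desc b₁ b₂ hw).hom x) := by
    have := congrArg (fun k => k.hom x) hid
    exact this.symm
  rw [hx]
  exact ((h.desc b₁ b₂ hw).hom x).2

variable {T P₁ P₂ Q : Scheme.{u}} {π₁ : T ⟶ P₁} {π₂ : T ⟶ P₂} {p₁ : P₁ ⟶ Q} {p₂ : P₂ ⟶ Q}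

theorem isPullback_resLE_inf (H : IsPullback π₁ π₂ p₁ p₂) {U : Q.Opens} {A₁ : P₁.Opens}
    {A₂ : P₂.Opens} (h₁ : A₁ ≤ p₁ ⁻¹ᵁ U) (h₂ : A₂ ≤ p₂ ⁻¹ᵁ U) :
    IsPullback (π₁.resLE A₁ (π₁ ⁻¹ᵁ A₁ ⊓ π₂ ⁻¹ᵁ A₂) inf_le_left)
      (π₂.resLE A₂ (π₁ ⁻¹ᵁ A₁ ⊓ π₂ ⁻¹ᵁ A₂) inf_le_right)
      (p₁.resLE U A₁ h₁) (p₂.resLE U A₂ h₂) :=
  Scheme.Hom.isPullback_resLE H h₂ h₁ rfl

theorem isAffineOpen_inf_of_isPullback (H : IsPullback π₁ π₂ p₁ p₂) {U : Q.Opens}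
    {A₁ : P₁.Opens} {A₂ : P₂.Opens} (hU : IsAffineOpen U) (hA₁ : IsAffineOpen A₁)
    (hA₂ : IsAffineOpen A₂) (h₁ : A₁ ≤ p₁ ⁻¹ᵁ U) (h₂ : A₂ ≤ p₂ ⁻¹ᵁ U) :
    IsAffineOpen (π₁ ⁻¹ᵁ A₁ ⊓ π₂ ⁻¹ᵁ A₂) := by
  have : IsAffine (↑A₁ : Scheme.{u}) := hA₁
  have : IsAffine (↑A₂ : Scheme.{u}) := hA₂
  have : IsAffine (↑U : Scheme.{u}) := hU
  exact IsAffine.of_isPullback (isPullback_resLE_inf H h₁ h₂)

theorem mem_closure_of_isPullback' (H : IsPullback π₁ π₂ p₁ p₂) {U : Q.Opens}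
    {A₁ : P₁.Opens} {A₂ : P₂.Opens} (hU : IsAffineOpen U) (hA₁ : IsAffineOpen A₁)
    (hA₂ : IsAffineOpen A₂) (h₁ : A₁ ≤ p₁ ⁻¹ᵁ U) (h₂ : A₂ ≤ p₂ ⁻¹ᵁ U)
    (W : T.Opens) (hW : W = π₁ ⁻¹ᵁ A₁ ⊓ π₂ ⁻¹ᵁ A₂) (hW₁ : W ≤ π₁ ⁻¹ᵁ A₁) (hW₂ : W ≤ π₂ ⁻¹ᵁ A₂)
    (t : Γ(T, W)) :
    t ∈ Subring.closure
      (Set.range (π₁.appLE A₁ W hW₁).hom ∪ Set.range (π₂.appLE A₂ W hW₂).hom) := by
  have : IsAffine (↑A₁ : Scheme.{u}) := hA₁
  have : IsAffine (↑A₂ : Scheme.{u}) := hA₂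
  have : IsAffine (↑U : Scheme.{u}) := hU
  have Hres : IsPullback (π₁.resLE A₁ W hW₁) (π₂.resLE A₂ W hW₂)
      (p₁.resLE U A₁ h₁) (p₂.resLE U A₂ h₂) := Scheme.Hom.isPullback_resLE H h₂ h₁ hW
  have hpo := isPushout_appTop_of_isPullback Hres
  have key : ∀ x : Γ((↑W : Scheme.{u}), ⊤),
      x ∈ Subring.closure (Set.range (π₁.resLE A₁ W hW₁).appTop.hom ∪
        Set.range (π₂.resLE A₂ W hW₂).appTop.hom) →
      W.topIso.hom.hom x ∈ Subring.closure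
        (Set.range (π₁.appLE A₁ W hW₁).hom ∪ Set.range (π₂.appLE A₂ W hW₂).hom) := by
    intro x hx
    induction hx using Subring.closure_induction with
    | mem y hy =>
      rcases hy with ⟨b, rfl⟩ | ⟨b, rfl⟩
      · refine Subring.subset_closure (Or.inl ⟨A₁.topIso.hom.hom b, ?_⟩)
        have h := congrArg (fun k => (k ≫ W.topIso.hom).hom b)
          (Scheme.Hom.resLE_app_top π₁ (U := A₁) (V := W) hW₁)
        simp only [Category.assoc, Iso.inv_hom_id, Category.comp_id] at h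
        exact h.symm
      · refine Subring.subset_closure (Or.inr ⟨A₂.topIso.hom.hom b, ?_⟩)
        have h := congrArg (fun k => (k ≫ W.topIso.hom).hom b)
          (Scheme.Hom.resLE_app_top π₂ (U := A₂) (V := W) hW₂)
        simp only [Category.assoc, Iso.inv_hom_id, Category.comp_id] at h
        exact h.symm
    | zero => rw [map_zero]; exact Subring.zero_mem _
    | one => rw [map_one]; exact Subring.one_mem _
    | add x y _ _ hx hy => rw [map_add]; exact Subring.add_mem _ hx hy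
    | neg x _ hx => rw [map_neg]; exact Subring.neg_mem _ hx
    | mul x y _ _ hx hy => rw [map_mul]; exact Subring.mul_mem _ hx hy
  have h2 := key (W.topIso.inv.hom t) (mem_closure_of_isPushout hpo _)
  have h3 : W.topIso.hom.hom (W.topIso.inv.hom t) = t := by
    have := congrArg (fun k => k.hom t) W.topIso.inv_hom_id
    exact this
  rw [h3] at h2
  exact h2

theorem mem_closure_of_isPullback (H : IsPullback π₁ π₂ p₁ p₂) {U : Q.Opens}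
    {A₁ : P₁.Opens} {A₂ : P₂.Opens} (hU : IsAffineOpen U) (hA₁ : IsAffineOpen A₁)
    (hA₂ : IsAffineOpen A₂) (h₁ : A₁ ≤ p₁ ⁻¹ᵁ U) (h₂ : A₂ ≤ p₂ ⁻¹ᵁ U)
    (t : Γ(T, π₁ ⁻¹ᵁ A₁ ⊓ π₂ ⁻¹ᵁ A₂)) :
    t ∈ Subring.closure
      (Set.range (π₁.appLE A₁ (π₁ ⁻¹ᵁ A₁ ⊓ π₂ ⁻¹ᵁ A₂) inf_le_left).hom ∪
       Set.range (π₂.appLE A₂ (π₁ ⁻¹ᵁ A₁ ⊓ π₂ ⁻¹ᵁ A₂) inf_le_right).hom) :=
  mem_closure_of_isPullback' H hU hA₁ hA₂ h₁ h₂ _ rfl inf_le_left inf_le_right t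

end Groth.Agent.Lib.helper28.Segre2
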