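import Groth.Agent.Lib.Helper28.Segre2Core
import Groth.Agent.Lib.Helper28.SegreMain

/-!
# The two-sided Segre construction in degree one: very ampleness (helper28)

`isRelVeryAmple_tensor_of_charts`: `q : X ⟶ Y`, `L`, `L'` invertible on `X`, `β : E ⟶ q_* L`,
`β' : E' ⟶ q_* L'` with `E`, `E'` quasi-coherent.  Suppose every point of `X` lies in an affine open
`D ⊓ D'` where, for sections `e`, `e'` of `E`, `E'` over an affine open `U` of `Y`, `D` (resp. `D'`)
is the locus where `β e` (resp. `β' e'`) generates, and the ring of functions of `D ⊓ D'` is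
generated by the ratios `β a / β e`, `β' a' / β' e'`.  Then `L ⊗ L'` is very ample relative to `q`
(Segre embedding done by hand).
-/

set_option autoImplicit false
set_option linter.style.haveILetI false
set_option linter.unusedSectionVars false
universe u
open CategoryTheory AlgebraicGeometry TopologicalSpace Opposite TensorProduct

namespace Groth.Agent.Lib.helper28.Segre2

open Groth.Agent.Lib.helper28 Groth.Agent.Lib.helper28.SegreCore
  Groth.Agent.Lib.helper28.EpiGen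

variable {X Y : Scheme.{u}} (q : X ⟶ Y) (L L' : X.Modules)

theorem H3_of_closure {𝒮L : RelProj.QCGrAlg X} {𝒮 : RelProj.QCGrAlg Y}
    (u : RelProj.QGrHom q 𝒮 𝒮L) (U : Y.Opens) (hU : IsAffineOpen U) (n : ℕ)
    (s : 𝒮.presheaf.obj (op U)) (hs : s ∈ 𝒮.deg U hU n) (O : X.Opens) (hle : O ≤ q ⁻¹ᵁ U)
    (T : Set Γ(X, O)) (hT : ∀ g ∈ T, RLpsiU.H3 u U hU n s O hle g) (t : Γ(X, O))
    (ht : t ∈ Subring.closure T) : RLpsiU.H3 u U hU n s O hle t := by
  induction ht using Subring.closure_induction with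
  | mem x hx => exact hT x hx
  | zero =>
    have := RLpsiU.H3.algebraMap (u := u) (O := O) (hle := hle) hs 0
    rwa [map_zero] at this
  | one =>
    have := RLpsiU.H3.algebraMap (u := u) (O := O) (hle := hle) hs 1
    rwa [map_one] at this
  | add x y _ _ hx hy => exact hx.add hs hy
  | neg x _ hx =>
    have h1 := RLpsiU.H3.algebraMap (u := u) (O := O) (hle := hle) hs (-1)
    rw [map_neg, map_one] at h1
    have := h1.mul hs hx
    rwa [neg_one_mul] at this
  | mul x y _ _ hx hy => exact hx.mul hs hy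

/-- **Two-sided Segre, degree one charts.** -/
theorem isRelVeryAmple_tensor_of_charts (hL : PicF.IsInvertible L) (hL' : PicF.IsInvertible L')
    (E E' : Y.Modules) [E.IsQuasicoherent] [E'.IsQuasicoherent]
    (β : E ⟶ (Scheme.Modules.pushforward q).obj L)
    (β' : E' ⟶ (Scheme.Modules.pushforward q).obj L')
    (hloc : ∀ x : X, ∃ (U : Y.Opens) (_ : IsAffineOpen U) (e : Γ(E, U)) (e' : Γ(E', U))
      (D D' : X.Opens) (hle : D ⊓ D' ≤ q ⁻¹ᵁ U),
      IsGenOn L (q ⁻¹ᵁ U) ((β.app U).hom e) D ∧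
      (∀ (V : X.Opens) (_ : IsAffineOpen V) (hV : V ≤ q ⁻¹ᵁ U),
        Function.Bijective (fun c : Γ(X, V) => c • bsec q β U e V hV) → V ≤ D) ∧
      IsGenOn L' (q ⁻¹ᵁ U) ((β'.app U).hom e') D' ∧
      (∀ (V : X.Opens) (_ : IsAffineOpen V) (hV : V ≤ q ⁻¹ᵁ U),
        Function.Bijective (fun c : Γ(X, V) => c • bsec q β' U e' V hV) → V ≤ D') ∧
      x ∈ D ⊓ D' ∧ IsAffineOpen (D ⊓ D') ∧
      ∀ t : Γ(X, D ⊓ D'), t ∈ Subring.closure
        ({g | ∃ a : Γ(E, U), g • bsec q β U e (D ⊓ D') hle = bsec q β U a (D ⊓ D') hle} ∪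
         {g | ∃ a' : Γ(E', U), g • bsec q β' U e' (D ⊓ D') hle = bsec q β' U a' (D ⊓ D') hle})) :
    RelProj.IsRelVeryAmple q (CohB1.tensorMod L L') := by
  have hLq : L.IsQuasicoherent :=
    Groth.Agent.Lib.helper12.AmpleBasis.isQuasicoherent_of_isInvertible hL
  have hL'q : L'.IsQuasicoherent :=
    Groth.Agent.Lib.helper12.AmpleBasis.isQuasicoherent_of_isInvertible hL'
  have hL'' : PicF.IsInvertible (CohB1.tensorMod L L') :=
    Groth.Agent.Lib.helper12.TensorInv.isInvertible_tensorMod hL hL'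
  have hL''q : (CohB1.tensorMod L L').IsQuasicoherent :=
    Groth.Agent.Lib.helper12.AmpleBasis.isQuasicoherent_of_isInvertible hL''
  have hE''q : (CohB1.tensorMod E E').IsQuasicoherent :=
    Groth.Agent.Lib.helper2.TensorQCoh.isQuasicoherent_tensorMod E E'
  obtain ⟨𝒮L'', jL'', hjL''⟩ := SymGradedExists.exists_isGrSymAlg (CohB1.tensorMod L L')
  obtain ⟨𝒮'', j'', hj''⟩ := SymGradedExists.exists_isGrSymAlg (CohB1.tensorMod E E')
  refine CompSeg.isRelVeryAmple_of_charts q (CohB1.tensorMod L L') hL'' 𝒮L'' jL'' hjL''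
    (CohB1.tensorMod E E') 𝒮'' j'' hj'' (uu2 q L L' 𝒮L'' jL'' hjL'' E E' 𝒮'' j'' hj'' β β')
    fun x => ?_
  obtain ⟨U, hU, e, e', D, D', hle, hD, hDmax, hD', hD'max, hx, haff, hgen⟩ := hloc x
  have heq := XT2_eq q L L' 𝒮L'' jL'' hjL'' E E' 𝒮'' j'' hj'' β β' hL hL' U hU e e' D D'
    hD hDmax hD' hD'max
  refine ⟨U, hU, 1, one_pos, s2 E E' 𝒮'' j'' U e e', s2_mem E E' 𝒮'' j'' hj'' U hU e e', ?_, ?_, ?_⟩
  · rw [heq]
    exact hx
  · rw [heq]
    exact haff
  · refine RLpsiU.H3.congr_open (hle := hle) heq.symm _ (fun t => ?_)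
    refine H3_of_closure q _ U hU 1 _ (s2_mem E E' 𝒮'' j'' hj'' U hU e e') _ hle _ ?_ t (hgen t)
    rintro g (⟨a, ha⟩ | ⟨a', ha'⟩)
    · exact H3_ratio_left q L L' 𝒮L'' jL'' hjL'' E E' 𝒮'' j'' hj'' β β' U hU e e' _ haff hle a g ha
    · exact H3_ratio_right q L L' 𝒮L'' jL'' hjL'' E E' 𝒮'' j'' hj'' β β' U hU e e' _ haff hle a' g
        ha'

end Groth.Agent.Lib.helper28.Segre2
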