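import Groth.Agent.Lib.Helper28.Segre2Factor
import Groth.Agent.Lib.Helper28.Segre2Fib
import Groth.Agent.Lib.Helper28.Segre2Main

/-!
# The Segre embedding of a fibre product of two projective bundles, by hand (helper28)

`isRelVeryAmple_boxTensor`: for projective bundles `p_i : P_i = P(E_i) ⟶ Q` with their `O(1)` and a
cartesian square `T = P₁ ×_Q P₂` with projections `π_i`, the module `π₁^* O(1) ⊗ π₂^* O(1)` is very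
ample relative to `T ⟶ Q`.
-/

set_option autoImplicit false
set_option linter.style.haveILetI false
set_option linter.unusedSectionVars false
universe u
open CategoryTheory CategoryTheory.Limits AlgebraicGeometry TopologicalSpace Opposite

namespace Groth.Agent.Lib.helper28.Segre2

open Groth.Agent.Lib.helper28 Groth.Agent.Lib.helper28.EpiGen
  Groth.Agent.Lib.helper28.ProjBundleHom Groth.Agent.Lib.helper28.RelTwistChart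
open HomogeneousLocalization

section One

variable {Y P : Scheme.{u}} (E : Y.Modules) [E.IsQuasicoherent]
  (𝒮 : RelProj.QCGrAlg Y) (j : E ⟶ 𝒮.toModule) (hj : RelProj.IsGrSymAlg E 𝒮 j) (p : P ⟶ Y)
  (chart : ∀ (U : Y.Opens) (hU : IsAffineOpen U),
    ((p ⁻¹ᵁ U : P.Opens) : Scheme.{u}) ≅ Proj (𝒮.deg U hU))

include hj in
theorem exists_mem_Wp (U : Y.Opens) (hU : IsAffineOpen U) (z : P) (hz : p z ∈ U) :
    ∃ e : Γ(E, U), z ∈ Wp E 𝒮 j p chart U hU e := by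
  have hr : z ∈ Set.range (RelProj.emb p chart U hU) := by
    rw [range_emb]
    exact hz
  obtain ⟨y, hy⟩ := hr
  obtain ⟨e, he⟩ := Groth.Agent.Lib.helper28.ProjBundleEpi.exists_notMem E 𝒮 j hj U hU y
  exact ⟨e, y, (ProjectiveSpectrum.mem_basicOpen _ _ _).mpr he, hy⟩

include hj in
theorem mem_closure_frac (U : Y.Opens) (hU : IsAffineOpen U) (e : Γ(E, U))
    (x : Away (𝒮.deg U hU) (jE E 𝒮 j U e)) :
    x ∈ Subring.closure (Set.range (frac E 𝒮 j hj U hU e)) := by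
  obtain ⟨n, y, hy, rfl⟩ := Away.mk_surjective (𝒮.deg U hU) (jE_mem E 𝒮 j hj U hU e) x
  have hy' : y ∈ 𝒮.deg U hU n := by
    rw [smul_eq_mul, mul_one] at hy
    exact hy
  obtain ⟨x₀, hx₀, rfl⟩ := (SymDegEq.mem_deg_iff E 𝒮 j hj U hU n y).mp hy'
  exact mk_mem_closure E 𝒮 j hj U hU e n x₀ hx₀ hy

include hj in
/-- `O(D₊(e))` is generated by the functions `a / e`. -/
theorem mem_closure_fn (U : Y.Opens) (hU : IsAffineOpen U) (e : Γ(E, U))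
    (b : Γ(P, Wp E 𝒮 j p chart U hU e)) :
    b ∈ Subring.closure (Set.range (fn E 𝒮 j hj p chart U hU e)) := by
  let Φ : CommRingCat.of (Away (𝒮.deg U hU) (jE E 𝒮 j U e)) ⟶ Γ(P, Wp E 𝒮 j p chart U hU e) :=
    Proj.awayToSection (𝒮.deg U hU) (jE E 𝒮 j U e) ≫
      ((RelProj.emb p chart U hU).appIso (Dp E 𝒮 j U hU e)).inv
  have hiso1 : IsIso (Proj.awayToSection (𝒮.deg U hU) (jE E 𝒮 j U e)) :=
    (Proj.basicOpenIsoAway (𝒮.deg U hU) (jE E 𝒮 j U e) (jE_mem E 𝒮 j hj U hU e)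
      one_pos).isIso_hom
  have hb1 : Function.Bijective (Proj.awayToSection (𝒮.deg U hU) (jE E 𝒮 j U e)).hom :=
    ConcreteCategory.bijective_of_isIso _
  have hb2 : Function.Bijective
      ((RelProj.emb p chart U hU).appIso (Dp E 𝒮 j U hU e)).inv.hom :=
    ConcreteCategory.bijective_of_isIso _
  have hΦ : Function.Bijective Φ.hom := hb2.comp hb1
  obtain ⟨x, rfl⟩ := hΦ.2 b
  have hx := mem_closure_frac E 𝒮 j hj U hU e x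
  induction hx using Subring.closure_induction with
  | mem y hy =>
    obtain ⟨a, rfl⟩ := hy
    exact Subring.subset_closure ⟨a, rfl⟩
  | zero => rw [map_zero]; exact Subring.zero_mem _
  | one => rw [map_one]; exact Subring.one_mem _
  | add x y _ _ hx hy => rw [map_add]; exact Subring.add_mem _ hx hy
  | neg x _ hx => rw [map_neg]; exact Subring.neg_mem _ hx
  | mul x y _ _ hx hy => rw [map_mul]; exact Subring.mul_mem _ hx hy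

end One

section Two

variable {Q P₁ P₂ T : Scheme.{u}}
  (E₁ : Q.Modules) [E₁.IsQuasicoherent]
  (𝒮₁ : RelProj.QCGrAlg Q) (j₁ : E₁ ⟶ 𝒮₁.toModule) (hj₁ : RelProj.IsGrSymAlg E₁ 𝒮₁ j₁)
  (p₁ : P₁ ⟶ Q)
  (chart₁ : ∀ (U : Q.Opens) (hU : IsAffineOpen U),
    ((p₁ ⁻¹ᵁ U : P₁.Opens) : Scheme.{u}) ≅ Proj (𝒮₁.deg U hU))
  (hP₁ : RelProj.IsRelProj 𝒮₁ p₁ chart₁) (O₁ : P₁.Modules)
  (lam₁ : ∀ (U : Q.Opens) (hU : IsAffineOpen U),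
    O₁ ⟶ (Scheme.Modules.pushforward (RelProj.emb p₁ chart₁ U hU)).obj
      (GrTwist.twist (𝒮₁.deg U hU) 1))
  (hO₁ : RelProj.IsRelTwist 𝒮₁ p₁ chart₁ 1 O₁ lam₁)
  (E₂ : Q.Modules) [E₂.IsQuasicoherent]
  (𝒮₂ : RelProj.QCGrAlg Q) (j₂ : E₂ ⟶ 𝒮₂.toModule) (hj₂ : RelProj.IsGrSymAlg E₂ 𝒮₂ j₂)
  (p₂ : P₂ ⟶ Q)
  (chart₂ : ∀ (U : Q.Opens) (hU : IsAffineOpen U),
    ((p₂ ⁻¹ᵁ U : P₂.Opens) : Scheme.{u}) ≅ Proj (𝒮₂.deg U hU))
  (hP₂ : RelProj.IsRelProj 𝒮₂ p₂ chart₂) (O₂ : P₂.Modules)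
  (lam₂ : ∀ (U : Q.Opens) (hU : IsAffineOpen U),
    O₂ ⟶ (Scheme.Modules.pushforward (RelProj.emb p₂ chart₂ U hU)).obj
      (GrTwist.twist (𝒮₂.deg U hU) 1))
  (hO₂ : RelProj.IsRelTwist 𝒮₂ p₂ chart₂ 1 O₂ lam₂)
  (π₁ : T ⟶ P₁) (π₂ : T ⟶ P₂)

include hj₁ hP₁ hO₁ hj₂ hP₂ hO₂ in
/-- **Segre for bundles**: `π₁^* O(1) ⊗ π₂^* O(1)` is very ample on `P(E₁) ×_Q P(E₂)` over `Q`. -/
theorem isRelVeryAmple_boxTensor (H : IsPullback π₁ π₂ p₁ p₂) :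
    RelProj.IsRelVeryAmple (π₁ ≫ p₁)
      (CohB1.tensorMod ((Scheme.Modules.pullback π₁).obj O₁)
        ((Scheme.Modules.pullback π₂).obj O₂)) := by
  have hgen₁ : 𝒮₁.IsGenDegOne := ProjBundleQuot.isGenDegOne_of_isGrSymAlg E₁ 𝒮₁ j₁ hj₁
  have hgen₂ : 𝒮₂.IsGenDegOne := ProjBundleQuot.isGenDegOne_of_isGrSymAlg E₂ 𝒮₂ j₂ hj₂
  have hL₁ : PicF.IsInvertible ((Scheme.Modules.pullback π₁).obj O₁) :=
    Groth.Agent.Lib.helper11.InvMod.isInvertible_pullback π₁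
      (RelTwistInvertible.isInvertible lam₁ hgen₁ hO₁)
  have hL₂ : PicF.IsInvertible ((Scheme.Modules.pullback π₂).obj O₂) :=
    Groth.Agent.Lib.helper11.InvMod.isInvertible_pullback π₂
      (RelTwistInvertible.isInvertible lam₂ hgen₂ hO₂)
  obtain ⟨β₁, hβ₁⟩ := exists_factor_data E₁ 𝒮₁ j₁ hj₁ p₁ chart₁ hP₁ O₁ lam₁ hO₁ π₁ (π₁ ≫ p₁) rfl
  obtain ⟨β₂, hβ₂⟩ := exists_factor_data E₂ 𝒮₂ j₂ hj₂ p₂ chart₂ hP₂ O₂ lam₂ hO₂ π₂ (π₁ ≫ p₁)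
    H.w.symm
  refine isRelVeryAmple_tensor_of_charts (π₁ ≫ p₁) _ _ hL₁ hL₂ E₁ E₂ β₁ β₂ fun x => ?_
  obtain ⟨U, hU, hxU, -⟩ := (Opens.isBasis_iff_nbhd.mp Q.isBasis_affineOpens)
    (show (π₁ ≫ p₁) x ∈ (⊤ : Q.Opens) from trivial)
  have hxU₂ : p₂ (π₂ x) ∈ U := by
    have h1 : (π₂ ≫ p₂) x = (π₁ ≫ p₁) x := by rw [H.w]
    exact h1 ▸ hxU
  obtain ⟨e₁, he₁⟩ := exists_mem_Wp E₁ 𝒮₁ j₁ hj₁ p₁ chart₁ U hU (π₁ x) hxU
  obtain ⟨e₂, he₂⟩ := exists_mem_Wp E₂ 𝒮₂ j₂ hj₂ p₂ chart₂ U hU (π₂ x) hxU₂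
  obtain ⟨hg₁, hmax₁, hrat₁⟩ := hβ₁ U hU e₁
  obtain ⟨hg₂, hmax₂, hrat₂⟩ := hβ₂ U hU e₂
  have hle : π₁ ⁻¹ᵁ Wp E₁ 𝒮₁ j₁ p₁ chart₁ U hU e₁ ⊓ π₂ ⁻¹ᵁ Wp E₂ 𝒮₂ j₂ p₂ chart₂ U hU e₂ ≤
      (π₁ ≫ p₁) ⁻¹ᵁ U := inf_le_left.trans hg₁.1
  refine ⟨U, hU, e₁, e₂, π₁ ⁻¹ᵁ Wp E₁ 𝒮₁ j₁ p₁ chart₁ U hU e₁,
    π₂ ⁻¹ᵁ Wp E₂ 𝒮₂ j₂ p₂ chart₂ U hU e₂, hle, hg₁, hmax₁, hg₂, hmax₂, ⟨he₁, he₂⟩, ?_, ?_⟩
  · exact isAffineOpen_inf_of_isPullback H hU (isAffineOpen_Wp E₁ 𝒮₁ j₁ hj₁ p₁ chart₁ U hU e₁)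
      (isAffineOpen_Wp E₂ 𝒮₂ j₂ hj₂ p₂ chart₂ U hU e₂) (Wp_le E₁ 𝒮₁ j₁ p₁ chart₁ U hU e₁)
      (Wp_le E₂ 𝒮₂ j₂ p₂ chart₂ U hU e₂)
  · intro t
    have ht := mem_closure_of_isPullback H hU (isAffineOpen_Wp E₁ 𝒮₁ j₁ hj₁ p₁ chart₁ U hU e₁)
      (isAffineOpen_Wp E₂ 𝒮₂ j₂ hj₂ p₂ chart₂ U hU e₂) (Wp_le E₁ 𝒮₁ j₁ p₁ chart₁ U hU e₁)
      (Wp_le E₂ 𝒮₂ j₂ p₂ chart₂ U hU e₂) t
    refine (Subring.closure_le.mpr ?_) ht
    rintro g (⟨b, rfl⟩ | ⟨b, rfl⟩)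
    · have hb := mem_closure_fn E₁ 𝒮₁ j₁ hj₁ p₁ chart₁ U hU e₁ b
      induction hb using Subring.closure_induction with
      | mem y hy =>
        obtain ⟨a, rfl⟩ := hy
        exact Subring.subset_closure (Or.inl ⟨a, hrat₁ a _ inf_le_left hle⟩)
      | zero => rw [map_zero]; exact Subring.zero_mem _
      | one => rw [map_one]; exact Subring.one_mem _
      | add x y _ _ hx hy => rw [map_add]; exact Subring.add_mem _ hx hy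
      | neg x _ hx => rw [map_neg]; exact Subring.neg_mem _ hx
      | mul x y _ _ hx hy => rw [map_mul]; exact Subring.mul_mem _ hx hy
    · have hb := mem_closure_fn E₂ 𝒮₂ j₂ hj₂ p₂ chart₂ U hU e₂ b
      induction hb using Subring.closure_induction with
      | mem y hy =>
        obtain ⟨a, rfl⟩ := hy
        exact Subring.subset_closure (Or.inr ⟨a, hrat₂ a _ inf_le_right hle⟩)
      | zero => rw [map_zero]; exact Subring.zero_mem _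
      | one => rw [map_one]; exact Subring.one_mem _
      | add x y _ _ hx hy => rw [map_add]; exact Subring.add_mem _ hx hy
      | neg x _ hx => rw [map_neg]; exact Subring.neg_mem _ hx
      | mul x y _ _ hx hy => rw [map_mul]; exact Subring.mul_mem _ hx hy

end Two

end Groth.Agent.Lib.helper28.Segre2
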