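import Groth.Agent.Lib.Helper28.SegreCore
import Groth.Agent.Lib.Helper28.CompSegMain

/-!
# The two-sided Segre construction in degree one (helper28)

`q : X ⟶ Y`, `L`, `L'` invertible on `X`, `β : E ⟶ q_* L`, `β' : E' ⟶ q_* L'`,
`u'' = Sym(β ⊗ β')`.  For sections `e`, `e'` of `E`, `E'` over an affine open `U`:
* `uu2_s2`: `u''(j''(e ⊗ e')) = jL''(β e ⊗ β' e')`;
* `span_iff`: local computation with generators;
* `XT2_eq`: `X_{u''(e ⊗ e')} = D ⊓ D'` for the generation loci `D`, `D'` of `β e`, `β' e'`;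
* `H3_ratio_left/right`: ratios `β a / β e` and `β' a' / β' e'` satisfy `H3`;
* `isRelVeryAmple_tensor_of_charts`: if the `D ⊓ D'` are affine, cover `X`, and their rings of
  functions are generated by such ratios, `L ⊗ L'` is very ample relative to `q`.
-/

set_option autoImplicit false
set_option linter.style.haveILetI false
set_option linter.unusedSectionVars false
universe u
open CategoryTheory AlgebraicGeometry TopologicalSpace Opposite TensorProduct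

namespace Groth.Agent.Lib.helper28.Segre2

open Groth.Agent.Lib.helper28.SymLinePow Groth.Agent.Lib.helper28.SymLineGenLocus
  Groth.Agent.Lib.helper28.SegreTwist Groth.Agent.Lib.helper11.TensorASec
  Groth.Agent.Lib.helper28.SymAlg Groth.Agent.Lib.helper28.SymLoc
  Groth.Agent.Lib.helper28.SymSheaf Groth.Agent.Lib.helper28
  Groth.Agent.Lib.helper28.SegreLocal Groth.Agent.Lib.helper28.EpiGen
  Groth.Agent.Lib.helper28.PairGlue Groth.Agent.Lib.helper28.SegreCore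

section Alg

theorem bijective_smul_smul_iff {R M : Type*} [CommRing R] [AddCommGroup M] [Module R M]
    (ℓ : M) (hℓ : Function.Bijective (fun c : R => c • ℓ)) (f : R) :
    Function.Bijective (fun c : R => c • (f • ℓ)) ↔ IsUnit f := by
  constructor
  · intro h
    obtain ⟨c, hc⟩ := h.2 ℓ
    have h1 : (c * f) • ℓ = (1 : R) • ℓ := by
      rw [one_smul, mul_smul]
      exact hc
    have h2 : c * f = 1 := hℓ.1 h1
    exact IsUnit.of_mul_eq_one c (by rw [mul_comm]; exact h2)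
  · intro hf
    obtain ⟨v, rfl⟩ := hf
    constructor
    · intro c c' h
      have h1 : (c * (v : R)) • ℓ = (c' * (v : R)) • ℓ := by
        rw [mul_smul, mul_smul]
        exact h
      have h2 : c * (v : R) = c' * (v : R) := hℓ.1 h1
      exact v.isUnit.mul_left_injective h2
    · intro m
      obtain ⟨a, ha⟩ := hℓ.2 m
      refine ⟨a * ((v⁻¹ : Rˣ) : R), ?_⟩
      change (a * ((v⁻¹ : Rˣ) : R)) • ((v : R) • ℓ) = m
      rw [smul_smul, mul_assoc, Units.inv_mul, mul_one]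
      exact ha

end Alg

variable {X Y : Scheme.{u}} (q : X ⟶ Y)
  (L L' : X.Modules) [L.IsQuasicoherent] [L'.IsQuasicoherent]
  [(CohB1.tensorMod L L').IsQuasicoherent]
  (𝒮L'' : RelProj.QCGrAlg X) (jL'' : CohB1.tensorMod L L' ⟶ 𝒮L''.toModule)
  (hjL'' : RelProj.IsGrSymAlg (CohB1.tensorMod L L') 𝒮L'' jL'')
  (E E' : Y.Modules) [E.IsQuasicoherent] [E'.IsQuasicoherent]
  [(CohB1.tensorMod E E').IsQuasicoherent]
  (𝒮'' : RelProj.QCGrAlg Y) (j'' : CohB1.tensorMod E E' ⟶ 𝒮''.toModule)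
  (hj'' : RelProj.IsGrSymAlg (CohB1.tensorMod E E') 𝒮'' j'')
  (β : E ⟶ (Scheme.Modules.pushforward q).obj L)
  (β' : E' ⟶ (Scheme.Modules.pushforward q).obj L')

/-- The degree-one element `j''(e ⊗ e')`. -/
noncomputable abbrev s2 (U : Y.Opens) (e : Γ(E, U)) (e' : Γ(E', U)) : 𝒮''.presheaf.obj (op U) :=
  (j''.app U).hom (tm E E' U e e')

include hj'' in
theorem s2_mem (U : Y.Opens) (hU : IsAffineOpen U) (e : Γ(E, U)) (e' : Γ(E', U)) :
    s2 E E' 𝒮'' j'' U e e' ∈ 𝒮''.deg U hU 1 := hj''.2 U hU _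

/-- The restriction of `β e` to `V ≤ q⁻¹ U`. -/
noncomputable abbrev bsec {M : X.Modules} {F : Y.Modules}
    (b : F ⟶ (Scheme.Modules.pushforward q).obj M) (U : Y.Opens) (e : Γ(F, U)) (V : X.Opens)
    (hle : V ≤ q ⁻¹ᵁ U) : Γ(M, V) :=
  M.presheaf.map (homOfLE hle).op (show Γ(M, q ⁻¹ᵁ U) from (b.app U).hom e)

theorem uu2_s2 (U : Y.Opens) (hU : IsAffineOpen U) (e : Γ(E, U)) (e' : Γ(E', U))
    (V : X.Opens) (hV : IsAffineOpen V) (hle : V ≤ q ⁻¹ᵁ U) :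
    ((uu2 q L L' 𝒮L'' jL'' hjL'' E E' 𝒮'' j'' hj'' β β').appLE U V hle).hom
        (s2 E E' 𝒮'' j'' U e e') =
      VAmpleSec.jr jL'' V (tm L L' V (bsec q β U e V hle) (bsec q β' U e' V hle)) := by
  have h1 := qGrHom_appLE_j q (CohB1.tensorMod E E') 𝒮'' j'' hj'' (CohB1.tensorMod L L')
    (β2 q L L' E E' β β') 𝒮L'' jL'' hjL''.2 U hU V hV hle (tm E E' U e e')
  refine h1.trans ?_
  change (jL''.app V).hom _ = (jL''.app V).hom _
  congr 1
  rw [β2_tm]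
  exact tm_res L L' (homOfLE hle) _ _

omit [(CohB1.tensorMod L L').IsQuasicoherent] in
theorem bijective_smul_tm' (V : X.Opens) (hV : IsAffineOpen V) (ℓ : Γ(L, V))
    (hℓ : Function.Bijective (fun c : Γ(X, V) => c • ℓ)) (ℓ' : Γ(L', V))
    (hℓ' : Function.Bijective (fun c : Γ(X, V) => c • ℓ')) :
    Function.Bijective (fun c : Γ(X, V) => c • tm L L' V ℓ ℓ') := by
  have hc := bijective_cW L L' V hV
  have ht := bijective_smul_tmul (R := Γ(X, V)) ℓ ℓ' hℓ hℓ'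
  have : (fun a : Γ(X, V) => (a • tm L L' V ℓ ℓ')) =
      (cW L L' V) ∘ (fun c : Γ(X, V) => c • (ℓ ⊗ₜ[Γ(X, V)] ℓ')) := by
    funext a
    change _ = cW L L' V (a • _)
    rw [map_smul]
    rfl
  rw [this]
  exact hc.comp ht

include hjL'' in
/-- The local computation: `jL''(f ℓ ⊗ f' ℓ')` generates the degree one part iff `f`, `f'` are
units. -/
theorem span_iff (V : X.Opens) (hV : IsAffineOpen V) (ℓ : Γ(L, V))
    (hℓ : Function.Bijective (fun c : Γ(X, V) => c • ℓ)) (ℓ' : Γ(L', V))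
    (hℓ' : Function.Bijective (fun c : Γ(X, V) => c • ℓ')) (f f' : Γ(X, V)) :
    (((𝒮L''.deg V hV 1 : AddSubgroup (𝒮L''.presheaf.obj (op V))) :
        Set (𝒮L''.presheaf.obj (op V))) ⊆
      (Ideal.span {VAmpleSec.jr jL'' V (tm L L' V (f • ℓ) (f' • ℓ'))} :
        Set (𝒮L''.presheaf.obj (op V)))) ↔ IsUnit f ∧ IsUnit f' := by
  let D'' : GenData (CohB1.tensorMod L L') 𝒮L'' jL'' V :=
    genDataOfGenerator hjL'' V hV (tm L L' V ℓ ℓ') (bijective_smul_tm' L L' V hV ℓ hℓ ℓ' hℓ')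
  have hval : VAmpleSec.jr jL'' V (tm L L' V (f • ℓ) (f' • ℓ')) =
      (𝒮L''.str.app (op V)).hom (f * f') * D''.z ^ 1 := by
    rw [tm_smul_left, tm_smul_right, smul_smul, pow_one]
    exact VAmpleSec.jr_smul V (f * f') _
  rw [hval]
  constructor
  · intro h
    have hz1 : D''.z ^ 1 ∈ 𝒮L''.deg V hV 1 := z_pow_mem D'' 1
    have hu := isUnit_of_span (𝒮L''.str.app (op V)).hom D''.z D''.hpoly (f * f') 1 (h hz1)
    exact ⟨isUnit_of_mul_isUnit_left hu, isUnit_of_mul_isUnit_right hu⟩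
  · rintro ⟨h1, h2⟩
    exact deg_subset_span_of_isUnit (𝒮L''.deg V hV) (𝒮L''.str.app (op V)).hom D''.z
      (𝒮L''.str_mem V hV) D''.hz D''.hpoly.2 (f * f') 1 (h1.mul h2)

section XT

variable (hL : PicF.IsInvertible L) (hL' : PicF.IsInvertible L')
  (U : Y.Opens) (hU : IsAffineOpen U) (e : Γ(E, U)) (e' : Γ(E', U)) (D D' : X.Opens)

include hL hL' hU in
theorem XT2_eq
    (hD : IsGenOn L (q ⁻¹ᵁ U) ((β.app U).hom e) D)
    (hDmax : ∀ (V : X.Opens) (_ : IsAffineOpen V) (hle : V ≤ q ⁻¹ᵁ U),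
      Function.Bijective (fun c : Γ(X, V) => c • bsec q β U e V hle) → V ≤ D)
    (hD' : IsGenOn L' (q ⁻¹ᵁ U) ((β'.app U).hom e') D')
    (hD'max : ∀ (V : X.Opens) (_ : IsAffineOpen V) (hle : V ≤ q ⁻¹ᵁ U),
      Function.Bijective (fun c : Γ(X, V) => c • bsec q β' U e' V hle) → V ≤ D') :
    RLpsiU.XT 𝒮L'' (uu2 q L L' 𝒮L'' jL'' hjL'' E E' 𝒮'' j'' hj'' β β') U 1
      (s2 E E' 𝒮'' j'' U e e') = D ⊓ D' := by
  apply le_antisymm
  · intro y hy
    obtain ⟨⟨⟨V₁, hV₁⟩, hle₁, hspan₁⟩, hyV₁⟩ := Opens.mem_iSup.mp hy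
    obtain ⟨U₀, hyU₀, hU₀⟩ := exists_open_generator L hL y
    obtain ⟨U₀', hyU₀', hU₀'⟩ := exists_open_generator L' hL' y
    obtain ⟨c, hcle, hyc⟩ := hV₁.exists_basicOpen_le (V := U₀ ⊓ U₀') ⟨y, hyU₀, hyU₀'⟩ hyV₁
    have hV₃ : IsAffineOpen (X.basicOpen c) := hV₁.basicOpen c
    have hV₃V₁ : X.basicOpen c ≤ V₁ := X.basicOpen_le c
    obtain ⟨ℓ, hℓ⟩ := hU₀ (X.basicOpen c) hV₃ (hcle.trans inf_le_left)
    obtain ⟨ℓ', hℓ'⟩ := hU₀' (X.basicOpen c) hV₃ (hcle.trans inf_le_right)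
    have hle₃ : X.basicOpen c ≤ q ⁻¹ᵁ U := hV₃V₁.trans hle₁
    have hspan₃ := deg_subset_span_basicOpen 𝒮L'' V₁ hV₁ c 1
      (((uu2 q L L' 𝒮L'' jL'' hjL'' E E' 𝒮'' j'' hj'' β β').appLE U V₁ hle₁).hom
        (s2 E E' 𝒮'' j'' U e e')) hspan₁
    have hres : (𝒮L''.presheaf.map (homOfLE (X.basicOpen_le c)).op).hom
        (((uu2 q L L' 𝒮L'' jL'' hjL'' E E' 𝒮'' j'' hj'' β β').appLE U V₁ hle₁).hom
          (s2 E E' 𝒮'' j'' U e e')) =
        ((uu2 q L L' 𝒮L'' jL'' hjL'' E E' 𝒮'' j'' hj'' β β').appLE U (X.basicOpen c) hle₃).hom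
          (s2 E E' 𝒮'' j'' U e e') :=
      congrArg (fun k => k.hom (s2 E E' 𝒮'' j'' U e e'))
        ((uu2 q L L' 𝒮L'' jL'' hjL'' E E' 𝒮'' j'' hj'' β β').toQHom.appLE_map hle₁ hV₃V₁)
    rw [hres, uu2_s2 q L L' 𝒮L'' jL'' hjL'' E E' 𝒮'' j'' hj'' β β' U hU e e' (X.basicOpen c) hV₃
      hle₃] at hspan₃
    obtain ⟨f, hf⟩ := hℓ.2 (bsec q β U e (X.basicOpen c) hle₃)
    obtain ⟨f', hf'⟩ := hℓ'.2 (bsec q β' U e' (X.basicOpen c) hle₃)
    have hf₂ : f • ℓ = bsec q β U e (X.basicOpen c) hle₃ := hf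
    have hf'₂ : f' • ℓ' = bsec q β' U e' (X.basicOpen c) hle₃ := hf'
    rw [← hf₂, ← hf'₂] at hspan₃
    obtain ⟨hu, hu'⟩ := (span_iff L L' 𝒮L'' jL'' hjL'' (X.basicOpen c) hV₃ ℓ hℓ ℓ' hℓ' f f').mp
      hspan₃
    have hb : Function.Bijective (fun c' : Γ(X, X.basicOpen c) =>
        c' • bsec q β U e (X.basicOpen c) hle₃) := by
      rw [← hf₂]
      exact (bijective_smul_smul_iff ℓ hℓ f).mpr hu
    have hb' : Function.Bijective (fun c' : Γ(X, X.basicOpen c) =>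
        c' • bsec q β' U e' (X.basicOpen c) hle₃) := by
      rw [← hf'₂]
      exact (bijective_smul_smul_iff ℓ' hℓ' f').mpr hu'
    exact ⟨hDmax _ hV₃ hle₃ hb hyc, hD'max _ hV₃ hle₃ hb' hyc⟩
  · intro y hy
    obtain ⟨V, hV, hyV, hVD⟩ := (Opens.isBasis_iff_nbhd.mp X.isBasis_affineOpens) hy
    obtain ⟨hDW, hDgen⟩ := hD
    obtain ⟨hD'W, hD'gen⟩ := hD'
    have hle : V ≤ q ⁻¹ᵁ U := (hVD.trans inf_le_left).trans hDW
    have hℓ : Function.Bijective (fun c : Γ(X, V) => c • bsec q β U e V hle) :=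
      hDgen V hV (hVD.trans inf_le_left)
    have hℓ' : Function.Bijective (fun c : Γ(X, V) => c • bsec q β' U e' V hle) :=
      hD'gen V hV (hVD.trans inf_le_right)
    have hspan := (span_iff L L' 𝒮L'' jL'' hjL'' V hV _ hℓ _ hℓ' 1 1).mpr
      ⟨isUnit_one, isUnit_one⟩
    rw [one_smul, one_smul] at hspan
    refine Opens.mem_iSup.mpr ⟨⟨⟨V, hV⟩, hle, ?_⟩, hyV⟩
    rw [uu2_s2 q L L' 𝒮L'' jL'' hjL'' E E' 𝒮'' j'' hj'' β β' U hU e e' V hV hle]
    exact hspan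

end XT

section H3

variable (U : Y.Opens) (hU : IsAffineOpen U) (e : Γ(E, U)) (e' : Γ(E', U))
  (W : X.Opens) (hW : IsAffineOpen W) (hle : W ≤ q ⁻¹ᵁ U)

include hW in
theorem H3_ratio_left (a : Γ(E, U)) (g : Γ(X, W))
    (hg : g • bsec q β U e W hle = bsec q β U a W hle) :
    RLpsiU.H3 (uu2 q L L' 𝒮L'' jL'' hjL'' E E' 𝒮'' j'' hj'' β β') U hU 1
      (s2 E E' 𝒮'' j'' U e e') W hle g := by
  refine ⟨1, one_pos, s2 E E' 𝒮'' j'' U a e', ?_, ?_⟩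
  · rw [one_mul]
    exact s2_mem E E' 𝒮'' j'' hj'' U hU a e'
  · rw [pow_one, uu2_s2 q L L' 𝒮L'' jL'' hjL'' E E' 𝒮'' j'' hj'' β β' U hU e e' W hW hle,
      uu2_s2 q L L' 𝒮L'' jL'' hjL'' E E' 𝒮'' j'' hj'' β β' U hU a e' W hW hle, ← hg, tm_smul_left]
    exact (VAmpleSec.jr_smul W g _).symm

include hW in
theorem H3_ratio_right (a' : Γ(E', U)) (g : Γ(X, W))
    (hg : g • bsec q β' U e' W hle = bsec q β' U a' W hle) :
    RLpsiU.H3 (uu2 q L L' 𝒮L'' jL'' hjL'' E E' 𝒮'' j'' hj'' β β') U hU 1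
      (s2 E E' 𝒮'' j'' U e e') W hle g := by
  refine ⟨1, one_pos, s2 E E' 𝒮'' j'' U e a', ?_, ?_⟩
  · rw [one_mul]
    exact s2_mem E E' 𝒮'' j'' hj'' U hU e a'
  · rw [pow_one, uu2_s2 q L L' 𝒮L'' jL'' hjL'' E E' 𝒮'' j'' hj'' β β' U hU e e' W hW hle,
      uu2_s2 q L L' 𝒮L'' jL'' hjL'' E E' 𝒮'' j'' hj'' β β' U hU e a' W hW hle, ← hg, tm_smul_right]
    exact (VAmpleSec.jr_smul W g _).symm

end H3

end Groth.Agent.Lib.helper28.Segre2
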