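import Groth.Agent.Lib.Helper28.VAmpleGen
import Groth.Agent.Lib.Helper28.Segre2Core
import Groth.Agent.Lib.Helper28.RelTwistInvertible
import Groth.Agent.Lib.Helper11.InvMod

/-!
# One factor of the Segre construction: morphisms into a projective bundle (helper28)

For a projective bundle `p : P = P(E) ⟶ Y` with its `O_P(1)` and a morphism `i : X ⟶ P` with
`i ≫ p = q`: there is `β : E ⟶ q_* (i^* O_P(1))` such that for every section `e` of `E` over an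
affine open `U` of `Y`
* `β e` generates `i^* O_P(1)` exactly over `i⁻¹ D₊(e)` (`IsGenOn` + maximality);
* `β a = i^♯(a / e) • β e` over `i⁻¹ D₊(e)`.
-/

set_option autoImplicit false
set_option linter.style.haveILetI false
set_option linter.unusedSectionVars false
universe u
open CategoryTheory CategoryTheory.Limits AlgebraicGeometry TopologicalSpace Opposite

namespace Groth.Agent.Lib.helper28.Segre2

open Groth.Agent.Lib.helper28 Groth.Agent.Lib.helper28.EpiGen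
  Groth.Agent.Lib.helper28.ProjBundleHom Groth.Agent.Lib.helper28.ProjQGlue
  Groth.Agent.Lib.helper28.RelTwistChart

variable {Y P X : Scheme.{u}} (E : Y.Modules) [E.IsQuasicoherent]
  (𝒮 : RelProj.QCGrAlg Y) (j : E ⟶ 𝒮.toModule) (hj : RelProj.IsGrSymAlg E 𝒮 j) (p : P ⟶ Y)
  (chart : ∀ (U : Y.Opens) (hU : IsAffineOpen U),
    ((p ⁻¹ᵁ U : P.Opens) : Scheme.{u}) ≅ Proj (𝒮.deg U hU))
  (hP : RelProj.IsRelProj 𝒮 p chart) (O1 : P.Modules)
  (lam : ∀ (U : Y.Opens) (hU : IsAffineOpen U),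
    O1 ⟶ (Scheme.Modules.pushforward (RelProj.emb p chart U hU)).obj
      (GrTwist.twist (𝒮.deg U hU) 1))
  (hO1 : RelProj.IsRelTwist 𝒮 p chart 1 O1 lam)

theorem res_eq_pull (φ : E ⟶ (Scheme.Modules.pushforward p).obj O1)
    (i : X ⟶ P) (L : X.Modules) (γ : (Scheme.Modules.pullback i).obj O1 ⟶ L)
    (U : Y.Opens) (hU : IsAffineOpen U) (e a : Γ(E, U))
    (V : X.Opens) (hVW : V ≤ i ⁻¹ᵁ Wp E 𝒮 j p chart U hU e) (hle : V ≤ (i ≫ p) ⁻¹ᵁ U) :
    L.presheaf.map (homOfLE hle).op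
      (show Γ(L, (i ≫ p) ⁻¹ᵁ U) from (ProjBundleHom.β O1 i L γ).app (p ⁻¹ᵁ U) ((φ.app U) a)) =
      pull O1 i L γ hVW (sg E 𝒮 j p chart O1 φ U hU e a) := by
  rw [← β_app_res O1 i L γ hVW]
  unfold sg
  have h4 := Groth.Agent.Lib.helper2.ModSec.map_app_apply (ProjBundleHom.β O1 i L γ)
    (homOfLE (Wp_le E 𝒮 j p chart U hU e)) (show Γ(O1, p ⁻¹ᵁ U) from (φ.app U) a)
  rw [← h4]
  change L.presheaf.map (homOfLE hle).op _ =
    L.presheaf.map (homOfLE hVW).op (L.presheaf.map (homOfLE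
      (i.preimage_mono (Wp_le E 𝒮 j p chart U hU e))).op _)
  exact (Groth.Agent.Lib.helper28.LocalGen.map_map L
    (i.preimage_mono (Wp_le E 𝒮 j p chart U hU e)) hVW _).symm

include hj hP hO1 in
theorem exists_factor_data (i : X ⟶ P) (q : X ⟶ Y) (hq : i ≫ p = q) :
    ∃ β : E ⟶ (Scheme.Modules.pushforward q).obj ((Scheme.Modules.pullback i).obj O1),
      ∀ (U : Y.Opens) (hU : IsAffineOpen U) (e : Γ(E, U)),
        IsGenOn ((Scheme.Modules.pullback i).obj O1) (q ⁻¹ᵁ U) ((β.app U).hom e)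
          (i ⁻¹ᵁ Wp E 𝒮 j p chart U hU e) ∧
        (∀ (V : X.Opens) (_ : IsAffineOpen V) (hV : V ≤ q ⁻¹ᵁ U),
          Function.Bijective (fun c : Γ(X, V) => c • bsec q β U e V hV) →
            V ≤ i ⁻¹ᵁ Wp E 𝒮 j p chart U hU e) ∧
        ∀ (a : Γ(E, U)) (V : X.Opens) (hVW : V ≤ i ⁻¹ᵁ Wp E 𝒮 j p chart U hU e)
          (hV : V ≤ q ⁻¹ᵁ U),
          (i.appLE (Wp E 𝒮 j p chart U hU e) V hVW).hom (fn E 𝒮 j hj p chart U hU e a) •
            bsec q β U e V hV = bsec q β U a V hV := by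
  subst hq
  have hgen : 𝒮.IsGenDegOne := ProjBundleQuot.isGenDegOne_of_isGrSymAlg E 𝒮 j hj
  have hO1inv : PicF.IsInvertible O1 := RelTwistInvertible.isInvertible lam hgen hO1
  have hL : PicF.IsInvertible ((Scheme.Modules.pullback i).obj O1) :=
    Groth.Agent.Lib.helper11.InvMod.isInvertible_pullback i hO1inv
  have hLq : ((Scheme.Modules.pullback i).obj O1).IsQuasicoherent :=
    Groth.Agent.Lib.helper12.AmpleBasis.isQuasicoherent_of_isInvertible hL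
  obtain ⟨φ, hφ⟩ := Groth.Agent.Lib.helper28.RelTwistCanon.exists_canon_hom lam hP hO1 (d := 1)
    (by simp) E j hj.2
  have hφ' : ∀ (U : Y.Opens) (hU : IsAffineOpen U) (e : Γ(E, U))
      (y : ↥(RelProj.emb p chart U hU ⁻¹ᵁ (p ⁻¹ᵁ U))),
      GrTwist.val (V := RelProj.emb p chart U hU ⁻¹ᵁ (p ⁻¹ᵁ U))
          ((lam U hU).app (p ⁻¹ᵁ U) ((φ.app U) e)) y =
        algebraMap (𝒮.presheaf.obj (op U)) (GrTwist.Loc (𝒮.deg U hU) y.1)
          ((j.app U) e : 𝒮.presheaf.obj (op U)) := fun U hU e y => hφ U hU e y.1 y.2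
  let L : X.Modules := (Scheme.Modules.pullback i).obj O1
  let γ : (Scheme.Modules.pullback i).obj O1 ⟶ L := 𝟙 _
  have hγ : IsIso γ := inferInstanceAs (IsIso (𝟙 _))
  let m : E ⟶ (Scheme.Modules.pushforward (i ≫ p)).obj L :=
    φ ≫ (Scheme.Modules.pushforward p).map (ProjBundleHom.β O1 i L γ) ≫
      (Scheme.Modules.pushforwardComp i p).hom.app L
  obtain ⟨𝒮L, jL, hjL⟩ := SymGradedExists.exists_isGrSymAlg L
  let u : RelProj.QGrHom (i ≫ p) 𝒮 𝒮L := SymPairLift.qGrHom (i ≫ p) E 𝒮 j hj L m 𝒮L jL hjL.2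
  have hu' : ∀ (U : Y.Opens) (_ : IsAffineOpen U) (e : Γ(E, U)),
      (u.app U).hom ((j.app U) e) = (jL.app ((i ≫ p) ⁻¹ᵁ U))
        (show Γ(L, (i ≫ p) ⁻¹ᵁ U) from
          (ProjBundleHom.β O1 i L γ).app (p ⁻¹ᵁ U) ((φ.app U) e)) := by
    intro U hU e
    exact SymPairLift.qGrHom_j (i ≫ p) E 𝒮 j hj L m 𝒮L jL hjL.2 U hU e
  obtain ⟨PL, pL, chartL, hPL⟩ := RelProjExists.exists_relProj 𝒮L
  obtain ⟨r, hr₀, -⟩ := existsUnique_glue u hP hPL
  have hr : RelProj.IsProjQMapOn u p chart pL chartL (RelProj.domQ u pL chartL) r :=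
    (ProjQComp.isProjQMapOn_iff _ r).mpr hr₀
  have hreq : r = (RelProj.domQ u pL chartL).ι ≫ pL ≫ i :=
    ProjBundleHom.eq_of_isProjQMapOn E 𝒮 j hj p chart O1 lam hO1 φ hφ' i L γ 𝒮L jL hjL
      u hu' pL chartL hPL r hr
  have hpL : IsIso pL := SymLineProj.isIso_of_isInvertible L 𝒮L jL hjL pL chartL hPL hL
  have hsurjpL : Function.Surjective pL := by
    intro y
    exact ⟨(inv pL) y, by rw [← Scheme.Hom.comp_apply, IsIso.inv_hom_id]; rfl⟩
  have hrx : ∀ w : ((RelProj.domQ u pL chartL : PL.Opens) : Scheme.{u}),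
      r w = i (pL ((RelProj.domQ u pL chartL).ι w)) := by
    intro w
    rw [hreq]
    rfl
  refine ⟨m, fun U hU e => ⟨?_, ?_, ?_⟩⟩
  · have hD : i ⁻¹ᵁ Wp E 𝒮 j p chart U hU e ≤ (i ≫ p) ⁻¹ᵁ U :=
      i.preimage_mono (Wp_le E 𝒮 j p chart U hU e)
    refine ⟨hD, fun V' hV' hV'W => ?_⟩
    have h5 := res_eq_pull E 𝒮 j p chart O1 φ i L γ U hU e e V' hV'W (hV'W.trans hD)
    have h6 := bijective_smul_pull E 𝒮 j hj p chart O1 lam hO1 φ hφ' i L γ U hU e V' hV' hV'W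
    rw [← h5] at h6
    exact h6
  · intro V hV hle hb
    have hspan : ((𝒮L.deg V hV 1 : AddSubgroup (𝒮L.presheaf.obj (op V))) :
        Set (𝒮L.presheaf.obj (op V))) ⊆
        (Ideal.span {(u.appLE U V hle).hom (jE E 𝒮 j U e)} : Set (𝒮L.presheaf.obj (op V))) := by
      intro b hbd
      obtain ⟨m', rfl⟩ := Groth.Agent.Lib.helper28.ProjBundleQuot.exists_of_mem_deg_one L 𝒮L jL
        hjL V hV b hbd
      obtain ⟨c, rfl⟩ := hb.2 m'
      have h1 := SegreCore.qGrHom_appLE_j (i ≫ p) E 𝒮 j hj L m 𝒮L jL hjL.2 U hU V hV hle e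
      have h2 := Groth.Agent.Lib.helper28.SymAlg.φAdd_smul L 𝒮L.toQCAlg jL V c
        (bsec (i ≫ p) m U e V hle)
      have h3 : (𝒮L.str.app (op V)).hom c * (u.appLE U V hle).hom (jE E 𝒮 j U e) =
          (jL.app V).hom (c • bsec (i ≫ p) m U e V hle) :=
        (congrArg (fun z => (𝒮L.str.app (op V)).hom c * z) h1).trans h2.symm
      exact Ideal.mem_span_singleton'.mpr ⟨(𝒮L.str.app (op V)).hom c, h3⟩
    have hVXT : V ≤ Groth.Agent.Lib.helper28.RLpsiU.XT 𝒮L u U 1 (jE E 𝒮 j U e) :=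
      le_iSup_of_le (ι := {V : X.affineOpens // ∃ hle : (V.1 : X.Opens) ≤ (i ≫ p) ⁻¹ᵁ U,
          ((𝒮L.deg V.1 V.2 1 : AddSubgroup (𝒮L.presheaf.obj (op (V.1 : X.Opens)))) :
            Set (𝒮L.presheaf.obj (op (V.1 : X.Opens)))) ⊆
          (Ideal.span {(u.appLE U (V.1 : X.Opens) hle).hom (jE E 𝒮 j U e)} :
            Set (𝒮L.presheaf.obj (op (V.1 : X.Opens))))})
        (f := fun V => (V.1.1 : X.Opens)) ⟨⟨V, hV⟩, hle, hspan⟩ le_rfl
    intro y hy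
    have hyXT := hVXT hy
    obtain ⟨w, rfl⟩ := hsurjpL y
    have hw : w ∈ pL ⁻¹ᵁ Groth.Agent.Lib.helper28.RLpsiU.XT 𝒮L u U 1 (jE E 𝒮 j U e) := hyXT
    rw [← RLpsiU.image_preimage_eq L 𝒮L jL hjL u hL hP hPL r hr₀ U hU one_pos (jE E 𝒮 j U e)
      (jE_mem E 𝒮 j hj U hU e)] at hw
    obtain ⟨w', hw', rfl⟩ := hw
    have h1 : r w' ∈ (κ E 𝒮 j hj p chart U hU e).opensRange := hw'
    rw [opensRange_κ, hrx] at h1
    exact h1
  · intro a V hVW hle
    have h5e := res_eq_pull E 𝒮 j p chart O1 φ i L γ U hU e e V hVW hle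
    have h5a := res_eq_pull E 𝒮 j p chart O1 φ i L γ U hU e a V hVW hle
    have h6 := pull_sg E 𝒮 j hj p chart O1 lam hO1 φ hφ' i L γ U hU e a V hVW
    rw [← h5e, ← h5a] at h6
    exact h6.symm

end Groth.Agent.Lib.helper28.Segre2
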