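import Groth.Agent.Lib.Helper28.Segre2Bundle
import Groth.Agent.Lib.Helper28.VeryAmpleBC
import Groth.Agent.Lib.Helper28.VAmpleIso
import Groth.Agent.Lib.Helper12.PullTensor

/-!
# External tensor products of very ample modules (helper28)

* `isRelVeryAmple_pullback_of_isImmersion`: very ampleness pulls back along immersions.
* `pullCompIso`: `a^* b^* M ≅ c^* d^* M` for `a ≫ b = c ≫ d`.
* `isPullback_paste9`: the fibre product of base changes to `Q = Y₁ ×_S Y₂` is the fibre product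
  over `S`.
* `isRelVeryAmple_externalTensor`: EGA II 4.4.10 (iv).
-/

set_option autoImplicit false
set_option linter.style.haveILetI false
universe u
open CategoryTheory CategoryTheory.Limits AlgebraicGeometry TopologicalSpace Opposite

namespace Groth.Agent.Lib.helper28.Segre2

/-- Very ampleness pulls back along immersions. -/
theorem isRelVeryAmple_pullback_of_isImmersion {P T Q : Scheme.{u}} (k : P ⟶ T) [IsImmersion k]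
    (t : T ⟶ Q) (N : T.Modules) (h : RelProj.IsRelVeryAmple t N) :
    RelProj.IsRelVeryAmple (k ≫ t) ((Scheme.Modules.pullback k).obj N) := by
  obtain ⟨E, hE, 𝒮, j, hj, B, b, chart, hB, O1, lam, hO1, i, himm, hib, ⟨τ⟩⟩ := h
  have : IsImmersion i := himm
  refine ⟨E, hE, 𝒮, j, hj, B, b, chart, hB, O1, lam, hO1, k ≫ i, inferInstance, ?_, ⟨?_⟩⟩
  · rw [Category.assoc, hib]
  · exact (Scheme.Modules.pullback k).mapIso τ ≪≫ (Scheme.Modules.pullbackComp k i).app O1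

/-- `a^* b^* M ≅ c^* d^* M` for `a ≫ b = c ≫ d`. -/
noncomputable def pullCompIso {A B C D : Scheme.{u}} (a : A ⟶ B) (b : B ⟶ D) (c : A ⟶ C)
    (d : C ⟶ D) (h : a ≫ b = c ≫ d) (M : D.Modules) :
    (Scheme.Modules.pullback a).obj ((Scheme.Modules.pullback b).obj M) ≅
      (Scheme.Modules.pullback c).obj ((Scheme.Modules.pullback d).obj M) :=
  (Scheme.Modules.pullbackComp a b).app M ≪≫ (Scheme.Modules.pullbackCongr h).app M ≪≫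
    ((Scheme.Modules.pullbackComp c d).app M).symm

/-- Pasting four cartesian squares. -/
theorem isPullback_paste9 {S Y₁ Y₂ Q B₁ B₂ B₁' B₂' T : Scheme.{u}}
    {y₁ : Y₁ ⟶ S} {y₂ : Y₂ ⟶ S} {q₁ : Q ⟶ Y₁} {q₂ : Q ⟶ Y₂} (hQ : IsPullback q₁ q₂ y₁ y₂)
    {b₁ : B₁ ⟶ Y₁} {g₁ : B₁' ⟶ B₁} {b₁' : B₁' ⟶ Q} (H₁ : IsPullback g₁ b₁' b₁ q₁)
    {b₂ : B₂ ⟶ Y₂} {g₂ : B₂' ⟶ B₂} {b₂' : B₂' ⟶ Q} (H₂ : IsPullback g₂ b₂' b₂ q₂)
    {π₁ : T ⟶ B₁'} {π₂ : T ⟶ B₂'} (HT : IsPullback π₁ π₂ b₁' b₂') :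
    IsPullback (π₁ ≫ g₁) (π₂ ≫ g₂) (b₁ ≫ y₁) (b₂ ≫ y₂) :=
  (HT.paste_horiz H₁).paste_vert (H₂.flip.paste_horiz hQ)

/-- **EGA II 4.4.10 (iv)**: external tensor products of very ample modules are very ample. -/
theorem isRelVeryAmple_externalTensor {S X₁ X₂ Y₁ Y₂ P Q : Scheme.{u}} (y₁ : Y₁ ⟶ S)
    (y₂ : Y₂ ⟶ S) (f₁ : X₁ ⟶ Y₁) (f₂ : X₂ ⟶ Y₂) (p₁ : P ⟶ X₁) (p₂ : P ⟶ X₂)
    (hP : IsPullback p₁ p₂ (f₁ ≫ y₁) (f₂ ≫ y₂))
    (q₁ : Q ⟶ Y₁) (q₂ : Q ⟶ Y₂) (hQ : IsPullback q₁ q₂ y₁ y₂) (h : P ⟶ Q)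
    (hh₁ : h ≫ q₁ = p₁ ≫ f₁) (hh₂ : h ≫ q₂ = p₂ ≫ f₂)
    (L₁ : X₁.Modules) (hva₁ : RelProj.IsRelVeryAmple f₁ L₁)
    (L₂ : X₂.Modules) (hva₂ : RelProj.IsRelVeryAmple f₂ L₂) :
    RelProj.IsRelVeryAmple h
      (CohB1.tensorMod ((Scheme.Modules.pullback p₁).obj L₁)
        ((Scheme.Modules.pullback p₂).obj L₂)) := by
  obtain ⟨E₁, hE₁, 𝒮₁, j₁, hj₁, B₁, b₁, chart₁, hB₁, O₁, lam₁, hO₁, i₁, himm₁, hib₁, ⟨τ₁⟩⟩ := hva₁
  obtain ⟨E₂, hE₂, 𝒮₂, j₂, hj₂, B₂, b₂, chart₂, hB₂, O₂, lam₂, hO₂, i₂, himm₂, hib₂, ⟨τ₂⟩⟩ := hva₂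
  obtain ⟨hE₁', 𝒮₁', j₁', hj₁', B₁', b₁', chart₁', hB₁', O₁', lam₁', hO₁', g₁, H₁, ⟨ε₁⟩⟩ :=
    VeryAmpleBC.exists_baseChange q₁ E₁ hE₁ 𝒮₁ j₁ hj₁ b₁ chart₁ hB₁ 1 O₁ lam₁ hO₁
  obtain ⟨hE₂', 𝒮₂', j₂', hj₂', B₂', b₂', chart₂', hB₂', O₂', lam₂', hO₂', g₂, H₂, ⟨ε₂⟩⟩ :=
    VeryAmpleBC.exists_baseChange q₂ E₂ hE₂ 𝒮₂ j₂ hj₂ b₂ chart₂ hB₂ 1 O₂ lam₂ hO₂
  have hE₁q : ((Scheme.Modules.pullback q₁).obj E₁).IsQuasicoherent := hE₁'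
  have hE₂q : ((Scheme.Modules.pullback q₂).obj E₂).IsQuasicoherent := hE₂'
  have : IsImmersion i₁ := himm₁
  have : IsImmersion i₂ := himm₂
  -- the fibre product of the two bundles over `Q`
  let π₁ : pullback b₁' b₂' ⟶ B₁' := pullback.fst b₁' b₂'
  let π₂ : pullback b₁' b₂' ⟶ B₂' := pullback.snd b₁' b₂'
  have HT : IsPullback π₁ π₂ b₁' b₂' := IsPullback.of_hasPullback b₁' b₂'
  have hseg := isRelVeryAmple_boxTensor _ 𝒮₁' j₁' hj₁' b₁' chart₁' hB₁' O₁' lam₁' hO₁'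
    _ 𝒮₂' j₂' hj₂' b₂' chart₂' hB₂' O₂' lam₂' hO₂' π₁ π₂ HT
  have HTS := isPullback_paste9 hQ H₁ H₂ HT
  -- the morphism `k : P ⟶ T`
  have hc₁ : (p₁ ≫ i₁) ≫ b₁ = h ≫ q₁ := by rw [Category.assoc, hib₁, hh₁]
  have hc₂ : (p₂ ≫ i₂) ≫ b₂ = h ≫ q₂ := by rw [Category.assoc, hib₂, hh₂]
  let k₁ : P ⟶ B₁' := H₁.lift (p₁ ≫ i₁) h hc₁
  let k₂ : P ⟶ B₂' := H₂.lift (p₂ ≫ i₂) h hc₂
  have hk₁g : k₁ ≫ g₁ = p₁ ≫ i₁ := H₁.lift_fst _ _ _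
  have hk₁b : k₁ ≫ b₁' = h := H₁.lift_snd _ _ _
  have hk₂g : k₂ ≫ g₂ = p₂ ≫ i₂ := H₂.lift_fst _ _ _
  have hk₂b : k₂ ≫ b₂' = h := H₂.lift_snd _ _ _
  let k : P ⟶ pullback b₁' b₂' := pullback.lift k₁ k₂ (hk₁b.trans hk₂b.symm)
  have hkπ₁ : k ≫ π₁ = k₁ := pullback.lift_fst _ _ _
  have hkπ₂ : k ≫ π₂ = k₂ := pullback.lift_snd _ _ _
  have hkh : k ≫ (π₁ ≫ b₁') = h := by rw [← Category.assoc, hkπ₁, hk₁b]
  have hk1 : k ≫ (π₁ ≫ g₁) = p₁ ≫ i₁ := by rw [← Category.assoc, hkπ₁, hk₁g]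
  have hk2 : k ≫ (π₂ ≫ g₂) = p₂ ≫ i₂ := by rw [← Category.assoc, hkπ₂, hk₂g]
  -- `k` is an immersion
  have e₁ : f₁ ≫ y₁ = i₁ ≫ (b₁ ≫ y₁) := by rw [← Category.assoc, hib₁]
  have e₂ : f₂ ≫ y₂ = i₂ ≫ (b₂ ≫ y₂) := by rw [← Category.assoc, hib₂]
  haveI : MorphismProperty.IsStableUnderComposition (@IsImmersion.{u}) :=
    (inferInstance : MorphismProperty.IsMultiplicative
      (@IsImmersion.{u})).toIsStableUnderComposition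
  have hmap : IsImmersion (pullback.map (f₁ ≫ y₁) (f₂ ≫ y₂) (b₁ ≫ y₁) (b₂ ≫ y₂) i₁ i₂ (𝟙 S)
      ((Category.comp_id _).trans e₁) ((Category.comp_id _).trans e₂)) :=
    MorphismProperty.pullbackMap (P := @IsImmersion) himm₁ himm₂ e₁ e₂
  have hkeq : k = hP.isoPullback.hom ≫ pullback.map (f₁ ≫ y₁) (f₂ ≫ y₂) (b₁ ≫ y₁) (b₂ ≫ y₂)
      i₁ i₂ (𝟙 S) ((Category.comp_id _).trans e₁) ((Category.comp_id _).trans e₂) ≫
      HTS.isoPullback.inv := by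
    apply HTS.hom_ext
    · rw [hk1, Category.assoc, Category.assoc, IsPullback.isoPullback_inv_fst,
        pullback.lift_fst, ← Category.assoc, IsPullback.isoPullback_hom_fst]
    · rw [hk2, Category.assoc, Category.assoc, IsPullback.isoPullback_inv_snd,
        pullback.lift_snd, ← Category.assoc, IsPullback.isoPullback_hom_snd]
  have hkimm : IsImmersion k := by
    rw [hkeq]
    infer_instance
  -- very ampleness of the pullback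
  have hva := isRelVeryAmple_pullback_of_isImmersion k (π₁ ≫ b₁') _ hseg
  rw [hkh] at hva
  -- identification of the module
  have hgen₂ : 𝒮₂'.IsGenDegOne := ProjBundleQuot.isGenDegOne_of_isGrSymAlg _ 𝒮₂' j₂' hj₂'
  have hM₂ : PicF.IsInvertible ((Scheme.Modules.pullback π₂).obj O₂') :=
    Groth.Agent.Lib.helper11.InvMod.isInvertible_pullback π₂
      (RelTwistInvertible.isInvertible lam₂' hgen₂ hO₂')
  let iso₁ : (Scheme.Modules.pullback k).obj ((Scheme.Modules.pullback π₁).obj O₁') ≅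
      (Scheme.Modules.pullback p₁).obj L₁ :=
    (Scheme.Modules.pullback k).mapIso ((Scheme.Modules.pullback π₁).mapIso ε₁.symm ≪≫
      (Scheme.Modules.pullbackComp π₁ g₁).app O₁) ≪≫ pullCompIso k (π₁ ≫ g₁) p₁ i₁ hk1 O₁ ≪≫
      (Scheme.Modules.pullback p₁).mapIso τ₁.symm
  let iso₂ : (Scheme.Modules.pullback k).obj ((Scheme.Modules.pullback π₂).obj O₂') ≅
      (Scheme.Modules.pullback p₂).obj L₂ :=
    (Scheme.Modules.pullback k).mapIso ((Scheme.Modules.pullback π₂).mapIso ε₂.symm ≪≫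
      (Scheme.Modules.pullbackComp π₂ g₂).app O₂) ≪≫ pullCompIso k (π₂ ≫ g₂) p₂ i₂ hk2 O₂ ≪≫
      (Scheme.Modules.pullback p₂).mapIso τ₂.symm
  exact VAmpleIso.isRelVeryAmple_of_iso
    (Groth.Agent.Lib.helper12.PullTensor.pullTensorIso k _ _ hM₂ ≪≫
      Groth.Agent.Lib.Lead.ModTensor.tensorIso iso₁ iso₂) hva

end Groth.Agent.Lib.helper28.Segre2
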