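import Groth.Agent.Lib.Helper28.Segre2With
import Groth.Agent.Lib.Helper28.Segre2Prod
import Groth.Agent.Lib.Helper28.ProjectiveProps
import Groth.Agent.Lib.Helper12.RelProjProper
import Groth.Agent.Lib.Helper2.TensorQCoh

/-!
# Products of projective morphisms are projective (helper28; EGA II 5.5.5 (iv))

* `isProper_bundle`: the projective bundle of a quasi-coherent module of finite type is proper.
* `isProjective_prod_bundles`: `P(E₁) ×_Q P(E₂) ⟶ Q` is projective for `E₁`, `E₂` of finite type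
  (closed Segre embedding into `P(E₁ ⊗ E₂)`: the Segre immersion is proper, hence closed).
* `exists_prod_lift`: the product morphism `X₁ ×_S X₂ ⟶ B₁' ×_Q B₂'`.
* `isProjective_pullbackMap`: `f ×_S f'` is projective for projective `f`, `f'`.
-/

set_option autoImplicit false
set_option linter.style.haveILetI false
universe u
open CategoryTheory CategoryTheory.Limits AlgebraicGeometry TopologicalSpace Opposite

namespace Groth.Agent.Lib.helper28.Segre2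

open Groth.Agent.Lib.helper28

section Bundle

variable {Y P : Scheme.{u}} (E : Y.Modules) [E.IsQuasicoherent] (hE : CohB1.IsFT E)
  (𝒯 : RelProj.QCGrAlg Y) (j : E ⟶ 𝒯.toModule) (hj : RelProj.IsGrSymAlg E 𝒯 j) (p : P ⟶ Y)
  (chart : ∀ (U : Y.Opens) (hU : IsAffineOpen U),
    ((p ⁻¹ᵁ U : P.Opens) : Scheme.{u}) ≅ Proj (𝒯.deg U hU))
  (hP : RelProj.IsRelProj 𝒯 p chart)

include hE hj hP in
theorem isProjective_bundle : RelProj.IsProjective p := by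
  have h := ProjBundleClosed.isProjective_of_isClosedImmersion E hE 𝒯 j hj p chart hP (𝟙 P)
  rwa [Category.id_comp] at h

include hE hj hP in
theorem isProper_bundle : IsProper p :=
  Groth.Agent.Lib.helper12.RelProjProper.isProper_of_isProjective p
    (isProjective_bundle E hE 𝒯 j hj p chart hP)

end Bundle

section Two

variable {Q P₁ P₂ T : Scheme.{u}}
  (E₁ : Q.Modules) [E₁.IsQuasicoherent] (hE₁ : CohB1.IsFT E₁)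
  (𝒮₁ : RelProj.QCGrAlg Q) (j₁ : E₁ ⟶ 𝒮₁.toModule) (hj₁ : RelProj.IsGrSymAlg E₁ 𝒮₁ j₁)
  (p₁ : P₁ ⟶ Q)
  (chart₁ : ∀ (U : Q.Opens) (hU : IsAffineOpen U),
    ((p₁ ⁻¹ᵁ U : P₁.Opens) : Scheme.{u}) ≅ Proj (𝒮₁.deg U hU))
  (hP₁ : RelProj.IsRelProj 𝒮₁ p₁ chart₁)
  (E₂ : Q.Modules) [E₂.IsQuasicoherent] (hE₂ : CohB1.IsFT E₂)
  (𝒮₂ : RelProj.QCGrAlg Q) (j₂ : E₂ ⟶ 𝒮₂.toModule) (hj₂ : RelProj.IsGrSymAlg E₂ 𝒮₂ j₂)
  (p₂ : P₂ ⟶ Q)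
  (chart₂ : ∀ (U : Q.Opens) (hU : IsAffineOpen U),
    ((p₂ ⁻¹ᵁ U : P₂.Opens) : Scheme.{u}) ≅ Proj (𝒮₂.deg U hU))
  (hP₂ : RelProj.IsRelProj 𝒮₂ p₂ chart₂)
  (π₁ : T ⟶ P₁) (π₂ : T ⟶ P₂)

include hE₁ hj₁ hP₁ hE₂ hj₂ hP₂ in
/-- `P(E₁) ×_Q P(E₂) ⟶ Q` is projective for `E₁`, `E₂` quasi-coherent of finite type. -/
theorem isProjective_prod_bundles (H : IsPullback π₁ π₂ p₁ p₂) :
    RelProj.IsProjective (π₁ ≫ p₁) := by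
  obtain ⟨O₁, lam₁, hO₁⟩ := RelTwistExists.exists_isRelTwist 𝒮₁ p₁ chart₁ hP₁ 1
  obtain ⟨O₂, lam₂, hO₂⟩ := RelTwistExists.exists_isRelTwist 𝒮₂ p₂ chart₂ hP₂ 1
  obtain ⟨𝒮'', j'', hj'', P'', p'', chart'', hP'', O'', lam'', hO'', i'', himm'', hip'', -⟩ :=
    isVAWith_boxTensor E₁ 𝒮₁ j₁ hj₁ p₁ chart₁ hP₁ O₁ lam₁ hO₁ E₂ 𝒮₂ j₂ hj₂ p₂ chart₂ hP₂ O₂ lam₂
      hO₂ π₁ π₂ H
  have hE''q : (CohB1.tensorMod E₁ E₂).IsQuasicoherent :=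
    Groth.Agent.Lib.helper2.TensorQCoh.isQuasicoherent_tensorMod E₁ E₂
  have hE''ft : CohB1.IsFT (CohB1.tensorMod E₁ E₂) :=
    Groth.Agent.Lib.helper2.TensorQCoh.isFiniteType_tensorMod E₁ E₂ hE₁ hE₂
  have hp'' : IsProper p'' := isProper_bundle _ hE''ft 𝒮'' j'' hj'' p'' chart'' hP''
  have hp₁ : IsProper p₁ := isProper_bundle E₁ hE₁ 𝒮₁ j₁ hj₁ p₁ chart₁ hP₁
  have hp₂ : IsProper p₂ := isProper_bundle E₂ hE₂ 𝒮₂ j₂ hj₂ p₂ chart₂ hP₂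
  have hπ₁ : IsProper π₁ := MorphismProperty.of_isPullback (P := @IsProper) H.flip hp₂
  have hcomp : IsProper (i'' ≫ p'') := by
    rw [hip'']
    infer_instance
  have : IsImmersion i'' := himm''
  have hi''p : IsProper i'' := IsProper.of_comp i'' p''
  have hcl : IsClosedImmersion i'' :=
    IsClosedImmersion.of_isPreimmersion i'' i''.isClosedMap.isClosed_range
  exact (ProjectiveProps.isProjective_iff _).mpr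
    ⟨_, 𝒮'', j'', P'', p'', chart'', i'', hE''q, hE''ft, hj'', hP'', hcl, hip''⟩

end Two

section Lift

/-- The product morphism `X₁ ×_S X₂ ⟶ B₁' ×_Q B₂'` and its permanence properties. -/
theorem exists_prod_lift {S Y₁ Y₂ Q B₁ B₂ B₁' B₂' T X₁ X₂ P : Scheme.{u}}
    {y₁ : Y₁ ⟶ S} {y₂ : Y₂ ⟶ S} {q₁ : Q ⟶ Y₁} {q₂ : Q ⟶ Y₂} (hQ : IsPullback q₁ q₂ y₁ y₂)
    {b₁ : B₁ ⟶ Y₁} {g₁ : B₁' ⟶ B₁} {b₁' : B₁' ⟶ Q} (H₁ : IsPullback g₁ b₁' b₁ q₁)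
    {b₂ : B₂ ⟶ Y₂} {g₂ : B₂' ⟶ B₂} {b₂' : B₂' ⟶ Q} (H₂ : IsPullback g₂ b₂' b₂ q₂)
    {π₁ : T ⟶ B₁'} {π₂ : T ⟶ B₂'} (HT : IsPullback π₁ π₂ b₁' b₂')
    {f₁ : X₁ ⟶ Y₁} {f₂ : X₂ ⟶ Y₂} (i₁ : X₁ ⟶ B₁) (i₂ : X₂ ⟶ B₂) (hib₁ : i₁ ≫ b₁ = f₁)
    (hib₂ : i₂ ≫ b₂ = f₂) {p₁ : P ⟶ X₁} {p₂ : P ⟶ X₂}
    (hP : IsPullback p₁ p₂ (f₁ ≫ y₁) (f₂ ≫ y₂)) (h : P ⟶ Q) (hh₁ : h ≫ q₁ = p₁ ≫ f₁)
    (hh₂ : h ≫ q₂ = p₂ ≫ f₂) :
    ∃ k : P ⟶ T, k ≫ (π₁ ≫ b₁') = h ∧ k ≫ (π₁ ≫ g₁) = p₁ ≫ i₁ ∧ k ≫ (π₂ ≫ g₂) = p₂ ≫ i₂ ∧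
      ∀ (W : MorphismProperty Scheme.{u}) [W.IsStableUnderBaseChange]
        [W.IsStableUnderComposition], W i₁ → W i₂ → W k := by
  have HTS := isPullback_paste9 hQ H₁ H₂ HT
  have hc₁ : (p₁ ≫ i₁) ≫ b₁ = h ≫ q₁ := by rw [Category.assoc, hib₁, hh₁]
  have hc₂ : (p₂ ≫ i₂) ≫ b₂ = h ≫ q₂ := by rw [Category.assoc, hib₂, hh₂]
  have hk₁g : H₁.lift (p₁ ≫ i₁) h hc₁ ≫ g₁ = p₁ ≫ i₁ := H₁.lift_fst _ _ _
  have hk₁b : H₁.lift (p₁ ≫ i₁) h hc₁ ≫ b₁' = h := H₁.lift_snd _ _ _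
  have hk₂g : H₂.lift (p₂ ≫ i₂) h hc₂ ≫ g₂ = p₂ ≫ i₂ := H₂.lift_fst _ _ _
  have hk₂b : H₂.lift (p₂ ≫ i₂) h hc₂ ≫ b₂' = h := H₂.lift_snd _ _ _
  let k : P ⟶ T := HT.lift (H₁.lift (p₁ ≫ i₁) h hc₁) (H₂.lift (p₂ ≫ i₂) h hc₂)
    (hk₁b.trans hk₂b.symm)
  have hkπ₁ : k ≫ π₁ = H₁.lift (p₁ ≫ i₁) h hc₁ := HT.lift_fst _ _ _
  have hkπ₂ : k ≫ π₂ = H₂.lift (p₂ ≫ i₂) h hc₂ := HT.lift_snd _ _ _
  have hkh : k ≫ (π₁ ≫ b₁') = h := by rw [← Category.assoc, hkπ₁, hk₁b]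
  have hk1 : k ≫ (π₁ ≫ g₁) = p₁ ≫ i₁ := by rw [← Category.assoc, hkπ₁, hk₁g]
  have hk2 : k ≫ (π₂ ≫ g₂) = p₂ ≫ i₂ := by rw [← Category.assoc, hkπ₂, hk₂g]
  refine ⟨k, hkh, hk1, hk2, ?_⟩
  intro W _ _ hW₁ hW₂
  have e₁ : f₁ ≫ y₁ = i₁ ≫ (b₁ ≫ y₁) := by rw [← Category.assoc, hib₁]
  have e₂ : f₂ ≫ y₂ = i₂ ≫ (b₂ ≫ y₂) := by rw [← Category.assoc, hib₂]
  have hmap : W (pullback.map (f₁ ≫ y₁) (f₂ ≫ y₂) (b₁ ≫ y₁) (b₂ ≫ y₂) i₁ i₂ (𝟙 S)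
      ((Category.comp_id _).trans e₁) ((Category.comp_id _).trans e₂)) :=
    MorphismProperty.pullbackMap hW₁ hW₂ e₁ e₂
  have hkeq : k = hP.isoPullback.hom ≫ pullback.map (f₁ ≫ y₁) (f₂ ≫ y₂) (b₁ ≫ y₁) (b₂ ≫ y₂)
      i₁ i₂ (𝟙 S) ((Category.comp_id _).trans e₁) ((Category.comp_id _).trans e₂) ≫
      HTS.isoPullback.inv := by
    apply HTS.hom_ext
    · rw [hk1, Category.assoc, Category.assoc, IsPullback.isoPullback_inv_fst,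
        pullback.lift_fst, ← Category.assoc, IsPullback.isoPullback_hom_fst]
    · rw [hk2, Category.assoc, Category.assoc, IsPullback.isoPullback_inv_snd,
        pullback.lift_snd, ← Category.assoc, IsPullback.isoPullback_hom_snd]
  rw [hkeq, W.cancel_left_of_respectsIso, W.cancel_right_of_respectsIso]
  exact hmap

end Lift

/-- **EGA II 5.5.5 (iv)**: the product of two projective morphisms is projective. -/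
theorem isProjective_pullbackMap {X X' Y Y' S : Scheme.{u}} (a : Y ⟶ S) (a' : Y' ⟶ S)
    (f : X ⟶ Y) (f' : X' ⟶ Y') (hf : RelProj.IsProjective f) (hf' : RelProj.IsProjective f') :
    RelProj.IsProjective (pullback.map (f ≫ a) (f' ≫ a') a a' f f' (𝟙 S)
      (Category.comp_id (f ≫ a)) (Category.comp_id (f' ≫ a'))) := by
  obtain ⟨E₁, 𝒯₁, j₁, B₁, b₁, chart₁, i₁, hq₁, hE₁, hj₁, hB₁, hcl₁, hib₁⟩ :=
    (ProjectiveProps.isProjective_iff f).mp hf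
  obtain ⟨E₂, 𝒯₂, j₂, B₂, b₂, chart₂, i₂, hq₂, hE₂, hj₂, hB₂, hcl₂, hib₂⟩ :=
    (ProjectiveProps.isProjective_iff f').mp hf'
  have hQ : IsPullback (pullback.fst a a') (pullback.snd a a') a a' := IsPullback.of_hasPullback a a'
  obtain ⟨E₁', 𝒯₁', j₁', B₁', b₁', chart₁', g₁, hq₁', hE₁', hj₁', hB₁', H₁⟩ :=
    ProjectiveProps.exists_baseChange (pullback.fst a a') E₁ hq₁ hE₁ 𝒯₁ j₁ hj₁ b₁ chart₁ hB₁
  obtain ⟨E₂', 𝒯₂', j₂', B₂', b₂', chart₂', g₂, hq₂', hE₂', hj₂', hB₂', H₂⟩ :=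
    ProjectiveProps.exists_baseChange (pullback.snd a a') E₂ hq₂ hE₂ 𝒯₂ j₂ hj₂ b₂ chart₂ hB₂
  have : E₁'.IsQuasicoherent := hq₁'
  have : E₂'.IsQuasicoherent := hq₂'
  have HT : IsPullback (pullback.fst b₁' b₂') (pullback.snd b₁' b₂') b₁' b₂' :=
    IsPullback.of_hasPullback b₁' b₂'
  have hT : RelProj.IsProjective (pullback.fst b₁' b₂' ≫ b₁') :=
    isProjective_prod_bundles E₁' hE₁' 𝒯₁' j₁' hj₁' b₁' chart₁' hB₁' E₂' hE₂' 𝒯₂' j₂' hj₂' b₂'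
      chart₂' hB₂' _ _ HT
  have hP : IsPullback (pullback.fst (f ≫ a) (f' ≫ a')) (pullback.snd (f ≫ a) (f' ≫ a'))
      (f ≫ a) (f' ≫ a') := IsPullback.of_hasPullback _ _
  obtain ⟨k, hkh, -, -, hkW⟩ := exists_prod_lift hQ H₁ H₂ HT i₁ i₂ hib₁ hib₂ hP
    (pullback.map (f ≫ a) (f' ≫ a') a a' f f' (𝟙 S)
      (Category.comp_id (f ≫ a)) (Category.comp_id (f' ≫ a')))
    (pullback.lift_fst _ _ _) (pullback.lift_snd _ _ _)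
  haveI : MorphismProperty.IsStableUnderComposition (@IsClosedImmersion.{u}) :=
    (inferInstance : MorphismProperty.IsMultiplicative
      (@IsClosedImmersion.{u})).toIsStableUnderComposition
  have hkcl : IsClosedImmersion k := hkW @IsClosedImmersion hcl₁ hcl₂
  have h := ProjectiveProps.isProjective_closedImmersion_comp k _ hT
  rwa [hkh] at h

end Groth.Agent.Lib.helper28.Segre2
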