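import Groth.Agent.Lib.Helper28.Segre2Bundle

/-!
# The Segre construction with the target bundle exposed (helper28)

`IsVAWith q L E`: `L` is very ample relative to `q` through an immersion into the projective bundle
of the *given* quasi-coherent module `E`.  The theorems of `Segre2Main`, `Segre2Bundle` are repeated
in this form (`isVAWith_tensor_of_charts`, `isVAWith_boxTensor`: the bundle is that of `E ⊗ E'`).
-/

set_option autoImplicit false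
set_option linter.style.haveILetI false
set_option linter.unusedSectionVars false
universe u
open CategoryTheory CategoryTheory.Limits AlgebraicGeometry TopologicalSpace Opposite

namespace Groth.Agent.Lib.helper28.Segre2

open Groth.Agent.Lib.helper28 Groth.Agent.Lib.helper28.EpiGen
  Groth.Agent.Lib.helper28.ProjBundleHom Groth.Agent.Lib.helper28.RelTwistChart
  Groth.Agent.Lib.helper28.SegreCore Groth.Agent.Lib.helper28.ProjQGlue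

/-- `L` is very ample relative to `q` through the projective bundle of the given `E`. -/
def IsVAWith {X Y : Scheme.{u}} (q : X ⟶ Y) (L : X.Modules) (E : Y.Modules) : Prop :=
  ∃ (𝒮 : RelProj.QCGrAlg Y) (j : E ⟶ 𝒮.toModule) (_ : RelProj.IsGrSymAlg E 𝒮 j)
    (P : Scheme.{u}) (p : P ⟶ Y)
    (chart : ∀ (U : Y.Opens) (hU : IsAffineOpen U),
      (((p ⁻¹ᵁ U : P.Opens) : Scheme.{u}) ≅ Proj (𝒮.deg U hU)))
    (_ : RelProj.IsRelProj 𝒮 p chart) (O1 : P.Modules)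
    (lam : ∀ (U : Y.Opens) (hU : IsAffineOpen U),
      O1 ⟶ (Scheme.Modules.pushforward (RelProj.emb p chart U hU)).obj
        (GrTwist.twist (𝒮.deg U hU) 1))
    (_ : RelProj.IsRelTwist 𝒮 p chart 1 O1 lam) (i : X ⟶ P),
    IsImmersion i ∧ i ≫ p = q ∧ Nonempty (L ≅ (Scheme.Modules.pullback i).obj O1)

theorem IsVAWith.isRelVeryAmple {X Y : Scheme.{u}} {q : X ⟶ Y} {L : X.Modules} {E : Y.Modules}
    (hE : Coh.IsQCoh E) (h : IsVAWith q L E) : RelProj.IsRelVeryAmple q L := by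
  obtain ⟨𝒮, j, hj, P, p, chart, hP, O1, lam, hO1, i, hi, hip, he⟩ := h
  exact ⟨E, hE, 𝒮, j, hj, P, p, chart, hP, O1, lam, hO1, i, hi, hip, he⟩

section Gen

open Groth.Agent.Lib.helper28.VAmpleSec

variable {X Y PL : Scheme.{u}} (q : X ⟶ Y)
  (L : X.Modules) [L.IsQuasicoherent] (hL : PicF.IsInvertible L)
  (𝒮L : RelProj.QCGrAlg X) (jL : L ⟶ 𝒮L.toModule) (hjL : RelProj.IsGrSymAlg L 𝒮L jL)
  (pL : PL ⟶ X) (chartL : ∀ (U : X.Opens) (hU : IsAffineOpen U),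
    (((pL ⁻¹ᵁ U : PL.Opens) : Scheme.{u}) ≅ Proj (𝒮L.deg U hU)))
  (hPL : RelProj.IsRelProj 𝒮L pL chartL)
  (E : Y.Modules) [E.IsQuasicoherent] (𝒯 : RelProj.QCGrAlg Y) (jT : E ⟶ 𝒯.toModule)
  (h𝒯 : RelProj.IsGrSymAlg E 𝒯 jT) (u : RelProj.QGrHom q 𝒯 𝒮L)

include hL hjL hPL h𝒯 in
theorem isVAWith_of_domQ_eq_top (hdom : RelProj.domQ u pL chartL = ⊤)
    (himm : ∀ (P : Scheme.{u}) (p : P ⟶ Y)
      (chart : ∀ (U : Y.Opens) (hU : IsAffineOpen U),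
        (((p ⁻¹ᵁ U : P.Opens) : Scheme.{u}) ≅ Proj (𝒯.deg U hU)))
      (_ : RelProj.IsRelProj 𝒯 p chart)
      (r : ((RelProj.domQ u pL chartL : PL.Opens) : Scheme.{u}) ⟶ P)
      (_ : RelProj.IsProjQMapOn u p chart pL chartL (RelProj.domQ u pL chartL) r),
      IsImmersion r) :
    IsVAWith q L E := by
  obtain ⟨P, p, chart, hP⟩ := RelProjExists.exists_relProj 𝒯
  obtain ⟨r, hr₀, -⟩ := existsUnique_glue u (p := p) (chart := chart) (p' := pL)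
    (chart' := chartL) hP hPL
  have hr : RelProj.IsProjQMapOn u p chart pL chartL (RelProj.domQ u pL chartL) r :=
    (ProjQComp.isProjQMapOn_iff u r).mpr hr₀
  have himmr : IsImmersion r := himm P p chart hP r hr
  obtain ⟨O1, lam, hO1⟩ := RelTwistExists.exists_isRelTwist 𝒯 p chart hP 1
  have h1 : 𝒯.IsGenDegOne := ProjBundleQuot.isGenDegOne_of_isGrSymAlg E 𝒯 jT h𝒯
  have hsurj : ∀ x : X, ∃ (U : Y.Opens) (hU : IsAffineOpen U)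
      (e : 𝒯.presheaf.obj (op U)) (_ : e ∈ 𝒯.deg U hU 1) (V : X.Opens)
      (hV : IsAffineOpen V) (hVU : V ≤ q ⁻¹ᵁ U), x ∈ V ∧
        ((𝒮L.deg V hV 1 : AddSubgroup (𝒮L.presheaf.obj (op V))) :
          Set (𝒮L.presheaf.obj (op V))) ⊆
          (Ideal.span {(u.appLE U V hVU).hom e} : Set (𝒮L.presheaf.obj (op V))) := by
    intro x
    obtain ⟨U, hU, e', V, hV, hVU, hxV, hspan⟩ := RLpsiTwist.exists_gen_of_domQ_eq_top q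
      L hL 𝒮L jL hjL pL chartL hPL E 𝒯 jT h𝒯 u hdom x
    exact ⟨U, hU, _, h𝒯.2 U hU e', V, hV, hVU, hxV, hspan⟩
  obtain ⟨hpLiso, hιiso, i', hi'eq, hi'p, ⟨e'⟩⟩ := RLpsiTwist.exists_pullback_iso q L hL
    𝒮L jL hjL pL chartL hPL 𝒯 h1 u hsurj p chart hP r hr O1 lam hO1
  have himmi' : IsImmersion i' := by
    rw [hi'eq]
    infer_instance
  exact ⟨𝒯, jT, h𝒯, P, p, chart, hP, O1, lam, hO1, i', himmi', hi'p, ⟨e'⟩⟩

end Gen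

section Charts

variable {X Y : Scheme.{u}} (q : X ⟶ Y) (M : X.Modules) [M.IsQuasicoherent]
  (hM : PicF.IsInvertible M)
  (𝒮M : RelProj.QCGrAlg X) (jM : M ⟶ 𝒮M.toModule) (hjM : RelProj.IsGrSymAlg M 𝒮M jM)
  (E : Y.Modules) [E.IsQuasicoherent] (𝒯 : RelProj.QCGrAlg Y) (jT : E ⟶ 𝒯.toModule)
  (h𝒯 : RelProj.IsGrSymAlg E 𝒯 jT) (u : RelProj.QGrHom q 𝒯 𝒮M)

include hM hjM h𝒯 in
theorem isVAWith_of_charts
    (hloc : ∀ x : X, ∃ (U : Y.Opens) (hU : IsAffineOpen U) (n : ℕ) (_ : 0 < n)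
      (s : 𝒯.presheaf.obj (op U)) (_ : s ∈ 𝒯.deg U hU n),
      x ∈ RLpsiU.XT 𝒮M u U n s ∧ IsAffineOpen (RLpsiU.XT 𝒮M u U n s) ∧
      ∀ t : Γ(X, RLpsiU.XT 𝒮M u U n s),
        RLpsiU.H3 u U hU n s _ (RLpsiU.XT_le 𝒮M u U n s) t) :
    IsVAWith q M E := by
  obtain ⟨PL, pL, chartL, hPL⟩ := RelProjExists.exists_relProj 𝒮M
  have hdom : RelProj.domQ u pL chartL = ⊤ := by
    refine top_le_iff.mp fun z _ => ?_
    obtain ⟨U, hU, n, hn, s, hs, hx, -, -⟩ := hloc (pL z)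
    exact SymLineAmpleImm.mem_domQ_of_mem_XT u hjM U hU hn s hs z hx
  refine isVAWith_of_domQ_eq_top q M hM 𝒮M jM hjM pL chartL hPL E 𝒯 jT h𝒯 u hdom ?_
  intro P p chart hP r hr
  have hr₀ := (ProjQComp.isProjQMapOn_iff u r).mp hr
  refine RLpsiU.isImmersion_of_local M 𝒮M jM hjM u hM hP hPL r hr₀ fun x' => ?_
  obtain ⟨U, hU, n, hn, s, hs, hx, hXTaff, hH3⟩ := hloc (pL ((RelProj.domQ u pL chartL).ι x'))
  refine ⟨U, hU, n, hn, s, hs, hx, hXTaff, ?_⟩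
  rw [RLpsiU.surjective_awayMap_iff M 𝒮M jM hjM u hM hP hPL r hr₀ U hU hn s hs hXTaff]
  exact hH3

end Charts

section Tensor

variable {X Y : Scheme.{u}} (q : X ⟶ Y) (L L' : X.Modules)

theorem isVAWith_tensor_of_charts (hL : PicF.IsInvertible L) (hL' : PicF.IsInvertible L')
    (E E' : Y.Modules) [E.IsQuasicoherent] [E'.IsQuasicoherent]
    (β : E ⟶ (Scheme.Modules.pushforward q).obj L)
    (β' : E' ⟶ (Scheme.Modules.pushforward q).obj L')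
    (hloc : ∀ x : X, ∃ (U : Y.Opens) (_ : IsAffineOpen U) (e : Γ(E, U)) (e' : Γ(E', U))
      (D D' : X.Opens) (hle : D ⊓ D' ≤ q ⁻¹ᵁ U),
      IsGenOn L (q ⁻¹ᵁ U) ((β.app U).hom e) D ∧
      (∀ (V : X.Opens) (_ : IsAffineOpen V) (hV : V ≤ q ⁻¹ᵁ U),
        Function.Bijective (fun c : Γ(X, V) => c • bsec q β U e V hV) → V ≤ D) ∧
      IsGenOn L' (q ⁻¹ᵁ U) ((β'.app U).hom e') D' ∧
      (∀ (V : X.Opens) (_ : IsAffineOpen V) (hV : V ≤ q ⁻¹ᵁ U),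
        Function.Bijective (fun c : Γ(X, V) => c • bsec q β' U e' V hV) → V ≤ D') ∧
      x ∈ D ⊓ D' ∧ IsAffineOpen (D ⊓ D') ∧
      ∀ t : Γ(X, D ⊓ D'), t ∈ Subring.closure
        ({g | ∃ a : Γ(E, U), g • bsec q β U e (D ⊓ D') hle = bsec q β U a (D ⊓ D') hle} ∪
         {g | ∃ a' : Γ(E', U), g • bsec q β' U e' (D ⊓ D') hle = bsec q β' U a' (D ⊓ D') hle})) :
    IsVAWith q (CohB1.tensorMod L L') (CohB1.tensorMod E E') := by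
  have hLq : L.IsQuasicoherent :=
    Groth.Agent.Lib.helper12.AmpleBasis.isQuasicoherent_of_isInvertible hL
  have hL'q : L'.IsQuasicoherent :=
    Groth.Agent.Lib.helper12.AmpleBasis.isQuasicoherent_of_isInvertible hL'
  have hL'' : PicF.IsInvertible (CohB1.tensorMod L L') :=
    Groth.Agent.Lib.helper12.TensorInv.isInvertible_tensorMod hL hL'
  have hL''q : (CohB1.tensorMod L L').IsQuasicoherent :=
    Groth.Agent.Lib.helper12.AmpleBasis.isQuasicoherent_of_isInvertible hL''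
  have hE''q : (CohB1.tensorMod E E').IsQuasicoherent :=
    Groth.Agent.Lib.helper2.TensorQCoh.isQuasicoherent_tensorMod E E'
  obtain ⟨𝒮L'', jL'', hjL''⟩ := SymGradedExists.exists_isGrSymAlg (CohB1.tensorMod L L')
  obtain ⟨𝒮'', j'', hj''⟩ := SymGradedExists.exists_isGrSymAlg (CohB1.tensorMod E E')
  refine isVAWith_of_charts q (CohB1.tensorMod L L') hL'' 𝒮L'' jL'' hjL''
    (CohB1.tensorMod E E') 𝒮'' j'' hj'' (uu2 q L L' 𝒮L'' jL'' hjL'' E E' 𝒮'' j'' hj'' β β')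
    fun x => ?_
  obtain ⟨U, hU, e, e', D, D', hle, hD, hDmax, hD', hD'max, hx, haff, hgen⟩ := hloc x
  have heq := XT2_eq q L L' 𝒮L'' jL'' hjL'' E E' 𝒮'' j'' hj'' β β' hL hL' U hU e e' D D'
    hD hDmax hD' hD'max
  refine ⟨U, hU, 1, one_pos, s2 E E' 𝒮'' j'' U e e', s2_mem E E' 𝒮'' j'' hj'' U hU e e', ?_, ?_, ?_⟩
  · rw [heq]
    exact hx
  · rw [heq]
    exact haff
  · refine RLpsiU.H3.congr_open (hle := hle) heq.symm _ (fun t => ?_)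
    refine H3_of_closure q _ U hU 1 _ (s2_mem E E' 𝒮'' j'' hj'' U hU e e') _ hle _ ?_ t (hgen t)
    rintro g (⟨a, ha⟩ | ⟨a', ha'⟩)
    · exact H3_ratio_left q L L' 𝒮L'' jL'' hjL'' E E' 𝒮'' j'' hj'' β β' U hU e e' _ haff hle a g ha
    · exact H3_ratio_right q L L' 𝒮L'' jL'' hjL'' E E' 𝒮'' j'' hj'' β β' U hU e e' _ haff hle a' g
        ha'

end Tensor

section Two

variable {Q P₁ P₂ T : Scheme.{u}}
  (E₁ : Q.Modules) [E₁.IsQuasicoherent]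
  (𝒮₁ : RelProj.QCGrAlg Q) (j₁ : E₁ ⟶ 𝒮₁.toModule) (hj₁ : RelProj.IsGrSymAlg E₁ 𝒮₁ j₁)
  (p₁ : P₁ ⟶ Q)
  (chart₁ : ∀ (U : Q.Opens) (hU : IsAffineOpen U),
    ((p₁ ⁻¹ᵁ U : P₁.Opens) : Scheme.{u}) ≅ Proj (𝒮₁.deg U hU))
  (hP₁ : RelProj.IsRelProj 𝒮₁ p₁ chart₁) (O₁ : P₁.Modules)
  (lam₁ : ∀ (U : Q.Opens) (hU : IsAffineOpen U),
    O₁ ⟶ (Scheme.Modules.pushforward (RelProj.emb p₁ chart₁ U hU)).obj
      (GrTwist.twist (𝒮₁.deg U hU) 1))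
  (hO₁ : RelProj.IsRelTwist 𝒮₁ p₁ chart₁ 1 O₁ lam₁)
  (E₂ : Q.Modules) [E₂.IsQuasicoherent]
  (𝒮₂ : RelProj.QCGrAlg Q) (j₂ : E₂ ⟶ 𝒮₂.toModule) (hj₂ : RelProj.IsGrSymAlg E₂ 𝒮₂ j₂)
  (p₂ : P₂ ⟶ Q)
  (chart₂ : ∀ (U : Q.Opens) (hU : IsAffineOpen U),
    ((p₂ ⁻¹ᵁ U : P₂.Opens) : Scheme.{u}) ≅ Proj (𝒮₂.deg U hU))
  (hP₂ : RelProj.IsRelProj 𝒮₂ p₂ chart₂) (O₂ : P₂.Modules)
  (lam₂ : ∀ (U : Q.Opens) (hU : IsAffineOpen U),
    O₂ ⟶ (Scheme.Modules.pushforward (RelProj.emb p₂ chart₂ U hU)).obj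
      (GrTwist.twist (𝒮₂.deg U hU) 1))
  (hO₂ : RelProj.IsRelTwist 𝒮₂ p₂ chart₂ 1 O₂ lam₂)
  (π₁ : T ⟶ P₁) (π₂ : T ⟶ P₂)

include hj₁ hP₁ hO₁ hj₂ hP₂ hO₂ in
/-- **Segre for bundles**, with the target bundle `P(E₁ ⊗ E₂)` exposed. -/
theorem isVAWith_boxTensor (H : IsPullback π₁ π₂ p₁ p₂) :
    IsVAWith (π₁ ≫ p₁)
      (CohB1.tensorMod ((Scheme.Modules.pullback π₁).obj O₁)
        ((Scheme.Modules.pullback π₂).obj O₂)) (CohB1.tensorMod E₁ E₂) := by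
  have hgen₁ : 𝒮₁.IsGenDegOne := ProjBundleQuot.isGenDegOne_of_isGrSymAlg E₁ 𝒮₁ j₁ hj₁
  have hgen₂ : 𝒮₂.IsGenDegOne := ProjBundleQuot.isGenDegOne_of_isGrSymAlg E₂ 𝒮₂ j₂ hj₂
  have hL₁ : PicF.IsInvertible ((Scheme.Modules.pullback π₁).obj O₁) :=
    Groth.Agent.Lib.helper11.InvMod.isInvertible_pullback π₁
      (RelTwistInvertible.isInvertible lam₁ hgen₁ hO₁)
  have hL₂ : PicF.IsInvertible ((Scheme.Modules.pullback π₂).obj O₂) :=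
    Groth.Agent.Lib.helper11.InvMod.isInvertible_pullback π₂
      (RelTwistInvertible.isInvertible lam₂ hgen₂ hO₂)
  obtain ⟨β₁, hβ₁⟩ := exists_factor_data E₁ 𝒮₁ j₁ hj₁ p₁ chart₁ hP₁ O₁ lam₁ hO₁ π₁ (π₁ ≫ p₁) rfl
  obtain ⟨β₂, hβ₂⟩ := exists_factor_data E₂ 𝒮₂ j₂ hj₂ p₂ chart₂ hP₂ O₂ lam₂ hO₂ π₂ (π₁ ≫ p₁)
    H.w.symm
  refine isVAWith_tensor_of_charts (π₁ ≫ p₁) _ _ hL₁ hL₂ E₁ E₂ β₁ β₂ fun x => ?_
  obtain ⟨U, hU, hxU, -⟩ := (Opens.isBasis_iff_nbhd.mp Q.isBasis_affineOpens)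
    (show (π₁ ≫ p₁) x ∈ (⊤ : Q.Opens) from trivial)
  have hxU₂ : p₂ (π₂ x) ∈ U := by
    have h1 : (π₂ ≫ p₂) x = (π₁ ≫ p₁) x := by rw [H.w]
    exact h1 ▸ hxU
  obtain ⟨e₁, he₁⟩ := exists_mem_Wp E₁ 𝒮₁ j₁ hj₁ p₁ chart₁ U hU (π₁ x) hxU
  obtain ⟨e₂, he₂⟩ := exists_mem_Wp E₂ 𝒮₂ j₂ hj₂ p₂ chart₂ U hU (π₂ x) hxU₂
  obtain ⟨hg₁, hmax₁, hrat₁⟩ := hβ₁ U hU e₁
  obtain ⟨hg₂, hmax₂, hrat₂⟩ := hβ₂ U hU e₂
  have hle : π₁ ⁻¹ᵁ Wp E₁ 𝒮₁ j₁ p₁ chart₁ U hU e₁ ⊓ π₂ ⁻¹ᵁ Wp E₂ 𝒮₂ j₂ p₂ chart₂ U hU e₂ ≤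
      (π₁ ≫ p₁) ⁻¹ᵁ U := inf_le_left.trans hg₁.1
  refine ⟨U, hU, e₁, e₂, π₁ ⁻¹ᵁ Wp E₁ 𝒮₁ j₁ p₁ chart₁ U hU e₁,
    π₂ ⁻¹ᵁ Wp E₂ 𝒮₂ j₂ p₂ chart₂ U hU e₂, hle, hg₁, hmax₁, hg₂, hmax₂, ⟨he₁, he₂⟩, ?_, ?_⟩
  · exact isAffineOpen_inf_of_isPullback H hU (isAffineOpen_Wp E₁ 𝒮₁ j₁ hj₁ p₁ chart₁ U hU e₁)
      (isAffineOpen_Wp E₂ 𝒮₂ j₂ hj₂ p₂ chart₂ U hU e₂) (Wp_le E₁ 𝒮₁ j₁ p₁ chart₁ U hU e₁)
      (Wp_le E₂ 𝒮₂ j₂ p₂ chart₂ U hU e₂)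
  · intro t
    have ht := mem_closure_of_isPullback H hU (isAffineOpen_Wp E₁ 𝒮₁ j₁ hj₁ p₁ chart₁ U hU e₁)
      (isAffineOpen_Wp E₂ 𝒮₂ j₂ hj₂ p₂ chart₂ U hU e₂) (Wp_le E₁ 𝒮₁ j₁ p₁ chart₁ U hU e₁)
      (Wp_le E₂ 𝒮₂ j₂ p₂ chart₂ U hU e₂) t
    refine (Subring.closure_le.mpr ?_) ht
    rintro g (⟨b, rfl⟩ | ⟨b, rfl⟩)
    · have hb := mem_closure_fn E₁ 𝒮₁ j₁ hj₁ p₁ chart₁ U hU e₁ b
      induction hb using Subring.closure_induction with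
      | mem y hy =>
        obtain ⟨a, rfl⟩ := hy
        exact Subring.subset_closure (Or.inl ⟨a, hrat₁ a _ inf_le_left hle⟩)
      | zero => rw [map_zero]; exact Subring.zero_mem _
      | one => rw [map_one]; exact Subring.one_mem _
      | add x y _ _ hx hy => rw [map_add]; exact Subring.add_mem _ hx hy
      | neg x _ hx => rw [map_neg]; exact Subring.neg_mem _ hx
      | mul x y _ _ hx hy => rw [map_mul]; exact Subring.mul_mem _ hx hy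
    · have hb := mem_closure_fn E₂ 𝒮₂ j₂ hj₂ p₂ chart₂ U hU e₂ b
      induction hb using Subring.closure_induction with
      | mem y hy =>
        obtain ⟨a, rfl⟩ := hy
        exact Subring.subset_closure (Or.inr ⟨a, hrat₂ a _ inf_le_right hle⟩)
      | zero => rw [map_zero]; exact Subring.zero_mem _
      | one => rw [map_one]; exact Subring.one_mem _
      | add x y _ _ hx hy => rw [map_add]; exact Subring.add_mem _ hx hy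
      | neg x _ hx => rw [map_neg]; exact Subring.neg_mem _ hx
      | mul x y _ _ hx hy => rw [map_mul]; exact Subring.mul_mem _ hx hy

end Two

end Groth.Agent.Lib.helper28.Segre2
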