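import Groth.Agent.Lib.Helper28.SegreLocal
import Groth.Agent.Lib.Helper28.VAmpleData
import Groth.Agent.Lib.Helper28.EpiGen
import Groth.Agent.Lib.Helper12.PullTensor

/-!
# The one-sided Segre construction: comparison of `X_t` and of condition `H3` (helper28)

`q : X ⟶ Y`, `L`, `L'` invertible on `X`, `β : E ⟶ q_* L`, `β' : E' ⟶ q_* L'`,
`β2 = β ⊗ β' : E ⊗ E' ⟶ q_*(L ⊗ L')`, `u = Sym(β)` (`uu`), `u'' = Sym(β2)` (`uu2`).  For a section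
`e'` of `E'` over an affine open `U` of `Y`:
* `theta : Sym(E)(U) → Sym(E ⊗ E')(U)`, `e ↦ e ⊗ e'`; `lamV : 𝒮L(V) → 𝒮L''(V)`, `m ↦ m ⊗ β'(e')`;
* `comm`: `u'' ∘ θ = Λ ∘ u`;
* `XT_le_XT2`, `XT2_le_XT`: `X_{u''(θ a)} = X_{u a}` when `β'(e')` generates `L'` over `X_{u a}`;
* `H3_transfer`: condition `H3` for `(u, a)` gives it for `(u'', θ a)`.
-/

set_option autoImplicit false
set_option linter.style.haveILetI false
set_option linter.unusedSectionVars false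
universe u
open CategoryTheory AlgebraicGeometry TopologicalSpace Opposite TensorProduct

namespace Groth.Agent.Lib.helper28.SegreCore

open Groth.Agent.Lib.helper28.SymLinePow Groth.Agent.Lib.helper28.SymLineGenLocus
  Groth.Agent.Lib.helper28.SegreTwist Groth.Agent.Lib.helper11.TensorASec
  Groth.Agent.Lib.helper28.SymAlg Groth.Agent.Lib.helper28.SymLoc
  Groth.Agent.Lib.helper28.SymSheaf Groth.Agent.Lib.helper28
  Groth.Agent.Lib.helper28.SegreLocal Groth.Agent.Lib.helper28.EpiGen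
  Groth.Agent.Lib.helper28.PairGlue

section General

variable {X Y : Scheme.{u}} (f : X ⟶ Y) (E : Y.Modules) [E.IsQuasicoherent]
  (𝒯 : RelProj.QCGrAlg Y) (j : E ⟶ 𝒯.toModule) (hj : RelProj.IsGrSymAlg E 𝒯 j)
  (M : X.Modules) [M.IsQuasicoherent]
  (m : E ⟶ (Scheme.Modules.pushforward f).obj M)
  (𝒮' : RelProj.QCGrAlg X) (jM' : M ⟶ 𝒮'.toModule)
  (hjM : ∀ (V : X.Opens) (hV : IsAffineOpen V) (x : Γ(M, V)), (jM'.app V) x ∈ 𝒮'.deg V hV 1)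

theorem qGrHom_appLE_j (U : Y.Opens) (hU : IsAffineOpen U) (U' : X.Opens)
    (hU' : IsAffineOpen U') (hle : U' ≤ f ⁻¹ᵁ U) (e : Γ(E, U)) :
    ((SymPairLift.qGrHom f E 𝒯 j hj M m 𝒮' jM' hjM).appLE U U' hle).hom ((j.app U).hom e) =
      (jM'.app U').hom (M.presheaf.map (homOfLE hle).op
        (show Γ(M, f ⁻¹ᵁ U) from (m.app U).hom e)) := by
  have h := congrArg (fun k => k.hom ((j.app U).hom e))
    (toQGrHom_appLE (SymPairLift.pairAlgHom f E 𝒯 j hj M 𝒮'.toQCAlg jM' m)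
      (fun U hU U' hU' hle d x hx =>
        SymPairLift.pairRing_mem f E 𝒯 j hj M m 𝒮' jM' hjM U hU U' hU' hle d x hx)
      U hU U' hU' hle)
  refine h.trans ?_
  exact SymPairLift.pairRing_j f E 𝒯 j hj M 𝒮'.toQCAlg jM' m U hU U' hle e

end General

variable {X Y : Scheme.{u}} (q : X ⟶ Y)
  (L L' : X.Modules) [L.IsQuasicoherent] [L'.IsQuasicoherent]
  [(CohB1.tensorMod L L').IsQuasicoherent]
  (𝒮L : RelProj.QCGrAlg X) (jL : L ⟶ 𝒮L.toModule) (hjL : RelProj.IsGrSymAlg L 𝒮L jL)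
  (𝒮L'' : RelProj.QCGrAlg X) (jL'' : CohB1.tensorMod L L' ⟶ 𝒮L''.toModule)
  (hjL'' : RelProj.IsGrSymAlg (CohB1.tensorMod L L') 𝒮L'' jL'')
  (E E' : Y.Modules) [E.IsQuasicoherent] [E'.IsQuasicoherent]
  [(CohB1.tensorMod E E').IsQuasicoherent]
  (𝒮 : RelProj.QCGrAlg Y) (j : E ⟶ 𝒮.toModule) (hj : RelProj.IsGrSymAlg E 𝒮 j)
  (𝒮'' : RelProj.QCGrAlg Y) (j'' : CohB1.tensorMod E E' ⟶ 𝒮''.toModule)
  (hj'' : RelProj.IsGrSymAlg (CohB1.tensorMod E E') 𝒮'' j'')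
  (β : E ⟶ (Scheme.Modules.pushforward q).obj L)
  (β' : E' ⟶ (Scheme.Modules.pushforward q).obj L')

/-- `E ⊗ E' ⟶ q_*(L ⊗ L')`. -/
noncomputable def β2 : CohB1.tensorMod E E' ⟶
    (Scheme.Modules.pushforward q).obj (CohB1.tensorMod L L') :=
  Groth.Agent.Lib.Lead.ModTensor.tensorMap β β' ≫
    Groth.Agent.Lib.helper12.PullTensor.laxHom q L L'

omit [L.IsQuasicoherent] [L'.IsQuasicoherent] [(CohB1.tensorMod L L').IsQuasicoherent]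
  [E.IsQuasicoherent] [E'.IsQuasicoherent] [(CohB1.tensorMod E E').IsQuasicoherent] in
theorem β2_tm (U : Y.Opens) (e : Γ(E, U)) (e' : Γ(E', U)) :
    ((β2 q L L' E E' β β').app U).hom (tm E E' U e e') =
      tm L L' (q ⁻¹ᵁ U) (show Γ(L, q ⁻¹ᵁ U) from (β.app U).hom e)
        (show Γ(L', q ⁻¹ᵁ U) from (β'.app U).hom e') := by
  change ((Groth.Agent.Lib.helper12.PullTensor.laxHom q L L').val.app (op U)).hom
    (((Groth.Agent.Lib.Lead.ModTensor.tensorMap β β').val.app (op U)).hom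
      (SecTwist.tmul E E' U e e')) = _
  refine (congrArg (fun z => ((Groth.Agent.Lib.helper12.PullTensor.laxHom q L L').val.app
    (op U)).hom z) (Groth.Agent.Lib.helper12.PullTensor.tensorMap_tmul β β' U e e')).trans ?_
  exact Groth.Agent.Lib.helper12.PullTensor.laxHom_tmul q L L' U _ _

/-- `Sym(β) : 𝒮 → q_* 𝒮L`. -/
noncomputable abbrev uu : RelProj.QGrHom q 𝒮 𝒮L :=
  SymPairLift.qGrHom q E 𝒮 j hj L β 𝒮L jL hjL.2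

/-- `Sym(β ⊗ β') : 𝒮'' → q_* 𝒮L''`. -/
noncomputable abbrev uu2 : RelProj.QGrHom q 𝒮'' 𝒮L'' :=
  SymPairLift.qGrHom q (CohB1.tensorMod E E') 𝒮'' j'' hj'' (CohB1.tensorMod L L')
    (β2 q L L' E E' β β') 𝒮L'' jL'' hjL''.2

section Comm

variable (U : Y.Opens) (hU : IsAffineOpen U) (e' : Γ(E', U))

/-- `θ : 𝒮(U) → 𝒮''(U)`, `j(e) ↦ j''(e ⊗ e')`. -/
noncomputable abbrev theta : 𝒮.presheaf.obj (op U) →+* 𝒮''.presheaf.obj (op U) :=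
  tw E 𝒮 j hj E' 𝒮''.toQCAlg j'' U e' hU

/-- The section `t' = β'(e')` of `L'` over `q⁻¹ U`. -/
noncomputable abbrev tsec : Γ(L', q ⁻¹ᵁ U) := (β'.app U).hom e'

/-- `Λ_V : 𝒮L(V) → 𝒮L''(V)`, `jL(m) ↦ jL''(m ⊗ t'|_V)`. -/
noncomputable abbrev lamV (V : X.Opens) (hV : IsAffineOpen V) (hle : V ≤ q ⁻¹ᵁ U) :
    𝒮L.presheaf.obj (op V) →+* 𝒮L''.presheaf.obj (op V) :=
  tw L 𝒮L jL hjL L' 𝒮L''.toQCAlg jL'' V
    (L'.presheaf.map (homOfLE hle).op (tsec q L' E' β' U e')) hV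

/-- The square `u'' ∘ θ = Λ ∘ u`. -/
theorem comm (V : X.Opens) (hV : IsAffineOpen V) (hle : V ≤ q ⁻¹ᵁ U)
    (a : 𝒮.presheaf.obj (op U)) :
    ((uu2 q L L' 𝒮L'' jL'' hjL'' E E' 𝒮'' j'' hj'' β β').appLE U V hle).hom
        (theta E E' 𝒮 j hj 𝒮'' j'' U hU e' a) =
      lamV q L L' 𝒮L jL hjL 𝒮L'' jL'' E' β' U e' V hV hle
        (((uu q L 𝒮L jL hjL E 𝒮 j hj β).appLE U V hle).hom a) := by
  have key := Groth.Agent.Lib.helper28.SymPair.ringHom_ext_of_str_j E 𝒮.toQCAlg j hj.1 U hU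
    (((uu2 q L L' 𝒮L'' jL'' hjL'' E E' 𝒮'' j'' hj'' β β').appLE U V hle).hom.comp
      (theta E E' 𝒮 j hj 𝒮'' j'' U hU e'))
    ((lamV q L L' 𝒮L jL hjL 𝒮L'' jL'' E' β' U e' V hV hle).comp
      ((uu q L 𝒮L jL hjL E 𝒮 j hj β).appLE U V hle).hom) ?_ ?_
  · exact congrArg (fun k => k a) key
  · intro r
    change ((uu2 q L L' 𝒮L'' jL'' hjL'' E E' 𝒮'' j'' hj'' β β').appLE U V hle).hom
        (theta E E' 𝒮 j hj 𝒮'' j'' U hU e' ((𝒮.str.app (op U)).hom r)) =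
      lamV q L L' 𝒮L jL hjL 𝒮L'' jL'' E' β' U e' V hV hle
        (((uu q L 𝒮L jL hjL E 𝒮 j hj β).appLE U V hle).hom ((𝒮.str.app (op U)).hom r))
    rw [tw_str]
    have h1 := congrArg (fun k => k.hom r)
      ((uu2 q L L' 𝒮L'' jL'' hjL'' E E' 𝒮'' j'' hj'' β β').toQHom.str_appLE U V hle)
    have h2 := congrArg (fun k => k.hom r)
      ((uu q L 𝒮L jL hjL E 𝒮 j hj β).toQHom.str_appLE U V hle)
    simp only [CommRingCat.hom_comp, RingHom.coe_comp, Function.comp_apply] at h1 h2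
    refine h1.trans ?_
    refine Eq.trans ?_ (congrArg (lamV q L L' 𝒮L jL hjL 𝒮L'' jL'' E' β' U e' V hV hle) h2.symm)
    exact (tw_str L 𝒮L jL hjL L' 𝒮L''.toQCAlg jL'' V _ hV _).symm
  · intro e
    change ((uu2 q L L' 𝒮L'' jL'' hjL'' E E' 𝒮'' j'' hj'' β β').appLE U V hle).hom
        (theta E E' 𝒮 j hj 𝒮'' j'' U hU e' ((j.app U).hom e)) =
      lamV q L L' 𝒮L jL hjL 𝒮L'' jL'' E' β' U e' V hV hle
        (((uu q L 𝒮L jL hjL E 𝒮 j hj β).appLE U V hle).hom ((j.app U).hom e))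
    rw [tw_j]
    have h2 := qGrHom_appLE_j q E 𝒮 j hj L β 𝒮L jL hjL.2 U hU V hV hle e
    refine Eq.trans ?_ (congrArg (lamV q L L' 𝒮L jL hjL 𝒮L'' jL'' E' β' U e' V hV hle) h2.symm)
    refine Eq.trans ?_ (tw_j L 𝒮L jL hjL L' 𝒮L''.toQCAlg jL'' V _ hV _).symm
    have h1 := qGrHom_appLE_j q (CohB1.tensorMod E E') 𝒮'' j'' hj'' (CohB1.tensorMod L L')
      (β2 q L L' E E' β β') 𝒮L'' jL'' hjL''.2 U hU V hV hle (tm E E' U e e')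
    refine h1.trans ?_
    change (jL''.app V).hom _ = (jL''.app V).hom _
    congr 1
    rw [β2_tm]
    exact tm_res L L' (homOfLE hle) _ _

end Comm

section Gen

omit [L.IsQuasicoherent] [(CohB1.tensorMod L L').IsQuasicoherent] in
/-- Every point has an open neighbourhood all of whose affine opens carry a free generator. -/
theorem exists_open_generator (hL' : PicF.IsInvertible L') (x : X) :
    ∃ U₀ : X.Opens, x ∈ U₀ ∧ ∀ V : X.Opens, IsAffineOpen V → V ≤ U₀ →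
      ∃ ℓ' : Γ(L', V), Function.Bijective (fun c : Γ(X, V) => c • ℓ') := by
  obtain ⟨U, hxU, ⟨iso⟩⟩ :=
    (Groth.Agent.Lib.helper16.FLF.isInvertible_iff_isFinLocFreeOfRank_one L').mp hL' x
  refine ⟨U, hxU, fun V hV hVU => ?_⟩
  obtain ⟨iso'⟩ := Groth.Agent.Lib.helper16.FLF.restrict_iso_freeMod_of_le L' hVU 1 iso
  obtain ⟨e⟩ := Groth.Agent.Lib.helper16.FLF.sections_of_restrict_iso_freeMod L' hV 1 iso'
  obtain ⟨g, hg1, -⟩ := Groth.Agent.Lib.helper28.CanonIso.exists_gen_bijective' e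
  exact ⟨g, hg1⟩

end Gen

section Wrap

variable {V : X.Opens} (D : GenData L 𝒮L jL V)

include hjL'' in
/-- (LL1) with `f' = 1`. -/
theorem span_tw_of_span (t' : Γ(L', V))
    (ht' : Function.Bijective (fun c : Γ(X, V) => c • t')) (n : ℕ)
    (σ : 𝒮L.presheaf.obj (op V)) (hσ : σ ∈ 𝒮L.deg V D.hV n)
    (h : ((𝒮L.deg V D.hV n : AddSubgroup (𝒮L.presheaf.obj (op V))) :
        Set (𝒮L.presheaf.obj (op V))) ⊆ (Ideal.span {σ} : Set (𝒮L.presheaf.obj (op V)))) :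
    ((𝒮L''.deg V D.hV n : AddSubgroup (𝒮L''.presheaf.obj (op V))) :
        Set (𝒮L''.presheaf.obj (op V))) ⊆
      (Ideal.span {tw L 𝒮L jL hjL L' 𝒮L''.toQCAlg jL'' V t' D.hV σ} :
        Set (𝒮L''.presheaf.obj (op V))) := by
  have h1 : ((𝒮L''.deg V D.hV n : AddSubgroup (𝒮L''.presheaf.obj (op V))) :
        Set (𝒮L''.presheaf.obj (op V))) ⊆
      (Ideal.span {tw L 𝒮L jL hjL L' 𝒮L''.toQCAlg jL'' V ((1 : Γ(X, V)) • t') D.hV σ} :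
        Set (𝒮L''.presheaf.obj (op V))) :=
    span_lam_of_span L L' 𝒮L jL hjL 𝒮L'' jL'' hjL'' D t' ht' 1 isUnit_one n σ hσ h
  have h2 : (1 : Γ(X, V)) • t' = t' := one_smul _ _
  rw [h2] at h1
  exact h1

include hjL'' in
/-- (LL2) for `t' = f' • ℓ'`. -/
theorem span_of_span_tw (ℓ' : Γ(L', V))
    (hℓ' : Function.Bijective (fun c : Γ(X, V) => c • ℓ')) (t' : Γ(L', V)) (n : ℕ)
    (σ : 𝒮L.presheaf.obj (op V)) (hσ : σ ∈ 𝒮L.deg V D.hV n)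
    (h : ((𝒮L''.deg V D.hV n : AddSubgroup (𝒮L''.presheaf.obj (op V))) :
        Set (𝒮L''.presheaf.obj (op V))) ⊆
      (Ideal.span {tw L 𝒮L jL hjL L' 𝒮L''.toQCAlg jL'' V t' D.hV σ} :
        Set (𝒮L''.presheaf.obj (op V)))) :
    ((𝒮L.deg V D.hV n : AddSubgroup (𝒮L.presheaf.obj (op V))) :
        Set (𝒮L.presheaf.obj (op V))) ⊆ (Ideal.span {σ} : Set (𝒮L.presheaf.obj (op V))) := by
  obtain ⟨f', hf'⟩ := hℓ'.2 t'
  have hf'' : f' • ℓ' = t' := hf'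
  rw [← hf''] at h
  exact span_of_span_lam L L' 𝒮L jL hjL 𝒮L'' jL'' hjL'' D ℓ' hℓ' f' n σ hσ h

end Wrap

section XT

variable (hL : PicF.IsInvertible L) (hL' : PicF.IsInvertible L')
  (U : Y.Opens) (hU : IsAffineOpen U) (e' : Γ(E', U)) (n : ℕ)
  (a : 𝒮.presheaf.obj (op U)) (ha : a ∈ 𝒮.deg U hU n)

include hL ha in
theorem XT_le_XT2 (D : X.Opens) (hD : IsGenOn L' (q ⁻¹ᵁ U) (tsec q L' E' β' U e') D)
    (hXD : RLpsiU.XT 𝒮L (uu q L 𝒮L jL hjL E 𝒮 j hj β) U n a ≤ D) :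
    RLpsiU.XT 𝒮L (uu q L 𝒮L jL hjL E 𝒮 j hj β) U n a ≤
      RLpsiU.XT 𝒮L'' (uu2 q L L' 𝒮L'' jL'' hjL'' E E' 𝒮'' j'' hj'' β β') U n
        (theta E E' 𝒮 j hj 𝒮'' j'' U hU e' a) := by
  intro y hy
  obtain ⟨⟨⟨V₁, hV₁⟩, hle₁, hspan₁⟩, hyV₁⟩ := Opens.mem_iSup.mp hy
  have hV₁XT : V₁ ≤ RLpsiU.XT 𝒮L (uu q L 𝒮L jL hjL E 𝒮 j hj β) U n a := by
    intro z hz
    exact Opens.mem_iSup.mpr ⟨⟨⟨V₁, hV₁⟩, hle₁, hspan₁⟩, hz⟩
  obtain ⟨U₀, hyU₀, hU₀⟩ := exists_open_genData hjL hL y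
  obtain ⟨c, hcle, hyc⟩ := hV₁.exists_basicOpen_le (V := U₀) ⟨y, hyU₀⟩ hyV₁
  have hV₃ : IsAffineOpen (X.basicOpen c) := hV₁.basicOpen c
  have hV₃V₁ : X.basicOpen c ≤ V₁ := X.basicOpen_le c
  obtain ⟨DL⟩ := hU₀ (X.basicOpen c) hV₃ hcle
  have hle₃ : X.basicOpen c ≤ q ⁻¹ᵁ U := hV₃V₁.trans hle₁
  have hspan₃ := deg_subset_span_basicOpen 𝒮L V₁ hV₁ c n
    (((uu q L 𝒮L jL hjL E 𝒮 j hj β).appLE U V₁ hle₁).hom a) hspan₁
  have hres : (𝒮L.presheaf.map (homOfLE (X.basicOpen_le c)).op).hom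
      (((uu q L 𝒮L jL hjL E 𝒮 j hj β).appLE U V₁ hle₁).hom a) =
      ((uu q L 𝒮L jL hjL E 𝒮 j hj β).appLE U (X.basicOpen c) hle₃).hom a :=
    congrArg (fun k => k.hom a) ((uu q L 𝒮L jL hjL E 𝒮 j hj β).toQHom.appLE_map hle₁ hV₃V₁)
  rw [hres] at hspan₃
  obtain ⟨hDW, hDgen⟩ := hD
  have ht' := hDgen (X.basicOpen c) hV₃ (hV₃V₁.trans (hV₁XT.trans hXD))
  have hσ : ((uu q L 𝒮L jL hjL E 𝒮 j hj β).appLE U (X.basicOpen c) hle₃).hom a ∈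
      𝒮L.deg (X.basicOpen c) hV₃ n :=
    (uu q L 𝒮L jL hjL E 𝒮 j hj β).map_mem U hU (X.basicOpen c) hV₃ hle₃ ha
  have h'' := span_tw_of_span L L' 𝒮L jL hjL 𝒮L'' jL'' hjL'' DL _ ht' n _ hσ hspan₃
  refine Opens.mem_iSup.mpr ⟨⟨⟨X.basicOpen c, hV₃⟩, hle₃, ?_⟩, hyc⟩
  rw [comm q L L' 𝒮L jL hjL 𝒮L'' jL'' hjL'' E E' 𝒮 j hj 𝒮'' j'' hj'' β β' U hU e'
    (X.basicOpen c) hV₃ hle₃ a]
  exact h''

include hL hL' ha in
theorem XT2_le_XT :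
    RLpsiU.XT 𝒮L'' (uu2 q L L' 𝒮L'' jL'' hjL'' E E' 𝒮'' j'' hj'' β β') U n
        (theta E E' 𝒮 j hj 𝒮'' j'' U hU e' a) ≤
      RLpsiU.XT 𝒮L (uu q L 𝒮L jL hjL E 𝒮 j hj β) U n a := by
  intro y hy
  obtain ⟨⟨⟨V₁, hV₁⟩, hle₁, hspan₁⟩, hyV₁⟩ := Opens.mem_iSup.mp hy
  obtain ⟨U₀, hyU₀, hU₀⟩ := exists_open_genData hjL hL y
  obtain ⟨U₀', hyU₀', hU₀'⟩ := exists_open_generator L' hL' y
  obtain ⟨c, hcle, hyc⟩ := hV₁.exists_basicOpen_le (V := U₀ ⊓ U₀') ⟨y, hyU₀, hyU₀'⟩ hyV₁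
  have hV₃ : IsAffineOpen (X.basicOpen c) := hV₁.basicOpen c
  have hV₃V₁ : X.basicOpen c ≤ V₁ := X.basicOpen_le c
  obtain ⟨DL⟩ := hU₀ (X.basicOpen c) hV₃ (hcle.trans inf_le_left)
  obtain ⟨ℓ', hℓ'⟩ := hU₀' (X.basicOpen c) hV₃ (hcle.trans inf_le_right)
  have hle₃ : X.basicOpen c ≤ q ⁻¹ᵁ U := hV₃V₁.trans hle₁
  have hspan₃ := deg_subset_span_basicOpen 𝒮L'' V₁ hV₁ c n
    (((uu2 q L L' 𝒮L'' jL'' hjL'' E E' 𝒮'' j'' hj'' β β').appLE U V₁ hle₁).hom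
      (theta E E' 𝒮 j hj 𝒮'' j'' U hU e' a)) hspan₁
  have hres : (𝒮L''.presheaf.map (homOfLE (X.basicOpen_le c)).op).hom
      (((uu2 q L L' 𝒮L'' jL'' hjL'' E E' 𝒮'' j'' hj'' β β').appLE U V₁ hle₁).hom
        (theta E E' 𝒮 j hj 𝒮'' j'' U hU e' a)) =
      ((uu2 q L L' 𝒮L'' jL'' hjL'' E E' 𝒮'' j'' hj'' β β').appLE U (X.basicOpen c) hle₃).hom
        (theta E E' 𝒮 j hj 𝒮'' j'' U hU e' a) :=
    congrArg (fun k => k.hom (theta E E' 𝒮 j hj 𝒮'' j'' U hU e' a))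
      ((uu2 q L L' 𝒮L'' jL'' hjL'' E E' 𝒮'' j'' hj'' β β').toQHom.appLE_map hle₁ hV₃V₁)
  rw [hres, comm q L L' 𝒮L jL hjL 𝒮L'' jL'' hjL'' E E' 𝒮 j hj 𝒮'' j'' hj'' β β' U hU e'
    (X.basicOpen c) hV₃ hle₃ a] at hspan₃
  have hσ : ((uu q L 𝒮L jL hjL E 𝒮 j hj β).appLE U (X.basicOpen c) hle₃).hom a ∈
      𝒮L.deg (X.basicOpen c) hV₃ n :=
    (uu q L 𝒮L jL hjL E 𝒮 j hj β).map_mem U hU (X.basicOpen c) hV₃ hle₃ ha
  have h := span_of_span_tw L L' 𝒮L jL hjL 𝒮L'' jL'' hjL'' DL ℓ' hℓ' _ n _ hσ hspan₃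
  exact Opens.mem_iSup.mpr ⟨⟨⟨X.basicOpen c, hV₃⟩, hle₃, h⟩, hyc⟩

end XT

section H3

variable (U : Y.Opens) (hU : IsAffineOpen U) (e' : Γ(E', U)) (n : ℕ)
  (a : 𝒮.presheaf.obj (op U))

include hj'' in
/-- Transfer of condition `H3` along the twist. -/
theorem H3_transfer (O : X.Opens) (hO : IsAffineOpen O) (hle : O ≤ q ⁻¹ᵁ U) (t : Γ(X, O))
    (h : RLpsiU.H3 (uu q L 𝒮L jL hjL E 𝒮 j hj β) U hU n a O hle t) :
    RLpsiU.H3 (uu2 q L L' 𝒮L'' jL'' hjL'' E E' 𝒮'' j'' hj'' β β') U hU n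
      (theta E E' 𝒮 j hj 𝒮'' j'' U hU e' a) O hle t := by
  obtain ⟨m, hm, s', hs', e⟩ := h
  refine ⟨m, hm, theta E E' 𝒮 j hj 𝒮'' j'' U hU e' s',
    tw_mem E 𝒮 j hj E' 𝒮'' j'' hj''.2 U hU e' (m * n) s' hs', ?_⟩
  rw [comm q L L' 𝒮L jL hjL 𝒮L'' jL'' hjL'' E E' 𝒮 j hj 𝒮'' j'' hj'' β β' U hU e' O hO hle a,
    comm q L L' 𝒮L jL hjL 𝒮L'' jL'' hjL'' E E' 𝒮 j hj 𝒮'' j'' hj'' β β' U hU e' O hO hle s',
    ← e, map_mul, map_pow, tw_str]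

end H3

end Groth.Agent.Lib.helper28.SegreCore
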