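import Groth.Agent.Lib.Helper28.SegreTwist
import Groth.Agent.Lib.Helper28.SymLineGenLocus
import Groth.Agent.Lib.Helper28.CanonIso

/-!
# The local computation for the one-sided Segre construction (helper28)

`L`, `L'` invertible on `X`, `L'' = L ⊗ L'`, with graded symmetric algebras `𝒮L`, `𝒮L''`.
* `genDataOfGenerator`: a free generator of `L` over an affine open gives `GenData` (the
  symmetric algebra is the polynomial ring on it).
* Over an affine `V` with a generator `g` of `L` and a free generator `ℓ'` of `L'`, the twist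
  `lam = tw (f' • ℓ') : 𝒮L(V) → 𝒮L''(V)` maps `c z^n` to `c f'^n z''^n` (`lam_term`); hence
  `span_lam_of_span` (LL1) and `span_of_span_lam` (LL2) compare the generation conditions of the
  degree `n` pieces.
-/

set_option autoImplicit false
set_option linter.style.haveILetI false
universe u
open CategoryTheory AlgebraicGeometry TopologicalSpace Opposite TensorProduct

namespace Groth.Agent.Lib.helper28.SegreLocal

open Groth.Agent.Lib.helper28.SymLinePow Groth.Agent.Lib.helper28.SymLineGenLocus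
  Groth.Agent.Lib.helper28.SegreTwist Groth.Agent.Lib.helper11.TensorASec
  Groth.Agent.Lib.helper28.SymAlg Groth.Agent.Lib.helper28.SymLoc
  Groth.Agent.Lib.helper28.SymSheaf Groth.Agent.Lib.helper28

section Alg

theorem bijective_eval₂_of_generator {R M : Type*} [CommRing R] [AddCommGroup M] [Module R M]
    (g : M) (hg : Function.Bijective (fun a : R => a • g)) :
    Function.Bijective (Polynomial.eval₂RingHom (algebraMap R (SymmetricAlgebra R M))
      (SymmetricAlgebra.ι R M g)) := by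
  let e0 : R ≃ₗ[R] M := LinearEquiv.ofBijective (LinearMap.toSpanSingleton R M g) hg
  let e : M ≃ₗ[R] (Fin 1 → R) := e0.symm.trans (LinearEquiv.funUnique (Fin 1) R R).symm
  let b : Module.Basis (Fin 1) R M := Module.Basis.ofEquivFun e
  have hb : b default = g := by
    have h1 : b default = e.symm (Pi.single default 1) :=
      congrFun (Module.Basis.coe_ofEquivFun e) default
    rw [h1]
    change e0 ((LinearEquiv.funUnique (Fin 1) R R) (Pi.single default 1)) = g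
    rw [LinearEquiv.funUnique_apply]
    change (Pi.single (default : Fin 1) (1 : R) : Fin 1 → R) default • g = g
    rw [Pi.single_eq_same, one_smul]
  let Φ : Polynomial R ≃ₐ[R] SymmetricAlgebra R M :=
    (MvPolynomial.uniqueAlgEquiv R (Fin 1)).symm.trans (SymmetricAlgebra.equivMvPolynomial b).symm
  have : Polynomial.eval₂RingHom (algebraMap R (SymmetricAlgebra R M))
      (SymmetricAlgebra.ι R M g) = (Φ : Polynomial R →+* SymmetricAlgebra R M) := by
    apply Polynomial.ringHom_ext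
    · intro a
      rw [Polynomial.coe_eval₂RingHom, Polynomial.eval₂_C]
      exact (Φ.commutes a).symm
    · rw [Polynomial.coe_eval₂RingHom, Polynomial.eval₂_X]
      change _ = (SymmetricAlgebra.equivMvPolynomial b).symm
        ((MvPolynomial.uniqueAlgEquiv R (Fin 1)).symm Polynomial.X)
      rw [MvPolynomial.uniqueAlgEquiv_symm_apply, Polynomial.eval₂_X,
        SymmetricAlgebra.equivMvPolynomial_symm_X, hb]
  rw [this]
  exact Φ.bijective

end Alg

variable {X : Scheme.{u}} {L : X.Modules} [L.IsQuasicoherent]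
  {𝒮L : RelProj.QCGrAlg X} {j : L ⟶ 𝒮L.toModule}

theorem bijective_poly_of_generator (hj : RelProj.IsGrSymAlg L 𝒮L j) (V : X.Opens)
    (hV : IsAffineOpen V)
    (g : Γ(L, V)) (hg : Function.Bijective (fun a : Γ(X, V) => a • g)) :
    Function.Bijective (Polynomial.eval₂RingHom (𝒮L.str.app (op V)).hom
      ((j.app V).hom g)) := by
  have : Polynomial.eval₂RingHom (𝒮L.str.app (op V)).hom ((j.app V).hom g) =
      (liftU L 𝒮L.toQCAlg j V).comp
        (Polynomial.eval₂RingHom (algebraMap Γ(X, V) (SymU L V))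
          (SymmetricAlgebra.ι Γ(X, V) Γ(L, V) g)) := by
    apply Polynomial.ringHom_ext
    · intro a
      exact (Polynomial.eval₂_C _ _).trans ((liftU_algebraMap L 𝒮L.toQCAlg j V a).symm.trans
        (congrArg (liftU L 𝒮L.toQCAlg j V) (Polynomial.eval₂_C _ _).symm))
    · exact (Polynomial.eval₂_X _ _).trans ((liftU_ι L 𝒮L.toQCAlg j V g).symm.trans
        (congrArg (liftU L 𝒮L.toQCAlg j V) (Polynomial.eval₂_X _ _).symm))
  rw [this]
  exact (liftU_bijective L 𝒮L.toQCAlg j hj.1 ⟨V, hV⟩).comp (bijective_eval₂_of_generator g hg)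

/-- A free generator over an affine open gives `GenData`. -/
noncomputable def genDataOfGenerator (hj : RelProj.IsGrSymAlg L 𝒮L j) (V : X.Opens)
    (hV : IsAffineOpen V) (g : Γ(L, V)) (hg : Function.Bijective (fun a : Γ(X, V) => a • g)) :
    GenData L 𝒮L j V where
  hV := hV
  g := g
  hg := hg
  hz := hj.2 V hV g
  hpoly := bijective_poly_of_generator hj V hV g hg

section LL

variable {X : Scheme.{u}} (L L' : X.Modules) [L.IsQuasicoherent] [L'.IsQuasicoherent]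
  [(CohB1.tensorMod L L').IsQuasicoherent]
  (𝒮L : RelProj.QCGrAlg X) (jL : L ⟶ 𝒮L.toModule) (hjL : RelProj.IsGrSymAlg L 𝒮L jL)
  (𝒮L'' : RelProj.QCGrAlg X) (jL'' : CohB1.tensorMod L L' ⟶ 𝒮L''.toModule)
  (hjL'' : RelProj.IsGrSymAlg (CohB1.tensorMod L L') 𝒮L'' jL'')
  {V : X.Opens} (D : GenData L 𝒮L jL V) (ℓ' : Γ(L', V))
  (hℓ' : Function.Bijective (fun c : Γ(X, V) => c • ℓ')) (f' : Γ(X, V))

omit [(CohB1.tensorMod L L').IsQuasicoherent] in
include hℓ' in
theorem bijective_smul_tm :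
    Function.Bijective (fun c : Γ(X, V) => c • tm L L' V D.g ℓ') := by
  have hc := bijective_cW L L' V D.hV
  have ht := bijective_smul_tmul (R := Γ(X, V)) D.g ℓ' D.hg hℓ'
  have : (fun a : Γ(X, V) => (a • tm L L' V D.g ℓ')) =
      (cW L L' V) ∘ (fun c : Γ(X, V) => c • (D.g ⊗ₜ[Γ(X, V)] ℓ')) := by
    funext a
    change _ = cW L L' V (a • _)
    rw [map_smul]
    rfl
  rw [this]
  exact hc.comp ht

/-- The `GenData` of `L ⊗ L'` on the generator `g ⊗ ℓ'`. -/
noncomputable def genData'' : GenData (CohB1.tensorMod L L') 𝒮L'' jL'' V :=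
  genDataOfGenerator hjL'' V D.hV (tm L L' V D.g ℓ') (bijective_smul_tm L L' 𝒮L jL D ℓ' hℓ')

/-- The twist by `f' • ℓ'`. -/
noncomputable abbrev lam : 𝒮L.presheaf.obj (op V) →+* 𝒮L''.presheaf.obj (op V) :=
  tw L 𝒮L jL hjL L' 𝒮L''.toQCAlg jL'' V (f' • ℓ') D.hV

theorem lam_z : lam L L' 𝒮L jL hjL 𝒮L'' jL'' D ℓ' f' D.z =
    (𝒮L''.str.app (op V)).hom f' * (genData'' L L' 𝒮L jL 𝒮L'' jL'' hjL'' D ℓ' hℓ').z := by
  change tw L 𝒮L jL hjL L' 𝒮L''.toQCAlg jL'' V (f' • ℓ') D.hV ((jL.app V).hom D.g) = _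
  rw [tw_j, tm_smul_right, kAdd_smul]
  rfl

theorem lam_term (c : Γ(X, V)) (n : ℕ) :
    lam L L' 𝒮L jL hjL 𝒮L'' jL'' D ℓ' f' ((𝒮L.str.app (op V)).hom c * D.z ^ n) =
      (𝒮L''.str.app (op V)).hom (c * f' ^ n) *
        (genData'' L L' 𝒮L jL 𝒮L'' jL'' hjL'' D ℓ' hℓ').z ^ n := by
  rw [map_mul, map_pow, lam_z L L' 𝒮L jL hjL 𝒮L'' jL'' hjL'' D ℓ' hℓ' f', tw_str, map_mul,
    map_pow, mul_pow]
  ring

theorem z_pow_mem {M : X.Modules} [M.IsQuasicoherent] {𝒮M : RelProj.QCGrAlg X}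
    {jM : M ⟶ 𝒮M.toModule} (D : GenData M 𝒮M jM V) (n : ℕ) : D.z ^ n ∈ 𝒮M.deg V D.hV n := by
  have hz : D.z ∈ 𝒮M.deg V D.hV 1 := D.hz
  have := SetLike.pow_mem_graded n hz
  rwa [smul_eq_mul, mul_one] at this

include hℓ' hjL'' in
/-- (LL1) If `f'` is a unit and `σ` generates the degree `n` piece of `𝒮L(V)`, its twist generates
the degree `n` piece of `𝒮L''(V)`. -/
theorem span_lam_of_span (hf' : IsUnit f') (n : ℕ) (σ : 𝒮L.presheaf.obj (op V))
    (hσ : σ ∈ 𝒮L.deg V D.hV n)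
    (h : ((𝒮L.deg V D.hV n : AddSubgroup (𝒮L.presheaf.obj (op V))) :
        Set (𝒮L.presheaf.obj (op V))) ⊆ (Ideal.span {σ} : Set (𝒮L.presheaf.obj (op V)))) :
    ((𝒮L''.deg V D.hV n : AddSubgroup (𝒮L''.presheaf.obj (op V))) :
        Set (𝒮L''.presheaf.obj (op V))) ⊆
      (Ideal.span {lam L L' 𝒮L jL hjL 𝒮L'' jL'' D ℓ' f' σ} :
        Set (𝒮L''.presheaf.obj (op V))) := by
  obtain ⟨c, rfl⟩ := Groth.Agent.Lib.helper28.PolyGrade.exists_eq_of_mem_deg (𝒮L.deg V D.hV)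
    (𝒮L.str.app (op V)).hom D.z (𝒮L.str_mem V D.hV) D.hz D.hpoly.2 hσ
  have hc : IsUnit c := isUnit_of_span (𝒮L.str.app (op V)).hom D.z D.hpoly c n
    (h (z_pow_mem D n))
  rw [lam_term L L' 𝒮L jL hjL 𝒮L'' jL'' hjL'' D ℓ' hℓ' f']
  exact deg_subset_span_of_isUnit (𝒮L''.deg V D.hV) (𝒮L''.str.app (op V)).hom
    (genData'' L L' 𝒮L jL 𝒮L'' jL'' hjL'' D ℓ' hℓ').z (𝒮L''.str_mem V D.hV)
    (genData'' L L' 𝒮L jL 𝒮L'' jL'' hjL'' D ℓ' hℓ').hz
    (genData'' L L' 𝒮L jL 𝒮L'' jL'' hjL'' D ℓ' hℓ').hpoly.2 (c * f' ^ n) n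
    (hc.mul (hf'.pow n))

include hℓ' hjL'' in
/-- (LL2) If the twist of `σ` generates the degree `n` piece of `𝒮L''(V)`, then `σ` generates the
degree `n` piece of `𝒮L(V)`. -/
theorem span_of_span_lam (n : ℕ) (σ : 𝒮L.presheaf.obj (op V))
    (hσ : σ ∈ 𝒮L.deg V D.hV n)
    (h : ((𝒮L''.deg V D.hV n : AddSubgroup (𝒮L''.presheaf.obj (op V))) :
        Set (𝒮L''.presheaf.obj (op V))) ⊆
      (Ideal.span {lam L L' 𝒮L jL hjL 𝒮L'' jL'' D ℓ' f' σ} :
        Set (𝒮L''.presheaf.obj (op V)))) :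
    ((𝒮L.deg V D.hV n : AddSubgroup (𝒮L.presheaf.obj (op V))) :
        Set (𝒮L.presheaf.obj (op V))) ⊆ (Ideal.span {σ} : Set (𝒮L.presheaf.obj (op V))) := by
  obtain ⟨c, rfl⟩ := Groth.Agent.Lib.helper28.PolyGrade.exists_eq_of_mem_deg (𝒮L.deg V D.hV)
    (𝒮L.str.app (op V)).hom D.z (𝒮L.str_mem V D.hV) D.hz D.hpoly.2 hσ
  rw [lam_term L L' 𝒮L jL hjL 𝒮L'' jL'' hjL'' D ℓ' hℓ' f'] at h
  have hcf : IsUnit (c * f' ^ n) := isUnit_of_span (𝒮L''.str.app (op V)).hom
    (genData'' L L' 𝒮L jL 𝒮L'' jL'' hjL'' D ℓ' hℓ').z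
    (genData'' L L' 𝒮L jL 𝒮L'' jL'' hjL'' D ℓ' hℓ').hpoly (c * f' ^ n) n
    (h (z_pow_mem (genData'' L L' 𝒮L jL 𝒮L'' jL'' hjL'' D ℓ' hℓ') n))
  have hc : IsUnit c := isUnit_of_mul_isUnit_left hcf
  exact deg_subset_span_of_isUnit (𝒮L.deg V D.hV) (𝒮L.str.app (op V)).hom D.z
    (𝒮L.str_mem V D.hV) D.hz D.hpoly.2 c n hc

end LL

end Groth.Agent.Lib.helper28.SegreLocal
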