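import Groth.Agent.Lib.Helper28.SymPairLift
import Groth.Agent.Lib.Helper11.TensorASec2

/-!
# Twisting a symmetric algebra by a section (helper28)

`M`, `N` modules on a scheme `Z`, `(𝒯, j)` the graded symmetric algebra of `M`, `𝒜` a
quasi-coherent algebra receiving `M ⊗ N` through `k`.  For an affine open `V` and a section
`n ∈ Γ(V, N)`:
* `tw … V hV n : 𝒯(V) →+* 𝒜(V)`, the `O(V)`-algebra homomorphism with `j(m) ↦ k(m ⊗ n)`;
* `tw_str`, `tw_j`, `tw_res` (compatibility with restriction), `tw_mem` (gradedness).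
-/

set_option autoImplicit false
universe u

namespace Groth.Agent.Lib.helper28.SegreTwist

open CategoryTheory CategoryTheory.Limits AlgebraicGeometry TopologicalSpace Opposite
open Groth.Agent.Lib.helper28.SymAlg Groth.Agent.Lib.helper28.SymLoc
  Groth.Agent.Lib.helper28.SymSheaf Groth.Agent.Lib.helper28
open Groth.Agent.Lib.helper28.SymAlgGrading Groth.Agent.Lib.helper28.GradedTransport
open Groth.Agent.Lib.helper28.SymGradedExists Groth.Agent.Lib.helper28.SymDegEq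
open Groth.Agent.Lib.helper11.TensorASec

variable {Z : Scheme.{u}} (M : Z.Modules) [M.IsQuasicoherent]
  (𝒯 : RelProj.QCGrAlg Z) (j : M ⟶ 𝒯.toModule) (hj : RelProj.IsGrSymAlg M 𝒯 j)
  (N : Z.Modules) (𝒜 : RelSpec.QCAlg Z) (k : CohB1.tensorMod M N ⟶ 𝒜.toModule)

section Def

/-- `k` over an open, as an additive map into the ring `𝒜(V)`. -/
noncomputable def kAdd (V : Z.Opens) : Γ(CohB1.tensorMod M N, V) →+ 𝒜.presheaf.obj (op V) :=
  (k.app V).hom

omit [M.IsQuasicoherent] in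
theorem kAdd_smul (V : Z.Opens) (a : Γ(Z, V)) (m : Γ(CohB1.tensorMod M N, V)) :
    kAdd M N 𝒜 k V (a • m) = (𝒜.str.app (op V)).hom a * kAdd M N 𝒜 k V m :=
  Scheme.Modules.Hom.app_smul k a m

omit [M.IsQuasicoherent] in
theorem kAdd_res {U V : Z.Opens} (h : V ≤ U) (m : Γ(CohB1.tensorMod M N, U)) :
    kAdd M N 𝒜 k V ((CohB1.tensorMod M N).presheaf.map (homOfLE h).op m) =
      (𝒜.presheaf.map (homOfLE h).op).hom (kAdd M N 𝒜 k U m) := by
  have := k.mapPresheaf.naturality (homOfLE h).op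
  exact congr($this m)

variable (V : Z.Opens) (n : Γ(N, V))

/-- `m ↦ k(m ⊗ n)`, additive. -/
noncomputable def gAdd : Γ(M, V) →+ 𝒜.presheaf.obj (op V) :=
  AddMonoidHom.mk' (fun m => kAdd M N 𝒜 k V (tm M N V m n)) (fun m m' => by
    rw [tm_add_left, map_add])

omit [M.IsQuasicoherent] in
theorem gAdd_apply (m : Γ(M, V)) :
    gAdd M N 𝒜 k V n m = kAdd M N 𝒜 k V (tm M N V m n) := rfl

omit [M.IsQuasicoherent] in
theorem gAdd_smul (a : Γ(Z, V)) (m : Γ(M, V)) :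
    gAdd M N 𝒜 k V n (a • m) = (𝒜.str.app (op V)).hom a * gAdd M N 𝒜 k V n m := by
  rw [gAdd_apply, tm_smul_left, kAdd_smul]
  rfl

/-- `Sym M(V) → 𝒜(V)`. -/
noncomputable def symTw : SymU M V →+* 𝒜.presheaf.obj (op V) :=
  liftRingHom (𝒜.str.app (op V)).hom (gAdd M N 𝒜 k V n) (gAdd_smul M N 𝒜 k V n)

variable (hV : IsAffineOpen V)

/-- The twist by `n`: the `O(V)`-algebra homomorphism `𝒯(V) → 𝒜(V)`, `j(m) ↦ k(m ⊗ n)`. -/
noncomputable def tw : 𝒯.presheaf.obj (op V) →+* 𝒜.presheaf.obj (op V) :=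
  (symTw M N 𝒜 k V n).comp (eU M 𝒯.toQCAlg j hj.1 V hV).symm.toRingHom

theorem tw_liftU (x : SymU M V) :
    tw M 𝒯 j hj N 𝒜 k V n hV (liftU M 𝒯.toQCAlg j V x) = symTw M N 𝒜 k V n x := by
  change symTw M N 𝒜 k V n
    ((eU M 𝒯.toQCAlg j hj.1 V hV).symm (eU M 𝒯.toQCAlg j hj.1 V hV x)) = _
  rw [RingEquiv.symm_apply_apply]

theorem tw_str (r : Γ(Z, V)) :
    tw M 𝒯 j hj N 𝒜 k V n hV ((𝒯.str.app (op V)).hom r) = (𝒜.str.app (op V)).hom r := by
  rw [← liftU_algebraMap M 𝒯.toQCAlg j V r, tw_liftU, symTw, liftRingHom_algebraMap]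

theorem tw_j (m : Γ(M, V)) :
    tw M 𝒯 j hj N 𝒜 k V n hV ((j.app V).hom m) =
      kAdd M N 𝒜 k V (tm M N V m n) := by
  rw [← liftU_ι M 𝒯.toQCAlg j V m, tw_liftU, symTw, liftRingHom_ι]
  rfl

end Def

section Res

variable (V : Z.Opens) (hV : IsAffineOpen V) (n : Γ(N, V))

theorem tw_res (V' : Z.Opens) (hV' : IsAffineOpen V') (i : V' ≤ V) (a : 𝒯.presheaf.obj (op V)) :
    (𝒜.presheaf.map (homOfLE i).op).hom (tw M 𝒯 j hj N 𝒜 k V n hV a) =
      tw M 𝒯 j hj N 𝒜 k V' (N.presheaf.map (homOfLE i).op n) hV'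
        ((𝒯.presheaf.map (homOfLE i).op).hom a) := by
  have key := Groth.Agent.Lib.helper28.SymPair.ringHom_ext_of_str_j M 𝒯.toQCAlg j hj.1 V hV
    ((𝒜.presheaf.map (homOfLE i).op).hom.comp (tw M 𝒯 j hj N 𝒜 k V n hV))
    ((tw M 𝒯 j hj N 𝒜 k V' (N.presheaf.map (homOfLE i).op n) hV').comp
      (𝒯.presheaf.map (homOfLE i).op).hom) ?_ ?_
  · exact congrArg (fun f => f a) key
  · intro r
    rw [RingHom.comp_apply, RingHom.comp_apply, tw_str]
    have h := congrArg (fun f => f.hom r) (𝒜.str.naturality (homOfLE i).op)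
    simp only [CommRingCat.hom_comp, RingHom.comp_apply] at h
    have h' := congrArg (fun f => f.hom r) (𝒯.str.naturality (homOfLE i).op)
    simp only [CommRingCat.hom_comp, RingHom.comp_apply] at h'
    rw [← h, ← h', tw_str]
  · intro m
    change (𝒜.presheaf.map (homOfLE i).op).hom
        (tw M 𝒯 j hj N 𝒜 k V n hV ((j.app V).hom m)) =
      tw M 𝒯 j hj N 𝒜 k V' (N.presheaf.map (homOfLE i).op n) hV'
        ((𝒯.presheaf.map (homOfLE i).op).hom ((j.app V).hom m))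
    have h : (𝒯.presheaf.map (homOfLE i).op).hom ((j.app V).hom m) =
        (j.app V').hom (M.presheaf.map (homOfLE i).op m) :=
      (φAdd_res M 𝒯.toQCAlg j i m).symm
    rw [h, tw_j, tw_j, ← kAdd_res M N 𝒜 k i]
    exact congrArg _ (tm_res M N (homOfLE i) m n)

end Res

section Graded

variable (𝒮' : RelProj.QCGrAlg Z) (k' : CohB1.tensorMod M N ⟶ 𝒮'.toModule)
  (hk : ∀ (V : Z.Opens) (hV : IsAffineOpen V) (x : Γ(CohB1.tensorMod M N, V)),
    (k'.app V) x ∈ 𝒮'.deg V hV 1)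

include hk in
theorem tw_mem (V : Z.Opens) (hV : IsAffineOpen V) (n : Γ(N, V)) (d : ℕ)
    (x : 𝒯.presheaf.obj (op V)) (hx : x ∈ 𝒯.deg V hV d) :
    tw M 𝒯 j hj N 𝒮'.toQCAlg k' V n hV x ∈ 𝒮'.deg V hV d := by
  obtain ⟨y, hy, rfl⟩ := (mem_deg_iff M 𝒯 j hj V hV d x).mp hx
  clear hx
  induction hy using Submodule.pow_induction_on_left' with
  | algebraMap r =>
    rw [liftU_algebraMap, tw_str]
    exact 𝒮'.str_mem V hV _
  | add x y i hx hy ihx ihy =>
    rw [map_add, map_add]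
    exact add_mem ihx ihy
  | mem_mul e he i x hx ih =>
    obtain ⟨e₀, rfl⟩ := he
    rw [map_mul, map_mul]
    have h2 : tw M 𝒯 j hj N 𝒮'.toQCAlg k' V n hV
        (liftU M 𝒯.toQCAlg j V (SymmetricAlgebra.ι _ _ e₀)) ∈ 𝒮'.deg V hV 1 := by
      rw [liftU_ι, tw_j]
      exact hk V hV _
    have := SetLike.mul_mem_graded (A := 𝒮'.deg V hV) h2 ih
    rwa [add_comm] at this

end Graded

end Groth.Agent.Lib.helper28.SegreTwist
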