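import Groth.Agent.Lib.Helper12.TensorRestrict
import Groth.Agent.Lib.Helper2.TildeTensor

set_option autoImplicit false
universe u
open CategoryTheory CategoryTheory.Limits AlgebraicGeometry TopologicalSpace Opposite

namespace Groth.Agent.Lib.helper28.SheafifyLocal

open Groth.Agent.Lib.helper12.TensorRestrict

variable {Y : Scheme.{u}}

/-- A morphism of presheaves of modules which is bijective on a family of opens forming a basis
of the open `W` becomes, after sheafification, an isomorphism over `W`. -/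
theorem isIso_restrict_sheafify_map_of_bijective_on_basis {P Q : Y.PresheafOfModules} (φ : P ⟶ Q)
    (W : Y.Opens) (B : Set Y.Opens)
    (hB : ∀ (U : Y.Opens) (x : Y), x ∈ U → x ∈ W → ∃ V ∈ B, x ∈ V ∧ V ≤ U ⊓ W)
    (hφ : ∀ V ∈ B, Function.Bijective (φ.app (op V)).hom) :
    IsIso ((Scheme.Modules.restrictFunctor W.ι).map ((CohB1.sheafifyMod Y).map φ)) := by
  let B' : Set (↑W : Scheme.{u}).Opens := {U' | W.ι ''ᵁ U' ∈ B}
  have hB' : Opens.IsBasis B' := by
    rw [Opens.isBasis_iff_nbhd]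
    intro U' x hx
    obtain ⟨V, hVB, hxV, hVU⟩ := hB (W.ι ''ᵁ U') (W.ι x) ⟨x, hx, rfl⟩ x.2
    have hVW : V ≤ W.ι.opensRange := by
      rw [Scheme.Opens.opensRange_ι]
      exact hVU.trans inf_le_right
    have himg : W.ι ''ᵁ (W.ι ⁻¹ᵁ V) = V := by
      rw [Scheme.Hom.image_preimage_eq_opensRange_inf]
      exact inf_eq_right.mpr hVW
    refine ⟨W.ι ⁻¹ᵁ V, ?_, hxV, ?_⟩
    · change W.ι ''ᵁ (W.ι ⁻¹ᵁ V) ∈ B
      rw [himg]
      exact hVB
    · intro z hz
      have hz' : W.ι z ∈ W.ι ''ᵁ U' := (hVU hz).1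
      obtain ⟨z', hz'U, hzz'⟩ := hz'
      have : z' = z := W.ι.isOpenEmbedding.injective hzz'
      exact this ▸ hz'U
  have h1 : IsIso ((CohB1.sheafifyMod (↑W : Scheme.{u})).map ((resPre W.ι).map φ)) := by
    refine Groth.Agent.Lib.helper2.TildeTensor.isIso_sheafify_map_of_bijective_on_basis
      ((resPre W.ι).map φ) B' hB' ?_
    intro U' hU'
    exact hφ (W.ι ''ᵁ U') hU'
  have hnat := sheafifyResHom_naturality W.ι φ
  have h2 : (Scheme.Modules.restrictFunctor W.ι).map ((CohB1.sheafifyMod Y).map φ) =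
      inv (sheafifyResHom W.ι P) ≫
        (CohB1.sheafifyMod (↑W : Scheme.{u})).map ((resPre W.ι).map φ) ≫ sheafifyResHom W.ι Q := by
    rw [hnat, IsIso.inv_hom_id_assoc]
  rw [h2]
  infer_instance

end Groth.Agent.Lib.helper28.SheafifyLocal
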