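import Mathlib
import Groth.Agent.Lib.Helper28.ReesPres

/-!
# Smoothness of the charts of the blow-up of a smooth algebra in a smooth centre (helper28)

`R → A` smooth, `I = (f_1, …, f_r) ⊆ A` generated by an `H₁`-regular sequence, `A/I` formally smooth
over `R`.  Then the chart ring `A[I/f_i]` is smooth over `R` (`smooth_chart`).

The proof is by infinitesimal lifting: the chart ring has the universal property
`Hom(A[I/f_i], D) = {(ρ, τ) | τ_i = 1, ρ(f_i) τ_j = ρ(f_j)}` (`ReesPres.exists_lift`, `hom_ext`);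
a lift of `ρ` along a square-zero extension is corrected by a derivation
(`exists_kaehler_linearMap`, using that `I/I² → Ω ⊗ A/I` is split injective).
-/

set_option autoImplicit false
set_option linter.style.haveILetI false
set_option linter.unusedTactic false

universe u

open KaehlerDifferential TensorProduct

namespace Groth.Agent.Lib.helper28.SmoothChart

/-- **Prescribing a linear form on `Ω[A⁄R]` on the differentials of an `H₁`-regular sequence.**
`A` formally smooth over `R`, `B = A/K` formally smooth over `R`, `K = (f_1, …, f_r)` with `f`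
`H₁`-regular, `M` an `A`-module killed by `K`.  For every `v : Fin r → M` there is an `A`-linear
`μ : Ω[A⁄R] → M` with `μ (d f_k) = v_k`. -/
theorem exists_kaehler_linearMap {R A B : Type u} [CommRing R] [CommRing A] [CommRing B]
    [Algebra R A] [Algebra A B] [Algebra R B] [IsScalarTower R A B]
    [Algebra.FormallySmooth R A] [Algebra.FormallySmooth R B]
    (hsurj : Function.Surjective (algebraMap A B)) {r : ℕ} (f : Fin r → A)
    (hH1 : CAlgX.IsH1Regular f)
    (hker : RingHom.ker (algebraMap A B) = Ideal.span (Set.range f))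
    {M : Type u} [AddCommGroup M] [Module A M]
    (hM : ∀ x ∈ RingHom.ker (algebraMap A B), ∀ m : M, x • m = 0) (v : Fin r → M) :
    ∃ μ : Ω[A⁄R] →ₗ[A] M, ∀ k, μ (D R A (f k)) = v k := by
  obtain ⟨l, hl⟩ := (Algebra.FormallySmooth.iff_split_injection (R := R) (P := A) (A := B)
    hsurj).mp inferInstance
  have hfK : ∀ k, f k ∈ RingHom.ker (algebraMap A B) := fun k => by
    rw [hker]; exact Ideal.subset_span ⟨k, rfl⟩
  -- the two maps out of `A^r`
  let φ : (Fin r → A) →ₗ[A] M := Fintype.linearCombination A v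
  let p : (Fin r → A) →ₗ[A] RingHom.ker (algebraMap A B) :=
    LinearMap.codRestrict (Submodule.restrictScalars A (RingHom.ker (algebraMap A B)))
      (Fintype.linearCombination A f) (fun c => by
        rw [Fintype.linearCombination_apply]
        exact Submodule.sum_mem _ fun k _ => Ideal.mul_mem_left _ _ (hfK k))
  have hp : Function.Surjective p := by
    rintro ⟨x, hx⟩
    have hx' := hx
    rw [hker, Ideal.mem_span_range_iff_exists_fun] at hx'
    obtain ⟨c, hc⟩ := hx'
    refine ⟨c, Subtype.ext ?_⟩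
    change Fintype.linearCombination A f c = x
    rw [Fintype.linearCombination_apply]
    simpa [smul_eq_mul] using hc
  have hpφ : LinearMap.ker p ≤ LinearMap.ker φ := by
    intro c hc
    have hc' : ∑ k, c k * f k = 0 := by
      have := congrArg Subtype.val (LinearMap.mem_ker.mp hc)
      change Fintype.linearCombination A f c = 0 at this
      rw [Fintype.linearCombination_apply] at this
      simpa [smul_eq_mul] using this
    have h1 := hH1 c hc'
    refine Submodule.span_le.mpr ?_ h1
    rintro _ ⟨a, b, rfl⟩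
    rw [SetLike.mem_coe, LinearMap.mem_ker, map_sub]
    simp only [φ, Fintype.linearCombination_apply_single]
    rw [hM _ (hfK b), hM _ (hfK a), sub_zero]
  let lam0 : RingHom.ker (algebraMap A B) →ₗ[A] M :=
    (Submodule.liftQ (LinearMap.ker p) φ hpφ) ∘ₗ (p.quotKerEquivOfSurjective hp).symm.toLinearMap
  have hlam0 : ∀ c, lam0 (p c) = φ c := fun c => by
    change (Submodule.liftQ (LinearMap.ker p) φ hpφ) ((p.quotKerEquivOfSurjective hp).symm (p c)) = _
    have : (p.quotKerEquivOfSurjective hp).symm (p c) = Submodule.Quotient.mk c := by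
      rw [LinearEquiv.symm_apply_eq]; rfl
    rw [this, Submodule.liftQ_apply]
  have hlam0' : (RingHom.ker (algebraMap A B)) • (⊤ : Submodule A (RingHom.ker (algebraMap A B)))
      ≤ LinearMap.ker lam0 := by
    rw [Submodule.smul_le]
    intro x hx y _
    rw [LinearMap.mem_ker, map_smul, hM x hx]
  let lam : (RingHom.ker (algebraMap A B)).Cotangent →ₗ[A] M := Submodule.liftQ _ lam0 hlam0'
  refine ⟨lam ∘ₗ l ∘ₗ (TensorProduct.mk A B Ω[A⁄R] 1), fun k => ?_⟩
  have h1 : l (1 ⊗ₜ D R A (f k)) = Ideal.toCotangent _ ⟨f k, hfK k⟩ := by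
    have := LinearMap.congr_fun hl (Ideal.toCotangent _ ⟨f k, hfK k⟩)
    rwa [LinearMap.comp_apply, kerCotangentToTensor_toCotangent, LinearMap.id_apply] at this
  change lam (l (1 ⊗ₜ D R A (f k))) = v k
  rw [h1]
  change lam0 ⟨f k, hfK k⟩ = v k
  have h2 : p (Pi.single k 1) = ⟨f k, hfK k⟩ := by
    apply Subtype.ext
    change Fintype.linearCombination A f (Pi.single k 1) = f k
    rw [Fintype.linearCombination_apply_single, one_smul]
  rw [← h2, hlam0]
  simp only [φ, Fintype.linearCombination_apply_single, one_smul]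

/-- Abstract form: a ring `Cc` over `A` with elements `t_j` having the universal property of the
chart ring `A[I/f_i]` is formally smooth over `R` as soon as `A` and `A/I` are. -/
theorem formallySmooth_of_universal {R A Cc : Type u} [CommRing R] [CommRing A] [CommRing Cc]
    [Algebra R A] [Algebra A Cc] [Algebra R Cc] [IsScalarTower R A Cc]
    [Algebra.FormallySmooth R A] (I : Ideal A) [Algebra.FormallySmooth R (A ⧸ I)]
    {r : ℕ} (f : Fin r → A) (hI : Ideal.span (Set.range f) = I) (hH1 : CAlgX.IsH1Regular f)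
    (i : Fin r) (t : Fin r → Cc) (ht : t i = 1)
    (hft : ∀ j, algebraMap A Cc (f i) * t j = algebraMap A Cc (f j))
    (hlift : ∀ (D : Type u) [CommRing D] (ρ : A →+* D) (τ : Fin r → D), τ i = 1 →
      (∀ j, ρ (f i) * τ j = ρ (f j)) →
      ∃ l : Cc →+* D, l.comp (algebraMap A Cc) = ρ ∧ ∀ j, l (t j) = τ j)
    (hext : ∀ (D : Type u) [CommRing D] (l₁ l₂ : Cc →+* D),
      l₁.comp (algebraMap A Cc) = l₂.comp (algebraMap A Cc) → (∀ j, l₁ (t j) = l₂ (t j)) →
      l₁ = l₂) :
    Algebra.FormallySmooth R Cc := by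
  apply Algebra.FormallySmooth.of_comp_surjective
  intro B _ _ N hN g
  have hNN : ∀ x ∈ N, ∀ y ∈ N, x * y = 0 := fun x hx y hy => by
    have : x * y ∈ N ^ 2 := by rw [pow_two]; exact Ideal.mul_mem_mul hx hy
    rwa [hN, Ideal.mem_bot] at this
  -- Step 1: lift on `A`
  obtain ⟨ψ₀, hψ₀⟩ := Algebra.FormallySmooth.comp_surjective R A N hN
    (g.comp (IsScalarTower.toAlgHom R A Cc))
  have hψ₀' : ∀ a, Ideal.Quotient.mk N (ψ₀ a) = g (algebraMap A Cc a) := fun a =>
    AlgHom.congr_fun hψ₀ a
  -- Step 2: lifts of `g (t j)`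
  have hex : ∀ j, ∃ b : B, Ideal.Quotient.mk N b = g (t j) := fun j =>
    Ideal.Quotient.mk_surjective _
  choose b0' hb0' using hex
  obtain ⟨b0, hb0def⟩ : ∃ b0 : Fin r → B, b0 = Function.update b0' i 1 := ⟨_, rfl⟩
  have hb0i : b0 i = 1 := by rw [hb0def, Function.update_self]
  have hb0 : ∀ j, Ideal.Quotient.mk N (b0 j) = g (t j) := fun j => by
    by_cases hj : j = i
    · subst hj
      rw [hb0i, ht, map_one, map_one]
    · rw [hb0def, Function.update_of_ne hj, hb0']
  have hε : ∀ j, ψ₀ (f j) - ψ₀ (f i) * b0 j ∈ N := fun j => by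
    rw [← Ideal.Quotient.eq_zero_iff_mem, map_sub, map_mul, hb0, hψ₀', hψ₀', ← map_mul, hft,
      sub_self]
  -- Step 3: `B` as an `A`-algebra
  letI : Algebra A B := ψ₀.toRingHom.toAlgebra
  haveI : IsScalarTower R A B := IsScalarTower.of_algebraMap_eq (fun x => (ψ₀.commutes x).symm)
  have hsmul : ∀ (a : A) (n : N), ((a • n : N) : B) = ψ₀ a * (n : B) := fun a n => rfl
  let N' : Submodule A N := LinearMap.range (LinearMap.lsmul A N (f i))
  have hN' : ∀ n : N, n ∈ N' ↔ ∃ m : N, ψ₀ (f i) * (m : B) = (n : B) := fun n => by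
    constructor
    · rintro ⟨m, rfl⟩
      exact ⟨m, rfl⟩
    · rintro ⟨m, hm⟩
      exact ⟨m, Subtype.ext hm⟩
  have hkill : ∀ x ∈ I, ∀ m : N ⧸ N', x • m = 0 := by
    intro x hx
    rw [← hI] at hx
    have : Ideal.span (Set.range f) ≤ Module.annihilator A (N ⧸ N') := by
      rw [Ideal.span_le]
      rintro _ ⟨j, rfl⟩
      rw [SetLike.mem_coe, Module.mem_annihilator]
      intro m
      obtain ⟨n, rfl⟩ := Submodule.Quotient.mk_surjective _ m
      rw [← Submodule.Quotient.mk_smul, Submodule.Quotient.mk_eq_zero, hN']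
      refine ⟨⟨b0 j * n, Ideal.mul_mem_left _ _ n.2⟩, ?_⟩
      rw [hsmul]
      change ψ₀ (f i) * (b0 j * (n : B)) = ψ₀ (f j) * (n : B)
      have h1 := hNN _ (hε j) _ n.2
      linear_combination -h1
    exact Module.mem_annihilator.mp (this hx)
  -- Step 4: the correcting derivation
  have hker : RingHom.ker (algebraMap A (A ⧸ I)) = Ideal.span (Set.range f) := by
    rw [Ideal.Quotient.algebraMap_eq, Ideal.mk_ker, hI]
  obtain ⟨μ, hμ⟩ := exists_kaehler_linearMap (R := R) (A := A) (B := A ⧸ I)
    Ideal.Quotient.mk_surjective f hH1 hker (M := N ⧸ N')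
    (fun x hx m => hkill x (by rwa [Ideal.Quotient.algebraMap_eq, Ideal.mk_ker] at hx) m)
    (fun j => - N'.mkQ ⟨_, hε j⟩)
  obtain ⟨ν, hν⟩ := Module.projective_lifting_property N'.mkQ μ (Submodule.mkQ_surjective _)
  let δ : Derivation R A N := ν.compDer (KaehlerDifferential.D R A)
  have hδ : ∀ a, δ a = ν (KaehlerDifferential.D R A a) := fun a => rfl
  let ψ : A →ₐ[R] B := liftOfDerivationToSquareZero N hN δ
  have hψ : ∀ a, ψ a = (δ a : B) + ψ₀ a := fun a => rfl
  -- the witnesses
  have hwit : ∀ j, ∃ m : N, ψ₀ (f i) * (m : B) = (δ (f j) : B) + (ψ₀ (f j) - ψ₀ (f i) * b0 j) := by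
    intro j
    have h1 : N'.mkQ (δ (f j)) = - N'.mkQ ⟨_, hε j⟩ := by
      rw [hδ, ← hμ j, ← hν]; rfl
    have h2 : δ (f j) + ⟨_, hε j⟩ ∈ N' := by
      rw [← Submodule.Quotient.mk_eq_zero, Submodule.Quotient.mk_add]
      change N'.mkQ (δ (f j)) + N'.mkQ ⟨_, hε j⟩ = 0
      rw [h1, neg_add_cancel]
    obtain ⟨m, hm⟩ := (hN' _).mp h2
    exact ⟨m, hm⟩
  choose m hm using hwit
  obtain ⟨n', hn'⟩ : ∃ n' : N, ψ₀ (f i) * (n' : B) = (δ (f i) : B) := by
    refine ⟨m i, ?_⟩
    rw [hm i, hb0i, mul_one, sub_self, add_zero]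
  obtain ⟨τ, hτdef⟩ : ∃ τ : Fin r → B, τ = Function.update
      (fun j => b0 j + (m j : B) - (n' : B) * b0 j) i 1 := ⟨_, rfl⟩
  have hτi : τ i = 1 := by rw [hτdef, Function.update_self]
  have hτ : ∀ j, j ≠ i → τ j = b0 j + (m j : B) - (n' : B) * b0 j := fun j hj => by
    rw [hτdef, Function.update_of_ne hj]
  have hrel : ∀ j, ψ.toRingHom (f i) * τ j = ψ.toRingHom (f j) := by
    intro j
    by_cases hj : j = i
    · subst hj
      rw [hτi, mul_one]
    · rw [hτ j hj]
      change ψ (f i) * _ = ψ (f j)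
      rw [hψ, hψ]
      have h3 := hNN _ (δ (f i)).2 _ (m j).2
      have h4 := hNN _ (δ (f i)).2 _ n'.2
      linear_combination h3 - b0 j * h4 + hm j - b0 j * hn'
  obtain ⟨G₀, hG₀, hG₀t⟩ := hlift B ψ.toRingHom τ hτi hrel
  have hG₀' : ∀ a, G₀ (algebraMap A Cc a) = ψ a := fun a => RingHom.congr_fun hG₀ a
  let G : Cc →ₐ[R] B := { G₀ with
    commutes' := fun x => by
      change G₀ (algebraMap R Cc x) = algebraMap R B x
      rw [IsScalarTower.algebraMap_apply R A Cc, hG₀', AlgHom.commutes] }
  refine ⟨G, ?_⟩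
  have key : (Ideal.Quotient.mk N).comp G₀ = g.toRingHom := by
    apply hext
    · apply RingHom.ext
      intro a
      change Ideal.Quotient.mk N (G₀ (algebraMap A Cc a)) = g (algebraMap A Cc a)
      rw [hG₀', hψ, map_add, Ideal.Quotient.eq_zero_iff_mem.mpr (δ a).2, zero_add, hψ₀']
    · intro j
      change Ideal.Quotient.mk N (G₀ (t j)) = g (t j)
      rw [hG₀t]
      by_cases hj : j = i
      · subst hj
        rw [hτi, ht, map_one, map_one]
      · rw [hτ j hj, map_sub, map_add, map_mul, Ideal.Quotient.eq_zero_iff_mem.mpr (m j).2,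
          Ideal.Quotient.eq_zero_iff_mem.mpr n'.2, zero_mul, add_zero, sub_zero, hb0]
  apply AlgHom.ext
  intro c
  exact RingHom.congr_fun key c

open Groth.Agent.Lib.helper16.ReesBlowup Groth.Agent.Lib.helper28.ReesPres

/-- The chart ring `A[I/f_i]` of an `H₁`-regular sequence is of finite presentation over `A`. -/
theorem finitePresentation_toAway {A : Type u} [CommRing A] (I : Ideal A) {r : ℕ}
    (f : Fin r → A) (hmem : ∀ j, f j ∈ I) (hspan : I ≤ Ideal.span (Set.range f))
    (hH1 : CAlgX.IsH1Regular f) (i : Fin r) :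
    (toAway I (f i) (hmem i)).FinitePresentation := by
  have h1 : toAway I (f i) (hmem i) = (π I f hmem i).comp (MvPolynomial.C) := by
    apply RingHom.ext
    intro x
    rw [RingHom.comp_apply, π_C]
  rw [h1]
  refine RingHom.FinitePresentation.comp_surjective ?_ (π_surjective I f hmem i hspan) ?_
  · have : (algebraMap A (MvPolynomial (Fin r) A)).FinitePresentation :=
      RingHom.finitePresentation_algebraMap.mpr inferInstance
    rwa [MvPolynomial.algebraMap_eq] at this
  · have : RingHom.ker (π I f hmem i) = J f i :=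
      le_antisymm (ker_π_le I f hmem i hH1) (J_le_ker I f hmem i)
    rw [this, J]
    exact Submodule.FG.sup (Submodule.fg_span_singleton _)
      (Submodule.fg_span (Set.finite_range _))

/-- **The chart ring `A[I/f_i]` of the blow-up of a smooth `R`-algebra `A` in an ideal `I` with
`A/I` formally smooth over `R`, generated by an `H₁`-regular sequence, is smooth over `R`.** -/
theorem smooth_chart {R A : Type u} [CommRing R] [CommRing A] (φ : R →+* A) (hφ : φ.Smooth)
    (I : Ideal A) (hq : ((Ideal.Quotient.mk I).comp φ).FormallySmooth) {r : ℕ}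
    (f : Fin r → A) (hmem : ∀ j, f j ∈ I) (hspan : I ≤ Ideal.span (Set.range f))
    (hH1 : CAlgX.IsH1Regular f) (i : Fin r) :
    ((toAway I (f i) (hmem i)).comp φ).Smooth := by
  rw [RingHom.smooth_def]
  refine ⟨?_, (finitePresentation_toAway I f hmem hspan hH1 i).comp hφ.finitePresentation⟩
  letI instRA : Algebra R A := φ.toAlgebra
  let instAC : Algebra A (ReesFlat.C I (f i) (hmem i)) := (toAway I (f i) (hmem i)).toAlgebra
  let instRC : Algebra R (ReesFlat.C I (f i) (hmem i)) :=
    ((toAway I (f i) (hmem i)).comp φ).toAlgebra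
  have tower : @IsScalarTower R A (ReesFlat.C I (f i) (hmem i)) instRA.toSMul instAC.toSMul
      instRC.toSMul :=
    @IsScalarTower.of_algebraMap_eq R A (ReesFlat.C I (f i) (hmem i)) _ _ _ instRA instAC instRC
      (fun x => rfl)
  haveI : Algebra.FormallySmooth R A := hφ.formallySmooth
  haveI : Algebra.FormallySmooth R (A ⧸ I) := by
    have h := hq
    rw [RingHom.FormallySmooth] at h
    have e : ((Ideal.Quotient.mk I).comp φ).toAlgebra = (inferInstance : Algebra R (A ⧸ I)) :=
      Algebra.algebra_ext _ _ (fun x => rfl)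
    rwa [e] at h
  have hI : Ideal.span (Set.range f) = I :=
    le_antisymm (Ideal.span_le.mpr (by rintro _ ⟨j, rfl⟩; exact hmem j)) hspan
  change @Algebra.FormallySmooth R (ReesFlat.C I (f i) (hmem i)) _ _ instRC
  exact @formallySmooth_of_universal R A (ReesFlat.C I (f i) (hmem i)) _ _ _ instRA instAC instRC
    tower _ I _ r f hI hH1 i
    (t I f hmem i) (t_self I f hmem i) (toAway_mul_t I f hmem i)
    (fun D _ ρ τ h1 h2 => exists_lift I f hmem i hH1 hspan ρ τ h1 h2)
    (fun D _ l₁ l₂ h1 h2 => hom_ext I f hmem i hspan l₁ l₂ h1 h2)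

end Groth.Agent.Lib.helper28.SmoothChart
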