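import Mathlib
import Groth.Agent.Lib.Helper28.SmoothChart
import Groth.Agent.Lib.Helper28.ExcSmooth
import Groth.Agent.Lib.Helper17.H1Reg

/-!
# The blowing up of a smooth scheme in a smooth centre is smooth (helper28)

`q : X ⟶ S` smooth, `i : Z ⟶ X` a closed immersion with `i ≫ q` smooth, whose ideal is locally
generated by `H₁`-regular sequences (automatic, see `S9787`), `b : X' ⟶ X` a blowing up of the
ideal of `Z`.  Then `b ≫ q` is smooth (`smooth_blowUp_comp`), and so is the exceptional divisor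
(`smooth_exceptional_comp`).
-/

set_option autoImplicit false
set_option linter.style.haveILetI false
set_option linter.unusedTactic false

universe u

open CategoryTheory CategoryTheory.Limits AlgebraicGeometry Opposite TopologicalSpace

namespace Groth.Agent.Lib.helper28.SmoothBlowUp

open Groth.Agent.Lib.helper16.ReesBlowup Groth.Agent.Lib.helper28.ReesPres
  Groth.Agent.Lib.helper28.ReesAlg Groth.Agent.Lib.helper28.BlowUpChart

section alg

/-- Formal smoothness of `R → A → A/I` from that of `R → A → B` for a surjection `A → B` with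
kernel `I`. -/
theorem formallySmooth_mk_comp_of_surjective {R A B : Type u} [CommRing R] [CommRing A]
    [CommRing B] (φ : R →+* A) (ψ : A →+* B) (hψ : Function.Surjective ψ) (I : Ideal A)
    (hI : RingHom.ker ψ = I) (h : (ψ.comp φ).FormallySmooth) :
    ((Ideal.Quotient.mk I).comp φ).FormallySmooth := by
  subst hI
  let e : (A ⧸ RingHom.ker ψ) ≃+* B := RingHom.quotientKerEquivOfSurjective hψ
  have h1 : (Ideal.Quotient.mk (RingHom.ker ψ)).comp φ = e.symm.toRingHom.comp (ψ.comp φ) := by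
    apply RingHom.ext
    intro x
    change Ideal.Quotient.mk (RingHom.ker ψ) (φ x) = e.symm (ψ (φ x))
    rw [RingEquiv.eq_symm_apply]
    rfl
  rw [h1]
  exact RingHom.FormallySmooth.respectsIso.1 _ e.symm h

end alg

variable {X X' Z S : Scheme.{u}}

/-- Local `H₁`-regular generators of an ideal sheaf can be found on arbitrarily small affine
opens. -/
theorem exists_h1_generators_le (𝓘 : X.IdealSheafData)
    (hloc : ∀ x : X, ∃ (U : X.Opens) (hU : IsAffineOpen U) (r : ℕ) (f : Fin r → Γ(X, U)),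
      x ∈ U ∧ 𝓘.ideal ⟨U, hU⟩ = Ideal.span (Set.range f) ∧ CAlgX.IsH1Regular f)
    (x : X) (W : X.Opens) (hxW : x ∈ W) :
    ∃ (U : X.Opens) (hU : IsAffineOpen U) (r : ℕ) (f : Fin r → Γ(X, U)),
      x ∈ U ∧ U ≤ W ∧ 𝓘.ideal ⟨U, hU⟩ = Ideal.span (Set.range f) ∧ CAlgX.IsH1Regular f := by
  obtain ⟨U₀, hU₀, r, f₀, hxU₀, hI, hH1⟩ := hloc x
  obtain ⟨s, hsW, hxs⟩ := hU₀.exists_basicOpen_le (V := W) ⟨x, hxW⟩ hxU₀
  have hD : IsAffineOpen (X.basicOpen s) := hU₀.basicOpen s
  haveI := hU₀.isLocalization_basicOpen s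
  refine ⟨X.basicOpen s, hD, r, fun j => algebraMap Γ(X, U₀) Γ(X, X.basicOpen s) (f₀ j),
    hxs, hsW, ?_, ?_⟩
  · have h1 := 𝓘.map_ideal_basicOpen ⟨U₀, hU₀⟩ s
    have h2 : 𝓘.ideal ⟨X.basicOpen s, hD⟩ = 𝓘.ideal (X.affineBasicOpen (U := ⟨U₀, hU₀⟩) s) := rfl
    rw [h2, ← h1, hI, Ideal.map_span, ← Set.range_comp]
    rfl
  · exact Groth.Agent.Lib.helper17.H1Reg.isH1Regular_localization (Submonoid.powers s) f₀ hH1

/-- **The blowing up of a smooth `S`-scheme in a smooth centre is smooth over `S`.** -/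
theorem smooth_blowUp_comp (q : X ⟶ S) [Smooth q] (i : Z ⟶ X) [IsClosedImmersion i]
    [Smooth (i ≫ q)] (b : X' ⟶ X) (hb : BlowUp.IsBlowUp b i.ker)
    (hloc : ∀ x : X, ∃ (U : X.Opens) (hU : IsAffineOpen U) (r : ℕ) (f : Fin r → Γ(X, U)),
      x ∈ U ∧ i.ker.ideal ⟨U, hU⟩ = Ideal.span (Set.range f) ∧ CAlgX.IsH1Regular f) :
    Smooth (b ≫ q) := by
  rw [HasRingHomProperty.iff_exists_appLE (P := @Smooth)
    (RingHom.Smooth.stableUnderComposition.stableUnderCompositionWithLocalizationAway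
      RingHom.Smooth.holdsForLocalizationAway).left]
  intro x'
  obtain ⟨V, hV, hxV, -⟩ := Opens.isBasis_iff_nbhd.mp S.isBasis_affineOpens
    (Opens.mem_top (q (b x')))
  obtain ⟨U, hU, r, f, hxU, hUV, hI, hH1⟩ :=
    exists_h1_generators_le i.ker hloc (b x') (q ⁻¹ᵁ V) hxV
  have hmem : ∀ j, f j ∈ IU i.ker U hU := fun j => by
    change f j ∈ i.ker.ideal ⟨U, hU⟩
    rw [hI]
    exact Ideal.subset_span ⟨j, rfl⟩
  have hspan : IU i.ker U hU ≤ Ideal.span (Set.range f) := hI.le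
  obtain ⟨k, W', hW', hle, θ, hxW', hθ⟩ :=
    exists_chart_of_span i.ker b hb U hU f hmem hspan x' hxU
  have hle2 : W' ≤ (b ≫ q) ⁻¹ᵁ V := by
    rw [Scheme.Hom.comp_preimage]
    exact hle.trans (b.preimage_mono hUV)
  refine ⟨⟨V, hV⟩, ⟨W', hW'⟩, hxW', hle2, ?_⟩
  have h1 : (b ≫ q).appLE V W' hle2 = q.appLE V U hUV ≫ b.appLE U W' hle := by
    rw [Scheme.Hom.appLE_comp_appLE]
  rw [h1, CommRingCat.hom_comp, ← hθ, RingHom.comp_assoc]
  refine RingHom.Smooth.comp ?_ (RingHom.Smooth.of_bijective θ.bijective)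
  refine Groth.Agent.Lib.helper28.SmoothChart.smooth_chart _ (q.smooth_appLE hV hU hUV)
    (IU i.ker U hU) ?_ f hmem hspan hH1 k
  -- the centre is smooth over the base
  have hle3 : i ⁻¹ᵁ U ≤ (i ≫ q) ⁻¹ᵁ V := by
    rw [Scheme.Hom.comp_preimage]
    exact i.preimage_mono hUV
  have h2 : ((i ≫ q).appLE V (i ⁻¹ᵁ U) hle3).hom.Smooth :=
    (i ≫ q).smooth_appLE hV (hU.preimage i) hle3
  have h3 : (i ≫ q).appLE V (i ⁻¹ᵁ U) hle3 = q.appLE V U hUV ≫ i.app U := by
    rw [Scheme.Hom.app_eq_appLE, Scheme.Hom.appLE_comp_appLE]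
  rw [h3, CommRingCat.hom_comp] at h2
  exact formallySmooth_mk_comp_of_surjective _ (i.app U).hom (i.app_surjective U hU) _
    (Scheme.Hom.ker_apply i ⟨U, hU⟩).symm h2.formallySmooth

/-- **The exceptional divisor of the blowing up of a smooth `S`-scheme in a smooth centre is
smooth over `S`.** -/
theorem smooth_exceptional_comp (q : X ⟶ S) (i : Z ⟶ X) [IsClosedImmersion i]
    [Smooth (i ≫ q)] (b : X' ⟶ X) (hb : BlowUp.IsBlowUp b i.ker)
    (hloc : ∀ x : X, ∃ (U : X.Opens) (hU : IsAffineOpen U) (r : ℕ) (f : Fin r → Γ(X, U)),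
      x ∈ U ∧ i.ker.ideal ⟨U, hU⟩ = Ideal.span (Set.range f) ∧ CAlgX.IsH1Regular f) :
    Smooth ((i.ker.comap b).subschemeι ≫ b ≫ q) := by
  -- the exceptional divisor maps to the centre
  have hle : i.ker ≤ ((i.ker.comap b).subschemeι ≫ b).ker := by
    rw [← Scheme.IdealSheafData.map_ker, Scheme.IdealSheafData.ker_subschemeι]
    exact Scheme.IdealSheafData.le_map_comap i.ker b
  obtain ⟨g, hg⟩ : ∃ g : (i.ker.comap b).subscheme ⟶ Z,
      g ≫ i = (i.ker.comap b).subschemeι ≫ b :=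
    ⟨IsClosedImmersion.lift i _ hle, IsClosedImmersion.lift_fac i _ hle⟩
  haveI : Smooth g := Groth.Agent.Lib.helper28.ExcSmooth.smooth_exceptional i b hb
    (fun z => hloc (i z)) g hg
  have h1 : (i.ker.comap b).subschemeι ≫ b ≫ q = g ≫ (i ≫ q) := by
    rw [← Category.assoc, ← hg, Category.assoc]
  rw [h1]
  infer_instance

/-- Off the support, an ideal sheaf is locally generated by the `H₁`-regular sequence `(1)`. -/
theorem exists_h1_generators_of_notMem_support (𝓘 : X.IdealSheafData) (x : X)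
    (hx : x ∉ 𝓘.support) :
    ∃ (U : X.Opens) (hU : IsAffineOpen U) (r : ℕ) (f : Fin r → Γ(X, U)),
      x ∈ U ∧ 𝓘.ideal ⟨U, hU⟩ = Ideal.span (Set.range f) ∧ CAlgX.IsH1Regular f := by
  rw [Scheme.IdealSheafData.mem_support_iff] at hx
  simp only [not_forall] at hx
  obtain ⟨U₀, hU₀⟩ := hx
  rw [Scheme.mem_zeroLocus_iff] at hU₀
  simp only [not_forall, not_not] at hU₀
  obtain ⟨s, hs, hxs⟩ := hU₀
  have hD : IsAffineOpen (X.basicOpen s) := U₀.2.basicOpen s
  have htop : 𝓘.ideal ⟨X.basicOpen s, hD⟩ = ⊤ := by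
    have h1 := 𝓘.map_ideal_basicOpen U₀ s
    have h2 : 𝓘.ideal ⟨X.basicOpen s, hD⟩ = 𝓘.ideal (X.affineBasicOpen s) := rfl
    rw [h2, ← h1]
    apply Ideal.eq_top_of_isUnit_mem _ (Ideal.mem_map_of_mem _ hs)
    exact X.toRingedSpace.isUnit_res_basicOpen s
  have hone : ∀ {R : Type u} [CommRing R], CAlgX.IsH1Regular (fun _ : Fin 1 => (1 : R)) := by
    intro R _ a ha
    have h0 : a = 0 := by
      funext j
      have : j = 0 := Subsingleton.elim _ _
      subst this
      simpa using ha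
    rw [h0]
    exact zero_mem _
  refine ⟨X.basicOpen s, hD, 1, fun _ => 1, hxs, ?_, hone⟩
  rw [htop, eq_comm, Ideal.eq_top_iff_one]
  exact Ideal.subset_span ⟨0, rfl⟩

end Groth.Agent.Lib.helper28.SmoothBlowUp
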