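import Groth.Agent.Lib.Helper28.SymSheaf
import Groth.Agent.Lib.Helper28.HomOfAffine

set_option autoImplicit false

universe u

/-! The symmetric algebra of a quasi-coherent module as a quasi-coherent algebra (helper28). -/

namespace Groth.Agent.Lib.helper28.SymAlg

open CategoryTheory CategoryTheory.Limits AlgebraicGeometry TopologicalSpace Opposite
open Groth.Agent.Lib.helper28.SymLoc Groth.Agent.Lib.helper28.SymSheaf
open Groth.Agent.Lib.helper28

variable {S : Scheme.{u}} (E : S.Modules) [E.IsQuasicoherent]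

/-- `Sym(E)` as a quasi-coherent algebra. -/
noncomputable def symAlg : RelSpec.QCAlg S := AffAlgGlue.alg (coequifibered E)

/-- Over an affine open, `Sym(E)(U) = Sym_{O(U)} E(U)`. -/
noncomputable def symIso (U : S.AffineZariskiSite) :
    (symAlg E).presheaf.obj (op U.1) ≅ CommRingCat.of (SymU E U.1) :=
  AffAlgGlue.gammaIso (coequifibered E) U

theorem str_symIso (U : S.AffineZariskiSite) (a : Γ(S, U.1)) :
    (symIso E U).hom.hom (((symAlg E).str.app (op U.1)).hom a) = algebraMap _ (SymU E U.1) a :=
  congrArg (fun k => k.hom a) (AffAlgGlue.str_gammaIso (coequifibered E) U)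

theorem symIso_naturality {U V : S.AffineZariskiSite} (h : V ≤ U)
    (x : (symAlg E).presheaf.obj (op U.1)) :
    (symIso E V).hom.hom (((symAlg E).presheaf.map
        (homOfLE (Scheme.AffineZariskiSite.toOpens_mono h)).op).hom x) =
      symRes E (Scheme.AffineZariskiSite.toOpens_mono h) ((symIso E U).hom.hom x) :=
  congrArg (fun k => k.hom x) (AffAlgGlue.gammaIso_naturality (coequifibered E) (homOfLE h))

theorem symIso_hom_inv (U : S.AffineZariskiSite) (y : SymU E U.1) :
    (symIso E U).hom.hom ((symIso E U).inv.hom y) = y := by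
  rw [← CommRingCat.comp_apply, Iso.inv_hom_id]
  rfl

theorem symIso_inv_hom (U : S.AffineZariskiSite) (x : (symAlg E).presheaf.obj (op U.1)) :
    (symIso E U).inv.hom ((symIso E U).hom.hom x) = x := by
  rw [← CommRingCat.comp_apply, Iso.hom_inv_id]
  rfl

theorem symIso_inv_naturality {U V : S.AffineZariskiSite} (h : V ≤ U) (y : SymU E U.1) :
    ((symAlg E).presheaf.map (homOfLE (Scheme.AffineZariskiSite.toOpens_mono h)).op).hom
        ((symIso E U).inv.hom y) =
      (symIso E V).inv.hom (symRes E (Scheme.AffineZariskiSite.toOpens_mono h) y) := by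
  have h1 := symIso_naturality E h ((symIso E U).inv.hom y)
  rw [symIso_hom_inv] at h1
  rw [← h1, symIso_inv_hom]

theorem symIso_inv_algebraMap (U : S.AffineZariskiSite) (a : Γ(S, U.1)) :
    (symIso E U).inv.hom (algebraMap _ (SymU E U.1) a) =
      ((symAlg E).str.app (op U.1)).hom a := by
  rw [← str_symIso, symIso_inv_hom]

/-- The canonical map on sections over an affine open. -/
noncomputable def jU (U : S.AffineZariskiSite) : Γ(E, U.1) →+ Γ((symAlg E).toModule, U.1) where
  toFun m := (symIso E U).inv.hom (SymmetricAlgebra.ι Γ(S, U.1) Γ(E, U.1) m)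
  map_zero' := by rw [map_zero, map_zero]; rfl
  map_add' m m' := by rw [map_add, map_add]; rfl

theorem jU_apply (U : S.AffineZariskiSite) (m : Γ(E, U.1)) :
    (jU E U m : (symAlg E).presheaf.obj (op U.1)) =
      (symIso E U).inv.hom (SymmetricAlgebra.ι Γ(S, U.1) Γ(E, U.1) m) := rfl

theorem smul_toModule (A : RelSpec.QCAlg S) (U : S.Opens) (r : Γ(S, U)) (x : Γ(A.toModule, U)) :
    r • x = (show Γ(A.toModule, U) from
      ((A.str.app (op U)).hom r * (show A.presheaf.obj (op U) from x))) := rfl

theorem exists_j : ∃ j : E ⟶ (symAlg E).toModule,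
    ∀ (U : S.AffineZariskiSite) (m : Γ(E, U.1)), j.app U.1 m = jU E U m := by
  refine HomOfAffine.exists_hom_of_affine (jU E) ?_ ?_
  · intro U V hVU m
    change (symIso E V).inv.hom (SymmetricAlgebra.ι _ _
        (resAdd E (Scheme.AffineZariskiSite.toOpens_mono hVU) m)) =
      ((symAlg E).presheaf.map (homOfLE (Scheme.AffineZariskiSite.toOpens_mono hVU)).op).hom
        ((symIso E U).inv.hom (SymmetricAlgebra.ι _ _ m))
    rw [symIso_inv_naturality E hVU]
    congr 1
    exact (symMap_ι _ _ _ m).symm
  · intro U r m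
    rw [smul_toModule]
    change (symIso E U).inv.hom (SymmetricAlgebra.ι _ _ (r • m)) =
      ((symAlg E).str.app (op U.1)).hom r * (symIso E U).inv.hom (SymmetricAlgebra.ι _ _ m)
    rw [LinearMap.map_smul, Algebra.smul_def, map_mul, symIso_inv_algebraMap]

/-- The canonical map `E ⟶ Sym(E)`. -/
noncomputable def j : E ⟶ (symAlg E).toModule := (exists_j E).choose

theorem j_app (U : S.AffineZariskiSite) (m : Γ(E, U.1)) :
    ((j E).app U.1 m : (symAlg E).presheaf.obj (op U.1)) =
      (symIso E U).inv.hom (SymmetricAlgebra.ι Γ(S, U.1) Γ(E, U.1) m) :=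
  (exists_j E).choose_spec U m

end Groth.Agent.Lib.helper28.SymAlg
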