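import Groth.Agent.Lib.Helper28.SymAlg

set_option autoImplicit false

universe u

/-! The universal property of `Sym(E)` among quasi-coherent algebras (helper28). -/

namespace Groth.Agent.Lib.helper28.SymAlg

open CategoryTheory CategoryTheory.Limits AlgebraicGeometry TopologicalSpace Opposite
open Groth.Agent.Lib.helper28.SymLoc Groth.Agent.Lib.helper28.SymSheaf
open Groth.Agent.Lib.helper28

variable {S : Scheme.{u}} (E : S.Modules) [E.IsQuasicoherent]
  (B : RelSpec.QCAlg S) (φ : E ⟶ B.toModule)

/-- `φ` over an open, as an additive map into the ring `B(U)`. -/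
noncomputable def φAdd (U : S.Opens) : Γ(E, U) →+ B.presheaf.obj (op U) :=
  (φ.app U).hom

theorem φAdd_smul (U : S.Opens) (a : Γ(S, U)) (m : Γ(E, U)) :
    φAdd E B φ U (a • m) = (B.str.app (op U)).hom a * φAdd E B φ U m :=
  Scheme.Modules.Hom.app_smul φ a m

theorem φAdd_res {U V : S.Opens} (h : V ≤ U) (m : Γ(E, U)) :
    φAdd E B φ V (resAdd E h m) = (B.presheaf.map (homOfLE h).op).hom (φAdd E B φ U m) := by
  have := φ.mapPresheaf.naturality (homOfLE h).op
  exact congr($this m)

/-- The ring homomorphism `Sym E(U) → B(U)` extending `φ`. -/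
noncomputable def liftU (U : S.Opens) : SymU E U →+* B.presheaf.obj (op U) :=
  liftRingHom (B.str.app (op U)).hom (φAdd E B φ U) (φAdd_smul E B φ U)

theorem liftU_res {U V : S.Opens} (h : V ≤ U) :
    (liftU E B φ V).comp (symRes E h) =
      (B.presheaf.map (homOfLE h).op).hom.comp (liftU E B φ U) := by
  refine ringHom_ext _ _ (fun a => ?_) (fun m => ?_)
  · change liftU E B φ V (symRes E h (algebraMap _ _ a)) =
      (B.presheaf.map (homOfLE h).op).hom (liftU E B φ U (algebraMap _ _ a))
    rw [symRes, symMap_algebraMap, liftU, liftU, liftRingHom_algebraMap, liftRingHom_algebraMap]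
    have := B.str.naturality (homOfLE h).op
    exact congr($this a)
  · change liftU E B φ V (symRes E h (SymmetricAlgebra.ι _ _ m)) =
      (B.presheaf.map (homOfLE h).op).hom (liftU E B φ U (SymmetricAlgebra.ι _ _ m))
    rw [symRes, symMap_ι, liftU, liftU, liftRingHom_ι, liftRingHom_ι]
    exact φAdd_res E B φ h m

/-- The extension over the affine opens. -/
noncomputable def ψRestrict :
    (Scheme.AffineZariskiSite.toOpensFunctor S).op ⋙ (symAlg E).presheaf ⟶
      (Scheme.AffineZariskiSite.toOpensFunctor S).op ⋙ B.presheaf where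
  app U := (symIso E U.unop).hom ≫ CommRingCat.ofHom (liftU E B φ U.unop.1)
  naturality {U V} i := by
    apply CommRingCat.hom_ext
    refine RingHom.ext fun x => ?_
    change liftU E B φ V.unop.1 ((symIso E V.unop).hom.hom
        (((symAlg E).presheaf.map
          (homOfLE (Scheme.AffineZariskiSite.toOpens_mono i.unop.le)).op).hom x)) =
      (B.presheaf.map (homOfLE (Scheme.AffineZariskiSite.toOpens_mono i.unop.le)).op).hom
        (liftU E B φ U.unop.1 ((symIso E U.unop).hom.hom x))
    rw [symIso_naturality E i.unop.le]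
    exact congrArg (fun k => k ((symIso E U.unop).hom.hom x))
      (liftU_res E B φ (Scheme.AffineZariskiSite.toOpens_mono i.unop.le))

/-- The underlying map of presheaves of rings of the extension. -/
noncomputable def ψHom : (symAlg E).presheaf ⟶ B.presheaf :=
  Functor.IsCoverDense.restrictHomEquivHom (G := Scheme.AffineZariskiSite.toOpensFunctor S)
    (K := Opens.grothendieckTopology S) (ℱ := (symAlg E).presheaf)
    (ℱ' := (⟨B.presheaf, B.isSheaf⟩ : TopCat.Sheaf CommRingCat.{u} S.carrier)) (ψRestrict E B φ)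

theorem ψHom_restrict :
    (Scheme.AffineZariskiSite.toOpensFunctor S).op.whiskerLeft (ψHom E B φ) = ψRestrict E B φ :=
  (Functor.IsCoverDense.restrictHomEquivHom (G := Scheme.AffineZariskiSite.toOpensFunctor S)
    (K := Opens.grothendieckTopology S) (ℱ := (symAlg E).presheaf)
    (ℱ' := (⟨B.presheaf, B.isSheaf⟩ : TopCat.Sheaf CommRingCat.{u} S.carrier))).symm_apply_apply _

theorem ψHom_app (U : S.AffineZariskiSite) (x : (symAlg E).presheaf.obj (op U.1)) :
    ((ψHom E B φ).app (op U.1)).hom x = liftU E B φ U.1 ((symIso E U).hom.hom x) :=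
  congrArg (fun k => k.hom x) (NatTrans.congr_app (ψHom_restrict E B φ) (op U))

/-- Maps of presheaves of rings into a sheaf agree if they agree on affine opens. -/
theorem presheafHom_ext {P : TopCat.Presheaf CommRingCat.{u} S.carrier} (f g : P ⟶ B.presheaf)
    (h : ∀ U : S.AffineZariskiSite, f.app (op U.1) = g.app (op U.1)) : f = g := by
  apply (Functor.IsCoverDense.restrictHomEquivHom (G := Scheme.AffineZariskiSite.toOpensFunctor S)
    (K := Opens.grothendieckTopology S) (ℱ := P)
    (ℱ' := (⟨B.presheaf, B.isSheaf⟩ : TopCat.Sheaf CommRingCat.{u} S.carrier))).symm.injective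
  ext U : 2
  exact h U.unop

theorem str_ψHom : (symAlg E).str ≫ ψHom E B φ = B.str := by
  apply presheafHom_ext
  intro U
  apply CommRingCat.hom_ext
  refine RingHom.ext fun a => ?_
  change ((ψHom E B φ).app (op U.1)).hom (((symAlg E).str.app (op U.1)).hom a) =
    (B.str.app (op U.1)).hom a
  rw [ψHom_app, str_symIso, liftU, liftRingHom_algebraMap]

/-- The extension of `φ` to `Sym(E)`. -/
noncomputable def ψ : symAlg E ⟶ B := ⟨ψHom E B φ, str_ψHom E B φ⟩

theorem j_ψ : j E ≫ RelSpec.QCAlg.Hom.toModuleMap (ψ E B φ) = φ := by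
  apply HomOfAffine.hom_ext_of_affine
  intro U m
  change ((ψHom E B φ).app (op U.1)).hom ((j E).app U.1 m) = φAdd E B φ U.1 m
  rw [j_app, ψHom_app, symIso_hom_inv, liftU, liftRingHom_ι]

theorem ψ_unique (ψ' : symAlg E ⟶ B)
    (h : j E ≫ RelSpec.QCAlg.Hom.toModuleMap ψ' = φ) : ψ' = ψ E B φ := by
  apply RelSpec.QCAlg.hom_ext
  apply presheafHom_ext
  intro U
  apply CommRingCat.hom_ext
  -- compare after the identification with `Sym E(U)`
  have key : (ψ'.hom.app (op U.1)).hom.comp (symIso E U).inv.hom =
      ((ψHom E B φ).app (op U.1)).hom.comp (symIso E U).inv.hom := by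
    refine ringHom_ext _ _ (fun a => ?_) (fun m => ?_)
    · change (ψ'.hom.app (op U.1)).hom ((symIso E U).inv.hom (algebraMap _ _ a)) =
        ((ψHom E B φ).app (op U.1)).hom ((symIso E U).inv.hom (algebraMap _ _ a))
      rw [symIso_inv_algebraMap]
      have h1 := congrArg (fun k => (k.app (op U.1)).hom a) ψ'.comm
      have h2 := congrArg (fun k => (k.app (op U.1)).hom a) (str_ψHom E B φ)
      exact h1.trans h2.symm
    · change (ψ'.hom.app (op U.1)).hom ((symIso E U).inv.hom (SymmetricAlgebra.ι _ _ m)) =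
        ((ψHom E B φ).app (op U.1)).hom ((symIso E U).inv.hom (SymmetricAlgebra.ι _ _ m))
      rw [← j_app]
      have h1 := congrArg (fun k => (k.app U.1).hom m) h
      have h2 := congrArg (fun k => (k.app U.1).hom m) (j_ψ E B φ)
      exact h1.trans h2.symm
  refine RingHom.ext fun x => ?_
  have := congrArg (fun k => k ((symIso E U).hom.hom x)) key
  simp only [RingHom.comp_apply] at this
  rw [symIso_inv_hom] at this
  exact this

theorem isSymAlg : RelSpec.IsSymAlg E (symAlg E) (j E) :=
  fun B φ => ⟨ψ E B φ, j_ψ E B φ, fun ψ' h => ψ_unique E B φ ψ' h⟩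

end Groth.Agent.Lib.helper28.SymAlg
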