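import Groth.Agent.Lib.Helper28.SymGradedExists
import Groth.Agent.Lib.Lead.GenDegOne

/-!
# Properties of the graded symmetric algebra `grAlg` (helper28)

For a symmetric algebra `(A, jA)` of a quasi-coherent module `E`, with its grading `grAlg` by
symmetric powers:
* `isGenDegOne`: it is generated in degrees `0` and `1`.
* `isGradedHom_of_deg_one`: an algebra map `ψ : A ⟶ 𝒮` to a graded algebra sending `jA(E)` into
  degree one is graded.
* `irrelevant_le_map`: if moreover `𝒮` is generated in degree one and `jA ≫ ψ` is onto `𝒮_1`, the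
  irrelevant ideal of `𝒮(U)` is generated by the image of that of `A(U)`.
-/

set_option autoImplicit false

universe u

namespace Groth.Agent.Lib.helper28.SymGradedProps

open CategoryTheory CategoryTheory.Limits AlgebraicGeometry TopologicalSpace Opposite
open scoped HomogeneousIdeal
open Groth.Agent.Lib.helper28.SymAlg Groth.Agent.Lib.helper28.SymLoc
  Groth.Agent.Lib.helper28.SymSheaf Groth.Agent.Lib.helper28
open Groth.Agent.Lib.helper28.SymAlgGrading Groth.Agent.Lib.helper28.GradedTransport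
  Groth.Agent.Lib.helper28.SymGradedExists

variable {S : Scheme.{u}} (E : S.Modules) [E.IsQuasicoherent]
  (A : RelSpec.QCAlg S) (jA : E ⟶ A.toModule) (hA : RelSpec.IsSymAlg E A jA)

theorem isGenDegOne : (grAlg E A jA hA).IsGenDegOne := by
  intro U hU
  rw [eq_top_iff]
  intro x hx
  clear hx
  obtain ⟨y, rfl⟩ := (liftU_bijective E A jA hA ⟨U, hU⟩).2 x
  induction y using SymmetricAlgebra.induction with
  | algebraMap r =>
    refine Subring.subset_closure (Or.inl ?_)
    exact ⟨algebraMap _ _ r, by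
      rw [symPow, pow_zero, Submodule.one_eq_range]
      exact ⟨r, rfl⟩, rfl⟩
  | ι m =>
    refine Subring.subset_closure (Or.inr ?_)
    exact ⟨SymmetricAlgebra.ι _ _ m, by
      rw [symPow, pow_one]
      exact ⟨m, rfl⟩, rfl⟩
  | mul a b ha hb =>
    rw [map_mul]
    exact Subring.mul_mem _ ha hb
  | add a b ha hb =>
    rw [map_add]
    exact Subring.add_mem _ ha hb

variable (𝒮 : RelProj.QCGrAlg S) (ψ : A ⟶ 𝒮.toQCAlg)

theorem ψ_str (U : S.Opens) (r : Γ(S, U)) :
    (ψ.hom.app (op U)).hom ((A.str.app (op U)).hom r) = (𝒮.str.app (op U)).hom r := by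
  have h0 := NatTrans.congr_app ψ.comm (op U)
  rw [NatTrans.comp_app] at h0
  rw [← h0]
  rfl

theorem isGradedHom_of_deg_one
    (h1 : ∀ (U : S.Opens) (hU : IsAffineOpen U) (m : Γ(E, U)),
      (ψ.hom.app (op U)).hom ((jA.app U).hom m) ∈ 𝒮.deg U hU 1) :
    RelProj.IsGradedHom (𝒜 := grAlg E A jA hA) (ℬ := 𝒮) ψ := by
  intro U hU d x hx
  obtain ⟨y, hy, rfl⟩ := hx
  change (ψ.hom.app (op U)).hom (liftU E A jA U y) ∈ 𝒮.deg U hU d
  induction hy using Submodule.pow_induction_on_left' with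
  | algebraMap r =>
    rw [liftU_algebraMap, ψ_str]
    exact 𝒮.str_mem U hU r
  | add x y i hx hy ihx ihy =>
    rw [map_add, map_add]
    exact add_mem ihx ihy
  | mem_mul m hm i x hx ih =>
    obtain ⟨m₀, rfl⟩ := hm
    rw [map_mul, map_mul]
    have h2 : (ψ.hom.app (op U)).hom (liftU E A jA U (SymmetricAlgebra.ι _ _ m₀)) ∈
        𝒮.deg U hU 1 := by
      rw [liftU_ι]
      exact h1 U hU m₀
    have := SetLike.mul_mem_graded (A := 𝒮.deg U hU) h2 ih
    rwa [add_comm] at this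

theorem irrelevant_le_map (hgen : 𝒮.IsGenDegOne)
    (h1 : ∀ (U : S.Opens) (hU : IsAffineOpen U) (m : Γ(E, U)),
      (ψ.hom.app (op U)).hom ((jA.app U).hom m) ∈ 𝒮.deg U hU 1)
    (hsurj : ∀ (U : S.Opens) (hU : IsAffineOpen U) (s : 𝒮.presheaf.obj (op U)),
      s ∈ 𝒮.deg U hU 1 → ∃ m : Γ(E, U), (ψ.hom.app (op U)).hom ((jA.app U).hom m) = s)
    (U : S.Opens) (hU : IsAffineOpen U) :
    (𝒮.deg U hU)₊ ≤ (((grAlg E A jA hA).deg U hU)₊).map
      (RelProj.gradedHomAt (𝒜 := grAlg E A jA hA) (ℬ := 𝒮) ψ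
        (isGradedHom_of_deg_one E A jA hA 𝒮 ψ h1) U hU) := by
  rw [HomogeneousIdeal.irrelevant_le]
  intro i hi b hb
  change b ∈ Ideal.map (ψ.hom.app (op U)).hom (((grAlg E A jA hA).deg U hU)₊.toIdeal)
  have h2 : ((𝒮.deg U hU)₊).toIdeal ≤
      Ideal.span ((ψ.hom.app (op U)).hom '' {t | t ∈ (grAlg E A jA hA).deg U hU 1}) := by
    refine Groth.Agent.Lib.Lead.GenDegOne.irrelevant_le_span (hgen U hU) _ ?_
    intro s hs
    obtain ⟨m, rfl⟩ := hsurj U hU s hs
    exact Ideal.subset_span ⟨_, (isGrSymAlg E A jA hA).2 U hU m, rfl⟩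
  have h3 : Ideal.span ((ψ.hom.app (op U)).hom '' {t | t ∈ (grAlg E A jA hA).deg U hU 1}) ≤
      Ideal.map (ψ.hom.app (op U)).hom (((grAlg E A jA hA).deg U hU)₊.toIdeal) := by
    rw [Ideal.span_le]
    rintro _ ⟨t, ht, rfl⟩
    exact Ideal.mem_map_of_mem _
      (HomogeneousIdeal.mem_irrelevant_of_mem _ one_pos ht)
  exact h3 (h2 (HomogeneousIdeal.mem_irrelevant_of_mem _ hi hb))

end Groth.Agent.Lib.helper28.SymGradedProps
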