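import Groth.Agent.Lib.Helper22.SymKaehler
import Groth.Agent.Lib.Helper8.PullbackUnit

/-!
# `Ω[B⁄R]` is the base change of `M` when `B ≅ Sym_R M` (helper28)

`isBC_D`: for a bijective ring homomorphism `θ : Sym_R M → B` compatible with the `R`-algebra
structures, the map `M → Ω[B⁄R]`, `m ↦ d (θ (ι m))`, exhibits `Ω[B⁄R]` as `B ⊗[R] M`
(in the universal-property form `IsBC` of helper8).
-/

set_option autoImplicit false
universe u

open TensorProduct KaehlerDifferential

namespace Groth.Agent.Lib.helper28.SymKaehlerBC

open Groth.Agent.Lib.helper8.PullbackUnit Groth.Agent.Lib.helper22.SymKaehler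

variable {R B M : Type u} [CommRing R] [CommRing B] [Algebra R B] [AddCommGroup M] [Module R M]
  (θ : SymmetricAlgebra R M →+* B) (hθa : ∀ r : R, θ (algebraMap R _ r) = algebraMap R B r)

include hθa in
/-- Two derivations of `B ≅ Sym M` agreeing on the image of `M` are equal. -/
theorem der_ext (hθ : Function.Surjective θ) {T : Type u} [AddCommGroup T] [Module B T] [Module R T]
    [IsScalarTower R B T] (δ δ' : Derivation R B T)
    (h : ∀ m : M, δ (θ (SymmetricAlgebra.ι R M m)) = δ' (θ (SymmetricAlgebra.ι R M m))) :
    δ = δ' := by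
  ext b
  obtain ⟨s, rfl⟩ := hθ b
  induction s using SymmetricAlgebra.induction with
  | algebraMap r => rw [hθa, Derivation.map_algebraMap, Derivation.map_algebraMap]
  | ι m => exact h m
  | mul a b ha hb => rw [map_mul, Derivation.leibniz, Derivation.leibniz, ha, hb]
  | add a b ha hb => rw [map_add, map_add, map_add, ha, hb]

include hθa in
/-- Existence of a derivation with prescribed values on the image of `M`. -/
theorem exists_der (hθ : Function.Bijective θ) {T : Type u} [AddCommGroup T] [Module B T]
    [Module R T] [IsScalarTower R B T] (g : M →ₗ[R] T) :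
    ∃ δ : Derivation R B T, ∀ m : M, δ (θ (SymmetricAlgebra.ι R M m)) = g m := by
  let _ : Module (SymmetricAlgebra R M) T := Module.compHom T θ
  have hsm : ∀ (s : SymmetricAlgebra R M) (t : T), s • t = θ s • t := fun _ _ => rfl
  have : IsScalarTower R (SymmetricAlgebra R M) T := by
    refine ⟨fun r s t => ?_⟩
    rw [hsm, hsm, Algebra.smul_def, map_mul, hθa, ← Algebra.smul_def, smul_assoc]
  let g₀ : Ω[SymmetricAlgebra R M⁄R] →ₗ[SymmetricAlgebra R M] T :=
    (LinearMap.liftBaseChange (SymmetricAlgebra R M) g) ∘ₗ (symKaehlerEquiv R M).toLinearMap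
  let δ₀ : Derivation R (SymmetricAlgebra R M) T := g₀.compDer (KaehlerDifferential.D R _)
  have hδ₀ : ∀ m : M, δ₀ (SymmetricAlgebra.ι R M m) = g m := by
    intro m
    change LinearMap.liftBaseChange (SymmetricAlgebra R M) g
      (symKaehlerEquiv R M (KaehlerDifferential.D R _ (SymmetricAlgebra.ι R M m))) = g m
    rw [symKaehlerEquiv_D_ι, LinearMap.liftBaseChange_tmul, one_smul]
  let θe : SymmetricAlgebra R M ≃+* B := RingEquiv.ofBijective θ hθ
  have hθe : ∀ b, θ (θe.symm b) = b := fun b => θe.apply_symm_apply b
  have hθe' : ∀ s, θe.symm (θ s) = s := fun s => θe.symm_apply_apply s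
  refine ⟨{ toFun := fun b => δ₀ (θe.symm b)
            map_add' := fun a b => by rw [map_add, map_add]
            map_smul' := fun r b => by
              have : θe.symm (r • b) = r • θe.symm b := by
                apply hθ.1
                rw [hθe]
                rw [Algebra.smul_def, Algebra.smul_def, map_mul, hθa, hθe]
              rw [this, Derivation.map_smul]; rfl
            map_one_eq_zero' := by
              change δ₀ (θe.symm 1) = 0
              rw [map_one, Derivation.map_one_eq_zero]
            leibniz' := fun a b => by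
              change δ₀ (θe.symm (a * b)) = a • δ₀ (θe.symm b) + b • δ₀ (θe.symm a)
              rw [map_mul, Derivation.leibniz, hsm, hsm, hθe, hθe] }, fun m => ?_⟩
  change δ₀ (θe.symm (θ (SymmetricAlgebra.ι R M m))) = g m
  rw [hθe', hδ₀]

include hθa in
/-- **`Ω[B⁄R] = B ⊗[R] M` for `B ≅ Sym_R M`.** -/
theorem isBC_D (hθ : Function.Bijective θ) (k : M →+ Ω[B⁄R])
    (hk : ∀ m, k m = KaehlerDifferential.D R B (θ (SymmetricAlgebra.ι R M m))) :
    IsBC (algebraMap R B) k := by
  constructor
  · intro r m
    rw [hk, hk, map_smul (SymmetricAlgebra.ι R M), Algebra.smul_def, map_mul, hθa,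
      ← Algebra.smul_def, Derivation.map_smul, algebraMap_smul]
  · intro T _ _ h hh
    let _ : Module R T := Module.compHom T (algebraMap R B)
    have : IsScalarTower R B T := IsScalarTower.of_algebraMap_smul (fun r x => rfl)
    let hl : M →ₗ[R] T := { toFun := h, map_add' := h.map_add, map_smul' := fun r n => hh r n }
    obtain ⟨δ, hδ⟩ := exists_der θ hθa hθ hl
    refine ⟨δ.liftKaehlerDifferential, fun m => ?_, fun h'' hh'' => ?_⟩
    · rw [hk, Derivation.liftKaehlerDifferential_comp_D, hδ]; rfl
    · apply Derivation.liftKaehlerDifferential_unique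
      rw [Derivation.liftKaehlerDifferential_comp]
      refine der_ext θ hθa hθ.2 _ _ fun m => ?_
      rw [hδ]
      change h'' (KaehlerDifferential.D R B (θ (SymmetricAlgebra.ι R M m))) = h m
      rw [← hk, hh'']

end Groth.Agent.Lib.helper28.SymKaehlerBC
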