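import Groth.Agent.Lib.Helper28.SymLineGen
import Groth.Agent.Lib.Helper28.ProjQDom2

set_option autoImplicit false
universe u

namespace Groth.Agent.Lib.helper28.SymLineDom

open CategoryTheory CategoryTheory.Limits AlgebraicGeometry TopologicalSpace Opposite
open HomogeneousLocalization
open scoped HomogeneousIdeal
open Groth.Agent.Lib.helper28.RelTwistChart Groth.Agent.Lib.helper28.ProjQGlue
open Groth.Agent.Lib.helper28

variable {Y X P PL : Scheme.{u}} {q : X ⟶ Y}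
  (L : X.Modules) [L.IsQuasicoherent]
  {𝒮 : RelProj.QCGrAlg Y} (𝒮L : RelProj.QCGrAlg X) (j : L ⟶ 𝒮L.toModule)
  (hj : RelProj.IsGrSymAlg L 𝒮L j)
  (u : RelProj.QGrHom q 𝒮 𝒮L)
  {p : P ⟶ Y} {chart : ∀ (U : Y.Opens) (hU : IsAffineOpen U),
    (((p ⁻¹ᵁ U : P.Opens) : Scheme.{u}) ≅ Proj (𝒮.deg U hU))}
  {pL : PL ⟶ X} {chartL : ∀ (U : X.Opens) (hU : IsAffineOpen U),
    (((pL ⁻¹ᵁ U : PL.Opens) : Scheme.{u}) ≅ Proj (𝒮L.deg U hU))}

include hj in
/-- Points of `r⁻¹(D₊(f))`, seen in `Proj(𝒮L)`, are the points over the open `X_t`,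
`t = ψ♭(f)`. -/
theorem mem_image_preimage_iff (hL : PicF.IsInvertible L) (hP : RelProj.IsRelProj 𝒮 p chart)
    (hPL : RelProj.IsRelProj 𝒮L pL chartL)
    (r : ((RelProj.domQ u pL chartL : PL.Opens) : Scheme.{u}) ⟶ P)
    (hr : ∀ (U : Y.Opens) (hU : IsAffineOpen U) (U' : X.Opens) (hU' : IsAffineOpen U')
      (hle : U' ≤ q ⁻¹ᵁ U) (d : ℕ) (hd : 0 < d) (f : 𝒮.presheaf.obj (op U))
      (hf : f ∈ 𝒮.deg U hU d),
      stdChart u pL chartL U hU U' hU' hle hd f hf ≫ r = tgt u p chart U hU U' hU' hle hd f hf)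
    (hY : IsAffineOpen (⊤ : Y.Opens)) {d : ℕ} (hd : 0 < d) (f : 𝒮.presheaf.obj (op ⊤))
    (hf : f ∈ 𝒮.deg ⊤ hY d) (z : PL) :
    z ∈ (RelProj.domQ u pL chartL).ι ''ᵁ
        (r ⁻¹ᵁ ((RelProj.emb p chart ⊤ hY) ''ᵁ Proj.basicOpen (𝒮.deg ⊤ hY) f)) ↔
      ∃ (V : X.Opens) (hV : IsAffineOpen V), pL z ∈ V ∧
        ((𝒮L.deg V hV d : AddSubgroup (𝒮L.presheaf.obj (op V))) :
          Set (𝒮L.presheaf.obj (op V))) ⊆
          (Ideal.span {(u.appLE ⊤ V (le_top.trans (Scheme.Hom.preimage_top q).ge)).hom f} :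
            Set (𝒮L.presheaf.obj (op V))) := by
  have hO : (RelProj.emb p chart ⊤ hY) ''ᵁ Proj.basicOpen (𝒮.deg ⊤ hY) f =
      (Proj.awayι (𝒮.deg ⊤ hY) f hf hd ≫ RelProj.emb p chart ⊤ hY).opensRange := by
    rw [Scheme.Hom.opensRange_comp, Proj.opensRange_awayι]
  rw [hO]
  constructor
  · rintro ⟨x', hx', rfl⟩
    obtain ⟨V, hV, hxV, -⟩ := (Opens.isBasis_iff_nbhd.mp X.isBasis_affineOpens)
      (show pL ((RelProj.domQ u pL chartL).ι x') ∈ (⊤ : X.Opens) from trivial)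
    have hle : V ≤ q ⁻¹ᵁ ⊤ := le_top.trans (Scheme.Hom.preimage_top q).ge
    have hx : x' ∈ (stdChart u pL chartL ⊤ hY V hV hle hd f hf).opensRange := by
      rw [← preimage_chart u hP hPL r hr ⊤ hY V hV hle hd f hf]
      exact ⟨hx', hxV⟩
    obtain ⟨w, rfl⟩ := hx
    have e1 : (RelProj.domQ u pL chartL).ι (stdChart u pL chartL ⊤ hY V hV hle hd f hf w) =
        RelProj.emb pL chartL V hV ((Proj.awayι (𝒮L.deg V hV) (u.gradedAt ⊤ hY V hV hle f)
          ((u.gradedAt ⊤ hY V hV hle).map_mem hf) hd) w) := by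
      rw [← Scheme.Hom.comp_apply, stdChart_ι, awayEmb_apply]
    have hty : u.gradedAt ⊤ hY V hV hle f ∉ ((Proj.awayι (𝒮L.deg V hV)
        (u.gradedAt ⊤ hY V hV hle f) ((u.gradedAt ⊤ hY V hV hle).map_mem hf) hd)
          w).asHomogeneousIdeal := by
      have : (Proj.awayι (𝒮L.deg V hV) (u.gradedAt ⊤ hY V hV hle f)
          ((u.gradedAt ⊤ hY V hV hle).map_mem hf) hd) w ∈
          (Proj.awayι (𝒮L.deg V hV) (u.gradedAt ⊤ hY V hV hle f)
            ((u.gradedAt ⊤ hY V hV hle).map_mem hf) hd).opensRange := ⟨w, rfl⟩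
      rw [Proj.opensRange_awayι] at this
      exact (ProjectiveSpectrum.mem_basicOpen _ _ _).mp this
    obtain ⟨V', hV', hle', hxV', hspan⟩ := SymLineGen.exists_affine_deg_subset_span L 𝒮L j hj
      pL chartL hPL hL V hV (u.gradedAt ⊤ hY V hV hle f)
      ((u.gradedAt ⊤ hY V hV hle).map_mem hf) _ hty
    refine ⟨V', hV', ?_, ?_⟩
    · have h9 := hxV'
      rw [← e1] at h9
      exact h9
    · have e2 : (𝒮L.presheaf.map (homOfLE hle').op).hom (u.gradedAt ⊤ hY V hV hle f) =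
          (u.appLE ⊤ V' (le_top.trans (Scheme.Hom.preimage_top q).ge)).hom f := by
        have := congrArg (fun k => k.hom f) (u.toQHom.appLE_map hle hle')
        exact this
      rw [← e2]
      exact hspan
  · rintro ⟨V, hV, hzV, hspan⟩
    have hle : V ≤ q ⁻¹ᵁ ⊤ := le_top.trans (Scheme.Hom.preimage_top q).ge
    have hz : z ∈ Set.range (RelProj.emb pL chartL V hV) := by
      rw [range_emb]
      exact hzV
    obtain ⟨y, rfl⟩ := hz
    have hty := SymLineGen.notMem_of_deg_subset_span L 𝒮L j hj V hV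
      ((u.appLE ⊤ V hle).hom f) hspan y
    have hy : y ∈ (Proj.awayι (𝒮L.deg V hV) (u.gradedAt ⊤ hY V hV hle f)
        ((u.gradedAt ⊤ hY V hV hle).map_mem hf) hd).opensRange := by
      rw [Proj.opensRange_awayι]
      exact (ProjectiveSpectrum.mem_basicOpen _ _ _).mpr hty
    obtain ⟨w, rfl⟩ := hy
    have e1 : (RelProj.domQ u pL chartL).ι (stdChart u pL chartL ⊤ hY V hV hle hd f hf w) =
        RelProj.emb pL chartL V hV ((Proj.awayι (𝒮L.deg V hV) (u.gradedAt ⊤ hY V hV hle f)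
          ((u.gradedAt ⊤ hY V hV hle).map_mem hf) hd) w) := by
      rw [← Scheme.Hom.comp_apply, stdChart_ι, awayEmb_apply]
    refine ⟨stdChart u pL chartL ⊤ hY V hV hle hd f hf w, ?_, e1⟩
    have e2 : r (stdChart u pL chartL ⊤ hY V hV hle hd f hf w) =
        (tgt u p chart ⊤ hY V hV hle hd f hf) w := by
      rw [← Scheme.Hom.comp_apply, hr]
    have e3 : r (stdChart u pL chartL ⊤ hY V hV hle hd f hf w) ∈
        (Proj.awayι (𝒮.deg ⊤ hY) f hf hd ≫ RelProj.emb p chart ⊤ hY).opensRange := by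
      rw [e2, tgt_apply]
      exact ⟨_, Scheme.Hom.comp_apply _ _ _⟩
    exact e3

include hj in
/-- Over an affine base: `Proj(u)` is everywhere defined iff the opens `X_t`, `t = ψ♭(s)`, `s`
homogeneous of positive degree, cover `X`. -/
theorem domQ_eq_top_iff (hL : PicF.IsInvertible L) (hPL : RelProj.IsRelProj 𝒮L pL chartL)
    (hY : IsAffineOpen (⊤ : Y.Opens)) :
    RelProj.domQ u pL chartL = ⊤ ↔
      ∀ x : X, ∃ (n : ℕ) (_ : 0 < n) (s : 𝒮.presheaf.obj (op ⊤)) (_ : s ∈ 𝒮.deg ⊤ hY n)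
        (V : X.Opens) (hV : IsAffineOpen V), x ∈ V ∧
          ((𝒮L.deg V hV n : AddSubgroup (𝒮L.presheaf.obj (op V))) :
            Set (𝒮L.presheaf.obj (op V))) ⊆
            (Ideal.span {(u.appLE ⊤ V (le_top.trans (Scheme.Hom.preimage_top q).ge)).hom s} :
              Set (𝒮L.presheaf.obj (op V))) := by
  have hiso : IsIso pL := SymLineProj.isIso_of_isInvertible L 𝒮L j hj pL chartL hPL hL
  constructor
  · intro htop x
    obtain ⟨z, rfl⟩ := pL.surjective x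
    obtain ⟨V, hV, hxV, -⟩ := (Opens.isBasis_iff_nbhd.mp X.isBasis_affineOpens)
      (show pL z ∈ (⊤ : X.Opens) from trivial)
    have hle : V ≤ q ⁻¹ᵁ ⊤ := le_top.trans (Scheme.Hom.preimage_top q).ge
    have hz : z ∈ RelProj.domQ u pL chartL ⊓ pL ⁻¹ᵁ V := ⟨by rw [htop]; trivial, hxV⟩
    rw [domQ_inf_preimage u hPL ⊤ hY V hV hle] at hz
    obtain ⟨y, hy, rfl⟩ := hz
    obtain ⟨n, hn, s, hs, hsy⟩ := exists_homogeneous_of_mem_domOpen _ y hy
    obtain ⟨V', hV', hle', hxV', hspan⟩ := SymLineGen.exists_affine_deg_subset_span L 𝒮L j hj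
      pL chartL hPL hL V hV (u.gradedAt ⊤ hY V hV hle s)
      ((u.gradedAt ⊤ hY V hV hle).map_mem hs) y hsy
    refine ⟨n, hn, s, hs, V', hV', hxV', ?_⟩
    have e2 : (𝒮L.presheaf.map (homOfLE hle').op).hom (u.gradedAt ⊤ hY V hV hle s) =
        (u.appLE ⊤ V' (le_top.trans (Scheme.Hom.preimage_top q).ge)).hom s := by
      have := congrArg (fun k => k.hom s) (u.toQHom.appLE_map hle hle')
      exact this
    rw [← e2]
    exact hspan
  · intro h
    rw [← top_le_iff]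
    intro z _
    obtain ⟨n, hn, s, hs, V, hV, hxV, hspan⟩ := h (pL z)
    have hle : V ≤ q ⁻¹ᵁ ⊤ := le_top.trans (Scheme.Hom.preimage_top q).ge
    have hz : z ∈ Set.range (RelProj.emb pL chartL V hV) := by
      rw [range_emb]
      exact hxV
    obtain ⟨y, rfl⟩ := hz
    have hty := SymLineGen.notMem_of_deg_subset_span L 𝒮L j hj V hV
      ((u.appLE ⊤ V hle).hom s) hspan y
    have h1 : RelProj.emb pL chartL V hV y ∈ Set.range
        (RelProj.awayEmb u pL chartL ⊤ hY V hV hle hn s hs).base :=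
      (mem_range_awayEmb_iff u pL chartL ⊤ hY V hV hle hn s hs _).mpr ⟨y, rfl, hty⟩
    have h2 := RelProj.range_awayEmb_subset_domQ u pL chartL ⊤ hY V hV hle hn s hs h1
    rw [Scheme.Opens.range_ι] at h2
    exact h2

end Groth.Agent.Lib.helper28.SymLineDom
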