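import Groth.Agent.Lib.Helper28.SymLineProj
import Groth.Agent.Lib.Helper28.SymGraded
import Groth.Agent.Lib.Helper28.ProjQGlue2

set_option autoImplicit false
universe u

namespace Groth.Agent.Lib.helper28.SymLineGen

open CategoryTheory CategoryTheory.Limits AlgebraicGeometry TopologicalSpace Opposite
open HomogeneousLocalization
open scoped HomogeneousIdeal

section Ring

variable {A σ : Type u} [CommRing A] [SetLike σ A] [AddSubgroupClass σ A]
  (𝒜 : ℕ → σ) [GradedRing 𝒜]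

/-- The point `Proj A ⟶ Spec A₀` of `y` is `y ∩ A₀`. -/
theorem mem_toSpecZero_iff (y : Proj 𝒜) (a : 𝒜 0) :
    a ∈ ((Proj.toSpecZero 𝒜) y).asIdeal ↔ (a : A) ∈ y.asHomogeneousIdeal := by
  obtain ⟨i, s, hi, hs, hsy⟩ := Groth.Agent.Lib.helper28.ProjQGlue.exists_pos_notMem 𝒜 y
  have hyr : y ∈ (Proj.awayι 𝒜 s hs hi).opensRange := by
    rw [Proj.opensRange_awayι]
    exact (ProjectiveSpectrum.mem_basicOpen 𝒜 s y).mpr hsy
  obtain ⟨q, rfl⟩ := hyr
  have e1 : (Proj.toSpecZero 𝒜) ((Proj.awayι 𝒜 s hs hi) q) =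
      (Spec.map (CommRingCat.ofHom (fromZeroRingHom 𝒜 (Submonoid.powers s)))) q := by
    rw [← Scheme.Hom.comp_apply, Proj.awayι_toSpecZero]
  rw [e1]
  have hg : (a : A) * s ∈ 𝒜 i := by
    have := SetLike.mul_mem_graded a.2 hs
    rwa [zero_add] at this
  have key := Proj.awayι_preimage_basicOpen 𝒜 hs hi hg hi
  have helem : Away.isLocalizationElem hs hg =
      (fromZeroRingHom 𝒜 (Submonoid.powers s) a) ^ i := by
    apply HomogeneousLocalization.val_injective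
    rw [HomogeneousLocalization.val_pow, Away.val_mk]
    change _ = (Localization.mk (a : A) (1 : Submonoid.powers s)) ^ i
    rw [Localization.mk_pow, Localization.mk_eq_mk_iff, Localization.r_iff_exists]
    refine ⟨1, ?_⟩
    simp only [OneMemClass.coe_one, one_mul, one_pow]
    ring
  have h2 : (Proj.awayι 𝒜 s hs hi) q ∈ Proj.basicOpen 𝒜 ((a : A) * s) ↔
      fromZeroRingHom 𝒜 (Submonoid.powers s) a ∉ q.asIdeal := by
    have h3 : (Proj.awayι 𝒜 s hs hi) q ∈ Proj.basicOpen 𝒜 ((a : A) * s) ↔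
        q ∈ Proj.awayι 𝒜 s hs hi ⁻¹ᵁ Proj.basicOpen 𝒜 ((a : A) * s) := Iff.rfl
    rw [h3, key, helem]
    change ¬ _ ↔ _
    rw [not_iff_not]
    constructor
    · intro h
      exact q.isPrime.mem_of_pow_mem i h
    · intro h
      obtain ⟨k, rfl⟩ : ∃ k, i = k + 1 := ⟨i - 1, by omega⟩
      rw [pow_succ]
      exact Ideal.mul_mem_left _ _ h
  have h4 : (Proj.awayι 𝒜 s hs hi) q ∈ Proj.basicOpen 𝒜 ((a : A) * s) ↔
      (a : A) ∉ ((Proj.awayι 𝒜 s hs hi) q).asHomogeneousIdeal := by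
    rw [Proj.mem_basicOpen]
    rw [not_iff_not]
    constructor
    · intro h
      rcases ((Proj.awayι 𝒜 s hs hi) q).isPrime.mem_or_mem h with h | h
      · exact h
      · exact absurd h hsy
    · intro h
      exact Ideal.mul_mem_right _ _ h
  rw [← not_iff_not, ← h4, h2]
  rfl

end Ring

section Rel

open Groth.Agent.Lib.helper28.RelTwistChart Groth.Agent.Lib.helper28.ProjQGlue
open Groth.Agent.Lib.helper28

variable {X : Scheme.{u}} (L : X.Modules) [L.IsQuasicoherent]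
  (𝒮L : RelProj.QCGrAlg X) (j : L ⟶ 𝒮L.toModule) (hj : RelProj.IsGrSymAlg L 𝒮L j)
  {PL : Scheme.{u}} (pL : PL ⟶ X)
  (chartL : ∀ (U : X.Opens) (hU : IsAffineOpen U),
    (((pL ⁻¹ᵁ U : PL.Opens) : Scheme.{u}) ≅ Proj (𝒮L.deg U hU)))
  (hPL : RelProj.IsRelProj 𝒮L pL chartL)

include hj in
/-- If `t` generates the degree-`d` piece over the affine open `V`, then `D₊(t)` is all of
`Proj 𝒮L(V)`. -/
theorem notMem_of_deg_subset_span (V : X.Opens) (hV : IsAffineOpen V) {d : ℕ}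
    (t : 𝒮L.presheaf.obj (op V))
    (hspan : ((𝒮L.deg V hV d : AddSubgroup (𝒮L.presheaf.obj (op V))) :
      Set (𝒮L.presheaf.obj (op V))) ⊆ (Ideal.span {t} : Set (𝒮L.presheaf.obj (op V))))
    (y : Proj (𝒮L.deg V hV)) : t ∉ y.asHomogeneousIdeal := by
  intro hty
  apply y.not_irrelevant_le
  intro a ha
  have h1 := SymGraded.irrelevant_le_span L 𝒮L j hj V hV ha
  refine (Ideal.span_le.mpr ?_) h1
  rintro _ ⟨m, rfl⟩
  have key : ∀ b : 𝒮L.presheaf.obj (op V), b ∈ 𝒮L.deg V hV 1 →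
      b ∈ y.asHomogeneousIdeal.toIdeal := by
    intro b hb
    have hbd : b ^ d ∈ 𝒮L.deg V hV d := by
      have := SetLike.pow_mem_graded d hb
      simpa using this
    have h2 : b ^ d ∈ y.asHomogeneousIdeal.toIdeal :=
      (Ideal.span_le.mpr (Set.singleton_subset_iff.mpr hty)) (hspan hbd)
    exact y.isPrime.mem_of_pow_mem d h2
  exact key _ (hj.2 V hV m)

include hj hPL in
/-- A point of `D₊(t)` over `V` has an affine neighbourhood downstairs over which `t` generates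
the degree-`d` piece (`L` invertible). -/
theorem exists_affine_deg_subset_span (hL : PicF.IsInvertible L) (V : X.Opens)
    (hV : IsAffineOpen V) {d : ℕ} (t : 𝒮L.presheaf.obj (op V)) (ht : t ∈ 𝒮L.deg V hV d)
    (y : Proj (𝒮L.deg V hV)) (hty : t ∉ y.asHomogeneousIdeal) :
    ∃ (V' : X.Opens) (hV' : IsAffineOpen V') (hle : V' ≤ V),
      pL (RelProj.emb pL chartL V hV y) ∈ V' ∧
      ((𝒮L.deg V' hV' d : AddSubgroup (𝒮L.presheaf.obj (op V'))) :
        Set (𝒮L.presheaf.obj (op V'))) ⊆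
        (Ideal.span {(𝒮L.presheaf.map (homOfLE hle).op).hom t} :
          Set (𝒮L.presheaf.obj (op V'))) := by
  have hiso : IsIso pL := SymLineProj.isIso_of_isInvertible L 𝒮L j hj pL chartL hPL hL
  have hxN : pL (RelProj.emb pL chartL V hV y) ∈
      pL ''ᵁ ((RelProj.emb pL chartL V hV) ''ᵁ Proj.basicOpen (𝒮L.deg V hV) t) :=
    ⟨_, ⟨y, hty, rfl⟩, rfl⟩
  have hxV : pL (RelProj.emb pL chartL V hV y) ∈ V := by
    have : RelProj.emb pL chartL V hV y ∈ Set.range (RelProj.emb pL chartL V hV) := ⟨y, rfl⟩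
    rw [range_emb] at this
    exact this
  obtain ⟨U₀, hxU₀, ⟨iso⟩⟩ :=
    (Groth.Agent.Lib.helper16.FLF.isInvertible_iff_isFinLocFreeOfRank_one L).mp hL
      (pL (RelProj.emb pL chartL V hV y))
  obtain ⟨a, haW, hxa⟩ := hV.exists_basicOpen_le
    (V := U₀ ⊓ pL ''ᵁ ((RelProj.emb pL chartL V hV) ''ᵁ Proj.basicOpen (𝒮L.deg V hV) t))
    ⟨_, hxU₀, hxN⟩ hxV
  have hV' : IsAffineOpen (X.basicOpen a) := hV.basicOpen a
  obtain ⟨iso'⟩ := Groth.Agent.Lib.helper16.FLF.restrict_iso_freeMod_of_le L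
    (haW.trans inf_le_left) 1 iso
  obtain ⟨e⟩ := Groth.Agent.Lib.helper16.FLF.sections_of_restrict_iso_freeMod L hV' 1 iso'
  obtain ⟨z', hz', hpoly⟩ := SymLineProj.exists_poly L 𝒮L j hj ⟨X.basicOpen a, hV'⟩ e
  refine ⟨X.basicOpen a, hV', X.basicOpen_le a, hxa, ?_⟩
  have ht' : (𝒮L.presheaf.map (homOfLE (X.basicOpen_le a)).op).hom t ∈
      𝒮L.deg (X.basicOpen a) hV' d := 𝒮L.map_mem hV hV' _ ht
  -- every point of `Proj 𝒮L(V')` avoids `t|V'`
  have hall : ∀ y' : Proj (𝒮L.deg (X.basicOpen a) hV'),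
      (𝒮L.presheaf.map (homOfLE (X.basicOpen_le a)).op).hom t ∉ y'.asHomogeneousIdeal := by
    intro y'
    have hirr := 𝒮L.irrelevant_le_map V hV a
    have h1 := emb_map_res_apply hPL hV hV' a rfl (X.basicOpen_le a) hirr y'
    have h2 : pL (RelProj.emb pL chartL (X.basicOpen a) hV' y') ∈
        pL ''ᵁ ((RelProj.emb pL chartL V hV) ''ᵁ Proj.basicOpen (𝒮L.deg V hV) t) := by
      have h3 : RelProj.emb pL chartL (X.basicOpen a) hV' y' ∈
          Set.range (RelProj.emb pL chartL (X.basicOpen a) hV') := ⟨y', rfl⟩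
      rw [range_emb] at h3
      exact (haW h3).2
    obtain ⟨z₀, ⟨y₀, hy₀, rfl⟩, hz₀⟩ := h2
    have h3 : RelProj.emb pL chartL V hV y₀ = RelProj.emb pL chartL (X.basicOpen a) hV' y' :=
      pL.isOpenEmbedding.injective hz₀
    rw [← h1] at h3
    have h4 : y₀ = (Proj.map (𝒮L.res hV hV' (X.basicOpen_le a)) hirr) y' :=
      (RelProj.emb pL chartL V hV).isOpenEmbedding.injective h3
    intro hmem
    apply (ProjectiveSpectrum.mem_basicOpen _ _ _).mp hy₀
    rw [h4]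
    exact hmem
  -- `t|V' = c' z'^d` with `c'` a unit
  obtain ⟨c', hc'⟩ := PolyGrade.exists_eq_of_mem_deg (𝒮L.deg (X.basicOpen a) hV')
    (𝒮L.str.app (op (X.basicOpen a))).hom z' (𝒮L.str_mem _ hV') hz' hpoly.2 ht'
  have hunit : IsUnit c' := by
    by_contra hnu
    obtain ⟨𝔪, h𝔪, hc𝔪⟩ := exists_max_ideal_of_mem_nonunits (mem_nonunits_iff.mpr hnu)
    have hisoT := PolyGrade.isIso_toSpec (𝒮L.deg (X.basicOpen a) hV') z'
      (𝒮L.str.app (op (X.basicOpen a))).hom (𝒮L.str_mem _ hV') hz' hpoly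
      (𝒮L.strZero (X.basicOpen a) hV') (fun a => rfl)
    obtain ⟨y', hy'⟩ := (Proj.toSpecZero (𝒮L.deg (X.basicOpen a) hV') ≫
      Spec.map (𝒮L.strZero (X.basicOpen a) hV')).surjective (⟨𝔪, h𝔪.isPrime⟩ : PrimeSpectrum _)
    apply hall y'
    rw [hc']
    apply Ideal.mul_mem_right
    have h5 : (𝒮L.strZero (X.basicOpen a) hV').hom c' ∈
        ((Proj.toSpecZero (𝒮L.deg (X.basicOpen a) hV')) y').asIdeal := by
      rw [Scheme.Hom.comp_apply] at hy'
      have h6 := congrArg PrimeSpectrum.asIdeal hy'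
      have h7 : c' ∈ ((Spec.map (𝒮L.strZero (X.basicOpen a) hV'))
          ((Proj.toSpecZero (𝒮L.deg (X.basicOpen a) hV')) y')).asIdeal := by
        rw [h6]
        exact hc𝔪
      exact h7
    exact (mem_toSpecZero_iff _ y' _).mp h5
  intro b hb
  obtain ⟨b', rfl⟩ := PolyGrade.exists_eq_of_mem_deg (𝒮L.deg (X.basicOpen a) hV')
    (𝒮L.str.app (op (X.basicOpen a))).hom z' (𝒮L.str_mem _ hV') hz' hpoly.2 hb
  obtain ⟨w, hw⟩ := hunit.exists_left_inv
  rw [SetLike.mem_coe, Ideal.mem_span_singleton']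
  refine ⟨(𝒮L.str.app (op (X.basicOpen a))).hom (b' * w), ?_⟩
  rw [hc', ← mul_assoc, ← map_mul, mul_assoc, hw, mul_one]

end Rel

end Groth.Agent.Lib.helper28.SymLineGen
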