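import Groth.Agent.Lib.Helper28.SymLineExtend
import Groth.Agent.Lib.Helper28.RLpsiU

/-!
# `r_{L,ψ}` over an affine open of the base: the local isomorphism (helper28)

* `mem_deg_of_injective`: homogeneity of `a` from that of `u a` when `u` is injective.
* `XT_eq_WT`: the open `X_t` of `RLpsiU` is `W_t`.
* `bijective_awayMap`: with `f⁻¹ V` qcqs and `u` bijective over `V`, `𝒜(V)_(a) → 𝒮L(X_t)_(t)` is
  bijective when `X_t` is affine (extension and annihilation of sections).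
-/

set_option autoImplicit false
set_option linter.style.haveILetI false
universe u
open CategoryTheory AlgebraicGeometry TopologicalSpace Opposite TensorProduct

namespace Groth.Agent.Lib.helper28.SymLineLocal

open Groth.Agent.Lib.helper28.PowMap Groth.Agent.Lib.helper28.SymLinePow
  Groth.Agent.Lib.helper28.SymLineGenLocus Groth.Agent.Lib.helper28.SymLineExtend
open Groth.Agent.Lib.helper12.TwistExtend Groth.Agent.Lib.helper12.AmpleBasis
  Groth.Agent.Lib.helper11.IsoLocus Groth.Agent.Lib.helper11.GenLocus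
open HomogeneousLocalization

variable {X Y : Scheme.{u}} {f : X ⟶ Y} {𝒜 : RelProj.QCGrAlg Y} {𝒮L : RelProj.QCGrAlg X}
  (u : RelProj.QGrHom f 𝒜 𝒮L)

theorem le_iSup_affine (W : X.Opens) :
    W ≤ ⨆ V' : {V' : X.Opens // IsAffineOpen V' ∧ V' ≤ W}, V'.1 := by
  intro x hx
  obtain ⟨V', hV', hxV', hle⟩ := (Opens.isBasis_iff_nbhd.mp X.isBasis_affineOpens) hx
  exact Opens.mem_iSup.mpr ⟨⟨V', hV', hle⟩, hxV'⟩

/-- If `u` is injective over the affine open `V` and `u a` is homogeneous of degree `d` on all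
affine opens of `f⁻¹ V`, then `a` is homogeneous of degree `d`. -/
theorem mem_deg_of_injective (V : Y.Opens) (hV : IsAffineOpen V)
    (hinj : Function.Injective (u.app V).hom) (a : 𝒜.presheaf.obj (op V)) (d : ℕ)
    (h : ∀ (V' : X.Opens) (hV' : IsAffineOpen V') (hle : V' ≤ f ⁻¹ᵁ V),
      (u.appLE V V' hle).hom a ∈ 𝒮L.deg V' hV' d) : a ∈ 𝒜.deg V hV d := by
  classical
  have key : ∀ k : ℕ, k ≠ d →
      (DirectSum.decompose (𝒜.deg V hV) a k : 𝒜.presheaf.obj (op V)) = 0 := by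
    intro k hk
    apply hinj
    rw [map_zero]
    refine sec_eq_of_cover
      (fun V' : {V' : X.Opens // IsAffineOpen V' ∧ V' ≤ f ⁻¹ᵁ V} => V'.1) (f ⁻¹ᵁ V)
      (fun V' => V'.2.2) (le_iSup_affine (f ⁻¹ᵁ V)) _ _ (fun V' => ?_)
    rw [map_zero]
    have h1 : (u.gradedAt V hV V'.1 V'.2.1 V'.2.2)
        (DirectSum.decompose (𝒜.deg V hV) a k : 𝒜.presheaf.obj (op V)) =
        (DirectSum.decompose (𝒮L.deg V'.1 V'.2.1) ((u.gradedAt V hV V'.1 V'.2.1 V'.2.2) a) k :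
          𝒮L.presheaf.obj (op V'.1)) :=
      GradedRingHom.map_directSumDecompose _ _ (u.gradedAt V hV V'.1 V'.2.1 V'.2.2)
    refine h1.trans ?_
    have h2 : (u.gradedAt V hV V'.1 V'.2.1 V'.2.2) a ∈ 𝒮L.deg V'.1 V'.2.1 d :=
      h V'.1 V'.2.1 V'.2.2
    rw [DirectSum.decompose_of_mem_ne _ h2 (Ne.symm hk)]
  have hsum := DirectSum.sum_support_decompose (𝒜.deg V hV) a
  rw [← hsum]
  refine AddSubgroup.sum_mem _ fun k _ => ?_
  by_cases hk : k = d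
  · subst hk
    exact SetLike.coe_mem _
  · rw [key k hk]
    exact zero_mem _

section XT

variable {L : X.Modules} [L.IsQuasicoherent] {jL : L ⟶ 𝒮L.toModule}
  (hjL : RelProj.IsGrSymAlg L 𝒮L jL) (hL : PicF.IsInvertible L)

include hjL hL in
/-- The open `X_t` of `RLpsiU`, `t = u(a)`, is `W_t` for the section `t` of `L^{⊗ e}` over
`W = f⁻¹ V` with `μ t = u(a)`. -/
theorem XT_eq_WT (V : Y.Opens) (e : ℕ) (a : 𝒜.presheaf.obj (op V))
    (t : (CohB1.tensorPow L e).val.obj (op (f ⁻¹ᵁ V)))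
    (ht : μ jL e (f ⁻¹ᵁ V) t = (u.app V).hom a) :
    RLpsiU.XT 𝒮L u V e a = WT (f ⁻¹ᵁ V) t := by
  ext x
  constructor
  · intro hx
    obtain ⟨⟨⟨V', hV'⟩, hle, hspan⟩, hxV'⟩ := Opens.mem_iSup.mp hx
    refine ⟨⟨x, hle hxV'⟩, ?_, rfl⟩
    rw [SetLike.mem_coe, mem_genLocus_secHom_iff hjL hL, ht]
    exact ⟨V', hV', hle, hxV', hspan⟩
  · rintro ⟨x', hx', rfl⟩
    rw [SetLike.mem_coe, mem_genLocus_secHom_iff hjL hL, ht] at hx'
    obtain ⟨V', hV', hle, hxV', hspan⟩ := hx'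
    exact Opens.mem_iSup.mpr ⟨⟨⟨V', hV'⟩, hle, hspan⟩, hxV'⟩

end XT

section Bij

open Groth.Agent.Lib.helper28.ProjQGlue

variable {P PL : Scheme.{u}} {L : X.Modules} [L.IsQuasicoherent] {jL : L ⟶ 𝒮L.toModule}
  (hjL : RelProj.IsGrSymAlg L 𝒮L jL) (hL : PicF.IsInvertible L)
  {p : P ⟶ Y} {chart : ∀ (U : Y.Opens) (hU : IsAffineOpen U),
    (((p ⁻¹ᵁ U : P.Opens) : Scheme.{u}) ≅ Proj (𝒜.deg U hU))}
  {pL : PL ⟶ X} {chartL : ∀ (U : X.Opens) (hU : IsAffineOpen U),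
    (((pL ⁻¹ᵁ U : PL.Opens) : Scheme.{u}) ≅ Proj (𝒮L.deg U hU))}
  (hP : RelProj.IsRelProj 𝒜 p chart) (hPL : RelProj.IsRelProj 𝒮L pL chartL)
  (r : ((RelProj.domQ u pL chartL : PL.Opens) : Scheme.{u}) ⟶ P)
  (hr : ∀ (U : Y.Opens) (hU : IsAffineOpen U) (U' : X.Opens) (hU' : IsAffineOpen U')
    (hle : U' ≤ f ⁻¹ᵁ U) (d : ℕ) (hd : 0 < d) (a : 𝒜.presheaf.obj (op U))
    (ha : a ∈ 𝒜.deg U hU d),
    stdChart u pL chartL U hU U' hU' hle hd a ha ≫ r = tgt u p chart U hU U' hU' hle hd a ha)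

include hjL hL hP hPL hr in
/-- Over an affine open `V` of the base with `f⁻¹ V` quasi-compact and quasi-separated and `u`
bijective over `V`: if `X_t` (`t = u(a)`, `a` homogeneous of positive degree) is affine, then
`𝒜(V)_(a) → 𝒮L(X_t)_(t)` is bijective. -/
theorem bijective_awayMap (V : Y.Opens) (hV : IsAffineOpen V)
    [CompactSpace ((f ⁻¹ᵁ V : X.Opens) : Scheme.{u})]
    [QuasiSeparatedSpace ((f ⁻¹ᵁ V : X.Opens) : Scheme.{u})]
    (hu : Function.Bijective (u.app V).hom) {e : ℕ} (he : 0 < e)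
    (a : 𝒜.presheaf.obj (op V)) (ha : a ∈ 𝒜.deg V hV e)
    (t : (CohB1.tensorPow L e).val.obj (op (f ⁻¹ᵁ V)))
    (ht : μ jL e (f ⁻¹ᵁ V) t = (u.app V).hom a)
    (hXT : IsAffineOpen (RLpsiU.XT 𝒮L u V e a)) :
    Function.Bijective (Away.map (u.gradedAt V hV (RLpsiU.XT 𝒮L u V e a) hXT
      (RLpsiU.XT_le 𝒮L u V e a)) a) := by
  classical
  have hN := Groth.Agent.Lib.helper12.TensorInv.isInvertible_tensorPow hL e
  have hXW := XT_eq_WT u hjL hL V e a t ht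
  have hνt : toRing 𝒮L.toQCAlg (((powMap 𝒮L.toQCAlg jL e).val.app (op (f ⁻¹ᵁ V))).hom t) =
      (u.app V).hom a := ht
  constructor
  · rw [RLpsi.injective_awayMap_iff _ a ha]
    intro m hm s' hs' h0
    obtain ⟨k, hk, hk0⟩ := kill' 𝒮L.toQCAlg (powMap 𝒮L.toQCAlg jL e) hN (f ⁻¹ᵁ V) t
      (RLpsiU.XT 𝒮L u V e a) hXW (RLpsiU.XT_le 𝒮L u V e a) ((u.app V).hom s') h0
    refine ⟨k, hk, hu.1 ?_⟩
    rw [hνt] at hk0
    rw [map_zero, map_mul, map_pow, mul_comm]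
    exact hk0
  · rw [RLpsiU.surjective_awayMap_iff L 𝒮L jL hjL u hL hP hPL r hr V hV he a ha hXT]
    intro g
    obtain ⟨m, hm, σ', hσ'⟩ := extend' 𝒮L.toQCAlg (powMap 𝒮L.toQCAlg jL e) hN (f ⁻¹ᵁ V) t
      (RLpsiU.XT 𝒮L u V e a) hXW (RLpsiU.XT_le 𝒮L u V e a)
      ((𝒮L.str.app (op (RLpsiU.XT 𝒮L u V e a))).hom g)
    rw [hνt] at hσ'
    obtain ⟨s'', rfl⟩ := hu.2 σ'
    set ψ := u.gradedAt V hV (RLpsiU.XT 𝒮L u V e a) hXT (RLpsiU.XT_le 𝒮L u V e a) with hψ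
    have hσ'' : ψ s'' = (𝒮L.str.app (op (RLpsiU.XT 𝒮L u V e a))).hom g * ψ a ^ m := hσ'
    have hmem : ψ s'' ∈ 𝒮L.deg (RLpsiU.XT 𝒮L u V e a) hXT (m * e) := by
      rw [hσ'']
      have h1 : ψ a ^ m ∈ 𝒮L.deg (RLpsiU.XT 𝒮L u V e a) hXT (m • e) :=
        SetLike.pow_mem_graded m (ψ.map_mem ha)
      have h2 := SetLike.mul_mem_graded (𝒮L.str_mem _ hXT g) h1
      rw [zero_add, smul_eq_mul] at h2
      exact h2
    refine ⟨m, hm, (DirectSum.decompose (𝒜.deg V hV) s'' (m * e) : 𝒜.presheaf.obj (op V)),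
      SetLike.coe_mem _, ?_⟩
    have h3 : ψ (DirectSum.decompose (𝒜.deg V hV) s'' (m * e) : 𝒜.presheaf.obj (op V)) =
        (DirectSum.decompose (𝒮L.deg (RLpsiU.XT 𝒮L u V e a) hXT) (ψ s'') (m * e) :
          𝒮L.presheaf.obj (op (RLpsiU.XT 𝒮L u V e a))) :=
      GradedRingHom.map_directSumDecompose _ _ ψ
    rw [DirectSum.decompose_of_mem_same _ hmem, hσ''] at h3
    exact h3.symm

end Bij

end Groth.Agent.Lib.helper28.SymLineLocal
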