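import Groth.Agent.Lib.Helper28.SymLocal
import Groth.Agent.Lib.Helper28.QCAlgHomAffine
import Groth.Prelude.Def_RelSpec2

set_option autoImplicit false

universe u

/-! `𝒮[z]` is the graded symmetric algebra of `E ⊕ O_Y` when `𝒮` is that of `E` (helper28). -/

namespace Groth.Agent.Lib.helper28.SymPolyZ

open CategoryTheory CategoryTheory.Limits AlgebraicGeometry TopologicalSpace Opposite
open Groth.Agent.Lib.helper28.SymAlg Groth.Agent.Lib.helper28

variable {Y : Scheme.{u}} (E : Y.Modules)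
  (𝒮 𝒮h : RelProj.QCGrAlg Y) (j : E ⟶ 𝒮.toModule)
  (ι : 𝒮.toQCAlg ⟶ 𝒮h.toQCAlg) (z : 𝒮h.presheaf.obj (op ⊤))
  (k : Coh.structureModule Y ⟶ 𝒮h.toModule)

/-- a function as a section of the structure module -/
abbrev toO {U : Y.Opens} (a : Γ(Y, U)) : Γ(Coh.structureModule Y, U) := a

section kz

variable (hk : ∀ U : Y.Opens, (k.app U) (1 : Γ(Y, U)) = RelCone.restrictTop 𝒮h z U)

include hk in
theorem k_app (U : Y.Opens) (a : Γ(Y, U)) :
    (show 𝒮h.presheaf.obj (op U) from (k.app U) a) =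
      (𝒮h.str.app (op U)).hom a * RelCone.restrictTop 𝒮h z U := by
  have h1 : toO a = a • toO (1 : Γ(Y, U)) := by
    change a = a * 1
    rw [mul_one]
  have h2 := Scheme.Modules.Hom.app_smul k a (toO (1 : Γ(Y, U)))
  rw [← hk U]
  have h3 : (k.app U) a = (k.app U) (a • toO (1 : Γ(Y, U))) := by
    exact congrArg (k.app U) h1
  rw [h3, h2]
  rfl

end kz

/-- The structure map `E ⊕ O_Y ⟶ 𝒮[z]`. -/
noncomputable def J : E ⊞ Coh.structureModule Y ⟶ 𝒮h.toModule :=
  biprod.desc (j ≫ RelSpec.QCAlg.Hom.toModuleMap ι) k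

theorem J_eq : J E 𝒮 𝒮h j ι k =
    biprod.fst ≫ (j ≫ RelSpec.QCAlg.Hom.toModuleMap ι) + biprod.snd ≫ k := by
  apply biprod.hom_ext'
  · rw [J, biprod.inl_desc, Preadditive.comp_add, biprod.inl_fst_assoc, biprod.inl_snd_assoc,
      zero_comp, add_zero]
  · rw [J, biprod.inr_desc, Preadditive.comp_add, biprod.inr_fst_assoc, biprod.inr_snd_assoc,
      zero_comp, zero_add]

theorem J_app (U : Y.Opens) (x : Γ(E ⊞ Coh.structureModule Y, U)) :
    (show 𝒮h.presheaf.obj (op U) from (J E 𝒮 𝒮h j ι k).app U x) =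
      (ι.hom.app (op U)).hom (show 𝒮.presheaf.obj (op U) from
          j.app U ((biprod.fst : E ⊞ Coh.structureModule Y ⟶ E).app U x)) +
        (show 𝒮h.presheaf.obj (op U) from
          k.app U ((biprod.snd : E ⊞ Coh.structureModule Y ⟶ _).app U x)) := by
  rw [J_eq]
  rfl

section deg

variable (hS : RelProj.IsGrSymAlg E 𝒮 j) (hz : RelCone.IsPolyOver 𝒮 𝒮h ι z)
  (hk : ∀ U : Y.Opens, (k.app U) (1 : Γ(Y, U)) = RelCone.restrictTop 𝒮h z U)

include hS hz hk in
theorem J_mem (U : Y.Opens) (hU : IsAffineOpen U) (x : Γ(E ⊞ Coh.structureModule Y, U)) :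
    (J E 𝒮 𝒮h j ι k).app U x ∈ 𝒮h.deg U hU 1 := by
  have h := J_app E 𝒮 𝒮h j ι k U x
  change (show 𝒮h.presheaf.obj (op U) from (J E 𝒮 𝒮h j ι k).app U x) ∈ 𝒮h.deg U hU 1
  rw [h]
  apply AddSubgroup.add_mem
  · exact hz.graded U hU 1 _ (hS.2 U hU _)
  · have h2 := k_app 𝒮h z k hk U ((biprod.snd : E ⊞ Coh.structureModule Y ⟶ _).app U x)
    rw [h2]
    have h3 := SetLike.mul_mem_graded (A := 𝒮h.deg U hU)
      (𝒮h.str_mem U hU ((biprod.snd : E ⊞ Coh.structureModule Y ⟶ _).app U x))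
      (hz.deg_z U hU)
    rw [zero_add] at h3
    exact h3

end deg

section ringext

variable {𝒮 𝒮h ι z}
variable (hz : RelCone.IsPolyOver 𝒮 𝒮h ι z)

include hz in
/-- Ring homomorphisms out of `𝒮h(U)` agree if they agree on `ι(𝒮(U))` and on `z`. -/
theorem ringHom_ext' (U : Y.Opens) (hU : IsAffineOpen U) {T : Type u} [CommRing T]
    (f f' : 𝒮h.presheaf.obj (op U) →+* T)
    (h1 : ∀ s : 𝒮.presheaf.obj (op U), f ((ι.hom.app (op U)).hom s) = f' ((ι.hom.app (op U)).hom s))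
    (h2 : f (RelCone.restrictTop 𝒮h z U) = f' (RelCone.restrictTop 𝒮h z U)) : f = f' := by
  have h : f.comp (hz.polyEquiv U hU).toRingHom = f'.comp (hz.polyEquiv U hU).toRingHom := by
    apply Polynomial.ringHom_ext
    · intro a
      change f (hz.polyEquiv U hU (Polynomial.C a)) = f' (hz.polyEquiv U hU (Polynomial.C a))
      rw [RelCone.IsPolyOver.polyEquiv_apply, Polynomial.eval₂_C]
      exact h1 a
    · change f (hz.polyEquiv U hU Polynomial.X) = f' (hz.polyEquiv U hU Polynomial.X)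
      rw [RelCone.IsPolyOver.polyEquiv_apply, Polynomial.eval₂_X]
      exact h2
  refine RingHom.ext fun x => ?_
  obtain ⟨p, rfl⟩ := (hz.polyEquiv U hU).surjective x
  exact congrArg (fun r => r p) h

/-- The ring homomorphism `𝒮h(U) → T` from one on `𝒮(U)` and an image of `z`. -/
noncomputable def descU (U : Y.Opens) (hU : IsAffineOpen U) {T : Type u} [CommRing T]
    (g : 𝒮.presheaf.obj (op U) →+* T) (b : T) : 𝒮h.presheaf.obj (op U) →+* T :=
  (Polynomial.eval₂RingHom g b).comp (hz.polyEquiv U hU).symm.toRingHom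

theorem descU_ι (U : Y.Opens) (hU : IsAffineOpen U) {T : Type u} [CommRing T]
    (g : 𝒮.presheaf.obj (op U) →+* T) (b : T) (s : 𝒮.presheaf.obj (op U)) :
    descU hz U hU g b ((ι.hom.app (op U)).hom s) = g s := by
  have e : hz.polyEquiv U hU (Polynomial.C s) = (ι.hom.app (op U)).hom s := by
    rw [RelCone.IsPolyOver.polyEquiv_apply, Polynomial.eval₂_C]
  rw [← e]
  change Polynomial.eval₂ g b ((hz.polyEquiv U hU).symm (hz.polyEquiv U hU (Polynomial.C s))) = _
  rw [RingEquiv.symm_apply_apply, Polynomial.eval₂_C]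

theorem descU_z (U : Y.Opens) (hU : IsAffineOpen U) {T : Type u} [CommRing T]
    (g : 𝒮.presheaf.obj (op U) →+* T) (b : T) :
    descU hz U hU g b (RelCone.restrictTop 𝒮h z U) = b := by
  have e : hz.polyEquiv U hU Polynomial.X = RelCone.restrictTop 𝒮h z U := by
    rw [RelCone.IsPolyOver.polyEquiv_apply, Polynomial.eval₂_X]
  rw [← e]
  change Polynomial.eval₂ g b ((hz.polyEquiv U hU).symm (hz.polyEquiv U hU Polynomial.X)) = _
  rw [RingEquiv.symm_apply_apply, Polynomial.eval₂_X]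

end ringext

section glue

variable {𝒮 𝒮h ι z}
variable (hz : RelCone.IsPolyOver 𝒮 𝒮h ι z)
variable {B : RelSpec.QCAlg Y} (g : 𝒮.toQCAlg ⟶ B) (φO : Coh.structureModule Y ⟶ B.toModule)

/-- The image of `z` over `U`. -/
noncomputable def bU (U : Y.Opens) : B.presheaf.obj (op U) := (φO.app U) (toO (1 : Γ(Y, U)))

theorem bU_res {U V : Y.Opens} (h : V ≤ U) :
    (B.presheaf.map (homOfLE h).op).hom (bU φO U) = bU φO V := by
  have h1 := φO.mapPresheaf.naturality (homOfLE h).op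
  have h2 := congr($h1 (toO (1 : Γ(Y, U))))
  refine h2.symm.trans ?_
  change (φO.app V) ((Y.presheaf.map (homOfLE h).op).hom (1 : Γ(Y, U))) = _
  rw [map_one]
  rfl

theorem restrictTop_res {U V : Y.Opens} (h : V ≤ U) :
    (𝒮h.presheaf.map (homOfLE h).op).hom (RelCone.restrictTop 𝒮h z U) =
      RelCone.restrictTop 𝒮h z V := by
  change (𝒮h.presheaf.map (homOfLE h).op).hom ((𝒮h.presheaf.map (homOfLE le_top).op).hom z) =
    (𝒮h.presheaf.map (homOfLE le_top).op).hom z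
  rw [← CommRingCat.comp_apply, ← Functor.map_comp]
  rfl

include hz in
theorem exists_Ψ : ∃ Ψ : 𝒮h.toQCAlg ⟶ B, ∀ (U : Y.AffineZariskiSite)
    (x : 𝒮h.presheaf.obj (op U.1)),
    (Ψ.hom.app (op U.1)).hom x = descU hz U.1 U.2 (g.hom.app (op U.1)).hom (bU φO U.1) x := by
  apply QCAlgHomAffine.exists_hom_of_affine
  · intro U V h x
    have key : (descU hz V.1 V.2 (g.hom.app (op V.1)).hom (bU φO V.1)).comp
        (𝒮h.presheaf.map (homOfLE (Scheme.AffineZariskiSite.toOpens_mono h)).op).hom =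
        (B.presheaf.map (homOfLE (Scheme.AffineZariskiSite.toOpens_mono h)).op).hom.comp
          (descU hz U.1 U.2 (g.hom.app (op U.1)).hom (bU φO U.1)) := by
      apply ringHom_ext' hz U.1 U.2
      · intro s
        simp only [RingHom.comp_apply]
        rw [descU_ι]
        have h1 := ι.hom.naturality (homOfLE (Scheme.AffineZariskiSite.toOpens_mono h)).op
        have h2 := congrArg (fun r => r.hom s) h1
        simp only [CommRingCat.comp_apply] at h2
        rw [← h2, descU_ι]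
        have h3 := g.hom.naturality (homOfLE (Scheme.AffineZariskiSite.toOpens_mono h)).op
        have h4 := congrArg (fun r => r.hom s) h3
        simp only [CommRingCat.comp_apply] at h4
        exact h4
      · simp only [RingHom.comp_apply]
        rw [descU_z, restrictTop_res, descU_z, bU_res]
    exact congrArg (fun r => r x) key
  · intro U a
    have h1 : (ι.hom.app (op U.1)).hom ((𝒮.str.app (op U.1)).hom a) =
        (𝒮h.str.app (op U.1)).hom a := congrArg (fun r => (r.app (op U.1)).hom a) ι.comm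
    rw [← h1, descU_ι]
    exact congrArg (fun r => (r.app (op U.1)).hom a) g.comm

end glue

section UP

variable (hS : RelSpec.IsSymAlg E 𝒮.toQCAlg j) (hz : RelCone.IsPolyOver 𝒮 𝒮h ι z)
  (hk : ∀ U : Y.Opens, (k.app U) (1 : Γ(Y, U)) = RelCone.restrictTop 𝒮h z U)

include hk in
/-- the image of `z` under a homomorphism compatible with `k` -/
theorem Ψ_z {B : RelSpec.QCAlg Y} (Ψ : 𝒮h.toQCAlg ⟶ B) (φO : Coh.structureModule Y ⟶ B.toModule)
    (h : k ≫ RelSpec.QCAlg.Hom.toModuleMap Ψ = φO) (U : Y.Opens) :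
    (Ψ.hom.app (op U)).hom (RelCone.restrictTop 𝒮h z U) = bU φO U := by
  rw [← hk U, bU, ← h]
  rfl

include hS hz hk in
theorem isSymAlg : RelSpec.IsSymAlg (E ⊞ Coh.structureModule Y) 𝒮h.toQCAlg (J E 𝒮 𝒮h j ι k) := by
  intro B φ
  obtain ⟨g, hg, hguniq⟩ := hS B (biprod.inl ≫ φ)
  obtain ⟨Ψ, hΨ⟩ := exists_Ψ hz g (biprod.inr ≫ φ)
  have hιΨ : ι ≫ Ψ = g := by
    apply QCAlgHomAffine.hom_ext_of_affine
    intro U x
    change (Ψ.hom.app (op U.1)).hom ((ι.hom.app (op U.1)).hom x) = _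
    rw [hΨ, descU_ι]
  have hkΨ : k ≫ RelSpec.QCAlg.Hom.toModuleMap Ψ = biprod.inr ≫ φ := by
    apply HomOfAffine.hom_ext_of_affine
    intro U a0
    obtain ⟨a, rfl⟩ : ∃ a : Γ(Y, U.1), toO a = a0 := ⟨a0, rfl⟩
    change (Ψ.hom.app (op U.1)).hom (show 𝒮h.presheaf.obj (op U.1) from (k.app U.1) a) = _
    rw [k_app 𝒮h z k hk U.1 a, map_mul, hΨ, hΨ, descU_z]
    have h1 : (𝒮h.str.app (op U.1)).hom a = (ι.hom.app (op U.1)).hom ((𝒮.str.app (op U.1)).hom a) :=
      (congrArg (fun r => (r.app (op U.1)).hom a) ι.comm).symm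
    rw [h1, descU_ι]
    have h2 : (g.hom.app (op U.1)).hom ((𝒮.str.app (op U.1)).hom a) = (B.str.app (op U.1)).hom a :=
      congrArg (fun r => (r.app (op U.1)).hom a) g.comm
    rw [h2]
    have h3 := Scheme.Modules.Hom.app_smul (biprod.inr ≫ φ) a (toO (1 : Γ(Y, U.1)))
    have h4 : a • toO (1 : Γ(Y, U.1)) = toO a := by
      change a * 1 = a
      rw [mul_one]
    rw [h4] at h3
    exact h3.symm
  refine ⟨Ψ, ?_, ?_⟩
  · apply biprod.hom_ext'
    · rw [J, biprod.inl_desc_assoc, Category.assoc, ← toModuleMap_comp, hιΨ, hg]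
    · rw [J, biprod.inr_desc_assoc, hkΨ]
  · intro Ψ' hΨ'
    have h1 : ι ≫ Ψ' = g := by
      apply hguniq
      rw [toModuleMap_comp, ← Category.assoc, ← hΨ', J, biprod.inl_desc_assoc]
    have h2 : k ≫ RelSpec.QCAlg.Hom.toModuleMap Ψ' = biprod.inr ≫ φ := by
      rw [← hΨ', J, biprod.inr_desc_assoc]
    apply QCAlgHomAffine.hom_ext_of_affine
    intro U x
    have key : (Ψ'.hom.app (op U.1)).hom = (Ψ.hom.app (op U.1)).hom := by
      apply ringHom_ext' hz U.1 U.2
      · intro s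
        have e1 : (Ψ'.hom.app (op U.1)).hom ((ι.hom.app (op U.1)).hom s) =
            (g.hom.app (op U.1)).hom s := by
          rw [← h1]
          rfl
        have e2 : (Ψ.hom.app (op U.1)).hom ((ι.hom.app (op U.1)).hom s) =
            (g.hom.app (op U.1)).hom s := by
          rw [← hιΨ]
          rfl
        rw [e1, e2]
      · rw [Ψ_z 𝒮h z k hk Ψ' _ h2 U.1, Ψ_z 𝒮h z k hk Ψ _ hkΨ U.1]
    exact congrArg (fun r => r x) key

end UP

section main

variable (hS : RelProj.IsGrSymAlg E 𝒮 j) (hz : RelCone.IsPolyOver 𝒮 𝒮h ι z)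
  (hk : ∀ U : Y.Opens, (k.app U) (1 : Γ(Y, U)) = RelCone.restrictTop 𝒮h z U)

include hS hz hk in
theorem isGrSymAlg : RelProj.IsGrSymAlg (E ⊞ Coh.structureModule Y) 𝒮h (J E 𝒮 𝒮h j ι k) :=
  ⟨isSymAlg E 𝒮 𝒮h j ι z k hS.1 hz hk, fun U hU x => J_mem E 𝒮 𝒮h j ι z k hS hz hk U hU x⟩

end main

end Groth.Agent.Lib.helper28.SymPolyZ
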