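import Mathlib
import Groth.Agent.Lib.Helper28.SymLoc

/-!
# The degree-one projection of a symmetric algebra (helper28)

* `aug R N : Sym_R N →ₐ[R] R`, `proj1 R N : Sym_R N →ₗ[R] N`, with `proj1 (ι n) = n`,
  `proj1 (x * y) = aug x • proj1 y + aug y • proj1 x`.
* `proj1_symMap`: compatibility with semilinear maps of modules.
* `exists_proj1_eq`: for a surjective ring homomorphism `θ : Sym_R E → Sym_R N` over `R`,
  `e ↦ proj1 (θ (ι e))` is surjective.
-/

set_option autoImplicit false
set_option linter.style.haveILetI false
universe u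

namespace Groth.Agent.Lib.helper28.SymProj1

section Inst

variable (R : Type u) [CommRing R] (N : Type u) [AddCommGroup N] [Module R N]
  [Module Rᵐᵒᵖ N] [IsCentralScalar R N]

/-- The algebra map `Sym N → R ⊕ ε N`, `ι n ↦ ε n`. -/
noncomputable def toTsze : SymmetricAlgebra R N →ₐ[R] TrivSqZeroExt R N :=
  SymmetricAlgebra.lift (TrivSqZeroExt.inrHom R N)

theorem toTsze_ι (n : N) : toTsze R N (SymmetricAlgebra.ι R N n) = TrivSqZeroExt.inr n := by
  simp [toTsze]

end Inst

variable (R : Type u) [CommRing R] (N : Type u) [AddCommGroup N] [Module R N]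

/-- the right action of a commutative ring -/
@[reducible] def opModule : Module Rᵐᵒᵖ N :=
  Module.compHom N ((RingHom.id R).fromOpposite fun _ _ => Commute.all _ _)

theorem opCentral : @IsCentralScalar R N _ (opModule R N).toSMul :=
  @IsCentralScalar.mk R N _ (opModule R N).toSMul fun _ _ => rfl

/-- The augmentation `Sym N → R`. -/
noncomputable def aug : SymmetricAlgebra R N →ₐ[R] R := SymmetricAlgebra.lift 0

@[simp] theorem aug_ι (n : N) : aug R N (SymmetricAlgebra.ι R N n) = 0 := by
  simp [aug]

/-- The projection onto the degree one part. -/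
noncomputable def proj1 : SymmetricAlgebra R N →ₗ[R] N :=
  letI := opModule R N
  haveI := opCentral R N
  (TrivSqZeroExt.sndHom R N) ∘ₗ (toTsze R N).toLinearMap

@[simp] theorem proj1_ι (n : N) : proj1 R N (SymmetricAlgebra.ι R N n) = n := by
  letI := opModule R N
  haveI := opCentral R N
  change (toTsze R N (SymmetricAlgebra.ι R N n)).snd = n
  rw [toTsze_ι]; rfl

@[simp] theorem proj1_algebraMap (r : R) : proj1 R N (algebraMap R _ r) = 0 := by
  letI := opModule R N
  haveI := opCentral R N
  change (toTsze R N (algebraMap R _ r)).snd = 0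
  rw [AlgHom.commutes]; rfl

theorem proj1_mul (x y : SymmetricAlgebra R N) :
    proj1 R N (x * y) = aug R N x • proj1 R N y + aug R N y • proj1 R N x := by
  letI := opModule R N
  haveI := opCentral R N
  have haug : (TrivSqZeroExt.fstHom R R N).comp (toTsze R N) = aug R N := by
    apply SymmetricAlgebra.algHom_ext
    ext n
    simp [toTsze_ι]
  have ha : ∀ z, (toTsze R N z).fst = aug R N z := fun z => congr($haug z)
  change (toTsze R N (x * y)).snd = aug R N x • (toTsze R N y).snd + aug R N y • (toTsze R N x).snd
  rw [map_mul, TrivSqZeroExt.snd_mul, ha, ha, op_smul_eq_smul]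

section Map

open Groth.Agent.Lib.helper28.SymLoc

variable {R N} {R' : Type u} [CommRing R'] {N' : Type u} [AddCommGroup N'] [Module R' N']
  (ρ : R →+* R') (f : N →+ N') (hf : ∀ a m, f (a • m) = ρ a • f m)

theorem aug_symMap (x : SymmetricAlgebra R N) :
    aug R' N' (symMap ρ f hf x) = ρ (aug R N x) := by
  induction x using SymmetricAlgebra.induction with
  | algebraMap r => rw [symMap_algebraMap, AlgHom.commutes, AlgHom.commutes]; rfl
  | ι m => rw [symMap_ι, aug_ι, aug_ι, map_zero]
  | mul a b ha hb => rw [map_mul, map_mul, map_mul, map_mul, ha, hb]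
  | add a b ha hb => rw [map_add, map_add, map_add, map_add, ha, hb]

theorem proj1_symMap (x : SymmetricAlgebra R N) :
    proj1 R' N' (symMap ρ f hf x) = f (proj1 R N x) := by
  induction x using SymmetricAlgebra.induction with
  | algebraMap r => rw [symMap_algebraMap, proj1_algebraMap, proj1_algebraMap, map_zero]
  | ι m => rw [symMap_ι, proj1_ι, proj1_ι]
  | mul a b ha hb =>
    rw [map_mul, proj1_mul, proj1_mul, ha, hb, aug_symMap, aug_symMap, map_add, hf, hf]
  | add a b ha hb => rw [map_add, map_add, map_add, map_add, ha, hb]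

end Map

section Surj

variable {R N} {E : Type u} [AddCommGroup E] [Module R E]

/-- For a surjective ring homomorphism `θ : Sym E → Sym N` over `R`, the degree one part
`e ↦ proj1 (θ (ι e))` is surjective. -/
theorem exists_proj1_eq (θ : SymmetricAlgebra R E →+* SymmetricAlgebra R N)
    (hθa : ∀ r : R, θ (algebraMap R _ r) = algebraMap R _ r) (hθ : Function.Surjective θ) (n : N) :
    ∃ e : E, proj1 R N (θ (SymmetricAlgebra.ι R E e)) = n := by
  have hlin : ∀ (r : R) (x : SymmetricAlgebra R E), θ (r • x) = r • θ x := fun r x => by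
    rw [Algebra.smul_def, map_mul, hθa, ← Algebra.smul_def]
  let φ : E →ₗ[R] N :=
    { toFun := fun e => proj1 R N (θ (SymmetricAlgebra.ι R E e))
      map_add' := fun a b => by rw [map_add, map_add, map_add]
      map_smul' := fun r a => by
        rw [map_smul, hlin, map_smul]; rfl }
  have key : ∀ x : SymmetricAlgebra R E, proj1 R N (θ x) ∈ LinearMap.range φ := by
    intro x
    induction x using SymmetricAlgebra.induction with
    | algebraMap r => rw [hθa, proj1_algebraMap]; exact zero_mem _
    | ι e => exact ⟨e, rfl⟩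
    | mul a b ha hb =>
      rw [map_mul, proj1_mul]
      exact add_mem (Submodule.smul_mem _ _ hb) (Submodule.smul_mem _ _ ha)
    | add a b ha hb => rw [map_add, map_add]; exact add_mem ha hb
  obtain ⟨x, hx⟩ := hθ (SymmetricAlgebra.ι R N n)
  have := key x
  rw [hx, proj1_ι] at this
  obtain ⟨e, he⟩ := this
  exact ⟨e, he⟩

end Surj

end Groth.Agent.Lib.helper28.SymProj1
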