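import Groth.Agent.Lib.Helper28.SymProj1
import Groth.Agent.Lib.Helper28.SymLocal
import Groth.Agent.Lib.Helper28.HomOfAffine
import Groth.Agent.S8255
import Groth.Prelude.Def_AffAlg
import Groth.Agent.Lib.Helper16.QCohEpi

/-!
# The degree-one projection `Sym(M) ⟶ M` of sheaves; closed immersions of vector bundles (helper28)

* `p1 M : (symAlg M).toModule ⟶ M`, on affine opens the degree-one projection.
* `algOfOver`: an `S`-morphism `i : Spec A₀ ⟶ Spec A` of relative spectra induces `ψ : A ⟶ A₀`,
  surjective on affine opens when `i` is a closed immersion.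
* `exists_epi_of_isClosedImmersion`: a closed immersion `V(M) ⟶ V(E)` over `S` gives an
  epimorphism `E ⟶ M`.
-/

set_option autoImplicit false
set_option linter.style.haveILetI false
universe u

open CategoryTheory CategoryTheory.Limits AlgebraicGeometry TopologicalSpace Opposite

namespace Groth.Agent.Lib.helper28.SymProj1Sh

open Groth.Agent.Lib.helper28.SymAlg Groth.Agent.Lib.helper28.SymSheaf
  Groth.Agent.Lib.helper28.SymProj1

section P1

variable {S : Scheme.{u}} (M : S.Modules) [M.IsQuasicoherent]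

/-- the degree-one projection over an affine open -/
noncomputable def p1U (U : S.AffineZariskiSite) : Γ((symAlg M).toModule, U.1) →+ Γ(M, U.1) where
  toFun x := proj1 Γ(S, U.1) Γ(M, U.1)
    ((symIso M U).hom.hom (show (symAlg M).presheaf.obj (op U.1) from x))
  map_zero' := by
    change proj1 _ _ ((symIso M U).hom.hom 0) = 0
    rw [map_zero, map_zero]
  map_add' x y := by
    change proj1 _ _ ((symIso M U).hom.hom (_ + _)) = _
    rw [map_add, map_add]

theorem exists_p1 : ∃ p : (symAlg M).toModule ⟶ M,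
    ∀ (U : S.AffineZariskiSite) (x : Γ((symAlg M).toModule, U.1)), p.app U.1 x = p1U M U x := by
  refine HomOfAffine.exists_hom_of_affine (p1U M) ?_ ?_
  · intro U V hVU x
    change proj1 _ _ ((symIso M V).hom.hom (((symAlg M).presheaf.map
      (homOfLE (Scheme.AffineZariskiSite.toOpens_mono hVU)).op).hom x)) =
      resAdd M (Scheme.AffineZariskiSite.toOpens_mono hVU) (proj1 _ _ ((symIso M U).hom.hom x))
    rw [symIso_naturality M hVU]
    exact proj1_symMap _ _ _ _
  · intro U r x
    rw [smul_toModule]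
    change proj1 _ _ ((symIso M U).hom.hom (((symAlg M).str.app (op U.1)).hom r * _)) =
      r • proj1 _ _ ((symIso M U).hom.hom _)
    rw [map_mul, str_symIso, ← Algebra.smul_def, map_smul]

/-- The degree-one projection `Sym(M) ⟶ M`. -/
noncomputable def p1 : (symAlg M).toModule ⟶ M := (exists_p1 M).choose

theorem p1_app (U : S.AffineZariskiSite) (x : (symAlg M).presheaf.obj (op U.1)) :
    (p1 M).app U.1 (show Γ((symAlg M).toModule, U.1) from x) =
      proj1 Γ(S, U.1) Γ(M, U.1) ((symIso M U).hom.hom x) :=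
  (exists_p1 M).choose_spec U x

end P1

section Over

variable {S : Scheme.{u}}

theorem algHom_app_surjective {X Y : Scheme.{u}} (f : X ⟶ S) (g : Y ⟶ S) (h : Y ⟶ X)
    (w : h ≫ f = g) [IsClosedImmersion h] (U : S.Opens) (hU : IsAffineOpen (f ⁻¹ᵁ U)) :
    Function.Surjective ((AffAlg.algHom f g h w).app (op U)).hom := by
  subst w
  have h1 : (AffAlg.algHom f (h ≫ f) h rfl).app (op U) = h.app (f ⁻¹ᵁ U) := by
    simp only [AffAlg.algHom]
    erw [Category.comp_id]
    rfl
  rw [h1]
  exact h.app_surjective _ hU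

variable (A A₀ : RelSpec.QCAlg S) (i : A₀.spec ⟶ A.spec) (hi : i ≫ A.π = A₀.π)

/-- The homomorphism of algebras induced by an `S`-morphism of relative spectra. -/
noncomputable def algOfOver : A ⟶ A₀ :=
  haveI := Groth.Agent.S8255.result A
  ⟨inv A.gammaMap ≫ AffAlg.algHom A.π A₀.π i hi ≫ A₀.gammaMap, by
    have h1 : A.str ≫ inv A.gammaMap = A.π.c := by
      rw [IsIso.comp_inv_eq, A.π_c_gammaMap]
    rw [← Category.assoc, h1, ← Category.assoc, AffAlg.algHom_comm, A₀.π_c_gammaMap]⟩

theorem algOfOver_surjective [IsClosedImmersion i] (U : S.Opens) (hU : IsAffineOpen U) :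
    Function.Surjective ((algOfOver A A₀ i hi).hom.app (op U)).hom := by
  haveI := Groth.Agent.S8255.result A
  haveI := Groth.Agent.S8255.result A₀
  have h1 := algHom_app_surjective A.π A₀.π i hi U (hU.preimage A.π)
  have h2 : Function.Surjective ((inv A.gammaMap).app (op U)).hom := by
    intro y
    refine ⟨(A.gammaMap.app (op U)).hom y, ?_⟩
    rw [← CommRingCat.comp_apply, ← NatTrans.comp_app, IsIso.hom_inv_id]
    rfl
  have h3 : Function.Surjective (A₀.gammaMap.app (op U)).hom := by
    intro y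
    refine ⟨((inv A₀.gammaMap).app (op U)).hom y, ?_⟩
    rw [← CommRingCat.comp_apply, ← NatTrans.comp_app, IsIso.inv_hom_id]
    rfl
  exact h3.comp (h1.comp h2)

end Over

section Main

variable {S : Scheme.{u}} (E M : S.Modules) [E.IsQuasicoherent] [M.IsQuasicoherent]
  (A : RelSpec.QCAlg S) (j : E ⟶ A.toModule) (hA : RelSpec.IsSymAlg E A j)
  (i : (symAlg M).spec ⟶ A.spec) (hi : i ≫ A.π = (symAlg M).π)

include hA in
/-- A closed immersion `V(M) ⟶ V(E)` over `S` induces an epimorphism `E ⟶ M`. -/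
theorem epi_of_isClosedImmersion [IsClosedImmersion i] :
    Epi (j ≫ RelSpec.QCAlg.Hom.toModuleMap (algOfOver A (symAlg M) i hi) ≫ p1 M) := by
  refine Groth.Agent.Lib.helper16.QCohEpi.epi_of_surjective_on_affine_cover _
    (fun U : S.affineOpens => U.1) (fun U => U.2) (fun x => ?_) (fun U m => ?_)
  · obtain ⟨_, ⟨U, hU, rfl⟩, hxU, -⟩ := S.isBasis_affineOpens.exists_subset_of_mem_open
      (Set.mem_univ x) isOpen_univ
    exact ⟨⟨U, hU⟩, hxU⟩
  · obtain ⟨U, hU⟩ := U
    let ψ := algOfOver A (symAlg M) i hi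
    let θ : SymmetricAlgebra Γ(S, U) Γ(E, U) →+* SymmetricAlgebra Γ(S, U) Γ(M, U) :=
      ((symIso M ⟨U, hU⟩).hom.hom.comp (ψ.hom.app (op U)).hom).comp (liftU E A j U)
    have hθa : ∀ r : Γ(S, U), θ (algebraMap _ _ r) = algebraMap _ _ r := by
      intro r
      change (symIso M ⟨U, hU⟩).hom.hom ((ψ.hom.app (op U)).hom (liftU E A j U (algebraMap _ _ r))) = _
      rw [liftU_algebraMap]
      have h1 : (ψ.hom.app (op U)).hom ((A.str.app (op U)).hom r) =
          ((symAlg M).str.app (op U)).hom r :=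
        congrArg (fun k => (k.app (op U)).hom r) ψ.comm
      rw [h1]
      exact str_symIso M ⟨U, hU⟩ r
    have hθ : Function.Surjective θ := by
      have h1 := (liftU_bijective E A j hA ⟨U, hU⟩).2
      have h2 := algOfOver_surjective A (symAlg M) i hi U hU
      have h3 : Function.Surjective (symIso M ⟨U, hU⟩).hom.hom := fun y =>
        ⟨(symIso M ⟨U, hU⟩).inv.hom y, symIso_hom_inv M ⟨U, hU⟩ y⟩
      exact h3.comp (h2.comp h1)
    obtain ⟨e, he⟩ := exists_proj1_eq θ hθa hθ m
    refine ⟨e, ?_⟩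
    rw [← he]
    change (p1 M).app U ((ψ.hom.app (op U)).hom ((j.app U).hom e)) = _
    rw [p1_app M ⟨U, hU⟩]
    change _ = proj1 _ _ ((symIso M ⟨U, hU⟩).hom.hom ((ψ.hom.app (op U)).hom
      (liftU E A j U (SymmetricAlgebra.ι _ _ e))))
    rw [liftU_ι]

end Main

end Groth.Agent.Lib.helper28.SymProj1Sh
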