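import Groth.Agent.Lib.Helper28.SymLoc
import Groth.Agent.Lib.Helper28.AffAlgGlue
import Groth.Agent.Lib.Helper16.CohFinite

set_option autoImplicit false

universe u

/-! The symmetric algebra of a quasi-coherent module, on the affine opens (helper28). -/

namespace Groth.Agent.Lib.helper28.SymSheaf

open CategoryTheory CategoryTheory.Limits AlgebraicGeometry TopologicalSpace Opposite
open Groth.Agent.Lib.helper28.SymLoc

variable {S : Scheme.{u}} (E : S.Modules)

/-- Restriction of sections, as an additive map. -/
noncomputable def resAdd {U V : S.Opens} (h : V ≤ U) : Γ(E, U) →+ Γ(E, V) :=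
  (E.presheaf.map (homOfLE h).op).hom

/-- Restriction of functions, as a ring homomorphism. -/
noncomputable def resRing {U V : S.Opens} (h : V ≤ U) : Γ(S, U) →+* Γ(S, V) :=
  (S.presheaf.map (homOfLE h).op).hom

theorem resAdd_smul {U V : S.Opens} (h : V ≤ U) (a : Γ(S, U)) (m : Γ(E, U)) :
    resAdd E h (a • m) = resRing h a • resAdd E h m :=
  Scheme.Modules.map_smul E (homOfLE h) a m

theorem resRing_id (U : S.Opens) : resRing (le_refl U) = RingHom.id Γ(S, U) := by
  ext a
  change (S.presheaf.map (𝟙 (op U))).hom a = a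
  rw [S.presheaf.map_id]
  rfl

theorem resAdd_id (U : S.Opens) : resAdd E (le_refl U) = AddMonoidHom.id Γ(E, U) := by
  ext m
  change (E.presheaf.map (𝟙 (op U))).hom m = m
  rw [E.presheaf.map_id]
  rfl

theorem resRing_comp {U V W : S.Opens} (h : V ≤ U) (h' : W ≤ V) :
    (resRing h').comp (resRing h) = resRing (h'.trans h) := by
  ext a
  change (S.presheaf.map (homOfLE h).op ≫ S.presheaf.map (homOfLE h').op).hom a = _
  rw [← S.presheaf.map_comp]
  rfl

theorem resAdd_comp {U V W : S.Opens} (h : V ≤ U) (h' : W ≤ V) :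
    (resAdd E h').comp (resAdd E h) = resAdd E (h'.trans h) := by
  ext m
  change (E.presheaf.map (homOfLE h).op ≫ E.presheaf.map (homOfLE h').op).hom m = _
  rw [← E.presheaf.map_comp]
  rfl

theorem symMap_congr {R R' M M' : Type*} [CommRing R] [CommRing R'] [AddCommGroup M]
    [AddCommGroup M'] [Module R M] [Module R' M'] {ρ ρ' : R →+* R'} {f f' : M →+ M'}
    (hf : ∀ a m, f (a • m) = ρ a • f m) (hf' : ∀ a m, f' (a • m) = ρ' a • f' m)
    (hρ : ρ = ρ') (hff : f = f') : symMap ρ f hf = symMap ρ' f' hf' := by
  subst hρ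
  subst hff
  rfl

/-- The symmetric algebra of the sections over an affine open. -/
abbrev SymU (U : S.Opens) : Type u := SymmetricAlgebra Γ(S, U) Γ(E, U)

/-- The restriction map of symmetric algebras. -/
noncomputable def symRes {U V : S.Opens} (h : V ≤ U) : SymU E U →+* SymU E V :=
  symMap (resRing h) (resAdd E h) (resAdd_smul E h)

theorem symRes_id (U : S.Opens) : symRes E (le_refl U) = RingHom.id _ :=
  (symMap_congr _ (fun _ _ => rfl) (resRing_id U) (resAdd_id E U)).trans symMap_id

theorem symRes_comp {U V W : S.Opens} (h : V ≤ U) (h' : W ≤ V) :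
    (symRes E h').comp (symRes E h) = symRes E (h'.trans h) :=
  (symMap_comp _ _ _ _ _ _).trans
    (symMap_congr _ (resAdd_smul E (h'.trans h)) (resRing_comp h h') (resAdd_comp E h h'))

/-- `U ↦ Sym_{O(U)} E(U)` on the affine opens. -/
noncomputable def symF : S.AffineZariskiSiteᵒᵖ ⥤ CommRingCat.{u} where
  obj U := CommRingCat.of (SymU E U.unop.1)
  map {U V} i := CommRingCat.ofHom
    (symRes E (Scheme.AffineZariskiSite.toOpens_mono i.unop.le))
  map_id U := by
    apply CommRingCat.hom_ext
    exact symRes_id E U.unop.1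
  map_comp {U V W} i k := by
    apply CommRingCat.hom_ext
    exact (symRes_comp E (Scheme.AffineZariskiSite.toOpens_mono i.unop.le)
      (Scheme.AffineZariskiSite.toOpens_mono k.unop.le)).symm

/-- The structure map `O_S ⟶ Sym E` on the affine opens. -/
noncomputable def symα : (Scheme.AffineZariskiSite.toOpensFunctor S).op ⋙ S.presheaf ⟶ symF E where
  app U := CommRingCat.ofHom (algebraMap Γ(S, U.unop.1) (SymU E U.unop.1))
  naturality {U V} i := by
    apply CommRingCat.hom_ext
    refine RingHom.ext fun (a : Γ(S, U.unop.1)) => ?_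
    exact (symMap_algebraMap
      (resRing (Scheme.AffineZariskiSite.toOpens_mono i.unop.le))
      (resAdd E (Scheme.AffineZariskiSite.toOpens_mono i.unop.le))
      (resAdd_smul E (Scheme.AffineZariskiSite.toOpens_mono i.unop.le)) a).symm

theorem coequifibered [E.IsQuasicoherent] : (symα E).Coequifibered := by
  refine Scheme.AffineZariskiSite.coequifibered_iff_forall_isLocalizationAway.mpr fun U f => ?_
  have hle : S.basicOpen f ≤ U.1 := S.basicOpen_le f
  have hR : letI := (resRing hle).toAlgebra; IsLocalization.Away f Γ(S, S.basicOpen f) :=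
    U.2.isLocalization_of_eq_basicOpen f (homOfLE hle) rfl
  have hM := Groth.Agent.Lib.helper16.CohFinite.isLocalizedModule_of_eq_basicOpen E U.2 f hle rfl
  exact isLocalization_symMap (resRing hle) (resAdd E hle) (resAdd_smul E hle) f hR hM

end Groth.Agent.Lib.helper28.SymSheaf
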