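import Groth.Agent.Lib.Helper28.SymLocal
import Groth.Agent.Lib.Helper28.RelSpecBC
import Groth.Agent.Lib.Helper7.QCohProd

set_option autoImplicit false

universe u

/-! `V(E ⊕ F) = V(E) ×_S V(F)` (helper28): local universal property of a symmetric algebra,
`Sym(E ⊕ F)(U) = Sym E(U) ⊗ Sym F(U)` as a pushout of rings over affine opens, and the passage
from affine-local pushouts to fibre products of relative spectra. -/

namespace Groth.Agent.Lib.helper28.SymSum

open CategoryTheory CategoryTheory.Limits AlgebraicGeometry TopologicalSpace Opposite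
open Groth.Agent.Lib.helper28.SymAlg Groth.Agent.Lib.helper28.SymLoc
  Groth.Agent.Lib.helper28.SymSheaf Groth.Agent.Lib.helper28

variable {S : Scheme.{u}}

section localUP

variable (E : S.Modules) [E.IsQuasicoherent]
  (A : RelSpec.QCAlg S) (jA : E ⟶ A.toModule) (hA : RelSpec.IsSymAlg E A jA)

include hA in
/-- Ring homomorphisms out of `A(U)`, `U` affine, agree if they agree on the functions and on
the sections `j(e)`. -/
theorem ringHom_ext_affine (U : S.AffineZariskiSite) {T : Type u} [CommRing T]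
    (f f' : A.presheaf.obj (op U.1) →+* T)
    (h1 : ∀ a : Γ(S, U.1), f ((A.str.app (op U.1)).hom a) = f' ((A.str.app (op U.1)).hom a))
    (h2 : ∀ m : Γ(E, U.1), f ((jA.app U.1).hom m) = f' ((jA.app U.1).hom m)) : f = f' := by
  have key : f.comp (liftU E A jA U.1) = f'.comp (liftU E A jA U.1) := by
    refine ringHom_ext _ _ (fun a => ?_) (fun m => ?_)
    · change f (liftU E A jA U.1 (algebraMap _ _ a)) = f' (liftU E A jA U.1 (algebraMap _ _ a))
      rw [liftU_algebraMap]
      exact h1 a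
    · change f (liftU E A jA U.1 (SymmetricAlgebra.ι _ _ m)) =
        f' (liftU E A jA U.1 (SymmetricAlgebra.ι _ _ m))
      rw [liftU_ι]
      exact h2 m
  refine RingHom.ext fun x => ?_
  obtain ⟨y, rfl⟩ := (liftU_bijective E A jA hA U).surjective x
  exact congrArg (fun k => k y) key

include hA in
/-- Local universal property of a symmetric algebra over an affine open. -/
theorem exists_ringHom_affine (U : S.AffineZariskiSite) {T : Type u} [CommRing T]
    (ρ : Γ(S, U.1) →+* T) (φ : Γ(E, U.1) →+ T) (hφ : ∀ a m, φ (a • m) = ρ a * φ m) :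
    ∃ f : A.presheaf.obj (op U.1) →+* T,
      (∀ a : Γ(S, U.1), f ((A.str.app (op U.1)).hom a) = ρ a) ∧
      (∀ m : Γ(E, U.1), f ((jA.app U.1).hom m) = φ m) := by
  let e : SymU E U.1 ≃+* A.presheaf.obj (op U.1) :=
    RingEquiv.ofBijective (liftU E A jA U.1) (liftU_bijective E A jA hA U)
  refine ⟨(liftRingHom ρ φ hφ).comp e.symm.toRingHom, fun a => ?_, fun m => ?_⟩
  · have h1 : (A.str.app (op U.1)).hom a = e (algebraMap _ _ a) :=
      (liftU_algebraMap E A jA U.1 a).symm
    rw [h1]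
    change liftRingHom ρ φ hφ (e.symm (e (algebraMap _ _ a))) = _
    rw [RingEquiv.symm_apply_apply, liftRingHom_algebraMap]
  · have h1 : (jA.app U.1).hom m = e (SymmetricAlgebra.ι _ _ m) :=
      (liftU_ι E A jA U.1 m).symm
    rw [h1]
    change liftRingHom ρ φ hφ (e.symm (e (SymmetricAlgebra.ι _ _ m))) = _
    rw [RingEquiv.symm_apply_apply, liftRingHom_ι]

end localUP

/-- the value of a module map into an algebra, typed in the ring of sections -/
noncomputable abbrev jv {G : S.Modules} (B : RelSpec.QCAlg S) (jB : G ⟶ B.toModule) (U : S.Opens)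
    (m : Γ(G, U)) : B.presheaf.obj (op U) := (jB.app U).hom m

section pushout

variable (E F : S.Modules) [E.IsQuasicoherent] [F.IsQuasicoherent]
  (AE AF A : RelSpec.QCAlg S) (jE : E ⟶ AE.toModule) (jF : F ⟶ AF.toModule)
  (j : E ⊞ F ⟶ A.toModule)
  (hAE : RelSpec.IsSymAlg E AE jE) (hAF : RelSpec.IsSymAlg F AF jF)
  (hA : RelSpec.IsSymAlg (E ⊞ F) A j)
  (ψE : AE ⟶ A) (ψF : AF ⟶ A)
  (hψE : jE ≫ RelSpec.QCAlg.Hom.toModuleMap ψE = biprod.inl ≫ j)
  (hψF : jF ≫ RelSpec.QCAlg.Hom.toModuleMap ψF = biprod.inr ≫ j)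

include hψE in
theorem ψE_jE (U : S.Opens) (m : Γ(E, U)) :
    (ψE.hom.app (op U)).hom (show AE.presheaf.obj (op U) from (jE.app U).hom m) =
      (show A.presheaf.obj (op U) from (j.app U).hom ((biprod.inl : E ⟶ E ⊞ F).app U m)) :=
  congrArg (fun k : E ⟶ A.toModule => (k.app U).hom m) hψE

include hψF in
theorem ψF_jF (U : S.Opens) (m : Γ(F, U)) :
    (ψF.hom.app (op U)).hom (show AF.presheaf.obj (op U) from (jF.app U).hom m) =
      (show A.presheaf.obj (op U) from (j.app U).hom ((biprod.inr : F ⟶ E ⊞ F).app U m)) :=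
  congrArg (fun k : F ⟶ A.toModule => (k.app U).hom m) hψF

theorem ψ_str {B : RelSpec.QCAlg S} (ψ : B ⟶ A) (U : S.Opens) (a : Γ(S, U)) :
    (ψ.hom.app (op U)).hom ((B.str.app (op U)).hom a) = (A.str.app (op U)).hom a :=
  congrArg (fun r => (r.app (op U)).hom a) ψ.comm

theorem j_split (U : S.Opens) (x : Γ(E ⊞ F, U)) :
    (show A.presheaf.obj (op U) from (j.app U).hom x) =
      (show A.presheaf.obj (op U) from (j.app U).hom ((biprod.inl : E ⟶ E ⊞ F).app U
        ((biprod.fst : E ⊞ F ⟶ E).app U x))) +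
      (show A.presheaf.obj (op U) from (j.app U).hom ((biprod.inr : F ⟶ E ⊞ F).app U
        ((biprod.snd : E ⊞ F ⟶ F).app U x))) := by
  have h : j = biprod.fst ≫ biprod.inl ≫ j + biprod.snd ≫ biprod.inr ≫ j := by
    rw [← Category.assoc, ← Category.assoc, ← Preadditive.add_comp, biprod.total,
      Category.id_comp]
  exact congrArg (fun k : E ⊞ F ⟶ A.toModule => (k.app U).hom x) h

include hAE hAF hA hψE hψF in
/-- Over an affine open, `Sym(E ⊕ F)(U)` is the pushout of `Sym E(U)` and `Sym F(U)` over the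
functions on `U`. -/
theorem isPushout_affine (U : S.AffineZariskiSite) :
    IsPushout (AE.str.app (op U.1)) (AF.str.app (op U.1)) (ψE.hom.app (op U.1))
      (ψF.hom.app (op U.1)) := by
  have : (E ⊞ F).IsQuasicoherent :=
    Groth.Agent.Lib.helper7.QCohProd.isQuasicoherent_biprod E F inferInstance inferInstance
  have hcomm : AE.str.app (op U.1) ≫ ψE.hom.app (op U.1) =
      AF.str.app (op U.1) ≫ ψF.hom.app (op U.1) := by
    have h1 := congrArg (fun r => r.app (op U.1)) ψE.comm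
    have h2 := congrArg (fun r => r.app (op U.1)) ψF.comm
    exact h1.trans h2.symm
  -- the descent of a cocone
  have hdesc : ∀ s : PushoutCocone (AE.str.app (op U.1)) (AF.str.app (op U.1)),
      ∃ f : A.presheaf.obj (op U.1) →+* s.pt,
        (∀ a : Γ(S, U.1), f ((A.str.app (op U.1)).hom a) =
          s.inl.hom ((AE.str.app (op U.1)).hom a)) ∧
        (∀ x : Γ(E ⊞ F, U.1), f ((j.app U.1).hom x) =
          s.inl.hom ((jE.app U.1).hom ((biprod.fst : E ⊞ F ⟶ E).app U.1 x)) +
            s.inr.hom ((jF.app U.1).hom ((biprod.snd : E ⊞ F ⟶ F).app U.1 x))) := by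
    intro s
    let φ : Γ(E ⊞ F, U.1) →+ s.pt :=
      (s.inl.hom.toAddMonoidHom.comp ((jE.app U.1).hom.comp
        ((biprod.fst : E ⊞ F ⟶ E).app U.1).hom)) +
      (s.inr.hom.toAddMonoidHom.comp ((jF.app U.1).hom.comp
        ((biprod.snd : E ⊞ F ⟶ F).app U.1).hom))
    refine exists_ringHom_affine (E ⊞ F) A j hA U
      (s.inl.hom.comp (AE.str.app (op U.1)).hom) φ ?_
    intro a x
    have hcond : ∀ a : Γ(S, U.1), s.inr.hom ((AF.str.app (op U.1)).hom a) =
        s.inl.hom ((AE.str.app (op U.1)).hom a) := fun a =>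
      (congrArg (fun r => r.hom a) s.condition).symm
    change s.inl.hom ((jE.app U.1).hom ((biprod.fst : E ⊞ F ⟶ E).app U.1 (a • x))) +
      s.inr.hom ((jF.app U.1).hom ((biprod.snd : E ⊞ F ⟶ F).app U.1 (a • x))) =
      s.inl.hom ((AE.str.app (op U.1)).hom a) *
        (s.inl.hom ((jE.app U.1).hom ((biprod.fst : E ⊞ F ⟶ E).app U.1 x)) +
          s.inr.hom ((jF.app U.1).hom ((biprod.snd : E ⊞ F ⟶ F).app U.1 x)))
    have e1 : (biprod.fst : E ⊞ F ⟶ E).app U.1 (a • x) =
        a • (biprod.fst : E ⊞ F ⟶ E).app U.1 x := Scheme.Modules.Hom.app_smul _ a x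
    have e2 : (biprod.snd : E ⊞ F ⟶ F).app U.1 (a • x) =
        a • (biprod.snd : E ⊞ F ⟶ F).app U.1 x := Scheme.Modules.Hom.app_smul _ a x
    have e3 : ∀ m : Γ(E, U.1), jv AE jE U.1 (a • m) =
        (AE.str.app (op U.1)).hom a * jv AE jE U.1 m :=
      fun m => Scheme.Modules.Hom.app_smul jE a m
    have e4 : ∀ m : Γ(F, U.1), jv AF jF U.1 (a • m) =
        (AF.str.app (op U.1)).hom a * jv AF jF U.1 m :=
      fun m => Scheme.Modules.Hom.app_smul jF a m
    rw [e1, e2]
    change s.inl.hom (jv AE jE U.1 (a • (biprod.fst : E ⊞ F ⟶ E).app U.1 x)) +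
      s.inr.hom (jv AF jF U.1 (a • (biprod.snd : E ⊞ F ⟶ F).app U.1 x)) =
      s.inl.hom ((AE.str.app (op U.1)).hom a) *
        (s.inl.hom (jv AE jE U.1 ((biprod.fst : E ⊞ F ⟶ E).app U.1 x)) +
          s.inr.hom (jv AF jF U.1 ((biprod.snd : E ⊞ F ⟶ F).app U.1 x)))
    rw [e3, e4, map_mul, map_mul, hcond, mul_add]
  choose desc hdesc1 hdesc2 using hdesc
  refine ⟨⟨hcomm⟩, ⟨PushoutCocone.IsColimit.mk hcomm (fun s => CommRingCat.ofHom (desc s))
    ?_ ?_ ?_⟩⟩
  · intro s
    apply CommRingCat.hom_ext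
    refine ringHom_ext_affine E AE jE hAE U _ _ (fun a => ?_) (fun m => ?_)
    · change desc s ((ψE.hom.app (op U.1)).hom ((AE.str.app (op U.1)).hom a)) = _
      rw [ψ_str, hdesc1]
    · change desc s ((ψE.hom.app (op U.1)).hom ((jE.app U.1).hom m)) = _
      rw [ψE_jE E F AE A jE j ψE hψE, hdesc2]
      have h1 : (biprod.fst : E ⊞ F ⟶ E).app U.1 ((biprod.inl : E ⟶ E ⊞ F).app U.1 m) = m :=
        congrArg (fun k : E ⟶ E => (k.app U.1).hom m) biprod.inl_fst
      have h2 : (biprod.snd : E ⊞ F ⟶ F).app U.1 ((biprod.inl : E ⟶ E ⊞ F).app U.1 m) = 0 :=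
        congrArg (fun k : E ⟶ F => (k.app U.1).hom m) biprod.inl_snd
      rw [h1, h2, map_zero]
      exact (congrArg (fun t => s.inl.hom (jv AE jE U.1 m) + t) (map_zero s.inr.hom)).trans
        (add_zero _)
  · intro s
    apply CommRingCat.hom_ext
    refine ringHom_ext_affine F AF jF hAF U _ _ (fun a => ?_) (fun m => ?_)
    · change desc s ((ψF.hom.app (op U.1)).hom ((AF.str.app (op U.1)).hom a)) = _
      rw [ψ_str, hdesc1]
      exact congrArg (fun r => r.hom a) s.condition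
    · change desc s ((ψF.hom.app (op U.1)).hom ((jF.app U.1).hom m)) = _
      rw [ψF_jF E F AF A jF j ψF hψF, hdesc2]
      have h1 : (biprod.fst : E ⊞ F ⟶ E).app U.1 ((biprod.inr : F ⟶ E ⊞ F).app U.1 m) = 0 :=
        congrArg (fun k : F ⟶ E => (k.app U.1).hom m) biprod.inr_fst
      have h2 : (biprod.snd : E ⊞ F ⟶ F).app U.1 ((biprod.inr : F ⟶ E ⊞ F).app U.1 m) = m :=
        congrArg (fun k : F ⟶ F => (k.app U.1).hom m) biprod.inr_snd
      rw [h1, h2, map_zero]
      exact (congrArg (fun t => t + s.inr.hom (jv AF jF U.1 m)) (map_zero s.inl.hom)).trans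
        (zero_add _)
  · intro s m hl hr
    apply CommRingCat.hom_ext
    refine ringHom_ext_affine (E ⊞ F) A j hA U _ _ (fun a => ?_) (fun x => ?_)
    · change m.hom ((A.str.app (op U.1)).hom a) = desc s ((A.str.app (op U.1)).hom a)
      rw [hdesc1, ← hl, ← ψ_str A ψE U.1 a]
      rfl
    · change m.hom ((j.app U.1).hom x) = desc s ((j.app U.1).hom x)
      rw [hdesc2]
      have h1 := congrArg m.hom (j_split E F A j U.1 x)
      refine h1.trans ((map_add m.hom _ _).trans ?_)
      have h2 := congrArg m.hom (ψE_jE E F AE A jE j ψE hψE U.1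
        ((biprod.fst : E ⊞ F ⟶ E).app U.1 x))
      have h3 := congrArg m.hom (ψF_jF E F AF A jF j ψF hψF U.1
        ((biprod.snd : E ⊞ F ⟶ F).app U.1 x))
      rw [← h2, ← h3, ← hl, ← hr]
      rfl

end pushout

section fibre

open Groth.Agent.Lib.helper28.RelSpecBC

variable {A AE AF : RelSpec.QCAlg S} (ψE : AE ⟶ A) (ψF : AF ⟶ A)

/-- The chart of `Spec(A)` over `U` is the preimage of the chart of `Spec(AE)`. -/
theorem isPullback_ι_specMap (U : S.Opens) (hU : IsAffineOpen U) :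
    IsPullback (A.ι U hU) (Spec.map (ψE.hom.app (op U))) (RelSpec.QCAlg.specMap ψE)
      (AE.ι U hU) := by
  have h1 := isPullback_ι_π AE U hU
  have h2 := isPullback_ι_π A U hU
  refine IsPullback.of_bot ?_ (RelSpec.QCAlg.ι_specMap U hU ψE) h1
  rw [RelSpec.QCAlg.specMap_π, ← Spec.map_comp]
  have e : AE.str.app (op U) ≫ ψE.hom.app (op U) = A.str.app (op U) :=
    congrArg (fun r => r.app (op U)) ψE.comm
  rw [e]
  exact h2

/-- If over every affine open `A(U)` is the pushout of `AE(U)` and `AF(U)` over the functions,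
then `Spec(A) = Spec(AE) ×_S Spec(AF)`. -/
theorem isPullback_specMap_of_isPushout
    (h : ∀ U : S.AffineZariskiSite, IsPushout (AE.str.app (op U.1)) (AF.str.app (op U.1))
      (ψE.hom.app (op U.1)) (ψF.hom.app (op U.1))) :
    IsPullback (RelSpec.QCAlg.specMap ψE) (RelSpec.QCAlg.specMap ψF) AE.π AF.π := by
  refine Scheme.isPullback_of_openCover (RelSpec.QCAlg.specMap ψE) (RelSpec.QCAlg.specMap ψF)
    AE.π AF.π AE.glueData.cover ?_
  rintro ⟨U, hU⟩
  have sqL := isPullback_SpecMap_of_isPushout _ _ _ _ (h ⟨U, hU⟩)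
  have sqR := isPullback_ι_π AF U hU
  have sq := sqL.flip.paste_horiz sqR
  rw [← RelSpec.QCAlg.ι_specMap U hU ψF, ← AE.ι_π U hU] at sq
  have sqB := isPullback_ι_specMap ψE U hU
  refine IsPullback.of_iso sq.flip sqB.isoPullback (Iso.refl _) (Iso.refl _) (Iso.refl _)
    ?_ ?_ ?_ ?_
  · change _ = sqB.isoPullback.hom ≫ pullback.snd (RelSpec.QCAlg.specMap ψE) (AE.ι U hU)
    rw [sqB.isoPullback_hom_snd]
    exact Category.comp_id _
  · change _ = sqB.isoPullback.hom ≫ pullback.fst (RelSpec.QCAlg.specMap ψE) (AE.ι U hU) ≫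
      RelSpec.QCAlg.specMap ψF
    rw [← Category.assoc, sqB.isoPullback_hom_fst]
    exact Category.comp_id _
  · exact (Category.comp_id _).trans (Category.id_comp _).symm
  · exact (Category.comp_id _).trans (Category.id_comp _).symm

end fibre

section main

variable (E F : S.Modules) [E.IsQuasicoherent] [F.IsQuasicoherent]
  (AE AF A : RelSpec.QCAlg S) (jE : E ⟶ AE.toModule) (jF : F ⟶ AF.toModule)
  (j : E ⊞ F ⟶ A.toModule)
  (hAE : RelSpec.IsSymAlg E AE jE) (hAF : RelSpec.IsSymAlg F AF jF)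
  (hA : RelSpec.IsSymAlg (E ⊞ F) A j)
  (ψE : AE ⟶ A) (ψF : AF ⟶ A)
  (hψE : jE ≫ RelSpec.QCAlg.Hom.toModuleMap ψE = biprod.inl ≫ j)
  (hψF : jF ≫ RelSpec.QCAlg.Hom.toModuleMap ψF = biprod.inr ≫ j)

include hAE hAF hA hψE hψF in
/-- `V(E ⊕ F) = V(E) ×_S V(F)`. -/
theorem isPullback_vectorBundle_biprod :
    IsPullback (RelSpec.QCAlg.specMap ψE) (RelSpec.QCAlg.specMap ψF) AE.π AF.π :=
  isPullback_specMap_of_isPushout ψE ψF fun U =>
    isPushout_affine E F AE AF A jE jF j hAE hAF hA ψE ψF hψE hψF U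

end main

end Groth.Agent.Lib.helper28.SymSum
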