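import Groth.Agent.Lib.Helper28.TildeQCoh
import Groth.Agent.Lib.Helper28.TwistMul

/-!
# Fractions in `tildeAt` and the action `O(m) × M(k)~ → M(k + m)~`
-/

set_option autoImplicit false
universe u

open CategoryTheory AlgebraicGeometry Opposite TopologicalSpace

namespace Groth.Agent.Lib.helper28.TildeMul

open Groth.Agent.Lib.helper28.GrFrac Groth.Agent.Lib.helper28.TwistSec
  Groth.Agent.Lib.helper28.TwistFree Groth.Agent.Lib.helper28.TildeQCoh

variable {R A : Type u} [CommRing R] [CommRing A] [Algebra R A] (𝒜 : ℕ → Submodule R A)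
  [GradedAlgebra 𝒜]
variable {M : Type u} [AddCommGroup M] [Module R M] [Module A M] [IsScalarTower R A M]
  (ℳ : ℕ → Submodule R M) [SetLike.GradedSMul 𝒜 ℳ]

/-- Every element of `tildeAt n x` is a single fraction `m / s` (with `deg m = deg s + n`, or
`m = 0`). -/
theorem exists_fraction_of_mem (n : ℤ) (x : ProjectiveSpectrum 𝒜)
    (q : GrTilde.LocMod 𝒜 (M := M) x) (hq : q ∈ GrTilde.tildeAt 𝒜 ℳ n x) :
    ∃ (i j : ℕ) (m : ℳ i) (s : 𝒜 j) (hs : s.1 ∉ x.asHomogeneousIdeal),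
      ((i : ℤ) = j + n ∨ m.1 = 0) ∧ q = LocalizedModule.mk m.1 ⟨s.1, hs⟩ := by
  have h1x : (1 : A) ∉ x.asHomogeneousIdeal := fun h =>
    x.isPrime.ne_top ((Ideal.eq_top_iff_one _).mpr h)
  induction hq using Submodule.span_induction with
  | mem z hz =>
    obtain ⟨i, j, a, s, hs, hij, rfl⟩ := hz
    exact ⟨i, j, a, s, hs, Or.inl hij, rfl⟩
  | zero =>
    exact ⟨0, 0, 0, ⟨1, SetLike.GradedOne.one_mem⟩, h1x, Or.inr rfl, by
      simp⟩
  | add y z _ _ hy hz =>
    obtain ⟨i, j, a, s, hs, hij, rfl⟩ := hy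
    obtain ⟨i', j', a', s', hs', hij', rfl⟩ := hz
    have hss' : s.1 * s'.1 ∉ x.asHomogeneousIdeal := fun h =>
      (x.isPrime.mem_or_mem h).elim hs hs'
    have key : (LocalizedModule.mk a.1 ⟨s.1, hs⟩ + LocalizedModule.mk a'.1 ⟨s'.1, hs'⟩ :
        GrTilde.LocMod 𝒜 (M := M) x) =
        LocalizedModule.mk (s'.1 • a.1 + s.1 • a'.1) ⟨s.1 * s'.1, hss'⟩ := by
      rw [LocalizedModule.mk_add_mk]
      rfl
    have h1 : s'.1 • a.1 ∈ ℳ (j' + i) := SetLike.GradedSMul.smul_mem s'.2 a.2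
    have h2 : s.1 • a'.1 ∈ ℳ (j + i') := SetLike.GradedSMul.smul_mem s.2 a'.2
    rcases hij with hij | ha
    · rcases hij' with hij' | ha'
      · refine ⟨j + i', j + j', ⟨s'.1 • a.1 + s.1 • a'.1, add_mem ?_ h2⟩,
          ⟨s.1 * s'.1, SetLike.mul_mem_graded s.2 s'.2⟩,
          hss', Or.inl (by push_cast; omega), key⟩
        have e : j' + i = j + i' := by omega
        exact e ▸ h1
      · refine ⟨j' + i, j + j', ⟨s'.1 • a.1 + s.1 • a'.1, ?_⟩,
          ⟨s.1 * s'.1, SetLike.mul_mem_graded s.2 s'.2⟩, hss', Or.inl (by push_cast; omega), key⟩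
        rw [ha', smul_zero, add_zero]
        exact h1
    · refine ⟨j + i', j + j', ⟨s'.1 • a.1 + s.1 • a'.1, ?_⟩,
        ⟨s.1 * s'.1, SetLike.mul_mem_graded s.2 s'.2⟩, hss', ?_, key⟩
      · rw [ha, smul_zero, zero_add]
        exact h2
      · rcases hij' with hij' | ha'
        · exact Or.inl (by push_cast; omega)
        · exact Or.inr (show s'.1 • a.1 + s.1 • a'.1 = 0 by
            rw [ha, ha', smul_zero, smul_zero, add_zero])
  | smul c y _ hy =>
    obtain ⟨i, j, a, s, hs, hij, rfl⟩ := hy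
    obtain ⟨⟨e, r, t, ht⟩, rfl⟩ := HomogeneousLocalization.mk_surjective c
    have hts : t.1 * s.1 ∉ x.asHomogeneousIdeal := fun h =>
      (x.isPrime.mem_or_mem h).elim ht hs
    refine ⟨e + i, e + j, ⟨r.1 • a.1, SetLike.GradedSMul.smul_mem r.2 a.2⟩,
      ⟨t.1 * s.1, SetLike.mul_mem_graded t.2 s.2⟩, hts, ?_, ?_⟩
    · rcases hij with hij | ha
      · exact Or.inl (by push_cast; omega)
      · exact Or.inr (show r.1 • a.1 = 0 by rw [ha, smul_zero])
    · rw [GrTilde.a0_smul_def, HomogeneousLocalization.val_mk, LocalizedModule.mk_smul_mk]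
      rfl

/-- A fraction of the right degree (or zero) lies in `tildeAt`. -/
theorem mk_mem_tildeAt (n : ℤ) (x : ProjectiveSpectrum 𝒜) {i j : ℕ} (m : ℳ i) (s : 𝒜 j)
    (hs : s.1 ∉ x.asHomogeneousIdeal) (h : (i : ℤ) = j + n ∨ m.1 = 0) :
    (LocalizedModule.mk m.1 ⟨s.1, hs⟩ : GrTilde.LocMod 𝒜 (M := M) x) ∈ GrTilde.tildeAt 𝒜 ℳ n x := by
  rcases h with h | h
  · exact Submodule.subset_span ⟨i, j, m, s, hs, h, rfl⟩
  · rw [h, LocalizedModule.zero_mk]
    exact zero_mem _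

end Groth.Agent.Lib.helper28.TildeMul
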