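import Mathlib
import Groth.Agent.Lib.Helper28.KoszulTor2
import Groth.Agent.Lib.Helper28.ExtPowSurj
import Groth.Agent.LibKoszulIndep29

/-!
# `Tor_i(A/I, A/J) ≅ ⋀^i Tor_1(A/I, A/J)` for Koszul-regular `I = (f,g)`, `J = (f,h)` (helper28)
-/

set_option autoImplicit false
set_option linter.unusedSectionVars false
set_option linter.style.haveILetI false

universe u

open CategoryTheory CategoryTheory.Limits CochainComplex MonoidalCategory

namespace Groth.Agent.Lib.helper28.TorKoszulExt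

open Groth.Agent.Lib.helper26.Kos Groth.Agent.Lib.helper7.TorAPI Groth.Agent.Lib.helper28.KoszulTor
open Groth.Agent.LibKoszulComp29 Groth.Agent.LibKoszulFlat29 Groth.Agent.Lib.helper28.KoszulTor2
open Groth.Agent.LibKoszulIndep29

variable {A : Type u} [CommRing A]

/-- `Tor_{j+1}^A(A/(fs), A/(l)) ≅ H^{-(j+1)}(K(l ++ fs))` for Koszul-regular `fs` and `l`. -/
theorem nonempty_tor_iso_koszul (fs l : List A) (hfs : LCI.IsKoszulRegularSeq A fs)
    (hl : LCI.IsKoszulRegularSeq A l) (j : ℕ) :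
    Nonempty ((T (j + 1) (ModuleCat.of A (A ⧸ Ideal.span {x | x ∈ fs}))).obj
        (ModuleCat.of A (A ⧸ Ideal.span {x | x ∈ l})) ≅
      (Koszul.koszul A (l ++ fs)).homology (ng (j + 1))) := by
  set I : Ideal A := Ideal.span {x | x ∈ fs} with hI
  let π : A →+* A ⧸ I := algebraMap A (A ⧸ I)
  have hπ : Function.Surjective π := Ideal.Quotient.mk_surjective
  have hker : RingHom.ker π = Ideal.ofList fs := Ideal.mk_ker
  obtain ⟨Φ, hΦ⟩ := exists_quasiIso hπ fs hker hfs l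
  obtain ⟨e1⟩ := nonempty_T_Rm_iso π l hl (Ideal.span {x | x ∈ l}) rfl j
  have e0 : (T (j + 1) (ModuleCat.of A (A ⧸ I))).obj (ModuleCat.of A (A ⧸ Ideal.span {x | x ∈ l})) ≅
      (T (j + 1) (Rm π)).obj (ModuleCat.of A (A ⧸ Ideal.span {x | x ∈ l})) :=
    (((Tor (ModuleCat.{u} A) (j + 1)).mapIso (rmIso (A ⧸ I))).app _).symm
  have e2 : (Koszul.koszul A (l ++ fs)).homology (ng (j + 1)) ≅
      ((RC π).obj (Koszul.koszul (A ⧸ I) (l.map π))).homology (ng (j + 1)) :=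
    isoOfQuasiIsoAt Φ (ng (j + 1))
  exact ⟨e0 ≪≫ e1 ≪≫ e2.symm⟩

theorem rk_ng (a j : ℕ) : rk a (ng (j + 1)) = a.choose (j + 1) := by
  unfold rk
  have h1 : ¬ (0 < ng (j + 1)) := by simp only [ng]; push_cast; omega
  have h2 : (-(ng (j + 1))).toNat = j + 1 := by simp only [ng]; push_cast; omega
  rw [if_neg h1, h2]

/-- `Tor_{j+1}^A(A/(f,g), A/(f,h))` is free of rank `C(|f|, j+1)` over `A/(h,f,g)`. -/
theorem nonempty_tor_equiv (f g h : List A) (hfg : LCI.IsKoszulRegularSeq A (f ++ g))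
    (hfh : LCI.IsKoszulRegularSeq A (f ++ h)) (hfgh : LCI.IsKoszulRegularSeq A (f ++ g ++ h))
    (j : ℕ) :
    Nonempty (((T (j + 1) (ModuleCat.of A (A ⧸ Ideal.span {x | x ∈ f ++ g}))).obj
        (ModuleCat.of A (A ⧸ Ideal.span {x | x ∈ f ++ h})) : Type u) ≃ₗ[A]
      (Fin (f.length.choose (j + 1)) → A ⧸ Ideal.ofList (h ++ (f ++ g)))) := by
  obtain ⟨e⟩ := nonempty_tor_iso_koszul (f ++ g) (f ++ h) hfg hfh j
  have hL₀ : LCI.IsKoszulRegularSeq A (h ++ (f ++ g)) := by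
    refine isKoszulRegularSeq_of_ofList_eq (f ++ g ++ h) (h ++ (f ++ g)) hfgh ?_ ?_
    · rw [Ideal.ofList_append, Ideal.ofList_append (f ++ g) h, sup_comm]
    · simp only [List.length_append]; omega
  have hfr : IsFr (Ideal.ofList (h ++ (f ++ g))) (rk f.length (ng (j + 1)))
      (H (f ++ (h ++ (f ++ g))) (ng (j + 1))) :=
    isFr_append (h ++ (f ++ g)) (fun _ => True) (fun _ _ => trivial)
      (isFr_base (h ++ (f ++ g)) _
        (fun n _ hn => ModuleCat.subsingleton_of_isZero (hL₀ n hn))) f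
      (fun x hx => Ideal.subset_span (by
        show x ∈ h ++ (f ++ g)
        exact List.mem_append_right _ (List.mem_append_left _ hx))) (ng (j + 1)) trivial
  obtain ⟨e'⟩ := hfr
  rw [rk_ng] at e'
  have hl : f ++ h ++ (f ++ g) = f ++ (h ++ (f ++ g)) := List.append_assoc _ _ _
  rw [hl] at e
  exact ⟨e.toLinearEquiv.trans e'⟩

/-- **`Tor_i(A/I, A/J) ≅ ⋀^i Tor_1(A/I, A/J)`** for `I = (f, g)`, `J = (f, h)` with `f ++ g`,
`f ++ h`, `f ++ g ++ h` Koszul-regular and `i ≥ 1`. -/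
theorem main (f g h : List A) (hfg : LCI.IsKoszulRegularSeq A (f ++ g))
    (hfh : LCI.IsKoszulRegularSeq A (f ++ h)) (hfgh : LCI.IsKoszulRegularSeq A (f ++ g ++ h))
    (i : ℕ) (hi : 1 ≤ i) :
    Nonempty ((T i (ModuleCat.of A (A ⧸ Ideal.span {x | x ∈ f ++ g}))).obj
        (ModuleCat.of A (A ⧸ Ideal.span {x | x ∈ f ++ h})) ≅
      ModuleCat.of A (⋀[A]^i ((T 1 (ModuleCat.of A (A ⧸ Ideal.span {x | x ∈ f ++ g}))).obj
        (ModuleCat.of A (A ⧸ Ideal.span {x | x ∈ f ++ h}))))) := by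
  obtain ⟨j, rfl⟩ : ∃ j, i = j + 1 := ⟨i - 1, by omega⟩
  obtain ⟨e1⟩ := nonempty_tor_equiv f g h hfg hfh hfgh 0
  obtain ⟨ej⟩ := nonempty_tor_equiv f g h hfg hfh hfgh j
  rw [zero_add, Nat.choose_one_right] at e1
  obtain ⟨e2⟩ := Groth.Agent.Lib.helper28.ExtPowSurj.nonempty_equiv_of_equiv
    (Ideal.ofList (h ++ (f ++ g))) f.length (j + 1) hi e1
  exact ⟨(ej.trans e2.symm).toModuleIso⟩

end Groth.Agent.Lib.helper28.TorKoszulExt
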