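import Mathlib
import Groth.Agent.Lib.Helper28.KoszulTor
import Groth.Agent.Lib.Helper28.QuasiRegGr
import Groth.Agent.Lib.Helper7.KoszulLow
import Groth.Agent.S2103

/-!
# `Tor` of the powers of a Koszul-regular ideal against a Koszul-transversal algebra (helper28)

`main`: `fs` Koszul-regular in `A` generating `J`, with Koszul-regular image in the `A`-algebra
`A'`.  Then `Tor_i^A(Jⁿ, A') = 0` and `Tor_i^A(Jⁿ/Jⁿ⁺¹, A') = 0` for all `n` and `i ≥ 1`.
-/

set_option autoImplicit false
set_option linter.unusedSectionVars false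
set_option linter.style.haveILetI false

universe u

open CategoryTheory CategoryTheory.Limits

namespace Groth.Agent.Lib.helper28.TorPowers

open Groth.Agent.Lib.helper7.TorAPI Groth.Agent.Lib.helper28.QuasiRegGr

variable {A : Type u} [CommRing A]

section SES

variable {X₁ X₂ X₃ : Type u} [AddCommGroup X₁] [AddCommGroup X₂] [AddCommGroup X₃]
  [Module A X₁] [Module A X₂] [Module A X₃]

/-- a short exact sequence of modules as a short exact short complex. -/
theorem shortExact_mk (f : X₁ →ₗ[A] X₂) (g : X₂ →ₗ[A] X₃) (hf : Function.Injective f)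
    (hg : Function.Surjective g) (hfg : Function.Exact f g) :
    (ShortComplex.moduleCatMk f g hfg.linearMap_comp_eq_zero).ShortExact := by
  have hex : (ShortComplex.moduleCatMk f g hfg.linearMap_comp_eq_zero).Exact := by
    rw [ShortComplex.ShortExact.moduleCat_exact_iff_function_exact]
    exact hfg
  haveI : Mono (ShortComplex.moduleCatMk f g hfg.linearMap_comp_eq_zero).f :=
    (ModuleCat.mono_iff_injective _).2 hf
  haveI : Epi (ShortComplex.moduleCatMk f g hfg.linearMap_comp_eq_zero).g :=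
    (ModuleCat.epi_iff_surjective _).2 hg
  exact ShortComplex.ShortExact.mk' hex ‹_› ‹_›

/-- if `Tor_i` vanishes at both ends of a short exact sequence, it vanishes in the middle. -/
theorem isZero_T_middle (f : X₁ →ₗ[A] X₂) (g : X₂ →ₗ[A] X₃) (hf : Function.Injective f)
    (hg : Function.Surjective g) (hfg : Function.Exact f g) (N : ModuleCat.{u} A) (i : ℕ)
    (h₁ : IsZero ((T i (ModuleCat.of A X₁)).obj N)) (h₃ : IsZero ((T i (ModuleCat.of A X₃)).obj N)) :
    IsZero ((T i (ModuleCat.of A X₂)).obj N) :=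
  (T₁_exact₂ (shortExact_mk f g hf hg hfg) N i).isZero_of_both_isZero h₁ h₃

/-- dimension shifting: `Tor_{i+1}(X₃) = 0` and `Tor_i(X₂) = 0` give `Tor_i(X₁) = 0`. -/
theorem isZero_T_left (f : X₁ →ₗ[A] X₂) (g : X₂ →ₗ[A] X₃) (hf : Function.Injective f)
    (hg : Function.Surjective g) (hfg : Function.Exact f g) (N : ModuleCat.{u} A) (i : ℕ)
    (h₃ : IsZero ((T (i + 1) (ModuleCat.of A X₃)).obj N))
    (h₂ : IsZero ((T i (ModuleCat.of A X₂)).obj N)) :
    IsZero ((T i (ModuleCat.of A X₁)).obj N) := by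
  obtain ⟨δ, w₁, w₂, e₁, e₂⟩ := T₁_exists_δ (shortExact_mk f g hf hg hfg) N i
  exact e₂.isZero_of_both_isZero h₃ h₂

end SES

section Pi

variable (M : Type u) [AddCommGroup M] [Module A M]

theorem isZero_T_of_subsingleton (Z : Type u) [AddCommGroup Z] [Module A Z] [Subsingleton Z]
    (N : ModuleCat.{u} A) (i : ℕ) : IsZero ((T i (ModuleCat.of A Z)).obj N) := by
  have hZ : IsZero (ModuleCat.of A Z) := ModuleCat.isZero_of_subsingleton _
  have h0 : 𝟙 (ModuleCat.of A Z) ≫ 𝟙 (ModuleCat.of A Z) = 0 := hZ.eq_of_src _ _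
  have h1 := T₁map_comp_eq_zero (ShortComplex.mk _ _ h0) N i
  rw [IsZero.iff_id_eq_zero]
  have h2 : T₁map i (𝟙 (ModuleCat.of A Z)) N = 𝟙 _ := by
    change ((Tor (ModuleCat.{u} A) i).map (𝟙 _)).app N = _
    rw [CategoryTheory.Functor.map_id]
    rfl
  rw [h2, Category.comp_id] at h1
  exact h1

/-- `Tor_i(Mⁿ, N) = 0` if `Tor_i(M, N) = 0`. -/
theorem isZero_T_pi (N : ModuleCat.{u} A) (i : ℕ)
    (h : IsZero ((T i (ModuleCat.of A M)).obj N)) (n : ℕ) :
    IsZero ((T i (ModuleCat.of A (Fin n → M))).obj N) := by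
  induction n with
  | zero => exact isZero_T_of_subsingleton _ N i
  | succ n ih =>
    refine isZero_T_middle (LinearMap.single A (fun _ : Fin (n + 1) => M) 0)
      (LinearMap.funLeft A M Fin.succ) ?_ ?_ ?_ N i h ih
    · exact Pi.single_injective (M := fun _ : Fin (n + 1) => M) 0
    · intro w
      exact ⟨Fin.cons 0 w, by funext j; simp [LinearMap.funLeft]⟩
    · intro v
      constructor
      · intro hv
        refine ⟨v 0, ?_⟩
        funext j
        refine Fin.cases ?_ (fun k => ?_) j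
        · simp
        · have := congrFun hv k
          simp only [LinearMap.funLeft_apply, Pi.zero_apply] at this
          rw [this]
          simp [Fin.succ_ne_zero]
      · rintro ⟨m, rfl⟩
        funext k
        simp [LinearMap.funLeft, Fin.succ_ne_zero]

end Pi

section Main

variable {c : ℕ} (f : Fin c → A)

theorem isZero_T_gr (hq : CAlgX.IsQuasiRegular f) (N : ModuleCat.{u} A) (i : ℕ)
    (hN : IsZero ((T i (ModuleCat.of A (A ⧸ Ideal.span (Set.range f)))).obj N)) (n : ℕ) :
    IsZero ((T i (ModuleCat.of A (Gr f n))).obj N) := by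
  obtain ⟨N', ⟨e⟩⟩ := nonempty_linearEquiv f hq n
  exact (isZero_T_pi (A ⧸ Ideal.span (Set.range f)) N i hN N').of_iso
    (((Tor (ModuleCat.{u} A) i).mapIso e.toModuleIso).app N)

theorem isZero_T_pow (hq : CAlgX.IsQuasiRegular f) (N : ModuleCat.{u} A)
    (hN : ∀ i : ℕ, IsZero ((T (i + 1) (ModuleCat.of A (A ⧸ Ideal.span (Set.range f)))).obj N))
    (n : ℕ) : ∀ i : ℕ,
      IsZero ((T (i + 1) (ModuleCat.of A ↥(Ideal.span (Set.range f) ^ n))).obj N) := by
  induction n with
  | zero =>
    intro i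
    have e : ↥(Ideal.span (Set.range f) ^ 0) ≃ₗ[A] A :=
      (LinearEquiv.ofEq _ _ (by rw [pow_zero, Ideal.one_eq_top])).trans Submodule.topEquiv
    haveI : Module.Flat A (ModuleCat.of A ↥(Ideal.span (Set.range f) ^ 0)) :=
      Module.Flat.of_linearEquiv e
    exact isZero_T_flat _ N i
  | succ n ih =>
    intro i
    refine isZero_T_left
      (Submodule.inclusion (Ideal.pow_le_pow_right (Nat.le_succ n)) :
        ↥(Ideal.span (Set.range f) ^ (n + 1)) →ₗ[A] ↥(Ideal.span (Set.range f) ^ n))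
      (Submodule.mkQ (Submodule.comap (Ideal.span (Set.range f) ^ n).subtype
        (Ideal.span (Set.range f) ^ (n + 1)))) ?_ ?_ ?_ N (i + 1)
      (isZero_T_gr f hq N (i + 2) (hN (i + 1)) n) (ih i)
    · exact Submodule.inclusion_injective _
    · exact Submodule.mkQ_surjective _
    · intro y
      rw [Submodule.mkQ_apply, Submodule.Quotient.mk_eq_zero, Submodule.mem_comap,
        Submodule.subtype_apply]
      constructor
      · intro hy
        exact ⟨⟨y.1, hy⟩, Subtype.ext rfl⟩
      · rintro ⟨x, rfl⟩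
        exact x.2

end Main

section Final

/-- **`S3196`.** -/
theorem main (A' : Type u) [CommRing A'] [Algebra A A'] (fs : List A)
    (hfs : LCI.IsKoszulRegularSeq A fs)
    (hfs' : LCI.IsKoszulRegularSeq A' (fs.map (algebraMap A A'))) (n : ℕ) (i : ℕ) :
    IsZero ((T (i + 1) (ModuleCat.of A ↥(Ideal.span {x | x ∈ fs} ^ n))).obj
      (ModuleCat.of A A')) ∧
    IsZero ((T (i + 1) (ModuleCat.of A (↥(Ideal.span {x | x ∈ fs} ^ n) ⧸
      Submodule.comap (Ideal.span {x | x ∈ fs} ^ n).subtype
        (Ideal.span {x | x ∈ fs} ^ (n + 1))))).obj (ModuleCat.of A A')) := by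
  have hq : CAlgX.IsQuasiRegular fs.get :=
    Groth.Agent.S2103.result fs.get
      (Groth.Agent.Lib.helper7.KoszulLow.isH1Regular_of_isKoszulRegularSeq A fs hfs)
  have hN : ∀ i : ℕ, IsZero ((T (i + 1) (ModuleCat.of A
      (A ⧸ Ideal.span (Set.range fs.get)))).obj (ModuleCat.of A A')) := fun i =>
    Groth.Agent.Lib.helper28.KoszulTor.isZero_tor_quotient A' fs hfs hfs' _
      (by rw [Set.range_list_get]) i
  have h1 := isZero_T_pow fs.get hq (ModuleCat.of A A') hN n i
  have h2 := isZero_T_gr fs.get hq (ModuleCat.of A A') (i + 1) (hN i) n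
  unfold Gr at h2
  rw [Set.range_list_get] at h1 h2
  exact ⟨h1, h2⟩

end Final

end Groth.Agent.Lib.helper28.TorPowers
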