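import Groth.Prelude.Def_Twist2
import Mathlib

/-!
# When does the value of `globalOf f` generate the fibre `twistAt d p`?
-/

set_option autoImplicit false
universe u

open AlgebraicGeometry TopologicalSpace

namespace Groth.Agent.Lib.helper28.TwistGen

variable {R A : Type u} [CommRing R] [CommRing A] [Algebra R A] (𝒜 : ℕ → Submodule R A)
  [GradedAlgebra 𝒜]

/-- If `f ∉ p` then the value `f / 1` generates the module of degree-`d` fractions at `p`. -/
theorem span_eq_top_of_notMem {d : ℕ} (f : 𝒜 d) (p : ProjectiveSpectrum 𝒜)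
    (hfp' : (f : A) ∉ p.asHomogeneousIdeal) :
    Submodule.span (Twist.A0 𝒜 p) {(Twist.globalOf 𝒜 f).1 ⟨p, trivial⟩} = ⊤ := by
  classical
  set v : Twist.twistAt 𝒜 (d : ℤ) p := (Twist.globalOf 𝒜 f).1 ⟨p, trivial⟩ with hv
  have hvval : (v : Twist.Loc 𝒜 p) = Localization.mk f.1 1 := rfl
  rw [eq_top_iff]
  rintro ⟨q, hq⟩ -
  induction hq using Submodule.span_induction with
  | mem z hz =>
    obtain ⟨i, j, a, s, hs, hij, rfl⟩ := hz
    have hsf : s.1 * f.1 ∈ p.asHomogeneousIdeal.toIdeal.primeCompl := fun hmem =>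
      (p.isPrime.mem_or_mem hmem).elim hs hfp'
    have hdeg : j + d = i := by omega
    let c : Twist.A0 𝒜 p := HomogeneousLocalization.mk
      ⟨i, a, ⟨s.1 * f.1, hdeg ▸ SetLike.mul_mem_graded s.2 f.2⟩, hsf⟩
    have hc : c • v = ⟨Localization.mk a.1 ⟨s.1, hs⟩,
        Submodule.subset_span ⟨i, j, a, s, hs, hij, rfl⟩⟩ := by
      apply Subtype.ext
      rw [Twist.coe_smul_val, hvval]
      change Localization.mk a.1 ⟨s.1 * f.1, hsf⟩ * Localization.mk f.1 1 = _
      rw [Localization.mk_mul, Localization.mk_eq_mk_iff, Localization.r_iff_exists]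
      refine ⟨1, ?_⟩
      simp only [OneMemClass.coe_one, one_mul, Submonoid.coe_mul, mul_one]
      ring
    rw [← hc]
    exact Submodule.smul_mem _ c (Submodule.subset_span rfl)
  | zero => exact zero_mem _
  | add x y hx hy hx' hy' => exact add_mem hx' hy'
  | smul c x hx hx' => exact Submodule.smul_mem _ c hx'

/-- If `f / 1` generates the degree-`d` fractions at `p` and there is a unit fraction `a / b` of
degree `d` at `p`, then `f ∉ p`. -/
theorem notMem_of_span_eq_top {d : ℕ} (f : 𝒜 d) (p : ProjectiveSpectrum 𝒜)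
    {i j : ℕ} (a : 𝒜 i) (b : 𝒜 j) (ha : a.1 ∉ p.asHomogeneousIdeal)
    (hb : b.1 ∉ p.asHomogeneousIdeal) (hij : (i : ℤ) = j + d)
    (htop : Submodule.span (Twist.A0 𝒜 p) {(Twist.globalOf 𝒜 f).1 ⟨p, trivial⟩} = ⊤) :
    (f : A) ∉ p.asHomogeneousIdeal := by
  classical
  intro hfp'
  set v : Twist.twistAt 𝒜 (d : ℤ) p := (Twist.globalOf 𝒜 f).1 ⟨p, trivial⟩ with hv
  have hvval : (v : Twist.Loc 𝒜 p) = Localization.mk f.1 1 := rfl
  let w : Twist.twistAt 𝒜 (d : ℤ) p := ⟨Localization.mk a.1 ⟨b.1, hb⟩,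
    Submodule.subset_span ⟨i, j, a, b, hb, hij, rfl⟩⟩
  have hw : w ∈ Submodule.span (Twist.A0 𝒜 p) {v} := by rw [htop]; trivial
  obtain ⟨c, hc⟩ := Submodule.mem_span_singleton.mp hw
  have hc' : c.val * Localization.mk f.1 1 = Localization.mk a.1 ⟨b.1, hb⟩ := by
    have := congrArg Subtype.val hc
    rw [Twist.coe_smul_val, hvval] at this
    exact this
  have hunit : IsUnit (Localization.mk a.1 ⟨b.1, hb⟩ : Twist.Loc 𝒜 p) := by
    rw [Localization.mk_eq_mk', IsLocalization.AtPrime.isUnit_mk'_iff]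
    exact ha
  rw [← hc'] at hunit
  have hunit2 : IsUnit (Localization.mk f.1 1 : Twist.Loc 𝒜 p) := isUnit_of_mul_isUnit_right hunit
  rw [Localization.mk_eq_mk', IsLocalization.AtPrime.isUnit_mk'_iff] at hunit2
  exact hunit2 hfp'

theorem mem_basicOpen_iff_span {d : ℕ} (f : 𝒜 d) (p : ProjectiveSpectrum 𝒜)
    {i j : ℕ} (a : 𝒜 i) (b : 𝒜 j) (ha : a.1 ∉ p.asHomogeneousIdeal)
    (hb : b.1 ∉ p.asHomogeneousIdeal) (hij : (i : ℤ) = j + d) :
    p ∈ ProjectiveSpectrum.basicOpen 𝒜 (f : A) ↔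
      Submodule.span (Twist.A0 𝒜 p) {(Twist.globalOf 𝒜 f).1 ⟨p, trivial⟩} = ⊤ :=
  ⟨fun h => span_eq_top_of_notMem 𝒜 f p ((ProjectiveSpectrum.mem_basicOpen 𝒜 _ p).mp h),
    fun h => (ProjectiveSpectrum.mem_basicOpen 𝒜 _ p).mpr
      (notMem_of_span_eq_top 𝒜 f p a b ha hb hij h)⟩

end Groth.Agent.Lib.helper28.TwistGen
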