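import Groth.Agent.Lib.Helper28.TrivOfGen
import Groth.Agent.Lib.Helper28.TwistFree
import Groth.Agent.Lib.Helper28.TwistQCoh

/-!
# Invertibility of `O(n)` on `Proj`
-/

set_option autoImplicit false
set_option linter.style.haveILetI false
universe u
open CategoryTheory CategoryTheory.Limits AlgebraicGeometry TopologicalSpace Opposite
open Scheme.Modules

namespace Groth.Agent.Lib.helper28.TwistInv

open Groth.Agent.Lib.helper28.TwistFree Groth.Agent.Lib.helper11.InvMod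

variable {R A : Type u} [CommRing R] [CommRing A] [Algebra R A] (𝒜 : ℕ → Submodule R A)
  [GradedAlgebra 𝒜]

instance (n : ℤ) : (Twist.twist 𝒜 n).IsQuasicoherent :=
  Groth.Agent.Lib.helper28.TwistQCoh.twist_isQuasicoherent 𝒜 n

/-- `O(n)` is trivial on `D₊(F)` as soon as there is a fraction `a / b` of degree `n` with `a`
and `b` invertible on `D₊(F)`. -/
theorem isTrivOn_of_unit_fraction (n : ℤ) {d : ℕ} (hd : 0 < d) {F : A} (hF : F ∈ 𝒜 d)
    {i j : ℕ} (a : 𝒜 i) (b : 𝒜 j)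
    (ha : ∀ x : ProjectiveSpectrum 𝒜, F ∉ x.asHomogeneousIdeal → a.1 ∉ x.asHomogeneousIdeal)
    (hb : ∀ x : ProjectiveSpectrum 𝒜, F ∉ x.asHomogeneousIdeal → b.1 ∉ x.asHomogeneousIdeal)
    (hdeg : (i : ℤ) = j + n) :
    IsTrivOn (Twist.twist 𝒜 n) (Proj.basicOpen 𝒜 F) := by
  have hW : (Proj.basicOpen 𝒜 F).ι ''ᵁ ⊤ = ProjectiveSpectrum.basicOpen 𝒜 F :=
    Scheme.Opens.ι_image_top _
  have hmem : ∀ x : ((Proj.basicOpen 𝒜 F).ι ''ᵁ ⊤ : (Proj 𝒜).Opens), F ∉ x.1.asHomogeneousIdeal :=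
    fun x => (ProjectiveSpectrum.mem_basicOpen 𝒜 F x.1).mp (hW ▸ x.2)
  refine Groth.Agent.Lib.helper28.TrivOfGen.isTrivOn_of_generator (Twist.twist 𝒜 n)
    (Proj.basicOpen 𝒜 F) (Proj.isAffineOpen_basicOpen 𝒜 F hF hd)
    (fracSectN 𝒜 n ((Proj.basicOpen 𝒜 F).ι ''ᵁ ⊤) a b (fun x => hb x.1 (hmem x)) hdeg) ?_
  exact bijective_smul_fracSectN 𝒜 n hd hF _ hW a b (fun x => ha x.1 (hmem x))
    (fun x => hb x.1 (hmem x)) hdeg

/-- `O(k * e)` is trivial on `D₊(f)` for `f` homogeneous of degree `e > 0`. -/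
theorem isTrivOn_twist_mul {e : ℕ} (he : 0 < e) {f : A} (hf : f ∈ 𝒜 e) (k : ℤ) :
    IsTrivOn (Twist.twist 𝒜 (k * e)) (Proj.basicOpen 𝒜 f) := by
  have h1 : f ^ k.toNat ∈ 𝒜 (k.toNat * e) := by
    have := SetLike.pow_mem_graded k.toNat hf
    simpa [smul_eq_mul] using this
  have h2 : f ^ (-k).toNat ∈ 𝒜 ((-k).toNat * e) := by
    have := SetLike.pow_mem_graded (-k).toNat hf
    simpa [smul_eq_mul] using this
  refine isTrivOn_of_unit_fraction 𝒜 (k * e) he hf ⟨_, h1⟩ ⟨_, h2⟩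
    (fun x hx hmem => hx (x.isPrime.mem_of_pow_mem _ hmem))
    (fun x hx hmem => hx (x.isPrime.mem_of_pow_mem _ hmem)) ?_
  push_cast
  have : (k.toNat : ℤ) - ((-k).toNat : ℤ) = k := Int.toNat_sub_toNat_neg k
  linear_combination (e : ℤ) * this

end Groth.Agent.Lib.helper28.TwistInv
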