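import Groth.Agent.Lib.Helper28.TwistBaseChange
import Groth.Agent.Lib.Helper28.GTwistQCoh
import Groth.Agent.Lib.Helper28.ProjBaseChange

/-!
# `Φ^* O_{Proj 𝒜}(n) ≅ O_{Proj 𝒜'}(n)` for a base change of graded rings (helper28)

Absolute version of `RelTwistPull3`: for a pushout square of rings `R → R'`, `𝒜 → 𝒜'` with
`ψ : 𝒜 → 𝒜'` graded and structure maps in degree zero, `Φ = Proj.map ψ : Proj 𝒜' ⟶ Proj 𝒜`
satisfies `Φ^* O(n) ≅ O(n)` for every integer `n` (no generation in degree one).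
-/

set_option autoImplicit false
set_option linter.style.haveILetI false
universe u
open CategoryTheory CategoryTheory.Limits AlgebraicGeometry TopologicalSpace Opposite
open Scheme.Modules
open scoped HomogeneousIdeal

namespace Groth.Agent.Lib.helper28.TwistPullAbs

open Groth.Agent.Lib.helper8.PullbackUnit Groth.Agent.Lib.helper28.IsBCExtra
  Groth.Agent.Lib.helper28.TwistBaseChange Groth.Agent.Lib.helper28.GTwistQCoh

variable {R R' A A' : Type u} [CommRing R] [CommRing R'] [CommRing A] [CommRing A']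
  {σ τ : Type u} [SetLike σ A] [AddSubgroupClass σ A] [SetLike τ A'] [AddSubgroupClass τ A']
  (𝒜 : ℕ → σ) [GradedRing 𝒜] (𝒜' : ℕ → τ) [GradedRing 𝒜']
  (φ : R →+* R') (α : R →+* A) (β : R' →+* A') (ψ : 𝒜 →+*ᵍ 𝒜')
  (hα : ∀ r, α r ∈ 𝒜 0) (hβ : ∀ r', β r' ∈ 𝒜' 0)
  (hψ : 𝒜'₊ ≤ 𝒜₊.map ψ) (n : ℤ)

include hα hβ in
theorem nonempty_pullback_iso
    (hpo : IsPushout (CommRingCat.ofHom φ) (CommRingCat.ofHom α) (CommRingCat.ofHom β)
      (CommRingCat.ofHom (ψ : A →+* A'))) :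
    Nonempty ((Scheme.Modules.pullback (Proj.map ψ hψ)).obj (GrTwist.twist 𝒜 n) ≅
      GrTwist.twist 𝒜' n) := by
  haveI := twist_isQuasicoherent 𝒜 n
  haveI := twist_isQuasicoherent 𝒜' n
  haveI := isIso_homEquiv_symm_of_isBC_cover (Proj.map ψ hψ) (GrTwist.comap ψ hψ n)
    {V | ∃ (d : ℕ) (f : A), 0 < d ∧ f ∈ 𝒜 d ∧ V = Proj.basicOpen 𝒜' (ψ f)} (by
      intro y
      obtain ⟨d, hd, f, hf, hy⟩ :=
        Groth.Agent.Lib.helper28.ProjBaseChange.covers_of_irrelevant_le 𝒜 𝒜' ψ hψ y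
      exact ⟨_, ⟨d, f, hd, hf, rfl⟩, hy⟩) (by
      rintro _ ⟨d, f, hd, hf, rfl⟩
      refine ⟨Proj.isAffineOpen_basicOpen 𝒜' (ψ f) (ψ.map_mem hf) hd, Proj.basicOpen 𝒜 f,
        Proj.isAffineOpen_basicOpen 𝒜 f hf hd, le_rfl, ?_⟩
      exact isBC_comapApp 𝒜 𝒜' φ α β ψ hα hβ hψ hd hf n hpo _ _ rfl rfl Set.Subset.rfl)
  exact ⟨asIso (((pullbackPushforwardAdjunction (Proj.map ψ hψ)).homEquiv _ _).symm
    (GrTwist.comap ψ hψ n))⟩

end Groth.Agent.Lib.helper28.TwistPullAbs
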