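import Groth.Agent.Lib.Lead.FCompl2
import Groth.Agent.Lib.Helper28.GMTildeComap
import Groth.Agent.Lib.Helper28.GTwistMul
import Groth.Agent.Lib.Helper28.GTwistSec
import Groth.Agent.Lib.Helper28.GTwistQCoh

/-!
# The sequence `0 → O(k+1) → O(k) → g_* O_{Proj ℬ}(k) → 0` (helper28)

`ψ : 𝒜 → ℬ` a graded ring homomorphism which is surjective in every degree, `g = Proj.map ψ`, and
`t` a global section of `O_{Proj 𝒜}(-1)` such that the homogeneous elements of `ker ψ` are the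
multiples `a' · t` and `t` is killed by `ψ` and is a nonzerodivisor in all local rings.  Then
multiplication by `t` and the canonical map `GrTwist.comap ψ` form a short exact sequence
`0 → O(k+1) → O(k) → g_* O_{Proj ℬ}(k) → 0` of modules on `Proj 𝒜`  (`shortExact_ses`).

* `mulSec 𝒜 m n l h t : O(m) ⟶ O(l)`: multiplication by a global section `t` of `O(n)`, `m + n = l`.
-/

set_option autoImplicit false
set_option linter.unusedSectionVars false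
universe u
open CategoryTheory CategoryTheory.Limits AlgebraicGeometry Opposite TopologicalSpace
open scoped HomogeneousIdeal

namespace Groth.Agent.Lib.helper28.TwistSES

open Groth.Agent.Lib.helper28.GFrac Groth.Agent.Lib.helper28.GTwistSec
  Groth.Agent.Lib.helper28.GTwistQCoh Groth.Agent.Lib.helper28.GTwistMul
  Groth.Agent.Lib.helper28.GTwistFree

variable {A σ : Type u} [CommRing A] [SetLike σ A] [AddSubgroupClass σ A] (𝒜 : ℕ → σ)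
  [GradedRing 𝒜]

theorem hk (k : ℤ) : k + 1 + -1 = k := by ring

/-- multiplication by a global section `t` of `O(n)`, as a morphism `O(m) ⟶ O(m + n)` -/
noncomputable def mulSec0 (m n : ℤ) (t : GrTwist.sectN (𝒜 := 𝒜) n (op ⊤)) :
    GrTwist.twist 𝒜 m ⟶ GrTwist.twist 𝒜 (m + n) :=
  ⟨PresheafOfModules.homMk
    { app := fun U => AddCommGrpCat.ofHom
        { toFun := fun s => mulFun 𝒜 m n U.unop s (GrTwist.resN n (homOfLE le_top).op t)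
          map_zero' := by
            refine sectN_ext' 𝒜 _ _ fun x => ?_
            rw [mulFun_val]
            exact zero_mul _
          map_add' := fun s s' => mulFun_add_left 𝒜 m n U.unop s s' _ }
      naturality := fun _ _ _ => rfl }
    (fun U r s => mulFun_smul_left 𝒜 m n U.unop r s _)⟩

theorem mulSec0_val (m n : ℤ) (t : GrTwist.sectN (𝒜 := 𝒜) n (op ⊤)) (U : (Proj 𝒜).Opens)
    (s : Γ(GrTwist.twist 𝒜 m, U)) (x : U) :
    (((toSectN 𝒜 ((mulSec0 𝒜 m n t).app U s)).1 x : GrTwist.twistAt 𝒜 (m + n) x.1) :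
      GrTwist.Loc 𝒜 x.1) =
      (((toSectN 𝒜 s).1 x : GrTwist.twistAt 𝒜 m x.1) : GrTwist.Loc 𝒜 x.1) *
        ((t.1 ⟨x.1, trivial⟩ : GrTwist.twistAt 𝒜 n x.1) : GrTwist.Loc 𝒜 x.1) := rfl

/-- multiplication by a global section `t` of `O(n)`, as a morphism `O(m) ⟶ O(l)`, `m + n = l` -/
noncomputable def mulSec (m n l : ℤ) (h : m + n = l) (t : GrTwist.sectN (𝒜 := 𝒜) n (op ⊤)) :
    GrTwist.twist 𝒜 m ⟶ GrTwist.twist 𝒜 l :=
  mulSec0 𝒜 m n t ≫ eqToHom (by rw [h])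

theorem mulSec_val (m n l : ℤ) (h : m + n = l) (t : GrTwist.sectN (𝒜 := 𝒜) n (op ⊤))
    (U : (Proj 𝒜).Opens) (s : Γ(GrTwist.twist 𝒜 m, U)) (x : U) :
    (((toSectN 𝒜 ((mulSec 𝒜 m n l h t).app U s)).1 x : GrTwist.twistAt 𝒜 l x.1) :
      GrTwist.Loc 𝒜 x.1) =
      (((toSectN 𝒜 s).1 x : GrTwist.twistAt 𝒜 m x.1) : GrTwist.Loc 𝒜 x.1) *
        ((t.1 ⟨x.1, trivial⟩ : GrTwist.twistAt 𝒜 n x.1) : GrTwist.Loc 𝒜 x.1) := by
  subst h
  have : mulSec 𝒜 m n (m + n) rfl t = mulSec0 𝒜 m n t := by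
    simp [mulSec]
  rw [this]
  rfl

variable {𝒜}
variable {B τ : Type u} [CommRing B] [SetLike τ B] [AddSubgroupClass τ B] {ℬ : ℕ → τ}
  [GradedRing ℬ]
variable (ψ : 𝒜 →+*ᵍ ℬ) (hψ : ℬ₊ ≤ (𝒜₊).map ψ) (t : GrTwist.sectN (𝒜 := 𝒜) (-1) (op ⊤))

/-- the hypotheses making `0 → O(k+1) → O(k) → g_* O(k) → 0` exact -/
structure Hyp : Prop where
  surj : ∀ (i : ℕ) (b : B), b ∈ ℬ i → ∃ a ∈ 𝒜 i, ψ a = b
  ker : ∀ (i : ℕ) (a : A), a ∈ 𝒜 i → ψ a = 0 → ∃ a' ∈ 𝒜 (i + 1),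
    ∀ x : ProjectiveSpectrum 𝒜, (Localization.mk a 1 : GrTwist.Loc 𝒜 x) =
      Localization.mk a' 1 * ((t.1 ⟨x, trivial⟩ : GrTwist.twistAt 𝒜 (-1) x) : GrTwist.Loc 𝒜 x)
  zero : ∀ y : ProjectiveSpectrum ℬ, GrTwist.locMap ψ hψ y
    ((t.1 ⟨ProjectiveSpectrum.comap ψ hψ y, trivial⟩ :
      GrTwist.twistAt 𝒜 (-1) (ProjectiveSpectrum.comap ψ hψ y)) :
        GrTwist.Loc 𝒜 (ProjectiveSpectrum.comap ψ hψ y)) = 0
  inj : ∀ (x : ProjectiveSpectrum 𝒜) (q : GrTwist.Loc 𝒜 x),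
    q * ((t.1 ⟨x, trivial⟩ : GrTwist.twistAt 𝒜 (-1) x) : GrTwist.Loc 𝒜 x) = 0 → q = 0

variable {ψ hψ t}

theorem comap_val (k : ℤ) (U : (Proj 𝒜).Opens) (s : Γ(GrTwist.twist 𝒜 k, U))
    (y : (Proj.map ψ hψ ⁻¹ᵁ U : (Proj ℬ).Opens)) :
    (((toSectN ℬ (U := Proj.map ψ hψ ⁻¹ᵁ U) ((GrTwist.comap ψ hψ k).app U s)).1 y :
      GrTwist.twistAt ℬ k y.1) : GrTwist.Loc ℬ y.1) =
      GrTwist.locMap ψ hψ y.1 ((toSectN 𝒜 s).1 ⟨ProjectiveSpectrum.comap ψ hψ y.1, y.2⟩).1 := rfl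

theorem comap_mulSec_apply (H : Hyp ψ hψ t) (k : ℤ) (U : (Proj 𝒜).Opens)
    (s : Γ(GrTwist.twist 𝒜 (k + 1), U)) :
    (GrTwist.comap ψ hψ k).app U ((mulSec 𝒜 (k + 1) (-1) k (hk k) t).app U s) = 0 := by
  refine sectN_ext ℬ (U := Proj.map ψ hψ ⁻¹ᵁ U) _ _ fun y => ?_
  rw [comap_val, mulSec_val, map_mul, H.zero, mul_zero]
  rfl

theorem mulSec_comp_comap (H : Hyp ψ hψ t) (k : ℤ) :
    mulSec 𝒜 (k + 1) (-1) k (hk k) t ≫ GrTwist.comap ψ hψ k = 0 := by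
  apply Scheme.Modules.hom_ext
  intro U
  rw [Scheme.Modules.Hom.comp_app, Scheme.Modules.Hom.zero_app]
  apply AddCommGrpCat.hom_ext
  apply AddMonoidHom.ext
  intro s
  rw [AddCommGrpCat.hom_comp, AddMonoidHom.comp_apply]
  refine (comap_mulSec_apply H k U s).trans ?_
  rw [AddCommGrpCat.hom_zero, AddMonoidHom.zero_apply]

/-- the sequence `O(k+1) ⟶ O(k) ⟶ g_* O(k)` -/
noncomputable def ses (H : Hyp ψ hψ t) (k : ℤ) : ShortComplex (Proj 𝒜).Modules :=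
  ShortComplex.mk (mulSec 𝒜 (k + 1) (-1) k (hk k) t) (GrTwist.comap ψ hψ k)
    (mulSec_comp_comap H k)

theorem pow_notMem' {C ρ : Type u} [CommRing C] [SetLike ρ C] [AddSubgroupClass ρ C] {𝒞 : ℕ → ρ}
    [GradedRing 𝒞] (x : ProjectiveSpectrum 𝒞) {f : C} (hf : f ∉ x.asHomogeneousIdeal) (k : ℕ) :
    f ^ k ∉ x.asHomogeneousIdeal := fun h => hf (x.isPrime.mem_of_pow_mem k h)

/-- sections of `O(n)` over `U`, as dependent functions (low-level form) -/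
abbrev asSect {C ρ : Type u} [CommRing C] [SetLike ρ C] [AddSubgroupClass ρ C] {𝒞 : ℕ → ρ}
    [GradedRing 𝒞] {n : ℤ} {U : (Proj 𝒞).Opens} (s : (GrTwist.twist 𝒞 n).val.obj (op U)) :
    GrTwist.sectN (𝒜 := 𝒞) n (op U) := s

/-- a dependent function section, as a section of `O(n)` (low-level form) -/
abbrev ofSect {C ρ : Type u} [CommRing C] [SetLike ρ C] [AddSubgroupClass ρ C] {𝒞 : ℕ → ρ}
    [GradedRing 𝒞] {n : ℤ} {U : (Proj 𝒞).Opens} (s : GrTwist.sectN (𝒜 := 𝒞) n (op U)) :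
    (GrTwist.twist 𝒞 n).val.obj (op U) := s

theorem ext_val {C ρ : Type u} [CommRing C] [SetLike ρ C] [AddSubgroupClass ρ C] {𝒞 : ℕ → ρ}
    [GradedRing 𝒞] {n : ℤ} {U : (Proj 𝒞).Opens} (s s' : (GrTwist.twist 𝒞 n).val.obj (op U))
    (h : ∀ x : U, (((asSect s).1 x : GrTwist.twistAt 𝒞 n x.1) : GrTwist.Loc 𝒞 x.1) =
      ((asSect s').1 x : GrTwist.twistAt 𝒞 n x.1)) : s = s' :=
  sectN_ext' 𝒞 (asSect s) (asSect s') h

theorem mulSec0_hom_val (m n : ℤ) (t' : GrTwist.sectN (𝒜 := 𝒜) n (op ⊤)) (U : (Proj 𝒜).Opens)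
    (s : (GrTwist.twist 𝒜 m).val.obj (op U)) (x : U) :
    (((asSect (((mulSec0 𝒜 m n t').val.app (op U)).hom s)).1 x : GrTwist.twistAt 𝒜 (m + n) x.1) :
      GrTwist.Loc 𝒜 x.1) =
      (((asSect s).1 x : GrTwist.twistAt 𝒜 m x.1) : GrTwist.Loc 𝒜 x.1) *
        ((t'.1 ⟨x.1, trivial⟩ : GrTwist.twistAt 𝒜 n x.1) : GrTwist.Loc 𝒜 x.1) := rfl

theorem mulSec_hom_val (m n l : ℤ) (h : m + n = l) (t' : GrTwist.sectN (𝒜 := 𝒜) n (op ⊤))
    (U : (Proj 𝒜).Opens) (s : (GrTwist.twist 𝒜 m).val.obj (op U)) (x : U) :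
    (((asSect (((mulSec 𝒜 m n l h t').val.app (op U)).hom s)).1 x : GrTwist.twistAt 𝒜 l x.1) :
      GrTwist.Loc 𝒜 x.1) =
      (((asSect s).1 x : GrTwist.twistAt 𝒜 m x.1) : GrTwist.Loc 𝒜 x.1) *
        ((t'.1 ⟨x.1, trivial⟩ : GrTwist.twistAt 𝒜 n x.1) : GrTwist.Loc 𝒜 x.1) := by
  subst h
  have : mulSec 𝒜 m n (m + n) rfl t' = mulSec0 𝒜 m n t' := by
    simp [mulSec]
  rw [this]
  exact mulSec0_hom_val m n t' U s x

theorem comap_hom_val (k : ℤ) (U : (Proj 𝒜).Opens) (s : (GrTwist.twist 𝒜 k).val.obj (op U))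
    (y : (Proj.map ψ hψ ⁻¹ᵁ U : (Proj ℬ).Opens)) :
    ((((((GrTwist.comap ψ hψ k).val.app (op U)).hom s :
      GrTwist.sectN (𝒜 := ℬ) k (op (Proj.map ψ hψ ⁻¹ᵁ U))).1 y) :
      GrTwist.twistAt ℬ k y.1) : GrTwist.Loc ℬ y.1) =
      GrTwist.locMap ψ hψ y.1 ((asSect s).1 ⟨ProjectiveSpectrum.comap ψ hψ y.1, y.2⟩).1 := rfl

theorem injective_mulSec (H : Hyp ψ hψ t) (k : ℤ) (U : (Proj 𝒜).Opens) :
    Function.Injective ((mulSec 𝒜 (k + 1) (-1) k (hk k) t).val.app (op U)).hom := by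
  intro s s' hss'
  refine sectN_ext' 𝒜 (asSect s) (asSect s') fun x => ?_
  have h1 := mulSec_hom_val (k + 1) (-1) k (hk k) t U s x
  have h2 := mulSec_hom_val (k + 1) (-1) k (hk k) t U s' x
  rw [hss'] at h1
  have h3 := h1.symm.trans h2
  rw [← sub_eq_zero, ← sub_mul] at h3
  exact sub_eq_zero.mp (H.inj x.1 _ h3)

theorem preimage_basicOpen (f : A) :
    ((Proj.map ψ hψ ⁻¹ᵁ (Proj.basicOpen 𝒜 f) : (Proj ℬ).Opens) :
      Opens (ProjectiveSpectrum.top ℬ)) = ProjectiveSpectrum.basicOpen ℬ (ψ f) := by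
  ext y
  exact (Groth.Agent.Lib.helper28.GMTildeComap.mem_preimage_basicOpen_iff ψ hψ f y).trans
    (ProjectiveSpectrum.mem_basicOpen ℬ (ψ f) y).symm

theorem exact_ses_basicOpen (H : Hyp ψ hψ t) (k : ℤ) {d : ℕ} (hd : 0 < d) (f : A) (hf : f ∈ 𝒜 d)
    (y : (GrTwist.twist 𝒜 k).val.obj (op (Proj.basicOpen 𝒜 f)))
    (hy : ((GrTwist.comap ψ hψ k).val.app (op (Proj.basicOpen 𝒜 f))).hom y = 0) :
    ∃ x : (GrTwist.twist 𝒜 (k + 1)).val.obj (op (Proj.basicOpen 𝒜 f)),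
      ((mulSec 𝒜 (k + 1) (-1) k (hk k) t).val.app (op (Proj.basicOpen 𝒜 f))).hom x = y := by
  have hψf : ψ f ∈ ℬ d := ψ.map_mem hf
  obtain ⟨m, i, a, hi, hya⟩ := sectN_eq_fraction 𝒜 k hd hf (asSect y)
  have hψa : ψ a.1 ∈ ℬ i := ψ.map_mem a.2
  obtain ⟨N, hN⟩ := exists_pow_smul_eq_zero ℬ ℬ hd hψf hψa (fun z hz => by
    have hzW : (show ↥(Proj ℬ) from z) ∈
        (Proj.map ψ hψ ⁻¹ᵁ (Proj.basicOpen 𝒜 f) : (Proj ℬ).Opens) :=
      (Groth.Agent.Lib.helper28.GMTildeComap.mem_preimage_basicOpen_iff ψ hψ f z).mpr hz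
    have h1 := comap_hom_val (ψ := ψ) (hψ := hψ) k (Proj.basicOpen 𝒜 f) y ⟨z, hzW⟩
    rw [hy] at h1
    have h2 : GrTwist.locMap ψ hψ z ((asSect y).1 ⟨ProjectiveSpectrum.comap ψ hψ z, hzW⟩).1
        = 0 := h1.symm
    have h3 : (((asSect y).1 ⟨ProjectiveSpectrum.comap ψ hψ z, hzW⟩ :
        GrTwist.twistAt 𝒜 k (ProjectiveSpectrum.comap ψ hψ z)) :
          GrTwist.Loc 𝒜 (ProjectiveSpectrum.comap ψ hψ z)) = Localization.mk a.1 _ :=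
      hya ⟨_, hzW⟩
    rw [h3, GrTwist.locMap_mk, mk_eq_zero_iff'] at h2
    obtain ⟨w, hw⟩ := h2
    exact ⟨w.1, w.2, hw⟩)
  have hker : ψ (f ^ N * a.1) = 0 := by
    rw [map_mul, map_pow]
    exact hN
  have hfN : f ^ N ∈ 𝒜 (N * d) := by
    have := SetLike.pow_mem_graded N hf
    simpa [smul_eq_mul] using this
  have hmem : f ^ N * a.1 ∈ 𝒜 (N * d + i) := SetLike.mul_mem_graded hfN a.2
  obtain ⟨a', ha', hrel⟩ := H.ker _ _ hmem hker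
  have hfNm : f ^ (N + m) ∈ 𝒜 ((N + m) * d) := by
    have := SetLike.pow_mem_graded (N + m) hf
    simpa [smul_eq_mul] using this
  have hnv : ∀ x : (Proj.basicOpen 𝒜 f : (Proj 𝒜).Opens),
      f ^ (N + m) ∉ x.1.asHomogeneousIdeal := fun x =>
    pow_notMem' x.1 ((ProjectiveSpectrum.mem_basicOpen 𝒜 f x.1).mp x.2) _
  have hdeg : ((N * d + i + 1 : ℕ) : ℤ) = (((N + m) * d : ℕ) : ℤ) + (k + 1) := by
    push_cast
    rw [hi]
    ring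
  refine ⟨ofSect (GTwistQCoh.fracSectN 𝒜 (k + 1) (Proj.basicOpen 𝒜 f) ⟨a', ha'⟩
    ⟨f ^ (N + m), hfNm⟩ hnv hdeg), ?_⟩
  refine ext_val _ y fun x => ?_
  rw [mulSec_hom_val]
  refine Eq.trans ?_ (hya x).symm
  rw [GTwistQCoh.fracSectN_val]
  have h3 : (Localization.mk a' ⟨f ^ (N + m), hnv x⟩ : GrTwist.Loc 𝒜 x.1) =
      Localization.mk a' 1 * Localization.mk 1 ⟨f ^ (N + m), hnv x⟩ := by
    rw [Localization.mk_mul, mul_one, one_mul]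
  rw [h3, mul_right_comm, ← hrel x.1, Localization.mk_mul, mul_one, one_mul, mk_eq_mk_iff']
  refine ⟨1, ?_⟩
  simp only [OneMemClass.coe_one, one_mul]
  rw [pow_add]
  ring

theorem surjective_comap_basicOpen (H : Hyp ψ hψ t) (k : ℤ) {d : ℕ} (hd : 0 < d) (f : A)
    (hf : f ∈ 𝒜 d) :
    Function.Surjective ((GrTwist.comap ψ hψ k).val.app (op (Proj.basicOpen 𝒜 f))).hom := by
  intro u
  have hψf : ψ f ∈ ℬ d := ψ.map_mem hf
  obtain ⟨m, i, b, hm, hi, hub⟩ := sectN_eq_fraction' ℬ k hd hψf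
    (Proj.map ψ hψ ⁻¹ᵁ (Proj.basicOpen 𝒜 f) : (Proj ℬ).Opens) (preimage_basicOpen f)
    (asSect (𝒞 := ℬ) (U := Proj.map ψ hψ ⁻¹ᵁ (Proj.basicOpen 𝒜 f)) u)
  obtain ⟨a, ha, hab⟩ := H.surj i b.1 b.2
  have hfm : f ^ m ∈ 𝒜 (m * d) := by
    have := SetLike.pow_mem_graded m hf
    simpa [smul_eq_mul] using this
  have hnv : ∀ x : (Proj.basicOpen 𝒜 f : (Proj 𝒜).Opens),
      f ^ m ∉ x.1.asHomogeneousIdeal := fun x =>
    pow_notMem' x.1 ((ProjectiveSpectrum.mem_basicOpen 𝒜 f x.1).mp x.2) _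
  have hdeg : (i : ℤ) = ((m * d : ℕ) : ℤ) + k := by
    rw [hi]; push_cast; ring
  refine ⟨ofSect (GTwistQCoh.fracSectN 𝒜 k (Proj.basicOpen 𝒜 f) ⟨a, ha⟩ ⟨f ^ m, hfm⟩ hnv hdeg),
    ?_⟩
  refine ext_val (𝒞 := ℬ) (U := Proj.map ψ hψ ⁻¹ᵁ (Proj.basicOpen 𝒜 f)) _ u fun z => ?_
  refine Eq.trans ?_ (hub z).symm
  refine (comap_hom_val (ψ := ψ) (hψ := hψ) k (Proj.basicOpen 𝒜 f) _ z).trans ?_
  rw [GTwistQCoh.fracSectN_val, GrTwist.locMap_mk, mk_eq_mk_iff']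
  refine ⟨1, ?_⟩
  simp only [OneMemClass.coe_one, one_mul]
  rw [hab, map_pow]

/-- **The sequence `0 → O(k+1) → O(k) → g_* O_{Proj ℬ}(k) → 0` is short exact.** -/
theorem shortExact_ses (H : Hyp ψ hψ t) (k : ℤ) : (ses H k).ShortExact := by
  refine Groth.Agent.Lib.Lead.FCompl2.shortExact_of_basis (ses H k)
    {U : (Proj 𝒜).Opens | ∃ (d : ℕ) (f : A), 0 < d ∧ f ∈ 𝒜 d ∧ U = Proj.basicOpen 𝒜 f}
    (Groth.Agent.Lib.helper28.GMTildeComap.isBasis_basicOpen_pos 𝒜) ?_ ?_ ?_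
  · rintro D -
    exact injective_mulSec H k D
  · rintro D ⟨d, f, hd, hf, rfl⟩ y hy
    exact exact_ses_basicOpen H k hd f hf y hy
  · rintro D ⟨d, f, hd, hf, rfl⟩
    exact surjective_comap_basicOpen H k hd f hf

end Groth.Agent.Lib.helper28.TwistSES
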