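import Groth.Agent.Lib.Helper28.GrTildeSec

/-!
# Sections of `O(n)` over `D₊(f)` are single fractions
-/

set_option autoImplicit false
universe u

open CategoryTheory AlgebraicGeometry Opposite TopologicalSpace

namespace Groth.Agent.Lib.helper28.TwistSec

open Groth.Agent.Lib.helper28.GrFrac Groth.Agent.Lib.helper28.GrTildeSec

variable {R A : Type u} [CommRing R] [CommRing A] [Algebra R A] (𝒜 : ℕ → Submodule R A)
  [GradedAlgebra 𝒜]

theorem mk_eq_mk_iff' {S : Submonoid A} (a b : A) (s t : S) :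
    Localization.mk a s = Localization.mk b t ↔ ∃ c : S, (c : A) * ((t : A) * a) = c * (s * b) := by
  rw [Localization.mk_eq_mk_iff, Localization.r_iff_exists]

theorem sectN_eq_fraction (n : ℤ) {d : ℕ} (hd : 0 < d) {f : A} (hf : f ∈ 𝒜 d)
    (s : Twist.sectN (𝒜 := 𝒜) n (op (ProjectiveSpectrum.basicOpen 𝒜 f))) :
    ∃ (k i : ℕ) (m : 𝒜 i), (i : ℤ) = k * d + n ∧
      ∀ x : ProjectiveSpectrum.basicOpen 𝒜 f,
        ((s.1 x : Twist.twistAt 𝒜 n x.1) : Twist.Loc 𝒜 x.1) =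
          (Localization.mk m.1 ⟨f ^ k, fun h => (ProjectiveSpectrum.mem_basicOpen 𝒜 f x.1).mp x.2
            (x.1.isPrime.mem_of_pow_mem k h)⟩ : Twist.Loc 𝒜 x.1) := by
  classical
  let P : A → A → Prop := fun h m => ∀ (z : ProjectiveSpectrum 𝒜)
    (hz : z ∈ ProjectiveSpectrum.basicOpen 𝒜 f) (hhz : h ∉ z.asHomogeneousIdeal),
    ((s.1 ⟨z, hz⟩ : Twist.twistAt 𝒜 n z) : Twist.Loc 𝒜 z) =
      (Localization.mk m ⟨h, hhz⟩ : Twist.Loc 𝒜 z)
  have key := glue 𝒜 𝒜 hd hf n P ?_ ?_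
  · obtain ⟨k, i, m, hm, hi, hfin⟩ := key
    refine ⟨k, i, ⟨m, hm⟩, hi, fun x => ?_⟩
    obtain ⟨h, m', hP, hhx, u, hu, huu⟩ := hfin x.1 ((ProjectiveSpectrum.mem_basicOpen 𝒜 f x.1).mp x.2)
    refine (hP x.1 x.2 hhx).trans ?_
    symm
    rw [mk_eq_mk_iff']
    exact ⟨⟨u, hu⟩, huu⟩
  · -- local data
    intro y hy
    have hyf : y ∈ ProjectiveSpectrum.basicOpen 𝒜 f := (ProjectiveSpectrum.mem_basicOpen 𝒜 f y).mpr hy
    obtain ⟨V, hyV, iV, i, j, m, g, g_nin, hdeg, hs⟩ := s.2 ⟨y, hyf⟩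
    obtain ⟨k, h₁, hh₁, hh₁y, hh₁V⟩ := exists_homogeneous_basicOpen 𝒜 V y hyV
    rcases hdeg with hdeg | hm0
    · refine ⟨k + j, k + i, h₁ * g.1, h₁ • m.1, SetLike.mul_mem_graded hh₁ g.2,
        SetLike.GradedSMul.smul_mem hh₁ m.2, by push_cast; rw [hdeg]; ring, ?_, ?_⟩
      · intro hmem
        exact (y.isPrime.mem_or_mem hmem).elim hh₁y (g_nin ⟨y, hyV⟩)
      · intro z hz hhz
        have hzV : z ∈ V := hh₁V z (notMem_of_mul_notMem_left 𝒜 z hhz)
        have := hs ⟨z, hzV⟩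
        refine this.trans ?_
        rw [mk_eq_mk_iff']
        refine ⟨1, ?_⟩
        simp only [smul_eq_mul]
        ring
    · have hpos : (0 : ℤ) ≤ ((k + n.natAbs * d : ℕ) : ℤ) + n := by
        have h1 : n.natAbs ≤ n.natAbs * d := Nat.le_mul_of_pos_right _ hd
        generalize n.natAbs * d = X at h1 ⊢
        omega
      obtain ⟨i', hi'⟩ := Int.eq_ofNat_of_zero_le hpos
      refine ⟨k + n.natAbs * d, i', h₁ * f ^ n.natAbs, 0, ?_, zero_mem _, hi'.symm, ?_, ?_⟩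
      · refine SetLike.mul_mem_graded hh₁ ?_
        have := SetLike.pow_mem_graded n.natAbs hf
        simpa [smul_eq_mul] using this
      · intro hmem
        exact (y.isPrime.mem_or_mem hmem).elim hh₁y (pow_notMem 𝒜 y hy _)
      · intro z hz hhz
        have hzV : z ∈ V := hh₁V z (notMem_of_mul_notMem_left 𝒜 z hhz)
        have := hs ⟨z, hzV⟩
        refine this.trans ?_
        rw [hm0, Localization.mk_zero, Localization.mk_zero]
  · -- compatibility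
    intro h m h' m' hP hP' y hy hhy hh'y
    have hyf : y ∈ ProjectiveSpectrum.basicOpen 𝒜 f := (ProjectiveSpectrum.mem_basicOpen 𝒜 f y).mpr hy
    have h1 := hP y hyf hhy
    have h2 := hP' y hyf hh'y
    rw [h1, mk_eq_mk_iff'] at h2
    obtain ⟨u, hu⟩ := h2
    exact ⟨u.1, u.2, hu⟩

end Groth.Agent.Lib.helper28.TwistSec
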