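import Groth.Agent.Lib.Helper28.TwistMul
import Groth.Agent.Lib.Helper2.TildeTensor
import Groth.Agent.Lib.Helper28.RankOne

set_option autoImplicit false
universe u

open CategoryTheory CategoryTheory.Limits AlgebraicGeometry Opposite TopologicalSpace TensorProduct
  MonoidalCategory

namespace Groth.Agent.Lib.helper28.TwistTensor

open Groth.Agent.Lib.helper28.GrFrac Groth.Agent.Lib.helper28.TwistSec
  Groth.Agent.Lib.helper28.TwistFree Groth.Agent.Lib.helper28.TwistMul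

noncomputable section

variable {R A : Type u} [CommRing R] [CommRing A] [Algebra R A] (𝒜 : ℕ → Submodule R A)
  [GradedAlgebra 𝒜]

def mulHomApp (m n : ℤ) (U : ((Proj 𝒜).Opens)ᵒᵖ) :
    (CohB1.tensorPre (Twist.twist 𝒜 m) (Twist.twist 𝒜 n)).obj U ⟶
      (CohB1.toPMod (Twist.twist 𝒜 (m + n))).obj U :=
  ModuleCat.MonoidalCategory.tensorLift (M₁ := (CohB1.toPMod (Twist.twist 𝒜 m)).obj U)
    (M₂ := (CohB1.toPMod (Twist.twist 𝒜 n)).obj U)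
    (fun s t => mulFun 𝒜 m n U.unop s t)
    (fun s s' t => mulFun_add_left 𝒜 m n U.unop s s' t)
    (fun r s t => mulFun_smul_left 𝒜 m n U.unop r s t)
    (fun s t t' => mulFun_add_right 𝒜 m n U.unop s t t')
    (fun r s t => mulFun_smul_right 𝒜 m n U.unop r s t)

lemma mulHomApp_tmul (m n : ℤ) (U : ((Proj 𝒜).Opens)ᵒᵖ)
    (s : (CohB1.toPMod (Twist.twist 𝒜 m)).obj U) (t : (CohB1.toPMod (Twist.twist 𝒜 n)).obj U) :
    (mulHomApp 𝒜 m n U).hom (s ⊗ₜ t) = mulFun 𝒜 m n U.unop s t := rfl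

def mulHom (m n : ℤ) :
    (CohB1.tensorPre (Twist.twist 𝒜 m) (Twist.twist 𝒜 n) : (Proj 𝒜).PresheafOfModules) ⟶
      (Twist.twist 𝒜 (m + n)).val where
  app U := mulHomApp 𝒜 m n U
  naturality {U V} f := by
    refine ModuleCat.MonoidalCategory.tensor_ext (fun s t => ?_)
    rfl

section Bij

variable {𝒜}

theorem pow_mem_one {f : A} (hf : f ∈ 𝒜 1) (p : ℕ) : f ^ p ∈ 𝒜 p := by
  have := SetLike.pow_mem_graded p hf
  simpa [smul_eq_mul] using this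

theorem toNat_eq (m : ℤ) : ((m.toNat : ℕ) : ℤ) = ((-m).toNat : ℕ) + m := by
  have := Int.toNat_sub_toNat_neg m
  omega

variable (𝒜) in
theorem mulHomApp_bijective (m n : ℤ) {f h : A} {k : ℕ} (hf : f ∈ 𝒜 1) (hh : h ∈ 𝒜 k) :
    Function.Bijective (mulHomApp 𝒜 m n (op (Proj.basicOpen 𝒜 (f * h)))).hom := by
  let V : Opens (ProjectiveSpectrum.top 𝒜) := ProjectiveSpectrum.basicOpen 𝒜 (f * h)
  have hF : f * h ∈ 𝒜 (1 + k) := SetLike.mul_mem_graded hf hh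
  have hd : 0 < 1 + k := by omega
  have hfV : ∀ (p : ℕ) (x : V), f ^ p ∉ x.1.asHomogeneousIdeal := fun p x hmem =>
    (ProjectiveSpectrum.mem_basicOpen 𝒜 (f * h) x.1).mp x.2
      (Ideal.mul_mem_right h _ (x.1.isPrime.mem_of_pow_mem p hmem))
  let OV := Twist.O (𝒜 := 𝒜) (op V)
  let Mm := Twist.sectN (𝒜 := 𝒜) m (op V)
  let Mn := Twist.sectN (𝒜 := 𝒜) n (op V)
  let Mmn := Twist.sectN (𝒜 := 𝒜) (m + n) (op V)
  let um : Mm := fracSectN 𝒜 m V ⟨f ^ m.toNat, pow_mem_one hf _⟩ ⟨f ^ (-m).toNat, pow_mem_one hf _⟩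
    (hfV _) (toNat_eq m)
  let un : Mn := fracSectN 𝒜 n V ⟨f ^ n.toNat, pow_mem_one hf _⟩ ⟨f ^ (-n).toNat, pow_mem_one hf _⟩
    (hfV _) (toNat_eq n)
  have hdeg : (((m.toNat + n.toNat : ℕ) : ℤ)) = ((-m).toNat + (-n).toNat : ℕ) + (m + n) := by
    have h1 := toNat_eq m
    have h2 := toNat_eq n
    push_cast
    omega
  let umn : Mmn := fracSectN 𝒜 (m + n) V ⟨f ^ (m.toNat + n.toNat), pow_mem_one hf _⟩
    ⟨f ^ ((-m).toNat + (-n).toNat), pow_mem_one hf _⟩ (hfV _) hdeg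
  have humn : mulFun 𝒜 m n V um un = umn := by
    refine sectN_ext' 𝒜 _ _ fun x => ?_
    rw [mulFun_val]
    change (Localization.mk _ _ * Localization.mk _ _ : Twist.Loc 𝒜 x.1) = Localization.mk _ _
    rw [Localization.mk_mul]
    congr 1
    · exact (pow_add f _ _).symm
    · exact Subtype.ext (pow_add f _ _).symm
  have bm := bijective_smul_fracSectN 𝒜 m hd hF V rfl ⟨f ^ m.toNat, pow_mem_one hf _⟩
    ⟨f ^ (-m).toNat, pow_mem_one hf _⟩ (hfV _) (hfV _) (toNat_eq m)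
  have bn := bijective_smul_fracSectN 𝒜 n hd hF V rfl ⟨f ^ n.toNat, pow_mem_one hf _⟩
    ⟨f ^ (-n).toNat, pow_mem_one hf _⟩ (hfV _) (hfV _) (toNat_eq n)
  have bmn := bijective_smul_fracSectN 𝒜 (m + n) hd hF V rfl
    ⟨f ^ (m.toNat + n.toNat), pow_mem_one hf _⟩
    ⟨f ^ ((-m).toNat + (-n).toNat), pow_mem_one hf _⟩ (hfV _) (hfV _) hdeg
  let U₀ : ((Proj 𝒜).Opens)ᵒᵖ := op (Proj.basicOpen 𝒜 (f * h))
  let M₁ := (CohB1.toPMod (Twist.twist 𝒜 m)).obj U₀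
  let M₂ := (CohB1.toPMod (Twist.twist 𝒜 n)).obj U₀
  let M₃ := (CohB1.toPMod (Twist.twist 𝒜 (m + n))).obj U₀
  refine Groth.Agent.Lib.helper28.RankOne.bijective_of_rank_one (M := M₁) (N := M₂) (K := M₃)
    (mulHomApp 𝒜 m n U₀).hom um un umn ?_ ?_ ?_ humn
  · exact bm.2
  · exact bn.2
  · exact bmn

end Bij

section Iso

/-- The opens `D₊(f * h)` with `f` of degree one and `h` homogeneous. -/
def basisSet : Set (Proj 𝒜).Opens :=
  {W | ∃ (f h : A) (k : ℕ), f ∈ 𝒜 1 ∧ h ∈ 𝒜 k ∧ W = Proj.basicOpen 𝒜 (f * h)}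

theorem isBasis_basisSet
    (hcov : ∀ x : ProjectiveSpectrum 𝒜, ∃ f ∈ 𝒜 1, f ∉ x.asHomogeneousIdeal) :
    Opens.IsBasis (basisSet 𝒜) := by
  rw [Opens.isBasis_iff_nbhd]
  intro U x hx
  obtain ⟨k, h, hh, hhx, hhU⟩ :=
    Groth.Agent.Lib.helper28.GrTildeSec.exists_homogeneous_basicOpen 𝒜 U x hx
  obtain ⟨f, hf, hfx⟩ := hcov x
  refine ⟨Proj.basicOpen 𝒜 (f * h), ⟨f, h, k, hf, hh, rfl⟩, ?_, ?_⟩
  · refine (ProjectiveSpectrum.mem_basicOpen 𝒜 (f * h) x).mpr fun hmem => ?_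
    exact (x.isPrime.mem_or_mem hmem).elim hfx hhx
  · intro z hz
    have hz' : f * h ∉ z.asHomogeneousIdeal := (ProjectiveSpectrum.mem_basicOpen 𝒜 (f * h) z).mp hz
    exact hhU z fun hmem => hz' (Ideal.mul_mem_left _ _ hmem)

theorem isIso_sheafify_mulHom
    (hcov : ∀ x : ProjectiveSpectrum 𝒜, ∃ f ∈ 𝒜 1, f ∉ x.asHomogeneousIdeal) (m n : ℤ) :
    IsIso ((CohB1.sheafifyMod (Proj 𝒜)).map (mulHom 𝒜 m n)) := by
  refine Groth.Agent.Lib.helper2.TildeTensor.isIso_sheafify_map_of_bijective_on_basis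
    (X := Proj 𝒜) (mulHom 𝒜 m n) (basisSet 𝒜) (isBasis_basisSet 𝒜 hcov) ?_
  rintro _ ⟨f, h, k, hf, hh, rfl⟩
  exact mulHomApp_bijective 𝒜 m n hf hh

/-- `O(m) ⊗ O(n) ≅ O(m + n)` when `Proj` is covered by the `D₊(f)`, `f` of degree one. -/
def twistTensorIso
    (hcov : ∀ x : ProjectiveSpectrum 𝒜, ∃ f ∈ 𝒜 1, f ∉ x.asHomogeneousIdeal) (m n : ℤ) :
    CohB1.tensorMod (Twist.twist 𝒜 m) (Twist.twist 𝒜 n) ≅ Twist.twist 𝒜 (m + n) :=
  @asIso _ _ _ _ _ (isIso_sheafify_mulHom 𝒜 hcov m n) ≪≫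
    (asIso (PresheafOfModules.sheafificationAdjunction.{u, u, u, u}
      (J := Opens.grothendieckTopology (Proj 𝒜)) (𝟙 (Proj 𝒜).ringCatSheaf.obj)).counit).app
        (Twist.twist 𝒜 (m + n))

end Iso


end

end Groth.Agent.Lib.helper28.TwistTensor
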