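import Mathlib

/-!
# Morphisms to the spectrum of a local Artinian ring are universally open
-/

set_option autoImplicit false
universe u
open CategoryTheory CategoryTheory.Limits AlgebraicGeometry

namespace Groth.Agent.Lib.helper28.UOArt

/-- a surjective closed immersion is an open map on underlying spaces -/
lemma isOpenMap_of_surj_closedImm {X Y : Scheme.{u}} (j : X ⟶ Y) [IsClosedImmersion j]
    [Surjective j] : IsOpenMap j := by
  have hce : Topology.IsClosedEmbedding j := j.isClosedEmbedding
  have hbij : Function.Bijective j := ⟨hce.injective, j.surjective⟩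
  intro U hU
  have : (j '' U) = (j '' Uᶜ)ᶜ := by
    rw [Set.image_compl_eq hbij, compl_compl]
  rw [this]
  exact (hce.isClosedMap _ hU.isClosed_compl).isOpen_compl

/-- universal openness can be checked after base change along a surjective closed immersion -/
lemma universallyOpen_of_pullback {X Y Y₀ : Scheme.{u}} (f : X ⟶ Y) (j : Y₀ ⟶ Y)
    [IsClosedImmersion j] [Surjective j] (h₀ : UniversallyOpen (pullback.snd f j)) :
    UniversallyOpen f := by
  refine ⟨MorphismProperty.universally_mk' _ _ fun {T} g _ => ?_⟩
  have hjT : IsOpenMap (pullback.fst g j) := isOpenMap_of_surj_closedImm _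
  have s : IsPullback (pullback.fst (pullback.fst g f) (pullback.fst g j))
      (pullback.snd (pullback.fst g f) (pullback.fst g j)) (pullback.fst g f)
      (pullback.fst g j) := IsPullback.of_hasPullback _ _
  have t : IsPullback (pullback.snd g f) (pullback.fst g f) f g :=
    (IsPullback.of_hasPullback g f).flip
  have big := s.paste_horiz t
  rw [pullback.condition (f := g) (g := j)] at big
  have hq := IsPullback.of_right' big (IsPullback.of_hasPullback f j)
  have hqo : UniversallyOpen (pullback.snd (pullback.fst g f) (pullback.fst g j)) :=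
    MorphismProperty.of_isPullback (P := @UniversallyOpen) hq h₀
  intro O hO
  have himg : pullback.fst g f '' O = pullback.fst g j ''
      (pullback.snd (pullback.fst g f) (pullback.fst g j) ''
        (pullback.fst (pullback.fst g f) (pullback.fst g j) ⁻¹' O)) := by
    ext x
    constructor
    · rintro ⟨p, hp, rfl⟩
      obtain ⟨p₀, rfl⟩ :=
        (pullback.fst (pullback.fst g f) (pullback.fst g j)).surjective p
      refine ⟨_, ⟨p₀, hp, rfl⟩, ?_⟩
      rw [← Scheme.Hom.comp_apply, ← Scheme.Hom.comp_apply, pullback.condition]
    · rintro ⟨_, ⟨p₀, hp, rfl⟩, rfl⟩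
      refine ⟨_, hp, ?_⟩
      rw [← Scheme.Hom.comp_apply, ← Scheme.Hom.comp_apply, pullback.condition]
  show IsOpen (pullback.fst g f '' O)
  rw [himg]
  exact hjT _ ((pullback.snd (pullback.fst g f) (pullback.fst g j)).isOpenMap _
    (hO.preimage (Scheme.Hom.continuous _)))

lemma subsingleton_spec (A : Type u) [CommRing A] [IsArtinianRing A] [IsLocalRing A] :
    Subsingleton (Spec (CommRingCat.of A)) := by
  refine ⟨fun p q => ?_⟩
  apply PrimeSpectrum.ext
  have hp : p.asIdeal.IsMaximal := IsArtinianRing.isMaximal_of_isPrime p.asIdeal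
  have hq : q.asIdeal.IsMaximal := IsArtinianRing.isMaximal_of_isPrime q.asIdeal
  rw [IsLocalRing.eq_maximalIdeal hp, IsLocalRing.eq_maximalIdeal hq]

/-- every morphism to the spectrum of a local Artinian ring is universally open -/
theorem universallyOpen_of_artinian_local (A : Type u) [CommRing A] [IsArtinianRing A]
    [IsLocalRing A] {X : Scheme.{u}} (f : X ⟶ Spec (CommRingCat.of A)) : UniversallyOpen f := by
  have hsub := subsingleton_spec A
  have hci : IsClosedImmersion (Spec.map (CommRingCat.ofHom (IsLocalRing.residue A))) :=
    IsClosedImmersion.spec_of_surjective _ IsLocalRing.residue_surjective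
  have hsurj : Surjective (Spec.map (CommRingCat.ofHom (IsLocalRing.residue A))) :=
    ⟨fun y => ⟨IsLocalRing.closedPoint _, Subsingleton.elim _ _⟩⟩
  have h₀ : UniversallyOpen
      (pullback.snd f (Spec.map (CommRingCat.ofHom (IsLocalRing.residue A)))) := inferInstance
  exact universallyOpen_of_pullback f _ h₀

end Groth.Agent.Lib.helper28.UOArt
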