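import Groth.Agent.Lib.Helper28.VAmpleData
import Groth.Agent.Lib.Helper28.EpiGen

/-!
# A very ample module is generated by sections coming from the base (helper28)

`exists_gen`: for `L` very ample relative to `q` there are a quasi-coherent `E` on the base and
`β : E ⟶ q_* L` such that near every point `L` is freely generated by `β(e)` for a section `e` of `E`
over an affine open of the base (in the sense of `EpiGen.IsGenOn`).
-/

set_option autoImplicit false
universe u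
open CategoryTheory CategoryTheory.Limits AlgebraicGeometry TopologicalSpace Opposite

namespace Groth.Agent.Lib.helper28.VAmpleGen

open Groth.Agent.Lib.helper28 Groth.Agent.Lib.helper28.EpiGen
  Groth.Agent.Lib.helper28.ProjBundleHom

variable {X Y : Scheme.{u}} {q : X ⟶ Y} {L : X.Modules}

theorem exists_gen (hL : PicF.IsInvertible L) (h : RelProj.IsRelVeryAmple q L) :
    ∃ (E : Y.Modules) (_ : E.IsQuasicoherent) (β : E ⟶ (Scheme.Modules.pushforward q).obj L),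
      ∀ x : X, ∃ (U : Y.Opens) (_ : IsAffineOpen U) (e : Γ(E, U)) (D : X.Opens), x ∈ D ∧
        IsGenOn L (q ⁻¹ᵁ U) (show Γ(L, q ⁻¹ᵁ U) from (β.app U) e) D := by
  have hLq : L.IsQuasicoherent :=
    Groth.Agent.Lib.helper12.AmpleBasis.isQuasicoherent_of_isInvertible hL
  obtain ⟨E, hE, 𝒮, j, hj, P, p, chart, hP, O1, lam, hO1, i, himm, hip, ⟨τ⟩⟩ := h
  subst hip
  have : E.IsQuasicoherent := hE
  obtain ⟨φ, hφ⟩ := Groth.Agent.Lib.helper28.RelTwistCanon.exists_canon_hom lam hP hO1 (d := 1)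
    (by simp) E j hj.2
  have hφ' : ∀ (U : Y.Opens) (hU : IsAffineOpen U) (e : Γ(E, U))
      (y : ↥(RelProj.emb p chart U hU ⁻¹ᵁ (p ⁻¹ᵁ U))),
      GrTwist.val (V := RelProj.emb p chart U hU ⁻¹ᵁ (p ⁻¹ᵁ U))
          ((lam U hU).app (p ⁻¹ᵁ U) ((φ.app U) e)) y =
        algebraMap (𝒮.presheaf.obj (op U)) (GrTwist.Loc (𝒮.deg U hU) y.1)
          ((j.app U) e : 𝒮.presheaf.obj (op U)) := fun U hU e y => hφ U hU e y.1 y.2
  let m : E ⟶ (Scheme.Modules.pushforward (i ≫ p)).obj L :=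
    φ ≫ (Scheme.Modules.pushforward p).map (ProjBundleHom.β O1 i L τ.inv) ≫
      (Scheme.Modules.pushforwardComp i p).hom.app L
  refine ⟨E, hE, m, fun x => ?_⟩
  obtain ⟨U, hU, e, V, hV, hVW, hxV⟩ := exists_chart E 𝒮 j hj p chart i x
  have hD : i ⁻¹ᵁ Wp E 𝒮 j p chart U hU e ≤ (i ≫ p) ⁻¹ᵁ U :=
    i.preimage_mono (Wp_le E 𝒮 j p chart U hU e)
  refine ⟨U, hU, e, i ⁻¹ᵁ Wp E 𝒮 j p chart U hU e, hVW hxV, hD, fun V' hV' hV'W => ?_⟩
  have h5 : L.presheaf.map (homOfLE (hV'W.trans hD)).op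
      (show Γ(L, (i ≫ p) ⁻¹ᵁ U) from (ProjBundleHom.β O1 i L τ.inv).app (p ⁻¹ᵁ U) ((φ.app U) e)) =
      pull O1 i L τ.inv hV'W (sg E 𝒮 j p chart O1 φ U hU e e) := by
    rw [← β_app_res O1 i L τ.inv hV'W]
    unfold sg
    have h4 := Groth.Agent.Lib.helper2.ModSec.map_app_apply (ProjBundleHom.β O1 i L τ.inv)
      (homOfLE (Wp_le E 𝒮 j p chart U hU e)) (show Γ(O1, p ⁻¹ᵁ U) from (φ.app U) e)
    rw [← h4]
    change L.presheaf.map (homOfLE (hV'W.trans hD)).op _ =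
      L.presheaf.map (homOfLE hV'W).op (L.presheaf.map (homOfLE
        (i.preimage_mono (Wp_le E 𝒮 j p chart U hU e))).op _)
    exact (Groth.Agent.Lib.helper28.LocalGen.map_map L
      (i.preimage_mono (Wp_le E 𝒮 j p chart U hU e)) hV'W _).symm
  have h6 := bijective_smul_pull E 𝒮 j hj p chart O1 lam hO1 φ hφ' i L τ.inv U hU e V' hV' hV'W
  rw [← h5] at h6
  exact h6

end Groth.Agent.Lib.helper28.VAmpleGen
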