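import Groth.Agent.Lib.Helper28.SymLineLocal

/-!
# `X_σ` for a section `σ` of an invertible module in terms of its symmetric algebra (helper28)

Degree-one analogues of the lemmas of `SymLineGenLocus`/`SymLineLocal`: for `σ ∈ Γ(W, L)` itself
(rather than a section of `L^{⊗ n}`).
* `bijective_smul_iff_one`, `mem_genLocus_secHom_iff_one`, `XT_eq_WT_one`.
-/

set_option autoImplicit false
set_option linter.style.haveILetI false
universe u
open CategoryTheory AlgebraicGeometry TopologicalSpace Opposite TensorProduct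

namespace Groth.Agent.Lib.helper28.VAmpleSec

open Groth.Agent.Lib.helper28.PowMap Groth.Agent.Lib.helper28.TensorDesc
  Groth.Agent.Lib.helper11.TensorASec Groth.Agent.Lib.helper28.SymLinePow
  Groth.Agent.Lib.helper28.SymLineGenLocus Groth.Agent.Lib.helper28.SymLineExtend
open Groth.Agent.Lib.helper12.TwistExtend Groth.Agent.Lib.helper12.AmpleBasis
  Groth.Agent.Lib.helper11.IsoLocus Groth.Agent.Lib.helper11.GenLocus

section One

variable {X : Scheme.{u}} {L : X.Modules} [L.IsQuasicoherent]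
  {𝒮L : RelProj.QCGrAlg X} {j : L ⟶ 𝒮L.toModule}

/-- `j σ`, as an element of the ring `𝒮L(V)`. -/
noncomputable def jr (j : L ⟶ 𝒮L.toModule) (V : X.Opens) (σ : L.val.obj (op V)) :
    𝒮L.presheaf.obj (op V) := (j.app V).hom σ

theorem jr_smul (V : X.Opens) (c : Γ(X, V)) (g : Γ(L, V)) :
    jr j V (c • g : Γ(L, V)) = (𝒮L.str.app (op V)).hom c * jr j V g :=
  SymAlg.φAdd_smul L 𝒮L.toQCAlg j V c g

theorem jr_res {U V : X.Opens} (h : V ≤ U) (σ : L.val.obj (op U)) :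
    jr j V (res L h σ) = (𝒮L.presheaf.map (homOfLE h).op).hom (jr j U σ) :=
  SymAlg.φAdd_res L 𝒮L.toQCAlg j h σ

/-- Over an affine open carrying a generator: `σ` generates `L` iff `j σ` generates the degree
one piece of `𝒮L`. -/
theorem bijective_smul_iff_one {V : X.Opens} (D : GenData L 𝒮L j V) (σ : Γ(L, V)) :
    Function.Bijective (fun a : Γ(X, V) => (a • σ : Γ(L, V))) ↔
      ((𝒮L.deg V D.hV 1 : AddSubgroup (𝒮L.presheaf.obj (op V))) :
        Set (𝒮L.presheaf.obj (op V))) ⊆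
        (Ideal.span {jr j V σ} : Set (𝒮L.presheaf.obj (op V))) := by
  obtain ⟨c, rfl⟩ := D.hg.2 σ
  have hjc : jr j V (c • D.g : Γ(L, V)) = (𝒮L.str.app (op V)).hom c * D.z ^ 1 := by
    rw [pow_one]
    exact jr_smul V c D.g
  change Function.Bijective (fun a : Γ(X, V) => (a • (c • D.g : Γ(L, V)) : Γ(L, V))) ↔
    ((𝒮L.deg V D.hV 1 : AddSubgroup (𝒮L.presheaf.obj (op V))) :
        Set (𝒮L.presheaf.obj (op V))) ⊆
    ((Ideal.span {jr j V (c • D.g : Γ(L, V))} :
      Ideal (𝒮L.presheaf.obj (op V))) : Set (𝒮L.presheaf.obj (op V)))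
  rw [hjc]
  have hcomp : (fun a : Γ(X, V) => (a • (c • D.g : Γ(L, V)) : Γ(L, V))) =
      (fun a : Γ(X, V) => (a • D.g : Γ(L, V))) ∘ (fun a => a * c) := by
    funext a
    exact (mul_smul a c _).symm
  constructor
  · intro hb
    refine deg_subset_span_of_isUnit (𝒮L.deg V D.hV) (𝒮L.str.app (op V)).hom D.z
      (𝒮L.str_mem V D.hV) D.hz D.hpoly.2 c 1 ?_
    obtain ⟨a, ha⟩ := hb.2 D.g
    have h1 : ((a * c) • D.g : Γ(L, V)) = ((1 : Γ(X, V)) • D.g : Γ(L, V)) := by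
      rw [mul_smul, one_smul]
      exact ha
    have h2 : a * c = 1 := D.hg.1 h1
    exact IsUnit.of_mul_eq_one _ (by rw [mul_comm]; exact h2)
  · intro hs
    have hz1 : D.z ^ 1 ∈ 𝒮L.deg V D.hV 1 := by
      rw [pow_one]
      exact D.hz
    have hc : IsUnit c := isUnit_of_span (𝒮L.str.app (op V)).hom D.z D.hpoly c 1 (hs hz1)
    rw [hcomp]
    exact D.hg.comp (IsUnit.isUnit_iff_mulRight_bijective.mp hc)

/-- "`σ` generates the degree one piece of `𝒮L` over the affine open `O ⊆ W`, which carries a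
generator". -/
theorem bijective_of_goodOpen_one (W : X.Opens) (σ : L.val.obj (op W)) (O : X.Opens)
    (hO : GoodOpen 𝒮L j W 1 (jr j W σ) O) :
    ∃ h : O ≤ W, Function.Bijective (fun a : Γ(X, O) =>
      (a • (res L h σ : Γ(L, O)) : Γ(L, O))) := by
  obtain ⟨hO, h, hspan, ⟨D⟩⟩ := hO
  refine ⟨h, (bijective_smul_iff_one D (res L h σ)).mpr ?_⟩
  rw [jr_res]
  exact hspan

variable (hj : RelProj.IsGrSymAlg L 𝒮L j) (hL : PicF.IsInvertible L)

include hj hL in
/-- For `σ ∈ Γ(W, L)`, a point of `W` lies in `W_σ` iff it has an affine neighbourhood `V ⊆ W`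
over which `j σ` generates the degree one piece of `𝒮L`. -/
theorem mem_genLocus_secHom_iff_one (W : X.Opens) (σ : L.val.obj (op W))
    (x' : (↑W : Scheme.{u})) :
    x' ∈ CohB1.genLocus _ (secHom L W σ) ↔
      ∃ (V : X.Opens) (hV : IsAffineOpen V) (hle : V ≤ W), W.ι x' ∈ V ∧
        ((𝒮L.deg V hV 1 : AddSubgroup (𝒮L.presheaf.obj (op V))) :
          Set (𝒮L.presheaf.obj (op V))) ⊆
          (Ideal.span {(𝒮L.presheaf.map (homOfLE hle).op).hom (jr j W σ)} :
            Set (𝒮L.presheaf.obj (op V))) := by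
  constructor
  · intro hx
    have hx1 : W.ι x' ∈ W.ι ''ᵁ CohB1.genLocus _ (secHom L W σ) := ⟨x', hx, rfl⟩
    obtain ⟨V, hxV, hVG, hD⟩ := exists_genData hj hL _ _ hx1
    have hVW : V ≤ W := hVG.trans (image_le W _)
    have hV' : ∃ B' : (↑W : Scheme.{u}).Opens, V = W.ι ''ᵁ B' := by
      refine ⟨W.ι ⁻¹ᵁ V, ?_⟩
      rw [Scheme.Hom.image_preimage_eq_opensRange_inf, Scheme.Opens.opensRange_ι]
      exact (inf_eq_right.mpr hVW).symm
    obtain ⟨B', rfl⟩ := hV'
    obtain ⟨D⟩ := hD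
    have hB'G : B' ≤ CohB1.genLocus _ (secHom L W σ) := by
      intro y hy
      obtain ⟨w, hw, hwy⟩ := hVG (show W.ι y ∈ W.ι ''ᵁ B' from ⟨y, hy, rfl⟩)
      have : w = y := W.ι.isOpenEmbedding.injective hwy
      rw [← this]
      exact hw
    have hiso : IsIso ((secHom L W σ).app B') := isIso_app_of_le_isoLocus _ hB'G
    have hbij : Function.Bijective ((secHom L W σ).app B').hom :=
      (ConcreteCategory.isIso_iff_bijective _).mp hiso
    rw [bijective_secHom_app_iff] at hbij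
    have hbij' := (bijective_smul_iff_one D (res L (image_le W B') σ)).mp hbij
    refine ⟨W.ι ''ᵁ B', D.hV, image_le W B', hxV, ?_⟩
    rw [← jr_res]
    exact hbij'
  · rintro ⟨V, hV, hle, hxV, hspan⟩
    have hxA : x' ∈ W.ι ⁻¹ᵁ V := hxV
    refine le_genLocus_of_basis (secHom L W σ) (W.ι ⁻¹ᵁ V)
      (fun B' => GoodOpen 𝒮L j W 1 (jr j W σ) (W.ι ''ᵁ B')) ?_ ?_ hxA
    · intro y hy O hyO
      obtain ⟨U₀, hyU₀, hU₀⟩ := exists_open_genData hj hL (W.ι y)
      obtain ⟨a, haO, hya⟩ := hV.exists_basicOpen_le (V := W.ι ''ᵁ O ⊓ U₀)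
        ⟨W.ι y, ⟨⟨y, hyO, rfl⟩, hyU₀⟩⟩ hy
      have haW : X.basicOpen a ≤ W := (X.basicOpen_le a).trans hle
      have e1 : W.ι ''ᵁ (W.ι ⁻¹ᵁ X.basicOpen a) = X.basicOpen a := by
        rw [Scheme.Hom.image_preimage_eq_opensRange_inf, Scheme.Opens.opensRange_ι]
        exact inf_eq_right.mpr haW
      refine ⟨W.ι ⁻¹ᵁ X.basicOpen a, ?_, hya, ?_⟩
      · change GoodOpen 𝒮L j W 1 (jr j W σ) (W.ι ''ᵁ (W.ι ⁻¹ᵁ X.basicOpen a))
        rw [e1]
        refine ⟨hV.basicOpen a, haW, ?_, hU₀ _ (hV.basicOpen a) (haO.trans inf_le_right)⟩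
        have h2 := deg_subset_span_basicOpen 𝒮L V hV a 1 _ hspan
        have e2 : (𝒮L.presheaf.map (homOfLE (X.basicOpen_le a)).op).hom
            ((𝒮L.presheaf.map (homOfLE hle).op).hom (jr j W σ)) =
            (𝒮L.presheaf.map (homOfLE haW).op).hom (jr j W σ) := by
          rw [← CommRingCat.comp_apply, ← Functor.map_comp]
          rfl
        rw [e2] at h2
        exact h2
      · intro w hw
        refine ⟨?_, X.basicOpen_le a hw⟩
        obtain ⟨w', hw', hww'⟩ := (haO hw).1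
        have : w' = w := W.ι.isOpenEmbedding.injective hww'
        rw [← this]
        exact hw'
    · intro B' hB' _
      obtain ⟨h, hb⟩ := bijective_of_goodOpen_one W σ _ hB'
      rw [bijective_secHom_app_iff]
      exact hb

end One

section XT

variable {X Y : Scheme.{u}} {f : X ⟶ Y} {𝒜 : RelProj.QCGrAlg Y} {𝒮L : RelProj.QCGrAlg X}
  (u : RelProj.QGrHom f 𝒜 𝒮L)
  {L : X.Modules} [L.IsQuasicoherent] {jL : L ⟶ 𝒮L.toModule}
  (hjL : RelProj.IsGrSymAlg L 𝒮L jL) (hL : PicF.IsInvertible L)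

include hjL hL in
/-- The open `X_t` of `RLpsiU`, `t = u(a)`, is `W_σ` for the section `σ` of `L` over
`W = f⁻¹ V` with `j σ = u(a)`. -/
theorem XT_eq_WT_one (V : Y.Opens) (a : 𝒜.presheaf.obj (op V))
    (σ : L.val.obj (op (f ⁻¹ᵁ V)))
    (ht : jr jL (f ⁻¹ᵁ V) σ = (u.app V).hom a) :
    RLpsiU.XT 𝒮L u V 1 a = WT (f ⁻¹ᵁ V) σ := by
  ext x
  constructor
  · intro hx
    obtain ⟨⟨⟨V', hV'⟩, hle, hspan⟩, hxV'⟩ := Opens.mem_iSup.mp hx
    refine ⟨⟨x, hle hxV'⟩, ?_, rfl⟩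
    rw [SetLike.mem_coe, mem_genLocus_secHom_iff_one hjL hL, ht]
    exact ⟨V', hV', hle, hxV', hspan⟩
  · rintro ⟨x', hx', rfl⟩
    rw [SetLike.mem_coe, mem_genLocus_secHom_iff_one hjL hL, ht] at hx'
    obtain ⟨V', hV', hle, hxV', hspan⟩ := hx'
    exact Opens.mem_iSup.mpr ⟨⟨⟨V', hV'⟩, hle, hspan⟩, hxV'⟩

end XT

end Groth.Agent.Lib.helper28.VAmpleSec
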