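import Groth.Agent.Lib.Helper12.VAmple4
import Groth.Agent.Lib.Helper12.TensorRestrict
import Groth.Agent.Lib.Helper12.AmplePow
import Groth.Agent.Lib.Helper28.VAmpleSec1
import Groth.Agent.Lib.Helper28.SymLineSec

/-!
# Sections of `L^{⊗ n} ⊗ L'` over `f⁻¹ U` from ampleness of `L|f⁻¹ U` (helper28)

`exists_sections_of_isAmple`: helper12's `exists_sections_chart`, transported from the open
subscheme `f⁻¹ U` to sections over the open `f⁻¹ U` of `X`: through every point of `f⁻¹ U` there is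
an affine `Z` such that for all large `n` some section `σ` of `L^{⊗ n} ⊗ L'` over `f⁻¹ U` has
`(f⁻¹ U)_σ = Z` and `Γ(Z, O)` is generated over `Γ(U, O)` by ratios `τ / σ`.
-/

set_option autoImplicit false
set_option linter.style.haveILetI false
universe u
open CategoryTheory CategoryTheory.Limits AlgebraicGeometry TopologicalSpace Opposite

namespace Groth.Agent.Lib.helper28.VAmpleSec

open Groth.Agent.Lib.helper28.SymLineGenLocus Groth.Agent.Lib.helper28.SymLineExtend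
  Groth.Agent.Lib.helper28.SymLineSec
open Groth.Agent.Lib.helper12.TwistExtend Groth.Agent.Lib.helper12.AmpleBasis
  Groth.Agent.Lib.helper12.AmpleBasis2 Groth.Agent.Lib.helper12.AmplePow
  Groth.Agent.Lib.helper12.TensorRestrict Groth.Agent.Lib.helper12.TensorInv
  Groth.Agent.Lib.helper12.ProjUP3 Groth.Agent.Lib.helper12.VAmple3
  Groth.Agent.Lib.helper12.VAmple4
  Groth.Agent.Lib.helper11.IsoLocus Groth.Agent.Lib.helper11.GenLocus
  Groth.Agent.Lib.helper11.InvMod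

variable {X Y : Scheme.{u}}

/-- The section over `B'` named by `secHom M W t` is the restriction of `t`. -/
theorem sec_secHom (M : X.Modules) (W : X.Opens) (t : M.val.obj (op W))
    (B' : (↑W : Scheme.{u}).Opens) :
    sec (secHom M W t) B' = res M (image_le W B') t := by
  have h1 : SecTwist.val (secHom M W t) B' =
      res (M.restrict W.ι) (le_top : B' ≤ ⊤) (topSec M W t) := val_homOfSec _ _ _
  exact h1.trans (res_topSec M W t B')

theorem exists_sections_of_isAmple (f : X ⟶ Y) [LocallyOfFiniteType f]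
    (L L' : X.Modules) (hL' : PicF.IsInvertible L') (U : Y.Opens) (hU : IsAffineOpen U)
    (hample : CohB1.IsAmple (L.restrict (f ⁻¹ᵁ U).ι)) (x : X) (hx : x ∈ f ⁻¹ᵁ U) :
    ∃ (Z : X.Opens) (hZU : Z ≤ f ⁻¹ᵁ U), x ∈ Z ∧ IsAffineOpen Z ∧ ∃ n₀ : ℕ, ∀ n, n₀ ≤ n →
      ∃ (σ : (CohB1.tensorMod (CohB1.tensorPow L n) L').val.obj (op (f ⁻¹ᵁ U)))
        (T : Set Γ(X, Z)),
        Z = WT (f ⁻¹ᵁ U) σ ∧
        (letI := (f.appLE U Z hZU).hom.toAlgebra; Algebra.adjoin Γ(Y, U) T = ⊤) ∧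
        ∀ c ∈ T, ∃ τ : (CohB1.tensorMod (CohB1.tensorPow L n) L').val.obj (op (f ⁻¹ᵁ U)),
          res (CohB1.tensorMod (CohB1.tensorPow L n) L') hZU τ =
            (c • (res (CohB1.tensorMod (CohB1.tensorPow L n) L') hZU σ :
              Γ(CohB1.tensorMod (CohB1.tensorPow L n) L', Z)) :
              Γ(CohB1.tensorMod (CohB1.tensorPow L n) L', Z)) := by
  classical
  have hB := isBasis_of_isAmple hample
  obtain ⟨hLi, hc, hcovL⟩ := hample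
  have := hc
  have : QuasiSeparatedSpace (↑(f ⁻¹ᵁ U) : Scheme.{u}) :=
    quasiSeparatedSpace_of_hasAffineCover hLi hcovL
  have hL₁' : PicF.IsInvertible (L'.restrict (f ⁻¹ᵁ U).ι) :=
    isInvertible_restrict (f ⁻¹ᵁ U).ι hL'
  rw [Opens.isBasis_iff_nbhd] at hB
  let x' : (↑(f ⁻¹ᵁ U) : Scheme.{u}) := ⟨x, hx⟩
  obtain ⟨A, hA, hxA, -, hT⟩ := exists_affine_isTrivOn hLi x' ⊤ trivial
  obtain ⟨A', hA', hxA', hA'A, hT'⟩ := exists_affine_isTrivOn hL₁' x' A hxA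
  obtain ⟨Z', ⟨d, s, rfl⟩, hxZ', hZ'A'⟩ := hB hxA'
  have hZ'aff : IsAffineOpen (CohB1.genLocus _ s) :=
    isAffineOpen_genLocus_of_le s hA' (isTrivOn_tensorPow (hT.of_le hA'A) (d + 1)) hZ'A'
  have hTL := hT.of_le (hZ'A'.trans hA'A)
  have hTL' := hT'.of_le hZ'A'
  have hZU : (f ⁻¹ᵁ U).ι ''ᵁ CohB1.genLocus _ s ≤ f ⁻¹ᵁ U := image_le (f ⁻¹ᵁ U) _
  have hZaff : IsAffineOpen ((f ⁻¹ᵁ U).ι ''ᵁ CohB1.genLocus _ s) :=
    hZ'aff.image_of_isOpenImmersion (f ⁻¹ᵁ U).ι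
  obtain ⟨g, b, hb⟩ := exists_generators_of_finiteType _ (f.finiteType_appLE hU hZaff hZU)
  obtain ⟨n₀, hn₀⟩ := exists_sections_chart hLi hL₁' (Nat.succ_pos d) s hTL hTL'
    (fun i => (show Γ((↑(f ⁻¹ᵁ U) : Scheme.{u}), CohB1.genLocus _ s) from b i))
  refine ⟨(f ⁻¹ᵁ U).ι ''ᵁ CohB1.genLocus _ s, hZU, ⟨x', hxZ', rfl⟩, hZaff, n₀, fun n hn => ?_⟩
  obtain ⟨w₀, w, hgl, hw⟩ := hn₀ n hn
  let θ : (CohB1.tensorMod (CohB1.tensorPow L n) L').restrict (f ⁻¹ᵁ U).ι ≅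
      CohB1.tensorMod (CohB1.tensorPow (L.restrict (f ⁻¹ᵁ U).ι) n) (L'.restrict (f ⁻¹ᵁ U).ι) :=
    restrictTensorIso (f ⁻¹ᵁ U).ι (CohB1.tensorPow L n) L' ≪≫
      PicGrp.tensorModIso (restrictTensorPowIso (f ⁻¹ᵁ U).ι L n) (Iso.refl _)
  obtain ⟨σ, hσ⟩ := exists_secHom_eq (CohB1.tensorMod (CohB1.tensorPow L n) L') (f ⁻¹ᵁ U)
    (w₀ ≫ θ.inv)
  have hτ' : ∀ i, ∃ τ, secHom (CohB1.tensorMod (CohB1.tensorPow L n) L') (f ⁻¹ᵁ U) τ =
      w i ≫ θ.inv := fun i => exists_secHom_eq _ _ _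
  choose τ hτ using hτ'
  have hgl' : CohB1.genLocus _ (w₀ ≫ θ.inv) = CohB1.genLocus _ s :=
    (genLocus_comp_iso w₀ θ.symm).trans hgl
  have hglσ : CohB1.genLocus _ (secHom (CohB1.tensorMod (CohB1.tensorPow L n) L') (f ⁻¹ᵁ U) σ) =
      CohB1.genLocus _ s := by
    rw [hσ]
    exact hgl'
  refine ⟨σ, Set.range b, ?_, ?_, ?_⟩
  · unfold WT
    rw [hglσ]
  · letI := (f.appLE U ((f ⁻¹ᵁ U).ι ''ᵁ CohB1.genLocus _ s) hZU).hom.toAlgebra
    have h1 := Algebra.adjoin_eq_ring_closure (R := Γ(Y, U)) (Set.range b)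
    apply Subalgebra.toSubring_injective
    rw [h1]
    exact hb
  · rintro _ ⟨i, rfl⟩
    refine ⟨τ i, ?_⟩
    have hr : ratio (w₀ ≫ θ.inv) (w i ≫ θ.inv) (CohB1.genLocus _ s) hgl'.ge =
        (show Γ((↑(f ⁻¹ᵁ U) : Scheme.{u}), CohB1.genLocus _ s) from b i) :=
      (Groth.Agent.Lib.helper12.ProjG.ratio_comp_iso w₀ (w i) θ.symm _ hgl.ge hgl'.ge).trans (hw i)
    have hs := ratio_smul (w₀ ≫ θ.inv) (w i ≫ θ.inv) (CohB1.genLocus _ s) hgl'.ge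
    rw [hr, ← hσ, ← hτ i, sec_secHom, sec_secHom] at hs
    rw [hs.symm]
    exact Groth.Agent.Lib.helper7.IdealCartier.restrict_smul (f ⁻¹ᵁ U)
      (CohB1.tensorMod (CohB1.tensorPow L n) L') (CohB1.genLocus _ s) _ _

end Groth.Agent.Lib.helper28.VAmpleSec
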