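import Groth.Agent.Lib.Helper28.VAmpleSec3
import Groth.Agent.Lib.Helper28.VAmpleSec2
import Groth.Agent.Lib.Helper12.TensorSec

/-!
# Very ampleness (in the `P(E)` sense) from global sections over an affine base (helper28)

`isRelVeryAmple_of_global_sections`: `Y` affine, `f : X ⟶ Y` quasi-compact quasi-separated, `M`
invertible on `X`; if every point of `X` lies in an affine `X_s`, `s : O_X ⟶ M`, such that
`Γ(X_s, O)` is generated as a ring by the image of `Γ(Y, ⊤)` and functions `c` with `c • s = s'`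
on `X_s` for global sections `s'`, then `M` is very ample relative to `f`.
-/

set_option autoImplicit false
set_option linter.style.haveILetI false
universe u
open CategoryTheory CategoryTheory.Limits AlgebraicGeometry TopologicalSpace Opposite

namespace Groth.Agent.Lib.helper28.VAmpleSec

open Groth.Agent.Lib.helper28.SymLineGenLocus Groth.Agent.Lib.helper28.SymLineExtend
  Groth.Agent.Lib.helper28.SymLineSec
open Groth.Agent.Lib.helper12.TwistExtend
  Groth.Agent.Lib.helper11.IsoLocus Groth.Agent.Lib.helper11.GenLocus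
open Scheme.Modules

variable {X Y : Scheme.{u}}

/-- The restriction of a global section `s : O_X ⟶ M` to the open subscheme `W`. -/
noncomputable def resHom (M : X.Modules) (W : X.Opens) (s : Coh.structureModule X ⟶ M) :
    Coh.structureModule (↑W : Scheme.{u}) ⟶ M.restrict W.ι :=
  (restrictUnitIso W.ι).inv ≫ (restrictFunctor W.ι).map s

theorem sec_resHom (M : X.Modules) (W : X.Opens) (s : Coh.structureModule X ⟶ M)
    (B' : (↑W : Scheme.{u}).Opens) :
    sec (resHom M W s) B' = (sec s (W.ι ''ᵁ B') : Γ(M, W.ι ''ᵁ B')) := by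
  change (s.val.app (op (W.ι ''ᵁ B'))).hom
    (((restrictUnitIso W.ι).inv.val.app (op B')).hom
      (1 : (↑W : Scheme.{u}).ringCatSheaf.obj.obj (op B'))) = _
  have h1 := Groth.Agent.Lib.helper12.TensorSec.restrictUnitIso_inv_apply W.ι B'
    (1 : Γ((↑W : Scheme.{u}), B'))
  have h2 : ((W.ι.appIso B').inv (1 : Γ((↑W : Scheme.{u}), B')) : Γ(X, W.ι ''ᵁ B')) = 1 :=
    map_one ((W.ι.appIso B').inv).hom
  exact congrArg (s.val.app (op (W.ι ''ᵁ B'))).hom (h1.trans h2)

/-- A section `σ` over `W` naming the restriction of the global section `s` restricts to the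
values of `s`. -/
theorem res_eq_sec (M : X.Modules) (W : X.Opens) (s : Coh.structureModule X ⟶ M)
    (σ : M.val.obj (op W)) (hσ : secHom M W σ = resHom M W s) {Z : X.Opens} (hZW : Z ≤ W) :
    res M hZW σ = sec s Z := by
  have h1 := sec_secHom M W σ (W.ι ⁻¹ᵁ Z)
  rw [hσ, sec_resHom] at h1
  have hle : Z ≤ W.ι ''ᵁ (W.ι ⁻¹ᵁ Z) := by
    rw [Scheme.Hom.image_preimage_eq_opensRange_inf, Scheme.Opens.opensRange_ι]
    exact le_inf hZW le_rfl
  have h2 := congrArg (res M hle) h1
  rw [res_res] at h2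
  exact h2.symm.trans (res_sec s (homOfLE hle))

variable (f : X ⟶ Y) [QuasiCompact f] [QuasiSeparated f]
  (M : X.Modules) (hM : PicF.IsInvertible M)

include hM in
/-- **Very ampleness from global sections, affine base.** -/
theorem isRelVeryAmple_of_global_sections [IsAffine Y]
    (h : ∀ x : X, ∃ (s : Coh.structureModule X ⟶ M) (Z : X.Opens)
      (_ : Z = CohB1.genLocus M s) (T : Set Γ(X, Z)), x ∈ Z ∧ IsAffineOpen Z ∧
        Subring.closure (Set.range (f.appLE ⊤ Z le_top).hom ∪ T) = ⊤ ∧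
        ∀ c ∈ T, ∃ s' : Coh.structureModule X ⟶ M, (c • sec s Z : Γ(M, Z)) = sec s' Z) :
    RelProj.IsRelVeryAmple f M := by
  refine isRelVeryAmple_of_sections f M hM fun x => ?_
  obtain ⟨s, Z, hZ, T, hxZ, hZaff, hcl, hT⟩ := h x
  obtain ⟨σ, hσ⟩ := exists_secHom_eq M (f ⁻¹ᵁ ⊤) (resHom M (f ⁻¹ᵁ ⊤) s)
  have hZU : Z ≤ f ⁻¹ᵁ ⊤ := fun _ _ => trivial
  refine ⟨⊤, isAffineOpen_top Y, σ, Z, ?_, hZU, T, hxZ, hZaff, ?_, ?_⟩
  · unfold WT
    rw [hσ]
    unfold resHom
    rw [genLocus_restrict, Scheme.Hom.image_preimage_eq_opensRange_inf,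
      Scheme.Opens.opensRange_ι, ← hZ]
    exact (inf_eq_right.mpr hZU).symm
  · letI := (f.appLE ⊤ Z hZU).hom.toAlgebra
    have h1 := Algebra.adjoin_eq_ring_closure (R := Γ(Y, ⊤)) T
    apply Subalgebra.toSubring_injective
    rw [h1]
    exact hcl
  · intro c hc
    obtain ⟨s', hs'⟩ := hT c hc
    obtain ⟨τ, hτ⟩ := exists_secHom_eq M (f ⁻¹ᵁ ⊤) (resHom M (f ⁻¹ᵁ ⊤) s')
    refine ⟨τ, ?_⟩
    rw [res_eq_sec M _ s' τ hτ hZU, res_eq_sec M _ s σ hσ hZU]
    exact hs'.symm

end Groth.Agent.Lib.helper28.VAmpleSec
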