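import Groth.Agent.Lib.Helper28.VertexSection

set_option autoImplicit false

universe u

/-! Existence, uniqueness and closedness of the vertex section of an affine cone (helper28). -/

namespace Groth.Agent.Lib.helper28.VertexExists

open CategoryTheory CategoryTheory.Limits AlgebraicGeometry TopologicalSpace Opposite
open Groth.Agent.Lib.helper28.RelSpecMap Groth.Agent.Lib.helper28.PointedCone
open Groth.Agent.Lib.helper28.VertexSection

variable {Y : Scheme.{u}} (𝒮 : RelProj.QCGrAlg Y)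
  (aug : 𝒮.toQCAlg ⟶ RelSpec.QCAlg.unit Y)

/-- The chart maps `Spec O_Y(U) ⟶ Spec 𝒮(U) ⟶ C` are compatible with restriction to
smaller affine opens of the affine Zariski site. -/
theorem g_res {U V : Y.AffineZariskiSite} (i : V ≤ U) :
    Spec.map (Y.presheaf.map (homOfLE (Scheme.AffineZariskiSite.toOpens_mono i)).op) ≫
      (Spec.map (aug.hom.app (op U.1)) ≫ 𝒮.toQCAlg.ι U.1 U.2) =
      Spec.map (aug.hom.app (op V.1)) ≫ 𝒮.toQCAlg.ι V.1 V.2 := by
  have hn := aug.hom.naturality (homOfLE (Scheme.AffineZariskiSite.toOpens_mono i)).op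
  rw [← ι_res' 𝒮.toQCAlg i, ← Category.assoc, ← Category.assoc, ← Spec.map_comp, ← Spec.map_comp]
  exact congrArg (fun k => Spec.map k ≫ 𝒮.toQCAlg.ι U.1 U.2) hn.symm

theorem existsUnique_chart :
    ∃! ε : Y ⟶ 𝒮.toQCAlg.spec, ∀ U : Y.AffineZariskiSite,
      U.2.fromSpec ≫ ε = Spec.map (aug.hom.app (op U.1)) ≫ 𝒮.toQCAlg.ι U.1 U.2 := by
  refine existsUnique_of_charts_local (ι := Y.AffineZariskiSite)
    (U := fun U => Spec Γ(Y, U.1)) (fun U => U.2.fromSpec) ?_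
    (fun U => Spec.map (aug.hom.app (op U.1)) ≫ 𝒮.toQCAlg.ι U.1 U.2) ?_
  · intro x
    obtain ⟨_, ⟨U, hU, rfl⟩, hxU, -⟩ := Y.isBasis_affineOpens.exists_subset_of_mem_open
      (Set.mem_univ x) isOpen_univ
    refine ⟨⟨U, hU⟩, ?_⟩
    rw [IsAffineOpen.range_fromSpec]
    exact hxU
  · intro U V x hxU hxV
    rw [IsAffineOpen.range_fromSpec] at hxU hxV
    obtain ⟨W, hWU, hWV, hxW, -⟩ := exists_common_basic U V ⊤ x hxU hxV trivial
    have e1 : Spec.map (Y.presheaf.map (homOfLE (Scheme.AffineZariskiSite.toOpens_mono hWU)).op) ≫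
        U.2.fromSpec = W.2.fromSpec := U.2.map_fromSpec W.2 _
    have e2 : Spec.map (Y.presheaf.map (homOfLE (Scheme.AffineZariskiSite.toOpens_mono hWV)).op) ≫
        V.2.fromSpec = W.2.fromSpec := V.2.map_fromSpec W.2 _
    refine ⟨Spec Γ(Y, W.1),
      Spec.map (Y.presheaf.map (homOfLE (Scheme.AffineZariskiSite.toOpens_mono hWU)).op),
      Spec.map (Y.presheaf.map (homOfLE (Scheme.AffineZariskiSite.toOpens_mono hWV)).op),
      e1.trans e2.symm, (g_res 𝒮 aug hWU).trans (g_res 𝒮 aug hWV).symm, ?_, ?_⟩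
    · rw [e1]
      infer_instance
    · rw [e1, IsAffineOpen.range_fromSpec]
      exact hxW

theorem comp_π_of_chart (ε : Y ⟶ 𝒮.toQCAlg.spec)
    (hε : ∀ U : Y.AffineZariskiSite,
      U.2.fromSpec ≫ ε = Spec.map (aug.hom.app (op U.1)) ≫ 𝒮.toQCAlg.ι U.1 U.2) :
    ε ≫ 𝒮.toQCAlg.π = 𝟙 Y := by
  apply hom_ext_of_local
  intro x
  obtain ⟨_, ⟨U, hU, rfl⟩, hxU, -⟩ := Y.isBasis_affineOpens.exists_subset_of_mem_open
    (Set.mem_univ x) isOpen_univ
  refine ⟨Spec Γ(Y, U), hU.fromSpec, inferInstance, ?_, ?_⟩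
  · rw [IsAffineOpen.range_fromSpec]
    exact hxU
  · obtain ⟨a, ha⟩ : ∃ a : 𝒮.presheaf.obj (op U) ⟶ Γ(Y, U), a = aug.hom.app (op U) := ⟨_, rfl⟩
    have h1 : hU.fromSpec ≫ ε = Spec.map a ≫ 𝒮.toQCAlg.ι U hU := by
      rw [ha]
      exact hε ⟨U, hU⟩
    have h3 : 𝒮.str.app (op U) ≫ a = 𝟙 _ := by
      rw [ha]
      exact congrArg (fun k => k.app (op U)) aug.comm
    rw [← Category.assoc, h1, Category.assoc, 𝒮.toQCAlg.ι_π U hU, ← Category.assoc,
      ← Spec.map_comp, h3, Spec.map_id, Category.comp_id]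
    exact Category.id_comp _

theorem existsUnique_vertex : ∃! ε : Y ⟶ 𝒮.toQCAlg.spec, RelCone.IsVertex 𝒮 aug ε := by
  obtain ⟨ε, hε, huniq⟩ := existsUnique_chart 𝒮 aug
  refine ⟨ε, ⟨comp_π_of_chart 𝒮 aug ε hε, fun U hU => hε ⟨U, hU⟩⟩, ?_⟩
  intro ε' hε'
  exact huniq ε' (fun U => hε'.chart U.1 U.2)

theorem isClosedImmersion_of_isVertex (ε : Y ⟶ 𝒮.toQCAlg.spec)
    (hε : RelCone.IsVertex 𝒮 aug ε) : IsClosedImmersion ε := by
  refine ChartLocal.of_charts ε (J := Y.AffineZariskiSite)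
    (T := fun U => Spec Γ(Y, U.1)) (Q := fun U => Spec (𝒮.presheaf.obj (op U.1)))
    (fun U => U.2.fromSpec) (fun U => 𝒮.toQCAlg.ι U.1 U.2)
    (fun U => Spec.map (aug.hom.app (op U.1))) @IsClosedImmersion
    (fun U => hε.chart U.1 U.2) ?_ ?_ ?_
  · intro U
    rw [← 𝒮.toQCAlg.π_preimage U.1 U.2, ← Scheme.Hom.comp_preimage, hε.comp_π,
      IsAffineOpen.opensRange_fromSpec]
    rfl
  · intro x
    obtain ⟨U, hU, p, hp⟩ := exists_chart 𝒮 x
    exact ⟨⟨U, hU⟩, p, hp⟩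
  · intro U
    exact IsClosedImmersion.spec_of_surjective _ (aug_surjective 𝒮 aug U.1)

end Groth.Agent.Lib.helper28.VertexExists
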