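import Groth.Agent.Lib.Helper28.FTSubSym
import Groth.Agent.Lib.Helper28.RLpsiColim
import Groth.Agent.S12153

/-!
# Reduction of `r_{L,φ} : X ⟶ P(F)` to a finite type submodule of `F` (helper28; EGA II 4.4.7)

`Y` quasi-compact quasi-separated, `q : X ⟶ Y` of finite type, `u : Sym(F) → q_* Sym(L)` with
`r = Proj(u)` everywhere defined and an immersion.  Then for some finite type quasi-coherent
`E ⊆ F`, `Proj(u ∘ Sym(E ⊆ F))` is everywhere defined and an immersion.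
-/

set_option autoImplicit false
universe u

open CategoryTheory CategoryTheory.Limits AlgebraicGeometry TopologicalSpace Opposite

namespace Groth.Agent.Lib.helper28.VeryAmpleFT

open Groth.Agent.Lib.helper28 Groth.Agent.Lib.helper28.SymAlg
  Groth.Agent.Lib.helper28.FTSubSym Groth.Agent.Lib.helper28.ProjQGlue
  Groth.Agent.Lib.helper28.ProjBundleHom

variable {X Y P PL : Scheme.{u}} (q : X ⟶ Y)
  (L : X.Modules) [L.IsQuasicoherent] (hL : PicF.IsInvertible L)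
  (𝒮L : RelProj.QCGrAlg X) (jL : L ⟶ 𝒮L.toModule) (hjL : RelProj.IsGrSymAlg L 𝒮L jL)
  (pL : PL ⟶ X) (chartL : ∀ (U : X.Opens) (hU : IsAffineOpen U),
    (((pL ⁻¹ᵁ U : PL.Opens) : Scheme.{u}) ≅ Proj (𝒮L.deg U hU)))
  (hPL : RelProj.IsRelProj 𝒮L pL chartL)
  {F : Y.Modules} [F.IsQuasicoherent] (𝒯 : RelProj.QCGrAlg Y) (jF : F ⟶ 𝒯.toModule)
  (h𝒯 : RelProj.IsGrSymAlg F 𝒯 jF) (u : RelProj.QGrHom q 𝒯 𝒮L)
  (p : P ⟶ Y) (chart : ∀ (U : Y.Opens) (hU : IsAffineOpen U),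
    (((p ⁻¹ᵁ U : P.Opens) : Scheme.{u}) ≅ Proj (𝒯.deg U hU)))
  (hP : RelProj.IsRelProj 𝒯 p chart)
  (r : ((RelProj.domQ u pL chartL : PL.Opens) : Scheme.{u}) ⟶ P)
  (hr : RelProj.IsProjQMapOn u p chart pL chartL (RelProj.domQ u pL chartL) r)

/-- `u` restricted to `Sym(a.E)`. -/
noncomputable def uOf (a : FTSub F) : RelProj.QGrHom q (FTSub.alg a) 𝒮L :=
  precomp (𝒯 := FTSub.alg a) (FTSub.φ 𝒯 jF a) (FTSub.isGradedHom_φ 𝒯 jF h𝒯 a) u

include hL hjL hPL hP hr in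
theorem exists_ftSub [CompactSpace Y] [QuasiSeparatedSpace Y] [QuasiCompact q]
    [LocallyOfFiniteType q] (hdom : RelProj.domQ u pL chartL = ⊤) (himm : IsImmersion r) :
    ∃ a : FTSub F, RelProj.domQ (uOf q 𝒮L 𝒯 jF h𝒯 u a) pL chartL = ⊤ ∧
      ∀ (P' : Scheme.{u}) (p' : P' ⟶ Y)
        (chart' : ∀ (U : Y.Opens) (hU : IsAffineOpen U),
          (((p' ⁻¹ᵁ U : P'.Opens) : Scheme.{u}) ≅ Proj ((FTSub.alg a).deg U hU)))
        (_ : RelProj.IsRelProj (FTSub.alg a) p' chart')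
        (r' : ((RelProj.domQ (uOf q 𝒮L 𝒯 jF h𝒯 u a) pL chartL : PL.Opens) : Scheme.{u}) ⟶ P')
        (_ : RelProj.IsProjQMapOn (uOf q 𝒮L 𝒯 jF h𝒯 u a) p' chart' pL chartL
          (RelProj.domQ (uOf q 𝒮L 𝒯 jF h𝒯 u a) pL chartL) r'), IsImmersion r' := by
  have hX : CompactSpace X := QuasiCompact.compactSpace_of_compactSpace q
  have hr' := (ProjQComp.isProjQMapOn_iff u r).mp hr
  have hex : ∀ a : FTSub F, ∃ ri : ((RelProj.domQ (uOf q 𝒮L 𝒯 jF h𝒯 u a) pL chartL : PL.Opens) :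
      Scheme.{u}) ⟶ RelProjExists.relProj (FTSub.alg a),
      ∀ (U : Y.Opens) (hU : IsAffineOpen U) (U' : X.Opens) (hU' : IsAffineOpen U')
        (hle : U' ≤ q ⁻¹ᵁ U) (d : ℕ) (hd : 0 < d) (f : (FTSub.alg a).presheaf.obj (op U))
        (hf : f ∈ (FTSub.alg a).deg U hU d),
        stdChart (uOf q 𝒮L 𝒯 jF h𝒯 u a) pL chartL U hU U' hU' hle hd f hf ≫ ri =
          tgt (uOf q 𝒮L 𝒯 jF h𝒯 u a) (RelProjExists.relProjHom (FTSub.alg a))
            (RelProjExists.chart (FTSub.alg a)) U hU U' hU' hle hd f hf := fun a =>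
    (existsUnique_glue (uOf q 𝒮L 𝒯 jF h𝒯 u a) (RelProjExists.isRelProj (FTSub.alg a)) hPL).exists
  choose ri hri using hex
  obtain ⟨a, hdoma, himma⟩ := RLpsiColim.exists_index L 𝒮L jL hjL u hL hP hPL r hr'
    (𝒮i := fun a : FTSub F => FTSub.alg a) (φ := fun a => FTSub.φ 𝒯 jF a)
    (fun a => FTSub.isGradedHom_φ 𝒯 jF h𝒯 a)
    (fun a b h => FTSub.t h) (fun a b h => FTSub.isGradedHom_t h)
    (fun a b h => FTSub.t_φ 𝒯 jF h)
    (fun U hU x => FTSub.exists_lift 𝒯 jF h𝒯 U hU x)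
    (fun a => uOf q 𝒮L 𝒯 jF h𝒯 u a) (fun a U => rfl)
    (fun a => RelProjExists.isRelProj (FTSub.alg a)) ri hri hdom
  refine ⟨a, hdoma, ?_⟩
  intro P' p' chart' hP' r' hr''
  have hLq : Coh.IsQCoh L := inferInstance
  have hria : RelProj.IsProjQMapOn (uOf q 𝒮L 𝒯 jF h𝒯 u a) (RelProjExists.relProjHom (FTSub.alg a))
      (RelProjExists.chart (FTSub.alg a)) pL chartL
      (RelProj.domQ (uOf q 𝒮L 𝒯 jF h𝒯 u a) pL chartL) (ri a) :=
    (ProjQComp.isProjQMapOn_iff _ _).mpr (hri a)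
  exact (Groth.Agent.S12153.result q L hL hLq (FTSub.alg a) 𝒮L jL hjL (uOf q 𝒮L 𝒯 jF h𝒯 u a)
    p' chart' hP' pL chartL hPL r' hr''
    (FTSub.alg a) (𝟙 _) (fun U hU d x hx => hx) (uOf q 𝒮L 𝒯 jF h𝒯 u a)
    (fun U => (Category.id_comp _).symm)
    (RelProjExists.relProjHom (FTSub.alg a)) (RelProjExists.chart (FTSub.alg a))
    (RelProjExists.isRelProj (FTSub.alg a)) (ri a) hria hdoma himma).2

end Groth.Agent.Lib.helper28.VeryAmpleFT
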