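import Groth.Agent.Lib.Helper28.SymGradedProps
import Groth.Agent.Lib.Helper28.DegProj
import Groth.Agent.Lib.Helper28.RelProjExists
import Groth.Agent.Lib.Helper28.RelTwistExists
import Groth.Agent.Lib.Helper28.RelTwistPull
import Groth.Agent.S8262
import Groth.Agent.S8292

/-!
# Very ampleness from an immersion into `Proj 𝒮`, `𝒮` generated in degree one (helper28)

`isRelVeryAmple_of_symAlg`: `𝒮` generated in degree one, `u : E ⟶ 𝒮` a module map from a
quasi-coherent `E` onto `𝒮_1`, `(A, jA)` a symmetric algebra of `E`; an immersion `i : X ⟶ Proj 𝒮`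
over `Y` with `L ≅ i^* O(1)` exhibits `L` as very ample relative to `X ⟶ Y` (through the closed
immersion `Proj 𝒮 ⟶ P(E)`).
-/

set_option autoImplicit false
universe u
open CategoryTheory CategoryTheory.Limits AlgebraicGeometry TopologicalSpace Opposite
open scoped HomogeneousIdeal

namespace Groth.Agent.Lib.helper28.VeryAmpleGen

open Groth.Agent.Lib.helper28.SymGradedExists Groth.Agent.Lib.helper28.SymGradedProps

theorem isRelVeryAmple_of_symAlg {X Y P : Scheme.{u}} (q : X ⟶ Y) (L : X.Modules)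
    (𝒮 : RelProj.QCGrAlg Y) (h𝒮 : 𝒮.IsGenDegOne)
    (E : Y.Modules) [E.IsQuasicoherent] (A : RelSpec.QCAlg Y) (jA : E ⟶ A.toModule)
    (hA : RelSpec.IsSymAlg E A jA) (u : E ⟶ 𝒮.toModule)
    (hu1 : ∀ (U : Y.Opens) (hU : IsAffineOpen U) (x : Γ(E, U)), (u.app U) x ∈ 𝒮.deg U hU 1)
    (husurj : ∀ (U : Y.Opens) (hU : IsAffineOpen U) (s : 𝒮.presheaf.obj (op U)),
      s ∈ 𝒮.deg U hU 1 → ∃ x : Γ(E, U), (u.app U) x = s)
    (p : P ⟶ Y)
    (chart : ∀ (U : Y.Opens) (hU : IsAffineOpen U),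
      ((p ⁻¹ᵁ U : P.Opens) : Scheme.{u}) ≅ Proj (𝒮.deg U hU))
    (hP : RelProj.IsRelProj 𝒮 p chart) (O1 : P.Modules)
    (lam : ∀ (U : Y.Opens) (hU : IsAffineOpen U),
      O1 ⟶ (Scheme.Modules.pushforward (RelProj.emb p chart U hU)).obj
        (GrTwist.twist (𝒮.deg U hU) 1))
    (hO1 : RelProj.IsRelTwist 𝒮 p chart 1 O1 lam) (i : X ⟶ P) [IsImmersion i] (hi : i ≫ p = q)
    (e : L ≅ (Scheme.Modules.pullback i).obj O1) : RelProj.IsRelVeryAmple q L := by
  have hqc : Coh.IsQCoh E := inferInstance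
  have hT : RelProj.IsGrSymAlg E (grAlg E A jA hA) jA := isGrSymAlg E A jA hA
  obtain ⟨ubar, hubar, -⟩ := hA 𝒮.toQCAlg u
  have hval : ∀ (U : Y.Opens) (m : Γ(E, U)),
      (ubar.hom.app (op U)).hom ((jA.app U).hom m) = (u.app U).hom m := by
    intro U m
    exact congrArg (fun k : E ⟶ 𝒮.toModule => (k.app U).hom m) hubar
  have h1 : ∀ (U : Y.Opens) (hU : IsAffineOpen U) (m : Γ(E, U)),
      (ubar.hom.app (op U)).hom ((jA.app U).hom m) ∈ 𝒮.deg U hU 1 := by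
    intro U hU m
    rw [hval U m]
    exact hu1 U hU m
  have hsurj : ∀ (U : Y.Opens) (hU : IsAffineOpen U) (s : 𝒮.presheaf.obj (op U)),
      s ∈ 𝒮.deg U hU 1 → ∃ m : Γ(E, U), (ubar.hom.app (op U)).hom ((jA.app U).hom m) = s := by
    intro U hU s hs
    obtain ⟨m, hm⟩ := husurj U hU s hs
    exact ⟨m, (hval U m).trans hm⟩
  have hgr : RelProj.IsGradedHom (𝒜 := grAlg E A jA hA) (ℬ := 𝒮) ubar :=
    isGradedHom_of_deg_one E A jA hA 𝒮 ubar h1
  have hirr : ∀ (U : Y.Opens) (hU : IsAffineOpen U), (𝒮.deg U hU)₊ ≤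
      (((grAlg E A jA hA).deg U hU)₊).map
        (RelProj.gradedHomAt (𝒜 := grAlg E A jA hA) (ℬ := 𝒮) ubar hgr U hU) :=
    irrelevant_le_map E A jA hA 𝒮 ubar h𝒮 h1 hsurj
  have hgenT : (grAlg E A jA hA).IsGenDegOne := isGenDegOne E A jA hA
  obtain ⟨P', p', chart', hP'⟩ :=
    Groth.Agent.Lib.helper28.RelProjExists.exists_relProj (grAlg E A jA hA)
  obtain ⟨O1', lam', hO1'⟩ :=
    Groth.Agent.Lib.helper28.RelTwistExists.exists_isRelTwist (grAlg E A jA hA) p' chart' hP' 1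
  obtain ⟨⟨h, hh, -⟩, hover⟩ := Groth.Agent.S8262.result (𝒜 := grAlg E A jA hA) (ℬ := 𝒮)
    ubar hgr hirr p' p chart' chart hP' hP
  have hcl : IsClosedImmersion h :=
    Groth.Agent.S8292.result 𝒮 (grAlg E A jA hA) h𝒮 E hqc u hu1 husurj jA hT ubar hgr hubar hirr
      p' p chart' chart hP' hP h hh
  obtain ⟨e2⟩ := Groth.Agent.Lib.helper28.RelTwistPull.nonempty_pullback_iso
    (𝒜 := grAlg E A jA hA) (ℬ := 𝒮) hirr lam' lam hgenT hP' hP hO1' hO1 hh
  refine ⟨E, hqc, grAlg E A jA hA, jA, hT, P', p', chart', hP', O1', lam', hO1', i ≫ h,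
    inferInstance, ?_, ⟨?_⟩⟩
  · rw [Category.assoc, hover h hh, hi]
  · exact e ≪≫ (Scheme.Modules.pullback i).mapIso e2.symm ≪≫
      (Scheme.Modules.pullbackComp i h).app O1'

end Groth.Agent.Lib.helper28.VeryAmpleGen
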