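import Groth.Agent.Lib.Helper28.GrRestrict
import Groth.Agent.Lib.Helper28.VAmpleSec2
import Groth.Agent.Lib.Helper28.ProjBundleHom5
import Groth.Agent.S12153
import Groth.Agent.Lib.Helper21.ModOpenBC
import Groth.Agent.Lib.Helper11.InvMod
import Groth.Agent.Lib.Helper12.RelVAmple
import Groth.Agent.Lib.Helper12.AmpleSep

/-!
# Very ampleness (in the `P(E)` sense) is local on the base (helper28)

* `core`: the statement "`L` very ample ⇒ `r_{L,ψ}` everywhere defined and an immersion" for any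
  graded algebra `𝒜` receiving `q_* L` in degree one.
* `XT_restr`, `H3_restr`: the opens `X_t` and the condition `H3` for restricted gadgets.
* `isRelVeryAmple_of_local`: `q` quasi-compact, `L` invertible, `(U i)` an open cover of `Y` such
  that `L|_{q⁻¹ U i}` is very ample relative to `q ∣_ U i` for all `i`; then `L` is very ample
  relative to `q`.
-/

set_option autoImplicit false
universe u
open CategoryTheory CategoryTheory.Limits AlgebraicGeometry TopologicalSpace Opposite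

namespace Groth.Agent.Lib.helper28.VeryAmpleLocal

open Groth.Agent.Lib.helper28 Groth.Agent.Lib.helper28.GrRestrict
  Groth.Agent.Lib.helper28.ProjQGlue

section Core

variable {X Y P PL : Scheme.{u}} (q : X ⟶ Y)
  (L : X.Modules) [L.IsQuasicoherent] (hL : PicF.IsInvertible L)
  (𝒮L : RelProj.QCGrAlg X) (jL : L ⟶ 𝒮L.toModule) (hjL : RelProj.IsGrSymAlg L 𝒮L jL)
  (pL : PL ⟶ X) (chartL : ∀ (U : X.Opens) (hU : IsAffineOpen U),
    (((pL ⁻¹ᵁ U : PL.Opens) : Scheme.{u}) ≅ Proj (𝒮L.deg U hU)))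
  (hPL : RelProj.IsRelProj 𝒮L pL chartL)
  (𝒜 : RelProj.QCGrAlg Y) (jE : (Scheme.Modules.pushforward q).obj L ⟶ 𝒜.toModule)
  (hjE : ∀ (U : Y.Opens) (hU : IsAffineOpen U)
    (x : Γ((Scheme.Modules.pushforward q).obj L, U)), (jE.app U) x ∈ 𝒜.deg U hU 1)
  (u : RelProj.QGrHom q 𝒜 𝒮L)
  (hu : ∀ (U : Y.Opens) (x : Γ((Scheme.Modules.pushforward q).obj L, U)),
    (u.app U).hom ((jE.app U) x) = (jL.app (q ⁻¹ᵁ U)) x)
  (p : P ⟶ Y) (chart : ∀ (U : Y.Opens) (hU : IsAffineOpen U),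
    (((p ⁻¹ᵁ U : P.Opens) : Scheme.{u}) ≅ Proj (𝒜.deg U hU)))
  (hP : RelProj.IsRelProj 𝒜 p chart)
  (r : ((RelProj.domQ u pL chartL : PL.Opens) : Scheme.{u}) ⟶ P)
  (hr : RelProj.IsProjQMapOn u p chart pL chartL (RelProj.domQ u pL chartL) r)

include hL hjL hPL hjE hu hP hr in
theorem core (h : RelProj.IsRelVeryAmple q L) :
    RelProj.domQ u pL chartL = ⊤ ∧ IsImmersion r := by
  obtain ⟨E, hE, 𝒮, j, hj, P', p', chart', hP', O1, lam, hO1, i, himm, hip, ⟨τ⟩⟩ := h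
  subst hip
  have : E.IsQuasicoherent := hE
  obtain ⟨v, hv, hdef, hreq⟩ := Groth.Agent.Lib.helper28.ProjBundleHom.exists_factor E 𝒮 j hj p'
    chart' hP' O1 lam hO1 i L τ.inv 𝒮L jL hjL pL chartL hPL 𝒜 jE hjE u hu
  obtain ⟨r', hr', -⟩ := Groth.Agent.Lib.helper28.ProjQGlue.existsUnique_glue
    (Groth.Agent.Lib.helper28.ProjBundleHom.precomp v hv u) hP' hPL
  have hr'' : RelProj.IsProjQMapOn (Groth.Agent.Lib.helper28.ProjBundleHom.precomp v hv u) p'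
      chart' pL chartL (RelProj.domQ (Groth.Agent.Lib.helper28.ProjBundleHom.precomp v hv u)
        pL chartL) r' :=
    (Groth.Agent.Lib.helper28.ProjQComp.isProjQMapOn_iff _ r').mpr hr'
  have hpL : IsIso pL :=
    Groth.Agent.Lib.helper28.SymLineProj.isIso_of_isInvertible L 𝒮L jL hjL pL chartL hPL hL
  have himm' : IsImmersion r' := by
    rw [hreq r' hr'']
    infer_instance
  exact Groth.Agent.S12153.result (i ≫ p') L hL inferInstance 𝒜 𝒮L jL hjL u p chart hP pL chartL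
    hPL r hr 𝒮 v hv (Groth.Agent.Lib.helper28.ProjBundleHom.precomp v hv u) (fun _ => rfl) p'
    chart' hP' r' hr'' hdef himm'

end Core

section Transport

variable {X Y : Scheme.{u}} {q : X ⟶ Y} {𝒮 : RelProj.QCGrAlg Y} {𝒮L : RelProj.QCGrAlg X}
  (u : RelProj.QGrHom q 𝒮 𝒮L) (W : Y.Opens)

/-- The defining condition of `XT` over an affine open `V`, transported along an equality. -/
theorem cond_congr (U : Y.Opens) (n : ℕ) (s : 𝒮.presheaf.obj (op U)) {V₁ V₂ : X.Opens}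
    (h : V₁ = V₂) (hV₁ : IsAffineOpen V₁) (hV₂ : IsAffineOpen V₂) (hle₁ : V₁ ≤ q ⁻¹ᵁ U)
    (hle₂ : V₂ ≤ q ⁻¹ᵁ U)
    (hc : ((𝒮L.deg V₁ hV₁ n : AddSubgroup (𝒮L.presheaf.obj (op V₁))) :
        Set (𝒮L.presheaf.obj (op V₁))) ⊆
      (Ideal.span {(u.appLE U V₁ hle₁).hom s} : Set (𝒮L.presheaf.obj (op V₁)))) :
    ((𝒮L.deg V₂ hV₂ n : AddSubgroup (𝒮L.presheaf.obj (op V₂))) :
        Set (𝒮L.presheaf.obj (op V₂))) ⊆
      (Ideal.span {(u.appLE U V₂ hle₂).hom s} : Set (𝒮L.presheaf.obj (op V₂))) := by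
  subst h
  exact hc

theorem XT_restr (U' : (↑W : Scheme.{u}).Opens) (n : ℕ)
    (s : 𝒮.presheaf.obj (op (W.ι ''ᵁ U'))) :
    (q ⁻¹ᵁ W).ι ''ᵁ (RLpsiU.XT (grRestr 𝒮L (q ⁻¹ᵁ W)) (qRestr u W) U' n
        (show (grRestr 𝒮 W).presheaf.obj (op U') from s)) =
      RLpsiU.XT 𝒮L u (W.ι ''ᵁ U') n s := by
  apply le_antisymm
  · rintro _ ⟨x, hx, rfl⟩
    obtain ⟨⟨⟨V', hV'⟩, hle', hc'⟩, hxV'⟩ := Opens.mem_iSup.mp hx
    refine Opens.mem_iSup.mpr ⟨⟨⟨(q ⁻¹ᵁ W).ι ''ᵁ V', hV'.image_of_isOpenImmersion _⟩,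
      ((q ⁻¹ᵁ W).ι.image_mono hle').trans (image_preimage_le W q U'), ?_⟩, ⟨x, hxV', rfl⟩⟩
    have e := qRestr_appLE u W U' V' hle'
    rw [e] at hc'
    exact hc'
  · refine iSup_le ?_
    rintro ⟨⟨V, hV⟩, hle, hc⟩
    have hVW : V ≤ (q ⁻¹ᵁ W).ι.opensRange := by
      rw [Scheme.Opens.opensRange_ι]
      exact hle.trans (q.preimage_mono (W.ι_image_le U'))
    have heq : (q ⁻¹ᵁ W).ι ''ᵁ ((q ⁻¹ᵁ W).ι ⁻¹ᵁ V) = V := by
      rw [Scheme.Hom.image_preimage_eq_opensRange_inf]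
      exact inf_eq_right.mpr hVW
    have hV' : IsAffineOpen ((q ⁻¹ᵁ W).ι ⁻¹ᵁ V) := hV.preimage_of_isOpenImmersion _ hVW
    have hle' : (q ⁻¹ᵁ W).ι ⁻¹ᵁ V ≤ (q ∣_ W) ⁻¹ᵁ U' := by
      intro x hx
      have h1 : (q ⁻¹ᵁ W).ι x ∈ q ⁻¹ᵁ (W.ι ''ᵁ U') := hle hx
      obtain ⟨y, hy, hy'⟩ := h1
      change (q ∣_ W) x ∈ U'
      have h2 : W.ι ((q ∣_ W) x) = q ((q ⁻¹ᵁ W).ι x) := by
        rw [← Scheme.Hom.comp_apply, ← Scheme.Hom.comp_apply, morphismRestrict_ι]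
      have h3 : y = (q ∣_ W) x := W.ι.isOpenEmbedding.injective (hy'.trans h2.symm)
      exact h3 ▸ hy
    change (V : X.Opens) ≤ _
    rw [← heq]
    refine (q ⁻¹ᵁ W).ι.image_mono ?_
    refine le_iSup_of_le ⟨⟨(q ⁻¹ᵁ W).ι ⁻¹ᵁ V, hV'⟩, hle', ?_⟩ le_rfl
    rw [qRestr_appLE u W U' _ hle']
    exact cond_congr u (W.ι ''ᵁ U') n s heq.symm hV (hV'.image_of_isOpenImmersion _) hle _ hc

theorem H3_restr (U' : (↑W : Scheme.{u}).Opens) (hU' : IsAffineOpen U') (n : ℕ)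
    (s : 𝒮.presheaf.obj (op (W.ι ''ᵁ U'))) (O : (↑(q ⁻¹ᵁ W) : Scheme.{u}).Opens)
    (hle : O ≤ (q ∣_ W) ⁻¹ᵁ U') (t : Γ(X, (q ⁻¹ᵁ W).ι ''ᵁ O))
    (h : RLpsiU.H3 (qRestr u W) U' hU' n (show (grRestr 𝒮 W).presheaf.obj (op U') from s) O hle
      (show Γ((↑(q ⁻¹ᵁ W) : Scheme.{u}), O) from t)) :
    RLpsiU.H3 u (W.ι ''ᵁ U') (hU'.image_of_isOpenImmersion W.ι) n s ((q ⁻¹ᵁ W).ι ''ᵁ O)
      (((q ⁻¹ᵁ W).ι.image_mono hle).trans (image_preimage_le W q U')) t := by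
  obtain ⟨m, hm, s', hs', e⟩ := h
  rw [qRestr_appLE u W U' O hle] at e
  exact ⟨m, hm, s', hs', e⟩

end Transport

section Local

open Groth.Agent.Lib.helper28.VAmpleSec

variable {X Y PL : Scheme.{u}} (q : X ⟶ Y) [QuasiCompact q]
  (L : X.Modules) [L.IsQuasicoherent] (hL : PicF.IsInvertible L)
  (𝒮L : RelProj.QCGrAlg X) (jL : L ⟶ 𝒮L.toModule) (hjL : RelProj.IsGrSymAlg L 𝒮L jL)
  (𝒯 : RelProj.QCGrAlg Y) (jF : (Scheme.Modules.pushforward q).obj L ⟶ 𝒯.toModule)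
  (hjF : ∀ (U : Y.Opens) (hU : IsAffineOpen U)
    (x : Γ((Scheme.Modules.pushforward q).obj L, U)), (jF.app U) x ∈ 𝒯.deg U hU 1)
  (u : RelProj.QGrHom q 𝒯 𝒮L)
  (hu : ∀ (U : Y.Opens) (x : Γ((Scheme.Modules.pushforward q).obj L, U)),
    (u.app U).hom ((jF.app U) x) = (jL.app (q ⁻¹ᵁ U)) x)
  (W : Y.Opens)

omit [QuasiCompact q] in
include hL hjL hjF hu in
/-- Local data for the immersion criterion, from very ampleness over the open `W`. -/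
theorem local_data
    (h : RelProj.IsRelVeryAmple (q ∣_ W) (L.restrict (q ⁻¹ᵁ W).ι)) (x : X) (hx : q x ∈ W) :
    ∃ (U : Y.Opens) (hU : IsAffineOpen U) (n : ℕ) (_ : 0 < n) (s : 𝒯.presheaf.obj (op U))
      (_ : s ∈ 𝒯.deg U hU n), x ∈ RLpsiU.XT 𝒮L u U n s ∧
      IsAffineOpen (RLpsiU.XT 𝒮L u U n s) ∧
      ∀ t : Γ(X, RLpsiU.XT 𝒮L u U n s),
        RLpsiU.H3 u U hU n s (RLpsiU.XT 𝒮L u U n s) (RLpsiU.XT_le 𝒮L u U n s) t := by
  have hLW : PicF.IsInvertible (L.restrict (q ⁻¹ᵁ W).ι) :=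
    Groth.Agent.Lib.helper11.InvMod.isInvertible_restrict _ hL
  have hjLW := isGrSymAlg_restr 𝒮L (q ⁻¹ᵁ W) L jL hjL
  -- the restricted structure map
  let jEW : (Scheme.Modules.pushforward (q ∣_ W)).obj (L.restrict (q ⁻¹ᵁ W).ι) ⟶
      (grRestr 𝒯 W).toModule :=
    (Groth.Agent.Lib.helper21.ModOpenBC.bcIsoApp q W L).inv ≫
      QCAlgRestrict.restrHom 𝒯.toQCAlg W jF
  have hkey : ∀ (U' : (↑W : Scheme.{u}).Opens)
      (y : Γ((Scheme.Modules.pushforward (q ∣_ W)).obj (L.restrict (q ⁻¹ᵁ W).ι), U')),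
      ∃ z : Γ((Scheme.Modules.pushforward q).obj L, W.ι ''ᵁ U'),
        (L.presheaf.map (homOfLE (image_preimage_le W q U')).op).hom
          (show Γ(L, q ⁻¹ᵁ (W.ι ''ᵁ U')) from z) = y ∧
        (jEW.app U') y = (jF.app (W.ι ''ᵁ U')) z := by
    intro U' y
    refine ⟨((Groth.Agent.Lib.helper21.ModOpenBC.bcIsoApp q W L).inv.app U').hom y, ?_, rfl⟩
    have h1 : ((Groth.Agent.Lib.helper21.ModOpenBC.bcIsoApp q W L).hom.app U').hom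
        (((Groth.Agent.Lib.helper21.ModOpenBC.bcIsoApp q W L).inv.app U').hom y) = y := by
      rw [← ConcreteCategory.comp_apply, ← Scheme.Modules.Hom.comp_app, Iso.inv_hom_id]
      rfl
    exact h1
  have hjEW : ∀ (U' : (↑W : Scheme.{u}).Opens) (hU' : IsAffineOpen U')
      (y : Γ((Scheme.Modules.pushforward (q ∣_ W)).obj (L.restrict (q ⁻¹ᵁ W).ι), U')),
      (jEW.app U') y ∈ (grRestr 𝒯 W).deg U' hU' 1 := by
    intro U' hU' y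
    obtain ⟨z, -, hz⟩ := hkey U' y
    rw [hz]
    exact hjF _ _ z
  have huW : ∀ (U' : (↑W : Scheme.{u}).Opens)
      (y : Γ((Scheme.Modules.pushforward (q ∣_ W)).obj (L.restrict (q ⁻¹ᵁ W).ι), U')),
      ((qRestr u W).app U').hom ((jEW.app U') y) =
        ((QCAlgRestrict.restrHom 𝒮L.toQCAlg (q ⁻¹ᵁ W) jL).app ((q ∣_ W) ⁻¹ᵁ U')) y := by
    intro U' y
    obtain ⟨z, hzy, hz⟩ := hkey U' y
    rw [hz]
    change (𝒮L.presheaf.map (homOfLE (image_preimage_le W q U')).op).hom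
      ((u.app (W.ι ''ᵁ U')).hom ((jF.app (W.ι ''ᵁ U')) z)) = _
    rw [hu]
    have hn := jL.mapPresheaf.naturality (homOfLE (image_preimage_le W q U')).op
    have hn' := congr($hn (show Γ(L, q ⁻¹ᵁ (W.ι ''ᵁ U')) from z))
    refine hn'.symm.trans ?_
    change (jL.app ((q ⁻¹ᵁ W).ι ''ᵁ ((q ∣_ W) ⁻¹ᵁ U'))).hom
      ((L.presheaf.map (homOfLE (image_preimage_le W q U')).op).hom
        (show Γ(L, q ⁻¹ᵁ (W.ι ''ᵁ U')) from z)) = _
    rw [hzy]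
    rfl
  obtain ⟨PLW, pLW, chartLW, hPLW⟩ := RelProjExists.exists_relProj (grRestr 𝒮L (q ⁻¹ᵁ W))
  obtain ⟨PW, pW, chartW, hPW⟩ := RelProjExists.exists_relProj (grRestr 𝒯 W)
  obtain ⟨rW, hrW₀, -⟩ := existsUnique_glue (qRestr u W) (p := pW) (chart := chartW)
    (p' := pLW) (chart' := chartLW) hPW hPLW
  have hrW : RelProj.IsProjQMapOn (qRestr u W) pW chartW pLW chartLW
      (RelProj.domQ (qRestr u W) pLW chartLW) rW :=
    (ProjQComp.isProjQMapOn_iff (qRestr u W) rW).mpr hrW₀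
  obtain ⟨hdomW, himmW⟩ := core (q ∣_ W) (L.restrict (q ⁻¹ᵁ W).ι) hLW (grRestr 𝒮L (q ⁻¹ᵁ W))
    (QCAlgRestrict.restrHom 𝒮L.toQCAlg (q ⁻¹ᵁ W) jL) hjLW pLW chartLW hPLW (grRestr 𝒯 W) jEW
    hjEW (qRestr u W) huW pW chartW hPW rW hrW h
  have hpLW := SymLineProj.isIso_of_isInvertible (L.restrict (q ⁻¹ᵁ W).ι)
    (grRestr 𝒮L (q ⁻¹ᵁ W)) (QCAlgRestrict.restrHom 𝒮L.toQCAlg (q ⁻¹ᵁ W) jL) hjLW pLW chartLW
    hPLW hLW
  let xW : (↑(q ⁻¹ᵁ W) : Scheme.{u}) := ⟨x, hx⟩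
  have hz : (inv pLW) xW ∈ RelProj.domQ (qRestr u W) pLW chartLW := by
    rw [hdomW]
    trivial
  let x' : ((RelProj.domQ (qRestr u W) pLW chartLW : PLW.Opens) : Scheme.{u}) :=
    ⟨(inv pLW) xW, hz⟩
  have hx' : pLW ((RelProj.domQ (qRestr u W) pLW chartLW).ι x') = xW := by
    change pLW ((inv pLW) xW) = xW
    rw [← Scheme.Hom.comp_apply, IsIso.inv_hom_id]
    rfl
  obtain ⟨U', hU', n, hn, s, hs, hxs, hXTW, hsurj⟩ := RLpsiU.exists_of_isImmersion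
    (L.restrict (q ⁻¹ᵁ W).ι) (grRestr 𝒮L (q ⁻¹ᵁ W))
    (QCAlgRestrict.restrHom 𝒮L.toQCAlg (q ⁻¹ᵁ W) jL) hjLW (qRestr u W) hLW hPW hPLW rW hrW₀ x'
  rw [hx'] at hxs
  have hH3W := (RLpsiU.surjective_awayMap_iff (L.restrict (q ⁻¹ᵁ W).ι) (grRestr 𝒮L (q ⁻¹ᵁ W))
    (QCAlgRestrict.restrHom 𝒮L.toQCAlg (q ⁻¹ᵁ W) jL) hjLW (qRestr u W) hLW hPW hPLW rW hrW₀ U'
    hU' hn s hs hXTW).mp hsurj
  have hXTeq := XT_restr u W U' n (show 𝒯.presheaf.obj (op (W.ι ''ᵁ U')) from s)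
  refine ⟨W.ι ''ᵁ U', hU'.image_of_isOpenImmersion W.ι, n, hn, s, hs, ?_, ?_, ?_⟩
  · rw [← hXTeq]
    exact ⟨xW, hxs, rfl⟩
  · rw [← hXTeq]
    exact hXTW.image_of_isOpenImmersion _
  · refine RLpsiU.H3.congr_open
      (hle := ((q ⁻¹ᵁ W).ι.image_mono (RLpsiU.XT_le (grRestr 𝒮L (q ⁻¹ᵁ W)) (qRestr u W) U' n
        s)).trans (image_preimage_le W q U')) hXTeq _ (fun t => ?_)
    exact H3_restr u W U' hU' n s _ (RLpsiU.XT_le _ _ U' n s) t (hH3W t)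

end Local

section Main

open Groth.Agent.Lib.helper28.VAmpleSec

variable {X Y : Scheme.{u}} (q : X ⟶ Y) [QuasiCompact q]
  (L : X.Modules) (hL : PicF.IsInvertible L)

include hL in
/-- **Very ampleness is local on the base.** -/
theorem isRelVeryAmple_of_local {ι : Type*} (U : ι → Y.Opens) (hU : ⨆ i, U i = ⊤)
    (h : ∀ i, RelProj.IsRelVeryAmple (q ∣_ (U i)) (L.restrict (q ⁻¹ᵁ (U i)).ι)) :
    RelProj.IsRelVeryAmple q L := by
  have hLq : L.IsQuasicoherent :=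
    Groth.Agent.Lib.helper12.AmpleBasis.isQuasicoherent_of_isInvertible hL
  have hsep : IsSeparated q := by
    rw [IsZariskiLocalAtTarget.iff_of_iSup_eq_top (P := @IsSeparated) U hU]
    intro i
    exact Groth.Agent.Lib.helper12.AmpleSep.isSeparated_of_isRelAmple _
      (Groth.Agent.Lib.helper12.RelVAmple.isRelAmple_of_isRelVeryAmple _ _ (h i))
  have hFq : ((Scheme.Modules.pushforward q).obj L).IsQuasicoherent :=
    Groth.Agent.Lib.helper7.QCohPushQC.isQuasicoherent_pushforward q L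
  obtain ⟨𝒮L, jL, hjL⟩ := SymGradedExists.exists_isGrSymAlg L
  obtain ⟨PL, pL, chartL, hPL⟩ := RelProjExists.exists_relProj 𝒮L
  obtain ⟨𝒯, jF, h𝒯⟩ := SymGradedExists.exists_isGrSymAlg ((Scheme.Modules.pushforward q).obj L)
  let u : RelProj.QGrHom q 𝒯 𝒮L :=
    SymPairLift.qGrHom q ((Scheme.Modules.pushforward q).obj L) 𝒯 jF h𝒯 L (𝟙 _) 𝒮L jL hjL.2
  have hu : ∀ (V : Y.Opens) (x : Γ((Scheme.Modules.pushforward q).obj L, V)),
      (u.app V).hom ((jF.app V) x) = (jL.app (q ⁻¹ᵁ V)) x := fun V x =>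
    SymPairLift.qGrHom_j_all q ((Scheme.Modules.pushforward q).obj L) 𝒯 jF h𝒯 L (𝟙 _) 𝒮L jL
      hjL.2 V x
  have hloc : ∀ x : X, ∃ (V : Y.Opens) (hV : IsAffineOpen V) (n : ℕ) (_ : 0 < n)
      (s : 𝒯.presheaf.obj (op V)) (_ : s ∈ 𝒯.deg V hV n), x ∈ RLpsiU.XT 𝒮L u V n s ∧
      IsAffineOpen (RLpsiU.XT 𝒮L u V n s) ∧
      ∀ t : Γ(X, RLpsiU.XT 𝒮L u V n s),
        RLpsiU.H3 u V hV n s (RLpsiU.XT 𝒮L u V n s) (RLpsiU.XT_le 𝒮L u V n s) t := by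
    intro x
    have hx : q x ∈ ⨆ i, U i := by
      rw [hU]
      trivial
    obtain ⟨i, hi⟩ := Opens.mem_iSup.mp hx
    exact local_data q L hL 𝒮L jL hjL 𝒯 jF h𝒯.2 u hu (U i) (h i) x hi
  have hdom : RelProj.domQ u pL chartL = ⊤ := by
    refine top_le_iff.mp fun z _ => ?_
    obtain ⟨V, hV, n, hn, s, hs, hxs, -, -⟩ := hloc (pL z)
    exact SymLineAmpleImm.mem_domQ_of_mem_XT u hjL V hV hn s hs z hxs
  refine isRelVeryAmple_of_domQ_eq_top q L hL 𝒮L jL hjL pL chartL hPL _ 𝒯 jF h𝒯 u hdom ?_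
  intro P p chart hP r hr
  have hr₀ := (ProjQComp.isProjQMapOn_iff u r).mp hr
  refine RLpsiU.isImmersion_of_local L 𝒮L jL hjL u hL hP hPL r hr₀ fun x' => ?_
  obtain ⟨V, hV, n, hn, s, hs, hxs, hXT, hH3⟩ := hloc (pL ((RelProj.domQ u pL chartL).ι x'))
  refine ⟨V, hV, n, hn, s, hs, hxs, hXT, ?_⟩
  rw [RLpsiU.surjective_awayMap_iff L 𝒮L jL hjL u hL hP hPL r hr₀ V hV hn s hs hXT]
  exact hH3

end Main

end Groth.Agent.Lib.helper28.VeryAmpleLocal
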