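import Groth.Prelude.Def_FlatCA
import Mathlib.Algebra.Module.LocalizedModule.Basic
import Mathlib.RingTheory.Ideal.Maps

/-! Helper lemmas on annihilators of elements of localized modules (helper28). -/

set_option autoImplicit false
universe u

namespace Groth.Agent.Lib.helper28

/-- `r` kills `m/s` in `S⁻¹M` iff some `u ∈ S` kills `r • m`. -/
theorem mem_ann_mk_iff {R : Type u} [CommRing R] (S : Submonoid R) {M : Type u} [AddCommGroup M]
    [Module R M] (m : M) (s : S) (r : R) :
    r ∈ (Submodule.span R {LocalizedModule.mk m s}).annihilator ↔ ∃ u : S, (u : R) • r • m = 0 := by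
  rw [Submodule.mem_annihilator_span_singleton, LocalizedModule.smul'_mk,
    ← LocalizedModule.zero_mk (1 : S), LocalizedModule.mk_eq]
  constructor
  · rintro ⟨u, hu⟩
    refine ⟨u, ?_⟩
    rw [one_smul, smul_zero, smul_zero, Submonoid.smul_def] at hu
    exact hu
  · rintro ⟨u, hu⟩
    refine ⟨u, ?_⟩
    rw [one_smul, smul_zero, smul_zero, Submonoid.smul_def]
    exact hu

/-- If every element of `S` is a nonzerodivisor on `M`, the annihilator in `R` of `m/s` equals the
annihilator of `m`. -/
theorem ann_mk_of_regular {R : Type u} [CommRing R] (S : Submonoid R) {M : Type u} [AddCommGroup M]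
    [Module R M] (hS : ∀ s ∈ S, IsSMulRegular M s) (m : M) (s : S) :
    (Submodule.span R {LocalizedModule.mk m s}).annihilator = (Submodule.span R {m}).annihilator := by
  ext r
  rw [mem_ann_mk_iff, Submodule.mem_annihilator_span_singleton]
  constructor
  · rintro ⟨u, hu⟩
    apply hS u u.2
    simp only [smul_zero]
    exact hu
  · intro h
    exact ⟨1, by rw [h, smul_zero]⟩

end Groth.Agent.Lib.helper28

namespace Groth.Agent.Lib.helper28

/-- The annihilator in `R` of an element of `S⁻¹M` is the contraction of its annihilator in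
`S⁻¹R`. -/
theorem ann_eq_comap_ann {R : Type u} [CommRing R] (S : Submonoid R) {M : Type u} [AddCommGroup M]
    [Module R M] (z : LocalizedModule S M) :
    (Submodule.span R {z}).annihilator =
      ((Submodule.span (Localization S) {z}).annihilator).comap (algebraMap R (Localization S)) := by
  ext r
  rw [Ideal.mem_comap, Submodule.mem_annihilator_span_singleton,
    Submodule.mem_annihilator_span_singleton, algebraMap_smul]

/-- Elements of `S` act injectively on `S⁻¹M`. -/
theorem smul_eq_zero_of_mem {R : Type u} [CommRing R] (S : Submonoid R) {M : Type u} [AddCommGroup M]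
    [Module R M] (s : R) (hs : s ∈ S) (z : LocalizedModule S M) (h : s • z = 0) : z = 0 := by
  induction z using LocalizedModule.induction_on with
  | h m t =>
    rw [LocalizedModule.smul'_mk, ← LocalizedModule.zero_mk (1 : S), LocalizedModule.mk_eq] at h
    obtain ⟨u, hu⟩ := h
    rw [one_smul, smul_zero, smul_zero, Submonoid.smul_def] at hu
    rw [← LocalizedModule.zero_mk (1 : S), LocalizedModule.mk_eq]
    refine ⟨u * ⟨s, hs⟩, ?_⟩
    rw [one_smul, smul_zero, smul_zero, Submonoid.smul_def, Submonoid.coe_mul, mul_smul]
    exact hu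

/-- If the annihilator in `R` of `z ∈ S⁻¹M` is a proper ideal, it is disjoint from `S`. -/
theorem disjoint_ann_of_ne_top {R : Type u} [CommRing R] (S : Submonoid R) {M : Type u}
    [AddCommGroup M] [Module R M] (z : LocalizedModule S M)
    (h : (Submodule.span R {z}).annihilator ≠ ⊤) :
    Disjoint (S : Set R) ((Submodule.span R {z}).annihilator : Set R) := by
  rw [Set.disjoint_left]
  intro s hs hsz
  apply h
  rw [eq_top_iff]
  intro r _
  have hs' : s • z = 0 := (Submodule.mem_annihilator_span_singleton z s).mp hsz
  have hz : z = 0 := smul_eq_zero_of_mem S s hs z hs'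
  rw [Submodule.mem_annihilator_span_singleton, hz, smul_zero]

end Groth.Agent.Lib.helper28

namespace Groth.Agent.Lib.helper28

/-- For a prime `p` disjoint from `S`: `p` is minimal over the annihilator (in `R`) of `m/s` iff it
is minimal over the annihilator of `m`. -/
theorem mem_minimalPrimes_ann_mk_iff {R : Type u} [CommRing R] (S : Submonoid R) {M : Type u}
    [AddCommGroup M] [Module R M] (p : Ideal R) (hS : Disjoint (S : Set R) (p : Set R))
    (m : M) (s : S) :
    p ∈ (Submodule.span R {LocalizedModule.mk m s}).annihilator.minimalPrimes ↔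
      p ∈ (Submodule.span R {m}).annihilator.minimalPrimes := by
  have hle : (Submodule.span R {m}).annihilator ≤
      (Submodule.span R {LocalizedModule.mk m s}).annihilator := by
    intro r hr
    rw [Submodule.mem_annihilator_span_singleton] at hr
    rw [mem_ann_mk_iff]
    exact ⟨1, by rw [hr, smul_zero]⟩
  have hge : ∀ q : Ideal R, q.IsPrime → q ≤ p → (Submodule.span R {m}).annihilator ≤ q →
      (Submodule.span R {LocalizedModule.mk m s}).annihilator ≤ q := by
    intro q hq hqp hmq r hr
    rw [mem_ann_mk_iff] at hr
    obtain ⟨u, hu⟩ := hr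
    have hmem : (u : R) * r ∈ q := by
      apply hmq
      rw [Submodule.mem_annihilator_span_singleton, mul_smul]
      exact hu
    exact (hq.mem_or_mem hmem).resolve_left
      (fun h => Set.disjoint_left.mp hS u.2 (hqp h))
  constructor
  · intro hp
    refine ⟨⟨hp.isPrime, hle.trans hp.le⟩, ?_⟩
    rintro q ⟨hq, hmq⟩ hqp
    exact hp.2 ⟨hq, hge q hq hqp hmq⟩ hqp
  · intro hp
    refine ⟨⟨hp.isPrime, hge p hp.isPrime le_rfl hp.le⟩, ?_⟩
    rintro q ⟨hq, hmq⟩ hqp
    exact hp.2 ⟨hq, hle.trans hmq⟩ hqp

end Groth.Agent.Lib.helper28
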